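import Cfsg.Agent.Helper17.Fi23TC.Fin5

set_option autoImplicit false
set_option linter.all false
set_option maxRecDepth 100000

noncomputable section

namespace Cfsg.Agent.Helper17.Fi23TC

theorem Q18331 : ∀ i, i < 18331 → P i := stepQ 18330 Q18330 (allL N18330 (tt N16298 F228742) (tt N20184 (iv F237046)) (tt N18036 F228743) (tt N16251 F228744) (tt N17996 F228745) (tt N20208 (iv F237202)) (tt N18330 F228746) (tt N16254 F228747) (tt N20214 D52984) (tt N16250 (iv D51100)))
theorem Q18332 : ∀ i, i < 18332 → P i := stepQ 18331 Q18331 (allL N18331 (tt N16301 F228748) (tt N16991 F228749) (tt N16254 F228750) (tt N18331 F228751) (tt N16989 F228752) (tt N20210 (iv F237215)) (tt N16255 F228753) (tt N18036 F228754) (tt N20215 D52985) (tt N16252 (iv D51101)))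
theorem Q18333 : ∀ i, i < 18333 → P i := stepQ 18332 Q18332 (allL N18332 (tt N16302 F228755) (tt N16951 F228756) (tt N16978 F228757) (tt N18332 F228758) (tt N20211 (iv F237221)) (tt N16253 (iv D51102)) (tt N17767 F228759) (tt N17698 F228760) (tt N16266 F228761) (tt N20216 D52986))
theorem Q18334 : ∀ i, i < 18334 → P i := stepQ 18333 Q18333 (allL N18333 (tt N16303 F228762) (tt N16956 F228763) (tt N16989 F228764) (tt N18333 F228765) (tt N16254 F228766) (tt N20216 (iv F237251)) (tt N16256 F228767) (tt N17996 F228768) (tt N20217 D52987) (tt N16253 (iv D51103)))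
theorem Q18335 : ∀ i, i < 18335 → P i := stepQ 18334 Q18334 (allL N18334 (tt N16304 F228769) (tt N20185 (iv F237053)) (tt N20215 (iv F237242)) (tt N17871 F228770) (tt N20217 (iv F237257)) (tt N20213 (iv F237230)) (tt N16257 F228771) (tt N20214 (iv F237238)) (tt N16254 (iv D51104)) (tt N16268 F228772))
theorem Q18336 : ∀ i, i < 18336 → P i := stepQ 18335 Q18335 (allL N18335 (tt N16307 F228773) (tt N16996 F228774) (tt N16257 F228775) (tt N20218 D52988) (tt N16995 F228776) (tt N17347 F228777) (tt N20215 (iv F237244)) (tt N18335 F228778) (tt N16255 (iv D51105)) (tt N16269 F228779))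
theorem Q18337 : ∀ i, i < 18337 → P i := stepQ 18336 Q18336 (allL N18336 (tt N16310 F228780) (tt N16958 F228781) (tt N16995 F228782) (tt N20219 D52989) (tt N16257 F228783) (tt N17773 F228784) (tt N20217 (iv F237258)) (tt N18336 F228785) (tt N16256 (iv D51106)) (tt N16272 F228786))
theorem Q18338 : ∀ i, i < 18338 → P i := stepQ 18337 Q18337 (allL N18337 (tt N16311 F228787) (tt N20186 (iv F237060)) (tt N18033 F228788) (tt N16258 (iv D51107)) (tt N20220 D52990) (tt N18337 F228789) (tt N16259 F228790) (tt N17348 F228791) (tt N20106 (iv F236578)) (tt N20221 D52991))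
theorem Q18339 : ∀ i, i < 18339 → P i := stepQ 18338 Q18338 (allL N18338 (tt N16312 F228792) (tt N20187 (iv F237066)) (tt N16282 F228793) (tt N20221 (iv F237284)) (tt N17989 F228794) (tt N18338 F228795) (tt N16260 F228796) (tt N17349 F228797) (tt N17938 F228798) (tt N16258 (iv D51108)))
theorem Q18340 : ∀ i, i < 18340 → P i := stepQ 18339 Q18339 (allL N18339 (tt N16314 F228799) (tt N20189 (iv F237080)) (tt N17892 F228800) (tt N17659 F228801) (tt N16259 (iv D51109)) (tt N17658 F228802) (tt N20220 (iv F237280)) (tt N16262 F228803) (tt N20207 (iv F237198)) (tt N20222 D52992))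
theorem Q18341 : ∀ i, i < 18341 → P i := stepQ 18340 Q18340 (allL N18340 (tt N16315 F228804) (tt N20190 (iv F237085)) (tt N18035 F228805) (tt N16260 F228806) (tt N20222 (iv F237291)) (tt N16264 F228807) (tt N20221 (iv F237286)) (tt N16263 F228808) (tt N20223 D52993) (tt N16259 (iv D51110)))
theorem Q18342 : ∀ i, i < 18342 → P i := stepQ 18341 Q18341 (allL N18341 (tt N16317 F228809) (tt N17973 F228810) (tt N16262 F228811) (tt N17880 F228812) (tt N16261 (iv D51111)) (tt N17879 F228813) (tt N17354 F228814) (tt N17892 F228815) (tt N20209 (iv F237210)) (tt N20224 D52994))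
theorem Q18343 : ∀ i, i < 18343 → P i := stepQ 18342 Q18342 (allL N18342 (tt N16318 F228816) (tt N17945 F228817) (tt N16263 F228818) (tt N16283 F228819) (tt N20224 (iv F237303)) (tt N16265 F228820) (tt N17355 F228821) (tt N18035 F228822) (tt N20225 D52995) (tt N16261 (iv D51112)))
theorem Q18344 : ∀ i, i < 18344 → P i := stepQ 18343 Q18343 (allL N18343 (tt N16319 F228823) (tt N20193 (iv F237102)) (tt N17879 F228824) (tt N17651 F228825) (tt N16266 F228826) (tt N16262 (iv D51113)) (tt N20226 D52996) (tt N17658 F228827) (tt N20211 (iv F237224)) (tt N20227 D52997))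
theorem Q18345 : ∀ i, i < 18345 → P i := stepQ 18344 Q18344 (allL N18344 (tt N16320 F228828) (tt N20194 (iv F237110)) (tt N20224 (iv F237301)) (tt N20066 (iv F236316)) (tt N16263 F228829) (tt N20227 (iv F237324)) (tt N17357 F228830) (tt N20222 (iv F237293)) (tt N20228 D52998) (tt N16262 (iv D51114)))
theorem Q18346 : ∀ i, i < 18346 → P i := stepQ 18345 Q18345 (allL N18345 (tt N16321 F228831) (tt N20195 (iv F237114)) (tt N20225 (iv F237309)) (tt N17927 F228832) (tt N20228 (iv F237327)) (tt N16268 F228833) (tt N17358 F228834) (tt N20223 (iv F237298)) (tt N16263 (iv D51115)) (tt N20213 (iv F237232)))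
theorem Q18347 : ∀ i, i < 18347 → P i := stepQ 18346 Q18346 (allL N18346 (tt N16326 F228835) (tt N20197 (iv F237126)) (tt N18037 F228836) (tt N17937 F228837) (tt N17997 F228838) (tt N20223 (iv F237297)) (tt N18346 F228839) (tt N16268 F228840) (tt N16264 (iv D51116)) (tt N20214 (iv F237239)))
theorem Q18348 : ∀ i, i < 18348 → P i := stepQ 18347 Q18347 (allL N18347 (tt N16332 F228841) (tt N17925 F228842) (tt N16268 F228843) (tt N20229 D52999) (tt N17920 F228844) (tt N20225 (iv F237310)) (tt N16269 F228845) (tt N18037 F228846) (tt N16265 (iv D51117)) (tt N20215 (iv F237246)))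
theorem Q18349 : ∀ i, i < 18349 → P i := stepQ 18348 Q18348 (allL N18348 (tt N16333 F228847) (tt N16870 F228848) (tt N17186 F228849) (tt N16273 F228850) (tt N20226 (iv F237317)) (tt N16270 F228851) (tt N16266 (iv D51118)) (tt N20230 D53000) (tt N17767 F228852) (tt N20231 D53001))
theorem Q18350 : ∀ i, i < 18350 → P i := stepQ 18349 Q18349 (allL N18349 (tt N16334 F228853) (tt N20199 (iv F237138)) (tt N17939 F228854) (tt N16274 F228855) (tt N20227 (iv F237323)) (tt N16267 F228856) (tt N20231 (iv F237348)) (tt N17699 F228857) (tt N20232 D53002) (tt N16266 (iv D51119)))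
theorem Q18351 : ∀ i, i < 18351 → P i := stepQ 18350 Q18350 (allL N18350 (tt N16335 F228858) (tt N20200 (iv F237145)) (tt N17920 F228859) (tt N20233 D53003) (tt N16268 F228860) (tt N20232 (iv F237351)) (tt N16272 F228861) (tt N17997 F228862) (tt N16267 (iv D51120)) (tt N20217 (iv F237260)))
theorem Q18352 : ∀ i, i < 18352 → P i := stepQ 18351 Q18351 (allL N18351 (tt N16342 F228863) (tt N17936 F228864) (tt N17935 F228865) (tt N16269 (iv D51121)) (tt N17932 F228866) (tt N17373 F228867) (tt N20229 (iv F237333)) (tt N18351 F228868) (tt N16286 F228869) (tt N20218 (iv F237268)))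
theorem Q18353 : ∀ i, i < 18353 → P i := stepQ 18352 Q18352 (allL N18352 (tt N16343 F228870) (tt N16868 F228871) (tt N17193 F228872) (tt N16276 F228873) (tt N16857 F228874) (tt N20230 (iv F237340)) (tt N18352 F228875) (tt N16270 (iv D51122)) (tt N17759 F228876) (tt N20234 D53004))
theorem Q18354 : ∀ i, i < 18354 → P i := stepQ 18353 Q18353 (allL N18353 (tt N16344 F228877) (tt N16871 F228878) (tt N17146 F228879) (tt N16277 F228880) (tt N16860 F228881) (tt N20231 (iv F237347)) (tt N16271 F228882) (tt N20234 (iv F237365)) (tt N20235 D53005) (tt N16270 (iv D51123)))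
theorem Q18355 : ∀ i, i < 18355 → P i := stepQ 18354 Q18354 (allL N18354 (tt N16345 F228883) (tt N16873 F228884) (tt N17098 F228885) (tt N20236 D53006) (tt N16862 F228886) (tt N16272 F228887) (tt N20235 (iv F237370)) (tt N18354 F228888) (tt N16271 (iv D51124)) (tt N17773 F228889))
theorem Q18356 : ∀ i, i < 18356 → P i := stepQ 18355 Q18355 (allL N18355 (tt N16346 F228890) (tt N20202 (iv F237160)) (tt N17474 F228891) (tt N16272 (iv D51125)) (tt N17106 F228892) (tt N20236 (iv F237376)) (tt N20233 (iv F237356)) (tt N18355 F228893) (tt N16279 F228894) (tt N20219 (iv F237276)))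
theorem Q18357 : ∀ i, i < 18357 → P i := stepQ 18356 Q18356 (allL N18356 (tt N16350 F228895) (tt N16651 F228896) (tt N16664 F228897) (tt N20230 (iv F237339)) (tt N16650 F228898) (tt N16276 F228899) (tt N16818 F228900) (tt N16273 (iv D51126)) (tt N18356 F228901) (tt N20237 D53007))
theorem Q18358 : ∀ i, i < 18358 → P i := stepQ 18357 Q18357 (allL N18357 (tt N16351 F228902) (tt N16876 F228903) (tt N17152 F228904) (tt N20231 (iv F237346)) (tt N17690 F228905) (tt N16277 F228906) (tt N16274 F228907) (tt N20237 (iv F237386)) (tt N20238 D53008) (tt N16273 (iv D51127)))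
theorem Q18359 : ∀ i, i < 18359 → P i := stepQ 18358 Q18358 (allL N18358 (tt N16352 F228908) (tt N20203 (iv F237168)) (tt N17508 F228909) (tt N20239 D53009) (tt N17693 F228910) (tt N16275 F228911) (tt N20238 (iv F237392)) (tt N17700 F228912) (tt N16274 (iv D51128)) (tt N18358 F228913))
theorem Q18360 : ∀ i, i < 18360 → P i := stepQ 18359 Q18359 (allL N18359 (tt N16353 F228914) (tt N20204 (iv F237176)) (tt N17502 F228915) (tt N16275 (iv D51129)) (tt N17117 F228916) (tt N20239 (iv F237396)) (tt N16279 F228917) (tt N17998 F228918) (tt N20233 (iv F237358)) (tt N18359 F228919))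
theorem Q18361 : ∀ i, i < 18361 → P i := stepQ 18360 Q18360 (allL N18360 (tt N16354 F228920) (tt N16874 F228921) (tt N17154 F228922) (tt N20234 (iv F237362)) (tt N16280 F228923) (tt N20237 (iv F237384)) (tt N18360 F228924) (tt N16277 F228925) (tt N20240 D53010) (tt N16276 (iv D51130)))
theorem Q18362 : ∀ i, i < 18362 → P i := stepQ 18361 Q18361 (allL N18361 (tt N16355 F228926) (tt N16877 F228927) (tt N16391 F228928) (tt N20241 D53011) (tt N16281 F228929) (tt N20238 (iv F237391)) (tt N16278 F228930) (tt N20240 (iv F237404)) (tt N16277 (iv D51131)) (tt N18361 F228931))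
theorem Q18363 : ∀ i, i < 18363 → P i := stepQ 18362 Q18362 (allL N18362 (tt N16356 F228932) (tt N16878 F228933) (tt N16376 F228934) (tt N16278 (iv D51132)) (tt N16931 F228935) (tt N16279 F228936) (tt N20241 (iv F237410)) (tt N18362 F228937) (tt N20236 (iv F237378)) (tt N18362 F228938))
theorem Q18364 : ∀ i, i < 18364 → P i := stepQ 18363 Q18363 (allL N18363 (tt N16358 F228939) (tt N16875 F228940) (tt N20001 (iv F235850)) (tt N16933 F228941) (tt N20240 (iv F237402)) (tt N17999 F228942) (tt N18363 F228943) (tt N16281 F228944) (tt N16280 (iv D51133)) (tt N18363 F228945))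
theorem Q18365 : ∀ i, i < 18365 → P i := stepQ 18364 Q18364 (allL N18364 (tt N16367 F228946) (tt N18058 F228947) (tt N16284 F228948) (tt N20242 D53012) (tt N18047 F228949) (tt N16285 F228950) (tt N17387 F228951) (tt N18039 F228952) (tt N16283 (iv D51134)) (tt N18364 F228953))
theorem Q18366 : ∀ i, i < 18366 → P i := stepQ 18365 Q18365 (allL N18365 (tt N16374 F228954) (tt N18057 F228955) (tt N18065 F228956) (tt N16285 (iv D51135)) (tt N18053 F228957) (tt N20242 (iv F237415)) (tt N16286 F228958) (tt N18040 F228959) (tt N20229 (iv F237335)) (tt N18365 F228960))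
theorem Q18367 : ∀ i, i < 18367 → P i := stepQ 18366 Q18366 (allL N18366 (tt N20111 (iv F236604)) (tt N17017 F228961) (tt N20243 D53013) (tt N16287 (iv D51136)) (tt N20244 D53014) (tt N18366 F228962) (tt N17861 F228963) (tt N16288 F228964) (tt N17911 F228965) (tt N20245 D53015))
theorem Q18368 : ∀ i, i < 18368 → P i := stepQ 18367 Q18367 (allL N18367 (tt N20112 (iv F236611)) (tt N17018 F228966) (tt N18367 F228967) (tt N20245 (iv F237431)) (tt N16292 F228968) (tt N18367 F228969) (tt N18072 F228970) (tt N16289 F228971) (tt N20107 (iv F236587)) (tt N16287 (iv D51137)))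
theorem Q18369 : ∀ i, i < 18369 → P i := stepQ 18368 Q18368 (allL N18368 (tt N17494 F228972) (tt N20246 D53016) (tt N16288 (iv D51138)) (tt N18368 F228973) (tt N20247 D53017) (tt N18368 F228974) (tt N17398 F228975) (tt N20243 (iv F237423)) (tt N17385 F228976) (tt N20248 D53018))
theorem Q18370 : ∀ i, i < 18370 → P i := stepQ 18369 Q18369 (allL N18369 (tt N20205 (iv F237182)) (tt N17020 F228977) (tt N20247 (iv F237441)) (tt N16294 F228978) (tt N16288 (iv D51139)) (tt N20249 D53019) (tt N17399 F228979) (tt N20244 (iv F237428)) (tt N17883 F228980) (tt N20250 D53020))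
theorem Q18371 : ∀ i, i < 18371 → P i := stepQ 18370 Q18370 (allL N18370 (tt N20206 (iv F237188)) (tt N17021 F228981) (tt N20248 (iv F237445)) (tt N16289 F228982) (tt N20250 (iv F237456)) (tt N18370 F228983) (tt N17400 F228984) (tt N20245 (iv F237434)) (tt N20251 D53021) (tt N16288 (iv D51140)))
theorem Q18372 : ∀ i, i < 18372 → P i := stepQ 18371 Q18371 (allL N18371 (tt N20106 (iv F236573)) (tt N17022 F228985) (tt N20171 (iv F236958)) (tt N16290 (iv D51141)) (tt N20252 D53022) (tt N18371 F228986) (tt N16291 F228987) (tt N17401 F228988) (tt N16311 F228989) (tt N20253 D53023))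
theorem Q18373 : ∀ i, i < 18373 → P i := stepQ 18372 Q18372 (allL N18372 (tt N20107 (iv F236580)) (tt N17023 F228990) (tt N18372 F228991) (tt N20253 (iv F237468)) (tt N18072 F228992) (tt N18372 F228993) (tt N16292 F228994) (tt N17402 F228995) (tt N20112 (iv F236618)) (tt N16290 (iv D51142)))
theorem Q18374 : ∀ i, i < 18374 → P i := stepQ 18373 Q18373 (allL N18373 (tt N18034 F228996) (tt N20254 D53024) (tt N16291 (iv D51143)) (tt N18373 F228997) (tt N20255 D53025) (tt N16296 F228998) (tt N20171 (iv F236961)) (tt N16293 F228999) (tt N16313 F229000) (tt N20256 D53026))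
theorem Q18375 : ∀ i, i < 18375 → P i := stepQ 18374 Q18374 (allL N18374 (tt N20207 (iv F237194)) (tt N17025 F229001) (tt N20255 (iv F237479)) (tt N20244 (iv F237426)) (tt N16291 (iv D51144)) (tt N20257 D53027) (tt N20252 (iv F237464)) (tt N16294 F229002) (tt N16314 F229003) (tt N20258 D53028))
theorem Q18376 : ∀ i, i < 18376 → P i := stepQ 18375 Q18375 (allL N18375 (tt N20208 (iv F237199)) (tt N17026 F229004) (tt N20256 (iv F237484)) (tt N16292 F229005) (tt N20258 (iv F237495)) (tt N16298 F229006) (tt N20253 (iv F237470)) (tt N16295 F229007) (tt N20259 D53029) (tt N16291 (iv D51145)))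
theorem Q18377 : ∀ i, i < 18377 → P i := stepQ 18376 Q18376 (allL N18376 (tt N17083 F229008) (tt N16293 (iv D51146)) (tt N17027 F229009) (tt N18376 F229010) (tt N20260 D53030) (tt N16299 F229011) (tt N17406 F229012) (tt N20254 (iv F237476)) (tt N16316 F229013) (tt N20261 D53031))
theorem Q18378 : ∀ i, i < 18378 → P i := stepQ 18377 Q18377 (allL N18377 (tt N20209 (iv F237204)) (tt N20260 (iv F237502)) (tt N16294 F229014) (tt N20262 D53032) (tt N16293 (iv D51147)) (tt N20263 D53033) (tt N17407 F229015) (tt N20255 (iv F237481)) (tt N16317 F229016) (tt N20264 D53034))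
theorem Q18379 : ∀ i, i < 18379 → P i := stepQ 18378 Q18378 (allL N18378 (tt N20210 (iv F237211)) (tt N20261 (iv F237508)) (tt N16295 F229017) (tt N18378 F229018) (tt N20264 (iv F237523)) (tt N16301 F229019) (tt N17408 F229020) (tt N20256 (iv F237487)) (tt N20265 D53035) (tt N16293 (iv D51148)))
theorem Q18380 : ∀ i, i < 18380 → P i := stepQ 18379 Q18379 (allL N18379 (tt N20211 (iv F237218)) (tt N17030 F229021) (tt N20263 (iv F237517)) (tt N20249 (iv F237450)) (tt N16302 F229022) (tt N16294 (iv D51149)) (tt N20266 D53036) (tt N20257 (iv F237492)) (tt N16319 F229023) (tt N20267 D53037))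
theorem Q18381 : ∀ i, i < 18381 → P i := stepQ 18380 Q18380 (allL N18380 (tt N20212 (iv F237225)) (tt N17031 F229024) (tt N20264 (iv F237522)) (tt N20250 (iv F237455)) (tt N16295 F229025) (tt N20267 (iv F237538)) (tt N17410 F229026) (tt N20258 (iv F237496)) (tt N20268 D53038) (tt N16294 (iv D51150)))
theorem Q18382 : ∀ i, i < 18382 → P i := stepQ 18381 Q18381 (allL N18381 (tt N20213 (iv F237228)) (tt N17032 F229027) (tt N20265 (iv F237525)) (tt N20120 (iv F236659)) (tt N20268 (iv F237540)) (tt N16304 F229028) (tt N17411 F229029) (tt N20259 (iv F237499)) (tt N16295 (iv D51151)) (tt N16321 F229030))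
theorem Q18383 : ∀ i, i < 18383 → P i := stepQ 18382 Q18382 (allL N18382 (tt N17074 F229031) (tt N16296 (iv D51152)) (tt N17033 F229032) (tt N18382 F229033) (tt N17073 F229034) (tt N20254 (iv F237475)) (tt N18382 F229035) (tt N16299 F229036) (tt N16322 F229037) (tt N20269 D53039))
theorem Q18384 : ∀ i, i < 18384 → P i := stepQ 18383 Q18383 (allL N18383 (tt N18036 F229038) (tt N20269 (iv F237544)) (tt N16298 F229039) (tt N18383 F229040) (tt N18024 F229041) (tt N20256 (iv F237486)) (tt N18383 F229042) (tt N16301 F229043) (tt N20270 D53040) (tt N16296 (iv D51153)))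
theorem Q18385 : ∀ i, i < 18385 → P i := stepQ 18384 Q18384 (allL N18384 (tt N17698 F229044) (tt N17036 F229045) (tt N17822 F229046) (tt N18384 F229047) (tt N20257 (iv F237491)) (tt N16297 (iv D51154)) (tt N20271 D53041) (tt N16302 F229048) (tt N16324 F229049) (tt N20272 D53042))
theorem Q18386 : ∀ i, i < 18386 → P i := stepQ 18385 Q18385 (allL N18385 (tt N17996 F229050) (tt N17037 F229051) (tt N18024 F229052) (tt N18385 F229053) (tt N16298 F229054) (tt N20272 (iv F237567)) (tt N18385 F229055) (tt N16303 F229056) (tt N20273 D53043) (tt N16297 (iv D51155)))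
theorem Q18387 : ∀ i, i < 18387 → P i := stepQ 18386 Q18386 (allL N18386 (tt N20214 (iv F237233)) (tt N17038 F229057) (tt N20270 (iv F237551)) (tt N20124 (iv F236685)) (tt N20273 (iv F237572)) (tt N20259 (iv F237498)) (tt N18386 F229058) (tt N16304 F229059) (tt N16298 (iv D51156)) (tt N16326 F229060))
theorem Q18388 : ∀ i, i < 18388 → P i := stepQ 18387 Q18387 (allL N18387 (tt N17084 F229061) (tt N16301 F229062) (tt N17039 F229063) (tt N18387 F229064) (tt N17082 F229065) (tt N20261 (iv F237511)) (tt N16305 F229066) (tt N20269 (iv F237549)) (tt N20274 D53044) (tt N16299 (iv D51157)))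
theorem Q18389 : ∀ i, i < 18389 → P i := stepQ 18388 Q18388 (allL N18388 (tt N16978 F229067) (tt N17063 F229068) (tt N16302 F229069) (tt N17010 F229070) (tt N20263 (iv F237518)) (tt N16300 (iv D51158)) (tt N17803 F229071) (tt N17822 F229072) (tt N16330 F229073) (tt N20275 D53045))
theorem Q18390 : ∀ i, i < 18390 → P i := stepQ 18389 Q18389 (allL N18389 (tt N16989 F229074) (tt N17082 F229075) (tt N16303 F229076) (tt N17015 F229077) (tt N16301 F229078) (tt N20275 (iv F237586)) (tt N16306 F229079) (tt N18024 F229080) (tt N20276 D53046) (tt N16300 (iv D51159)))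
theorem Q18391 : ∀ i, i < 18391 → P i := stepQ 18390 Q18390 (allL N18390 (tt N20215 (iv F237240)) (tt N20274 (iv F237577)) (tt N16304 F229081) (tt N20277 D53047) (tt N20276 (iv F237593)) (tt N20265 (iv F237526)) (tt N16307 F229082) (tt N20270 (iv F237554)) (tt N16301 (iv D51160)) (tt N16332 F229083))
theorem Q18392 : ∀ i, i < 18392 → P i := stepQ 18391 Q18391 (allL N18391 (tt N17767 F229084) (tt N17043 F229085) (tt N17803 F229086) (tt N18391 F229087) (tt N20266 (iv F237533)) (tt N16308 F229088) (tt N16302 (iv D51161)) (tt N20278 D53048) (tt N16333 F229089) (tt N20279 D53049))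
theorem Q18393 : ∀ i, i < 18393 → P i := stepQ 18392 Q18392 (allL N18392 (tt N20216 (iv F237247)) (tt N17044 F229090) (tt N20275 (iv F237584)) (tt N18392 F229091) (tt N20267 (iv F237537)) (tt N16303 F229092) (tt N20279 (iv F237612)) (tt N20272 (iv F237568)) (tt N20280 D53050) (tt N16302 (iv D51162)))
theorem Q18394 : ∀ i, i < 18394 → P i := stepQ 18393 Q18393 (allL N18393 (tt N20217 (iv F237254)) (tt N17045 F229093) (tt N20276 (iv F237591)) (tt N20281 D53051) (tt N16304 F229094) (tt N20280 (iv F237614)) (tt N16310 F229095) (tt N20273 (iv F237574)) (tt N16303 (iv D51163)) (tt N16335 F229096))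
theorem Q18395 : ∀ i, i < 18395 → P i := stepQ 18394 Q18394 (allL N18394 (tt N17097 F229097) (tt N16307 F229098) (tt N17046 F229099) (tt N20282 D53052) (tt N17094 F229100) (tt N17424 F229101) (tt N20274 (iv F237580)) (tt N18394 F229102) (tt N16305 (iv D51164)) (tt N16338 F229103))
theorem Q18396 : ∀ i, i < 18396 → P i := stepQ 18395 Q18395 (allL N18395 (tt N16995 F229104) (tt N17094 F229105) (tt N16310 F229106) (tt N17864 F229107) (tt N16307 F229108) (tt N17815 F229109) (tt N20276 (iv F237594)) (tt N18395 F229110) (tt N16306 (iv D51165)) (tt N16341 F229111))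
theorem Q18397 : ∀ i, i < 18397 → P i := stepQ 18396 Q18396 (allL N18396 (tt N20218 (iv F237261)) (tt N20282 (iv F237621)) (tt N20128 (iv F236709)) (tt N16307 (iv D51166)) (tt N20283 D53053) (tt N17426 F229112) (tt N20277 (iv F237597)) (tt N18396 F229113) (tt N18396 F229114) (tt N16342 F229115))
theorem Q18398 : ∀ i, i < 18398 → P i := stepQ 18397 Q18397 (allL N18397 (tt N17759 F229116) (tt N17050 F229117) (tt N17810 F229118) (tt N18397 F229119) (tt N17427 F229120) (tt N20278 (iv F237604)) (tt N18397 F229121) (tt N16308 (iv D51167)) (tt N16343 F229122) (tt N20284 D53054))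
theorem Q18399 : ∀ i, i < 18399 → P i := stepQ 18398 Q18398 (allL N18398 (tt N17768 F229123) (tt N17051 F229124) (tt N17813 F229125) (tt N18398 F229126) (tt N17428 F229127) (tt N20279 (iv F237611)) (tt N16309 F229128) (tt N20284 (iv F237641)) (tt N20285 D53055) (tt N16308 (iv D51168)))
theorem Q18400 : ∀ i, i < 18400 → P i := stepQ 18399 Q18399 (allL N18399 (tt N17773 F229129) (tt N17052 F229130) (tt N17815 F229131) (tt N20286 D53056) (tt N17429 F229132) (tt N16310 F229133) (tt N20285 (iv F237646)) (tt N18399 F229134) (tt N16309 (iv D51169)) (tt N16345 F229135))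
theorem Q18401 : ∀ i, i < 18401 → P i := stepQ 18400 Q18400 (allL N18400 (tt N20219 (iv F237269)) (tt N17053 F229136) (tt N20287 D53057) (tt N16310 (iv D51170)) (tt N20129 (iv F236716)) (tt N20286 (iv F237652)) (tt N20281 (iv F237617)) (tt N18400 F229137) (tt N18400 F229138) (tt N16346 F229139))
theorem Q18402 : ∀ i, i < 18402 → P i := stepQ 18401 Q18401 (allL N18401 (tt N20220 (iv F237277)) (tt N17055 F229140) (tt N20139 (iv F236776)) (tt N20034 (iv F236104)) (tt N16311 (iv D51171)) (tt N20288 D53058) (tt N16314 F229141) (tt N17431 F229142) (tt N20252 (iv F237466)) (tt N20289 D53059))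
theorem Q18403 : ∀ i, i < 18403 → P i := stepQ 18402 Q18402 (allL N18402 (tt N20221 (iv F237282)) (tt N17056 F229143) (tt N20172 (iv F236964)) (tt N16312 F229144) (tt N20289 (iv F237667)) (tt N18402 F229145) (tt N16315 F229146) (tt N17432 F229147) (tt N20290 D53060) (tt N16311 (iv D51172)))
theorem Q18404 : ∀ i, i < 18404 → P i := stepQ 18403 Q18403 (allL N18403 (tt N20291 D53061) (tt N16313 (iv D51173)) (tt N17057 F229148) (tt N16359 F229149) (tt N20292 D53062) (tt N16322 F229150) (tt N20168 (iv F236941)) (tt N16316 F229151) (tt N20254 (iv F237477)) (tt N20293 D53063))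
theorem Q18405 : ∀ i, i < 18405 → P i := stepQ 18404 Q18404 (allL N18404 (tt N17892 F229152) (tt N20292 (iv F237681)) (tt N16314 F229153) (tt N17301 F229154) (tt N16313 (iv D51174)) (tt N17806 F229155) (tt N20139 (iv F236778)) (tt N16317 F229156) (tt N20255 (iv F237482)) (tt N20294 D53064))
theorem Q18406 : ∀ i, i < 18406 → P i := stepQ 18405 Q18405 (allL N18405 (tt N18035 F229157) (tt N20293 (iv F237686)) (tt N16315 F229158) (tt N16360 F229159) (tt N20294 (iv F237694)) (tt N16323 F229160) (tt N20172 (iv F236967)) (tt N16318 F229161) (tt N20295 D53065) (tt N16313 (iv D51175)))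
theorem Q18407 : ∀ i, i < 18407 → P i := stepQ 18406 Q18406 (allL N18406 (tt N17658 F229162) (tt N17060 F229163) (tt N17806 F229164) (tt N17619 F229165) (tt N16324 F229166) (tt N16314 (iv D51176)) (tt N20296 D53066) (tt N16319 F229167) (tt N20257 (iv F237493)) (tt N20297 D53067))
theorem Q18408 : ∀ i, i < 18408 → P i := stepQ 18407 Q18407 (allL N18407 (tt N20222 (iv F237288)) (tt N17061 F229168) (tt N20294 (iv F237692)) (tt N20083 (iv F236436)) (tt N16315 F229169) (tt N20297 (iv F237711)) (tt N20289 (iv F237668)) (tt N16320 F229170) (tt N20298 D53068) (tt N16314 (iv D51177)))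
theorem Q18409 : ∀ i, i < 18409 → P i := stepQ 18408 Q18408 (allL N18408 (tt N20223 (iv F237294)) (tt N17062 F229171) (tt N20295 (iv F237698)) (tt N20136 (iv F236758)) (tt N20298 (iv F237714)) (tt N16326 F229172) (tt N20290 (iv F237672)) (tt N16321 F229173) (tt N16315 (iv D51178)) (tt N20259 (iv F237500)))
theorem Q18410 : ∀ i, i < 18410 → P i := stepQ 18409 Q18409 (allL N18409 (tt N16316 (iv D51179)) (tt N17040 F229174) (tt N17063 F229175) (tt N16362 F229176) (tt N20299 D53069) (tt N16327 F229177) (tt N17439 F229178) (tt N20291 (iv F237679)) (tt N17083 F229179) (tt N20300 D53070))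
theorem Q18411 : ∀ i, i < 18411 → P i := stepQ 18410 Q18410 (allL N18410 (tt N20299 (iv F237716)) (tt N16317 F229180) (tt N17064 F229181) (tt N20301 D53071) (tt N16316 (iv D51180)) (tt N20302 D53072) (tt N17440 F229182) (tt N20292 (iv F237685)) (tt N20260 (iv F237506)) (tt N20303 D53073))
theorem Q18412 : ∀ i, i < 18412 → P i := stepQ 18411 Q18411 (allL N18411 (tt N20300 (iv F237722)) (tt N16318 F229183) (tt N17065 F229184) (tt N16364 F229185) (tt N20303 (iv F237744)) (tt N16329 F229186) (tt N17441 F229187) (tt N20293 (iv F237690)) (tt N20304 D53074) (tt N16316 (iv D51181)))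
theorem Q18413 : ∀ i, i < 18413 → P i := stepQ 18412 Q18412 (allL N18412 (tt N17880 F229188) (tt N20301 (iv F237728)) (tt N17298 F229189) (tt N16317 (iv D51182)) (tt N16365 F229190) (tt N17799 (iv F229193)) (tt N17442 F229191) (tt N17301 F229192) (tt N20305 D53075) (tt N20306 D53076))
theorem Q18414 : ∀ i, i < 18414 → P i := stepQ 18413 Q18413 (allL N18413 (tt N17879 F229194) (tt N20302 (iv F237735)) (tt N16319 F229195) (tt N17799 F229196) (tt N16330 F229197) (tt N16317 (iv D51183)) (tt N20307 D53077) (tt N17806 F229198) (tt N20263 (iv F237520)) (tt N20308 D53078))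
theorem Q18415 : ∀ i, i < 18415 → P i := stepQ 18414 Q18414 (allL N18414 (tt N20224 (iv F237299)) (tt N20303 (iv F237742)) (tt N16320 F229199) (tt N20306 (iv F237758)) (tt N16318 F229200) (tt N20308 (iv F237774)) (tt N17444 F229201) (tt N20294 (iv F237696)) (tt N20309 D53079) (tt N16317 (iv D51184)))
theorem Q18416 : ∀ i, i < 18416 → P i := stepQ 18415 Q18415 (allL N18415 (tt N20225 (iv F237307)) (tt N20304 (iv F237746)) (tt N16321 F229202) (tt N20310 D53080) (tt N20309 (iv F237777)) (tt N16332 F229203) (tt N17445 F229204) (tt N20295 (iv F237700)) (tt N16318 (iv D51185)) (tt N20265 (iv F237528)))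
theorem Q18417 : ∀ i, i < 18417 → P i := stepQ 18416 Q18416 (allL N18416 (tt N20226 (iv F237313)) (tt N17070 F229205) (tt N20307 (iv F237765)) (tt N20087 (iv F236464)) (tt N16333 F229206) (tt N17446 F229207) (tt N16319 (iv D51186)) (tt N20311 D53081) (tt N20266 (iv F237535)) (tt N20312 D53082))
theorem Q18418 : ∀ i, i < 18418 → P i := stepQ 18417 Q18417 (allL N18417 (tt N20227 (iv F237320)) (tt N17071 F229208) (tt N20308 (iv F237771)) (tt N20088 (iv F236471)) (tt N16334 F229209) (tt N16320 F229210) (tt N20312 (iv F237788)) (tt N20297 (iv F237712)) (tt N20313 D53083) (tt N16319 (iv D51187)))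
theorem Q18419 : ∀ i, i < 18419 → P i := stepQ 18418 Q18418 (allL N18418 (tt N20228 (iv F237326)) (tt N17072 F229211) (tt N20309 (iv F237776)) (tt N20314 D53084) (tt N16321 F229212) (tt N20313 (iv F237791)) (tt N17448 F229213) (tt N20298 (iv F237715)) (tt N16320 (iv D51188)) (tt N20268 (iv F237542)))
theorem Q18420 : ∀ i, i < 18420 → P i := stepQ 18419 Q18419 (allL N18419 (tt N16322 (iv D51189)) (tt N17034 F229214) (tt N17073 F229215) (tt N16369 F229216) (tt N17033 F229217) (tt N20291 (iv F237677)) (tt N18419 F229218) (tt N16327 F229219) (tt N17074 F229220) (tt N20315 D53085))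
theorem Q18421 : ∀ i, i < 18421 → P i := stepQ 18420 Q18420 (allL N18420 (tt N20315 (iv F237794)) (tt N16323 F229221) (tt N17075 F229222) (tt N16370 F229223) (tt N18023 F229224) (tt N20293 (iv F237689)) (tt N18420 F229225) (tt N16329 F229226) (tt N20316 D53086) (tt N16322 (iv D51190)))
theorem Q18422 : ∀ i, i < 18422 → P i := stepQ 18421 Q18421 (allL N18421 (tt N18037 F229227) (tt N20316 (iv F237801)) (tt N16326 F229228) (tt N20317 D53087) (tt N18025 F229229) (tt N20295 (iv F237699)) (tt N18421 F229230) (tt N16332 F229231) (tt N16323 (iv D51191)) (tt N20270 (iv F237555)))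
theorem Q18423 : ∀ i, i < 18423 → P i := stepQ 18422 Q18422 (allL N18422 (tt N16825 F229232) (tt N17079 F229233) (tt N17013 F229234) (tt N16347 F229235) (tt N20296 (iv F237705)) (tt N18422 F229236) (tt N16324 (iv D51192)) (tt N20318 D53088) (tt N20271 (iv F237561)) (tt N20319 D53089))
theorem Q18424 : ∀ i, i < 18424 → P i := stepQ 18423 Q18423 (allL N18423 (tt N17699 F229237) (tt N17080 F229238) (tt N17823 F229239) (tt N16348 F229240) (tt N20297 (iv F237710)) (tt N16325 F229241) (tt N20319 (iv F237822)) (tt N16334 F229242) (tt N20320 D53090) (tt N16324 (iv D51193)))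
theorem Q18425 : ∀ i, i < 18425 → P i := stepQ 18424 Q18424 (allL N18424 (tt N17997 F229243) (tt N17081 F229244) (tt N18025 F229245) (tt N20321 D53091) (tt N16326 F229246) (tt N20320 (iv F237826)) (tt N18424 F229247) (tt N16335 F229248) (tt N16325 (iv D51194)) (tt N20273 (iv F237575)))
theorem Q18426 : ∀ i, i < 18426 → P i := stepQ 18425 Q18425 (allL N18425 (tt N16329 F229249) (tt N17041 F229250) (tt N17082 F229251) (tt N16372 F229252) (tt N17039 F229253) (tt N20300 (iv F237726)) (tt N16336 F229254) (tt N20315 (iv F237800)) (tt N20322 D53092) (tt N16327 (iv D51195)))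
theorem Q18427 : ∀ i, i < 18427 → P i := stepQ 18426 Q18426 (allL N18426 (tt N17027 F229255) (tt N16330 F229256) (tt N17083 F229257) (tt N17175 F229258) (tt N20302 (iv F237738)) (tt N16328 (iv D51196)) (tt N17838 F229259) (tt N17820 F229260) (tt N17063 F229261) (tt N20323 D53093))
theorem Q18428 : ∀ i, i < 18428 → P i := stepQ 18427 Q18427 (allL N18427 (tt N17039 F229262) (tt N16331 F229263) (tt N17084 F229264) (tt N17181 F229265) (tt N16329 F229266) (tt N20323 (iv F237843)) (tt N16337 F229267) (tt N18023 F229268) (tt N20324 D53094) (tt N16328 (iv D51197)))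
theorem Q18429 : ∀ i, i < 18429 → P i := stepQ 18428 Q18428 (allL N18428 (tt N20322 (iv F237833)) (tt N16332 F229269) (tt N17085 F229270) (tt N20325 D53095) (tt N20324 (iv F237850)) (tt N20304 (iv F237748)) (tt N16338 F229271) (tt N20316 (iv F237805)) (tt N16329 (iv D51198)) (tt N20274 (iv F237581)))
theorem Q18430 : ∀ i, i < 18430 → P i := stepQ 18429 Q18429 (allL N18429 (tt N17186 F229272) (tt N17838 F229273) (tt N16333 F229274) (tt N17185 F229275) (tt N20307 (iv F237767)) (tt N16339 F229276) (tt N16330 (iv D51199)) (tt N20326 D53096) (tt N17803 F229277) (tt N20327 D53097))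
theorem Q18431 : ∀ i, i < 18431 → P i := stepQ 18430 Q18430 (allL N18430 (tt N17939 F229278) (tt N20323 (iv F237840)) (tt N16334 F229279) (tt N17818 F229280) (tt N20308 (iv F237773)) (tt N16331 F229281) (tt N20327 (iv F237869)) (tt N17823 F229282) (tt N20328 D53098) (tt N16330 (iv D51200)))
theorem Q18432 : ∀ i, i < 18432 → P i := stepQ 18431 Q18431 (allL N18431 (tt N17920 F229283) (tt N20324 (iv F237847)) (tt N16335 F229284) (tt N17916 F229285) (tt N16332 F229286) (tt N20328 (iv F237873)) (tt N16341 F229287) (tt N18025 F229288) (tt N16331 (iv D51201)) (tt N20276 (iv F237596)))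
theorem Q18433 : ∀ i, i < 18433 → P i := stepQ 18432 Q18432 (allL N18432 (tt N20229 (iv F237329)) (tt N20325 (iv F237854)) (tt N20154 (iv F236856)) (tt N16332 (iv D51202)) (tt N20329 D53099) (tt N20310 (iv F237779)) (tt N16342 F229289) (tt N20317 (iv F237808)) (tt N16374 F229290) (tt N20277 (iv F237599)))
theorem Q18434 : ∀ i, i < 18434 → P i := stepQ 18433 Q18433 (allL N18433 (tt N20230 (iv F237336)) (tt N17090 F229291) (tt N20326 (iv F237859)) (tt N16350 F229292) (tt N20311 (iv F237783)) (tt N16343 F229293) (tt N20318 (iv F237815)) (tt N16333 (iv D51203)) (tt N20278 (iv F237606)) (tt N20330 D53100))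
theorem Q18435 : ∀ i, i < 18435 → P i := stepQ 18434 Q18434 (allL N18434 (tt N20231 (iv F237343)) (tt N17091 F229294) (tt N20327 (iv F237866)) (tt N16351 F229295) (tt N20312 (iv F237786)) (tt N16344 F229296) (tt N16334 F229297) (tt N20330 (iv F237882)) (tt N20331 D53101) (tt N16333 (iv D51204)))
theorem Q18436 : ∀ i, i < 18436 → P i := stepQ 18435 Q18435 (allL N18435 (tt N20232 (iv F237349)) (tt N17092 F229298) (tt N20328 (iv F237871)) (tt N20332 D53102) (tt N20313 (iv F237790)) (tt N16335 F229299) (tt N20331 (iv F237885)) (tt N20320 (iv F237827)) (tt N16334 (iv D51205)) (tt N20280 (iv F237615)))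
theorem Q18437 : ∀ i, i < 18437 → P i := stepQ 18436 Q18436 (allL N18436 (tt N20233 (iv F237353)) (tt N17093 F229300) (tt N20333 D53103) (tt N16335 (iv D51206)) (tt N20156 (iv F236865)) (tt N20332 (iv F237887)) (tt N16346 F229301) (tt N20321 (iv F237831)) (tt N16353 F229302) (tt N20281 (iv F237619)))
theorem Q18438 : ∀ i, i < 18438 → P i := stepQ 18437 Q18437 (allL N18437 (tt N16338 F229303) (tt N17049 F229304) (tt N17094 F229305) (tt N20334 D53104) (tt N17046 F229306) (tt N17470 F229307) (tt N20322 (iv F237837)) (tt N18437 F229308) (tt N16336 (iv D51207)) (tt N17097 F229309))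
theorem Q18439 : ∀ i, i < 18439 → P i := stepQ 18438 Q18438 (allL N18438 (tt N17046 F229310) (tt N16341 F229311) (tt N17097 F229312) (tt N17815 F229313) (tt N16338 F229314) (tt N17864 F229315) (tt N20324 (iv F237851)) (tt N18438 F229316) (tt N16337 (iv D51208)) (tt N17094 F229317))
theorem Q18440 : ∀ i, i < 18440 → P i := stepQ 18439 Q18439 (allL N18439 (tt N20334 (iv F237893)) (tt N16342 F229318) (tt N20236 (iv F237374)) (tt N16338 (iv D51209)) (tt N20335 D53105) (tt N17474 F229319) (tt N20325 (iv F237855)) (tt N18439 F229320) (tt N16376 F229321) (tt N20282 (iv F237627)))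
theorem Q18441 : ∀ i, i < 18441 → P i := stepQ 18440 Q18440 (allL N18440 (tt N17193 F229322) (tt N17848 F229323) (tt N16343 F229324) (tt N17192 F229325) (tt N17475 F229326) (tt N20326 (iv F237861)) (tt N18440 F229327) (tt N16339 (iv D51210)) (tt N17810 F229328) (tt N20336 D53106))
theorem Q18442 : ∀ i, i < 18442 → P i := stepQ 18441 Q18441 (allL N18441 (tt N17146 F229329) (tt N17854 F229330) (tt N16344 F229331) (tt N17145 F229332) (tt N17476 F229333) (tt N20327 (iv F237868)) (tt N16340 F229334) (tt N20336 (iv F237915)) (tt N20337 D53107) (tt N16339 (iv D51211)))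
theorem Q18443 : ∀ i, i < 18443 → P i := stepQ 18442 Q18442 (allL N18442 (tt N17098 F229335) (tt N17864 F229336) (tt N16345 F229337) (tt N17094 F229338) (tt N17477 F229339) (tt N16341 F229340) (tt N20337 (iv F237921)) (tt N18442 F229341) (tt N16340 (iv D51212)) (tt N17815 F229342))
theorem Q18444 : ∀ i, i < 18444 → P i := stepQ 18443 Q18443 (allL N18443 (tt N17932 F229343) (tt N20335 (iv F237902)) (tt N20159 (iv F236884)) (tt N17928 F229344) (tt N16342 (iv D51213)) (tt N20338 D53108) (tt N20329 (iv F237877)) (tt N18443 F229345) (tt N16377 F229346) (tt N20283 (iv F237633)))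
theorem Q18445 : ∀ i, i < 18445 → P i := stepQ 18444 Q18444 (allL N18444 (tt N20234 (iv F237359)) (tt N17104 F229347) (tt N20336 (iv F237911)) (tt N16354 F229348) (tt N17480 F229349) (tt N20330 (iv F237881)) (tt N18444 F229350) (tt N16344 F229351) (tt N20339 D53109) (tt N16343 (iv D51214)))
theorem Q18446 : ∀ i, i < 18446 → P i := stepQ 18445 Q18445 (allL N18445 (tt N20235 (iv F237366)) (tt N17105 F229352) (tt N20337 (iv F237918)) (tt N20340 D53110) (tt N17481 F229353) (tt N20331 (iv F237884)) (tt N16345 F229354) (tt N20339 (iv F237933)) (tt N16344 (iv D51215)) (tt N20285 (iv F237647)))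
theorem Q18447 : ∀ i, i < 18447 → P i := stepQ 18446 Q18446 (allL N18446 (tt N20236 (iv F237372)) (tt N17106 F229355) (tt N20334 (iv F237895)) (tt N16345 (iv D51216)) (tt N20202 (iv F237162)) (tt N16346 F229356) (tt N20340 (iv F237935)) (tt N18446 F229357) (tt N16356 F229358) (tt N20286 (iv F237655)))
theorem Q18448 : ∀ i, i < 18448 → P i := stepQ 18447 Q18447 (allL N18447 (tt N17474 F229359) (tt N20341 D53111) (tt N16346 (iv D51217)) (tt N17470 F229360) (tt N20160 (iv F236888)) (tt N20334 (iv F237897)) (tt N20333 (iv F237891)) (tt N18447 F229361) (tt N16357 F229362) (tt N20287 (iv F237661)))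
theorem Q18449 : ∀ i, i < 18449 → P i := stepQ 18448 Q18448 (allL N18448 (tt N16818 F229363) (tt N17108 F229364) (tt N16733 F229365) (tt N20318 (iv F237813)) (tt N16732 F229366) (tt N18448 F229367) (tt N16350 F229368) (tt N16347 (iv D51218)) (tt N18448 F229369) (tt N20342 D53112))
theorem Q18450 : ∀ i, i < 18450 → P i := stepQ 18449 Q18449 (allL N18449 (tt N16826 F229370) (tt N17109 F229371) (tt N16737 F229372) (tt N20319 (iv F237820)) (tt N16736 F229373) (tt N18449 F229374) (tt N16348 F229375) (tt N20342 (iv F237950)) (tt N20343 D53113) (tt N16347 (iv D51219)))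
theorem Q18451 : ∀ i, i < 18451 → P i := stepQ 18450 Q18450 (allL N18450 (tt N17700 F229376) (tt N17110 F229377) (tt N17631 F229378) (tt N20344 D53114) (tt N17630 F229379) (tt N16349 F229380) (tt N20343 (iv F237956)) (tt N16352 F229381) (tt N16348 (iv D51220)) (tt N18450 F229382))
theorem Q18452 : ∀ i, i < 18452 → P i := stepQ 18451 Q18451 (allL N18451 (tt N17998 F229383) (tt N17111 F229384) (tt N20345 D53115) (tt N16349 (iv D51221)) (tt N20163 (iv F236908)) (tt N20344 (iv F237960)) (tt N18451 F229385) (tt N16353 F229386) (tt N20321 (iv F237832)) (tt N18451 F229387))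
theorem Q18453 : ∀ i, i < 18453 → P i := stepQ 18452 Q18452 (allL N18452 (tt N20237 (iv F237380)) (tt N17112 F229388) (tt N20002 (iv F235859)) (tt N20330 (iv F237880)) (tt N20100 (iv F236537)) (tt N16354 F229389) (tt N20342 (iv F237949)) (tt N16351 F229390) (tt N20346 D53116) (tt N16350 (iv D51222)))
theorem Q18454 : ∀ i, i < 18454 → P i := stepQ 18453 Q18453 (allL N18453 (tt N20238 (iv F237387)) (tt N17113 F229391) (tt N20003 (iv F235867)) (tt N20347 D53117) (tt N20101 (iv F236545)) (tt N16355 F229392) (tt N16352 F229393) (tt N20346 (iv F237971)) (tt N16351 (iv D51223)) (tt N18453 F229394))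
theorem Q18455 : ∀ i, i < 18455 → P i := stepQ 18454 Q18454 (allL N18454 (tt N20239 (iv F237394)) (tt N17114 F229395) (tt N20348 D53118) (tt N16352 (iv D51224)) (tt N20349 D53119) (tt N16353 F229396) (tt N20347 (iv F237975)) (tt N20344 (iv F237961)) (tt N20332 (iv F237888)) (tt N18454 F229397))
theorem Q18456 : ∀ i, i < 18456 → P i := stepQ 18455 Q18455 (allL N18455 (tt N17502 F229398) (tt N20350 D53120) (tt N16353 (iv D51225)) (tt N17501 F229399) (tt N20165 (iv F236919)) (tt N20348 (iv F237979)) (tt N16357 F229400) (tt N20345 (iv F237966)) (tt N20333 (iv F237892)) (tt N18455 F229401))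
theorem Q18457 : ∀ i, i < 18457 → P i := stepQ 18456 Q18456 (allL N18456 (tt N20240 (iv F237399)) (tt N17116 F229402) (tt N20004 (iv F235875)) (tt N20351 D53121) (tt N16358 F229403) (tt N20346 (iv F237970)) (tt N18456 F229404) (tt N16355 F229405) (tt N16354 (iv D51226)) (tt N18456 F229406))
theorem Q18458 : ∀ i, i < 18458 → P i := stepQ 18457 Q18457 (allL N18457 (tt N20241 (iv F237406)) (tt N17117 F229407) (tt N20352 D53122) (tt N16355 (iv D51227)) (tt N20204 (iv F237178)) (tt N20347 (iv F237974)) (tt N16356 F229408) (tt N20351 (iv F237991)) (tt N20340 (iv F237936)) (tt N18457 F229409))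
theorem Q18459 : ∀ i, i < 18459 → P i := stepQ 18458 Q18458 (allL N18458 (tt N16376 F229410) (tt N17325 F229411) (tt N16356 (iv D51228)) (tt N16375 F229412) (tt N17324 F229413) (tt N16357 F229414) (tt N20352 (iv F237997)) (tt N18458 F229415) (tt N20334 (iv F237899)) (tt N18458 F229416))
theorem Q18460 : ∀ i, i < 18460 → P i := stepQ 18459 Q18459 (allL N18459 (tt N17396 F229417) (tt N16357 (iv D51229)) (tt N17119 F229418) (tt N17395 F229419) (tt N20166 (iv F236925)) (tt N17325 F229420) (tt N20350 (iv F237986)) (tt N18459 F229421) (tt N20341 (iv F237942)) (tt N18459 F229422))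
theorem Q18461 : ∀ i, i < 18461 → P i := stepQ 18460 Q18460 (allL N18460 (tt N16359 (iv D51230)) (tt N18029 F229423) (tt N16378 F229424) (tt N20291 (iv F237676)) (tt N17314 F229425) (tt N16369 F229426) (tt N17951 F229427) (tt N16362 F229428) (tt N18460 F229429) (tt N20353 D53123))
theorem Q18462 : ∀ i, i < 18462 → P i := stepQ 18461 Q18461 (allL N18461 (tt N20353 (iv F237999)) (tt N16360 F229430) (tt N16379 F229431) (tt N20293 (iv F237688)) (tt N17315 F229432) (tt N16370 F229433) (tt N20169 (iv F236948)) (tt N16364 F229434) (tt N20354 D53124) (tt N16359 (iv D51231)))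
theorem Q18463 : ∀ i, i < 18463 → P i := stepQ 18462 Q18462 (allL N18462 (tt N18039 F229435) (tt N20354 (iv F238006)) (tt N16361 F229436) (tt N20355 D53125) (tt N17316 F229437) (tt N16371 F229438) (tt N20173 (iv F236973)) (tt N16367 F229439) (tt N16360 (iv D51232)) (tt N18462 F229440))
theorem Q18464 : ∀ i, i < 18464 → P i := stepQ 18463 Q18463 (allL N18463 (tt N16363 F229441) (tt N18045 F229442) (tt N16381 F229443) (tt N20356 D53126) (tt N16362 (iv D51233)) (tt N17317 F229444) (tt N17166 F229445) (tt N17314 F229446) (tt N18463 F229447) (tt N20357 D53127))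
theorem Q18465 : ∀ i, i < 18465 → P i := stepQ 18464 Q18464 (allL N18464 (tt N16364 F229448) (tt N18028 F229449) (tt N16382 F229450) (tt N20300 (iv F237725)) (tt N20357 (iv F238026)) (tt N16372 F229451) (tt N17490 F229452) (tt N20353 (iv F238005)) (tt N20358 D53128) (tt N16362 (iv D51234)))
theorem Q18466 : ∀ i, i < 18466 → P i := stepQ 18465 Q18465 (allL N18465 (tt N20356 (iv F238016)) (tt N16365 F229453) (tt N17745 F229454) (tt N16363 (iv D51235)) (tt N20301 (iv F237729)) (tt N17305 F229455) (tt N17491 F229456) (tt N17300 F229457) (tt N20359 D53129) (tt N20360 D53130))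
theorem Q18467 : ∀ i, i < 18467 → P i := stepQ 18466 Q18466 (allL N18466 (tt N20357 (iv F238023)) (tt N16366 F229458) (tt N16383 F229459) (tt N20360 (iv F238045)) (tt N16364 F229460) (tt N17318 F229461) (tt N17492 F229462) (tt N17315 F229463) (tt N20361 D53131) (tt N16363 (iv D51236)))
theorem Q18468 : ∀ i, i < 18468 → P i := stepQ 18467 Q18467 (allL N18467 (tt N20358 (iv F238030)) (tt N16367 F229464) (tt N16384 F229465) (tt N20362 D53132) (tt N20361 (iv F238051)) (tt N16373 F229466) (tt N17493 F229467) (tt N20354 (iv F238010)) (tt N16364 (iv D51237)) (tt N18467 F229468))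
theorem Q18469 : ∀ i, i < 18469 → P i := stepQ 18468 Q18468 (allL N18468 (tt N17398 F229469) (tt N20359 (iv F238037)) (tt N17292 F229470) (tt N18468 F229471) (tt N20305 (iv F237752)) (tt N17194 F229472) (tt N17494 F229473) (tt N17195 F229474) (tt N16365 (iv D51238)) (tt N20363 D53133))
theorem Q18470 : ∀ i, i < 18470 → P i := stepQ 18469 Q18469 (allL N18469 (tt N17908 F229475) (tt N20360 (iv F238043)) (tt N17299 F229476) (tt N16366 F229477) (tt N20306 (iv F237759)) (tt N17306 F229478) (tt N17495 F229479) (tt N17302 F229480) (tt N20364 D53134) (tt N16365 (iv D51239)))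
theorem Q18471 : ∀ i, i < 18471 → P i := stepQ 18470 Q18470 (allL N18470 (tt N18047 F229481) (tt N20361 (iv F238049)) (tt N16368 F229482) (tt N20365 D53135) (tt N16367 F229483) (tt N17319 F229484) (tt N17496 F229485) (tt N17316 F229486) (tt N16366 (iv D51240)) (tt N18470 F229487))
theorem Q18472 : ∀ i, i < 18472 → P i := stepQ 18471 Q18471 (allL N18471 (tt N20242 (iv F237412)) (tt N20362 (iv F238056)) (tt N20174 (iv F236977)) (tt N16367 (iv D51241)) (tt N20366 D53136) (tt N16374 F229488) (tt N17497 F229489) (tt N20355 (iv F238014)) (tt N20310 (iv F237781)) (tt N18471 F229490))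
theorem Q18473 : ∀ i, i < 18473 → P i := stepQ 18472 Q18472 (allL N18472 (tt N16370 F229491) (tt N18027 F229492) (tt N16387 F229493) (tt N20315 (iv F237797)) (tt N18014 F229494) (tt N20353 (iv F238003)) (tt N18472 F229495) (tt N16372 F229496) (tt N20367 D53137) (tt N16369 (iv D51242)))
theorem Q18474 : ∀ i, i < 18474 → P i := stepQ 18473 Q18473 (allL N18473 (tt N20367 (iv F238079)) (tt N16371 F229497) (tt N16388 F229498) (tt N20368 D53138) (tt N18015 F229499) (tt N20354 (iv F238009)) (tt N18473 F229500) (tt N16373 F229501) (tt N16370 (iv D51243)) (tt N18473 F229502))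
theorem Q18475 : ∀ i, i < 18475 → P i := stepQ 18474 Q18474 (allL N18474 (tt N18040 F229503) (tt N20368 (iv F238086)) (tt N20175 (iv F236983)) (tt N16371 (iv D51244)) (tt N20369 D53139) (tt N20355 (iv F238013)) (tt N18474 F229504) (tt N16374 F229505) (tt N20317 (iv F237809)) (tt N18474 F229506))
theorem Q18476 : ∀ i, i < 18476 → P i := stepQ 18475 Q18475 (allL N18475 (tt N16373 F229507) (tt N18022 F229508) (tt N16390 F229509) (tt N20352 (iv F237995)) (tt N18021 F229510) (tt N20358 (iv F238033)) (tt N16375 F229511) (tt N20367 (iv F238084)) (tt N16372 (iv D51245)) (tt N18475 F229512))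
theorem Q18477 : ∀ i, i < 18477 → P i := stepQ 18476 Q18476 (allL N18476 (tt N20352 (iv F237993)) (tt N16374 F229513) (tt N20241 (iv F237408)) (tt N16373 (iv D51246)) (tt N20370 D53140) (tt N20362 (iv F238057)) (tt N16376 F229514) (tt N20368 (iv F238088)) (tt N20325 (iv F237856)) (tt N18476 F229515))
theorem Q18478 : ∀ i, i < 18478 → P i := stepQ 18477 Q18477 (allL N18477 (tt N18053 F229516) (tt N20370 (iv F238096)) (tt N20177 (iv F236996)) (tt N18050 F229517) (tt N16374 (iv D51247)) (tt N20371 D53141) (tt N16377 F229518) (tt N20369 (iv F238093)) (tt N20329 (iv F237878)) (tt N18477 F229519))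
theorem Q18479 : ∀ i, i < 18479 → P i := stepQ 18478 Q18478 (allL N18478 (tt N17324 F229520) (tt N16377 F229521) (tt N16931 F229522) (tt N17323 F229523) (tt N16376 (iv D51248)) (tt N16932 F229524) (tt N20370 (iv F238099)) (tt N18478 F229525) (tt N20335 (iv F237907)) (tt N18478 F229526))
theorem Q18480 : ∀ i, i < 18480 → P i := stepQ 18479 Q18479 (allL N18479 (tt N18063 F229527) (tt N16932 F229528) (tt N20166 (iv F236923)) (tt N18060 F229529) (tt N17119 F229530) (tt N16377 (iv D51249)) (tt N20372 D53142) (tt N18479 F229531) (tt N20338 (iv F237928)) (tt N18479 F229532))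
theorem Q18481 : ∀ i, i < 18481 → P i := stepQ 18480 Q18480 (allL N18480 (tt N16379 F229533) (tt N18480 F229534) (tt N20353 (iv F238001)) (tt N17148 F229535) (tt N17326 F229536) (tt N16387 F229537) (tt N17953 F229538) (tt N16382 F229539) (tt N20373 D53143) (tt N16378 (iv D51250)))
theorem Q18482 : ∀ i, i < 18482 → P i := stepQ 18481 Q18481 (allL N18481 (tt N20373 (iv F238110)) (tt N16380 F229540) (tt N20354 (iv F238007)) (tt N20374 D53144) (tt N17327 F229541) (tt N16388 F229542) (tt N20178 (iv F237005)) (tt N16384 F229543) (tt N16379 (iv D51251)) (tt N18481 F229544))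
theorem Q18483 : ∀ i, i < 18483 → P i := stepQ 18482 Q18482 (allL N18482 (tt N18482 F229545) (tt N20374 (iv F238117)) (tt N16668 F229546) (tt N16380 (iv D51252)) (tt N16667 F229547) (tt N16389 F229548) (tt N16836 F229549) (tt N16386 F229550) (tt N16666 F229551) (tt N18482 F229552))
theorem Q18484 : ∀ i, i < 18484 → P i := stepQ 18483 Q18483 (allL N18483 (tt N16383 F229553) (tt N18483 F229554) (tt N20357 (iv F238025)) (tt N17165 F229555) (tt N16382 F229556) (tt N17329 F229557) (tt N17167 F229558) (tt N17326 F229559) (tt N20375 D53145) (tt N16381 (iv D51253)))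
theorem Q18485 : ∀ i, i < 18485 → P i := stepQ 18484 Q18484 (allL N18484 (tt N16384 F229560) (tt N18484 F229561) (tt N20358 (iv F238032)) (tt N20003 (iv F235868)) (tt N20375 (iv F238127)) (tt N16390 F229562) (tt N17506 F229563) (tt N20373 (iv F238115)) (tt N16382 (iv D51254)) (tt N18484 F229564))
theorem Q18486 : ∀ i, i < 18486 → P i := stepQ 18485 Q18485 (allL N18485 (tt N20375 (iv F238124)) (tt N16385 F229565) (tt N20361 (iv F238050)) (tt N17717 F229566) (tt N16384 F229567) (tt N17330 F229568) (tt N17507 F229569) (tt N17327 F229570) (tt N16383 (iv D51255)) (tt N18485 F229571))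
theorem Q18487 : ∀ i, i < 18487 → P i := stepQ 18486 Q18486 (allL N18486 (tt N20003 (iv F235865)) (tt N16386 F229572) (tt N20238 (iv F237389)) (tt N16384 (iv D51256)) (tt N17691 F229573) (tt N16391 F229574) (tt N17508 F229575) (tt N20374 (iv F238121)) (tt N17152 F229576) (tt N18486 F229577))
theorem Q18488 : ∀ i, i < 18488 → P i := stepQ 18487 Q18487 (allL N18487 (tt N16388 F229578) (tt N18487 F229579) (tt N20367 (iv F238081)) (tt N20004 (iv F235876)) (tt N20007 (iv F235902)) (tt N20373 (iv F238113)) (tt N18487 F229580) (tt N16390 F229581) (tt N16387 (iv D51257)) (tt N18487 F229582))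
theorem Q18489 : ∀ i, i < 18489 → P i := stepQ 18488 Q18488 (allL N18488 (tt N20004 (iv F235873)) (tt N16389 F229583) (tt N20240 (iv F237401)) (tt N16388 (iv D51258)) (tt N20001 (iv F235851)) (tt N20374 (iv F238119)) (tt N18488 F229584) (tt N16391 F229585) (tt N17154 F229586) (tt N18488 F229587))
theorem Q18490 : ∀ i, i < 18490 → P i := stepQ 18489 Q18489 (allL N18489 (tt N18489 F229588) (tt N20001 (iv F235849)) (tt N16553 F229589) (tt N18012 F229590) (tt N16389 (iv D51259)) (tt N16557 F229591) (tt N18489 F229592) (tt N16392 F229593) (tt N16551 F229594) (tt N18489 F229595))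
theorem Q18491 : ∀ i, i < 18491 → P i := stepQ 18490 Q18490 (allL N18490 (tt N16397 F229596) (tt N16402 F229597) (tt N16425 F229598) (tt N18490 F229599) (tt N16454 F229600) (tt N16394 F229601) (tt N16400 F229602) (tt N16535 F229603) (tt N16393 (iv D51260)) (tt N18490 F229604))
theorem Q18492 : ∀ i, i < 18492 → P i := stepQ 18491 Q18491 (allL N18491 (tt N16400 F229605) (tt N18491 F229606) (tt N16449 F229607) (tt N18491 F229608) (tt N16431 F229609) (tt N18491 F229610) (tt N16397 F229611) (tt N16537 F229612) (tt N16395 (iv D51261)) (tt N18491 F229613))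
theorem Q18493 : ∀ i, i < 18493 → P i := stepQ 18492 Q18492 (allL N18492 (tt N16454 F229614) (tt N18492 F229615) (tt N16451 F229616) (tt N16490 F229617) (tt N16397 F229618) (tt N17552 F229619) (tt N16431 F229620) (tt N16542 F229621) (tt N16396 (iv D51262)) (tt N18492 F229622))
theorem Q18494 : ∀ i, i < 18494 → P i := stepQ 18493 Q18493 (allL N18493 (tt N17982 F229623) (tt N18493 F229624) (tt N17976 F229625) (tt N16398 (iv D51263)) (tt N18493 F229626) (tt N17984 F229627) (tt N18493 F229628) (tt N16544 F229629) (tt N18493 F229630) (tt N18493 F229631))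
theorem Q18495 : ∀ i, i < 18495 → P i := stepQ 18494 Q18494 (allL N18494 (tt N16449 F229632) (tt N17977 F229633) (tt N16400 F229634) (tt N16486 F229635) (tt N16456 F229636) (tt N18494 F229637) (tt N16425 F229638) (tt N16549 F229639) (tt N16399 (iv D51264)) (tt N18494 F229640))
theorem Q18496 : ∀ i, i < 18496 → P i := stepQ 18495 Q18495 (allL N18495 (tt N17978 F229641) (tt N16404 F229642) (tt N17977 F229643) (tt N17986 (iv F229649)) (tt N16458 F229644) (tt N18495 F229645) (tt N17546 F229646) (tt N16559 F229647) (tt N16403 (iv D51265)) (tt N18495 F229648))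
theorem Q18497 : ∀ i, i < 18497 → P i := stepQ 18496 Q18496 (allL N18496 (tt N16493 F229650) (tt N16417 F229651) (tt N18496 F229652) (tt N16631 F229653) (tt N16409 F229654) (tt N16465 F229655) (tt N16565 F229656) (tt N16406 F229657) (tt N16405 (iv D51266)) (tt N17991 F229658))
theorem Q18498 : ∀ i, i < 18498 → P i := stepQ 18497 Q18497 (allL N18497 (tt N16494 F229659) (tt N16418 F229660) (tt N16507 F229666) (tt N16406 (iv D51267)) (tt N16443 F229661) (tt N16466 F229662) (tt N16407 F229663) (tt N16631 F229664) (tt N16472 F229665) (tt N20376 D53146))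
theorem Q18499 : ∀ i, i < 18499 → P i := stepQ 18498 Q18498 (allL N18498 (tt N16495 F229667) (tt N16419 F229668) (tt N18498 F229669) (tt N20376 (iv F238135)) (tt N16410 F229670) (tt N16467 F229671) (tt N16408 F229672) (tt N17991 F229673) (tt N16462 F229674) (tt N16406 (iv D51268)))
theorem Q18500 : ∀ i, i < 18500 → P i := stepQ 18499 Q18499 (allL N18499 (tt N17210 F229675) (tt N16422 F229676) (tt N17533 F229677) (tt N16408 F229678) (tt N17532 F229679) (tt N17199 F229680) (tt N20376 (iv F238138)) (tt N16568 F229681) (tt N20377 D53147) (tt N16407 (iv D51269)))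
theorem Q18501 : ∀ i, i < 18501 → P i := stepQ 18500 Q18500 (allL N18500 (tt N16432 F229682) (tt N16472 F229683) (tt N16435 F229688) (tt N16412 (iv D51270)) (tt N16434 (iv F229689)) (tt N16461 F229684) (tt N16413 F229685) (tt N16613 F229686) (tt N16418 F229687) (tt N20378 D53148))
theorem Q18502 : ∀ i, i < 18502 → P i := stepQ 18501 Q18501 (allL N18501 (tt N16433 F229690) (tt N16473 F229691) (tt N18501 F229692) (tt N20378 (iv F238151)) (tt N18501 F229693) (tt N16462 F229694) (tt N16414 F229695) (tt N17990 F229696) (tt N16467 F229697) (tt N16412 (iv D51271)))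
theorem Q18503 : ∀ i, i < 18503 → P i := stepQ 18502 Q18502 (allL N18502 (tt N16434 F229698) (tt N16517 F229699) (tt N16413 (iv D51272)) (tt N18502 F229700) (tt N16432 (iv F229705)) (tt N16515 F229701) (tt N16435 F229702) (tt N16575 F229703) (tt N16420 F229704) (tt N20379 D53149))
theorem Q18504 : ∀ i, i < 18504 → P i := stepQ 18503 Q18503 (allL N18503 (tt N16435 F229706) (tt N17207 F229707) (tt N16432 F229708) (tt N18503 F229709) (tt N16413 (iv D51273)) (tt N17205 F229710) (tt N16434 F229711) (tt N16576 F229712) (tt N16421 F229713) (tt N20380 D53150))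
theorem Q18505 : ∀ i, i < 18505 → P i := stepQ 18504 Q18504 (allL N18504 (tt N16436 F229714) (tt N17525 F229715) (tt N20379 (iv F238158)) (tt N16414 F229716) (tt N20380 (iv F238168)) (tt N17510 F229717) (tt N20378 (iv F238154)) (tt N16577 F229718) (tt N20381 D53151) (tt N16413 (iv D51274)))
theorem Q18506 : ∀ i, i < 18506 → P i := stepQ 18505 Q18505 (allL N18505 (tt N16437 F229719) (tt N16465 F229720) (tt N16427 F229721) (tt N16633 F229722) (tt N18505 F229723) (tt N16417 F229724) (tt N16675 F229725) (tt N16416 F229726) (tt N16415 (iv D51275)) (tt N20060 (iv F236273)))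
theorem Q18507 : ∀ i, i < 18507 → P i := stepQ 18506 Q18506 (allL N18506 (tt N16438 F229727) (tt N16466 F229728) (tt N16445 F229729) (tt N16416 (iv D51276)) (tt N16463 (iv F229734)) (tt N16418 F229730) (tt N16459 F229731) (tt N16633 F229732) (tt N16461 F229733) (tt N20382 D53152))
theorem Q18508 : ∀ i, i < 18508 → P i := stepQ 18507 Q18507 (allL N18507 (tt N16439 F229735) (tt N16467 F229736) (tt N16428 F229737) (tt N20382 (iv F238181)) (tt N18507 F229738) (tt N16419 F229739) (tt N16460 F229740) (tt N20060 (iv F236272)) (tt N16473 F229741) (tt N16416 (iv D51277)))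
theorem Q18509 : ∀ i, i < 18509 → P i := stepQ 18508 Q18508 (allL N18508 (tt N16441 F229742) (tt N17991 F229743) (tt N16429 F229744) (tt N16634 F229745) (tt N16423 F229746) (tt N20060 (iv F236270)) (tt N16583 F229747) (tt N16419 F229748) (tt N16475 F229749) (tt N16417 (iv D51278)))
theorem Q18510 : ∀ i, i < 18510 → P i := stepQ 18509 Q18509 (allL N18509 (tt N16442 F229750) (tt N20376 (iv F238133)) (tt N16446 F229751) (tt N16419 F229752) (tt N16444 F229753) (tt N20382 (iv F238183)) (tt N16422 F229754) (tt N16634 F229755) (tt N20383 D53153) (tt N16418 (iv D51279)))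
theorem Q18511 : ∀ i, i < 18511 → P i := stepQ 18510 Q18510 (allL N18510 (tt N16444 F229756) (tt N20012 (iv F235943)) (tt N16422 F229757) (tt N16430 F229758) (tt N16442 F229759) (tt N17512 F229760) (tt N16446 F229761) (tt N16588 F229762) (tt N20384 D53154) (tt N16420 (iv D51280)))
theorem Q18512 : ∀ i, i < 18512 → P i := stepQ 18511 Q18511 (allL N18511 (tt N16446 F229763) (tt N17532 F229764) (tt N16442 F229765) (tt N16424 F229766) (tt N16422 F229767) (tt N17535 F229768) (tt N16444 F229769) (tt N16589 F229770) (tt N20385 D53155) (tt N16421 (iv D51281)))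
theorem Q18513 : ∀ i, i < 18513 → P i := stepQ 18512 Q18512 (allL N18512 (tt N16447 F229771) (tt N20377 (iv F238141)) (tt N20384 (iv F238193)) (tt N16483 F229772) (tt N20385 (iv F238201)) (tt N17513 F229773) (tt N20383 (iv F238190)) (tt N16590 F229774) (tt N16422 (iv D51282)) (tt N20381 (iv F238177)))
theorem Q18514 : ∀ i, i < 18514 → P i := stepQ 18513 Q18513 (allL N18513 (tt N16451 F229775) (tt N17545 F229776) (tt N16454 F229777) (tt N20386 D53156) (tt N16425 F229778) (tt N17547 F229779) (tt N16456 F229780) (tt N16594 F229781) (tt N16424 (iv D51283)) (tt N18513 F229782))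
theorem Q18515 : ∀ i, i < 18515 → P i := stepQ 18514 Q18514 (allL N18514 (tt N16456 F229783) (tt N17975 F229784) (tt N16431 F229785) (tt N20387 D53157) (tt N16449 F229786) (tt N17515 F229787) (tt N16451 F229788) (tt N16602 F229789) (tt N16430 (iv D51284)) (tt N18514 F229790))
theorem Q18516 : ∀ i, i < 18516 → P i := stepQ 18515 Q18515 (allL N18515 (tt N20378 (iv F238148)) (tt N17540 F229791) (tt N20380 (iv F238166)) (tt N16433 F229792) (tt N20379 (iv F238160)) (tt N17538 F229793) (tt N16436 F229794) (tt N17680 F229795) (tt N20388 D53158) (tt N16432 (iv D51285)))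
theorem Q18517 : ∀ i, i < 18517 → P i := stepQ 18516 Q18516 (allL N18516 (tt N16507 F229796) (tt N16434 (iv D51286)) (tt N16494 F229797) (tt N18516 F229798) (tt N16472 F229799) (tt N16498 F229800) (tt N17207 F229801) (tt N16612 F229802) (tt N16443 F229803) (tt N20389 D53159))
theorem Q18518 : ∀ i, i < 18518 → P i := stepQ 18517 Q18517 (allL N18517 (tt N20379 (iv F238156)) (tt N20389 (iv F238228)) (tt N16436 F229804) (tt N18517 F229805) (tt N20378 (iv F238152)) (tt N17516 F229806) (tt N20380 (iv F238170)) (tt N16614 F229807) (tt N20390 D53160) (tt N16434 (iv D51287)))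
theorem Q18519 : ∀ i, i < 18519 → P i := stepQ 18518 Q18518 (allL N18518 (tt N17205 F229808) (tt N16469 F229809) (tt N16461 F229810) (tt N18518 F229811) (tt N16459 F229812) (tt N16435 (iv D51288)) (tt N16463 F229813) (tt N16615 F229814) (tt N16445 F229815) (tt N20391 D53161))
theorem Q18520 : ∀ i, i < 18520 → P i := stepQ 18519 Q18519 (allL N18519 (tt N20380 (iv F238164)) (tt N20010 (iv F235927)) (tt N20378 (iv F238150)) (tt N18519 F229816) (tt N16436 F229817) (tt N20391 (iv F238244)) (tt N20379 (iv F238162)) (tt N16616 F229818) (tt N20392 D53162) (tt N16435 (iv D51289)))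
theorem Q18521 : ∀ i, i < 18521 → P i := stepQ 18520 Q18520 (allL N18520 (tt N20381 (iv F238172)) (tt N20011 (iv F235935)) (tt N20390 (iv F238235)) (tt N16506 F229819) (tt N20392 (iv F238247)) (tt N17517 F229820) (tt N20388 (iv F238224)) (tt N16617 F229821) (tt N16436 (iv D51290)) (tt N16447 F229822))
theorem Q18522 : ∀ i, i < 18522 → P i := stepQ 18521 Q18521 (allL N18521 (tt N20382 (iv F238178)) (tt N17203 F229823) (tt N17535 F229824) (tt N16439 F229825) (tt N17530 F229826) (tt N16442 F229827) (tt N17206 F229828) (tt N17643 F229829) (tt N20393 D53163) (tt N16438 (iv D51291)))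
theorem Q18523 : ∀ i, i < 18523 → P i := stepQ 18522 Q18522 (allL N18522 (tt N16634 F229830) (tt N17221 F229831) (tt N16589 F229832) (tt N16441 F229833) (tt N16588 F229834) (tt N17643 F229835) (tt N16624 F229836) (tt N16442 F229837) (tt N20394 D53164) (tt N16440 (iv D51292)))
theorem Q18524 : ∀ i, i < 18524 → P i := stepQ 18523 Q18523 (allL N18523 (tt N20383 (iv F238186)) (tt N20013 (iv F235951)) (tt N20385 (iv F238200)) (tt N16513 F229838) (tt N20384 (iv F238194)) (tt N20393 (iv F238254)) (tt N16447 F229839) (tt N20394 (iv F238265)) (tt N16442 (iv D51293)) (tt N20388 (iv F238226)))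
theorem Q18525 : ∀ i, i < 18525 → P i := stepQ 18524 Q18524 (allL N18524 (tt N20021 (iv F236012)) (tt N16444 F229840) (tt N16508 F229841) (tt N16455 F229842) (tt N20376 (iv F238136)) (tt N16511 F229843) (tt N17532 F229844) (tt N16632 F229845) (tt N20395 D53165) (tt N16443 (iv D51294)))
theorem Q18526 : ∀ i, i < 18526 → P i := stepQ 18525 Q18525 (allL N18525 (tt N20384 (iv F238192)) (tt N20395 (iv F238267)) (tt N16447 F229846) (tt N20396 D53166) (tt N20383 (iv F238189)) (tt N17520 F229847) (tt N20385 (iv F238203)) (tt N16635 F229848) (tt N16444 (iv D51295)) (tt N20390 (iv F238238)))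
theorem Q18527 : ∀ i, i < 18527 → P i := stepQ 18526 Q18526 (allL N18526 (tt N17535 F229849) (tt N16482 F229850) (tt N20382 (iv F238180)) (tt N16450 F229851) (tt N16464 F229852) (tt N16446 F229853) (tt N17537 F229854) (tt N16637 F229855) (tt N20397 D53167) (tt N16445 (iv D51296)))
theorem Q18528 : ∀ i, i < 18528 → P i := stepQ 18527 Q18527 (allL N18527 (tt N20385 (iv F238198)) (tt N20016 (iv F235975)) (tt N20383 (iv F238187)) (tt N20398 D53168) (tt N16447 F229856) (tt N20397 (iv F238279)) (tt N20384 (iv F238196)) (tt N16638 F229857) (tt N16446 (iv D51297)) (tt N20392 (iv F238249)))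
theorem Q18529 : ∀ i, i < 18529 → P i := stepQ 18528 Q18528 (allL N18528 (tt N17547 F229858) (tt N16487 F229859) (tt N17552 F229860) (tt N20399 D53169) (tt N16452 F229861) (tt N16451 F229862) (tt N17549 F229863) (tt N16644 F229864) (tt N16450 (iv D51298)) (tt N18528 F229865))
theorem Q18530 : ∀ i, i < 18530 → P i := stepQ 18529 Q18529 (allL N18529 (tt N20386 (iv F238205)) (tt N20017 (iv F235980)) (tt N20400 D53170) (tt N16451 (iv D51299)) (tt N16527 F229866) (tt N20399 (iv F238289)) (tt N20387 (iv F238218)) (tt N16645 F229867) (tt N20398 (iv F238284)) (tt N18529 F229868))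
theorem Q18531 : ∀ i, i < 18531 → P i := stepQ 18530 Q18530 (allL N18530 (tt N17979 F229869) (tt N16456 F229870) (tt N16458 F229871) (tt N20401 D53171) (tt N17977 F229872) (tt N16528 F229873) (tt N17545 F229874) (tt N16659 F229875) (tt N16455 (iv D51300)) (tt N18530 F229876))
theorem Q18532 : ∀ i, i < 18532 → P i := stepQ 18531 Q18531 (allL N18531 (tt N20387 (iv F238213)) (tt N20401 (iv F238302)) (tt N16531 F229877) (tt N16456 (iv D51301)) (tt N20402 D53172) (tt N17522 F229878) (tt N20386 (iv F238210)) (tt N16660 F229879) (tt N20396 (iv F238275)) (tt N18531 F229880))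
theorem Q18533 : ∀ i, i < 18533 → P i := stepQ 18532 Q18532 (allL N18532 (tt N16458 F229881) (tt N18532 F229882) (tt N17979 F229883) (tt N17552 F229884) (tt N17978 F229885) (tt N16490 F229886) (tt N17528 F229887) (tt N16672 F229888) (tt N16457 (iv D51302)) (tt N18532 F229889))
theorem Q18534 : ∀ i, i < 18534 → P i := stepQ 18533 Q18533 (allL N18533 (tt N17206 F229890) (tt N16470 F229891) (tt N17537 F229892) (tt N16460 F229893) (tt N20391 (iv F238243)) (tt N17511 F229894) (tt N20382 (iv F238184)) (tt N16678 F229895) (tt N20403 D53173) (tt N16459 (iv D51303)))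
theorem Q18535 : ∀ i, i < 18535 → P i := stepQ 18534 Q18534 (allL N18534 (tt N17538 F229896) (tt N16478 F229897) (tt N20391 (iv F238241)) (tt N16462 F229898) (tt N17537 F229899) (tt N20378 (iv F238153)) (tt N16464 F229900) (tt N17678 F229901) (tt N20404 D53174) (tt N16461 (iv D51304)))
theorem Q18536 : ∀ i, i < 18536 → P i := stepQ 18535 Q18535 (allL N18535 (tt N16499 F229902) (tt N16463 (iv D51305)) (tt N16479 F229903) (tt N18535 F229904) (tt N16466 F229905) (tt N16510 F229906) (tt N16469 F229907) (tt N16686 F229908) (tt N16477 F229909) (tt N20405 D53175))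
theorem Q18537 : ∀ i, i < 18537 → P i := stepQ 18536 Q18536 (allL N18536 (tt N17530 F229910) (tt N20405 (iv F238329)) (tt N16464 F229911) (tt N18536 F229912) (tt N20382 (iv F238182)) (tt N17519 F229913) (tt N20391 (iv F238245)) (tt N16687 F229914) (tt N20406 D53176) (tt N16463 (iv D51306)))
theorem Q18538 : ∀ i, i < 18538 → P i := stepQ 18537 Q18537 (allL N18537 (tt N20018 (iv F235986)) (tt N16483 F229915) (tt N20406 (iv F238337)) (tt N20377 (iv F238143)) (tt N20397 (iv F238278)) (tt N17521 F229916) (tt N20404 (iv F238326)) (tt N16688 F229917) (tt N16464 (iv D51307)) (tt N20403 (iv F238322)))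
theorem Q18539 : ∀ i, i < 18539 → P i := stepQ 18538 Q18538 (allL N18538 (tt N16496 F229918) (tt N16633 F229919) (tt N16720 F229924) (tt N16465 (iv D51308)) (tt N16686 (iv F229925)) (tt N16631 F229920) (tt N16694 F229921) (tt N16466 F229922) (tt N16474 F229923) (tt N20407 D53177))
theorem Q18540 : ∀ i, i < 18540 → P i := stepQ 18539 Q18539 (allL N18539 (tt N16497 F229926) (tt N20060 (iv F236267)) (tt N18539 F229927) (tt N20407 (iv F238344)) (tt N18539 F229928) (tt N17991 F229929) (tt N16695 F229930) (tt N16467 F229931) (tt N17990 F229932) (tt N16465 (iv D51309)))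
theorem Q18541 : ∀ i, i < 18541 → P i := stepQ 18540 Q18540 (allL N18540 (tt N16498 F229933) (tt N16480 F229934) (tt N16466 (iv D51310)) (tt N18540 F229935) (tt N16479 F229936) (tt N16507 F229937) (tt N16468 F229938) (tt N16720 F229939) (tt N16476 F229940) (tt N20408 D53178))
theorem Q18542 : ∀ i, i < 18542 → P i := stepQ 18541 Q18541 (allL N18541 (tt N16500 F229941) (tt N20382 (iv F238179)) (tt N20408 (iv F238351)) (tt N16467 F229942) (tt N20405 (iv F238332)) (tt N20376 (iv F238137)) (tt N16470 F229943) (tt N20407 (iv F238348)) (tt N20409 D53179) (tt N16466 (iv D51311)))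
theorem Q18543 : ∀ i, i < 18543 → P i := stepQ 18542 Q18542 (allL N18542 (tt N16510 F229944) (tt N16468 (iv D51312)) (tt N16477 F229945) (tt N18542 F229946) (tt N16476 (iv F229951)) (tt N16499 F229947) (tt N16480 F229948) (tt N16699 F229949) (tt N16479 F229950) (tt N20410 D53180))
theorem Q18544 : ∀ i, i < 18544 → P i := stepQ 18543 Q18543 (allL N18543 (tt N16502 F229952) (tt N16476 F229953) (tt N16469 F229954) (tt N16488 F229959) (tt N16468 (iv D51313)) (tt N16520 F229955) (tt N16479 F229956) (tt N16700 F229957) (tt N16480 F229958) (tt N20411 D53181))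
theorem Q18545 : ∀ i, i < 18545 → P i := stepQ 18544 Q18544 (allL N18544 (tt N16503 F229960) (tt N20410 (iv F238361)) (tt N16470 F229961) (tt N18544 F229962) (tt N20411 (iv F238372)) (tt N17523 F229963) (tt N20408 (iv F238355)) (tt N16701 F229964) (tt N20412 D53182) (tt N16468 (iv D51314)))
theorem Q18546 : ∀ i, i < 18546 → P i := stepQ 18545 Q18545 (allL N18545 (tt N16505 F229965) (tt N20391 (iv F238240)) (tt N20411 (iv F238370)) (tt N18545 F229966) (tt N16470 F229967) (tt N20010 (iv F235931)) (tt N20405 (iv F238334)) (tt N16702 F229968) (tt N20413 D53183) (tt N16469 (iv D51315)))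
theorem Q18547 : ∀ i, i < 18547 → P i := stepQ 18546 Q18546 (allL N18546 (tt N16506 F229969) (tt N20403 (iv F238317)) (tt N20412 (iv F238377)) (tt N20381 (iv F238174)) (tt N20413 (iv F238382)) (tt N17524 F229970) (tt N20409 (iv F238358)) (tt N16703 F229971) (tt N16470 (iv D51316)) (tt N16483 F229972))
theorem Q18548 : ∀ i, i < 18548 → P i := stepQ 18547 Q18547 (allL N18547 (tt N16508 F229973) (tt N20378 (iv F238149)) (tt N20021 (iv F236014)) (tt N16473 F229974) (tt N20389 (iv F238231)) (tt N16478 F229975) (tt N17525 F229976) (tt N20050 (iv F236205)) (tt N20414 D53184) (tt N16472 (iv D51317)))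
theorem Q18549 : ∀ i, i < 18549 → P i := stepQ 18548 Q18548 (allL N18548 (tt N16509 F229977) (tt N17678 F229978) (tt N17595 F229979) (tt N16475 F229980) (tt N17625 F229981) (tt N20050 (iv F236204)) (tt N16712 F229982) (tt N16478 F229983) (tt N20415 D53185) (tt N16474 (iv D51318)))
theorem Q18550 : ∀ i, i < 18550 → P i := stepQ 18549 Q18549 (allL N18549 (tt N16511 F229984) (tt N20411 (iv F238369)) (tt N16478 F229985) (tt N16489 F229986) (tt N20410 (iv F238364)) (tt N20021 (iv F236017)) (tt N16481 F229987) (tt N17595 F229988) (tt N20416 D53186) (tt N16476 (iv D51319)))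
theorem Q18551 : ∀ i, i < 18551 → P i := stepQ 18550 Q18550 (allL N18550 (tt N16479 F229989) (tt N16514 F229990) (tt N16499 F229991) (tt N16484 F229992) (tt N16498 F229993) (tt N16477 (iv D51320)) (tt N16502 F229994) (tt N16719 F229995) (tt N16510 F229996) (tt N20417 D53187))
theorem Q18552 : ∀ i, i < 18552 → P i := stepQ 18551 Q18551 (allL N18551 (tt N16512 F229997) (tt N17537 F229998) (tt N20410 (iv F238362)) (tt N16485 F229999) (tt N16478 F230000) (tt N20417 (iv F238404)) (tt N16482 F230001) (tt N17625 F230002) (tt N20418 D53188) (tt N16477 (iv D51321)))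
theorem Q18553 : ∀ i, i < 18553 → P i := stepQ 18552 Q18552 (allL N18552 (tt N16513 F230003) (tt N20404 (iv F238324)) (tt N20416 (iv F238396)) (tt N20383 (iv F238188)) (tt N20418 (iv F238409)) (tt N20414 (iv F238386)) (tt N16483 F230004) (tt N20415 (iv F238394)) (tt N16478 (iv D51322)) (tt N20409 (iv F238359)))
theorem Q18554 : ∀ i, i < 18554 → P i := stepQ 18553 Q18553 (allL N18553 (tt N20417 (iv F238399)) (tt N16481 F230005) (tt N20405 (iv F238330)) (tt N16491 F230006) (tt N20408 (iv F238353)) (tt N16512 F230007) (tt N20411 (iv F238374)) (tt N16721 F230008) (tt N20419 D53189) (tt N16479 (iv D51323)))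
theorem Q18555 : ∀ i, i < 18555 → P i := stepQ 18554 Q18554 (allL N18554 (tt N16518 F230009) (tt N20408 (iv F238350)) (tt N16482 F230010) (tt N18554 F230011) (tt N16481 F230012) (tt N20014 (iv F235963)) (tt N20410 (iv F238366)) (tt N16722 F230013) (tt N20420 D53190) (tt N16480 (iv D51324)))
theorem Q18556 : ∀ i, i < 18556 → P i := stepQ 18555 Q18555 (allL N18555 (tt N16519 F230014) (tt N20419 (iv F238412)) (tt N16483 F230015) (tt N20421 D53191) (tt N20420 (iv F238417)) (tt N17527 F230016) (tt N20416 (iv F238397)) (tt N16723 F230017) (tt N16481 (iv D51325)) (tt N20412 (iv F238380)))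
theorem Q18557 : ∀ i, i < 18557 → P i := stepQ 18556 Q18556 (allL N18556 (tt N16522 F230018) (tt N20397 (iv F238277)) (tt N20420 (iv F238416)) (tt N20422 D53192) (tt N16483 F230019) (tt N20016 (iv F235977)) (tt N20418 (iv F238410)) (tt N16724 F230020) (tt N16482 (iv D51326)) (tt N20413 (iv F238384)))
theorem Q18558 : ∀ i, i < 18558 → P i := stepQ 18557 Q18557 (allL N18557 (tt N16491 F230021) (tt N16529 F230022) (tt N18557 F230023) (tt N20417 (iv F238402)) (tt N18557 F230024) (tt N16485 F230025) (tt N17514 F230026) (tt N16745 F230027) (tt N20423 D53193) (tt N16484 (iv D51327)))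
theorem Q18559 : ∀ i, i < 18559 → P i := stepQ 18558 Q18558 (allL N18558 (tt N16523 F230028) (tt N17549 F230029) (tt N18558 F230030) (tt N20402 (iv F238312)) (tt N16486 F230031) (tt N20423 (iv F238430)) (tt N16487 F230032) (tt N17633 F230033) (tt N16485 (iv D51328)) (tt N18558 F230034))
theorem Q18560 : ∀ i, i < 18560 → P i := stepQ 18559 Q18559 (allL N18559 (tt N16527 F230035) (tt N20399 (iv F238286)) (tt N20424 D53194) (tt N16487 (iv D51329)) (tt N20386 (iv F238208)) (tt N20017 (iv F235982)) (tt N20402 (iv F238313)) (tt N16730 F230036) (tt N20422 (iv F238425)) (tt N18559 F230037))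
theorem Q18561 : ∀ i, i < 18561 → P i := stepQ 18560 Q18560 (allL N18560 (tt N17514 F230038) (tt N16489 F230039) (tt N18560 F230040) (tt N20411 (iv F238371)) (tt N18560 F230041) (tt N16525 F230042) (tt N16491 F230043) (tt N17571 F230044) (tt N17980 (iv F230045)) (tt N16488 (iv D51330)))
theorem Q18562 : ∀ i, i < 18562 → P i := stepQ 18561 Q18561 (allL N18561 (tt N16528 F230046) (tt N17980 F230047) (tt N16490 F230048) (tt N20400 (iv F238294)) (tt N18561 F230049) (tt N17979 F230050) (tt N16492 F230051) (tt N17605 F230052) (tt N16489 (iv D51331)) (tt N18561 F230053))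
theorem Q18563 : ∀ i, i < 18563 → P i := stepQ 18562 Q18562 (allL N18562 (tt N20423 (iv F238426)) (tt N16492 F230054) (tt N18562 F230055) (tt N20425 D53195) (tt N18562 F230056) (tt N16523 F230057) (tt N17980 F230058) (tt N16746 F230059) (tt N16491 (iv D51332)) (tt N18562 F230060))
theorem Q18564 : ∀ i, i < 18564 → P i := stepQ 18563 Q18563 (allL N18563 (tt N16531 F230061) (tt N20425 (iv F238441)) (tt N20387 (iv F238215)) (tt N16492 (iv D51333)) (tt N20426 D53196) (tt N17529 F230062) (tt N20400 (iv F238297)) (tt N16747 F230063) (tt N20421 (iv F238422)) (tt N18563 F230064))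
theorem Q18565 : ∀ i, i < 18565 → P i := stepQ 18564 Q18564 (allL N18564 (tt N20376 (iv F238132)) (tt N17543 F230065) (tt N20389 (iv F238229)) (tt N16495 F230066) (tt N20021 (iv F236016)) (tt N16500 F230067) (tt N17210 F230068) (tt N17992 F230069) (tt N20427 D53197) (tt N16494 (iv D51334)))
theorem Q18566 : ∀ i, i < 18566 → P i := stepQ 18565 Q18565 (allL N18565 (tt N20407 (iv F238341)) (tt N17215 F230070) (tt N17579 F230071) (tt N16497 F230072) (tt N17613 F230073) (tt N17992 F230074) (tt N16759 F230075) (tt N16500 F230076) (tt N20428 D53198) (tt N16496 (iv D51335)))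
theorem Q18567 : ∀ i, i < 18567 → P i := stepQ 18566 Q18566 (allL N18566 (tt N20408 (iv F238349)) (tt N17516 F230077) (tt N16500 F230078) (tt N18566 F230079) (tt N20417 (iv F238403)) (tt N20389 (iv F238232)) (tt N16503 F230080) (tt N17579 F230081) (tt N20429 D53199) (tt N16498 (iv D51336)))
theorem Q18568 : ∀ i, i < 18568 → P i := stepQ 18567 Q18567 (allL N18567 (tt N20405 (iv F238328)) (tt N17523 F230082) (tt N20417 (iv F238401)) (tt N18567 F230083) (tt N16500 F230084) (tt N20410 (iv F238365)) (tt N16505 F230085) (tt N17613 F230086) (tt N20430 D53200) (tt N16499 (iv D51337)))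
theorem Q18569 : ∀ i, i < 18569 → P i := stepQ 18568 Q18568 (allL N18568 (tt N20409 (iv F238357)) (tt N20019 (iv F235996)) (tt N20429 (iv F238467)) (tt N20388 (iv F238222)) (tt N20430 (iv F238472)) (tt N20427 (iv F238454)) (tt N16506 F230087) (tt N20428 (iv F238464)) (tt N16500 (iv D51338)) (tt N16513 F230088))
theorem Q18570 : ∀ i, i < 18570 → P i := stepQ 18569 Q18569 (allL N18569 (tt N17519 F230089) (tt N16503 F230090) (tt N17198 F230091) (tt N18569 F230092) (tt N17512 F230093) (tt N17530 F230094) (tt N17516 F230095) (tt N16766 F230096) (tt N20431 D53201) (tt N16501 (iv D51339)))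
theorem Q18571 : ∀ i, i < 18571 → P i := stepQ 18570 Q18570 (allL N18570 (tt N20411 (iv F238368)) (tt N17512 F230097) (tt N16505 F230098) (tt N17514 F230099) (tt N16503 F230100) (tt N20012 (iv F235947)) (tt N20417 (iv F238405)) (tt N16767 F230101) (tt N20432 D53202) (tt N16502 (iv D51340)))
theorem Q18572 : ∀ i, i < 18572 → P i := stepQ 18571 Q18571 (allL N18571 (tt N20412 (iv F238376)) (tt N20431 (iv F238477)) (tt N16506 F230102) (tt N20433 D53203) (tt N20432 (iv F238486)) (tt N17531 F230103) (tt N20429 (iv F238468)) (tt N16768 F230104) (tt N16503 (iv D51341)) (tt N16519 F230105))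
theorem Q18573 : ∀ i, i < 18573 → P i := stepQ 18572 Q18572 (allL N18572 (tt N20010 (iv F235926)) (tt N17533 F230106) (tt N20012 (iv F235944)) (tt N18572 F230107) (tt N17202 F230108) (tt N16505 F230109) (tt N20014 (iv F235964)) (tt N16770 F230110) (tt N20434 D53204) (tt N16504 (iv D51342)))
theorem Q18574 : ∀ i, i < 18574 → P i := stepQ 18573 Q18573 (allL N18573 (tt N20413 (iv F238381)) (tt N20020 (iv F236005)) (tt N20432 (iv F238485)) (tt N20435 D53205) (tt N16506 F230111) (tt N20434 (iv F238495)) (tt N20430 (iv F238473)) (tt N16771 F230112) (tt N16505 (iv D51343)) (tt N16522 F230113))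
theorem Q18575 : ∀ i, i < 18575 → P i := stepQ 18574 Q18574 (allL N18574 (tt N20389 (iv F238227)) (tt N20014 (iv F235959)) (tt N20376 (iv F238134)) (tt N18574 F230114) (tt N16508 F230115) (tt N20408 (iv F238354)) (tt N17533 F230116) (tt N20051 (iv F236212)) (tt N20436 D53206) (tt N16507 (iv D51344)))
theorem Q18576 : ∀ i, i < 18576 → P i := stepQ 18575 Q18575 (allL N18575 (tt N20414 (iv F238385)) (tt N20015 (iv F235967)) (tt N20395 (iv F238268)) (tt N20393 (iv F238252)) (tt N20436 (iv F238501)) (tt N16513 F230117) (tt N17534 F230118) (tt N20052 (iv F236217)) (tt N16508 (iv D51345)) (tt N20427 (iv F238457)))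
theorem Q18577 : ∀ i, i < 18577 → P i := stepQ 18576 Q18576 (allL N18576 (tt N20415 (iv F238388)) (tt N17220 F230119) (tt N17597 F230120) (tt N20394 (iv F238261)) (tt N17626 F230121) (tt N20052 (iv F236216)) (tt N16787 F230122) (tt N16513 F230123) (tt N16509 (iv D51346)) (tt N20428 (iv F238465)))
theorem Q18578 : ∀ i, i < 18578 → P i := stepQ 18577 Q18577 (allL N18577 (tt N20410 (iv F238360)) (tt N17519 F230124) (tt N16512 F230125) (tt N18577 F230126) (tt N16511 F230127) (tt N20405 (iv F238333)) (tt N16518 F230128) (tt N17596 F230129) (tt N20437 D53207) (tt N16510 (iv D51347)))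
theorem Q18579 : ∀ i, i < 18579 → P i := stepQ 18578 Q18578 (allL N18578 (tt N20416 (iv F238395)) (tt N17520 F230130) (tt N16513 F230131) (tt N20438 D53208) (tt N20437 (iv F238505)) (tt N20395 (iv F238269)) (tt N16519 F230132) (tt N17597 F230133) (tt N16511 (iv D51348)) (tt N20429 (iv F238470)))
theorem Q18580 : ∀ i, i < 18580 → P i := stepQ 18579 Q18579 (allL N18579 (tt N20418 (iv F238407)) (tt N17527 F230134) (tt N20437 (iv F238504)) (tt N20439 D53209) (tt N16513 F230135) (tt N20419 (iv F238413)) (tt N16522 F230136) (tt N17626 F230137) (tt N16512 (iv D51349)) (tt N20430 (iv F238475)))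
theorem Q18581 : ∀ i, i < 18581 → P i := stepQ 18580 Q18580 (allL N18580 (tt N16516 F230138) (tt N20417 (iv F238400)) (tt N17511 F230139) (tt N16529 F230140) (tt N17516 F230141) (tt N17537 F230142) (tt N17512 F230143) (tt N16797 F230144) (tt N20440 D53210) (tt N16514 (iv D51350)))
theorem Q18582 : ∀ i, i < 18582 → P i := stepQ 18581 Q18581 (allL N18581 (tt N17516 F230145) (tt N16518 F230146) (tt N17510 F230147) (tt N18581 F230148) (tt N16516 F230149) (tt N20379 (iv F238161)) (tt N17519 F230150) (tt N16798 F230151) (tt N20441 D53211) (tt N16515 (iv D51351)))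
theorem Q18583 : ∀ i, i < 18583 → P i := stepQ 18582 Q18582 (allL N18582 (tt N20440 (iv F238516)) (tt N16519 F230152) (tt N17518 F230153) (tt N20442 D53212) (tt N20441 (iv F238526)) (tt N17539 F230154) (tt N17520 F230155) (tt N16799 F230156) (tt N16516 (iv D51352)) (tt N20431 (iv F238483)))
theorem Q18584 : ∀ i, i < 18584 → P i := stepQ 18583 Q18583 (allL N18583 (tt N20014 (iv F235958)) (tt N20379 (iv F238157)) (tt N16521 F230157) (tt N18583 F230158) (tt N17540 F230159) (tt N16518 F230160) (tt N20010 (iv F235932)) (tt N16801 F230161) (tt N20443 D53213) (tt N16517 (iv D51353)))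
theorem Q18585 : ∀ i, i < 18585 → P i := stepQ 18584 Q18584 (allL N18584 (tt N20420 (iv F238415)) (tt N20441 (iv F238524)) (tt N16522 F230162) (tt N20444 D53214) (tt N16519 F230163) (tt N20443 (iv F238538)) (tt N20437 (iv F238506)) (tt N16802 F230164) (tt N16518 (iv D51354)) (tt N20432 (iv F238488)))
theorem Q18586 : ∀ i, i < 18586 → P i := stepQ 18585 Q18585 (allL N18585 (tt N20421 (iv F238419)) (tt N20442 (iv F238530)) (tt N20396 (iv F238272)) (tt N16519 (iv D51355)) (tt N20445 D53215) (tt N17542 F230165) (tt N20438 (iv F238509)) (tt N16803 F230166) (tt N16531 F230167) (tt N20433 (iv F238492)))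
theorem Q18587 : ∀ i, i < 18587 → P i := stepQ 18586 Q18586 (allL N18586 (tt N20012 (iv F235942)) (tt N20021 (iv F236013)) (tt N20010 (iv F235928)) (tt N16525 F230168) (tt N17543 F230169) (tt N20411 (iv F238373)) (tt N16521 F230170) (tt N17993 F230171) (tt N20446 D53216) (tt N16520 (iv D51356)))
theorem Q18588 : ∀ i, i < 18588 → P i := stepQ 18587 Q18587 (allL N18587 (tt N20016 (iv F235974)) (tt N20022 (iv F236021)) (tt N20443 (iv F238536)) (tt N20447 D53217) (tt N17544 F230172) (tt N16522 F230173) (tt N20446 (iv F238546)) (tt N16806 F230174) (tt N16521 (iv D51357)) (tt N20434 (iv F238497)))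
theorem Q18589 : ∀ i, i < 18589 → P i := stepQ 18588 Q18588 (allL N18588 (tt N20422 (iv F238423)) (tt N20023 (iv F236028)) (tt N20448 D53218) (tt N16522 (iv D51358)) (tt N20398 (iv F238282)) (tt N20447 (iv F238549)) (tt N20439 (iv F238513)) (tt N16807 F230175) (tt N16527 F230176) (tt N20435 (iv F238500)))
theorem Q18590 : ∀ i, i < 18590 → P i := stepQ 18589 Q18589 (allL N18589 (tt N20402 (iv F238309)) (tt N17529 F230177) (tt N20426 (iv F238447)) (tt N16523 (iv D51359)) (tt N20387 (iv F238216)) (tt N20425 (iv F238442)) (tt N16527 F230178) (tt N17634 F230179) (tt N20439 (iv F238515)) (tt N18589 F230180))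
theorem Q18591 : ∀ i, i < 18591 → P i := stepQ 18590 Q18590 (allL N18590 (tt N20017 (iv F235979)) (tt N20024 (iv F236033)) (tt N20449 D53219) (tt N16526 (iv D51360)) (tt N17548 F230181) (tt N16527 F230182) (tt N17551 F230183) (tt N16816 F230184) (tt N20447 (iv F238552)) (tt N18590 F230185))
theorem Q18592 : ∀ i, i < 18592 → P i := stepQ 18591 Q18591 (allL N18591 (tt N20424 (iv F238434)) (tt N20450 D53220) (tt N16527 (iv D51361)) (tt N18591 F230186) (tt N20400 (iv F238295)) (tt N20449 (iv F238558)) (tt N20426 (iv F238449)) (tt N16817 F230187) (tt N20448 (iv F238554)) (tt N18591 F230188))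
theorem Q18593 : ∀ i, i < 18593 → P i := stepQ 18592 Q18592 (allL N18592 (tt N20400 (iv F238293)) (tt N17522 F230189) (tt N20386 (iv F238207)) (tt N16528 (iv D51362)) (tt N20424 (iv F238437)) (tt N20401 (iv F238305)) (tt N16531 F230190) (tt N17606 F230191) (tt N20438 (iv F238511)) (tt N18592 F230192))
theorem Q18594 : ∀ i, i < 18594 → P i := stepQ 18593 Q18593 (allL N18593 (tt N16530 F230193) (tt N20423 (iv F238427)) (tt N16532 F230194) (tt N20025 (iv F236041)) (tt N18593 F230195) (tt N17549 F230196) (tt N17515 F230197) (tt N16833 F230198) (tt N16529 (iv D51363)) (tt N18593 F230199))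
theorem Q18595 : ∀ i, i < 18595 → P i := stepQ 18594 Q18594 (allL N18594 (tt N20025 (iv F236040)) (tt N16531 F230200) (tt N17548 F230201) (tt N16530 (iv D51364)) (tt N20449 (iv F238557)) (tt N17550 F230202) (tt N17522 F230203) (tt N16834 F230204) (tt N20442 (iv F238535)) (tt N18594 F230205))
theorem Q18596 : ∀ i, i < 18596 → P i := stepQ 18595 Q18595 (allL N18595 (tt N20426 (iv F238446)) (tt N20449 (iv F238555)) (tt N20402 (iv F238311)) (tt N18595 F230206) (tt N16531 (iv D51365)) (tt N20450 (iv F238564)) (tt N20424 (iv F238438)) (tt N16835 F230207) (tt N20445 (iv F238543)) (tt N18595 F230208))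
theorem Q18597 : ∀ i, i < 18597 → P i := stepQ 18596 Q18596 (allL N18596 (tt N16540 F230209) (tt N16555 F230210) (tt N16593 F230211) (tt N18596 F230212) (tt N16655 F230213) (tt N16845 F230214) (tt N16535 F230215) (tt N16547 F230216) (tt N16534 (iv D51366)) (tt N18596 F230217))
theorem Q18598 : ∀ i, i < 18598 → P i := stepQ 18597 Q18597 (allL N18597 (tt N16547 F230218) (tt N18597 F230219) (tt N16639 F230220) (tt N18597 F230221) (tt N16600 F230222) (tt N16846 F230223) (tt N16537 F230224) (tt N16540 F230225) (tt N16536 (iv D51367)) (tt N18597 F230226))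
theorem Q18599 : ∀ i, i < 18599 → P i := stepQ 18598 Q18598 (allL N18598 (tt N16649 F230227) (tt N18598 F230228) (tt N16641 F230229) (tt N16596 F230230) (tt N16848 F230231) (tt N16539 F230232) (tt N17711 F230233) (tt N16598 F230234) (tt N20451 D53221) (tt N16538 (iv D51368)))
theorem Q18600 : ∀ i, i < 18600 → P i := stepQ 18599 Q18599 (allL N18599 (tt N16655 F230235) (tt N18599 F230236) (tt N16642 F230237) (tt N16741 F230238) (tt N16540 F230239) (tt N20451 (iv F238572)) (tt N16542 F230240) (tt N16600 F230241) (tt N16539 (iv D51369)) (tt N18599 F230242))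
theorem Q18601 : ∀ i, i < 18601 → P i := stepQ 18600 Q18600 (allL N18600 (tt N16673 F230243) (tt N18600 F230244) (tt N16644 F230245) (tt N16672 F230246) (tt N16543 F230247) (tt N16542 F230248) (tt N17718 F230249) (tt N17552 F230250) (tt N16541 (iv D51370)) (tt N18600 F230251))
theorem Q18602 : ∀ i, i < 18602 → P i := stepQ 18601 Q18601 (allL N18601 (tt N16846 F230252) (tt N16553 F230253) (tt N16875 F230254) (tt N18601 F230255) (tt N18073 F230256) (tt N16547 F230257) (tt N18601 F230258) (tt N16845 F230259) (tt N16545 (iv D51371)) (tt N18601 F230260))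
theorem Q18603 : ∀ i, i < 18603 → P i := stepQ 18602 Q18602 (allL N18602 (tt N16639 F230261) (tt N17999 F230262) (tt N16547 F230263) (tt N16727 F230264) (tt N16657 F230265) (tt N16875 F230266) (tt N16549 F230267) (tt N16593 F230268) (tt N16546 (iv D51372)) (tt N18602 F230269))
theorem Q18604 : ∀ i, i < 18604 → P i := stepQ 18603 Q18603 (allL N18603 (tt N18000 F230270) (tt N16557 F230271) (tt N17999 F230272) (tt N18011 (iv F230277)) (tt N16671 F230273) (tt N20001 (iv F235852)) (tt N16559 F230274) (tt N17721 F230275) (tt N16556 (iv D51373)) (tt N18603 F230276))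
theorem Q18605 : ∀ i, i < 18605 → P i := stepQ 18604 Q18604 (allL N18604 (tt N17279 F230278) (tt N16574 F230279) (tt N17283 F230280) (tt N20094 (iv F236503)) (tt N18604 F230281) (tt N17616 F230282) (tt N16562 F230283) (tt N20059 (iv F236264)) (tt N16677 F230284) (tt N16561 (iv D51374)))
theorem Q18606 : ∀ i, i < 18606 → P i := stepQ 18605 Q18605 (allL N18605 (tt N16751 F230285) (tt N16579 F230286) (tt N18605 F230287) (tt N20452 D53222) (tt N16854 F230288) (tt N16565 F230289) (tt N16691 F230290) (tt N16564 F230291) (tt N16563 (iv D51375)) (tt N20453 D53223))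
theorem Q18607 : ∀ i, i < 18607 → P i := stepQ 18606 Q18606 (allL N18606 (tt N17260 F230292) (tt N16580 F230293) (tt N20077 (iv F236397)) (tt N16564 (iv D51376)) (tt N20454 D53224) (tt N16566 F230294) (tt N17228 F230295) (tt N20452 (iv F238580)) (tt N17615 F230296) (tt N20455 D53225))
theorem Q18608 : ∀ i, i < 18608 → P i := stepQ 18607 Q18607 (allL N18607 (tt N17272 F230297) (tt N16581 F230298) (tt N18607 F230299) (tt N20455 (iv F238599)) (tt N16856 F230300) (tt N16567 F230301) (tt N17232 F230302) (tt N20453 (iv F238588)) (tt N16681 F230303) (tt N16564 (iv D51377)))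
theorem Q18609 : ∀ i, i < 18609 → P i := stepQ 18608 Q18608 (allL N18608 (tt N17269 F230304) (tt N16582 F230305) (tt N20043 (iv F236161)) (tt N16565 (iv D51378)) (tt N16625 F230306) (tt N20452 (iv F238578)) (tt N16631 F230307) (tt N16566 F230308) (tt N20042 (iv F236157)) (tt N20456 D53226))
theorem Q18610 : ∀ i, i < 18610 → P i := stepQ 18609 Q18609 (allL N18609 (tt N17273 F230309) (tt N16583 F230310) (tt N18609 F230311) (tt N20456 (iv F238604)) (tt N16569 F230312) (tt N20453 (iv F238586)) (tt N17991 F230313) (tt N16567 F230314) (tt N16683 F230315) (tt N16565 (iv D51379)))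
theorem Q18611 : ∀ i, i < 18611 → P i := stepQ 18610 Q18610 (allL N18610 (tt N17270 F230316) (tt N16586 F230317) (tt N20080 (iv F236417)) (tt N16567 F230318) (tt N20068 (iv F236332)) (tt N20455 (iv F238600)) (tt N16568 F230319) (tt N20456 (iv F238607)) (tt N20457 D53227) (tt N16566 (iv D51380)))
theorem Q18612 : ∀ i, i < 18612 → P i := stepQ 18611 Q18611 (allL N18611 (tt N17271 F230320) (tt N16590 F230321) (tt N20081 (iv F236423)) (tt N16688 F230322) (tt N20069 (iv F236340)) (tt N17231 F230323) (tt N20457 (iv F238611)) (tt N20377 (iv F238146)) (tt N16568 (iv D51381)) (tt N20095 (iv F236514)))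
theorem Q18613 : ∀ i, i < 18613 → P i := stepQ 18612 Q18612 (allL N18612 (tt N16604 F230324) (tt N16704 F230325) (tt N18612 F230326) (tt N20458 D53228) (tt N16948 F230327) (tt N16572 F230328) (tt N16679 F230329) (tt N16571 F230330) (tt N16570 (iv D51382)) (tt N20459 D53229))
theorem Q18614 : ∀ i, i < 18614 → P i := stepQ 18613 Q18613 (allL N18613 (tt N16605 F230331) (tt N17615 F230332) (tt N20460 D53230) (tt N16571 (iv D51383)) (tt N20461 D53231) (tt N16573 F230333) (tt N17553 F230334) (tt N20458 (iv F238616)) (tt N16580 F230335) (tt N20462 D53232))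
theorem Q18615 : ∀ i, i < 18615 → P i := stepQ 18614 Q18614 (allL N18614 (tt N16606 F230336) (tt N17616 F230337) (tt N18614 F230338) (tt N20462 (iv F238641)) (tt N17775 F230339) (tt N16574 F230340) (tt N17554 F230341) (tt N20459 (iv F238625)) (tt N16693 F230342) (tt N16571 (iv D51384)))
theorem Q18616 : ∀ i, i < 18616 → P i := stepQ 18615 Q18615 (allL N18615 (tt N16607 F230343) (tt N20042 (iv F236151)) (tt N16610 (iv F230347)) (tt N16572 (iv D51385)) (tt N16609 (iv F230348)) (tt N20458 (iv F238614)) (tt N16613 F230344) (tt N16573 F230345) (tt N16582 F230346) (tt N20463 D53233))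
theorem Q18617 : ∀ i, i < 18617 → P i := stepQ 18616 Q18616 (allL N18616 (tt N16608 F230349) (tt N20059 (iv F236259)) (tt N18616 F230350) (tt N20463 (iv F238646)) (tt N18616 F230351) (tt N20459 (iv F238623)) (tt N17990 F230352) (tt N16574 F230353) (tt N16695 F230354) (tt N16572 (iv D51386)))
theorem Q18618 : ∀ i, i < 18618 → P i := stepQ 18617 Q18617 (allL N18617 (tt N16609 F230355) (tt N16800 F230356) (tt N16573 (iv D51387)) (tt N18617 F230357) (tt N16607 (iv F230361)) (tt N20460 (iv F238630)) (tt N16575 F230358) (tt N16610 F230359) (tt N16584 F230360) (tt N20464 D53234))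
theorem Q18619 : ∀ i, i < 18619 → P i := stepQ 18618 Q18618 (allL N18618 (tt N16610 F230362) (tt N17265 F230363) (tt N16607 F230364) (tt N18618 F230365) (tt N16573 (iv D51388)) (tt N20465 D53235) (tt N16576 F230366) (tt N16609 F230367) (tt N16585 F230368) (tt N20466 D53236))
theorem Q18620 : ∀ i, i < 18620 → P i := stepQ 18619 Q18619 (allL N18619 (tt N16611 F230369) (tt N20094 (iv F236501)) (tt N20464 (iv F238652)) (tt N16574 F230370) (tt N20466 (iv F238668)) (tt N20462 (iv F238642)) (tt N16577 F230371) (tt N20463 (iv F238649)) (tt N20467 D53237) (tt N16573 (iv D51389)))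
theorem Q18621 : ∀ i, i < 18621 → P i := stepQ 18620 Q18620 (allL N18620 (tt N16614 F230372) (tt N16801 F230373) (tt N16577 F230374) (tt N18620 F230375) (tt N17680 F230376) (tt N16798 F230377) (tt N20464 (iv F238655)) (tt N20379 (iv F238163)) (tt N20468 D53238) (tt N16575 (iv D51390)))
theorem Q18622 : ∀ i, i < 18622 → P i := stepQ 18621 Q18621 (allL N18621 (tt N16616 F230378) (tt N17266 F230379) (tt N17680 F230380) (tt N18621 F230381) (tt N16577 F230382) (tt N17263 F230383) (tt N20466 (iv F238669)) (tt N20380 (iv F238171)) (tt N20469 D53239) (tt N16576 (iv D51391)))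
theorem Q18623 : ∀ i, i < 18623 → P i := stepQ 18622 Q18622 (allL N18622 (tt N16617 F230384) (tt N20095 (iv F236508)) (tt N20468 (iv F238677)) (tt N16703 F230385) (tt N20469 (iv F238684)) (tt N17556 F230386) (tt N20467 (iv F238673)) (tt N20381 (iv F238176)) (tt N16577 (iv D51392)) (tt N16590 F230387))
theorem Q18624 : ∀ i, i < 18624 → P i := stepQ 18623 Q18623 (allL N18623 (tt N16618 F230388) (tt N16691 F230389) (tt N16595 F230390) (tt N20470 D53240) (tt N16863 F230391) (tt N16675 F230392) (tt N16579 F230393) (tt N16674 F230394) (tt N16578 (iv D51393)) (tt N20471 D53241))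
theorem Q18625 : ∀ i, i < 18625 → P i := stepQ 18624 Q18624 (allL N18624 (tt N16619 F230395) (tt N20452 (iv F238577)) (tt N16627 F230396) (tt N16579 (iv D51394)) (tt N20472 D53242) (tt N16582 F230397) (tt N20470 (iv F238691)) (tt N16580 F230398) (tt N20458 (iv F238617)) (tt N20473 D53243))
theorem Q18626 : ∀ i, i < 18626 → P i := stepQ 18625 Q18625 (allL N18625 (tt N16620 F230399) (tt N20453 (iv F238583)) (tt N16596 F230400) (tt N20473 (iv F238709)) (tt N16865 F230401) (tt N16583 F230402) (tt N20471 (iv F238699)) (tt N16581 F230403) (tt N16706 F230404) (tt N16579 (iv D51395)))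
theorem Q18627 : ∀ i, i < 18627 → P i := stepQ 18626 Q18626 (allL N18626 (tt N16621 F230405) (tt N20039 (iv F236131)) (tt N16580 (iv D51396)) (tt N16597 F230406) (tt N20474 D53244) (tt N16584 F230407) (tt N17559 F230408) (tt N16627 F230409) (tt N20460 (iv F238633)) (tt N20475 D53245))
theorem Q18628 : ∀ i, i < 18628 → P i := stepQ 18627 Q18627 (allL N18627 (tt N16622 F230410) (tt N20454 (iv F238591)) (tt N20474 (iv F238713)) (tt N16866 F230411) (tt N16580 (iv D51397)) (tt N20476 D53246) (tt N17560 F230412) (tt N20472 (iv F238706)) (tt N20461 (iv F238638)) (tt N20477 D53247))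
theorem Q18629 : ∀ i, i < 18629 → P i := stepQ 18628 Q18628 (allL N18628 (tt N16623 F230413) (tt N20455 (iv F238598)) (tt N20475 (iv F238719)) (tt N16581 F230414) (tt N20477 (iv F238733)) (tt N16586 F230415) (tt N17561 F230416) (tt N20473 (iv F238711)) (tt N20478 D53248) (tt N16580 (iv D51398)))
theorem Q18630 : ∀ i, i < 18630 → P i := stepQ 18629 Q18629 (allL N18629 (tt N16624 F230417) (tt N20456 (iv F238603)) (tt N16628 F230418) (tt N16583 F230419) (tt N16626 F230420) (tt N20473 (iv F238710)) (tt N16634 F230421) (tt N16586 F230422) (tt N20479 D53249) (tt N16582 (iv D51399)))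
theorem Q18631 : ∀ i, i < 18631 → P i := stepQ 18630 Q18630 (allL N18630 (tt N16626 F230423) (tt N20040 (iv F236138)) (tt N16586 F230424) (tt N16599 F230425) (tt N16624 F230426) (tt N20475 (iv F238721)) (tt N16588 F230427) (tt N16628 F230428) (tt N20480 D53250) (tt N16584 (iv D51400)))
theorem Q18632 : ∀ i, i < 18632 → P i := stepQ 18631 Q18631 (allL N18631 (tt N16627 F230429) (tt N17647 F230430) (tt N16619 F230431) (tt N16591 F230432) (tt N20476 (iv F238728)) (tt N16585 (iv D51401)) (tt N17650 F230433) (tt N16621 F230434) (tt N20465 (iv F238663)) (tt N20481 D53251))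
theorem Q18633 : ∀ i, i < 18633 → P i := stepQ 18632 Q18632 (allL N18632 (tt N16628 F230435) (tt N20068 (iv F236329)) (tt N16624 F230436) (tt N16592 F230437) (tt N16586 F230438) (tt N20481 (iv F238754)) (tt N16589 F230439) (tt N16626 F230440) (tt N20482 D53252) (tt N16585 (iv D51402)))
theorem Q18634 : ∀ i, i < 18634 → P i := stepQ 18633 Q18633 (allL N18633 (tt N16629 F230441) (tt N20457 (iv F238609)) (tt N20480 (iv F238746)) (tt N16718 F230442) (tt N20482 (iv F238759)) (tt N20478 (iv F238737)) (tt N16590 F230443) (tt N20479 (iv F238744)) (tt N16586 (iv D51403)) (tt N20467 (iv F238674)))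
theorem Q18635 : ∀ i, i < 18635 → P i := stepQ 18634 Q18634 (allL N18634 (tt N17993 F230444) (tt N16588 F230445) (tt N16770 F230446) (tt N16601 F230447) (tt N17221 F230448) (tt N16767 F230449) (tt N20040 (iv F236142)) (tt N20012 (iv F235949)) (tt N20483 D53253) (tt N16587 (iv D51404)))
theorem Q18636 : ∀ i, i < 18636 → P i := stepQ 18635 Q18635 (allL N18635 (tt N16635 F230450) (tt N20483 (iv F238763)) (tt N16590 F230451) (tt N20484 D53254) (tt N20394 (iv F238262)) (tt N17565 F230452) (tt N20480 (iv F238748)) (tt N20384 (iv F238197)) (tt N16588 (iv D51405)) (tt N20468 (iv F238680)))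
theorem Q18637 : ∀ i, i < 18637 → P i := stepQ 18636 Q18636 (allL N18636 (tt N16638 F230453) (tt N20069 (iv F236337)) (tt N20394 (iv F238260)) (tt N20485 D53255) (tt N16590 F230454) (tt N20064 (iv F236302)) (tt N20482 (iv F238760)) (tt N20385 (iv F238204)) (tt N16589 (iv D51406)) (tt N20469 (iv F238686)))
theorem Q18638 : ∀ i, i < 18638 → P i := stepQ 18637 Q18637 (allL N18637 (tt N16641 F230455) (tt N17690 F230456) (tt N16649 F230457) (tt N20481 (iv F238753)) (tt N16876 F230458) (tt N16592 F230459) (tt N17692 F230460) (tt N16652 F230461) (tt N20486 D53256) (tt N16591 (iv D51407)))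
theorem Q18639 : ∀ i, i < 18639 → P i := stepQ 18638 Q18638 (allL N18638 (tt N16642 F230462) (tt N17720 F230463) (tt N16655 F230464) (tt N20487 D53257) (tt N16593 F230465) (tt N20486 (iv F238784)) (tt N16594 F230466) (tt N16657 F230467) (tt N16592 (iv D51408)) (tt N18638 F230468))
theorem Q18640 : ∀ i, i < 18640 → P i := stepQ 18639 Q18639 (allL N18639 (tt N16645 F230469) (tt N17708 F230470) (tt N17606 F230471) (tt N16594 (iv D51409)) (tt N16730 F230472) (tt N20065 (iv F236310)) (tt N20487 (iv F238792)) (tt N20386 (iv F238211)) (tt N20485 (iv F238779)) (tt N18639 F230473))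
theorem Q18641 : ∀ i, i < 18641 → P i := stepQ 18640 Q18640 (allL N18640 (tt N16647 F230474) (tt N18640 F230475) (tt N20471 (iv F238696)) (tt N17711 F230476) (tt N16879 F230477) (tt N17282 F230478) (tt N16596 F230479) (tt N17281 F230480) (tt N16731 F230481) (tt N16595 (iv D51410)))
theorem Q18642 : ∀ i, i < 18642 → P i := stepQ 18641 Q18641 (allL N18641 (tt N16652 F230482) (tt N20055 (iv F236231)) (tt N16598 F230483) (tt N20475 (iv F238720)) (tt N16923 F230484) (tt N16599 F230485) (tt N17567 F230486) (tt N16641 F230487) (tt N20488 D53258) (tt N16597 (iv D51411)))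
theorem Q18643 : ∀ i, i < 18643 → P i := stepQ 18642 Q18642 (allL N18642 (tt N16654 F230488) (tt N18642 F230489) (tt N20488 (iv F238797)) (tt N16738 F230490) (tt N17946 F230491) (tt N16600 F230492) (tt N17568 F230493) (tt N20451 (iv F238574)) (tt N16598 (iv D51412)) (tt N18642 F230494))
theorem Q18644 : ∀ i, i < 18644 → P i := stepQ 18643 Q18643 (allL N18643 (tt N16657 F230495) (tt N17987 F230496) (tt N16600 F230497) (tt N20489 D53259) (tt N16639 F230498) (tt N20488 (iv F238799)) (tt N16602 F230499) (tt N16642 F230500) (tt N16599 (iv D51413)) (tt N18643 F230501))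
theorem Q18645 : ∀ i, i < 18645 → P i := stepQ 18644 Q18644 (allL N18644 (tt N16660 F230502) (tt N17635 F230503) (tt N16747 F230504) (tt N16602 (iv D51414)) (tt N17634 F230505) (tt N17573 F230506) (tt N20489 (iv F238807)) (tt N20387 (iv F238219)) (tt N20484 (iv F238774)) (tt N18644 F230507))
theorem Q18646 : ∀ i, i < 18646 → P i := stepQ 18645 Q18645 (allL N18645 (tt N17764 F230508) (tt N17348 F230509) (tt N20490 D53260) (tt N16603 (iv D51415)) (tt N20491 D53261) (tt N18645 F230510) (tt N17334 F230511) (tt N20186 (iv F237063)) (tt N16881 F230512) (tt N20492 D53262))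
theorem Q18647 : ∀ i, i < 18647 → P i := stepQ 18646 Q18646 (allL N18646 (tt N17775 F230513) (tt N17349 F230514) (tt N18646 F230515) (tt N20492 (iv F238822)) (tt N16606 F230516) (tt N18646 F230517) (tt N17335 F230518) (tt N20187 (iv F237071)) (tt N16750 F230519) (tt N16603 (iv D51416)))
theorem Q18648 : ∀ i, i < 18648 → P i := stepQ 18647 Q18647 (allL N18647 (tt N20458 (iv F238612)) (tt N17671 F230520) (tt N20465 (iv F238659)) (tt N16604 (iv D51417)) (tt N20493 D53263) (tt N16607 F230521) (tt N17668 F230522) (tt N16605 F230523) (tt N16619 F230524) (tt N20494 D53264))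
theorem Q18649 : ∀ i, i < 18649 → P i := stepQ 18648 Q18648 (allL N18648 (tt N20459 (iv F238619)) (tt N17989 F230525) (tt N18648 F230526) (tt N20494 (iv F238830)) (tt N20187 (iv F237068)) (tt N16608 F230527) (tt N17988 F230528) (tt N16606 F230529) (tt N16753 F230530) (tt N16604 (iv D51418)))
theorem Q18650 : ∀ i, i < 18650 → P i := stepQ 18649 Q18649 (allL N18649 (tt N20460 (iv F238627)) (tt N20495 D53265) (tt N16605 (iv D51419)) (tt N18649 F230531) (tt N20496 D53266) (tt N16609 F230532) (tt N17574 F230533) (tt N20465 (iv F238662)) (tt N16621 F230534) (tt N20497 D53267))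
theorem Q18651 : ∀ i, i < 18651 → P i := stepQ 18650 Q18650 (allL N18650 (tt N20461 (iv F238634)) (tt N20026 (iv F236047)) (tt N20496 (iv F238840)) (tt N20491 (iv F238817)) (tt N16605 (iv D51420)) (tt N20498 D53268) (tt N17575 F230535) (tt N20493 (iv F238827)) (tt N16622 F230536) (tt N20499 D53269))
theorem Q18652 : ∀ i, i < 18652 → P i := stepQ 18651 Q18651 (allL N18651 (tt N20462 (iv F238639)) (tt N20027 (iv F236054)) (tt N20497 (iv F238843)) (tt N16606 F230537) (tt N20499 (iv F238849)) (tt N16611 F230538) (tt N17576 F230539) (tt N20494 (iv F238833)) (tt N20500 D53270) (tt N16605 (iv D51421)))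
theorem Q18653 : ∀ i, i < 18653 → P i := stepQ 18652 Q18652 (allL N18652 (tt N20463 (iv F238644)) (tt N17683 F230540) (tt N20466 (iv F238666)) (tt N16608 F230541) (tt N20464 (iv F238654)) (tt N20494 (iv F238831)) (tt N17680 F230542) (tt N16611 F230543) (tt N20501 D53271) (tt N16607 (iv D51422)))
theorem Q18654 : ∀ i, i < 18654 → P i := stepQ 18653 Q18653 (allL N18653 (tt N20043 (iv F236159)) (tt N16609 (iv D51423)) (tt N17269 F230544) (tt N18653 F230545) (tt N20042 F236158) (tt N20495 (iv F238836)) (tt N16612 F230546) (tt N17265 F230547) (tt N16625 F230548) (tt N20502 D53272))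
theorem Q18655 : ∀ i, i < 18655 → P i := stepQ 18654 Q18654 (allL N18654 (tt N20464 (iv F238650)) (tt N20502 (iv F238860)) (tt N16611 F230549) (tt N18654 F230550) (tt N20463 (iv F238647)) (tt N20497 (iv F238845)) (tt N16614 F230551) (tt N20466 (iv F238670)) (tt N20503 D53273) (tt N16609 (iv D51424)))
theorem Q18656 : ∀ i, i < 18656 → P i := stepQ 18655 Q18655 (allL N18655 (tt N20465 (iv F238657)) (tt N20028 (iv F236061)) (tt N20458 (iv F238618)) (tt N18655 F230552) (tt N20498 (iv F238847)) (tt N16610 (iv D51425)) (tt N20504 D53274) (tt N20460 (iv F238632)) (tt N16627 F230553) (tt N20505 D53275))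
theorem Q18657 : ∀ i, i < 18657 → P i := stepQ 18656 Q18656 (allL N18656 (tt N20466 (iv F238664)) (tt N20029 (iv F236068)) (tt N20463 (iv F238645)) (tt N18656 F230554) (tt N16611 F230555) (tt N20505 (iv F238876)) (tt N16616 F230556) (tt N20464 (iv F238656)) (tt N20506 D53276) (tt N16610 (iv D51426)))
theorem Q18658 : ∀ i, i < 18658 → P i := stepQ 18657 Q18657 (allL N18657 (tt N20467 (iv F238671)) (tt N20030 (iv F236075)) (tt N20503 (iv F238865)) (tt N16765 F230557) (tt N20506 (iv F238877)) (tt N20500 (iv F238852)) (tt N16617 F230558) (tt N20501 (iv F238858)) (tt N16611 (iv D51427)) (tt N16629 F230559))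
theorem Q18659 : ∀ i, i < 18659 → P i := stepQ 18658 Q18658 (allL N18658 (tt N20051 (iv F236206)) (tt N16614 F230560) (tt N17992 F230561) (tt N18658 F230562) (tt N20050 (iv F236203)) (tt N17579 F230563) (tt N20502 (iv F238863)) (tt N20389 (iv F238234)) (tt N20507 D53277) (tt N16612 (iv D51428)))
theorem Q18660 : ∀ i, i < 18660 → P i := stepQ 18659 Q18659 (allL N18659 (tt N17680 F230564) (tt N20050 (iv F236200)) (tt N16616 F230565) (tt N17990 F230566) (tt N16614 F230567) (tt N17678 F230568) (tt N20463 (iv F238648)) (tt N20378 (iv F238155)) (tt N20508 D53278) (tt N16613 (iv D51429)))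
theorem Q18661 : ∀ i, i < 18661 → P i := stepQ 18660 Q18660 (allL N18660 (tt N20468 (iv F238675)) (tt N20507 (iv F238880)) (tt N16617 F230569) (tt N20509 D53279) (tt N20508 (iv F238886)) (tt N17580 F230570) (tt N20503 (iv F238866)) (tt N20390 (iv F238237)) (tt N16614 (iv D51430)) (tt N16635 F230571))
theorem Q18662 : ∀ i, i < 18662 → P i := stepQ 18661 Q18661 (allL N18661 (tt N17255 F230572) (tt N16697 F230573) (tt N16682 F230574) (tt N18661 F230575) (tt N16676 F230576) (tt N20504 (iv F238872)) (tt N16615 (iv D51431)) (tt N16684 F230577) (tt N16636 F230578) (tt N20510 D53280))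
theorem Q18663 : ∀ i, i < 18663 → P i := stepQ 18662 Q18662 (allL N18662 (tt N17263 F230579) (tt N16702 F230580) (tt N17678 F230581) (tt N18662 F230582) (tt N16678 F230583) (tt N16616 F230584) (tt N20510 (iv F238898)) (tt N20391 (iv F238246)) (tt N20511 D53281) (tt N16615 (iv D51432)))
theorem Q18664 : ∀ i, i < 18664 → P i := stepQ 18663 Q18663 (allL N18663 (tt N20469 (iv F238681)) (tt N20031 (iv F236082)) (tt N20508 (iv F238885)) (tt N20512 D53282) (tt N16617 F230585) (tt N20511 (iv F238904)) (tt N20506 (iv F238878)) (tt N20392 (iv F238248)) (tt N16616 (iv D51433)) (tt N16638 F230586))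
theorem Q18665 : ∀ i, i < 18665 → P i := stepQ 18664 Q18664 (allL N18664 (tt N20470 (iv F238687)) (tt N17243 F230587) (tt N17650 F230588) (tt N16618 (iv D51434)) (tt N20513 D53283) (tt N17252 F230589) (tt N16619 F230590) (tt N17246 F230591) (tt N17668 F230592) (tt N20514 D53284))
theorem Q18666 : ∀ i, i < 18666 → P i := stepQ 18665 Q18665 (allL N18665 (tt N20471 (iv F238694)) (tt N17274 F230593) (tt N16647 F230594) (tt N20514 (iv F238918)) (tt N16895 F230595) (tt N17278 F230596) (tt N16620 F230597) (tt N17275 F230598) (tt N16773 F230599) (tt N16618 (iv D51435)))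
theorem Q18667 : ∀ i, i < 18667 → P i := stepQ 18666 Q18666 (allL N18666 (tt N20472 (iv F238702)) (tt N20032 (iv F236088)) (tt N20476 (iv F238726)) (tt N16897 F230600) (tt N16619 (iv D51436)) (tt N20474 (iv F238715)) (tt N20513 (iv F238913)) (tt N16622 F230601) (tt N20493 (iv F238828)) (tt N20515 D53285))
theorem Q18668 : ∀ i, i < 18668 → P i := stepQ 18667 Q18667 (allL N18667 (tt N20473 (iv F238707)) (tt N20033 (iv F236095)) (tt N20481 (iv F238752)) (tt N16620 F230602) (tt N20515 (iv F238923)) (tt N16624 F230603) (tt N20514 (iv F238920)) (tt N16623 F230604) (tt N20516 D53286) (tt N16619 (iv D51437)))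
theorem Q18669 : ∀ i, i < 18669 → P i := stepQ 18668 Q18668 (allL N18668 (tt N20090 (iv F236478)) (tt N16621 (iv D51438)) (tt N16772 F230605) (tt N16650 F230606) (tt N20517 D53287) (tt N16625 F230607) (tt N16774 F230608) (tt N17647 F230609) (tt N20495 (iv F238839)) (tt N20518 D53288))
theorem Q18670 : ∀ i, i < 18670 → P i := stepQ 18669 Q18669 (allL N18669 (tt N20474 (iv F238712)) (tt N20517 (iv F238928)) (tt N16622 F230610) (tt N20519 D53289) (tt N16621 (iv D51439)) (tt N20472 (iv F238705)) (tt N17584 F230611) (tt N20476 (iv F238730)) (tt N20496 (iv F238842)) (tt N20520 D53290))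
theorem Q18671 : ∀ i, i < 18671 → P i := stepQ 18670 Q18670 (allL N18670 (tt N20475 (iv F238718)) (tt N20518 (iv F238932)) (tt N16623 F230612) (tt N16652 F230613) (tt N20520 (iv F238946)) (tt N16626 F230614) (tt N17585 F230615) (tt N20481 (iv F238756)) (tt N20521 D53291) (tt N16621 (iv D51440)))
theorem Q18672 : ∀ i, i < 18672 → P i := stepQ 18671 Q18671 (allL N18671 (tt N20476 (iv F238724)) (tt N20036 (iv F236116)) (tt N20472 (iv F238703)) (tt N16902 F230616) (tt N16627 F230617) (tt N16622 (iv D51441)) (tt N20522 D53292) (tt N20474 (iv F238717)) (tt N20498 (iv F238848)) (tt N20523 D53293))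
theorem Q18673 : ∀ i, i < 18673 → P i := stepQ 18672 Q18672 (allL N18672 (tt N20477 (iv F238731)) (tt N20037 (iv F236121)) (tt N20520 (iv F238945)) (tt N16903 F230618) (tt N16623 F230619) (tt N20523 (iv F238959)) (tt N17587 F230620) (tt N20515 (iv F238924)) (tt N20524 D53294) (tt N16622 (iv D51442)))
theorem Q18674 : ∀ i, i < 18674 → P i := stepQ 18673 Q18673 (allL N18673 (tt N20478 (iv F238735)) (tt N20038 (iv F236126)) (tt N20521 (iv F238948)) (tt N16782 F230621) (tt N20524 (iv F238960)) (tt N16629 F230622) (tt N17588 F230623) (tt N20516 (iv F238927)) (tt N16623 (iv D51443)) (tt N20500 (iv F238854)))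
theorem Q18675 : ∀ i, i < 18675 → P i := stepQ 18674 Q18674 (allL N18674 (tt N20479 (iv F238739)) (tt N20041 (iv F236145)) (tt N20482 (iv F238758)) (tt N16787 F230624) (tt N20480 (iv F238747)) (tt N20516 (iv F238926)) (tt N20394 (iv F238264)) (tt N16629 F230625) (tt N16624 (iv D51444)) (tt N20501 (iv F238859)))
theorem Q18676 : ∀ i, i < 18676 → P i := stepQ 18675 Q18675 (allL N18675 (tt N20096 (iv F236515)) (tt N16626 F230626) (tt N20044 (iv F236167)) (tt N16656 F230627) (tt N20456 (iv F238605)) (tt N20518 (iv F238935)) (tt N16632 F230628) (tt N20068 (iv F236335)) (tt N20525 D53295) (tt N16625 (iv D51445)))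
theorem Q18677 : ∀ i, i < 18677 → P i := stepQ 18676 Q18676 (allL N18676 (tt N20480 (iv F238745)) (tt N20525 (iv F238962)) (tt N16629 F230629) (tt N20526 D53296) (tt N20479 (iv F238742)) (tt N20521 (iv F238949)) (tt N16635 F230630) (tt N20482 (iv F238761)) (tt N16626 (iv D51446)) (tt N20503 (iv F238867)))
theorem Q18678 : ∀ i, i < 18678 → P i := stepQ 18677 Q18677 (allL N18677 (tt N17650 F230631) (tt N16716 F230632) (tt N20470 (iv F238689)) (tt N16640 F230633) (tt N20522 (iv F238954)) (tt N16636 F230634) (tt N16627 (iv D51447)) (tt N17655 (iv F230635)) (tt N20504 (iv F238874)) (tt N20527 D53297))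
theorem Q18679 : ∀ i, i < 18679 → P i := stepQ 18678 Q18678 (allL N18678 (tt N20481 (iv F238750)) (tt N20048 (iv F236191)) (tt N20473 (iv F238708)) (tt N16641 F230636) (tt N20523 (iv F238958)) (tt N16628 F230637) (tt N20527 (iv F238971)) (tt N20475 (iv F238723)) (tt N20528 D53298) (tt N16627 (iv D51448)))
theorem Q18680 : ∀ i, i < 18680 → P i := stepQ 18679 Q18679 (allL N18679 (tt N20482 (iv F238757)) (tt N20049 (iv F236196)) (tt N20479 (iv F238740)) (tt N20529 D53299) (tt N16629 F230638) (tt N20528 (iv F238973)) (tt N16638 F230639) (tt N20480 (iv F238749)) (tt N16628 (iv D51449)) (tt N20506 (iv F238879)))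
theorem Q18681 : ∀ i, i < 18681 → P i := stepQ 18680 Q18680 (allL N18680 (tt N16632 F230640) (tt N17993 F230641) (tt N20050 (iv F236201)) (tt N16658 F230642) (tt N17992 F230643) (tt N17595 F230644) (tt N20096 (iv F236519)) (tt N20021 (iv F236019)) (tt N20530 D53300) (tt N16630 (iv D51450)))
theorem Q18682 : ∀ i, i < 18682 → P i := stepQ 18681 Q18681 (allL N18681 (tt N17992 F230645) (tt N16634 F230646) (tt N20051 (iv F236208)) (tt N17991 F230647) (tt N16632 F230648) (tt N20407 (iv F238346)) (tt N20456 (iv F238606)) (tt N20376 (iv F238139)) (tt N20531 D53301) (tt N16631 (iv D51451)))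
theorem Q18683 : ∀ i, i < 18683 → P i := stepQ 18682 Q18682 (allL N18682 (tt N20530 (iv F238977)) (tt N16635 F230649) (tt N20052 (iv F236214)) (tt N20532 D53302) (tt N20531 (iv F238985)) (tt N17597 F230650) (tt N20525 (iv F238963)) (tt N20395 (iv F238271)) (tt N16632 (iv D51452)) (tt N20507 (iv F238883)))
theorem Q18684 : ∀ i, i < 18684 → P i := stepQ 18683 Q18683 (allL N18683 (tt N17252 F230651) (tt N16694 F230652) (tt N16636 F230653) (tt N16675 F230654) (tt N16684 F230655) (tt N20470 (iv F238690)) (tt N16633 (iv D51453)) (tt N16676 F230656) (tt N16682 F230657) (tt N20533 D53303))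
theorem Q18685 : ∀ i, i < 18685 → P i := stepQ 18684 Q18684 (allL N18684 (tt N17643 F230658) (tt N20407 (iv F238342)) (tt N16637 F230659) (tt N20060 (iv F236274)) (tt N16687 F230660) (tt N16634 F230661) (tt N20533 (iv F238996)) (tt N20382 (iv F238185)) (tt N20534 D53304) (tt N16633 (iv D51454)))
theorem Q18686 : ∀ i, i < 18686 → P i := stepQ 18685 Q18685 (allL N18685 (tt N20394 (iv F238258)) (tt N20531 (iv F238983)) (tt N16638 F230662) (tt N20415 (iv F238391)) (tt N16635 F230663) (tt N20534 (iv F239001)) (tt N20479 (iv F238743)) (tt N20383 (iv F238191)) (tt N16634 (iv D51455)) (tt N20508 (iv F238888)))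
theorem Q18687 : ∀ i, i < 18687 → P i := stepQ 18686 Q18686 (allL N18686 (tt N20484 (iv F238769)) (tt N20532 (iv F238987)) (tt N16803 F230664) (tt N16635 (iv D51456)) (tt N20535 D53305) (tt N17599 F230665) (tt N20526 (iv F238965)) (tt N20396 (iv F238274)) (tt N16660 F230666) (tt N20509 (iv F238892)))
theorem Q18688 : ∀ i, i < 18688 → P i := stepQ 18687 Q18687 (allL N18687 (tt N17665 F230667) (tt N16717 F230668) (tt N20533 (iv F238993)) (tt N16643 F230669) (tt N16685 F230670) (tt N20527 (iv F238970)) (tt N16637 F230671) (tt N17667 F230672) (tt N20536 D53306) (tt N16636 (iv D51457)))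
theorem Q18689 : ∀ i, i < 18689 → P i := stepQ 18688 Q18688 (allL N18688 (tt N20064 (iv F236298)) (tt N16724 F230673) (tt N20534 (iv F238999)) (tt N20537 D53307) (tt N16688 F230674) (tt N16638 F230675) (tt N20536 (iv F239011)) (tt N20397 (iv F238281)) (tt N16637 (iv D51458)) (tt N20511 (iv F238905)))
theorem Q18690 : ∀ i, i < 18690 → P i := stepQ 18689 Q18689 (allL N18689 (tt N20485 (iv F238775)) (tt N20054 (iv F236226)) (tt N20538 D53308) (tt N16638 (iv D51459)) (tt N16807 F230676) (tt N20537 (iv F239015)) (tt N20529 (iv F238975)) (tt N20398 (iv F238283)) (tt N16645 F230677) (tt N20512 (iv F238908)))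
theorem Q18691 : ∀ i, i < 18691 → P i := stepQ 18690 Q18690 (allL N18690 (tt N17692 F230678) (tt N16728 F230679) (tt N17711 F230680) (tt N20527 (iv F238969)) (tt N16926 F230681) (tt N16643 F230682) (tt N16641 F230683) (tt N17694 F230684) (tt N20539 D53309) (tt N16640 (iv D51460)))
theorem Q18692 : ∀ i, i < 18692 → P i := stepQ 18691 Q18691 (allL N18691 (tt N20486 (iv F238780)) (tt N20056 (iv F236239)) (tt N20451 (iv F238569)) (tt N20540 D53310) (tt N16927 F230685) (tt N16642 F230686) (tt N20539 (iv F239029)) (tt N20488 (iv F238801)) (tt N16641 (iv D51461)) (tt N18691 F230687))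
theorem Q18693 : ∀ i, i < 18693 → P i := stepQ 18692 Q18692 (allL N18692 (tt N20487 (iv F238788)) (tt N20057 (iv F236247)) (tt N20541 D53311) (tt N16642 (iv D51462)) (tt N16813 F230688) (tt N20540 (iv F239032)) (tt N16645 F230689) (tt N20489 (iv F238808)) (tt N20529 (iv F238976)) (tt N18692 F230690))
theorem Q18694 : ∀ i, i < 18694 → P i := stepQ 18693 Q18693 (allL N18693 (tt N17702 F230691) (tt N16729 F230692) (tt N17718 F230693) (tt N20542 D53312) (tt N16646 F230694) (tt N20539 (iv F239028)) (tt N16644 F230695) (tt N17704 F230696) (tt N16643 (iv D51463)) (tt N18693 F230697))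
theorem Q18695 : ∀ i, i < 18695 → P i := stepQ 18694 Q18694 (allL N18694 (tt N20065 (iv F236306)) (tt N16730 F230698) (tt N17709 F230699) (tt N16644 (iv D51464)) (tt N17708 F230700) (tt N16645 F230701) (tt N20542 (iv F239045)) (tt N20399 (iv F238291)) (tt N20537 (iv F239016)) (tt N18694 F230702))
theorem Q18696 : ∀ i, i < 18696 → P i := stepQ 18695 Q18695 (allL N18695 (tt N17606 F230703) (tt N17710 (iv F230708)) (tt N16645 (iv D51465)) (tt N17605 F230704) (tt N16817 F230705) (tt N17709 F230706) (tt N20541 (iv F239037)) (tt N20400 (iv F238298)) (tt N20538 (iv F239022)) (tt N18695 F230707))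
theorem Q18697 : ∀ i, i < 18697 → P i := stepQ 18696 Q18696 (allL N18696 (tt N16848 F230709) (tt N16661 F230710) (tt N16876 F230711) (tt N16937 F230712) (tt N16649 F230713) (tt N16844 F230714) (tt N17712 F230715) (tt N16653 F230716) (tt N20179 (iv F237014)) (tt N16648 (iv D51466)))
theorem Q18698 : ∀ i, i < 18698 → P i := stepQ 18697 Q18697 (allL N18697 (tt N20451 (iv F238567)) (tt N16662 F230717) (tt N20486 (iv F238782)) (tt N16821 F230718) (tt N20179 (iv F237010)) (tt N16655 F230719) (tt N17713 F230720) (tt N16654 F230721) (tt N16649 (iv D51467)) (tt N18697 F230722))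
theorem Q18699 : ∀ i, i < 18699 → P i := stepQ 18698 Q18698 (allL N18698 (tt N20100 (iv F236534)) (tt N16652 F230723) (tt N16665 F230724) (tt N20518 (iv F238934)) (tt N20237 (iv F237383)) (tt N16656 F230725) (tt N16819 F230726) (tt N17690 F230727) (tt N20543 D53313) (tt N16650 (iv D51468)))
theorem Q18700 : ∀ i, i < 18700 → P i := stepQ 18699 Q18699 (allL N18699 (tt N16906 F230728) (tt N20230 (iv F237337)) (tt N16939 F230729) (tt N16651 (iv D51469)) (tt N20519 (iv F238940)) (tt N16868 F230730) (tt N17600 F230731) (tt N16870 F230732) (tt N17761 (iv F230733)) (tt N20544 D53314))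
theorem Q18701 : ∀ i, i < 18701 → P i := stepQ 18700 Q18700 (allL N18700 (tt N16923 F230734) (tt N20237 (iv F237381)) (tt N16653 F230735) (tt N20544 (iv F239057)) (tt N16652 F230736) (tt N16874 F230737) (tt N17601 F230738) (tt N16876 F230739) (tt N20545 D53315) (tt N16651 (iv D51470)))
theorem Q18702 : ∀ i, i < 18702 → P i := stepQ 18701 Q18701 (allL N18701 (tt N20488 (iv F238795)) (tt N20543 (iv F239049)) (tt N16654 F230740) (tt N20546 D53316) (tt N20545 (iv F239063)) (tt N16657 F230741) (tt N17602 F230742) (tt N20486 (iv F238786)) (tt N16652 (iv D51471)) (tt N18701 F230743))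
theorem Q18703 : ∀ i, i < 18703 → P i := stepQ 18702 Q18702 (allL N18702 (tt N17946 F230744) (tt N16668 F230745) (tt N20545 (iv F239062)) (tt N17948 F230746) (tt N16654 F230747) (tt N18073 F230748) (tt N17603 F230749) (tt N20179 (iv F237013)) (tt N16653 (iv D51472)) (tt N18702 F230750))
theorem Q18704 : ∀ i, i < 18704 → P i := stepQ 18703 Q18703 (allL N18703 (tt N18001 F230751) (tt N16657 F230752) (tt N16671 F230753) (tt N20547 D53317) (tt N17999 F230754) (tt N20543 (iv F239051)) (tt N16659 F230755) (tt N17720 F230756) (tt N16656 (iv D51473)) (tt N18703 F230757))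
theorem Q18705 : ∀ i, i < 18705 → P i := stepQ 18704 Q18704 (allL N18704 (tt N20489 (iv F238803)) (tt N20547 (iv F239073)) (tt N16832 F230758) (tt N16657 (iv D51474)) (tt N20548 D53318) (tt N20546 (iv F239069)) (tt N16660 F230759) (tt N20487 (iv F238793)) (tt N20526 (iv F238966)) (tt N18704 F230760))
theorem Q18706 : ∀ i, i < 18706 → P i := stepQ 18705 Q18705 (allL N18705 (tt N17709 F230761) (tt N16660 F230762) (tt N20065 (iv F236308)) (tt N16659 (iv D51475)) (tt N17707 F230763) (tt N17606 F230764) (tt N20547 (iv F239076)) (tt N20401 (iv F238307)) (tt N20532 (iv F238990)) (tt N18705 F230765))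
theorem Q18707 : ∀ i, i < 18707 → P i := stepQ 18706 Q18706 (allL N18706 (tt N17634 F230766) (tt N17707 F230767) (tt N16835 F230768) (tt N17633 F230769) (tt N16660 (iv D51476)) (tt N20105 (iv F236571)) (tt N20548 (iv F239083)) (tt N20402 (iv F238314)) (tt N20535 (iv F239007)) (tt N18706 F230770))
theorem Q18708 : ∀ i, i < 18708 → P i := stepQ 18707 Q18707 (allL N18707 (tt N16665 F230771) (tt N18707 F230772) (tt N20100 (iv F236536)) (tt N16731 F230773) (tt N20002 (iv F235861)) (tt N16670 F230774) (tt N16734 F230775) (tt N17628 F230776) (tt N20549 D53319) (tt N16663 (iv D51477)))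
theorem Q18709 : ∀ i, i < 18709 → P i := stepQ 18708 Q18708 (allL N18708 (tt N20002 (iv F235857)) (tt N16666 F230777) (tt N20237 (iv F237382)) (tt N17123 F230778) (tt N16665 F230779) (tt N17154 F230780) (tt N16820 F230781) (tt N17152 F230782) (tt N20374 (iv F238122)) (tt N16664 (iv D51478)))
theorem Q18710 : ∀ i, i < 18710 → P i := stepQ 18709 Q18709 (allL N18709 (tt N20549 (iv F239086)) (tt N16667 F230783) (tt N20543 (iv F239050)) (tt N17713 F230784) (tt N20374 (iv F238118)) (tt N16671 F230785) (tt N16821 F230786) (tt N17691 F230787) (tt N16665 (iv D51479)) (tt N18709 F230788))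
theorem Q18711 : ∀ i, i < 18711 → P i := stepQ 18710 Q18710 (allL N18710 (tt N16671 F230789) (tt N18710 F230790) (tt N18001 F230791) (tt N17718 F230792) (tt N18000 F230793) (tt N20549 (iv F239090)) (tt N16672 F230794) (tt N17719 F230795) (tt N16670 (iv D51480)) (tt N18710 F230796))
theorem Q18712 : ∀ i, i < 18712 → P i := stepQ 18711 Q18711 (allL N18711 (tt N17246 F230797) (tt N16692 F230798) (tt N17655 F230799) (tt N16674 (iv D51481)) (tt N20550 D53320) (tt N16676 F230800) (tt N17557 F230801) (tt N20470 (iv F238692)) (tt N16680 F230802) (tt N20551 D53321))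
theorem Q18713 : ∀ i, i < 18713 → P i := stepQ 18712 Q18712 (allL N18712 (tt N17275 F230803) (tt N16693 F230804) (tt N17281 F230805) (tt N20551 (iv F239103)) (tt N17723 F230806) (tt N16677 F230807) (tt N17558 F230808) (tt N20471 (iv F238700)) (tt N17616 F230809) (tt N16674 (iv D51482)))
theorem Q18714 : ∀ i, i < 18714 → P i := stepQ 18713 Q18713 (allL N18713 (tt N17278 F230810) (tt N16695 F230811) (tt N17282 F230812) (tt N20533 (iv F238994)) (tt N18713 F230813) (tt N20471 (iv F238698)) (tt N20060 (iv F236271)) (tt N16677 F230814) (tt N20059 (iv F236265)) (tt N16675 (iv D51483)))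
theorem Q18715 : ∀ i, i < 18715 → P i := stepQ 18714 Q18714 (allL N18714 (tt N17256 F230815) (tt N16698 F230816) (tt N17667 F230817) (tt N16677 F230818) (tt N20510 (iv F238897)) (tt N20551 (iv F239104)) (tt N16678 F230819) (tt N20533 (iv F238997)) (tt N20552 D53322) (tt N16676 (iv D51484)))
theorem Q18716 : ∀ i, i < 18716 → P i := stepQ 18715 Q18715 (allL N18715 (tt N17264 F230820) (tt N16703 F230821) (tt N17679 F230822) (tt N20095 (iv F236510)) (tt N20511 (iv F238903)) (tt N17581 F230823) (tt N20552 (iv F239109)) (tt N20403 (iv F238321)) (tt N16678 (iv D51485)) (tt N16688 F230824))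
theorem Q18717 : ∀ i, i < 18717 → P i := stepQ 18716 Q18716 (allL N18716 (tt N17668 F230825) (tt N16705 F230826) (tt N20504 (iv F238870)) (tt N16679 (iv D51486)) (tt N20553 D53323) (tt N16682 F230827) (tt N20458 (iv F238615)) (tt N16680 F230828) (tt N20470 (iv F238693)) (tt N20554 D53324))
theorem Q18718 : ∀ i, i < 18718 → P i := stepQ 18717 Q18717 (allL N18717 (tt N17988 F230829) (tt N16706 F230830) (tt N18717 F230831) (tt N20554 (iv F239118)) (tt N16950 F230832) (tt N16683 F230833) (tt N20459 (iv F238624)) (tt N16681 F230834) (tt N20453 (iv F238589)) (tt N16679 (iv D51487)))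
theorem Q18719 : ∀ i, i < 18719 → P i := stepQ 18718 Q18718 (allL N18718 (tt N17636 F230835) (tt N20555 D53325) (tt N16680 (iv D51488)) (tt N18718 F230836) (tt N20556 D53326) (tt N16684 F230837) (tt N17590 F230838) (tt N20504 (iv F238873)) (tt N17655 F230839) (tt N20557 D53327))
theorem Q18720 : ∀ i, i < 18720 → P i := stepQ 18719 Q18719 (allL N18719 (tt N20061 (iv F236275)) (tt N16708 F230840) (tt N20556 (iv F239129)) (tt N16952 F230841) (tt N16680 (iv D51489)) (tt N20522 (iv F238955)) (tt N17586 F230842) (tt N20553 (iv F239115)) (tt N20550 (iv F239099)) (tt N20558 D53328))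
theorem Q18721 : ∀ i, i < 18721 → P i := stepQ 18720 Q18720 (allL N18720 (tt N20062 (iv F236283)) (tt N16709 F230843) (tt N20557 (iv F239133)) (tt N16681 F230844) (tt N20558 (iv F239139)) (tt N16685 F230845) (tt N17593 F230846) (tt N20554 (iv F239120)) (tt N20559 D53329) (tt N16680 (iv D51490)))
theorem Q18722 : ∀ i, i < 18722 → P i := stepQ 18721 Q18721 (allL N18721 (tt N17669 F230847) (tt N16712 F230848) (tt N20510 (iv F238895)) (tt N16683 F230849) (tt N17667 F230850) (tt N20554 (iv F239119)) (tt N17678 F230851) (tt N16685 F230852) (tt N20560 D53330) (tt N16682 (iv D51491)))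
theorem Q18723 : ∀ i, i < 18723 → P i := stepQ 18722 Q18722 (allL N18722 (tt N16758 F230853) (tt N16684 (iv D51492)) (tt N16713 F230854) (tt N18722 F230855) (tt N16694 F230856) (tt N20555 (iv F239124)) (tt N16686 F230857) (tt N16697 F230858) (tt N16711 F230859) (tt N20561 D53331))
theorem Q18724 : ∀ i, i < 18724 → P i := stepQ 18723 Q18723 (allL N18723 (tt N17641 F230860) (tt N20561 (iv F239150)) (tt N16685 F230861) (tt N18723 F230862) (tt N20533 (iv F238995)) (tt N20557 (iv F239135)) (tt N16687 F230863) (tt N20510 (iv F238899)) (tt N20562 D53332) (tt N16684 (iv D51493)))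
theorem Q18725 : ∀ i, i < 18725 → P i := stepQ 18724 Q18724 (allL N18724 (tt N20063 (iv F236290)) (tt N16718 F230864) (tt N20562 (iv F239157)) (tt N20457 (iv F238610)) (tt N20536 (iv F239010)) (tt N20559 (iv F239142)) (tt N16688 F230865) (tt N20560 (iv F239148)) (tt N16685 (iv D51494)) (tt N20552 (iv F239110)))
theorem Q18726 : ∀ i, i < 18726 → P i := stepQ 18725 Q18725 (allL N18725 (tt N17613 F230866) (tt N16687 F230867) (tt N16721 F230868) (tt N18725 F230869) (tt N20407 (iv F238345)) (tt N17596 F230870) (tt N20561 (iv F239154)) (tt N20405 (iv F238335)) (tt N20563 D53333) (tt N16686 (iv D51495)))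
theorem Q18727 : ∀ i, i < 18727 → P i := stepQ 18726 Q18726 (allL N18726 (tt N17644 F230871) (tt N20563 (iv F239161)) (tt N16688 F230872) (tt N20564 D53334) (tt N20534 (iv F239000)) (tt N17598 F230873) (tt N20562 (iv F239158)) (tt N20406 (iv F238339)) (tt N16687 (iv D51496)) (tt N17679 F230874))
theorem Q18728 : ∀ i, i < 18728 → P i := stepQ 18727 Q18727 (allL N18727 (tt N16748 F230875) (tt N16863 F230876) (tt N18727 F230877) (tt N20565 D53335) (tt N16691 F230878) (tt N18727 F230879) (tt N16854 F230880) (tt N16690 F230881) (tt N16689 (iv D51497)) (tt N20566 D53336))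
theorem Q18729 : ∀ i, i < 18729 → P i := stepQ 18728 Q18728 (allL N18728 (tt N16749 F230882) (tt N17722 F230883) (tt N20567 D53337) (tt N16690 (iv D51498)) (tt N20568 D53338) (tt N18728 F230884) (tt N17362 F230885) (tt N20565 (iv F239173)) (tt N16960 F230886) (tt N20569 D53339))
theorem Q18730 : ∀ i, i < 18730 → P i := stepQ 18729 Q18729 (allL N18729 (tt N16750 F230887) (tt N17723 F230888) (tt N18729 F230889) (tt N20569 (iv F239198)) (tt N16693 F230890) (tt N18729 F230891) (tt N17374 F230892) (tt N20566 (iv F239182)) (tt N17775 F230893) (tt N16690 (iv D51499)))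
theorem Q18731 : ∀ i, i < 18731 → P i := stepQ 18730 Q18730 (allL N18730 (tt N16752 F230894) (tt N20470 (iv F238688)) (tt N20570 D53340) (tt N16691 (iv D51500)) (tt N20571 D53341) (tt N16694 F230895) (tt N20452 (iv F238579)) (tt N16692 F230896) (tt N16705 F230897) (tt N20572 D53342))
theorem Q18732 : ∀ i, i < 18732 → P i := stepQ 18731 Q18731 (allL N18731 (tt N16753 F230898) (tt N20471 (iv F238695)) (tt N18731 F230899) (tt N20572 (iv F239211)) (tt N20566 (iv F239179)) (tt N16695 F230900) (tt N20453 (iv F238587)) (tt N16693 F230901) (tt N20459 (iv F238626)) (tt N16691 (iv D51501)))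
theorem Q18733 : ∀ i, i < 18733 → P i := stepQ 18732 Q18732 (allL N18732 (tt N16754 F230902) (tt N20573 D53343) (tt N16692 (iv D51502)) (tt N18732 F230903) (tt N20574 D53344) (tt N16696 F230904) (tt N17608 F230905) (tt N20570 (iv F239205)) (tt N16707 F230906) (tt N20575 D53345))
theorem Q18734 : ∀ i, i < 18734 → P i := stepQ 18733 Q18733 (allL N18733 (tt N16755 F230907) (tt N20550 (iv F239095)) (tt N20574 (iv F239222)) (tt N20568 (iv F239193)) (tt N16692 (iv D51503)) (tt N20576 D53346) (tt N17609 F230908) (tt N20571 (iv F239208)) (tt N16708 F230909) (tt N20577 D53347))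
theorem Q18735 : ∀ i, i < 18735 → P i := stepQ 18734 Q18734 (allL N18734 (tt N16756 F230910) (tt N20551 (iv F239101)) (tt N20575 (iv F239226)) (tt N16693 F230911) (tt N20577 (iv F239234)) (tt N16698 F230912) (tt N17610 F230913) (tt N20572 (iv F239213)) (tt N20578 D53348) (tt N16692 (iv D51504)))
theorem Q18736 : ∀ i, i < 18736 → P i := stepQ 18735 Q18735 (allL N18735 (tt N16757 F230914) (tt N16714 F230915) (tt N16694 (iv D51505)) (tt N18735 F230916) (tt N16713 F230917) (tt N20570 (iv F239204)) (tt N16720 F230918) (tt N16696 F230919) (tt N16710 F230920) (tt N20579 D53349))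
theorem Q18737 : ∀ i, i < 18737 → P i := stepQ 18736 Q18736 (allL N18736 (tt N16759 F230921) (tt N20533 (iv F238992)) (tt N20579 (iv F239242)) (tt N16695 F230922) (tt N20561 (iv F239153)) (tt N20572 (iv F239212)) (tt N20407 (iv F238347)) (tt N16698 F230923) (tt N20580 D53350) (tt N16694 (iv D51506)))
theorem Q18738 : ∀ i, i < 18738 → P i := stepQ 18737 Q18737 (allL N18737 (tt N16783 F230924) (tt N16696 (iv D51507)) (tt N16711 F230925) (tt N18737 F230926) (tt N16710 (iv F230930)) (tt N20573 (iv F239217)) (tt N16699 F230927) (tt N16714 F230928) (tt N16713 F230929) (tt N20581 D53351))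
theorem Q18739 : ∀ i, i < 18739 → P i := stepQ 18738 Q18738 (allL N18738 (tt N16761 F230931) (tt N16710 F230932) (tt N16697 F230933) (tt N16739 (iv F230937)) (tt N16696 (iv D51508)) (tt N20582 D53352) (tt N16700 F230934) (tt N16713 F230935) (tt N16714 F230936) (tt N20583 D53353))
theorem Q18740 : ∀ i, i < 18740 → P i := stepQ 18739 Q18739 (allL N18739 (tt N16762 F230938) (tt N20581 (iv F239251)) (tt N16698 F230939) (tt N18739 F230940) (tt N20583 (iv F239268)) (tt N20575 (iv F239228)) (tt N16701 F230941) (tt N20579 (iv F239246)) (tt N20584 D53354) (tt N16696 (iv D51509)))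
theorem Q18741 : ∀ i, i < 18741 → P i := stepQ 18740 Q18740 (allL N18740 (tt N16763 F230942) (tt N20504 (iv F238869)) (tt N20582 (iv F239259)) (tt N18740 F230943) (tt N20576 (iv F239231)) (tt N16697 (iv D51510)) (tt N20028 (iv F236064)) (tt N20555 (iv F239126)) (tt N16716 F230944) (tt N20585 D53355))
theorem Q18742 : ∀ i, i < 18742 → P i := stepQ 18741 Q18741 (allL N18741 (tt N16764 F230945) (tt N20510 (iv F238894)) (tt N20583 (iv F239266)) (tt N18741 F230946) (tt N16698 F230947) (tt N20585 (iv F239277)) (tt N16702 F230948) (tt N20561 (iv F239155)) (tt N20586 D53356) (tt N16697 (iv D51511)))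
theorem Q18743 : ∀ i, i < 18743 → P i := stepQ 18742 Q18742 (allL N18742 (tt N16765 F230949) (tt N20552 (iv F239107)) (tt N20584 (iv F239272)) (tt N20467 (iv F238672)) (tt N20586 (iv F239279)) (tt N20578 (iv F239237)) (tt N16703 F230950) (tt N20580 (iv F239248)) (tt N16698 (iv D51512)) (tt N16718 F230951))
theorem Q18744 : ∀ i, i < 18744 → P i := stepQ 18743 Q18743 (allL N18743 (tt N17596 F230952) (tt N16701 F230953) (tt N17625 F230954) (tt N18743 F230955) (tt N17595 F230956) (tt N17613 F230957) (tt N20581 (iv F239255)) (tt N20410 (iv F238367)) (tt N20587 D53357) (tt N16699 (iv D51513)))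
theorem Q18745 : ∀ i, i < 18745 → P i := stepQ 18744 Q18744 (allL N18744 (tt N16767 F230958) (tt N17595 F230959) (tt N16702 F230960) (tt N17571 F230961) (tt N16701 F230962) (tt N17993 F230963) (tt N20583 (iv F239269)) (tt N20411 (iv F238375)) (tt N20588 D53358) (tt N16700 (iv D51514)))
theorem Q18746 : ∀ i, i < 18746 → P i := stepQ 18745 Q18745 (allL N18745 (tt N16768 F230964) (tt N20587 (iv F239283)) (tt N16703 F230965) (tt N20589 D53359) (tt N20588 (iv F239292)) (tt N17614 F230966) (tt N20584 (iv F239273)) (tt N20412 (iv F238379)) (tt N16701 (iv D51515)) (tt N16723 F230967))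
theorem Q18747 : ∀ i, i < 18747 → P i := stepQ 18746 Q18746 (allL N18746 (tt N16771 F230968) (tt N20511 (iv F238901)) (tt N20588 (iv F239290)) (tt N20590 D53360) (tt N16703 F230969) (tt N20031 (iv F236085)) (tt N20586 (iv F239280)) (tt N20413 (iv F238383)) (tt N16702 (iv D51516)) (tt N16724 F230970))
theorem Q18748 : ∀ i, i < 18748 → P i := stepQ 18747 Q18747 (allL N18747 (tt N16772 F230971) (tt N20458 (iv F238613)) (tt N20090 (iv F236480)) (tt N16704 (iv D51517)) (tt N20591 D53361) (tt N20042 (iv F236154)) (tt N16705 F230972) (tt N17615 F230973) (tt N20452 (iv F238581)) (tt N20592 D53362))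
theorem Q18749 : ∀ i, i < 18749 → P i := stepQ 18748 Q18748 (allL N18748 (tt N16773 F230974) (tt N20459 (iv F238620)) (tt N16731 F230975) (tt N20592 (iv F239307)) (tt N16974 F230976) (tt N20059 (iv F236262)) (tt N16706 F230977) (tt N17616 F230978) (tt N20471 (iv F238701)) (tt N16704 (iv D51518)))
theorem Q18750 : ∀ i, i < 18750 → P i := stepQ 18749 Q18749 (allL N18749 (tt N16774 F230979) (tt N20582 (iv F239258)) (tt N16705 (iv D51519)) (tt N16732 F230980) (tt N20593 D53363) (tt N16710 F230981) (tt N20090 (iv F236483)) (tt N16707 F230982) (tt N20570 (iv F239206)) (tt N20594 D53364))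
theorem Q18751 : ∀ i, i < 18751 → P i := stepQ 18750 Q18750 (allL N18750 (tt N16775 F230983) (tt N20553 (iv F239112)) (tt N20593 (iv F239311)) (tt N16976 F230984) (tt N16705 (iv D51520)) (tt N20595 D53365) (tt N20591 (iv F239304)) (tt N16708 F230985) (tt N20571 (iv F239209)) (tt N20596 D53366))
theorem Q18752 : ∀ i, i < 18752 → P i := stepQ 18751 Q18751 (allL N18751 (tt N16776 F230986) (tt N20554 (iv F239117)) (tt N20594 (iv F239314)) (tt N16706 F230987) (tt N20596 (iv F239325)) (tt N16712 F230988) (tt N20592 (iv F239308)) (tt N16709 F230989) (tt N20597 D53367) (tt N16705 (iv D51521)))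
theorem Q18753 : ∀ i, i < 18753 → P i := stepQ 18752 Q18752 (allL N18752 (tt N20598 D53368) (tt N16707 (iv D51522)) (tt N20555 (iv F239122)) (tt N16735 F230990) (tt N20599 D53369) (tt N16713 F230991) (tt N16785 F230992) (tt N20582 (iv F239262)) (tt N20573 (iv F239220)) (tt N20600 D53370))
theorem Q18754 : ∀ i, i < 18754 → P i := stepQ 18753 Q18753 (allL N18753 (tt N16778 F230993) (tt N20599 (iv F239337)) (tt N16708 F230994) (tt N20296 (iv F237704)) (tt N16707 (iv D51523)) (tt N20601 D53371) (tt N17619 F230995) (tt N20593 (iv F239312)) (tt N20574 (iv F239224)) (tt N20602 D53372))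
theorem Q18755 : ∀ i, i < 18755 → P i := stepQ 18754 Q18754 (allL N18754 (tt N16779 F230996) (tt N20600 (iv F239340)) (tt N16709 F230997) (tt N16736 F230998) (tt N20602 (iv F239349)) (tt N16715 F230999) (tt N17620 F231000) (tt N20594 (iv F239317)) (tt N20603 D53373) (tt N16707 (iv D51524)))
theorem Q18756 : ∀ i, i < 18756 → P i := stepQ 18755 Q18755 (allL N18755 (tt N16780 F231001) (tt N20522 (iv F238952)) (tt N20601 (iv F239345)) (tt N16981 F231002) (tt N16716 F231003) (tt N16708 (iv D51525)) (tt N20036 (iv F236119)) (tt N20595 (iv F239322)) (tt N20576 (iv F239232)) (tt N20604 D53374))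
theorem Q18757 : ∀ i, i < 18757 → P i := stepQ 18756 Q18756 (allL N18756 (tt N16781 F231004) (tt N20558 (iv F239137)) (tt N20602 (iv F239348)) (tt N16982 F231005) (tt N16709 F231006) (tt N20604 (iv F239358)) (tt N17621 F231007) (tt N20596 (iv F239326)) (tt N20605 D53375) (tt N16708 (iv D51526)))
theorem Q18758 : ∀ i, i < 18758 → P i := stepQ 18757 Q18757 (allL N18757 (tt N16782 F231008) (tt N20559 (iv F239141)) (tt N20603 (iv F239352)) (tt N20478 (iv F238736)) (tt N20605 (iv F239360)) (tt N16718 F231009) (tt N17622 F231010) (tt N20597 (iv F239329)) (tt N16709 (iv D51527)) (tt N20578 (iv F239239)))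
theorem Q18759 : ∀ i, i < 18759 → P i := stepQ 18758 Q18758 (allL N18758 (tt N16784 F231011) (tt N20583 (iv F239265)) (tt N16712 F231012) (tt N16740 F231013) (tt N20581 (iv F239254)) (tt N20594 (iv F239316)) (tt N17595 F231014) (tt N16715 F231015) (tt N20606 D53376) (tt N16710 (iv D51528)))
theorem Q18760 : ∀ i, i < 18760 → P i := stepQ 18759 Q18759 (allL N18759 (tt N16785 F231016) (tt N17655 F231017) (tt N20573 (iv F239215)) (tt N16725 F231018) (tt N20595 (iv F239321)) (tt N16711 (iv D51529)) (tt N20598 (iv F239334)) (tt N16716 F231019) (tt N20555 (iv F239127)) (tt N20607 D53377))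
theorem Q18761 : ∀ i, i < 18761 → P i := stepQ 18760 Q18760 (allL N18760 (tt N16786 F231020) (tt N17667 F231021) (tt N20581 (iv F239252)) (tt N16726 F231022) (tt N16712 F231023) (tt N20607 (iv F239369)) (tt N17625 F231024) (tt N16717 F231025) (tt N20608 D53378) (tt N16711 (iv D51530)))
theorem Q18762 : ∀ i, i < 18762 → P i := stepQ 18761 Q18761 (allL N18761 (tt N16787 F231026) (tt N20560 (iv F239145)) (tt N20606 (iv F239363)) (tt N20479 (iv F238741)) (tt N20608 (iv F239373)) (tt N20597 (iv F239328)) (tt N20415 (iv F238393)) (tt N16718 F231027) (tt N16712 (iv D51531)) (tt N20580 (iv F239249)))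
theorem Q18763 : ∀ i, i < 18763 → P i := stepQ 18762 Q18762 (allL N18762 (tt N16713 (iv D51532)) (tt N16788 F231028) (tt N16758 F231029) (tt N16742 F231030) (tt N16757 F231031) (tt N20598 (iv F239333)) (tt N16719 F231032) (tt N16761 F231033) (tt N16783 F231034) (tt N20609 D53379))
theorem Q18764 : ∀ i, i < 18764 → P i := stepQ 18763 Q18763 (allL N18763 (tt N20609 (iv F239376)) (tt N16715 F231035) (tt N20561 (iv F239151)) (tt N16743 F231036) (tt N20579 (iv F239244)) (tt N20600 (iv F239342)) (tt N16721 F231037) (tt N20583 (iv F239270)) (tt N20610 D53380) (tt N16713 (iv D51533)))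
theorem Q18765 : ∀ i, i < 18765 → P i := stepQ 18764 Q18764 (allL N18764 (tt N16791 F231038) (tt N20570 (iv F239202)) (tt N16716 F231039) (tt N18764 F231040) (tt N20601 (iv F239346)) (tt N16714 (iv D51534)) (tt N20045 (iv F236175)) (tt N20573 (iv F239219)) (tt N20582 (iv F239263)) (tt N20611 D53381))
theorem Q18766 : ∀ i, i < 18766 → P i := stepQ 18765 Q18765 (allL N18765 (tt N16792 F231041) (tt N20579 (iv F239241)) (tt N16717 F231042) (tt N18765 F231043) (tt N16715 F231044) (tt N20611 (iv F239388)) (tt N16722 F231045) (tt N20581 (iv F239256)) (tt N20612 D53382) (tt N16714 (iv D51535)))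
theorem Q18767 : ∀ i, i < 18767 → P i := stepQ 18766 Q18766 (allL N18766 (tt N16793 F231046) (tt N20610 (iv F239383)) (tt N16718 F231047) (tt N20613 D53383) (tt N20612 (iv F239391)) (tt N20603 (iv F239353)) (tt N16723 F231048) (tt N20606 (iv F239365)) (tt N16715 (iv D51536)) (tt N20584 (iv F239274)))
theorem Q18768 : ∀ i, i < 18768 → P i := stepQ 18767 Q18767 (allL N18767 (tt N16795 F231049) (tt N20527 (iv F238968)) (tt N20611 (iv F239386)) (tt N16728 F231050) (tt N20604 (iv F239357)) (tt N16717 F231051) (tt N20048 (iv F236194)) (tt N20607 (iv F239370)) (tt N20614 D53384) (tt N16716 (iv D51537)))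
theorem Q18769 : ∀ i, i < 18769 → P i := stepQ 18768 Q18768 (allL N18768 (tt N16796 F231052) (tt N20536 (iv F239009)) (tt N20612 (iv F239390)) (tt N20615 D53385) (tt N16718 F231053) (tt N20614 (iv F239397)) (tt N16724 F231054) (tt N20608 (iv F239375)) (tt N16717 (iv D51538)) (tt N20586 (iv F239281)))
theorem Q18770 : ∀ i, i < 18770 → P i := stepQ 18769 Q18769 (allL N18769 (tt N16721 F231055) (tt N16797 F231056) (tt N17613 F231057) (tt N16745 F231058) (tt N17579 F231059) (tt N17625 F231060) (tt N20609 (iv F239381)) (tt N20417 (iv F238406)) (tt N20616 D53386) (tt N16719 (iv D51539)))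
theorem Q18771 : ∀ i, i < 18771 → P i := stepQ 18770 Q18770 (allL N18770 (tt N17579 F231061) (tt N16722 F231062) (tt N20407 (iv F238343)) (tt N18770 F231063) (tt N16721 F231064) (tt N20051 (iv F236211)) (tt N20579 (iv F239245)) (tt N20408 (iv F238356)) (tt N20617 D53387) (tt N16720 (iv D51540)))
theorem Q18772 : ∀ i, i < 18772 → P i := stepQ 18771 Q18771 (allL N18771 (tt N20616 (iv F239401)) (tt N16723 F231065) (tt N20563 (iv F239162)) (tt N20618 D53388) (tt N20617 (iv F239409)) (tt N17626 F231066) (tt N20610 (iv F239384)) (tt N20419 (iv F238414)) (tt N16721 (iv D51541)) (tt N20587 (iv F239287)))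
theorem Q18773 : ∀ i, i < 18773 → P i := stepQ 18772 Q18772 (allL N18772 (tt N16802 F231067) (tt N20617 (iv F239408)) (tt N16724 F231068) (tt N20619 D53389) (tt N16723 F231069) (tt N20053 (iv F236222)) (tt N20612 (iv F239392)) (tt N20420 (iv F238418)) (tt N16722 (iv D51542)) (tt N20588 (iv F239294)))
theorem Q18774 : ∀ i, i < 18774 → P i := stepQ 18773 Q18773 (allL N18773 (tt N16803 F231070) (tt N20618 (iv F239411)) (tt N20484 (iv F238771)) (tt N16723 (iv D51543)) (tt N20620 D53390) (tt N17627 F231071) (tt N20613 (iv F239394)) (tt N20421 (iv F238421)) (tt N16747 F231072) (tt N20589 (iv F239298)))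
theorem Q18775 : ∀ i, i < 18775 → P i := stepQ 18774 Q18774 (allL N18774 (tt N16807 F231073) (tt N20537 (iv F239013)) (tt N20621 D53391) (tt N16724 (iv D51544)) (tt N20485 (iv F238778)) (tt N20054 (iv F236228)) (tt N20615 (iv F239399)) (tt N20422 (iv F238424)) (tt N16730 F231074) (tt N20590 (iv F239301)))
theorem Q18776 : ∀ i, i < 18776 → P i := stepQ 18775 Q18775 (allL N18775 (tt N16735 F231075) (tt N16822 F231076) (tt N18775 F231077) (tt N20598 (iv F239332)) (tt N16998 F231078) (tt N16742 F231079) (tt N16725 (iv D51545)) (tt N17566 F231080) (tt N18775 F231081) (tt N20622 D53392))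
theorem Q18777 : ∀ i, i < 18777 → P i := stepQ 18776 Q18776 (allL N18776 (tt N16808 F231082) (tt N17694 F231083) (tt N18776 F231084) (tt N20607 (iv F239368)) (tt N16999 F231085) (tt N16726 F231086) (tt N20622 (iv F239430)) (tt N16728 F231087) (tt N20623 D53393) (tt N16725 (iv D51546)))
theorem Q18778 : ∀ i, i < 18778 → P i := stepQ 18777 Q18777 (allL N18777 (tt N16809 F231088) (tt N17704 F231089) (tt N18777 F231090) (tt N20548 (iv F239082)) (tt N16727 F231091) (tt N20623 (iv F239436)) (tt N17633 F231092) (tt N16729 F231093) (tt N16726 (iv D51547)) (tt N18777 F231094))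
theorem Q18779 : ∀ i, i < 18779 → P i := stepQ 18778 Q18778 (allL N18778 (tt N16812 F231095) (tt N20539 (iv F239025)) (tt N18778 F231096) (tt N20624 D53394) (tt N17001 F231097) (tt N16729 F231098) (tt N20056 (iv F236243)) (tt N20623 (iv F239437)) (tt N16728 (iv D51548)) (tt N18778 F231099))
theorem Q18780 : ∀ i, i < 18780 → P i := stepQ 18779 Q18779 (allL N18779 (tt N16813 F231100) (tt N20542 (iv F239042)) (tt N20625 D53395) (tt N16729 (iv D51549)) (tt N20487 (iv F238791)) (tt N20624 (iv F239440)) (tt N16730 F231101) (tt N20548 (iv F239084)) (tt N20615 (iv F239400)) (tt N18779 F231102))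
theorem Q18781 : ∀ i, i < 18781 → P i := stepQ 18780 Q18780 (allL N18780 (tt N16817 F231103) (tt N17607 F231104) (tt N16730 (iv D51550)) (tt N18780 F231105) (tt N17606 F231106) (tt N20058 (iv F236256)) (tt N20625 (iv F239446)) (tt N20424 (iv F238439)) (tt N20621 (iv F239424)) (tt N18780 F231107))
theorem Q18782 : ∀ i, i < 18782 → P i := stepQ 18781 Q18781 (allL N18781 (tt N17566 F231108) (tt N16732 (iv D51551)) (tt N18781 F231109) (tt N20582 (iv F239260)) (tt N17108 F231110) (tt N16739 F231111) (tt N16810 F231112) (tt N16735 F231113) (tt N18781 F231114) (tt N20626 D53396))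
theorem Q18783 : ∀ i, i < 18783 → P i := stepQ 18782 Q18782 (allL N18782 (tt N16819 F231115) (tt N20626 (iv F239450)) (tt N16734 F231116) (tt N20594 (iv F239315)) (tt N20342 (iv F237947)) (tt N16740 F231117) (tt N20100 (iv F236539)) (tt N16736 F231118) (tt N20627 D53397) (tt N16732 (iv D51552)))
theorem Q18784 : ∀ i, i < 18784 → P i := stepQ 18783 Q18783 (allL N18783 (tt N16820 F231119) (tt N18783 F231120) (tt N20342 (iv F237946)) (tt N17009 F231121) (tt N16734 F231122) (tt N18783 F231123) (tt N20002 (iv F235863)) (tt N16737 F231124) (tt N20628 D53398) (tt N16733 (iv D51553)))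
theorem Q18785 : ∀ i, i < 18785 → P i := stepQ 18784 Q18784 (allL N18784 (tt N16821 F231125) (tt N18784 F231126) (tt N20627 (iv F239459)) (tt N20451 (iv F238570)) (tt N20628 (iv F239467)) (tt N16741 F231127) (tt N20549 (iv F239091)) (tt N16738 F231128) (tt N16734 (iv D51554)) (tt N18784 F231129))
theorem Q18786 : ∀ i, i < 18786 → P i := stepQ 18785 Q18785 (allL N18785 (tt N20622 (iv F239425)) (tt N16736 F231130) (tt N18785 F231131) (tt N20600 (iv F239341)) (tt N17109 F231132) (tt N16743 F231133) (tt N16808 F231134) (tt N20626 (iv F239455)) (tt N20629 D53399) (tt N16735 (iv D51555)))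
theorem Q18787 : ∀ i, i < 18787 → P i := stepQ 18786 Q18786 (allL N18786 (tt N16827 F231135) (tt N20629 (iv F239471)) (tt N16738 F231136) (tt N20630 D53400) (tt N20343 (iv F237954)) (tt N16744 F231137) (tt N17630 F231138) (tt N20627 (iv F239462)) (tt N16736 (iv D51556)) (tt N18786 F231139))
theorem Q18788 : ∀ i, i < 18788 → P i := stepQ 18787 Q18787 (allL N18787 (tt N16828 F231140) (tt N18787 F231141) (tt N20343 (iv F237953)) (tt N17961 F231142) (tt N16738 F231143) (tt N18787 F231144) (tt N17631 F231145) (tt N20628 (iv F239469)) (tt N16737 (iv D51557)) (tt N18787 F231146))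
theorem Q18789 : ∀ i, i < 18789 → P i := stepQ 18788 Q18788 (allL N18788 (tt N17569 F231147) (tt N16740 F231148) (tt N18788 F231149) (tt N20583 (iv F239267)) (tt N18788 F231150) (tt N20626 (iv F239453)) (tt N17571 F231151) (tt N16743 F231152) (tt N18003 (iv F231153)) (tt N16739 (iv D51558)))
theorem Q18790 : ∀ i, i < 18790 → P i := stepQ 18789 Q18789 (allL N18789 (tt N16829 F231154) (tt N18003 F231155) (tt N16741 F231156) (tt N20541 (iv F239035)) (tt N18789 F231157) (tt N20627 (iv F239460)) (tt N17605 F231158) (tt N16744 F231159) (tt N16740 (iv D51559)) (tt N18789 F231160))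
theorem Q18791 : ∀ i, i < 18791 → P i := stepQ 18790 Q18790 (allL N18790 (tt N16743 F231161) (tt N16830 F231162) (tt N18790 F231163) (tt N20609 (iv F239379)) (tt N18790 F231164) (tt N20622 (iv F239429)) (tt N16745 F231165) (tt N17569 F231166) (tt N20631 D53401) (tt N16742 (iv D51560)))
theorem Q18792 : ∀ i, i < 18792 → P i := stepQ 18791 Q18791 (allL N18791 (tt N20631 (iv F239482)) (tt N16744 F231167) (tt N18791 F231168) (tt N20632 D53402) (tt N18791 F231169) (tt N20629 (iv F239474)) (tt N16746 F231170) (tt N18003 F231171) (tt N16743 (iv D51561)) (tt N18791 F231172))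
theorem Q18793 : ∀ i, i < 18793 → P i := stepQ 18792 Q18792 (allL N18792 (tt N16832 F231173) (tt N20632 (iv F239489)) (tt N20489 (iv F238805)) (tt N16744 (iv D51562)) (tt N20633 D53403) (tt N20630 (iv F239479)) (tt N16747 F231174) (tt N20541 (iv F239038)) (tt N20613 (iv F239395)) (tt N18792 F231175))
theorem Q18794 : ∀ i, i < 18794 → P i := stepQ 18793 Q18793 (allL N18793 (tt N16746 F231176) (tt N16833 F231177) (tt N18793 F231178) (tt N20105 (iv F236569)) (tt N18793 F231179) (tt N17633 F231180) (tt N20631 (iv F239486)) (tt N20423 (iv F238432)) (tt N16745 (iv D51563)) (tt N18793 F231181))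
theorem Q18795 : ∀ i, i < 18795 → P i := stepQ 18794 Q18794 (allL N18794 (tt N20105 (iv F236567)) (tt N16747 F231182) (tt N20634 D53404) (tt N16746 (iv D51564)) (tt N20635 D53405) (tt N17634 F231183) (tt N20632 (iv F239490)) (tt N20425 (iv F238444)) (tt N20618 (iv F239413)) (tt N18794 F231184))
theorem Q18796 : ∀ i, i < 18796 → P i := stepQ 18795 Q18795 (allL N18795 (tt N16835 F231185) (tt N20635 (iv F239506)) (tt N17634 F231186) (tt N18795 F231187) (tt N16747 (iv D51565)) (tt N20634 (iv F239502)) (tt N20633 (iv F239496)) (tt N20426 (iv F238450)) (tt N20620 (iv F239420)) (tt N18795 F231188))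
theorem Q18797 : ∀ i, i < 18797 → P i := stepQ 18796 Q18796 (allL N18796 (tt N20565 (iv F239169)) (tt N17911 F231189) (tt N20636 D53406) (tt N16748 (iv D51566)) (tt N20637 D53407) (tt N18796 F231190) (tt N17466 F231191) (tt N16749 F231192) (tt N17017 F231193) (tt N20638 D53408))
theorem Q18798 : ∀ i, i < 18798 → P i := stepQ 18797 Q18797 (allL N18797 (tt N20566 (iv F239176)) (tt N17938 F231194) (tt N18797 F231195) (tt N20638 (iv F239523)) (tt N16753 F231196) (tt N18797 F231197) (tt N17482 F231198) (tt N16750 F231199) (tt N20187 (iv F237072)) (tt N16748 (iv D51567)))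
theorem Q18799 : ∀ i, i < 18799 → P i := stepQ 18798 Q18798 (allL N18798 (tt N20567 (iv F239184)) (tt N20639 D53409) (tt N16749 (iv D51568)) (tt N18798 F231200) (tt N20640 D53410) (tt N18798 F231201) (tt N17452 F231202) (tt N20636 (iv F239515)) (tt N17019 F231203) (tt N20641 D53411))
theorem Q18800 : ∀ i, i < 18800 → P i := stepQ 18799 Q18799 (allL N18799 (tt N20568 (iv F239191)) (tt N17883 F231204) (tt N20640 (iv F239532)) (tt N16755 F231205) (tt N16749 (iv D51569)) (tt N20642 D53412) (tt N17436 F231206) (tt N20637 (iv F239520)) (tt N17020 F231207) (tt N20643 D53413))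
theorem Q18801 : ∀ i, i < 18801 → P i := stepQ 18800 Q18800 (allL N18800 (tt N20569 (iv F239196)) (tt N17912 F231208) (tt N20641 (iv F239535)) (tt N16750 F231209) (tt N20643 (iv F239546)) (tt N18800 F231210) (tt N17455 F231211) (tt N20638 (iv F239526)) (tt N20644 D53414) (tt N16749 (iv D51570)))
theorem Q18802 : ∀ i, i < 18802 → P i := stepQ 18801 Q18801 (allL N18801 (tt N20452 (iv F238576)) (tt N17675 F231212) (tt N20495 (iv F238834)) (tt N16751 (iv D51571)) (tt N20645 D53415) (tt N17269 F231213) (tt N16752 F231214) (tt N17260 F231215) (tt N16772 F231216) (tt N20646 D53416))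
theorem Q18803 : ∀ i, i < 18803 → P i := stepQ 18802 Q18802 (allL N18802 (tt N20453 (iv F238582)) (tt N17689 F231217) (tt N18802 F231218) (tt N20646 (iv F239558)) (tt N17482 F231219) (tt N17273 F231220) (tt N16753 F231221) (tt N17272 F231222) (tt N17988 F231223) (tt N16751 (iv D51572)))
theorem Q18804 : ∀ i, i < 18804 → P i := stepQ 18803 Q18803 (allL N18803 (tt N20570 (iv F239201)) (tt N17574 F231224) (tt N16752 (iv D51573)) (tt N18803 F231225) (tt N20647 D53417) (tt N16757 F231226) (tt N20495 (iv F238837)) (tt N16754 F231227) (tt N16774 F231228) (tt N20648 D53418))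
theorem Q18805 : ∀ i, i < 18805 → P i := stepQ 18804 Q18804 (allL N18804 (tt N20571 (iv F239207)) (tt N20071 (iv F236353)) (tt N20647 (iv F239563)) (tt N20637 (iv F239518)) (tt N16752 (iv D51574)) (tt N20649 D53419) (tt N20645 (iv F239554)) (tt N16755 F231229) (tt N16775 F231230) (tt N20650 D53420))
theorem Q18806 : ∀ i, i < 18806 → P i := stepQ 18805 Q18805 (allL N18805 (tt N20572 (iv F239210)) (tt N20072 (iv F236361)) (tt N20648 (iv F239567)) (tt N16753 F231231) (tt N20650 (iv F239575)) (tt N16759 F231232) (tt N20646 (iv F239560)) (tt N16756 F231233) (tt N20651 D53421) (tt N16752 (iv D51575)))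
theorem Q18807 : ∀ i, i < 18807 → P i := stepQ 18806 Q18806 (allL N18806 (tt N17590 (iv F231240)) (tt N16754 (iv D51576)) (tt N17222 F231234) (tt N18806 F231235) (tt N20652 D53422) (tt N16760 F231236) (tt N17636 F231237) (tt N17574 F231238) (tt N16777 F231239) (tt N20653 D53423))
theorem Q18808 : ∀ i, i < 18808 → P i := stepQ 18807 Q18807 (allL N18807 (tt N20574 (iv F239221)) (tt N20652 (iv F239581)) (tt N16755 F231241) (tt N20654 D53424) (tt N16754 (iv D51577)) (tt N20655 D53425) (tt N17637 F231242) (tt N20647 (iv F239564)) (tt N16778 F231243) (tt N20656 D53426))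
theorem Q18809 : ∀ i, i < 18809 → P i := stepQ 18808 Q18808 (allL N18808 (tt N20575 (iv F239225)) (tt N20653 (iv F239588)) (tt N16756 F231244) (tt N18808 F231245) (tt N20656 (iv F239601)) (tt N16762 F231246) (tt N17638 F231247) (tt N20648 (iv F239570)) (tt N20657 D53427) (tt N16754 (iv D51578)))
theorem Q18810 : ∀ i, i < 18810 → P i := stepQ 18809 Q18809 (allL N18809 (tt N20576 (iv F239230)) (tt N20073 (iv F236368)) (tt N20655 (iv F239597)) (tt N20642 (iv F239540)) (tt N16763 F231248) (tt N16755 (iv D51579)) (tt N20658 D53428) (tt N20649 (iv F239573)) (tt N16780 F231249) (tt N20659 D53429))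
theorem Q18811 : ∀ i, i < 18811 → P i := stepQ 18810 Q18810 (allL N18810 (tt N20577 (iv F239233)) (tt N20074 (iv F236376)) (tt N20656 (iv F239600)) (tt N20643 (iv F239545)) (tt N16756 F231250) (tt N20659 (iv F239613)) (tt N17639 F231251) (tt N20650 (iv F239576)) (tt N20660 D53430) (tt N16755 (iv D51580)))
theorem Q18812 : ∀ i, i < 18812 → P i := stepQ 18811 Q18811 (allL N18811 (tt N20578 (iv F239236)) (tt N20075 (iv F236382)) (tt N20657 (iv F239603)) (tt N20500 (iv F238851)) (tt N20660 (iv F239614)) (tt N16765 F231252) (tt N17640 F231253) (tt N20651 (iv F239578)) (tt N16756 (iv D51581)) (tt N16782 F231254))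
theorem Q18813 : ∀ i, i < 18813 → P i := stepQ 18812 Q18812 (allL N18812 (tt N20579 (iv F239240)) (tt N17577 F231255) (tt N16759 F231256) (tt N18812 F231257) (tt N20609 (iv F239380)) (tt N20648 (iv F239569)) (tt N17579 F231258) (tt N16762 F231259) (tt N20661 D53431) (tt N16757 (iv D51582)))
theorem Q18814 : ∀ i, i < 18814 → P i := stepQ 18813 Q18813 (allL N18813 (tt N20555 (iv F239121)) (tt N17608 F231260) (tt N20598 (iv F239331)) (tt N18813 F231261) (tt N20649 (iv F239572)) (tt N16758 (iv D51583)) (tt N20573 (iv F239218)) (tt N16763 F231262) (tt N16785 F231263) (tt N20662 D53432))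
theorem Q18815 : ∀ i, i < 18815 → P i := stepQ 18814 Q18814 (allL N18814 (tt N20561 (iv F239149)) (tt N17611 F231264) (tt N20609 (iv F239378)) (tt N18814 F231265) (tt N16759 F231266) (tt N20662 (iv F239624)) (tt N17613 F231267) (tt N16764 F231268) (tt N20663 D53433) (tt N16758 (iv D51584)))
theorem Q18816 : ∀ i, i < 18816 → P i := stepQ 18815 Q18815 (allL N18815 (tt N20580 (iv F239247)) (tt N20076 (iv F236388)) (tt N20661 (iv F239618)) (tt N20501 (iv F238856)) (tt N20663 (iv F239627)) (tt N20651 (iv F239577)) (tt N20428 (iv F238463)) (tt N16765 F231269) (tt N16759 (iv D51585)) (tt N16787 F231270))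
theorem Q18817 : ∀ i, i < 18817 → P i := stepQ 18816 Q18816 (allL N18816 (tt N17591 F231271) (tt N16762 F231272) (tt N17224 F231273) (tt N18816 F231274) (tt N17563 F231275) (tt N20653 (iv F239591)) (tt N16766 F231276) (tt N17577 F231277) (tt N20664 D53434) (tt N16760 (iv D51586)))
theorem Q18818 : ∀ i, i < 18818 → P i := stepQ 18817 Q18817 (allL N18817 (tt N20582 (iv F239257)) (tt N17559 F231278) (tt N16763 F231279) (tt N17566 F231280) (tt N20655 (iv F239598)) (tt N16761 (iv D51587)) (tt N20039 (iv F236134)) (tt N20598 (iv F239335)) (tt N16791 F231281) (tt N20665 D53435))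
theorem Q18819 : ∀ i, i < 18819 → P i := stepQ 18818 Q18818 (allL N18818 (tt N20583 (iv F239264)) (tt N17563 F231282) (tt N16764 F231283) (tt N17569 F231284) (tt N16762 F231285) (tt N20665 (iv F239641)) (tt N16767 F231286) (tt N20609 (iv F239382)) (tt N20666 D53436) (tt N16761 (iv D51588)))
theorem Q18820 : ∀ i, i < 18820 → P i := stepQ 18819 Q18819 (allL N18819 (tt N20584 (iv F239271)) (tt N20664 (iv F239632)) (tt N16765 F231287) (tt N20667 D53437) (tt N20666 (iv F239644)) (tt N20657 (iv F239604)) (tt N16768 F231288) (tt N20661 (iv F239620)) (tt N16762 (iv D51589)) (tt N16793 F231289))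
theorem Q18821 : ∀ i, i < 18821 → P i := stepQ 18820 Q18820 (allL N18820 (tt N20028 (iv F236060)) (tt N20077 (iv F236396)) (tt N20039 (iv F236132)) (tt N18820 F231290) (tt N20658 (iv F239609)) (tt N16769 F231291) (tt N16763 (iv D51590)) (tt N20045 (iv F236176)) (tt N16794 F231292) (tt N20668 D53438))
theorem Q18822 : ∀ i, i < 18822 → P i := stepQ 18821 Q18821 (allL N18821 (tt N20585 (iv F239275)) (tt N20078 (iv F236403)) (tt N20665 (iv F239639)) (tt N18821 F231293) (tt N20659 (iv F239612)) (tt N16764 F231294) (tt N20668 (iv F239652)) (tt N20662 (iv F239625)) (tt N20669 D53439) (tt N16763 (iv D51591)))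
theorem Q18823 : ∀ i, i < 18823 → P i := stepQ 18822 Q18822 (allL N18822 (tt N20586 (iv F239278)) (tt N20079 (iv F236409)) (tt N20666 (iv F239643)) (tt N20670 D53440) (tt N16765 F231295) (tt N20669 (iv F239653)) (tt N16771 F231296) (tt N20663 (iv F239629)) (tt N16764 (iv D51592)) (tt N16796 F231297))
theorem Q18824 : ∀ i, i < 18824 → P i := stepQ 18823 Q18823 (allL N18823 (tt N17598 F231298) (tt N16768 F231299) (tt N17225 F231300) (tt N20671 D53441) (tt N17565 F231301) (tt N17644 F231302) (tt N20664 (iv F239635)) (tt N20431 (iv F238482)) (tt N16766 (iv D51593)) (tt N16799 F231303))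
theorem Q18825 : ∀ i, i < 18825 → P i := stepQ 18824 Q18824 (allL N18824 (tt N20588 (iv F239288)) (tt N17565 F231304) (tt N16771 F231305) (tt N20672 D53442) (tt N16768 F231306) (tt N20483 (iv F238767)) (tt N20666 (iv F239645)) (tt N20432 (iv F238487)) (tt N16767 (iv D51594)) (tt N16802 F231307))
theorem Q18826 : ∀ i, i < 18826 → P i := stepQ 18825 Q18825 (allL N18825 (tt N20589 (iv F239295)) (tt N20671 (iv F239659)) (tt N20509 (iv F238889)) (tt N16768 (iv D51595)) (tt N20673 D53443) (tt N17646 F231308) (tt N20667 (iv F239647)) (tt N20433 (iv F238490)) (tt N18825 F231309) (tt N16803 F231310))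
theorem Q18827 : ∀ i, i < 18827 → P i := stepQ 18826 Q18826 (allL N18826 (tt N20029 (iv F236067)) (tt N20080 (iv F236416)) (tt N20040 (iv F236139)) (tt N18826 F231311) (tt N17280 F231312) (tt N20668 (iv F239651)) (tt N16770 F231313) (tt N20046 (iv F236183)) (tt N20674 D53444) (tt N16769 (iv D51596)))
theorem Q18828 : ∀ i, i < 18828 → P i := stepQ 18827 Q18827 (allL N18827 (tt N20031 (iv F236081)) (tt N20081 (iv F236422)) (tt N20483 (iv F238764)) (tt N20675 D53445) (tt N17268 F231314) (tt N16771 F231315) (tt N20674 (iv F239672)) (tt N20434 (iv F238496)) (tt N16770 (iv D51597)) (tt N16806 F231316))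
theorem Q18829 : ∀ i, i < 18829 → P i := stepQ 18828 Q18828 (allL N18828 (tt N20590 (iv F239299)) (tt N20082 (iv F236429)) (tt N20676 D53446) (tt N16771 (iv D51598)) (tt N20512 (iv F238906)) (tt N20675 (iv F239675)) (tt N20670 (iv F239655)) (tt N20435 (iv F238498)) (tt N18828 F231317) (tt N16807 F231318))
theorem Q18830 : ∀ i, i < 18830 → P i := stepQ 18829 Q18829 (allL N18829 (tt N20591 (iv F239302)) (tt N20034 (iv F236102)) (tt N20517 (iv F238929)) (tt N17055 F231319) (tt N16772 (iv D51599)) (tt N20677 D53447) (tt N16775 F231320) (tt N17648 F231321) (tt N20645 (iv F239556)) (tt N20678 D53448))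
theorem Q18831 : ∀ i, i < 18831 → P i := stepQ 18830 Q18830 (allL N18830 (tt N20592 (iv F239306)) (tt N20035 (iv F236109)) (tt N20518 (iv F238933)) (tt N16773 F231322) (tt N20678 (iv F239683)) (tt N20044 (iv F236169)) (tt N16776 F231323) (tt N17649 F231324) (tt N20679 D53449) (tt N16772 (iv D51600)))
theorem Q18832 : ∀ i, i < 18832 → P i := stepQ 18831 Q18831 (allL N18831 (tt N20593 (iv F239310)) (tt N17584 F231325) (tt N16775 F231326) (tt N20680 D53450) (tt N16774 (iv D51601)) (tt N20681 D53451) (tt N20517 (iv F238930)) (tt N16778 F231327) (tt N20647 (iv F239565)) (tt N20682 D53452))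
theorem Q18833 : ∀ i, i < 18833 → P i := stepQ 18832 Q18832 (allL N18832 (tt N20594 (iv F239313)) (tt N17585 F231328) (tt N16776 F231329) (tt N16819 F231330) (tt N20682 (iv F239698)) (tt N16784 F231331) (tt N20518 (iv F238936)) (tt N16779 F231332) (tt N20683 D53453) (tt N16774 (iv D51602)))
theorem Q18834 : ∀ i, i < 18834 → P i := stepQ 18833 Q18833 (allL N18833 (tt N20595 (iv F239318)) (tt N17619 F231333) (tt N20681 (iv F239693)) (tt N17060 F231334) (tt N16785 F231335) (tt N16775 (iv D51603)) (tt N20599 (iv F239339)) (tt N16780 F231336) (tt N20649 (iv F239574)) (tt N20684 D53454))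
theorem Q18835 : ∀ i, i < 18835 → P i := stepQ 18834 Q18834 (allL N18834 (tt N20596 (iv F239323)) (tt N20083 (iv F236434)) (tt N20682 (iv F239697)) (tt N17061 F231337) (tt N16776 F231338) (tt N20684 (iv F239707)) (tt N20678 (iv F239684)) (tt N16781 F231339) (tt N20685 D53455) (tt N16775 (iv D51604)))
theorem Q18836 : ∀ i, i < 18836 → P i := stepQ 18835 Q18835 (allL N18835 (tt N20597 (iv F239327)) (tt N20084 (iv F236441)) (tt N20683 (iv F239701)) (tt N20516 (iv F238925)) (tt N20685 (iv F239709)) (tt N16787 F231340) (tt N20679 (iv F239686)) (tt N16782 F231341) (tt N16776 (iv D51605)) (tt N20651 (iv F239579)))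
theorem Q18837 : ∀ i, i < 18837 → P i := stepQ 18836 Q18836 (allL N18836 (tt N16777 (iv D51606)) (tt N20598 (iv F239330)) (tt N17557 F231342) (tt N16822 F231343) (tt N20686 D53456) (tt N16788 F231344) (tt N17655 F231345) (tt N17559 F231346) (tt N17590 F231347) (tt N20687 D53457))
theorem Q18838 : ∀ i, i < 18838 → P i := stepQ 18837 Q18837 (allL N18837 (tt N20686 (iv F239711)) (tt N16778 F231348) (tt N17582 F231349) (tt N20688 D53458) (tt N16777 (iv D51607)) (tt N20689 D53459) (tt N17656 F231350) (tt N17584 F231351) (tt N20652 (iv F239586)) (tt N20690 D53460))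
theorem Q18839 : ∀ i, i < 18839 → P i := stepQ 18838 Q18838 (allL N18838 (tt N20687 (iv F239717)) (tt N16779 F231352) (tt N17583 F231353) (tt N16824 F231354) (tt N20690 (iv F239736)) (tt N16790 F231355) (tt N17657 F231356) (tt N17585 F231357) (tt N20691 D53461) (tt N16777 (iv D51608)))
theorem Q18840 : ∀ i, i < 18840 → P i := stepQ 18839 Q18839 (allL N18839 (tt N20296 (iv F237701)) (tt N20688 (iv F239723)) (tt N17066 F231358) (tt N16778 (iv D51609)) (tt N16825 F231359) (tt N20692 D53462) (tt N17658 F231360) (tt N20680 (iv F239691)) (tt N20693 D53463) (tt N20694 D53464))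
theorem Q18841 : ∀ i, i < 18841 → P i := stepQ 18840 Q18840 (allL N18840 (tt N20601 (iv F239344)) (tt N20689 (iv F239729)) (tt N16780 F231361) (tt N20692 (iv F239745)) (tt N16791 F231362) (tt N16778 (iv D51610)) (tt N20695 D53465) (tt N20681 (iv F239695)) (tt N20655 (iv F239599)) (tt N20696 D53466))
theorem Q18842 : ∀ i, i < 18842 → P i := stepQ 18841 Q18841 (allL N18841 (tt N20602 (iv F239347)) (tt N20690 (iv F239734)) (tt N16781 F231363) (tt N20694 (iv F239751)) (tt N16779 F231364) (tt N20696 (iv F239759)) (tt N17660 F231365) (tt N20682 (iv F239699)) (tt N20697 D53467) (tt N16778 (iv D51611)))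
theorem Q18843 : ∀ i, i < 18843 → P i := stepQ 18842 Q18842 (allL N18842 (tt N20603 (iv F239351)) (tt N20691 (iv F239739)) (tt N16782 F231366) (tt N20698 D53468) (tt N20697 (iv F239761)) (tt N16793 F231367) (tt N17661 F231368) (tt N20683 (iv F239703)) (tt N16779 (iv D51612)) (tt N20657 (iv F239606)))
theorem Q18844 : ∀ i, i < 18844 → P i := stepQ 18843 Q18843 (allL N18843 (tt N20036 (iv F236115)) (tt N20087 (iv F236462)) (tt N20695 (iv F239754)) (tt N17070 F231369) (tt N16794 F231370) (tt N17662 F231371) (tt N16780 (iv D51613)) (tt N20699 D53469) (tt N20658 (iv F239611)) (tt N20700 D53470))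
theorem Q18845 : ∀ i, i < 18845 → P i := stepQ 18844 Q18844 (allL N18844 (tt N20604 (iv F239355)) (tt N20088 (iv F236469)) (tt N20696 (iv F239757)) (tt N17071 F231372) (tt N16795 F231373) (tt N16781 F231374) (tt N20700 (iv F239772)) (tt N20684 (iv F239708)) (tt N20701 D53471) (tt N16780 (iv D51614)))
theorem Q18846 : ∀ i, i < 18846 → P i := stepQ 18845 Q18845 (allL N18845 (tt N20605 (iv F239359)) (tt N20089 (iv F236475)) (tt N20697 (iv F239760)) (tt N20702 D53472) (tt N16782 F231375) (tt N20701 (iv F239774)) (tt N17664 F231376) (tt N20685 (iv F239710)) (tt N16781 (iv D51615)) (tt N20660 (iv F239616)))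
theorem Q18847 : ∀ i, i < 18847 → P i := stepQ 18846 Q18846 (allL N18846 (tt N20573 (iv F239214)) (tt N17590 F231377) (tt N16785 F231378) (tt N18846 F231379) (tt N20681 (iv F239694)) (tt N16783 (iv D51616)) (tt N20555 (iv F239125)) (tt N16791 F231380) (tt N20598 (iv F239336)) (tt N20703 D53473))
theorem Q18848 : ∀ i, i < 18848 → P i := stepQ 18847 Q18847 (allL N18847 (tt N20581 (iv F239250)) (tt N17591 F231381) (tt N16786 F231382) (tt N18847 F231383) (tt N16784 F231384) (tt N20703 (iv F239780)) (tt N17596 F231385) (tt N16792 F231386) (tt N20704 D53474) (tt N16783 (iv D51617)))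
theorem Q18849 : ∀ i, i < 18849 → P i := stepQ 18848 Q18848 (allL N18848 (tt N20606 (iv F239362)) (tt N17592 F231387) (tt N16787 F231388) (tt N20705 D53475) (tt N20704 (iv F239784)) (tt N20683 (iv F239702)) (tt N17597 F231389) (tt N16793 F231390) (tt N16784 (iv D51618)) (tt N20661 (iv F239621)))
theorem Q18850 : ∀ i, i < 18850 → P i := stepQ 18849 Q18849 (allL N18849 (tt N20607 (iv F239366)) (tt N17620 F231391) (tt N20703 (iv F239778)) (tt N16808 F231392) (tt N20684 (iv F239706)) (tt N16786 F231393) (tt N20600 (iv F239343)) (tt N16795 F231394) (tt N20706 D53476) (tt N16785 (iv D51619)))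
theorem Q18851 : ∀ i, i < 18851 → P i := stepQ 18850 Q18850 (allL N18850 (tt N20608 (iv F239371)) (tt N17624 F231395) (tt N20704 (iv F239783)) (tt N20707 D53477) (tt N16787 F231396) (tt N20706 (iv F239792)) (tt N17626 F231397) (tt N16796 F231398) (tt N16786 (iv D51620)) (tt N20663 (iv F239630)))
theorem Q18852 : ∀ i, i < 18852 → P i := stepQ 18851 Q18851 (allL N18851 (tt N16790 F231399) (tt N20609 (iv F239377)) (tt N17562 F231400) (tt N16830 F231401) (tt N17577 F231402) (tt N20687 (iv F239720)) (tt N16797 F231403) (tt N17563 F231404) (tt N20708 D53478) (tt N16788 (iv D51621)))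
theorem Q18853 : ∀ i, i < 18853 → P i := stepQ 18852 Q18852 (allL N18852 (tt N17574 F231405) (tt N16791 F231406) (tt N17553 F231407) (tt N18852 F231408) (tt N20689 (iv F239731)) (tt N16789 (iv D51622)) (tt N20460 (iv F238631)) (tt N17590 F231409) (tt N17559 F231410) (tt N20709 D53479))
theorem Q18854 : ∀ i, i < 18854 → P i := stepQ 18853 Q18853 (allL N18853 (tt N17577 F231411) (tt N16792 F231412) (tt N17555 F231413) (tt N18853 F231414) (tt N16790 F231415) (tt N20709 (iv F239808)) (tt N16798 F231416) (tt N17591 F231417) (tt N20710 D53480) (tt N16789 (iv D51623)))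
theorem Q18855 : ∀ i, i < 18855 → P i := stepQ 18854 Q18854 (allL N18854 (tt N20708 (iv F239798)) (tt N16793 F231418) (tt N17589 F231419) (tt N20711 D53481) (tt N20710 (iv F239813)) (tt N20691 (iv F239741)) (tt N16799 F231420) (tt N17592 F231421) (tt N16790 (iv D51624)) (tt N20664 (iv F239637)))
theorem Q18856 : ∀ i, i < 18856 → P i := stepQ 18855 Q18855 (allL N18855 (tt N20045 (iv F236172)) (tt N20460 (iv F238628)) (tt N16794 F231422) (tt N18855 F231423) (tt N20695 (iv F239755)) (tt N16800 F231424) (tt N16791 (iv D51625)) (tt N20028 (iv F236065)) (tt N20039 (iv F236136)) (tt N20712 D53482))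
theorem Q18857 : ∀ i, i < 18857 → P i := stepQ 18856 Q18856 (allL N18856 (tt N20611 (iv F239385)) (tt N20709 (iv F239805)) (tt N16795 F231425) (tt N18856 F231426) (tt N20696 (iv F239758)) (tt N16792 F231427) (tt N20712 (iv F239825)) (tt N20703 (iv F239781)) (tt N20713 D53483) (tt N16791 (iv D51626)))
theorem Q18858 : ∀ i, i < 18858 → P i := stepQ 18857 Q18857 (allL N18857 (tt N20612 (iv F239389)) (tt N20710 (iv F239811)) (tt N16796 F231428) (tt N20714 D53484) (tt N16793 F231429) (tt N20713 (iv F239827)) (tt N16802 F231430) (tt N20704 (iv F239786)) (tt N16792 (iv D51627)) (tt N20666 (iv F239646)))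
theorem Q18859 : ∀ i, i < 18859 → P i := stepQ 18858 Q18858 (allL N18858 (tt N20613 (iv F239393)) (tt N20711 (iv F239817)) (tt N20526 (iv F238964)) (tt N16793 (iv D51628)) (tt N20715 D53485) (tt N20698 (iv F239763)) (tt N16803 F231431) (tt N20705 (iv F239789)) (tt N16832 F231432) (tt N20667 (iv F239649)))
theorem Q18860 : ∀ i, i < 18860 → P i := stepQ 18859 Q18859 (allL N18859 (tt N20039 (iv F236130)) (tt N20090 (iv F236479)) (tt N20028 (iv F236062)) (tt N16810 F231433) (tt N20699 (iv F239767)) (tt N16804 F231434) (tt N20582 (iv F239261)) (tt N16794 (iv D51629)) (tt N20045 (iv F236177)) (tt N20716 D53486))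
theorem Q18861 : ∀ i, i < 18861 → P i := stepQ 18860 Q18860 (allL N18860 (tt N20048 (iv F236190)) (tt N20091 (iv F236485)) (tt N20712 (iv F239822)) (tt N16811 F231435) (tt N20700 (iv F239770)) (tt N16805 F231436) (tt N16795 F231437) (tt N20716 (iv F239834)) (tt N20717 D53487) (tt N16794 (iv D51630)))
theorem Q18862 : ∀ i, i < 18862 → P i := stepQ 18861 Q18861 (allL N18861 (tt N20614 (iv F239396)) (tt N20092 (iv F236491)) (tt N20713 (iv F239826)) (tt N20718 D53488) (tt N20701 (iv F239773)) (tt N16796 F231438) (tt N20717 (iv F239836)) (tt N20706 (iv F239793)) (tt N16795 (iv D51631)) (tt N20669 (iv F239654)))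
theorem Q18863 : ∀ i, i < 18863 → P i := stepQ 18862 Q18862 (allL N18862 (tt N20615 (iv F239398)) (tt N20093 (iv F236496)) (tt N20719 D53489) (tt N16796 (iv D51632)) (tt N20529 (iv F238974)) (tt N20718 (iv F239837)) (tt N16807 F231439) (tt N20707 (iv F239796)) (tt N16813 F231440) (tt N20670 (iv F239657)))
theorem Q18864 : ∀ i, i < 18864 → P i := stepQ 18863 Q18863 (allL N18863 (tt N16799 F231441) (tt N20616 (iv F239402)) (tt N17581 F231442) (tt N20099 (iv F236530)) (tt N17580 F231443) (tt N17679 F231444) (tt N20708 (iv F239801)) (tt N20440 (iv F238521)) (tt N16797 (iv D51633)) (tt N17598 F231445))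
theorem Q18865 : ∀ i, i < 18865 → P i := stepQ 18864 Q18864 (allL N18864 (tt N17580 F231446) (tt N16802 F231447) (tt N17556 F231448) (tt N20720 D53490) (tt N16799 F231449) (tt N20468 (iv F238679)) (tt N20710 (iv F239814)) (tt N20441 (iv F238528)) (tt N16798 (iv D51634)) (tt N17565 F231450))
theorem Q18866 : ∀ i, i < 18866 → P i := stepQ 18865 Q18865 (allL N18865 (tt N20099 (iv F236529)) (tt N16803 F231451) (tt N20070 (iv F236345)) (tt N16799 (iv D51635)) (tt N20721 D53491) (tt N17682 F231452) (tt N20711 (iv F239819)) (tt N20442 (iv F238534)) (tt N16834 F231453) (tt N20671 (iv F239663)))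
theorem Q18867 : ∀ i, i < 18867 → P i := stepQ 18866 Q18866 (allL N18866 (tt N20046 (iv F236178)) (tt N20464 (iv F238651)) (tt N16805 F231454) (tt N18866 F231455) (tt N17683 F231456) (tt N20712 (iv F239824)) (tt N16801 F231457) (tt N20029 (iv F236073)) (tt N20722 D53492) (tt N16800 (iv D51636)))
theorem Q18868 : ∀ i, i < 18868 → P i := stepQ 18867 Q18867 (allL N18867 (tt N20053 (iv F236219)) (tt N20468 (iv F238676)) (tt N16806 F231458) (tt N20723 D53493) (tt N17684 F231459) (tt N16802 F231460) (tt N20722 (iv F239852)) (tt N20443 (iv F238539)) (tt N16801 (iv D51637)) (tt N20483 (iv F238768)))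
theorem Q18869 : ∀ i, i < 18869 → P i := stepQ 18868 Q18868 (allL N18868 (tt N20619 (iv F239414)) (tt N20720 (iv F239842)) (tt N20724 D53494) (tt N16802 (iv D51638)) (tt N20725 D53495) (tt N20723 (iv F239855)) (tt N20714 (iv F239828)) (tt N20444 (iv F238540)) (tt N18868 F231461) (tt N20672 (iv F239668)))
theorem Q18870 : ∀ i, i < 18870 → P i := stepQ 18869 Q18869 (allL N18869 (tt N20620 (iv F239418)) (tt N20721 (iv F239846)) (tt N20535 (iv F239005)) (tt N20725 (iv F239860)) (tt N16803 (iv D51639)) (tt N20726 D53496) (tt N20715 (iv F239830)) (tt N20445 (iv F238542)) (tt N16835 F231462) (tt N20673 (iv F239670)))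
theorem Q18871 : ∀ i, i < 18871 → P i := stepQ 18870 Q18870 (allL N18870 (tt N20040 (iv F236137)) (tt N20096 (iv F236516)) (tt N20029 (iv F236069)) (tt N16814 F231463) (tt N17687 F231464) (tt N20716 (iv F239833)) (tt N17993 F231465) (tt N16805 F231466) (tt N20727 D53497) (tt N16804 (iv D51640)))
theorem Q18872 : ∀ i, i < 18872 → P i := stepQ 18871 Q18871 (allL N18871 (tt N20049 (iv F236195)) (tt N20097 (iv F236521)) (tt N20722 (iv F239850)) (tt N20728 D53498) (tt N17688 F231467) (tt N20717 (iv F239835)) (tt N16806 F231468) (tt N20727 (iv F239868)) (tt N16805 (iv D51641)) (tt N20674 (iv F239673)))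
theorem Q18873 : ∀ i, i < 18873 → P i := stepQ 18872 Q18872 (allL N18872 (tt N20054 (iv F236225)) (tt N20098 (iv F236525)) (tt N20721 (iv F239847)) (tt N16806 (iv D51642)) (tt N20070 (iv F236346)) (tt N16807 F231469) (tt N20728 (iv F239870)) (tt N20447 (iv F238551)) (tt N16816 F231470) (tt N20675 (iv F239677)))
theorem Q18874 : ∀ i, i < 18874 → P i := stepQ 18873 Q18873 (allL N18873 (tt N20621 (iv F239421)) (tt N20726 (iv F239862)) (tt N16807 (iv D51643)) (tt N20724 (iv F239858)) (tt N20538 (iv F239020)) (tt N20721 (iv F239848)) (tt N20719 (iv F239839)) (tt N20448 (iv F238553)) (tt N16817 F231471) (tt N20676 (iv F239679)))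
theorem Q18875 : ∀ i, i < 18875 → P i := stepQ 18874 Q18874 (allL N18874 (tt N20623 (iv F239432)) (tt N17630 F231472) (tt N18874 F231473) (tt N20729 D53499) (tt N17110 F231474) (tt N16809 F231475) (tt N20629 (iv F239475)) (tt N16812 F231476) (tt N16808 (iv D51644)) (tt N18874 F231477))
theorem Q18876 : ∀ i, i < 18876 → P i := stepQ 18875 Q18875 (allL N18875 (tt N20548 (iv F239079)) (tt N17632 F231478) (tt N20633 (iv F239494)) (tt N16809 (iv D51645)) (tt N20489 (iv F238806)) (tt N20729 (iv F239874)) (tt N17634 F231479) (tt N16813 F231480) (tt N20707 (iv F239797)) (tt N18875 F231481))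
theorem Q18877 : ∀ i, i < 18877 → P i := stepQ 18876 Q18876 (allL N18876 (tt N20055 (iv F236230)) (tt N20100 (iv F236535)) (tt N18876 F231482) (tt N20716 (iv F239832)) (tt N17112 F231483) (tt N16814 F231484) (tt N20626 (iv F239454)) (tt N16811 F231485) (tt N18002 (iv F231486)) (tt N16810 (iv D51646)))
theorem Q18878 : ∀ i, i < 18878 → P i := stepQ 18877 Q18877 (allL N18877 (tt N20056 (iv F236238)) (tt N20101 (iv F236543)) (tt N18877 F231487) (tt N20730 D53500) (tt N17113 F231488) (tt N16815 F231489) (tt N16812 F231490) (tt N18002 F231491) (tt N16811 (iv D51647)) (tt N18877 F231492))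
theorem Q18879 : ∀ i, i < 18879 → P i := stepQ 18878 Q18878 (allL N18878 (tt N20624 (iv F239439)) (tt N20102 (iv F236551)) (tt N20731 D53501) (tt N16812 (iv D51648)) (tt N20732 D53502) (tt N16813 F231493) (tt N20730 (iv F239878)) (tt N20729 (iv F239875)) (tt N20718 (iv F239838)) (tt N18878 F231494))
theorem Q18880 : ∀ i, i < 18880 → P i := stepQ 18879 Q18879 (allL N18879 (tt N20625 (iv F239442)) (tt N20733 D53503) (tt N16813 (iv D51649)) (tt N18879 F231495) (tt N20541 (iv F239036)) (tt N20731 (iv F239882)) (tt N16817 F231496) (tt N20633 (iv F239497)) (tt N20719 (iv F239840)) (tt N18879 F231497))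
theorem Q18881 : ∀ i, i < 18881 → P i := stepQ 18880 Q18880 (allL N18880 (tt N20057 (iv F236246)) (tt N20104 (iv F236561)) (tt N20734 D53504) (tt N16815 (iv D51650)) (tt N17703 F231498) (tt N20730 (iv F239877)) (tt N16816 F231499) (tt N17706 F231500) (tt N20728 (iv F239872)) (tt N18880 F231501))
theorem Q18882 : ∀ i, i < 18882 → P i := stepQ 18881 Q18881 (allL N18881 (tt N20058 (iv F236252)) (tt N16835 F231502) (tt N16816 (iv D51651)) (tt N18881 F231503) (tt N16834 F231504) (tt N16817 F231505) (tt N20734 (iv F239893)) (tt N20449 (iv F238560)) (tt N20721 (iv F239849)) (tt N18881 F231506))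
theorem Q18883 : ∀ i, i < 18883 → P i := stepQ 18882 Q18882 (allL N18882 (tt N20634 (iv F239499)) (tt N16817 (iv D51652)) (tt N20105 (iv F236568)) (tt N18882 F231507) (tt N17710 F231508) (tt N16835 F231509) (tt N20733 (iv F239888)) (tt N20450 (iv F238565)) (tt N20726 (iv F239864)) (tt N18882 F231510))
theorem Q18884 : ∀ i, i < 18884 → P i := stepQ 18883 Q18883 (allL N18883 (tt N20318 (iv F237810)) (tt N17600 F231511) (tt N17128 F231512) (tt N16818 (iv D51653)) (tt N20680 (iv F239690)) (tt N18883 F231513) (tt N20230 (iv F237341)) (tt N16825 F231514) (tt N20735 D53505) (tt N20736 D53506))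
theorem Q18885 : ∀ i, i < 18885 → P i := stepQ 18884 Q18884 (allL N18884 (tt N20342 (iv F237944)) (tt N17601 F231515) (tt N16820 F231516) (tt N20736 (iv F239905)) (tt N16819 F231517) (tt N18884 F231518) (tt N20237 (iv F237385)) (tt N16826 F231519) (tt N20737 D53507) (tt N16818 (iv D51654)))
theorem Q18886 : ∀ i, i < 18886 → P i := stepQ 18885 Q18885 (allL N18885 (tt N20627 (iv F239457)) (tt N17602 F231520) (tt N16821 F231521) (tt N20738 D53508) (tt N20737 (iv F239910)) (tt N16829 F231522) (tt N20543 (iv F239052)) (tt N16827 F231523) (tt N16819 (iv D51655)) (tt N18885 F231524))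
theorem Q18887 : ∀ i, i < 18887 → P i := stepQ 18886 Q18886 (allL N18886 (tt N20628 (iv F239464)) (tt N16836 F231525) (tt N20737 (iv F239909)) (tt N20178 (iv F237002)) (tt N16821 F231526) (tt N18886 F231527) (tt N20374 (iv F238120)) (tt N16828 F231528) (tt N16820 (iv D51656)) (tt N18886 F231529))
theorem Q18888 : ∀ i, i < 18888 → P i := stepQ 18887 Q18887 (allL N18887 (tt N16823 F231530) (tt N16998 F231531) (tt N16837 F231532) (tt N20739 D53509) (tt N16822 (iv D51657)) (tt N18887 F231533) (tt N16925 F231534) (tt N16922 F231535) (tt N18887 F231536) (tt N20740 D53510))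
theorem Q18889 : ∀ i, i < 18889 → P i := stepQ 18888 Q18888 (allL N18888 (tt N16824 F231537) (tt N20622 (iv F239426)) (tt N16838 F231538) (tt N20687 (iv F239719)) (tt N20740 (iv F239927)) (tt N16830 F231539) (tt N17694 F231540) (tt N17567 F231541) (tt N20741 D53511) (tt N16822 (iv D51658)))
theorem Q18890 : ∀ i, i < 18890 → P i := stepQ 18889 Q18889 (allL N18889 (tt N20739 (iv F239918)) (tt N16825 F231542) (tt N17778 F231543) (tt N16823 (iv D51659)) (tt N20688 (iv F239725)) (tt N18889 F231544) (tt N17695 F231545) (tt N17600 F231546) (tt N20742 D53512) (tt N20743 D53513))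
theorem Q18891 : ∀ i, i < 18891 → P i := stepQ 18890 Q18890 (allL N18890 (tt N20740 (iv F239924)) (tt N16826 F231547) (tt N16839 F231548) (tt N20743 (iv F239945)) (tt N16824 F231549) (tt N18890 F231550) (tt N17696 F231551) (tt N17601 F231552) (tt N20744 D53514) (tt N16823 (iv D51660)))
theorem Q18892 : ∀ i, i < 18892 → P i := stepQ 18891 Q18891 (allL N18891 (tt N20741 (iv F239931)) (tt N16827 F231553) (tt N16840 F231554) (tt N20745 D53515) (tt N20744 (iv F239951)) (tt N16831 F231555) (tt N17697 F231556) (tt N17602 F231557) (tt N16824 (iv D51661)) (tt N18891 F231558))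
theorem Q18893 : ∀ i, i < 18893 → P i := stepQ 18892 Q18892 (allL N18892 (tt N20271 (iv F237556)) (tt N20742 (iv F239937)) (tt N17137 F231559) (tt N18892 F231560) (tt N20693 (iv F239748)) (tt N18892 F231561) (tt N17698 F231562) (tt N20735 (iv F239902)) (tt N16825 (iv D51662)) (tt N20746 D53516))
theorem Q18894 : ∀ i, i < 18894 → P i := stepQ 18893 Q18893 (allL N18893 (tt N20319 (iv F237817)) (tt N20743 (iv F239943)) (tt N17138 F231563) (tt N16826 F231564) (tt N20694 (iv F239752)) (tt N18893 F231565) (tt N17699 F231566) (tt N20736 (iv F239907)) (tt N20747 D53517) (tt N16825 (iv D51663)))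
theorem Q18895 : ∀ i, i < 18895 → P i := stepQ 18894 Q18894 (allL N18894 (tt N20343 (iv F237951)) (tt N20744 (iv F239949)) (tt N16828 F231567) (tt N20748 D53518) (tt N16827 F231568) (tt N18894 F231569) (tt N17700 F231570) (tt N20737 (iv F239912)) (tt N16826 (iv D51664)) (tt N18894 F231571))
theorem Q18896 : ∀ i, i < 18896 → P i := stepQ 18895 Q18895 (allL N18895 (tt N20630 (iv F239478)) (tt N20745 (iv F239956)) (tt N20546 (iv F239068)) (tt N16827 (iv D51665)) (tt N20749 D53519) (tt N16832 F231572) (tt N17701 F231573) (tt N20738 (iv F239916)) (tt N20698 (iv F239765)) (tt N18895 F231574))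
theorem Q18897 : ∀ i, i < 18897 → P i := stepQ 18896 Q18896 (allL N18896 (tt N17961 F231575) (tt N16842 F231576) (tt N20750 D53520) (tt N16828 (iv D51666)) (tt N17948 F231577) (tt N18896 F231578) (tt N17504 F231579) (tt N20178 (iv F237006)) (tt N17141 F231580) (tt N18896 F231581))
theorem Q18898 : ∀ i, i < 18898 → P i := stepQ 18897 Q18897 (allL N18897 (tt N20541 (iv F239034)) (tt N17604 F231582) (tt N20487 (iv F238790)) (tt N16829 (iv D51667)) (tt N20625 (iv F239445)) (tt N20738 (iv F239915)) (tt N17606 F231583) (tt N16832 F231584) (tt N20705 (iv F239790)) (tt N18897 F231585))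
theorem Q18899 : ∀ i, i < 18899 → P i := stepQ 18898 Q18898 (allL N18898 (tt N16831 F231586) (tt N20631 (iv F239483)) (tt N16843 F231587) (tt N20103 (iv F236556)) (tt N18898 F231588) (tt N20741 (iv F239933)) (tt N16833 F231589) (tt N17570 F231590) (tt N16830 (iv D51668)) (tt N18898 F231591))
theorem Q18900 : ∀ i, i < 18900 → P i := stepQ 18899 Q18899 (allL N18899 (tt N20103 (iv F236555)) (tt N16832 F231592) (tt N17703 F231593) (tt N16831 (iv D51669)) (tt N20734 (iv F239892)) (tt N20745 (iv F239958)) (tt N16834 F231594) (tt N17604 F231595) (tt N20711 (iv F239821)) (tt N18899 F231596))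
theorem Q18901 : ∀ i, i < 18901 → P i := stepQ 18900 Q18900 (allL N18900 (tt N20633 (iv F239493)) (tt N20734 (iv F239890)) (tt N20548 (iv F239081)) (tt N18900 F231597) (tt N16832 (iv D51670)) (tt N20751 D53521) (tt N16835 F231598) (tt N20625 (iv F239447)) (tt N20715 (iv F239831)) (tt N18900 F231599))
theorem Q18902 : ∀ i, i < 18902 → P i := stepQ 18901 Q18901 (allL N18901 (tt N16839 F231600) (tt N18901 F231601) (tt N20740 (iv F239926)) (tt N17156 F231602) (tt N16838 F231603) (tt N18901 F231604) (tt N17714 F231605) (tt N17157 F231606) (tt N20752 D53522) (tt N16837 (iv D51671)))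
theorem Q18903 : ∀ i, i < 18903 → P i := stepQ 18902 Q18902 (allL N18902 (tt N16840 F231607) (tt N18902 F231608) (tt N20741 (iv F239932)) (tt N17629 F231609) (tt N20752 (iv F239986)) (tt N16843 F231610) (tt N17715 F231611) (tt N17568 F231612) (tt N16838 (iv D51672)) (tt N18902 F231613))
theorem Q18904 : ∀ i, i < 18904 → P i := stepQ 18903 Q18903 (allL N18903 (tt N20752 (iv F239983)) (tt N16841 F231614) (tt N20744 (iv F239950)) (tt N17507 F231615) (tt N16840 F231616) (tt N18903 F231617) (tt N17717 F231618) (tt N17603 F231619) (tt N16839 (iv D51673)) (tt N18903 F231620))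
theorem Q18905 : ∀ i, i < 18905 → P i := stepQ 18904 Q18904 (allL N18904 (tt N17712 F231621) (tt N18904 F231622) (tt N16926 F231623) (tt N17785 F231624) (tt N17711 F231625) (tt N16850 F231626) (tt N16848 F231627) (tt N17714 F231628) (tt N20753 D53523) (tt N16847 (iv D51674)))
theorem Q18906 : ∀ i, i < 18906 → P i := stepQ 18905 Q18905 (allL N18905 (tt N20179 (iv F237008)) (tt N18905 F231629) (tt N16927 F231630) (tt N17954 F231631) (tt N20451 (iv F238571)) (tt N16849 F231632) (tt N20753 (iv F239997)) (tt N17946 F231633) (tt N16848 (iv D51675)) (tt N18905 F231634))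
theorem Q18907 : ∀ i, i < 18907 → P i := stepQ 18906 Q18906 (allL N18906 (tt N17332 F231635) (tt N18906 F231636) (tt N16930 F231637) (tt N17331 F231638) (tt N16852 F231639) (tt N20753 (iv F239996)) (tt N16851 F231640) (tt N18005 F231641) (tt N16850 (iv D51676)) (tt N18906 F231642))
theorem Q18908 : ∀ i, i < 18908 → P i := stepQ 18907 Q18907 (allL N18907 (tt N18004 F231643) (tt N18907 F231644) (tt N18013 F231645) (tt N16852 (iv D51677)) (tt N20009 (iv F235920)) (tt N18009 F231646) (tt N16853 F231647) (tt N18006 F231648) (tt N18907 F231649) (tt N18907 F231650))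
theorem Q18909 : ∀ i, i < 18909 → P i := stepQ 18908 Q18908 (allL N18908 (tt N17466 F231651) (tt N16864 F231652) (tt N20359 (iv F238038)) (tt N16854 (iv D51678)) (tt N20754 D53524) (tt N16857 F231653) (tt N20565 (iv F239172)) (tt N16855 F231654) (tt N17745 F231655) (tt N20755 D53525))
theorem Q18910 : ∀ i, i < 18910 → P i := stepQ 18909 Q18909 (allL N18909 (tt N17482 F231656) (tt N16865 F231657) (tt N18909 F231658) (tt N20755 (iv F240006)) (tt N20453 (iv F238585)) (tt N16858 F231659) (tt N20566 (iv F239181)) (tt N16856 F231660) (tt N16950 F231661) (tt N16854 (iv D51679)))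
theorem Q18911 : ∀ i, i < 18911 → P i := stepQ 18910 Q18910 (allL N18910 (tt N17462 F231662) (tt N17195 F231663) (tt N16855 (iv D51680)) (tt N18910 F231664) (tt N20756 D53526) (tt N16859 F231665) (tt N17366 F231666) (tt N20359 (iv F238042)) (tt N17300 F231667) (tt N20757 D53527))
theorem Q18912 : ∀ i, i < 18912 → P i := stepQ 18911 Q18911 (allL N18911 (tt N17446 F231668) (tt N16866 F231669) (tt N20756 (iv F240011)) (tt N20454 (iv F238593)) (tt N16855 (iv D51681)) (tt N20226 (iv F237318)) (tt N17356 F231670) (tt N20754 (iv F240002)) (tt N17751 F231671) (tt N20758 D53528))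
theorem Q18913 : ∀ i, i < 18913 → P i := stepQ 18912 Q18912 (allL N18912 (tt N17467 F231672) (tt N16867 F231673) (tt N20757 (iv F240018)) (tt N16856 F231674) (tt N20758 (iv F240024)) (tt N16860 F231675) (tt N17369 F231676) (tt N20755 (iv F240008)) (tt N20759 D53529) (tt N16855 (iv D51682)))
theorem Q18914 : ∀ i, i < 18914 → P i := stepQ 18913 Q18913 (allL N18913 (tt N17475 F231677) (tt N17194 F231678) (tt N16857 (iv D51683)) (tt N18913 F231679) (tt N17193 F231680) (tt N20359 (iv F238040)) (tt N18913 F231681) (tt N16859 F231682) (tt N17305 F231683) (tt N20760 D53530))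
theorem Q18915 : ∀ i, i < 18915 → P i := stepQ 18914 Q18914 (allL N18914 (tt N17480 F231684) (tt N16869 F231685) (tt N20760 (iv F240034)) (tt N16858 F231686) (tt N20234 (iv F237363)) (tt N20755 (iv F240007)) (tt N18914 F231687) (tt N16860 F231688) (tt N20761 D53531) (tt N16857 (iv D51684)))
theorem Q18916 : ∀ i, i < 18916 → P i := stepQ 18915 Q18915 (allL N18915 (tt N17476 F231689) (tt N17147 F231690) (tt N16860 F231691) (tt N18915 F231692) (tt N17146 F231693) (tt N20757 (iv F240020)) (tt N16861 F231694) (tt N20760 (iv F240038)) (tt N20762 D53532) (tt N16859 (iv D51685)))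
theorem Q18917 : ∀ i, i < 18917 → P i := stepQ 18916 Q18916 (allL N18916 (tt N17481 F231695) (tt N16872 F231696) (tt N20762 (iv F240047)) (tt N16957 F231697) (tt N20235 (iv F237369)) (tt N20759 (iv F240029)) (tt N16862 F231698) (tt N20761 (iv F240043)) (tt N16860 (iv D51686)) (tt N17769 F231699))
theorem Q18918 : ∀ i, i < 18918 → P i := stepQ 18917 Q18917 (allL N18917 (tt N17477 F231700) (tt N17103 F231701) (tt N16862 F231702) (tt N20763 D53533) (tt N17098 F231703) (tt N17372 F231704) (tt N20762 (iv F240049)) (tt N18917 F231705) (tt N16861 (iv D51687)) (tt N17312 F231706))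
theorem Q18919 : ∀ i, i < 18919 → P i := stepQ 18918 Q18918 (allL N18918 (tt N16894 F231707) (tt N20565 (iv F239170)) (tt N17731 F231708) (tt N16863 (iv D51688)) (tt N20764 D53534) (tt N18918 F231709) (tt N16864 F231710) (tt N17722 F231711) (tt N17742 F231712) (tt N20765 D53535))
theorem Q18920 : ∀ i, i < 18920 → P i := stepQ 18919 Q18919 (allL N18919 (tt N16895 F231713) (tt N20566 (iv F239177)) (tt N16879 F231714) (tt N20765 (iv F240066)) (tt N20471 (iv F238697)) (tt N18919 F231715) (tt N16865 F231716) (tt N17723 F231717) (tt N16974 F231718) (tt N16863 (iv D51689)))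
theorem Q18921 : ∀ i, i < 18921 → P i := stepQ 18920 Q18920 (allL N18920 (tt N16897 F231719) (tt N20754 (iv F240001)) (tt N17733 F231720) (tt N20472 (iv F238704)) (tt N16864 (iv D51690)) (tt N20519 (iv F238941)) (tt N20764 (iv F240061)) (tt N16866 F231721) (tt N17746 F231722) (tt N20766 D53536))
theorem Q18922 : ∀ i, i < 18922 → P i := stepQ 18921 Q18921 (allL N18921 (tt N16898 F231723) (tt N20755 (iv F240005)) (tt N17734 F231724) (tt N16865 F231725) (tt N20766 (iv F240072)) (tt N16869 F231726) (tt N20765 (iv F240068)) (tt N16867 F231727) (tt N20767 D53537) (tt N16864 (iv D51691)))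
theorem Q18923 : ∀ i, i < 18923 → P i := stepQ 18922 Q18922 (allL N18922 (tt N16902 F231728) (tt N20226 (iv F237314)) (tt N17735 F231729) (tt N20476 (iv F238727)) (tt N16870 F231730) (tt N16866 (iv D51692)) (tt N20193 (iv F237106)) (tt N20519 (iv F238943)) (tt N17754 F231731) (tt N20768 D53538))
theorem Q18924 : ∀ i, i < 18924 → P i := stepQ 18923 Q18923 (allL N18923 (tt N16903 F231732) (tt N20758 (iv F240023)) (tt N17736 F231733) (tt N20477 (iv F238732)) (tt N16867 F231734) (tt N20768 (iv F240083)) (tt N17726 F231735) (tt N20766 (iv F240073)) (tt N20769 D53539) (tt N16866 (iv D51693)))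
theorem Q18925 : ∀ i, i < 18925 → P i := stepQ 18924 Q18924 (allL N18924 (tt N16904 F231736) (tt N20759 (iv F240027)) (tt N17737 F231737) (tt N16983 F231738) (tt N20769 (iv F240086)) (tt N16872 F231739) (tt N17727 F231740) (tt N20767 (iv F240078)) (tt N16867 (iv D51694)) (tt N17756 F231741))
theorem Q18926 : ∀ i, i < 18926 → P i := stepQ 18925 Q18925 (allL N18925 (tt N16907 F231742) (tt N20234 (iv F237360)) (tt N17738 F231743) (tt N16874 F231744) (tt N16869 F231745) (tt N20544 (iv F239058)) (tt N18925 F231746) (tt N16871 F231747) (tt N20770 D53540) (tt N16868 (iv D51695)))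
theorem Q18927 : ∀ i, i < 18927 → P i := stepQ 18926 Q18926 (allL N18926 (tt N16908 F231748) (tt N20761 (iv F240040)) (tt N17739 F231749) (tt N16988 F231750) (tt N20770 (iv F240091)) (tt N20767 (iv F240077)) (tt N18926 F231751) (tt N16872 F231752) (tt N16869 (iv D51696)) (tt N17763 F231753))
theorem Q18928 : ∀ i, i < 18928 → P i := stepQ 18927 Q18927 (allL N18927 (tt N16914 F231754) (tt N20231 (iv F237344)) (tt N17740 F231755) (tt N16876 F231756) (tt N20768 (iv F240082)) (tt N16871 F231757) (tt N20199 (iv F237142)) (tt N20544 (iv F239060)) (tt N20771 D53541) (tt N16870 (iv D51697)))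
theorem Q18929 : ∀ i, i < 18929 → P i := stepQ 18928 Q18928 (allL N18928 (tt N16915 F231758) (tt N20235 (iv F237367)) (tt N17741 F231759) (tt N20772 D53542) (tt N16872 F231760) (tt N20771 (iv F240097)) (tt N16873 F231761) (tt N20770 (iv F240093)) (tt N16871 (iv D51698)) (tt N17771 F231762))
theorem Q18930 : ∀ i, i < 18930 → P i := stepQ 18929 Q18929 (allL N18929 (tt N16921 F231763) (tt N20236 (iv F237373)) (tt N20157 (iv F236870)) (tt N16873 (iv D51699)) (tt N16997 F231764) (tt N20202 (iv F237163)) (tt N20772 (iv F240101)) (tt N18929 F231765) (tt N16878 F231766) (tt N17774 F231767))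
theorem Q18931 : ∀ i, i < 18931 → P i := stepQ 18930 Q18930 (allL N18930 (tt N16924 F231768) (tt N20240 (iv F237400)) (tt N18073 F231769) (tt N20773 D53543) (tt N16875 F231770) (tt N20545 (iv F239064)) (tt N18930 F231771) (tt N16877 F231772) (tt N16874 (iv D51700)) (tt N18930 F231773))
theorem Q18932 : ∀ i, i < 18932 → P i := stepQ 18931 Q18931 (allL N18931 (tt N16927 F231774) (tt N20238 (iv F237388)) (tt N20179 F237016) (tt N20774 D53544) (tt N20486 (iv F238783)) (tt N16877 F231775) (tt N20203 (iv F237172)) (tt N20545 (iv F239066)) (tt N16876 (iv D51701)) (tt N18931 F231776))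
theorem Q18933 : ∀ i, i < 18933 → P i := stepQ 18932 Q18932 (allL N18932 (tt N16928 F231777) (tt N20241 (iv F237407)) (tt N20176 (iv F236989)) (tt N16877 (iv D51702)) (tt N17002 F231778) (tt N20774 (iv F240111)) (tt N16878 F231779) (tt N20773 (iv F240108)) (tt N20772 (iv F240102)) (tt N18932 F231780))
theorem Q18934 : ∀ i, i < 18934 → P i := stepQ 18933 Q18933 (allL N18933 (tt N17778 F231781) (tt N20106 (iv F236574)) (tt N20739 (iv F239920)) (tt N16880 (iv D51703)) (tt N20775 D53545) (tt N18933 F231782) (tt N20180 (iv F237021)) (tt N16881 F231783) (tt N20186 (iv F237064)) (tt N20776 D53546))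
theorem Q18935 : ∀ i, i < 18935 → P i := stepQ 18934 Q18934 (allL N18934 (tt N17779 F231784) (tt N20107 (iv F236581)) (tt N17156 F231785) (tt N20776 (iv F240117)) (tt N16885 F231786) (tt N18934 F231787) (tt N20181 (iv F237029)) (tt N16882 F231788) (tt N17018 F231789) (tt N16880 (iv D51704)))
theorem Q18936 : ∀ i, i < 18936 → P i := stepQ 18935 Q18935 (allL N18935 (tt N17600 F231790) (tt N20148 (iv F236822)) (tt N16881 (iv D51705)) (tt N16922 F231791) (tt N20777 D53547) (tt N18935 F231792) (tt N16906 F231793) (tt N20739 (iv F239923)) (tt N20490 (iv F238814)) (tt N20778 D53548))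
theorem Q18937 : ∀ i, i < 18937 → P i := stepQ 18936 Q18936 (allL N18936 (tt N17753 F231794) (tt N20109 (iv F236595)) (tt N20777 (iv F240121)) (tt N16886 F231795) (tt N16881 (iv D51706)) (tt N20779 D53549) (tt N17729 F231796) (tt N20775 (iv F240115)) (tt N20491 (iv F238819)) (tt N20780 D53550))
theorem Q18938 : ∀ i, i < 18938 → P i := stepQ 18937 Q18937 (allL N18937 (tt N17783 F231797) (tt N20110 (iv F236600)) (tt N20778 (iv F240125)) (tt N16882 F231798) (tt N20780 (iv F240134)) (tt N18937 F231799) (tt N17730 F231800) (tt N20776 (iv F240119)) (tt N20781 D53551) (tt N16881 (iv D51707)))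
theorem Q18939 : ∀ i, i < 18939 → P i := stepQ 18938 Q18938 (allL N18938 (tt N17742 F231801) (tt N20111 (iv F236605)) (tt N17722 F231802) (tt N16883 (iv D51708)) (tt N20782 D53552) (tt N18938 F231803) (tt N16884 F231804) (tt N17731 F231805) (tt N16894 F231806) (tt N20783 D53553))
theorem Q18940 : ∀ i, i < 18940 → P i := stepQ 18939 Q18939 (allL N18939 (tt N17776 F231807) (tt N20112 (iv F236612)) (tt N17158 F231808) (tt N20783 (iv F240147)) (tt N20181 (iv F237027)) (tt N18939 F231809) (tt N16885 F231810) (tt N17732 F231811) (tt N17023 F231812) (tt N16883 (iv D51709)))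
theorem Q18941 : ∀ i, i < 18941 → P i := stepQ 18940 Q18940 (allL N18940 (tt N17746 F231813) (tt N20114 (iv F236627)) (tt N17724 F231814) (tt N20775 (iv F240114)) (tt N16884 (iv D51710)) (tt N20784 D53554) (tt N20782 (iv F240142)) (tt N16886 F231815) (tt N16897 F231816) (tt N20785 D53555))
theorem Q18942 : ∀ i, i < 18942 → P i := stepQ 18941 Q18941 (allL N18941 (tt N17747 F231817) (tt N20115 (iv F236631)) (tt N17725 F231818) (tt N16885 F231819) (tt N20785 (iv F240158)) (tt N16889 F231820) (tt N20783 (iv F240149)) (tt N16887 F231821) (tt N20786 D53556) (tt N16884 (iv D51711)))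
theorem Q18943 : ∀ i, i < 18943 → P i := stepQ 18942 Q18942 (allL N18942 (tt N17754 F231822) (tt N20118 (iv F236648)) (tt N17336 F231823) (tt N20779 (iv F240130)) (tt N16890 F231824) (tt N16886 (iv D51712)) (tt N20191 (iv F237093)) (tt N20784 (iv F240154)) (tt N16902 F231825) (tt N20787 D53557))
theorem Q18944 : ∀ i, i < 18944 → P i := stepQ 18943 Q18943 (allL N18943 (tt N17755 F231826) (tt N20119 (iv F236654)) (tt N17726 F231827) (tt N20780 (iv F240133)) (tt N16887 F231828) (tt N20787 (iv F240169)) (tt N17736 F231829) (tt N20785 (iv F240159)) (tt N20788 D53558) (tt N16886 (iv D51713)))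
theorem Q18945 : ∀ i, i < 18945 → P i := stepQ 18944 Q18944 (allL N18944 (tt N17756 F231830) (tt N20120 (iv F236658)) (tt N17727 F231831) (tt N17032 F231832) (tt N20788 (iv F240172)) (tt N16892 F231833) (tt N17737 F231834) (tt N20786 (iv F240164)) (tt N16887 (iv D51714)) (tt N16904 F231835))
theorem Q18946 : ∀ i, i < 18946 → P i := stepQ 18945 Q18945 (allL N18945 (tt N17761 F231836) (tt N20122 (iv F236671)) (tt N17334 F231837) (tt N18945 F231838) (tt N20784 (iv F240153)) (tt N16888 (iv D51715)) (tt N20490 (iv F238813)) (tt N16890 F231839) (tt N16906 F231840) (tt N20789 D53559))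
theorem Q18947 : ∀ i, i < 18947 → P i := stepQ 18946 Q18946 (allL N18946 (tt N17762 F231841) (tt N20123 (iv F236677)) (tt N17338 F231842) (tt N18946 F231843) (tt N16889 F231844) (tt N20789 (iv F240178)) (tt N18946 F231845) (tt N16891 F231846) (tt N20790 D53560) (tt N16888 (iv D51716)))
theorem Q18948 : ∀ i, i < 18948 → P i := stepQ 18947 Q18947 (allL N18947 (tt N17763 F231847) (tt N20124 (iv F236684)) (tt N17728 F231848) (tt N17038 F231849) (tt N20790 (iv F240182)) (tt N20786 (iv F240163)) (tt N18947 F231850) (tt N16892 F231851) (tt N16889 (iv D51717)) (tt N16908 F231852))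
theorem Q18949 : ∀ i, i < 18949 → P i := stepQ 18948 Q18948 (allL N18948 (tt N17770 F231853) (tt N20126 (iv F236696)) (tt N17337 F231854) (tt N18948 F231855) (tt N20787 (iv F240168)) (tt N16891 F231856) (tt N20192 (iv F237100)) (tt N20789 (iv F240179)) (tt N20791 D53561) (tt N16890 (iv D51718)))
theorem Q18950 : ∀ i, i < 18950 → P i := stepQ 18949 Q18949 (allL N18949 (tt N17771 F231857) (tt N20127 (iv F236702)) (tt N17339 F231858) (tt N20792 D53562) (tt N16892 F231859) (tt N20791 (iv F240188)) (tt N16893 F231860) (tt N20790 (iv F240184)) (tt N16891 (iv D51719)) (tt N16915 F231861))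
theorem Q18951 : ∀ i, i < 18951 → P i := stepQ 18950 Q18950 (allL N18950 (tt N17774 F231862) (tt N20129 (iv F236715)) (tt N17478 F231863) (tt N16893 (iv D51720)) (tt N17053 F231864) (tt N20201 (iv F237155)) (tt N20792 (iv F240193)) (tt N18950 F231865) (tt N18950 F231866) (tt N16921 F231867))
theorem Q18952 : ∀ i, i < 18952 → P i := stepQ 18951 Q18951 (allL N18951 (tt N17731 F231868) (tt N16960 (iv F231874)) (tt N16894 (iv D51721)) (tt N16934 F231869) (tt N20793 D53563) (tt N18951 F231870) (tt N16896 F231871) (tt N17742 F231872) (tt N17722 F231873) (tt N20794 D53564))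
theorem Q18953 : ∀ i, i < 18953 → P i := stepQ 18952 Q18952 (allL N18952 (tt N20764 (iv F240059)) (tt N20130 (iv F236722)) (tt N20793 (iv F240198)) (tt N20513 (iv F238911)) (tt N16894 (iv D51722)) (tt N20795 D53565) (tt N16897 F231875) (tt N17743 F231876) (tt N20782 (iv F240144)) (tt N20796 D53566))
theorem Q18954 : ∀ i, i < 18954 → P i := stepQ 18953 Q18953 (allL N18953 (tt N20765 (iv F240064)) (tt N20131 (iv F236729)) (tt N20794 (iv F240205)) (tt N16895 F231877) (tt N20796 (iv F240214)) (tt N18953 F231878) (tt N16898 F231879) (tt N17744 F231880) (tt N20797 D53567) (tt N16894 (iv D51723)))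
theorem Q18955 : ∀ i, i < 18955 → P i := stepQ 18954 Q18954 (allL N18954 (tt N17733 F231881) (tt N17788 F231882) (tt N16897 F231883) (tt N17735 F231884) (tt N16896 (iv D51724)) (tt N17729 F231885) (tt N20793 (iv F240200)) (tt N16900 F231886) (tt N17724 F231887) (tt N20798 D53568))
theorem Q18956 : ∀ i, i < 18956 → P i := stepQ 18955 Q18955 (allL N18955 (tt N17734 F231888) (tt N17789 F231889) (tt N16898 F231890) (tt N16936 F231891) (tt N20798 (iv F240225)) (tt N16905 F231892) (tt N20794 (iv F240208)) (tt N16901 F231893) (tt N20799 D53569) (tt N16896 (iv D51725)))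
theorem Q18957 : ∀ i, i < 18957 → P i := stepQ 18956 Q18956 (allL N18956 (tt N20519 (iv F238938)) (tt N20134 (iv F236749)) (tt N17729 F231894) (tt N20474 (iv F238714)) (tt N16906 F231895) (tt N16897 (iv D51726)) (tt N20777 (iv F240123)) (tt N16902 F231896) (tt N20784 (iv F240155)) (tt N20800 D53570))
theorem Q18958 : ∀ i, i < 18958 → P i := stepQ 18957 Q18957 (allL N18957 (tt N20766 (iv F240070)) (tt N20135 (iv F236753)) (tt N20798 (iv F240223)) (tt N20515 (iv F238922)) (tt N16898 F231897) (tt N20800 (iv F240237)) (tt N20796 (iv F240215)) (tt N16903 F231898) (tt N20801 D53571) (tt N16897 (iv D51727)))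
theorem Q18959 : ∀ i, i < 18959 → P i := stepQ 18958 Q18958 (allL N18958 (tt N20767 (iv F240074)) (tt N20136 (iv F236757)) (tt N20799 (iv F240230)) (tt N17062 F231899) (tt N20801 (iv F240239)) (tt N16908 F231900) (tt N20797 (iv F240219)) (tt N16904 F231901) (tt N16898 (iv D51728)) (tt N20786 (iv F240165)))
theorem Q18960 : ∀ i, i < 18960 → P i := stepQ 18959 Q18959 (allL N18959 (tt N17409 F231902) (tt N16900 F231903) (tt N20137 (iv F236763)) (tt N17790 F231904) (tt N16899 (iv D51729)) (tt N17341 F231905) (tt N17751 F231906) (tt N17788 F231907) (tt N17356 F231908) (tt N20802 D53572))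
theorem Q18961 : ∀ i, i < 18961 → P i := stepQ 18960 Q18960 (allL N18960 (tt N17421 F231909) (tt N16901 F231910) (tt N20138 (iv F236770)) (tt N16938 F231911) (tt N20802 (iv F240244)) (tt N16909 F231912) (tt N17752 F231913) (tt N17789 F231914) (tt N20803 D53573) (tt N16899 (iv D51730)))
theorem Q18962 : ∀ i, i < 18962 → P i := stepQ 18961 Q18961 (allL N18961 (tt N17729 F231915) (tt N17790 F231916) (tt N20519 (iv F238939)) (tt N16900 (iv D51731)) (tt N16939 F231917) (tt N17733 (iv F231920)) (tt N17753 F231918) (tt N17735 F231919) (tt N17748 (iv F231921)) (tt N20804 D53574))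
theorem Q18963 : ∀ i, i < 18963 → P i := stepQ 18962 Q18962 (allL N18962 (tt N17735 F231922) (tt N17341 F231923) (tt N16902 F231924) (tt N17733 F231925) (tt N16910 F231926) (tt N16900 (iv D51732)) (tt N20182 (iv F237037)) (tt N17729 F231927) (tt N17336 F231928) (tt N20805 D53575))
theorem Q18964 : ∀ i, i < 18964 → P i := stepQ 18963 Q18963 (allL N18963 (tt N17736 F231929) (tt N20802 (iv F240242)) (tt N16903 F231930) (tt N20804 (iv F240257)) (tt N16901 F231931) (tt N20805 (iv F240267)) (tt N17755 F231932) (tt N20798 (iv F240227)) (tt N20806 D53576) (tt N16900 (iv D51733)))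
theorem Q18965 : ∀ i, i < 18965 → P i := stepQ 18964 Q18964 (allL N18964 (tt N17737 F231933) (tt N20803 (iv F240249)) (tt N16904 F231934) (tt N17793 F231935) (tt N20806 (iv F240271)) (tt N16912 F231936) (tt N17756 F231937) (tt N20799 (iv F240233)) (tt N16901 (iv D51734)) (tt N17727 F231938))
theorem Q18966 : ∀ i, i < 18966 → P i := stepQ 18965 Q18965 (allL N18965 (tt N20193 (iv F237101)) (tt N16981 F231939) (tt N20182 (iv F237034)) (tt N20522 (iv F238953)) (tt N16913 F231940) (tt N16952 F231941) (tt N16902 (iv D51735)) (tt N20807 D53577) (tt N20191 (iv F237094)) (tt N20808 D53578))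
theorem Q18967 : ∀ i, i < 18967 → P i := stepQ 18966 Q18966 (allL N18966 (tt N20768 (iv F240080)) (tt N20143 (iv F236795)) (tt N20805 (iv F240264)) (tt N20523 (iv F238957)) (tt N16914 F231942) (tt N16903 F231943) (tt N20808 (iv F240282)) (tt N20800 (iv F240238)) (tt N20809 D53579) (tt N16902 (iv D51736)))
theorem Q18968 : ∀ i, i < 18968 → P i := stepQ 18967 Q18967 (allL N18967 (tt N20769 (iv F240084)) (tt N20144 (iv F236800)) (tt N20806 (iv F240270)) (tt N20810 D53580) (tt N16904 F231944) (tt N20809 (iv F240284)) (tt N17758 F231945) (tt N20801 (iv F240240)) (tt N16903 (iv D51737)) (tt N20788 (iv F240174)))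
theorem Q18969 : ∀ i, i < 18969 → P i := stepQ 18968 Q18968 (allL N18968 (tt N17739 F231946) (tt N18069 F231947) (tt N16908 F231948) (tt N17794 F231949) (tt N18067 F231950) (tt N20799 (iv F240232)) (tt N18968 F231951) (tt N16912 F231952) (tt N16905 (iv D51738)) (tt N17728 F231953))
theorem Q18970 : ∀ i, i < 18970 → P i := stepQ 18969 Q18969 (allL N18969 (tt N20544 (iv F239055)) (tt N20149 (iv F236827)) (tt N17730 F231954) (tt N16923 F231955) (tt N20800 (iv F240236)) (tt N16907 F231956) (tt N20778 (iv F240128)) (tt N16914 F231957) (tt N20811 D53581) (tt N16906 (iv D51739)))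
theorem Q18971 : ∀ i, i < 18971 → P i := stepQ 18970 Q18970 (allL N18970 (tt N20770 (iv F240089)) (tt N20150 (iv F236832)) (tt N18067 F231958) (tt N20812 D53582) (tt N16908 F231959) (tt N20811 (iv F240288)) (tt N18970 F231960) (tt N16915 F231961) (tt N16907 (iv D51740)) (tt N20790 (iv F240185)))
theorem Q18972 : ∀ i, i < 18972 → P i := stepQ 18971 Q18971 (allL N18971 (tt N17422 F231962) (tt N16912 F231963) (tt N20151 (iv F236838)) (tt N17741 F231964) (tt N17346 F231965) (tt N20803 (iv F240251)) (tt N16916 F231966) (tt N18069 F231967) (tt N16909 (iv D51741)) (tt N17370 F231968))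
theorem Q18973 : ∀ i, i < 18973 → P i := stepQ 18972 Q18972 (allL N18972 (tt N17740 F231969) (tt N17342 F231970) (tt N16914 F231971) (tt N17333 F231972) (tt N20805 (iv F240266)) (tt N16911 F231973) (tt N20183 (iv F237044)) (tt N17730 F231974) (tt N20813 D53583) (tt N16910 (iv D51742)))
theorem Q18974 : ∀ i, i < 18974 → P i := stepQ 18973 Q18973 (allL N18973 (tt N17741 F231975) (tt N17346 F231976) (tt N16915 F231977) (tt N17422 F231978) (tt N16912 F231979) (tt N20813 (iv F240299)) (tt N16917 F231980) (tt N18067 F231981) (tt N16911 (iv D51743)) (tt N17339 F231982))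
theorem Q18975 : ∀ i, i < 18975 → P i := stepQ 18974 Q18974 (allL N18974 (tt N17695 F231983) (tt N16986 F231984) (tt N20180 (iv F237019)) (tt N16925 F231985) (tt N20807 (iv F240277)) (tt N16918 F231986) (tt N20739 (iv F239922)) (tt N16913 (iv D51744)) (tt N20188 (iv F237078)) (tt N20814 D53584))
theorem Q18976 : ∀ i, i < 18976 → P i := stepQ 18975 Q18975 (allL N18975 (tt N20199 (iv F237137)) (tt N16993 F231987) (tt N20183 (iv F237041)) (tt N16926 F231988) (tt N20808 (iv F240280)) (tt N16919 F231989) (tt N16914 F231990) (tt N20814 (iv F240306)) (tt N20815 D53585) (tt N16913 (iv D51745)))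
theorem Q18977 : ∀ i, i < 18977 → P i := stepQ 18976 Q18976 (allL N18976 (tt N20771 (iv F240095)) (tt N20155 (iv F236860)) (tt N20813 (iv F240297)) (tt N20816 D53586) (tt N20809 (iv F240283)) (tt N16915 F231991) (tt N20815 (iv F240309)) (tt N20811 (iv F240289)) (tt N16914 (iv D51746)) (tt N20791 (iv F240189)))
theorem Q18978 : ∀ i, i < 18978 → P i := stepQ 18977 Q18977 (allL N18977 (tt N20772 (iv F240099)) (tt N20156 (iv F236864)) (tt N20817 D53587) (tt N16915 (iv D51747)) (tt N17093 F231992) (tt N20816 (iv F240310)) (tt N16921 F231993) (tt N20812 (iv F240293)) (tt N16928 F231994) (tt N20792 (iv F240195)))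
theorem Q18979 : ∀ i, i < 18979 → P i := stepQ 18978 Q18978 (allL N18978 (tt N17994 F231995) (tt N16987 F231996) (tt N20184 (iv F237047)) (tt N16929 F231997) (tt N16955 F231998) (tt N20814 (iv F240305)) (tt N18978 F231999) (tt N16919 F232000) (tt N20818 D53588) (tt N16918 (iv D51748)))
theorem Q18980 : ∀ i, i < 18980 → P i := stepQ 18979 Q18979 (allL N18979 (tt N20200 (iv F237144)) (tt N16994 F232001) (tt N20185 (iv F237054)) (tt N20819 D53589) (tt N16957 F232002) (tt N20815 (iv F240308)) (tt N16920 F232003) (tt N20818 (iv F240322)) (tt N16919 (iv D51749)) (tt N20198 (iv F237136)))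
theorem Q18981 : ∀ i, i < 18981 → P i := stepQ 18980 Q18980 (allL N18980 (tt N20202 (iv F237159)) (tt N16997 F232004) (tt N20335 (iv F237903)) (tt N16920 (iv D51750)) (tt N20236 (iv F237375)) (tt N16921 F232005) (tt N20819 (iv F240324)) (tt N18980 F232006) (tt N16931 F232007) (tt N20201 (iv F237158)))
theorem Q18982 : ∀ i, i < 18982 → P i := stepQ 18981 Q18981 (allL N18981 (tt N20157 (iv F236868)) (tt N20338 (iv F237924)) (tt N16921 (iv D51751)) (tt N17425 F232008) (tt N17107 F232009) (tt N20335 (iv F237905)) (tt N20817 (iv F240314)) (tt N18981 F232010) (tt N16932 F232011) (tt N17478 F232012))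
theorem Q18983 : ∀ i, i < 18983 → P i := stepQ 18982 Q18982 (allL N18982 (tt N17601 F232013) (tt N20161 (iv F236893)) (tt N17157 F232014) (tt N20778 (iv F240126)) (tt N17567 F232015) (tt N18982 F232016) (tt N16923 F232017) (tt N20740 (iv F239930)) (tt N20820 D53590) (tt N16922 (iv D51752)))
theorem Q18984 : ∀ i, i < 18984 → P i := stepQ 18983 Q18983 (allL N18983 (tt N20545 (iv F239061)) (tt N20162 (iv F236900)) (tt N17946 F232018) (tt N20821 D53591) (tt N20488 (iv F238798)) (tt N16924 F232019) (tt N20820 (iv F240330)) (tt N16927 F232020) (tt N16923 (iv D51753)) (tt N18983 F232021))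
theorem Q18985 : ∀ i, i < 18985 → P i := stepQ 18984 Q18984 (allL N18984 (tt N20773 (iv F240104)) (tt N20163 (iv F236907)) (tt N18077 F232022) (tt N16924 (iv D51754)) (tt N17111 F232023) (tt N20821 (iv F240333)) (tt N18984 F232024) (tt N16928 F232025) (tt N20812 (iv F240294)) (tt N18984 F232026))
theorem Q18986 : ∀ i, i < 18986 → P i := stepQ 18985 Q18985 (allL N18985 (tt N17696 F232027) (tt N16999 F232028) (tt N17714 F232029) (tt N20814 (iv F240304)) (tt N17694 F232030) (tt N16929 F232031) (tt N20740 (iv F239929)) (tt N16926 F232032) (tt N20822 D53592) (tt N16925 (iv D51755)))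
theorem Q18987 : ∀ i, i < 18987 → P i := stepQ 18986 Q18986 (allL N18986 (tt N20203 (iv F237167)) (tt N17001 F232033) (tt N20753 (iv F239993)) (tt N20823 D53593) (tt N20539 (iv F239027)) (tt N16930 F232034) (tt N16927 F232035) (tt N20822 (iv F240341)) (tt N16926 (iv D51756)) (tt N18986 F232036))
theorem Q18988 : ∀ i, i < 18988 → P i := stepQ 18987 Q18987 (allL N18987 (tt N20774 (iv F240110)) (tt N20164 (iv F236913)) (tt N20824 D53594) (tt N16927 (iv D51757)) (tt N20825 D53595) (tt N16928 F232037) (tt N20823 (iv F240345)) (tt N20821 (iv F240334)) (tt N20816 (iv F240311)) (tt N18987 F232038))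
theorem Q18989 : ∀ i, i < 18989 → P i := stepQ 18988 Q18988 (allL N18988 (tt N20176 (iv F236987)) (tt N20372 (iv F238105)) (tt N16928 (iv D51758)) (tt N18075 F232039) (tt N17115 F232040) (tt N20824 (iv F240348)) (tt N16932 F232041) (tt N18077 F232042) (tt N20817 (iv F240316)) (tt N18988 F232043))
theorem Q18990 : ∀ i, i < 18990 → P i := stepQ 18989 Q18989 (allL N18989 (tt N17995 F232044) (tt N17000 F232045) (tt N18005 F232046) (tt N20826 D53596) (tt N16933 F232047) (tt N20822 (iv F240340)) (tt N18989 F232048) (tt N16930 F232049) (tt N16929 (iv D51759)) (tt N18989 F232050))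
theorem Q18991 : ∀ i, i < 18991 → P i := stepQ 18990 Q18990 (allL N18990 (tt N20204 (iv F237175)) (tt N17002 F232051) (tt N20370 (iv F238097)) (tt N16930 (iv D51760)) (tt N20241 (iv F237409)) (tt N20823 (iv F240344)) (tt N16931 F232052) (tt N20826 (iv F240356)) (tt N20819 (iv F240325)) (tt N18990 F232053))
theorem Q18992 : ∀ i, i < 18992 → P i := stepQ 18991 Q18991 (allL N18991 (tt N17732 F232054) (tt N16961 F232055) (tt N16935 F232056) (tt N20794 (iv F240206)) (tt N16943 F232057) (tt N18991 F232058) (tt N16936 F232059) (tt N17776 F232060) (tt N17782 F232061) (tt N16934 (iv D51761)))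
theorem Q18993 : ∀ i, i < 18993 → P i := stepQ 18992 Q18992 (allL N18992 (tt N17730 F232062) (tt N17791 F232063) (tt N20544 (iv F239056)) (tt N16940 F232064) (tt N20804 (iv F240258)) (tt N17738 F232065) (tt N17783 F232066) (tt N17740 F232067) (tt N20827 D53597) (tt N16939 (iv D51762)))
theorem Q18994 : ∀ i, i < 18994 → P i := stepQ 18993 Q18993 (allL N18993 (tt N20180 (iv F237017)) (tt N16963 F232068) (tt N17695 F232069) (tt N16941 (iv D51763)) (tt N20828 D53598) (tt N16944 F232070) (tt N17778 F232071) (tt N16942 F232072) (tt N16949 F232073) (tt N20829 D53599))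
theorem Q18995 : ∀ i, i < 18995 → P i := stepQ 18994 Q18994 (allL N18994 (tt N20181 (iv F237024)) (tt N16964 F232074) (tt N17716 F232075) (tt N20829 (iv F240373)) (tt N17776 F232076) (tt N16945 F232077) (tt N17779 F232078) (tt N16943 F232079) (tt N17777 F232080) (tt N16941 (iv D51764)))
theorem Q18996 : ∀ i, i < 18996 → P i := stepQ 18995 Q18995 (allL N18995 (tt N20182 (iv F237032)) (tt N16965 F232081) (tt N20193 (iv F237103)) (tt N20793 (iv F240199)) (tt N16942 (iv D51765)) (tt N20191 (iv F237092)) (tt N17735 F232082) (tt N20828 (iv F240369)) (tt N16952 F232083) (tt N20830 D53600))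
theorem Q18997 : ∀ i, i < 18997 → P i := stepQ 18996 Q18996 (allL N18996 (tt N20183 (iv F237039)) (tt N16966 F232084) (tt N20199 (iv F237139)) (tt N16943 F232085) (tt N20830 (iv F240378)) (tt N16946 F232086) (tt N17740 F232087) (tt N20829 (iv F240376)) (tt N20831 D53601) (tt N16942 (iv D51766)))
theorem Q18998 : ∀ i, i < 18998 → P i := stepQ 18997 Q18997 (allL N18997 (tt N20184 (iv F237045)) (tt N16968 F232088) (tt N17994 F232089) (tt N16945 F232090) (tt N20196 (iv F237122)) (tt N20829 (iv F240374)) (tt N18997 F232091) (tt N16946 F232092) (tt N20832 D53602) (tt N16944 (iv D51767)))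
theorem Q18999 : ∀ i, i < 18999 → P i := stepQ 18998 Q18998 (allL N18998 (tt N20185 (iv F237052)) (tt N16971 F232093) (tt N20200 (iv F237146)) (tt N17769 F232094) (tt N20198 (iv F237134)) (tt N20831 (iv F240382)) (tt N16947 F232095) (tt N20832 (iv F240389)) (tt N16946 (iv D51768)) (tt N16957 F232096))
theorem Q19000 : ∀ i, i < 19000 → P i := stepQ 18999 Q18999 (allL N18999 (tt N20186 (iv F237059)) (tt N16973 F232097) (tt N20742 (iv F239938)) (tt N16948 (iv D51769)) (tt N20833 D53603) (tt N18999 F232098) (tt N16949 F232099) (tt N17764 F232100) (tt N17778 F232101) (tt N20834 D53604))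
theorem Q19001 : ∀ i, i < 19001 → P i := stepQ 19000 Q19000 (allL N19000 (tt N20187 (iv F237065)) (tt N16974 F232102) (tt N19000 F232103) (tt N20834 (iv F240396)) (tt N20459 (iv F238622)) (tt N19000 F232104) (tt N16950 F232105) (tt N17775 F232106) (tt N20566 (iv F239183)) (tt N16948 (iv D51770)))
theorem Q19002 : ∀ i, i < 19002 → P i := stepQ 19001 Q19001 (allL N19001 (tt N20188 (iv F237073)) (tt N17698 F232107) (tt N16949 (iv D51771)) (tt N19001 F232108) (tt N20835 D53605) (tt N16954 F232109) (tt N20742 (iv F239941)) (tt N16951 F232110) (tt N17695 F232111) (tt N20836 D53606))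
theorem Q19003 : ∀ i, i < 19003 → P i := stepQ 19002 Q19002 (allL N19002 (tt N20189 (iv F237079)) (tt N16976 F232112) (tt N20835 (iv F240401)) (tt N20553 (iv F239113)) (tt N16949 (iv D51772)) (tt N20807 (iv F240278)) (tt N20833 (iv F240392)) (tt N16952 F232113) (tt N20828 (iv F240370)) (tt N20837 D53607))
theorem Q19004 : ∀ i, i < 19004 → P i := stepQ 19003 Q19003 (allL N19003 (tt N20190 (iv F237084)) (tt N16977 F232114) (tt N20836 (iv F240405)) (tt N16950 F232115) (tt N20837 (iv F240410)) (tt N16955 F232116) (tt N20834 (iv F240398)) (tt N16953 F232117) (tt N20838 D53608) (tt N16949 (iv D51773)))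
theorem Q19005 : ∀ i, i < 19005 → P i := stepQ 19004 Q19004 (allL N19004 (tt N20191 (iv F237089)) (tt N20211 (iv F237219)) (tt N16952 F232118) (tt N20839 D53609) (tt N16951 (iv D51774)) (tt N20182 (iv F237036)) (tt N17754 F232119) (tt N20835 (iv F240402)) (tt N20193 (iv F237108)) (tt N20840 D53610))
theorem Q19006 : ∀ i, i < 19006 → P i := stepQ 19005 Q19005 (allL N19005 (tt N20192 (iv F237095)) (tt N20216 (iv F237248)) (tt N16953 F232120) (tt N19005 F232121) (tt N20840 (iv F240420)) (tt N16956 F232122) (tt N17770 F232123) (tt N20836 (iv F240408)) (tt N20841 D53611) (tt N16951 (iv D51775)))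
theorem Q19007 : ∀ i, i < 19007 → P i := stepQ 19006 Q19006 (allL N19006 (tt N20194 (iv F237109)) (tt N16982 F232124) (tt N20840 (iv F240419)) (tt N20558 (iv F239138)) (tt N16953 F232125) (tt N20808 (iv F240281)) (tt N17757 F232126) (tt N20837 (iv F240411)) (tt N20842 D53612) (tt N16952 (iv D51776)))
theorem Q19008 : ∀ i, i < 19008 → P i := stepQ 19007 Q19007 (allL N19007 (tt N20195 (iv F237113)) (tt N16983 F232127) (tt N20841 (iv F240422)) (tt N20759 (iv F240028)) (tt N20842 (iv F240426)) (tt N16957 F232128) (tt N17772 F232129) (tt N20838 (iv F240414)) (tt N16953 (iv D51777)) (tt N20831 (iv F240384)))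
theorem Q19009 : ∀ i, i < 19009 → P i := stepQ 19008 Q19008 (allL N19008 (tt N20196 (iv F237118)) (tt N17996 F232130) (tt N16955 F232131) (tt N19008 F232132) (tt N20184 (iv F237049)) (tt N20836 (iv F240407)) (tt N19008 F232133) (tt N16956 F232134) (tt N20843 D53613) (tt N16954 (iv D51778)))
theorem Q19010 : ∀ i, i < 19010 → P i := stepQ 19009 Q19009 (allL N19009 (tt N20197 (iv F237125)) (tt N16988 F232135) (tt N20843 (iv F240429)) (tt N20761 (iv F240041)) (tt N20818 (iv F240320)) (tt N20838 (iv F240413)) (tt N19009 F232136) (tt N16957 F232137) (tt N16955 (iv D51779)) (tt N20832 (iv F240390)))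
theorem Q19011 : ∀ i, i < 19011 → P i := stepQ 19010 Q19010 (allL N19010 (tt N20198 (iv F237131)) (tt N20217 (iv F237255)) (tt N16957 F232138) (tt N20844 D53614) (tt N20185 (iv F237056)) (tt N20841 (iv F240423)) (tt N16958 F232139) (tt N20843 (iv F240431)) (tt N16956 (iv D51780)) (tt N20200 (iv F237150)))
theorem Q19012 : ∀ i, i < 19012 → P i := stepQ 19011 Q19011 (allL N19011 (tt N20201 (iv F237151)) (tt N20219 (iv F237270)) (tt N20763 (iv F240053)) (tt N16958 (iv D51781)) (tt N20286 (iv F237651)) (tt N17774 F232140) (tt N20844 (iv F240433)) (tt N19011 F232141) (tt N19011 F232142) (tt N20202 (iv F237166)))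
theorem Q19013 : ∀ i, i < 19013 → P i := stepQ 19012 Q19012 (allL N19012 (tt N17017 F232143) (tt N17742 F232144) (tt N17491 F232145) (tt N16959 (iv D51782)) (tt N20845 D53615) (tt N19012 F232146) (tt N17745 F232147) (tt N16960 F232148) (tt N20565 (iv F239174)) (tt N20846 D53616))
theorem Q19014 : ∀ i, i < 19014 → P i := stepQ 19013 Q19013 (allL N19013 (tt N17018 F232149) (tt N17776 F232150) (tt N17159 F232151) (tt N20846 (iv F240444)) (tt N16964 F232152) (tt N19013 F232153) (tt N17777 F232154) (tt N16961 F232155) (tt N17779 F232156) (tt N16959 (iv D51783)))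
theorem Q19015 : ∀ i, i < 19015 → P i := stepQ 19014 Q19014 (allL N19014 (tt N17019 F232157) (tt N17486 F232158) (tt N16960 (iv D51784)) (tt N17160 F232159) (tt N20847 D53617) (tt N19014 F232160) (tt N17787 F232161) (tt N17491 F232162) (tt N20567 (iv F239190)) (tt N20848 D53618))
theorem Q19016 : ∀ i, i < 19016 → P i := stepQ 19015 Q19015 (allL N19015 (tt N17020 F232163) (tt N20793 (iv F240197)) (tt N20847 (iv F240450)) (tt N16965 F232164) (tt N16960 (iv D51785)) (tt N20849 D53619) (tt N17788 F232165) (tt N20845 (iv F240440)) (tt N20568 (iv F239195)) (tt N20850 D53620))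
theorem Q19017 : ∀ i, i < 19017 → P i := stepQ 19016 Q19016 (allL N19016 (tt N17021 F232166) (tt N20794 (iv F240204)) (tt N20848 (iv F240456)) (tt N16961 F232167) (tt N20850 (iv F240466)) (tt N19016 F232168) (tt N17789 F232169) (tt N20846 (iv F240447)) (tt N20851 D53621) (tt N16960 (iv D51786)))
theorem Q19018 : ∀ i, i < 19018 → P i := stepQ 19017 Q19017 (allL N19017 (tt N17022 F232170) (tt N17778 F232171) (tt N17134 F232172) (tt N16962 (iv D51787)) (tt N20852 D53622) (tt N19017 F232173) (tt N16963 F232174) (tt N17781 F232175) (tt N16973 F232176) (tt N20853 D53623))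
theorem Q19019 : ∀ i, i < 19019 → P i := stepQ 19018 Q19018 (allL N19018 (tt N17023 F232177) (tt N17779 F232178) (tt N17151 F232179) (tt N20853 (iv F240482)) (tt N17777 F232180) (tt N19018 F232181) (tt N16964 F232182) (tt N17782 F232183) (tt N17776 F232184) (tt N16962 (iv D51788)))
theorem Q19020 : ∀ i, i < 19020 → P i := stepQ 19019 Q19019 (allL N19019 (tt N17025 F232185) (tt N20828 (iv F240365)) (tt N17888 F232186) (tt N20845 (iv F240438)) (tt N16963 (iv D51789)) (tt N20854 D53624) (tt N20852 (iv F240476)) (tt N16965 F232187) (tt N16976 F232188) (tt N20855 D53625))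
theorem Q19021 : ∀ i, i < 19021 → P i := stepQ 19020 Q19020 (allL N19020 (tt N17026 F232189) (tt N20829 (iv F240371)) (tt N17940 F232190) (tt N16964 F232191) (tt N20855 (iv F240493)) (tt N16968 F232192) (tt N20853 (iv F240484)) (tt N16966 F232193) (tt N20856 D53626) (tt N16963 (iv D51790)))
theorem Q19022 : ∀ i, i < 19022 → P i := stepQ 19021 Q19021 (allL N19021 (tt N17030 F232194) (tt N20191 (iv F237090)) (tt N17973 F232195) (tt N20849 (iv F240462)) (tt N16969 F232196) (tt N16965 (iv D51791)) (tt N20118 (iv F236651)) (tt N20854 (iv F240489)) (tt N16981 F232197) (tt N20857 D53627))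
theorem Q19023 : ∀ i, i < 19023 → P i := stepQ 19022 Q19022 (allL N19022 (tt N17031 F232198) (tt N20830 (iv F240377)) (tt N17943 F232199) (tt N20850 (iv F240465)) (tt N16966 F232200) (tt N20857 (iv F240504)) (tt N17792 F232201) (tt N20855 (iv F240494)) (tt N20858 D53628) (tt N16965 (iv D51792)))
theorem Q19024 : ∀ i, i < 19024 → P i := stepQ 19023 Q19023 (allL N19023 (tt N17032 F232202) (tt N20831 (iv F240380)) (tt N17898 F232203) (tt N17756 F232204) (tt N20858 (iv F240507)) (tt N16971 F232205) (tt N17793 F232206) (tt N20856 (iv F240499)) (tt N16966 (iv D51793)) (tt N16983 F232207))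
theorem Q19025 : ∀ i, i < 19025 → P i := stepQ 19024 Q19024 (allL N19024 (tt N17036 F232208) (tt N20188 (iv F237074)) (tt N17974 F232209) (tt N19024 F232210) (tt N20854 (iv F240488)) (tt N16967 (iv D51794)) (tt N20859 D53629) (tt N16969 F232211) (tt N16986 F232212) (tt N20860 D53630))
theorem Q19026 : ∀ i, i < 19026 → P i := stepQ 19025 Q19025 (allL N19025 (tt N17037 F232213) (tt N20196 (iv F237119)) (tt N17944 F232214) (tt N19025 F232215) (tt N16968 F232216) (tt N20860 (iv F240518)) (tt N19025 F232217) (tt N16970 F232218) (tt N20861 D53631) (tt N16967 (iv D51795)))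
theorem Q19027 : ∀ i, i < 19027 → P i := stepQ 19026 Q19026 (allL N19026 (tt N17038 F232219) (tt N20832 (iv F240385)) (tt N17910 F232220) (tt N17763 F232221) (tt N20861 (iv F240522)) (tt N20856 (iv F240498)) (tt N19026 F232222) (tt N16971 F232223) (tt N16968 (iv D51796)) (tt N16988 F232224))
theorem Q19028 : ∀ i, i < 19028 → P i := stepQ 19027 Q19027 (allL N19027 (tt N17044 F232225) (tt N20192 (iv F237096)) (tt N17945 F232226) (tt N19027 F232227) (tt N20857 (iv F240503)) (tt N16970 F232228) (tt N20126 (iv F236700)) (tt N20860 (iv F240519)) (tt N20862 D53632) (tt N16969 (iv D51797)))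
theorem Q19029 : ∀ i, i < 19029 → P i := stepQ 19028 Q19028 (allL N19028 (tt N17045 F232229) (tt N20198 (iv F237132)) (tt N17925 F232230) (tt N20863 D53633) (tt N16971 F232231) (tt N20862 (iv F240528)) (tt N16972 F232232) (tt N20861 (iv F240524)) (tt N16970 (iv D51798)) (tt N16994 F232233))
theorem Q19030 : ∀ i, i < 19030 → P i := stepQ 19029 Q19029 (allL N19029 (tt N17053 F232234) (tt N20201 (iv F237152)) (tt N20864 D53634) (tt N16972 (iv D51799)) (tt N17774 F232235) (tt N20129 (iv F236717)) (tt N20863 (iv F240532)) (tt N19029 F232236) (tt N19029 F232237) (tt N16997 F232238))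
theorem Q19031 : ∀ i, i < 19031 → P i := stepQ 19030 Q19030 (allL N19030 (tt N17054 F232239) (tt N17137 (iv F232245)) (tt N16973 (iv D51800)) (tt N17004 F232240) (tt N20865 D53635) (tt N19030 F232241) (tt N16975 F232242) (tt N17795 F232243) (tt N17134 F232244) (tt N20866 D53636))
theorem Q19032 : ∀ i, i < 19032 → P i := stepQ 19031 Q19031 (allL N19031 (tt N17055 F232246) (tt N20833 (iv F240391)) (tt N20865 (iv F240543)) (tt N20591 (iv F239303)) (tt N16973 (iv D51801)) (tt N20867 D53637) (tt N16976 F232247) (tt N17796 F232248) (tt N20852 (iv F240478)) (tt N20868 D53638))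
theorem Q19033 : ∀ i, i < 19033 → P i := stepQ 19032 Q19032 (allL N19032 (tt N17056 F232249) (tt N20834 (iv F240395)) (tt N20866 (iv F240549)) (tt N16974 F232250) (tt N20868 (iv F240558)) (tt N19032 F232251) (tt N16977 F232252) (tt N17797 F232253) (tt N20869 D53639) (tt N16973 (iv D51802)))
theorem Q19034 : ∀ i, i < 19034 → P i := stepQ 19033 Q19033 (allL N19033 (tt N17058 F232254) (tt N17893 F232255) (tt N16976 F232256) (tt N20870 D53640) (tt N16975 (iv D51803)) (tt N20871 D53641) (tt N20865 (iv F240544)) (tt N16979 F232257) (tt N17888 F232258) (tt N20872 D53642))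
theorem Q19035 : ∀ i, i < 19035 → P i := stepQ 19034 Q19034 (allL N19034 (tt N17059 F232259) (tt N17941 F232260) (tt N16977 F232261) (tt N17008 F232262) (tt N20872 (iv F240579)) (tt N16985 F232263) (tt N20866 (iv F240552)) (tt N16980 F232264) (tt N20873 D53643) (tt N16975 (iv D51804)))
theorem Q19036 : ∀ i, i < 19036 → P i := stepQ 19035 Q19035 (allL N19035 (tt N17060 F232265) (tt N20807 (iv F240275)) (tt N20871 (iv F240572)) (tt N20595 (iv F239320)) (tt N16986 F232266) (tt N16976 (iv D51805)) (tt N20874 D53644) (tt N16981 F232267) (tt N20854 (iv F240490)) (tt N20875 D53645))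
theorem Q19037 : ∀ i, i < 19037 → P i := stepQ 19036 Q19036 (allL N19036 (tt N17061 F232268) (tt N20837 (iv F240409)) (tt N20872 (iv F240578)) (tt N20596 (iv F239324)) (tt N16977 F232269) (tt N20875 (iv F240592)) (tt N20868 (iv F240559)) (tt N16982 F232270) (tt N20876 D53646) (tt N16976 (iv D51806)))
theorem Q19038 : ∀ i, i < 19038 → P i := stepQ 19037 Q19037 (allL N19037 (tt N17062 F232271) (tt N20838 (iv F240412)) (tt N20873 (iv F240583)) (tt N20767 (iv F240076)) (tt N20876 (iv F240595)) (tt N16988 F232272) (tt N20869 (iv F240563)) (tt N16983 F232273) (tt N16977 (iv D51807)) (tt N20856 (iv F240500)))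
theorem Q19039 : ∀ i, i < 19039 → P i := stepQ 19038 Q19038 (allL N19038 (tt N20263 (iv F237515)) (tt N16979 F232274) (tt N20211 (iv F237220)) (tt N20877 D53647) (tt N16978 (iv D51808)) (tt N20209 (iv F237207)) (tt N17804 F232275) (tt N17893 F232276) (tt N17879 F232277) (tt N20878 D53648))
theorem Q19040 : ∀ i, i < 19040 → P i := stepQ 19039 Q19039 (allL N19039 (tt N20275 (iv F237582)) (tt N16980 F232278) (tt N20216 (iv F237249)) (tt N17012 F232279) (tt N20878 (iv F240603)) (tt N16989 F232280) (tt N17805 F232281) (tt N17941 F232282) (tt N20879 D53649) (tt N16978 (iv D51809)))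
theorem Q19041 : ∀ i, i < 19041 → P i := stepQ 19040 Q19040 (allL N19040 (tt N17066 F232283) (tt N20877 (iv F240597)) (tt N20296 (iv F237703)) (tt N16979 (iv D51810)) (tt N17013 F232284) (tt N20880 D53650) (tt N17806 F232285) (tt N20870 (iv F240568)) (tt N20881 D53651) (tt N20882 D53652))
theorem Q19042 : ∀ i, i < 19042 → P i := stepQ 19041 Q19041 (allL N19041 (tt N17067 F232286) (tt N20209 (iv F237205)) (tt N16981 F232287) (tt N20880 (iv F240613)) (tt N16990 F232288) (tt N16979 (iv D51811)) (tt N20140 (iv F236784)) (tt N20871 (iv F240574)) (tt N17973 F232289) (tt N20883 D53653))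
theorem Q19043 : ∀ i, i < 19043 → P i := stepQ 19042 Q19042 (allL N19042 (tt N17068 F232290) (tt N20878 (iv F240602)) (tt N16982 F232291) (tt N20882 (iv F240622)) (tt N16980 F232292) (tt N20883 (iv F240628)) (tt N17807 F232293) (tt N20872 (iv F240580)) (tt N20884 D53654) (tt N16979 (iv D51812)))
theorem Q19044 : ∀ i, i < 19044 → P i := stepQ 19043 Q19043 (allL N19043 (tt N17069 F232294) (tt N20879 (iv F240606)) (tt N16983 F232295) (tt N17844 F232296) (tt N20884 (iv F240631)) (tt N16992 F232297) (tt N17808 F232298) (tt N20873 (iv F240586)) (tt N16980 (iv D51813)) (tt N17898 F232299))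
theorem Q19045 : ∀ i, i < 19045 → P i := stepQ 19044 Q19044 (allL N19044 (tt N17071 F232300) (tt N20808 (iv F240279)) (tt N20883 (iv F240626)) (tt N20604 (iv F239356)) (tt N16993 F232301) (tt N16982 F232302) (tt N20143 (iv F236798)) (tt N20875 (iv F240593)) (tt N20885 D53655) (tt N16981 (iv D51814)))
theorem Q19046 : ∀ i, i < 19046 → P i := stepQ 19045 Q19045 (allL N19045 (tt N17072 F232303) (tt N20842 (iv F240425)) (tt N20884 (iv F240630)) (tt N20886 D53656) (tt N16983 F232304) (tt N20885 (iv F240636)) (tt N17809 F232305) (tt N20876 (iv F240596)) (tt N16982 (iv D51815)) (tt N20858 (iv F240509)))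
theorem Q19047 : ∀ i, i < 19047 → P i := stepQ 19046 Q19046 (allL N19046 (tt N17076 F232306) (tt N18034 F232307) (tt N16986 F232308) (tt N19046 F232309) (tt N20871 (iv F240573)) (tt N16984 (iv D51816)) (tt N20887 D53657) (tt N16990 F232310) (tt N17974 F232311) (tt N20888 D53658))
theorem Q19048 : ∀ i, i < 19048 → P i := stepQ 19047 Q19047 (allL N19047 (tt N17077 F232312) (tt N18036 F232313) (tt N16987 F232314) (tt N19047 F232315) (tt N16985 F232316) (tt N20888 (iv F240649)) (tt N19047 F232317) (tt N16991 F232318) (tt N20889 D53659) (tt N16984 (iv D51817)))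
theorem Q19049 : ∀ i, i < 19049 → P i := stepQ 19048 Q19048 (allL N19048 (tt N17078 F232319) (tt N18066 F232320) (tt N16988 F232321) (tt N17852 F232322) (tt N20889 (iv F240654)) (tt N20873 (iv F240585)) (tt N19048 F232323) (tt N16992 F232324) (tt N16985 (iv D51818)) (tt N17910 F232325))
theorem Q19050 : ∀ i, i < 19050 → P i := stepQ 19049 Q19049 (allL N19049 (tt N17079 F232326) (tt N20739 (iv F239919)) (tt N20887 (iv F240641)) (tt N16998 F232327) (tt N20874 (iv F240589)) (tt N19049 F232328) (tt N16986 (iv D51819)) (tt N20148 (iv F236825)) (tt N20859 (iv F240514)) (tt N20890 D53660))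
theorem Q19051 : ∀ i, i < 19051 → P i := stepQ 19050 Q19050 (allL N19050 (tt N17080 F232329) (tt N20814 (iv F240303)) (tt N20888 (iv F240647)) (tt N16999 F232330) (tt N20875 (iv F240591)) (tt N16987 F232331) (tt N20890 (iv F240661)) (tt N16993 F232332) (tt N20891 D53661) (tt N16986 (iv D51820)))
theorem Q19052 : ∀ i, i < 19052 → P i := stepQ 19051 Q19051 (allL N19051 (tt N17081 F232333) (tt N20818 (iv F240319)) (tt N20889 (iv F240653)) (tt N20892 D53662) (tt N16988 F232334) (tt N20891 (iv F240663)) (tt N19051 F232335) (tt N16994 F232336) (tt N16987 (iv D51821)) (tt N20861 (iv F240525)))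
theorem Q19053 : ∀ i, i < 19053 → P i := stepQ 19052 Q19052 (allL N19052 (tt N20276 (iv F237589)) (tt N16992 F232337) (tt N20217 (iv F237256)) (tt N17857 F232338) (tt N20215 (iv F237243)) (tt N20879 (iv F240608)) (tt N16995 F232339) (tt N18066 F232340) (tt N16989 (iv D51822)) (tt N17920 F232341))
theorem Q19054 : ∀ i, i < 19054 → P i := stepQ 19053 Q19053 (allL N19053 (tt N17087 F232342) (tt N20210 (iv F237212)) (tt N16993 F232343) (tt N19053 F232344) (tt N20883 (iv F240627)) (tt N16991 F232345) (tt N20152 (iv F236848)) (tt N20888 (iv F240650)) (tt N20893 D53663) (tt N16990 (iv D51823)))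
theorem Q19055 : ∀ i, i < 19055 → P i := stepQ 19054 Q19054 (allL N19054 (tt N17088 F232346) (tt N20215 (iv F237241)) (tt N16994 F232347) (tt N20894 D53664) (tt N16992 F232348) (tt N20893 (iv F240671)) (tt N16996 F232349) (tt N20889 (iv F240656)) (tt N16991 (iv D51824)) (tt N17925 F232350))
theorem Q19056 : ∀ i, i < 19056 → P i := stepQ 19055 Q19055 (allL N19055 (tt N17092 F232351) (tt N20815 (iv F240307)) (tt N20893 (iv F240670)) (tt N20895 D53665) (tt N20885 (iv F240635)) (tt N16994 F232352) (tt N20155 (iv F236862)) (tt N20891 (iv F240664)) (tt N16993 (iv D51825)) (tt N20862 (iv F240529)))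
theorem Q19057 : ∀ i, i < 19057 → P i := stepQ 19056 Q19056 (allL N19056 (tt N17093 F232353) (tt N20819 (iv F240323)) (tt N20896 D53666) (tt N16994 (iv D51826)) (tt N20772 (iv F240100)) (tt N20895 (iv F240679)) (tt N16997 F232354) (tt N20892 (iv F240667)) (tt N17002 F232355) (tt N20863 (iv F240534)))
theorem Q19058 : ∀ i, i < 19058 → P i := stepQ 19057 Q19057 (allL N19057 (tt N17102 F232356) (tt N20218 (iv F237262)) (tt N20897 D53667) (tt N16996 (iv D51827)) (tt N17869 F232357) (tt N20158 (iv F236878)) (tt N20894 (iv F240675)) (tt N19057 F232358) (tt N19057 F232359) (tt N17936 F232360))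
theorem Q19059 : ∀ i, i < 19059 → P i := stepQ 19058 Q19058 (allL N19058 (tt N17107 F232361) (tt N20159 (iv F236883)) (tt N16997 (iv D51828)) (tt N20897 (iv F240685)) (tt N20157 F236875) (tt N20160 (iv F236889)) (tt N20896 (iv F240682)) (tt N19058 F232362) (tt N17003 F232363) (tt N20864 (iv F240540)))
theorem Q19060 : ∀ i, i < 19060 → P i := stepQ 19059 Q19059 (allL N19059 (tt N17109 F232364) (tt N20740 (iv F239925)) (tt N19059 F232365) (tt N20890 (iv F240659)) (tt N20622 (iv F239428)) (tt N19059 F232366) (tt N16999 F232367) (tt N20161 (iv F236898)) (tt N20898 D53668) (tt N16998 (iv D51829)))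
theorem Q19061 : ∀ i, i < 19061 → P i := stepQ 19060 Q19060 (allL N19060 (tt N17110 F232368) (tt N20822 (iv F240337)) (tt N19060 F232369) (tt N20899 D53669) (tt N20623 (iv F239435)) (tt N17000 F232370) (tt N20898 (iv F240693)) (tt N17001 F232371) (tt N16999 (iv D51830)) (tt N19060 F232372))
theorem Q19062 : ∀ i, i < 19062 → P i := stepQ 19061 Q19061 (allL N19061 (tt N17111 F232373) (tt N20826 (iv F240354)) (tt N20900 D53670) (tt N17000 (iv D51831)) (tt N20773 (iv F240106)) (tt N20899 (iv F240696)) (tt N19061 F232374) (tt N17002 F232375) (tt N20892 (iv F240668)) (tt N19061 F232376))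
theorem Q19063 : ∀ i, i < 19063 → P i := stepQ 19062 Q19062 (allL N19062 (tt N17114 F232377) (tt N20823 (iv F240343)) (tt N20901 D53671) (tt N17001 (iv D51832)) (tt N20902 D53672) (tt N17002 F232378) (tt N20164 (iv F236915)) (tt N20899 (iv F240697)) (tt N20895 (iv F240680)) (tt N19062 F232379))
theorem Q19064 : ∀ i, i < 19064 → P i := stepQ 19063 Q19063 (allL N19063 (tt N17115 F232380) (tt N20177 (iv F236995)) (tt N17002 (iv D51833)) (tt N19063 F232381) (tt N20176 F236993) (tt N20901 (iv F240707)) (tt N17003 F232382) (tt N20900 (iv F240703)) (tt N20896 (iv F240683)) (tt N19063 F232383))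
theorem Q19065 : ∀ i, i < 19065 → P i := stepQ 19064 Q19064 (allL N19064 (tt N17121 F232384) (tt N17182 F232385) (tt N17005 F232386) (tt N20326 (iv F237860)) (tt N17004 (iv D51834)) (tt N17192 (iv F232390)) (tt N17007 F232387) (tt N17185 F232388) (tt N17162 F232389) (tt N20903 D53673))
theorem Q19066 : ∀ i, i < 19066 → P i := stepQ 19065 Q19065 (allL N19065 (tt N17122 F232391) (tt N17187 F232392) (tt N17006 F232393) (tt N20866 (iv F240550)) (tt N20903 (iv F240714)) (tt N19065 F232394) (tt N17008 F232395) (tt N17816 F232396) (tt N17962 F232397) (tt N17004 (iv D51835)))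
theorem Q19067 : ∀ i, i < 19067 → P i := stepQ 19066 Q19066 (allL N19066 (tt N17123 F232398) (tt N19066 F232399) (tt N20903 (iv F240713)) (tt N20002 (iv F235860)) (tt N17006 F232400) (tt N17153 F232401) (tt N17009 F232402) (tt N17150 F232403) (tt N17148 F232404) (tt N17005 (iv D51836)))
theorem Q19068 : ∀ i, i < 19068 → P i := stepQ 19067 Q19067 (allL N19067 (tt N17128 F232405) (tt N17969 F232406) (tt N20318 (iv F237812)) (tt N17007 (iv D51837)) (tt N20870 (iv F240567)) (tt N19067 F232407) (tt N20326 (iv F237862)) (tt N17013 F232408) (tt N17967 F232409) (tt N20904 D53674))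
theorem Q19069 : ∀ i, i < 19069 → P i := stepQ 19068 Q19068 (allL N19068 (tt N17129 F232410) (tt N17972 F232411) (tt N17009 F232412) (tt N20904 (iv F240721)) (tt N17008 F232413) (tt N19068 F232414) (tt N20903 (iv F240716)) (tt N17014 F232415) (tt N17965 F232416) (tt N17007 (iv D51838)))
theorem Q19070 : ∀ i, i < 19070 → P i := stepQ 19069 Q19069 (allL N19069 (tt N17011 F232417) (tt N17132 F232418) (tt N19069 F232419) (tt N20905 D53675) (tt N17010 (iv D51839)) (tt N19069 F232420) (tt N17173 F232421) (tt N17188 F232422) (tt N17163 F232423) (tt N20906 D53676))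
theorem Q19071 : ∀ i, i < 19071 → P i := stepQ 19070 Q19070 (allL N19070 (tt N17012 F232424) (tt N17133 F232425) (tt N19070 F232426) (tt N20275 (iv F237585)) (tt N20906 (iv F240733)) (tt N17015 F232427) (tt N17819 F232428) (tt N17949 F232429) (tt N17966 F232430) (tt N17010 (iv D51840)))
theorem Q19072 : ∀ i, i < 19072 → P i := stepQ 19071 Q19071 (allL N19071 (tt N20905 (iv F240724)) (tt N17013 F232431) (tt N20907 D53677) (tt N17011 (iv D51841)) (tt N20877 (iv F240598)) (tt N19071 F232432) (tt N17820 F232433) (tt N17969 F232434) (tt N17964 F232435) (tt N20908 D53678))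
theorem Q19073 : ∀ i, i < 19073 → P i := stepQ 19072 Q19072 (allL N19072 (tt N20906 (iv F240730)) (tt N17014 F232436) (tt N19072 F232437) (tt N20908 (iv F240745)) (tt N17012 F232438) (tt N19072 F232439) (tt N17821 F232440) (tt N17972 F232441) (tt N17968 F232442) (tt N17011 (iv D51842)))
theorem Q19074 : ∀ i, i < 19074 → P i := stepQ 19073 Q19073 (allL N19073 (tt N17137 F232443) (tt N17964 F232444) (tt N20271 (iv F237558)) (tt N17164 F232445) (tt N20881 (iv F240618)) (tt N19073 F232446) (tt N17822 F232447) (tt N17967 F232448) (tt N17013 (iv D51843)) (tt N20909 D53679))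
theorem Q19075 : ∀ i, i < 19075 → P i := stepQ 19074 Q19074 (allL N19074 (tt N17138 F232449) (tt N20908 (iv F240744)) (tt N20319 (iv F237819)) (tt N17014 F232450) (tt N20882 (iv F240623)) (tt N19074 F232451) (tt N17823 F232452) (tt N20904 (iv F240723)) (tt N20910 D53680) (tt N17013 (iv D51844)))
theorem Q19076 : ∀ i, i < 19076 → P i := stepQ 19075 Q19075 (allL N19075 (tt N17745 F232453) (tt N17861 F232454) (tt N20356 (iv F238018)) (tt N17016 (iv D51845)) (tt N20911 D53681) (tt N17427 F232455) (tt N17017 F232456) (tt N17420 F232457) (tt N17466 F232458) (tt N20912 D53682))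
theorem Q19077 : ∀ i, i < 19077 → P i := stepQ 19076 Q19076 (allL N19076 (tt N17777 F232459) (tt N18072 F232460) (tt N17165 F232461) (tt N20912 (iv F240767)) (tt N17023 F232462) (tt N17784 F232463) (tt N17018 F232464) (tt N17780 F232465) (tt N20181 (iv F237031)) (tt N17016 (iv D51846)))
theorem Q19078 : ∀ i, i < 19078 → P i := stepQ 19077 Q19077 (allL N19077 (tt N17491 F232466) (tt N20913 D53683) (tt N17017 (iv D51847)) (tt N17166 F232467) (tt N20914 D53684) (tt N19077 F232468) (tt N20356 (iv F238020)) (tt N17019 F232469) (tt N20636 (iv F239516)) (tt N20915 D53685))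
theorem Q19079 : ∀ i, i < 19079 → P i := stepQ 19078 Q19078 (allL N19078 (tt N20845 (iv F240435)) (tt N20244 (iv F237425)) (tt N20914 (iv F240777)) (tt N17025 F232470) (tt N17017 (iv D51848)) (tt N20916 D53686) (tt N20911 (iv F240762)) (tt N17020 F232471) (tt N20637 (iv F239521)) (tt N20917 D53687))
theorem Q19080 : ∀ i, i < 19080 → P i := stepQ 19079 Q19079 (allL N19079 (tt N20846 (iv F240441)) (tt N20245 (iv F237430)) (tt N20915 (iv F240781)) (tt N17018 F232472) (tt N20917 (iv F240789)) (tt N19079 F232473) (tt N20912 (iv F240769)) (tt N17021 F232474) (tt N20918 D53688) (tt N17017 (iv D51849)))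
theorem Q19081 : ∀ i, i < 19081 → P i := stepQ 19080 Q19080 (allL N19080 (tt N20919 D53689) (tt N17019 (iv D51850)) (tt N20246 (iv F237435)) (tt N17168 F232475) (tt N20920 D53690) (tt N19080 F232476) (tt N17825 F232477) (tt N20913 (iv F240775)) (tt N20639 (iv F239531)) (tt N20921 D53691))
theorem Q19082 : ∀ i, i < 19082 → P i := stepQ 19081 Q19081 (allL N19081 (tt N20847 (iv F240448)) (tt N20920 (iv F240798)) (tt N17020 F232478) (tt N20922 D53692) (tt N17019 (iv D51851)) (tt N20923 D53693) (tt N17826 F232479) (tt N20914 (iv F240779)) (tt N20640 (iv F239534)) (tt N20924 D53694))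
theorem Q19083 : ∀ i, i < 19083 → P i := stepQ 19082 Q19082 (allL N19082 (tt N20848 (iv F240454)) (tt N20921 (iv F240800)) (tt N17021 F232480) (tt N17170 F232481) (tt N20924 (iv F240812)) (tt N19082 F232482) (tt N17827 F232483) (tt N20915 (iv F240784)) (tt N20925 D53695) (tt N17019 (iv D51852)))
theorem Q19084 : ∀ i, i < 19084 → P i := stepQ 19083 Q19083 (allL N19083 (tt N20849 (iv F240461)) (tt N20249 (iv F237449)) (tt N20923 (iv F240809)) (tt N17030 F232484) (tt N19083 F232485) (tt N17020 (iv D51853)) (tt N20926 D53696) (tt N20916 (iv F240787)) (tt N20642 (iv F239543)) (tt N20927 D53697))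
theorem Q19085 : ∀ i, i < 19085 → P i := stepQ 19084 Q19084 (allL N19084 (tt N20850 (iv F240464)) (tt N20250 (iv F237454)) (tt N20924 (iv F240811)) (tt N17031 F232486) (tt N17021 F232487) (tt N20927 (iv F240824)) (tt N17828 F232488) (tt N20917 (iv F240790)) (tt N20928 D53698) (tt N17020 (iv D51854)))
theorem Q19086 : ∀ i, i < 19086 → P i := stepQ 19085 Q19085 (allL N19085 (tt N20851 (iv F240468)) (tt N20251 (iv F237458)) (tt N20925 (iv F240814)) (tt N20781 (iv F240137)) (tt N20928 (iv F240825)) (tt N19085 F232489) (tt N17829 F232490) (tt N20918 (iv F240792)) (tt N17021 (iv D51855)) (tt N20644 (iv F239551)))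
theorem Q19087 : ∀ i, i < 19087 → P i := stepQ 19086 Q19086 (allL N19086 (tt N17134 F232491) (tt N20905 (iv F240725)) (tt N17022 (iv D51856)) (tt N17132 F232492) (tt N20929 D53699) (tt N19086 F232493) (tt N17024 F232494) (tt N17830 F232495) (tt N17054 F232496) (tt N20930 D53700))
theorem Q19088 : ∀ i, i < 19088 → P i := stepQ 19087 Q19087 (allL N19087 (tt N20852 (iv F240472)) (tt N20252 (iv F237462)) (tt N20929 (iv F240828)) (tt N20911 (iv F240761)) (tt N17022 (iv D51857)) (tt N20931 D53701) (tt N17025 F232497) (tt N17831 F232498) (tt N17055 F232499) (tt N20932 D53702))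
theorem Q19089 : ∀ i, i < 19089 → P i := stepQ 19088 Q19088 (allL N19088 (tt N20853 (iv F240479)) (tt N20253 (iv F237467)) (tt N20930 (iv F240834)) (tt N17023 F232500) (tt N20932 (iv F240842)) (tt N19088 F232501) (tt N17026 F232502) (tt N17832 F232503) (tt N20933 D53703) (tt N17022 (iv D51858)))
theorem Q19090 : ∀ i, i < 19090 → P i := stepQ 19089 Q19089 (allL N19089 (tt N17820 F232504) (tt N17024 (iv D51859)) (tt N20254 (iv F237473)) (tt N17173 F232505) (tt N20934 D53704) (tt N17033 F232506) (tt N20905 (iv F240727)) (tt N17027 F232507) (tt N17057 F232508) (tt N20935 D53705))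
theorem Q19091 : ∀ i, i < 19091 → P i := stepQ 19090 Q19090 (allL N19090 (tt N17888 F232509) (tt N20934 (iv F240850)) (tt N17025 F232510) (tt N17886 F232511) (tt N17024 (iv D51860)) (tt N20936 D53706) (tt N20929 (iv F240830)) (tt N17028 F232512) (tt N17058 F232513) (tt N20937 D53707))
theorem Q19092 : ∀ i, i < 19092 → P i := stepQ 19091 Q19091 (allL N19091 (tt N17940 F232514) (tt N20935 (iv F240855)) (tt N17026 F232515) (tt N17174 F232516) (tt N20937 (iv F240868)) (tt N17035 F232517) (tt N20930 (iv F240837)) (tt N17029 F232518) (tt N20938 D53708) (tt N17024 (iv D51861)))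
theorem Q19093 : ∀ i, i < 19093 → P i := stepQ 19092 Q19092 (allL N19092 (tt N20854 (iv F240486)) (tt N20257 (iv F237489)) (tt N20936 (iv F240860)) (tt N20916 (iv F240785)) (tt N17036 F232519) (tt N17025 (iv D51862)) (tt N20939 D53709) (tt N17030 F232520) (tt N17060 F232521) (tt N20940 D53710))
theorem Q19094 : ∀ i, i < 19094 → P i := stepQ 19093 Q19093 (allL N19093 (tt N20855 (iv F240491)) (tt N20258 (iv F237494)) (tt N20937 (iv F240866)) (tt N20917 (iv F240788)) (tt N17026 F232522) (tt N20940 (iv F240879)) (tt N20932 (iv F240843)) (tt N17031 F232523) (tt N20941 D53711) (tt N17025 (iv D51863)))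
theorem Q19095 : ∀ i, i < 19095 → P i := stepQ 19094 Q19094 (allL N19094 (tt N20856 (iv F240495)) (tt N20259 (iv F237497)) (tt N20938 (iv F240871)) (tt N20786 (iv F240162)) (tt N20941 (iv F240881)) (tt N17038 F232524) (tt N20933 (iv F240846)) (tt N17032 F232525) (tt N17026 (iv D51864)) (tt N17062 F232526))
theorem Q19096 : ∀ i, i < 19096 → P i := stepQ 19095 Q19095 (allL N19095 (tt N20302 (iv F237734)) (tt N17028 F232527) (tt N20260 (iv F237503)) (tt N20942 D53712) (tt N17027 (iv D51865)) (tt N20299 (iv F237719)) (tt N17839 F232528) (tt N20934 (iv F240852)) (tt N17064 F232529) (tt N20943 D53713))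
theorem Q19097 : ∀ i, i < 19097 → P i := stepQ 19096 Q19096 (allL N19096 (tt N20323 (iv F237839)) (tt N17029 F232530) (tt N20261 (iv F237509)) (tt N17177 F232531) (tt N20943 (iv F240890)) (tt N17039 F232532) (tt N17840 F232533) (tt N20935 (iv F240858)) (tt N20944 D53714) (tt N17027 (iv D51866)))
theorem Q19098 : ∀ i, i < 19098 → P i := stepQ 19097 Q19097 (allL N19097 (tt N17877 F232534) (tt N20942 (iv F240885)) (tt N20922 (iv F240805)) (tt N17028 (iv D51867)) (tt N17178 F232535) (tt N20945 D53715) (tt N17841 F232536) (tt N17886 F232537) (tt N20946 D53716) (tt N20947 D53717))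
theorem Q19099 : ∀ i, i < 19099 → P i := stepQ 19098 Q19098 (allL N19098 (tt N17973 F232538) (tt N20299 (iv F237717)) (tt N17030 F232539) (tt N20945 (iv F240898)) (tt N17040 F232540) (tt N17028 (iv D51868)) (tt N20948 D53718) (tt N20936 (iv F240863)) (tt N17067 F232541) (tt N20949 D53719))
theorem Q19100 : ∀ i, i < 19100 → P i := stepQ 19099 Q19099 (allL N19099 (tt N17943 F232542) (tt N20943 (iv F240889)) (tt N17031 F232543) (tt N20947 (iv F240907)) (tt N17029 F232544) (tt N20949 (iv F240920)) (tt N17843 F232545) (tt N20937 (iv F240869)) (tt N20950 D53720) (tt N17028 (iv D51869)))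
theorem Q19101 : ∀ i, i < 19101 → P i := stepQ 19100 Q19100 (allL N19100 (tt N17898 F232546) (tt N20944 (iv F240892)) (tt N17032 F232547) (tt N17808 F232548) (tt N20950 (iv F240923)) (tt N17042 F232549) (tt N17844 F232550) (tt N20938 (iv F240874)) (tt N17029 (iv D51870)) (tt N17069 F232551))
theorem Q19102 : ∀ i, i < 19102 → P i := stepQ 19101 Q19101 (allL N19101 (tt N20118 (iv F236647)) (tt N20266 (iv F237530)) (tt N20948 (iv F240913)) (tt N20926 (iv F240818)) (tt N17043 F232552) (tt N17845 F232553) (tt N17030 (iv D51871)) (tt N20951 D53721) (tt N17070 F232554) (tt N20952 D53722))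
theorem Q19103 : ∀ i, i < 19103 → P i := stepQ 19102 Q19102 (allL N19102 (tt N20857 (iv F240501)) (tt N20267 (iv F237536)) (tt N20949 (iv F240918)) (tt N20927 (iv F240822)) (tt N17044 F232555) (tt N17031 F232556) (tt N20952 (iv F240931)) (tt N20940 (iv F240880)) (tt N20953 D53723) (tt N17030 (iv D51872)))
theorem Q19104 : ∀ i, i < 19104 → P i := stepQ 19103 Q19103 (allL N19103 (tt N20858 (iv F240505)) (tt N20268 (iv F237539)) (tt N20950 (iv F240922)) (tt N20954 D53724) (tt N17032 F232557) (tt N20953 (iv F240933)) (tt N17847 F232558) (tt N20941 (iv F240882)) (tt N17031 (iv D51873)) (tt N17072 F232559))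
theorem Q19105 : ∀ i, i < 19105 → P i := stepQ 19104 Q19104 (allL N19104 (tt N18023 F232560) (tt N17035 F232561) (tt N20269 (iv F237545)) (tt N17180 F232562) (tt N20315 (iv F237798)) (tt N20935 (iv F240857)) (tt N19104 F232563) (tt N17039 F232564) (tt N20955 D53725) (tt N17033 (iv D51874)))
theorem Q19106 : ∀ i, i < 19106 → P i := stepQ 19105 Q19105 (allL N19105 (tt N17974 F232565) (tt N20291 (iv F237674)) (tt N17036 F232566) (tt N18029 F232567) (tt N20936 (iv F240862)) (tt N17034 (iv D51875)) (tt N20956 D53726) (tt N17040 F232568) (tt N17076 F232569) (tt N20957 D53727))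
theorem Q19107 : ∀ i, i < 19107 → P i := stepQ 19106 Q19106 (allL N19106 (tt N17944 F232570) (tt N20315 (iv F237795)) (tt N17037 F232571) (tt N18027 F232572) (tt N17035 F232573) (tt N20957 (iv F240953)) (tt N19106 F232574) (tt N17041 F232575) (tt N20958 D53728) (tt N17034 (iv D51876)))
theorem Q19108 : ∀ i, i < 19108 → P i := stepQ 19107 Q19107 (allL N19107 (tt N17910 F232576) (tt N20955 (iv F240938)) (tt N17038 F232577) (tt N17812 F232578) (tt N20958 (iv F240957)) (tt N20938 (iv F240873)) (tt N19107 F232579) (tt N17042 F232580) (tt N17035 (iv D51877)) (tt N17078 F232581))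
theorem Q19109 : ∀ i, i < 19109 → P i := stepQ 19108 Q19108 (allL N19108 (tt N20859 (iv F240510)) (tt N20271 (iv F237557)) (tt N20956 (iv F240945)) (tt N19108 F232582) (tt N20939 (iv F240876)) (tt N19108 F232583) (tt N17036 (iv D51878)) (tt N20959 D53729) (tt N17079 F232584) (tt N20960 D53730))
theorem Q19110 : ∀ i, i < 19110 → P i := stepQ 19109 Q19109 (allL N19109 (tt N20860 (iv F240515)) (tt N20272 (iv F237564)) (tt N20957 (iv F240951)) (tt N19109 F232585) (tt N20940 (iv F240878)) (tt N17037 F232586) (tt N20960 (iv F240969)) (tt N17044 F232587) (tt N20961 D53731) (tt N17036 (iv D51879)))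
theorem Q19111 : ∀ i, i < 19111 → P i := stepQ 19110 Q19110 (allL N19110 (tt N20861 (iv F240520)) (tt N20273 (iv F237570)) (tt N20958 (iv F240956)) (tt N20962 D53732) (tt N17038 F232588) (tt N20961 (iv F240970)) (tt N19110 F232589) (tt N17045 F232590) (tt N17037 (iv D51880)) (tt N17081 F232591))
theorem Q19112 : ∀ i, i < 19112 → P i := stepQ 19111 Q19111 (allL N19111 (tt N20324 (iv F237846)) (tt N17042 F232592) (tt N20274 (iv F237578)) (tt N17814 F232593) (tt N20322 (iv F237836)) (tt N20944 (iv F240894)) (tt N17046 F232594) (tt N20955 (iv F240941)) (tt N17039 (iv D51881)) (tt N17085 F232595))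
theorem Q19113 : ∀ i, i < 19113 → P i := stepQ 19112 Q19112 (allL N19112 (tt N17353 F232596) (tt N17439 F232597) (tt N17043 F232598) (tt N17382 F232599) (tt N20948 (iv F240914)) (tt N17047 F232600) (tt N17040 (iv D51882)) (tt N20963 D53733) (tt N17086 F232601) (tt N20964 D53734))
theorem Q19114 : ∀ i, i < 19114 → P i := stepQ 19113 Q19113 (allL N19113 (tt N17945 F232602) (tt N20300 (iv F237723)) (tt N17044 F232603) (tt N18028 F232604) (tt N20949 (iv F240919)) (tt N17041 F232605) (tt N20964 (iv F240989)) (tt N20957 (iv F240954)) (tt N20965 D53735) (tt N17040 (iv D51883)))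
theorem Q19115 : ∀ i, i < 19115 → P i := stepQ 19114 Q19114 (allL N19114 (tt N17925 F232606) (tt N20322 (iv F237834)) (tt N17045 F232607) (tt N20966 D53736) (tt N17042 F232608) (tt N20965 (iv F240992)) (tt N17049 F232609) (tt N20958 (iv F240959)) (tt N17041 (iv D51884)) (tt N17088 F232610))
theorem Q19116 : ∀ i, i < 19116 → P i := stepQ 19115 Q19115 (allL N19115 (tt N20122 (iv F236670)) (tt N20278 (iv F237601)) (tt N20963 (iv F240979)) (tt N19115 F232611) (tt N20951 (iv F240926)) (tt N17050 F232612) (tt N20959 (iv F240965)) (tt N17043 (iv D51885)) (tt N17090 F232613) (tt N20967 D53737))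
theorem Q19117 : ∀ i, i < 19117 → P i := stepQ 19116 Q19116 (allL N19116 (tt N20126 (iv F236695)) (tt N20279 (iv F237608)) (tt N20964 (iv F240986)) (tt N19116 F232614) (tt N20952 (iv F240929)) (tt N17051 F232615) (tt N17044 F232616) (tt N20967 (iv F241002)) (tt N20968 D53738) (tt N17043 (iv D51886)))
theorem Q19118 : ∀ i, i < 19118 → P i := stepQ 19117 Q19117 (allL N19117 (tt N20862 (iv F240526)) (tt N20280 (iv F237613)) (tt N20965 (iv F240991)) (tt N20969 D53739) (tt N20953 (iv F240932)) (tt N17045 F232617) (tt N20968 (iv F241004)) (tt N20961 (iv F240971)) (tt N17044 (iv D51887)) (tt N17092 F232618))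
theorem Q19119 : ∀ i, i < 19119 → P i := stepQ 19118 Q19118 (allL N19118 (tt N20863 (iv F240530)) (tt N20281 (iv F237616)) (tt N20970 D53740) (tt N17045 (iv D51888)) (tt N20792 (iv F240192)) (tt N20969 (iv F241006)) (tt N17053 F232619) (tt N20962 (iv F240974)) (tt N19118 F232620) (tt N17093 F232621))
theorem Q19120 : ∀ i, i < 19120 → P i := stepQ 19119 Q19119 (allL N19119 (tt N17359 F232622) (tt N17449 F232623) (tt N17050 F232624) (tt N17389 F232625) (tt N17866 F232626) (tt N20963 (iv F240981)) (tt N19119 F232627) (tt N17047 (iv D51889)) (tt N17099 F232628) (tt N20971 D53741))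
theorem Q19121 : ∀ i, i < 19121 → P i := stepQ 19120 Q19120 (allL N19120 (tt N17365 F232629) (tt N17458 F232630) (tt N17051 F232631) (tt N17392 F232632) (tt N17867 F232633) (tt N20964 (iv F240988)) (tt N17048 F232634) (tt N20971 (iv F241020)) (tt N20972 D53742) (tt N17047 (iv D51890)))
theorem Q19122 : ∀ i, i < 19122 → P i := stepQ 19121 Q19121 (allL N19121 (tt N17371 F232635) (tt N17470 F232636) (tt N17052 F232637) (tt N20341 (iv F237939)) (tt N17868 F232638) (tt N17049 F232639) (tt N20972 (iv F241025)) (tt N19121 F232640) (tt N17048 (iv D51891)) (tt N17101 F232641))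
theorem Q19123 : ∀ i, i < 19123 → P i := stepQ 19122 Q19122 (allL N19122 (tt N17936 F232642) (tt N20334 (iv F237894)) (tt N17479 (iv F232647)) (tt N17049 (iv D51892)) (tt N17313 F232643) (tt N20341 (iv F237940)) (tt N20966 (iv F240996)) (tt N19122 F232644) (tt N17325 F232645) (tt N17102 F232646))
theorem Q19124 : ∀ i, i < 19124 → P i := stepQ 19123 Q19123 (allL N19123 (tt N20123 (iv F236676)) (tt N20284 (iv F237636)) (tt N20971 (iv F241016)) (tt N19123 F232648) (tt N17870 F232649) (tt N20967 (iv F241001)) (tt N19123 F232650) (tt N17051 F232651) (tt N20973 D53743) (tt N17050 (iv D51893)))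
theorem Q19125 : ∀ i, i < 19125 → P i := stepQ 19124 Q19124 (allL N19124 (tt N20127 (iv F236701)) (tt N20285 (iv F237643)) (tt N20972 (iv F241023)) (tt N20974 D53744) (tt N17871 F232652) (tt N20968 (iv F241003)) (tt N17052 F232653) (tt N20973 (iv F241029)) (tt N17051 (iv D51894)) (tt N17105 F232654))
theorem Q19126 : ∀ i, i < 19126 → P i := stepQ 19125 Q19125 (allL N19125 (tt N20129 (iv F236714)) (tt N20286 (iv F237649)) (tt N20975 D53745) (tt N17052 (iv D51895)) (tt N20219 (iv F237272)) (tt N17053 F232655) (tt N20974 (iv F241031)) (tt N19125 F232656) (tt N19125 F232657) (tt N17106 F232658))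
theorem Q19127 : ∀ i, i < 19127 → P i := stepQ 19126 Q19126 (allL N19126 (tt N20864 (iv F240535)) (tt N20976 D53746) (tt N17053 (iv D51896)) (tt N17479 F232659) (tt N17478 F232660) (tt N20975 (iv F241037)) (tt N20970 (iv F241011)) (tt N19126 F232661) (tt N19126 F232662) (tt N17107 F232663))
theorem Q19128 : ∀ i, i < 19128 → P i := stepQ 19127 Q19127 (allL N19127 (tt N17964 F232664) (tt N17054 (iv D51897)) (tt N20168 (iv F236939)) (tt N17120 F232665) (tt N20977 D53747) (tt N19127 F232666) (tt N17057 F232667) (tt N17189 F232668) (tt N20905 (iv F240729)) (tt N20978 D53748))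
theorem Q19129 : ∀ i, i < 19129 → P i := stepQ 19128 Q19128 (allL N19128 (tt N20865 (iv F240541)) (tt N20977 (iv F241049)) (tt N17055 F232669) (tt N20979 D53749) (tt N17054 (iv D51898)) (tt N20980 D53750) (tt N17058 F232670) (tt N17872 F232671) (tt N20929 (iv F240832)) (tt N20981 D53751))
theorem Q19130 : ∀ i, i < 19130 → P i := stepQ 19129 Q19129 (allL N19129 (tt N20866 (iv F240547)) (tt N20978 (iv F241054)) (tt N17056 F232672) (tt N17122 F232673) (tt N20981 (iv F241068)) (tt N19129 F232674) (tt N17059 F232675) (tt N17873 F232676) (tt N20982 D53752) (tt N17054 (iv D51899)))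
theorem Q19131 : ∀ i, i < 19131 → P i := stepQ 19130 Q19130 (allL N19130 (tt N20867 (iv F240554)) (tt N20288 (iv F237663)) (tt N20980 (iv F241064)) (tt N20677 (iv F239680)) (tt N19130 F232677) (tt N17055 (iv D51900)) (tt N20983 D53753) (tt N17874 F232678) (tt N20931 (iv F240841)) (tt N20984 D53754))
theorem Q19132 : ∀ i, i < 19132 → P i := stepQ 19131 Q19131 (allL N19131 (tt N20868 (iv F240557)) (tt N20289 (iv F237666)) (tt N20981 (iv F241067)) (tt N20678 (iv F239682)) (tt N17056 F232679) (tt N20984 (iv F241078)) (tt N17061 F232680) (tt N17875 F232681) (tt N20985 D53755) (tt N17055 (iv D51901)))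
theorem Q19133 : ∀ i, i < 19133 → P i := stepQ 19132 Q19132 (allL N19132 (tt N20869 (iv F240561)) (tt N20290 (iv F237670)) (tt N20982 (iv F241071)) (tt N20797 (iv F240217)) (tt N20985 (iv F241080)) (tt N19132 F232682) (tt N17062 F232683) (tt N17876 F232684) (tt N17056 (iv D51902)) (tt N20933 (iv F240848)))
theorem Q19134 : ∀ i, i < 19134 → P i := stepQ 19133 Q19133 (allL N19133 (tt N17057 (iv D51903)) (tt N17822 F232685) (tt N20291 (iv F237675)) (tt N17125 F232686) (tt N20986 D53756) (tt N17073 F232687) (tt N17964 F232688) (tt N17063 F232689) (tt N17820 F232690) (tt N20987 D53757))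
theorem Q19135 : ∀ i, i < 19135 → P i := stepQ 19134 Q19134 (allL N19134 (tt N20986 (iv F241083)) (tt N17058 F232691) (tt N20292 (iv F237682)) (tt N20988 D53758) (tt N17057 (iv D51904)) (tt N20989 D53759) (tt N20977 (iv F241051)) (tt N17064 F232692) (tt N20934 (iv F240853)) (tt N20990 D53760))
theorem Q19136 : ∀ i, i < 19136 → P i := stepQ 19135 Q19135 (allL N19135 (tt N20987 (iv F241089)) (tt N17059 F232693) (tt N20293 (iv F237687)) (tt N17127 F232694) (tt N20990 (iv F241107)) (tt N17075 F232695) (tt N20978 (iv F241057)) (tt N17065 F232696) (tt N20991 D53761) (tt N17057 (iv D51905)))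
theorem Q19137 : ∀ i, i < 19137 → P i := stepQ 19136 Q19136 (allL N19136 (tt N20870 (iv F240565)) (tt N20988 (iv F241096)) (tt N20680 (iv F239689)) (tt N17058 (iv D51906)) (tt N17128 F232697) (tt N20992 D53762) (tt N20979 (iv F241061)) (tt N17066 F232698) (tt N20993 D53763) (tt N20994 D53764))
theorem Q19138 : ∀ i, i < 19138 → P i := stepQ 19137 Q19137 (allL N19137 (tt N20871 (iv F240570)) (tt N20989 (iv F241102)) (tt N17060 F232699) (tt N20992 (iv F241112)) (tt N17076 F232700) (tt N17058 (iv D51907)) (tt N20995 D53765) (tt N17067 F232701) (tt N20936 (iv F240864)) (tt N20996 D53766))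
theorem Q19139 : ∀ i, i < 19139 → P i := stepQ 19138 Q19138 (allL N19138 (tt N20872 (iv F240576)) (tt N20990 (iv F241106)) (tt N17061 F232702) (tt N20994 (iv F241121)) (tt N17059 F232703) (tt N20996 (iv F241128)) (tt N20981 (iv F241069)) (tt N17068 F232704) (tt N20997 D53767) (tt N17058 (iv D51908)))
theorem Q19140 : ∀ i, i < 19140 → P i := stepQ 19139 Q19139 (allL N19139 (tt N20873 (iv F240581)) (tt N20991 (iv F241109)) (tt N17062 F232705) (tt N20998 D53768) (tt N20997 (iv F241131)) (tt N17078 F232706) (tt N20982 (iv F241073)) (tt N17069 F232707) (tt N17059 (iv D51909)) (tt N20938 (iv F240875)))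
theorem Q19141 : ∀ i, i < 19141 → P i := stepQ 19140 Q19140 (allL N19140 (tt N20874 (iv F240588)) (tt N20296 (iv F237702)) (tt N20995 (iv F241124)) (tt N20599 (iv F239338)) (tt N17079 F232708) (tt N20983 (iv F241076)) (tt N17060 (iv D51910)) (tt N20999 D53769) (tt N20939 (iv F240877)) (tt N21000 D53770))
theorem Q19142 : ∀ i, i < 19142 → P i := stepQ 19141 Q19141 (allL N19141 (tt N20875 (iv F240590)) (tt N20297 (iv F237707)) (tt N20996 (iv F241126)) (tt N20684 (iv F239705)) (tt N17080 F232709) (tt N17061 F232710) (tt N21000 (iv F241142)) (tt N17071 F232711) (tt N21001 D53771) (tt N17060 (iv D51911)))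
theorem Q19143 : ∀ i, i < 19143 → P i := stepQ 19142 Q19142 (allL N19142 (tt N20876 (iv F240594)) (tt N20298 (iv F237713)) (tt N20997 (iv F241130)) (tt N21002 D53772) (tt N17062 F232712) (tt N21001 (iv F241144)) (tt N20985 (iv F241081)) (tt N17072 F232713) (tt N17061 (iv D51912)) (tt N20941 (iv F240883)))
theorem Q19144 : ∀ i, i < 19144 → P i := stepQ 19143 Q19143 (allL N19143 (tt N17064 F232714) (tt N20263 (iv F237516)) (tt N20299 (iv F237718)) (tt N20929 (iv F240829)) (tt N17063 (iv D51913)) (tt N20260 (iv F237504)) (tt N17886 F232715) (tt N20986 (iv F241087)) (tt N20302 (iv F237740)) (tt N21003 D53773))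
theorem Q19145 : ∀ i, i < 19145 → P i := stepQ 19144 Q19144 (allL N19144 (tt N17065 F232716) (tt N20275 (iv F237583)) (tt N20300 (iv F237724)) (tt N17133 F232717) (tt N21003 (iv F241148)) (tt N17082 F232718) (tt N17887 F232719) (tt N20987 (iv F241094)) (tt N21004 D53774) (tt N17063 (iv D51914)))
theorem Q19146 : ∀ i, i < 19146 → P i := stepQ 19145 Q19145 (allL N19145 (tt N20929 (iv F240827)) (tt N17066 F232720) (tt N20852 (iv F240474)) (tt N17064 (iv D51915)) (tt N17134 F232721) (tt N21005 D53775) (tt N17888 F232722) (tt N20988 (iv F241100)) (tt N20865 (iv F240546)) (tt N21006 D53776))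
theorem Q19147 : ∀ i, i < 19147 → P i := stepQ 19146 Q19146 (allL N19146 (tt N20260 (iv F237501)) (tt N17067 F232723) (tt N20302 (iv F237736)) (tt N21005 (iv F241154)) (tt N17083 F232724) (tt N17064 (iv D51916)) (tt N21007 D53777) (tt N20989 (iv F241105)) (tt N20299 (iv F237721)) (tt N21008 D53778))
theorem Q19148 : ∀ i, i < 19148 → P i := stepQ 19147 Q19147 (allL N19147 (tt N21003 (iv F241147)) (tt N17068 F232725) (tt N20303 (iv F237743)) (tt N21006 (iv F241157)) (tt N17065 F232726) (tt N21008 (iv F241168)) (tt N17890 F232727) (tt N20990 (iv F241108)) (tt N21009 D53779) (tt N17064 (iv D51917)))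
theorem Q19149 : ∀ i, i < 19149 → P i := stepQ 19148 Q19148 (allL N19148 (tt N21004 (iv F241150)) (tt N17069 F232728) (tt N20304 (iv F237747)) (tt N21010 D53780) (tt N21009 (iv F241170)) (tt N17085 F232729) (tt N17891 F232730) (tt N20991 (iv F241111)) (tt N17065 (iv D51918)) (tt N20944 (iv F240896)))
theorem Q19150 : ∀ i, i < 19150 → P i := stepQ 19149 Q19149 (allL N19149 (tt N20880 (iv F240612)) (tt N21005 (iv F241153)) (tt N20692 (iv F239744)) (tt N17067 F232731) (tt N19149 F232732) (tt N17066 (iv D51919)) (tt N21011 D53781) (tt N20992 (iv F241114)) (tt N21012 D53782) (tt N21013 D53783))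
theorem Q19151 : ∀ i, i < 19151 → P i := stepQ 19150 Q19150 (allL N19150 (tt N20881 (iv F240615)) (tt N20865 (iv F240542)) (tt N20693 (iv F239747)) (tt N20946 (iv F240902)) (tt N17137 F232733) (tt N21012 (iv F241181)) (tt N17893 F232734) (tt N20993 (iv F241120)) (tt N17066 (iv D51920)) (tt N21014 D53784))
theorem Q19152 : ∀ i, i < 19152 → P i := stepQ 19151 Q19151 (allL N19151 (tt N20882 (iv F240621)) (tt N21006 (iv F241156)) (tt N20694 (iv F239750)) (tt N17068 F232735) (tt N17138 F232736) (tt N21013 (iv F241184)) (tt N17894 F232737) (tt N20994 (iv F241123)) (tt N21015 D53785) (tt N17066 (iv D51921)))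
theorem Q19153 : ∀ i, i < 19153 → P i := stepQ 19152 Q19152 (allL N19152 (tt N20140 (iv F236780)) (tt N21007 (iv F241161)) (tt N17070 F232738) (tt N21011 (iv F241177)) (tt N17086 F232739) (tt N17895 F232740) (tt N17067 (iv D51922)) (tt N21016 D53786) (tt N20948 (iv F240916)) (tt N21017 D53787))
theorem Q19154 : ∀ i, i < 19154 → P i := stepQ 19153 Q19153 (allL N19153 (tt N20883 (iv F240625)) (tt N21008 (iv F241166)) (tt N17071 F232741) (tt N21013 (iv F241182)) (tt N17087 F232742) (tt N17068 F232743) (tt N21017 (iv F241195)) (tt N20996 (iv F241129)) (tt N21018 D53788) (tt N17067 (iv D51923)))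
theorem Q19155 : ∀ i, i < 19155 → P i := stepQ 19154 Q19154 (allL N19154 (tt N20884 (iv F240629)) (tt N21009 (iv F241169)) (tt N17072 F232744) (tt N21019 D53789) (tt N17069 F232745) (tt N21018 (iv F241198)) (tt N17897 F232746) (tt N20997 (iv F241132)) (tt N17068 (iv D51924)) (tt N20950 (iv F240925)))
theorem Q19156 : ∀ i, i < 19156 → P i := stepQ 19155 Q19155 (allL N19155 (tt N17844 F232747) (tt N21010 (iv F241172)) (tt N17793 F232748) (tt N17069 (iv D51925)) (tt N21020 D53790) (tt N17089 F232749) (tt N17898 F232750) (tt N20998 (iv F241136)) (tt N17140 F232751) (tt N17808 F232752))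
theorem Q19157 : ∀ i, i < 19157 → P i := stepQ 19156 Q19156 (allL N19156 (tt N20134 (iv F236748)) (tt N20311 (iv F237782)) (tt N21016 (iv F241189)) (tt N20699 (iv F239766)) (tt N17090 F232753) (tt N17899 F232754) (tt N20999 (iv F241140)) (tt N17070 (iv D51926)) (tt N20951 (iv F240928)) (tt N21021 D53791))
theorem Q19158 : ∀ i, i < 19158 → P i := stepQ 19157 Q19157 (allL N19157 (tt N20143 (iv F236794)) (tt N20312 (iv F237785)) (tt N21017 (iv F241192)) (tt N20700 (iv F239769)) (tt N17091 F232755) (tt N17900 F232756) (tt N17071 F232757) (tt N21021 (iv F241207)) (tt N21022 D53792) (tt N17070 (iv D51927)))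
theorem Q19159 : ∀ i, i < 19159 → P i := stepQ 19158 Q19158 (allL N19158 (tt N20885 (iv F240634)) (tt N20313 (iv F237789)) (tt N21018 (iv F241196)) (tt N21023 D53793) (tt N17092 F232758) (tt N17072 F232759) (tt N21022 (iv F241210)) (tt N21001 (iv F241145)) (tt N17071 (iv D51928)) (tt N20953 (iv F240934)))
theorem Q19160 : ∀ i, i < 19160 → P i := stepQ 19159 Q19159 (allL N19159 (tt N20886 (iv F240637)) (tt N20314 (iv F237792)) (tt N21024 D53794) (tt N17072 (iv D51929)) (tt N20810 (iv F240285)) (tt N21023 (iv F241211)) (tt N17902 F232760) (tt N21002 (iv F241146)) (tt N20702 (iv F239776)) (tt N20954 (iv F240936)))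
theorem Q19161 : ∀ i, i < 19161 → P i := stepQ 19160 Q19160 (allL N19160 (tt N17075 F232761) (tt N18024 F232762) (tt N20315 (iv F237796)) (tt N17142 F232763) (tt N20269 (iv F237547)) (tt N20987 (iv F241092)) (tt N19160 F232764) (tt N17082 F232765) (tt N21025 D53795) (tt N17073 (iv D51930)))
theorem Q19162 : ∀ i, i < 19162 → P i := stepQ 19161 Q19161 (allL N19161 (tt N20254 (iv F237472)) (tt N17076 F232766) (tt N17820 F232767) (tt N19161 F232768) (tt N20989 (iv F241104)) (tt N17074 (iv D51931)) (tt N20907 (iv F240741)) (tt N17083 F232769) (tt N20291 (iv F237680)) (tt N21026 D53796))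
theorem Q19163 : ∀ i, i < 19163 → P i := stepQ 19162 Q19162 (allL N19162 (tt N20269 (iv F237543)) (tt N17077 F232770) (tt N18023 F232771) (tt N19162 F232772) (tt N17075 F232773) (tt N21026 (iv F241221)) (tt N19162 F232774) (tt N17084 F232775) (tt N21027 D53797) (tt N17074 (iv D51932)))
theorem Q19164 : ∀ i, i < 19164 → P i := stepQ 19163 Q19163 (allL N19163 (tt N21025 (iv F241213)) (tt N17078 F232776) (tt N20316 (iv F237802)) (tt N21028 D53798) (tt N21027 (iv F241225)) (tt N20991 (iv F241110)) (tt N19163 F232777) (tt N17085 F232778) (tt N17075 (iv D51933)) (tt N20955 (iv F240942)))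
theorem Q19165 : ∀ i, i < 19165 → P i := stepQ 19164 Q19164 (allL N19164 (tt N20887 (iv F240639)) (tt N20907 (iv F240738)) (tt N17079 F232779) (tt N19164 F232780) (tt N20995 (iv F241125)) (tt N19164 F232781) (tt N17076 (iv D51934)) (tt N21029 D53799) (tt N20956 (iv F240948)) (tt N21030 D53800))
theorem Q19166 : ∀ i, i < 19166 → P i := stepQ 19165 Q19165 (allL N19165 (tt N20888 (iv F240645)) (tt N21026 (iv F241218)) (tt N17080 F232782) (tt N19165 F232783) (tt N20996 (iv F241127)) (tt N17077 F232784) (tt N21030 (iv F241242)) (tt N17087 F232785) (tt N21031 D53801) (tt N17076 (iv D51935)))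
theorem Q19167 : ∀ i, i < 19167 → P i := stepQ 19166 Q19166 (allL N19166 (tt N20889 (iv F240651)) (tt N21027 (iv F241223)) (tt N17081 F232786) (tt N21032 D53802) (tt N17078 F232787) (tt N21031 (iv F241244)) (tt N19166 F232788) (tt N17088 F232789) (tt N17077 (iv D51936)) (tt N20958 (iv F240960)))
theorem Q19168 : ∀ i, i < 19168 → P i := stepQ 19167 Q19167 (allL N19167 (tt N17852 F232790) (tt N21028 (iv F241228)) (tt N17794 F232791) (tt N17078 (iv D51937)) (tt N21033 D53803) (tt N20998 (iv F241135)) (tt N19167 F232792) (tt N17089 F232793) (tt N17144 F232794) (tt N17812 F232795))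
theorem Q19169 : ∀ i, i < 19169 → P i := stepQ 19168 Q19168 (allL N19168 (tt N20148 (iv F236821)) (tt N20318 (iv F237811)) (tt N21029 (iv F241234)) (tt N17108 F232796) (tt N20999 (iv F241139)) (tt N19168 F232797) (tt N17090 F232798) (tt N17079 (iv D51938)) (tt N20959 (iv F240966)) (tt N21034 D53804))
theorem Q19170 : ∀ i, i < 19170 → P i := stepQ 19169 Q19169 (allL N19169 (tt N20890 (iv F240658)) (tt N20319 (iv F237818)) (tt N21030 (iv F241239)) (tt N17109 F232799) (tt N21000 (iv F241141)) (tt N19169 F232800) (tt N17080 F232801) (tt N21034 (iv F241258)) (tt N21035 D53805) (tt N17079 (iv D51939)))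
theorem Q19171 : ∀ i, i < 19171 → P i := stepQ 19170 Q19170 (allL N19170 (tt N20891 (iv F240662)) (tt N20320 (iv F237824)) (tt N21031 (iv F241243)) (tt N21036 D53806) (tt N21001 (iv F241143)) (tt N17081 F232802) (tt N21035 (iv F241260)) (tt N17092 F232803) (tt N17080 (iv D51940)) (tt N20961 (iv F240972)))
theorem Q19172 : ∀ i, i < 19172 → P i := stepQ 19171 Q19171 (allL N19171 (tt N20892 (iv F240665)) (tt N20321 (iv F237829)) (tt N21037 D53807) (tt N17081 (iv D51941)) (tt N20812 (iv F240291)) (tt N21036 (iv F241261)) (tt N19171 F232804) (tt N17093 F232805) (tt N17111 F232806) (tt N20962 (iv F240976)))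
theorem Q19173 : ∀ i, i < 19173 → P i := stepQ 19172 Q19172 (allL N19172 (tt N17085 F232807) (tt N20276 (iv F237590)) (tt N20322 (iv F237835)) (tt N20337 (iv F237919)) (tt N20274 (iv F237579)) (tt N21004 (iv F241151)) (tt N17094 F232808) (tt N21025 (iv F241216)) (tt N17082 (iv D51942)) (tt N20324 (iv F237853)))
theorem Q19174 : ∀ i, i < 19174 → P i := stepQ 19173 Q19173 (allL N19173 (tt N17406 F232809) (tt N17086 F232810) (tt N17838 F232811) (tt N19173 F232812) (tt N21007 (iv F241163)) (tt N17095 F232813) (tt N17083 (iv D51943)) (tt N21038 D53808) (tt N17439 F232814) (tt N21039 D53809))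
theorem Q19175 : ∀ i, i < 19175 → P i := stepQ 19174 Q19174 (allL N19174 (tt N20261 (iv F237507)) (tt N17087 F232815) (tt N20323 (iv F237841)) (tt N19174 F232816) (tt N21008 (iv F241167)) (tt N17084 F232817) (tt N21039 (iv F241280)) (tt N21026 (iv F241222)) (tt N21040 D53810) (tt N17083 (iv D51944)))
theorem Q19176 : ∀ i, i < 19176 → P i := stepQ 19175 Q19175 (allL N19175 (tt N20274 (iv F237576)) (tt N17088 F232818) (tt N20324 (iv F237848)) (tt N21041 D53811) (tt N17085 F232819) (tt N21040 (iv F241282)) (tt N17097 F232820) (tt N21027 (iv F241227)) (tt N17084 (iv D51945)) (tt N20322 (iv F237838)))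
theorem Q19177 : ∀ i, i < 19177 → P i := stepQ 19176 Q19176 (allL N19176 (tt N20337 (iv F237916)) (tt N17089 F232821) (tt N20235 (iv F237368)) (tt N17085 (iv D51946)) (tt N20762 (iv F240048)) (tt N21010 (iv F241173)) (tt N17098 F232822) (tt N21028 (iv F241230)) (tt N17146 F232823) (tt N17814 F232824))
theorem Q19178 : ∀ i, i < 19178 → P i := stepQ 19177 Q19177 (allL N19177 (tt N20145 (iv F236803)) (tt N21038 (iv F241269)) (tt N17090 F232825) (tt N19177 F232826) (tt N21016 (iv F241190)) (tt N17099 F232827) (tt N21029 (iv F241237)) (tt N17086 (iv D51947)) (tt N20963 (iv F240983)) (tt N21042 D53812))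
theorem Q19179 : ∀ i, i < 19179 → P i := stepQ 19178 Q19178 (allL N19178 (tt N20152 (iv F236843)) (tt N21039 (iv F241276)) (tt N17091 F232828) (tt N19178 F232829) (tt N21017 (iv F241193)) (tt N17100 F232830) (tt N17087 F232831) (tt N21042 (iv F241289)) (tt N21043 D53813) (tt N17086 (iv D51948)))
theorem Q19180 : ∀ i, i < 19180 → P i := stepQ 19179 Q19179 (allL N19179 (tt N20893 (iv F240669)) (tt N21040 (iv F241281)) (tt N17092 F232832) (tt N21044 D53814) (tt N21018 (iv F241197)) (tt N17088 F232833) (tt N21043 (iv F241292)) (tt N21031 (iv F241245)) (tt N17087 (iv D51949)) (tt N20965 (iv F240993)))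
theorem Q19181 : ∀ i, i < 19181 → P i := stepQ 19180 Q19180 (allL N19180 (tt N20894 (iv F240673)) (tt N21041 (iv F241283)) (tt N21045 D53815) (tt N17088 (iv D51950)) (tt N21046 D53816) (tt N21044 (iv F241293)) (tt N17102 F232834) (tt N21032 (iv F241247)) (tt N19180 F232835) (tt N20966 (iv F240998)))
theorem Q19182 : ∀ i, i < 19182 → P i := stepQ 19181 Q19181 (allL N19181 (tt N17860 F232836) (tt N20762 (iv F240046)) (tt N17297 F232837) (tt N21046 (iv F241302)) (tt N17089 (iv D51951)) (tt N21047 D53817) (tt N17103 F232838) (tt N21033 (iv F241252)) (tt N17147 F232839) (tt N17310 F232840))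
theorem Q19183 : ∀ i, i < 19183 → P i := stepQ 19182 Q19182 (allL N19182 (tt N20149 (iv F236826)) (tt N20330 (iv F237879)) (tt N21042 (iv F241286)) (tt N17112 F232841) (tt N21021 (iv F241205)) (tt N17104 F232842) (tt N21034 (iv F241257)) (tt N17091 F232843) (tt N21048 D53818) (tt N17090 (iv D51952)))
theorem Q19184 : ∀ i, i < 19184 → P i := stepQ 19183 Q19183 (allL N19183 (tt N20155 (iv F236859)) (tt N20331 (iv F237883)) (tt N21043 (iv F241290)) (tt N21049 D53819) (tt N21022 (iv F241208)) (tt N17105 F232844) (tt N17092 F232845) (tt N21048 (iv F241311)) (tt N17091 (iv D51953)) (tt N20968 (iv F241005)))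
theorem Q19185 : ∀ i, i < 19185 → P i := stepQ 19184 Q19184 (allL N19184 (tt N20895 (iv F240678)) (tt N20332 (iv F237886)) (tt N21050 D53820) (tt N17092 (iv D51954)) (tt N21051 D53821) (tt N17093 F232846) (tt N21049 (iv F241313)) (tt N21036 (iv F241262)) (tt N17114 F232847) (tt N20969 (iv F241008)))
theorem Q19186 : ∀ i, i < 19186 → P i := stepQ 19185 Q19185 (allL N19185 (tt N20896 (iv F240681)) (tt N21052 D53822) (tt N17093 (iv D51955)) (tt N21045 (iv F241295)) (tt N20817 (iv F240313)) (tt N21050 (iv F241315)) (tt N17107 F232848) (tt N21037 (iv F241266)) (tt N17115 F232849) (tt N20970 (iv F241013)))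
theorem Q19187 : ∀ i, i < 19187 → P i := stepQ 19186 Q19186 (allL N19186 (tt N17412 F232850) (tt N17099 F232851) (tt N17848 F232852) (tt N19186 F232853) (tt N17929 F232854) (tt N21038 (iv F241272)) (tt N19186 F232855) (tt N17095 (iv D51956)) (tt N17449 F232856) (tt N21053 D53823))
theorem Q19188 : ∀ i, i < 19188 → P i := stepQ 19187 Q19187 (allL N19187 (tt N17416 F232857) (tt N17100 F232858) (tt N17854 F232859) (tt N19187 F232860) (tt N17930 F232861) (tt N21039 (iv F241279)) (tt N17096 F232862) (tt N21053 (iv F241326)) (tt N21054 D53824) (tt N17095 (iv D51957)))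
theorem Q19189 : ∀ i, i < 19189 → P i := stepQ 19188 Q19188 (allL N19188 (tt N17424 F232863) (tt N17101 F232864) (tt N17864 F232865) (tt N20287 (iv F237657)) (tt N17931 F232866) (tt N17097 F232867) (tt N21054 (iv F241331)) (tt N19188 F232868) (tt N17096 (iv D51958)) (tt N17470 F232869))
theorem Q19190 : ∀ i, i < 19190 → P i := stepQ 19189 Q19189 (allL N19189 (tt N20282 (iv F237620)) (tt N17102 F232870) (tt N20286 (iv F237650)) (tt N17097 (iv D51959)) (tt N20763 (iv F240054)) (tt N20287 (iv F237658)) (tt N21041 (iv F241284)) (tt N19189 F232871) (tt N19189 F232872) (tt N20334 (iv F237900)))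
theorem Q19191 : ∀ i, i < 19191 → P i := stepQ 19190 Q19190 (allL N19190 (tt N20146 (iv F236809)) (tt N21053 (iv F241321)) (tt N17104 F232873) (tt N19190 F232874) (tt N17933 F232875) (tt N21042 (iv F241288)) (tt N19190 F232876) (tt N17100 F232877) (tt N21055 D53825) (tt N17099 (iv D51960)))
theorem Q19192 : ∀ i, i < 19192 → P i := stepQ 19191 Q19191 (allL N19191 (tt N20153 (iv F236849)) (tt N21054 (iv F241328)) (tt N17105 F232878) (tt N21056 D53826) (tt N17934 F232879) (tt N21043 (iv F241291)) (tt N17101 F232880) (tt N21055 (iv F241336)) (tt N17100 (iv D51961)) (tt N20972 (iv F241026)))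
theorem Q19193 : ∀ i, i < 19193 → P i := stepQ 19192 Q19192 (allL N19192 (tt N20158 (iv F236876)) (tt N20287 F237662) (tt N20976 (iv F241041)) (tt N17101 (iv D51962)) (tt N21057 D53827) (tt N17102 F232881) (tt N21056 (iv F241337)) (tt N19192 F232882) (tt N19192 F232883) (tt N20341 (iv F237943)))
theorem Q19194 : ∀ i, i < 19194 → P i := stepQ 19193 Q19193 (allL N19193 (tt N20897 (iv F240684)) (tt N20975 (iv F241034)) (tt N17102 (iv D51963)) (tt N17107 F232884) (tt N17426 (iv F232888)) (tt N20976 (iv F241044)) (tt N21045 (iv F241296)) (tt N19193 F232885) (tt N19193 F232886) (tt N17479 F232887))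
theorem Q19195 : ∀ i, i < 19195 → P i := stepQ 19194 Q19194 (allL N19194 (tt N17869 F232889) (tt N20763 (iv F240052)) (tt N17426 F232890) (tt N17103 F232891) (tt N17102 (iv D51964)) (tt N20128 (iv F236710)) (tt N21046 (iv F241303)) (tt N19194 F232892) (tt N19194 F232893) (tt N17313 F232894))
theorem Q19196 : ∀ i, i < 19196 → P i := stepQ 19195 Q19195 (allL N19195 (tt N20150 (iv F236831)) (tt N20339 (iv F237930)) (tt N21055 (iv F241333)) (tt N21058 D53828) (tt N17937 F232895) (tt N21048 (iv F241310)) (tt N19195 F232896) (tt N17105 F232897) (tt N17104 (iv D51965)) (tt N20973 (iv F241030)))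
theorem Q19197 : ∀ i, i < 19197 → P i := stepQ 19196 Q19196 (allL N19196 (tt N20156 (iv F236863)) (tt N20340 (iv F237934)) (tt N21059 D53829) (tt N17105 (iv D51966)) (tt N20233 (iv F237355)) (tt N21049 (iv F241312)) (tt N17106 F232898) (tt N21058 (iv F241345)) (tt N17117 F232899) (tt N20974 (iv F241033)))
theorem Q19198 : ∀ i, i < 19198 → P i := stepQ 19197 Q19197 (allL N19197 (tt N20160 (iv F236887)) (tt N17479 (iv F232904)) (tt N17106 (iv D51967)) (tt N20976 (iv F241042)) (tt N17474 F232900) (tt N17107 F232901) (tt N21059 (iv F241348)) (tt N19197 F232902) (tt N17118 F232903) (tt N20975 (iv F241040)))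
theorem Q19199 : ∀ i, i < 19199 → P i := stepQ 19198 Q19198 (allL N19198 (tt N21060 D53830) (tt N17107 (iv D51968)) (tt N20341 (iv F237938)) (tt N20975 (iv F241035)) (tt N20338 (iv F237926)) (tt N17479 F232905) (tt N21052 (iv F241318)) (tt N19198 F232906) (tt N17119 F232907) (tt N20976 (iv F241047)))
theorem Q19200 : ∀ i, i < 19200 → P i := stepQ 19199 Q19199 (allL N19199 (tt N20161 (iv F236892)) (tt N20342 (iv F237945)) (tt N19199 F232908) (tt N21034 (iv F241255)) (tt N20626 (iv F239452)) (tt N19199 F232909) (tt N17112 F232910) (tt N17109 F232911) (tt N21061 D53831) (tt N17108 (iv D51969)))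
theorem Q19201 : ∀ i, i < 19201 → P i := stepQ 19200 Q19200 (allL N19200 (tt N20898 (iv F240690)) (tt N20343 (iv F237952)) (tt N19200 F232912) (tt N21062 D53832) (tt N20629 (iv F239473)) (tt N19200 F232913) (tt N17110 F232914) (tt N21061 (iv F241361)) (tt N17109 (iv D51970)) (tt N19200 F232915))
theorem Q19202 : ∀ i, i < 19202 → P i := stepQ 19201 Q19201 (allL N19201 (tt N20899 (iv F240695)) (tt N20344 (iv F237959)) (tt N21063 D53833) (tt N17110 (iv D51971)) (tt N21064 D53834) (tt N17111 F232916) (tt N21062 (iv F241364)) (tt N17114 F232917) (tt N21036 (iv F241263)) (tt N19201 F232918))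
theorem Q19203 : ∀ i, i < 19203 → P i := stepQ 19202 Q19202 (allL N19202 (tt N20900 (iv F240699)) (tt N21065 D53835) (tt N17111 (iv D51972)) (tt N19202 F232919) (tt N18077 F232920) (tt N21063 (iv F241367)) (tt N19202 F232921) (tt N17115 F232922) (tt N21037 (iv F241267)) (tt N19202 F232923))
theorem Q19204 : ∀ i, i < 19204 → P i := stepQ 19203 Q19203 (allL N19203 (tt N20162 (iv F236899)) (tt N20346 (iv F237968)) (tt N19203 F232924) (tt N21066 D53836) (tt N18002 F232925) (tt N17116 F232926) (tt N21061 (iv F241360)) (tt N17113 F232927) (tt N17112 (iv D51973)) (tt N19203 F232928))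
theorem Q19205 : ∀ i, i < 19205 → P i := stepQ 19204 Q19204 (allL N19204 (tt N20164 (iv F236912)) (tt N20347 (iv F237973)) (tt N21067 D53837) (tt N17113 (iv D51974)) (tt N21068 D53838) (tt N17117 F232929) (tt N17114 F232930) (tt N21066 (iv F241378)) (tt N21049 (iv F241314)) (tt N19204 F232931))
theorem Q19206 : ∀ i, i < 19206 → P i := stepQ 19205 Q19205 (allL N19205 (tt N20901 (iv F240705)) (tt N21069 D53839) (tt N17114 (iv D51975)) (tt N19205 F232932) (tt N21070 D53840) (tt N17115 F232933) (tt N21067 (iv F241382)) (tt N21063 (iv F241368)) (tt N21050 (iv F241316)) (tt N19205 F232934))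
theorem Q19207 : ∀ i, i < 19207 → P i := stepQ 19206 Q19206 (allL N19206 (tt N20902 (iv F240709)) (tt N20349 (iv F237981)) (tt N21070 (iv F241391)) (tt N20732 (iv F239884)) (tt N17114 (iv D51976)) (tt N20825 (iv F240351)) (tt N21068 (iv F241385)) (tt N21064 (iv F241370)) (tt N21051 (iv F241317)) (tt N19206 F232935))
theorem Q19208 : ∀ i, i < 19208 → P i := stepQ 19207 Q19207 (allL N19207 (tt N21071 D53841) (tt N17115 (iv D51977)) (tt N20350 (iv F237984)) (tt N19207 F232936) (tt N20372 (iv F238107)) (tt N21069 (iv F241388)) (tt N17119 F232937) (tt N21065 (iv F241375)) (tt N21052 (iv F241319)) (tt N19207 F232938))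
theorem Q19209 : ∀ i, i < 19209 → P i := stepQ 19208 Q19208 (allL N19208 (tt N20163 (iv F236906)) (tt N20351 (iv F237988)) (tt N21072 D53842) (tt N17116 (iv D51978)) (tt N17998 F232939) (tt N21066 (iv F241377)) (tt N19208 F232940) (tt N17117 F232941) (tt N21058 (iv F241346)) (tt N19208 F232942))
theorem Q19210 : ∀ i, i < 19210 → P i := stepQ 19209 Q19209 (allL N19209 (tt N20165 (iv F236917)) (tt N17503 (iv F232947)) (tt N17117 (iv D51979)) (tt N19209 F232943) (tt N17502 F232944) (tt N21067 (iv F241381)) (tt N17118 F232945) (tt N21072 (iv F241402)) (tt N21059 (iv F241349)) (tt N19209 F232946))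
theorem Q19211 : ∀ i, i < 19211 → P i := stepQ 19210 Q19210 (allL N19210 (tt N17119 (iv D51980)) (tt N18064 F232948) (tt N17396 F232949) (tt N19210 F232950) (tt N18063 F232951) (tt N17397 F232952) (tt N21071 (iv F241397)) (tt N19210 F232953) (tt N21060 (iv F241356)) (tt N19210 F232954))
theorem Q19212 : ∀ i, i < 19212 → P i := stepQ 19211 Q19211 (allL N19211 (tt N17965 F232955) (tt N17122 F232956) (tt N17131 F232957) (tt N20978 (iv F241055)) (tt N17130 F232958) (tt N19211 F232959) (tt N17127 F232960) (tt N17139 F232961) (tt N17129 F232962) (tt N17120 (iv D51981)))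
theorem Q19213 : ∀ i, i < 19213 → P i := stepQ 19212 Q19212 (allL N19212 (tt N20326 (iv F237857)) (tt N17184 F232963) (tt N20230 (iv F237338)) (tt N17121 (iv D51982)) (tt N20979 (iv F241060)) (tt N17193 F232964) (tt N17128 F232965) (tt N17186 F232966) (tt N17798 F232967) (tt N21073 D53843))
theorem Q19214 : ∀ i, i < 19214 → P i := stepQ 19213 Q19213 (allL N19213 (tt N20903 (iv F240711)) (tt N17130 F232968) (tt N17123 F232969) (tt N21073 (iv F241406)) (tt N17122 F232970) (tt N17143 F232971) (tt N17129 F232972) (tt N17136 F232973) (tt N17127 F232974) (tt N17121 (iv D51983)))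
theorem Q19215 : ∀ i, i < 19215 → P i := stepQ 19214 Q19214 (allL N19214 (tt N17962 F232975) (tt N17129 F232976) (tt N17124 F232977) (tt N21074 D53844) (tt N17127 F232978) (tt N19214 F232979) (tt N17130 F232980) (tt N17135 F232981) (tt N17122 (iv D51984)) (tt N17126 F232982))
theorem Q19216 : ∀ i, i < 19216 → P i := stepQ 19215 Q19215 (allL N19215 (tt N17127 F232983) (tt N17949 F232984) (tt N17148 F232985) (tt N20987 (iv F241091)) (tt N17962 F232986) (tt N17142 F232987) (tt N17965 F232988) (tt N17133 F232989) (tt N20903 (iv F240718)) (tt N17125 (iv D51985)))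
theorem Q19217 : ∀ i, i < 19217 → P i := stepQ 19216 Q19216 (allL N19216 (tt N17830 F232990) (tt N17128 F232991) (tt N17781 F232992) (tt N17126 (iv D51986)) (tt N20988 (iv F241098)) (tt N19216 F232993) (tt N17184 F232994) (tt N17134 F232995) (tt N17795 F232996) (tt N21074 (iv F241416)))
theorem Q19218 : ∀ i, i < 19218 → P i := stepQ 19217 Q19217 (allL N19217 (tt N17967 F232997) (tt N17795 F232998) (tt N20735 (iv F239898)) (tt N17183 F232999) (tt N20993 (iv F241118)) (tt N19217 F233000) (tt N17798 F233001) (tt N17137 F233002) (tt N17128 (iv D51987)) (tt N21075 D53845))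
theorem Q19219 : ∀ i, i < 19219 → P i := stepQ 19218 Q19218 (allL N19218 (tt N20904 (iv F240719)) (tt N21074 (iv F241411)) (tt N20736 (iv F239904)) (tt N17129 F233003) (tt N20994 (iv F241122)) (tt N19218 F233004) (tt N21073 (iv F241408)) (tt N17138 F233005) (tt N21076 D53846) (tt N17128 (iv D51988)))
theorem Q19220 : ∀ i, i < 19220 → P i := stepQ 19219 Q19219 (allL N19219 (tt N17835 F233006) (tt N21073 (iv F241405)) (tt N17791 F233007) (tt N17130 (iv D51989)) (tt N21077 D53847) (tt N17144 F233008) (tt N21074 (iv F241414)) (tt N17140 F233009) (tt N20998 (iv F241137)) (tt N17184 F233010))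
theorem Q19221 : ∀ i, i < 19221 → P i := stepQ 19220 Q19220 (allL N19220 (tt N17135 F233011) (tt N20906 (iv F240731)) (tt N17149 F233012) (tt N20930 (iv F240835)) (tt N17133 F233013) (tt N19220 F233014) (tt N17174 F233015) (tt N17962 F233016) (tt N17816 F233017) (tt N17132 (iv D51990)))
theorem Q19222 : ∀ i, i < 19222 → P i := stepQ 19221 Q19221 (allL N19221 (tt N17136 F233018) (tt N17966 F233019) (tt N17150 F233020) (tt N20327 (iv F237867)) (tt N17816 F233021) (tt N17145 F233022) (tt N17818 F233023) (tt N20903 (iv F240717)) (tt N17133 (iv D51991)) (tt N17185 F233024))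
theorem Q19223 : ∀ i, i < 19223 → P i := stepQ 19222 Q19222 (allL N19222 (tt N20930 (iv F240833)) (tt N17138 F233025) (tt N20853 (iv F240481)) (tt N17135 F233026) (tt N21006 (iv F241158)) (tt N19222 F233027) (tt N17940 F233028) (tt N21074 (iv F241415)) (tt N21078 D53848) (tt N17134 (iv D51992)))
theorem Q19224 : ∀ i, i < 19224 → P i := stepQ 19223 Q19223 (allL N19223 (tt N20327 (iv F237864)) (tt N17140 F233029) (tt N20231 (iv F237345)) (tt N17136 (iv D51993)) (tt N21079 D53849) (tt N17146 F233030) (tt N17939 F233031) (tt N21073 (iv F241409)) (tt N21010 (iv F241175)) (tt N17186 F233032))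
theorem Q19225 : ∀ i, i < 19225 → P i := stepQ 19224 Q19224 (allL N19224 (tt N20909 (iv F240749)) (tt N20866 (iv F240548)) (tt N20746 (iv F239962)) (tt N17187 F233033) (tt N21014 (iv F241185)) (tt N19224 F233034) (tt N17941 F233035) (tt N21075 (iv F241422)) (tt N21080 D53850) (tt N17137 (iv D51994)))
theorem Q19226 : ∀ i, i < 19226 → P i := stepQ 19225 Q19225 (allL N19225 (tt N20910 (iv F240755)) (tt N21078 (iv F241429)) (tt N20747 (iv F239966)) (tt N21081 D53851) (tt N21015 (iv F241187)) (tt N19225 F233036) (tt N17942 F233037) (tt N21076 (iv F241424)) (tt N17138 (iv D51995)) (tt N21080 (iv F241439)))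
theorem Q19227 : ∀ i, i < 19227 → P i := stepQ 19226 Q19226 (allL N19226 (tt N17970 F233038) (tt N17873 F233039) (tt N21082 D53852) (tt N17139 (iv D51996)) (tt N21083 D53853) (tt N19226 F233040) (tt N17878 F233041) (tt N20978 (iv F241058)) (tt N21081 (iv F241444)) (tt N17189 F233042))
theorem Q19228 : ∀ i, i < 19228 → P i := stepQ 19227 Q19227 (allL N19227 (tt N17843 F233043) (tt N21079 (iv F241433)) (tt N17792 F233044) (tt N21083 (iv F241453)) (tt N17140 (iv D51997)) (tt N21084 D53854) (tt N17943 F233045) (tt N21077 (iv F241427)) (tt N21020 (iv F241203)) (tt N17190 F233046))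
theorem Q19229 : ∀ i, i < 19229 → P i := stepQ 19228 Q19228 (allL N19228 (tt N17959 F233047) (tt N17483 F233048) (tt N17141 (iv D51998)) (tt N21082 (iv F241447)) (tt N17947 F233049) (tt N19228 F233050) (tt N17485 F233051) (tt N20169 (iv F236949)) (tt N20750 (iv F239979)) (tt N17191 F233052))
theorem Q19230 : ∀ i, i < 19230 → P i := stepQ 19229 Q19229 (allL N19229 (tt N17143 F233053) (tt N17971 F233054) (tt N17153 F233055) (tt N20336 (iv F237912)) (tt N19229 F233056) (tt N20903 (iv F240715)) (tt N19229 F233057) (tt N17145 F233058) (tt N17142 (iv D51999)) (tt N17192 F233059))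
theorem Q19231 : ∀ i, i < 19231 → P i := stepQ 19230 Q19230 (allL N19230 (tt N20336 (iv F237909)) (tt N17144 F233060) (tt N20234 (iv F237361)) (tt N17143 (iv D52000)) (tt N20760 (iv F240036)) (tt N21073 (iv F241407)) (tt N19230 F233061) (tt N17146 F233062) (tt N21028 (iv F241231)) (tt N17193 F233063))
theorem Q19232 : ∀ i, i < 19232 → P i := stepQ 19231 Q19231 (allL N19231 (tt N17851 F233064) (tt N20760 (iv F240033)) (tt N17296 F233065) (tt N19231 F233066) (tt N17144 (iv D52001)) (tt N20363 (iv F238063)) (tt N19231 F233067) (tt N17147 F233068) (tt N21033 (iv F241253)) (tt N17194 F233069))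
theorem Q19233 : ∀ i, i < 19233 → P i := stepQ 19232 Q19232 (allL N19232 (tt N17859 F233070) (tt N20757 (iv F240017)) (tt N17295 F233071) (tt N19232 F233072) (tt N21084 (iv F241458)) (tt N17147 (iv D52002)) (tt N20117 (iv F236646)) (tt N20363 (iv F238065)) (tt N21047 (iv F241308)) (tt N17195 F233073))
theorem Q19234 : ∀ i, i < 19234 → P i := stepQ 19233 Q19233 (allL N19233 (tt N17716 F233074) (tt N19233 F233075) (tt N20181 (iv F237026)) (tt N17714 F233076) (tt N17158 F233077) (tt N17786 F233078) (tt N17156 F233079) (tt N17785 F233080) (tt N17165 F233081) (tt N17155 (iv D52003)))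
theorem Q19235 : ∀ i, i < 19235 → P i := stepQ 19234 Q19234 (allL N19234 (tt N17603 F233082) (tt N19234 F233083) (tt N20820 (iv F240327)) (tt N17172 F233084) (tt N17568 F233085) (tt N19234 F233086) (tt N17946 F233087) (tt N20752 (iv F239989)) (tt N17157 (iv D52004)) (tt N19234 F233088))
theorem Q19236 : ∀ i, i < 19236 → P i := stepQ 19235 Q19235 (allL N19235 (tt N17170 F233089) (tt N17487 F233090) (tt N17161 F233091) (tt N20848 (iv F240457)) (tt N17485 F233092) (tt N19235 F233093) (tt N17947 F233094) (tt N17492 F233095) (tt N21085 D53855) (tt N17160 (iv D52005)))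
theorem Q19237 : ∀ i, i < 19237 → P i := stepQ 19236 Q19236 (allL N19236 (tt N17172 F233096) (tt N17505 F233097) (tt N21085 (iv F241462)) (tt N17603 F233098) (tt N17504 F233099) (tt N19236 F233100) (tt N17948 F233101) (tt N17507 F233102) (tt N17161 (iv D52006)) (tt N19236 F233103))
theorem Q19238 : ∀ i, i < 19238 → P i := stepQ 19237 Q19237 (allL N19237 (tt N17187 F233104) (tt N17965 F233105) (tt N19237 F233106) (tt N20909 (iv F240751)) (tt N17963 F233107) (tt N19237 F233108) (tt N17949 F233109) (tt N17968 F233110) (tt N17972 F233111) (tt N17164 (iv D52007)))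
theorem Q19239 : ∀ i, i < 19239 → P i := stepQ 19238 Q19238 (allL N19238 (tt N17383 F233112) (tt N17166 (iv D52008)) (tt N19238 F233113) (tt N20913 (iv F240772)) (tt N17382 F233114) (tt N19238 F233115) (tt N18045 F233116) (tt N17168 F233117) (tt N19238 F233118) (tt N21086 D53856))
theorem Q19240 : ∀ i, i < 19240 → P i := stepQ 19239 Q19239 (allL N19239 (tt N17492 F233119) (tt N21086 (iv F241469)) (tt N17167 F233120) (tt N20915 (iv F240782)) (tt N17490 F233121) (tt N19239 F233122) (tt N20357 (iv F238028)) (tt N17170 F233123) (tt N21087 D53857) (tt N17166 (iv D52009)))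
theorem Q19241 : ∀ i, i < 19241 → P i := stepQ 19240 Q19240 (allL N19240 (tt N17507 F233124) (tt N19240 F233125) (tt N21087 (iv F241476)) (tt N20752 (iv F239985)) (tt N17506 F233126) (tt N19240 F233127) (tt N20375 (iv F238129)) (tt N17172 F233128) (tt N17167 (iv D52010)) (tt N19240 F233129))
theorem Q19242 : ∀ i, i < 19242 → P i := stepQ 19241 Q19241 (allL N19241 (tt N17168 (iv D52011)) (tt N17378 F233130) (tt N19241 F233131) (tt N20919 (iv F240794)) (tt N17377 (iv F233136)) (tt N19241 F233132) (tt N17955 F233133) (tt N17383 F233134) (tt N19241 F233135) (tt N21088 D53858))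
theorem Q19243 : ∀ i, i < 19243 → P i := stepQ 19242 Q19242 (allL N19242 (tt N17377 F233137) (tt N17169 F233138) (tt N19242 F233139) (tt N20963 (iv F240980)) (tt N17168 (iv D52012)) (tt N17389 (iv F233143)) (tt N17956 F233140) (tt N17382 F233141) (tt N19242 F233142) (tt N21089 D53859))
theorem Q19244 : ∀ i, i < 19244 → P i := stepQ 19243 Q19243 (allL N19243 (tt N21088 (iv F241481)) (tt N17170 F233144) (tt N19243 F233145) (tt N20921 (iv F240801)) (tt N21089 (iv F241491)) (tt N19243 F233146) (tt N17957 F233147) (tt N21086 (iv F241474)) (tt N21090 D53860) (tt N17168 (iv D52013)))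
theorem Q19245 : ∀ i, i < 19245 → P i := stepQ 19244 Q19244 (allL N19244 (tt N17433 F233148) (tt N20963 (iv F240978)) (tt N17178 F233149) (tt N17169 (iv D52014)) (tt N20922 (iv F240806)) (tt N17449 F233150) (tt N17958 F233151) (tt N17439 F233152) (tt N21038 (iv F241274)) (tt N21091 D53861))
theorem Q19246 : ∀ i, i < 19246 → P i := stepQ 19245 Q19245 (allL N19245 (tt N17485 F233153) (tt N21089 (iv F241489)) (tt N17171 F233154) (tt N21091 (iv F241502)) (tt N17170 F233155) (tt N17498 F233156) (tt N17959 F233157) (tt N17490 F233158) (tt N21092 D53862) (tt N17169 (iv D52015)))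
theorem Q19247 : ∀ i, i < 19247 → P i := stepQ 19246 Q19246 (allL N19246 (tt N21085 (iv F241460)) (tt N21090 (iv F241495)) (tt N17172 F233159) (tt N21093 D53863) (tt N21092 (iv F241508)) (tt N19246 F233160) (tt N17960 F233161) (tt N21087 (iv F241479)) (tt N17170 (iv D52016)) (tt N19246 F233162))
theorem Q19248 : ∀ i, i < 19248 → P i := stepQ 19247 Q19247 (allL N19247 (tt N17504 F233163) (tt N19247 F233164) (tt N21092 (iv F241507)) (tt N17631 F233165) (tt N17172 F233166) (tt N17509 F233167) (tt N17961 F233168) (tt N17506 F233169) (tt N17171 (iv D52017)) (tt N19247 F233170))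
theorem Q19249 : ∀ i, i < 19249 → P i := stepQ 19248 Q19248 (allL N19248 (tt N17821 F233171) (tt N17174 F233172) (tt N19248 F233173) (tt N20935 (iv F240856)) (tt N17819 F233174) (tt N17180 F233175) (tt N20906 (iv F240735)) (tt N17177 F233176) (tt N17817 F233177) (tt N17173 (iv D52018)))
theorem Q19250 : ∀ i, i < 19250 → P i := stepQ 19249 Q19249 (allL N19249 (tt N17177 F233178) (tt N17818 F233179) (tt N19249 F233180) (tt N20323 (iv F237842)) (tt N17817 F233181) (tt N17181 F233182) (tt N17966 F233183) (tt N17821 F233184) (tt N17819 F233185) (tt N17175 (iv D52019)))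
theorem Q19251 : ∀ i, i < 19251 → P i := stepQ 19250 Q19250 (allL N19250 (tt N17798 F233186) (tt N17178 F233187) (tt N20278 (iv F237602)) (tt N17176 (iv D52020)) (tt N20942 (iv F240886)) (tt N17810 F233188) (tt N17967 F233189) (tt N17803 F233190) (tt N20326 (iv F237863)) (tt N21094 D53864))
theorem Q19252 : ∀ i, i < 19252 → P i := stepQ 19251 Q19251 (allL N19251 (tt N17817 F233191) (tt N17179 F233192) (tt N19251 F233193) (tt N21094 (iv F241518)) (tt N17177 F233194) (tt N17824 F233195) (tt N17968 F233196) (tt N17819 F233197) (tt N17821 F233198) (tt N17176 (iv D52021)))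
theorem Q19253 : ∀ i, i < 19253 → P i := stepQ 19252 Q19252 (allL N19252 (tt N17833 F233199) (tt N20326 (iv F237858)) (tt N21038 (iv F241270)) (tt N17182 F233200) (tt N20946 (iv F240903)) (tt N17848 F233201) (tt N17969 F233202) (tt N17838 F233203) (tt N17178 (iv D52022)) (tt N21095 D53865))
theorem Q19254 : ∀ i, i < 19254 → P i := stepQ 19253 Q19253 (allL N19253 (tt N17878 F233204) (tt N21094 (iv F241517)) (tt N21091 (iv F241501)) (tt N17179 F233205) (tt N20947 (iv F240908)) (tt N17904 F233206) (tt N17970 F233207) (tt N17887 F233208) (tt N21096 D53866) (tt N17178 (iv D52023)))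
theorem Q19255 : ∀ i, i < 19255 → P i := stepQ 19254 Q19254 (allL N19254 (tt N17963 F233209) (tt N20903 (iv F240712)) (tt N19254 F233210) (tt N21095 (iv F241523)) (tt N17187 F233211) (tt N17971 F233212) (tt N17972 F233213) (tt N17966 F233214) (tt N17949 F233215) (tt N17182 (iv D52024)))
theorem Q19256 : ∀ i, i < 19256 → P i := stepQ 19255 Q19255 (allL N19255 (tt N17968 F233216) (tt N17816 F233217) (tt N19255 F233218) (tt N21075 (iv F241419)) (tt N17966 F233219) (tt N19255 F233220) (tt N17817 F233221) (tt N17187 F233222) (tt N20906 (iv F240737)) (tt N17183 (iv D52025)))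
theorem Q19257 : ∀ i, i < 19257 → P i := stepQ 19256 Q19256 (allL N19256 (tt N17834 F233223) (tt N20979 (iv F241059)) (tt N17790 F233224) (tt N20977 (iv F241050)) (tt N17184 (iv D52026)) (tt N20305 (iv F237753)) (tt N20988 (iv F241099)) (tt N17190 F233225) (tt N17799 F233226) (tt N21077 (iv F241428)))
theorem Q19258 : ∀ i, i < 19258 → P i := stepQ 19257 Q19257 (allL N19257 (tt N20307 (iv F237763)) (tt N17190 F233227) (tt N20226 (iv F237315)) (tt N17872 F233228) (tt N17186 (iv D52027)) (tt N20756 (iv F240012)) (tt N17879 F233229) (tt N20979 (iv F241062)) (tt N17804 F233230) (tt N21079 (iv F241436)))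
theorem Q19259 : ∀ i, i < 19259 → P i := stepQ 19258 Q19258 (allL N19258 (tt N17972 F233231) (tt N17962 F233232) (tt N19258 F233233) (tt N21097 D53867) (tt N17949 F233234) (tt N19258 F233235) (tt N17963 F233236) (tt N20906 (iv F240736)) (tt N17187 (iv D52028)) (tt N17188 F233237))
theorem Q19260 : ∀ i, i < 19260 → P i := stepQ 19259 Q19259 (allL N19259 (tt N17969 F233238) (tt N17830 F233239) (tt N21098 D53868) (tt N17188 (iv D52029)) (tt N21099 D53869) (tt N19259 F233240) (tt N17833 F233241) (tt N20905 (iv F240728)) (tt N17189 F233242) (tt N21097 (iv F241536)))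
theorem Q19261 : ∀ i, i < 19261 → P i := stepQ 19260 Q19260 (allL N19260 (tt N17958 F233243) (tt N17430 F233244) (tt N17189 (iv D52030)) (tt N17191 F233245) (tt N21100 D53870) (tt N19260 F233246) (tt N17433 F233247) (tt N20168 (iv F236942)) (tt N21098 (iv F241542)) (tt N21082 (iv F241450)))
theorem Q19262 : ∀ i, i < 19262 → P i := stepQ 19261 Q19261 (allL N19261 (tt N17841 F233248) (tt N17872 F233249) (tt N21100 (iv F241550)) (tt N17190 F233250) (tt N17189 (iv D52031)) (tt N21101 D53871) (tt N17877 F233251) (tt N20977 (iv F241052)) (tt N21099 (iv F241547)) (tt N21083 (iv F241455)))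
theorem Q19263 : ∀ i, i < 19263 → P i := stepQ 19262 Q19262 (allL N19262 (tt N17842 F233252) (tt N20756 (iv F240010)) (tt N17294 F233253) (tt N21101 (iv F241555)) (tt N17195 F233254) (tt N17190 (iv D52032)) (tt N20116 (iv F236639)) (tt N20305 (iv F237755)) (tt N17301 F233255) (tt N21084 (iv F241459)))
theorem Q19264 : ∀ i, i < 19264 → P i := stepQ 19263 Q19263 (allL N19263 (tt N17204 F233256) (tt N17517 F233257) (tt N20019 (iv F235997)) (tt N17201 F233258) (tt N17524 F233259) (tt N20011 (iv F235938)) (tt N17200 F233260) (tt N17216 F233261) (tt N17196 (iv D52033)) (tt N17197 F233262))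
theorem Q19265 : ∀ i, i < 19265 → P i := stepQ 19264 Q19264 (allL N19264 (tt N17521 F233263) (tt N17200 F233264) (tt N20431 (iv F238478)) (tt N17211 F233265) (tt N17513 F233266) (tt N20018 (iv F235991)) (tt N17517 F233267) (tt N17225 F233268) (tt N17198 (iv D52034)) (tt N17518 F233269))
theorem Q19266 : ∀ i, i < 19266 → P i := stepQ 19265 Q19265 (allL N19265 (tt N17211 F233270) (tt N17513 F233271) (tt N20020 (iv F236006)) (tt N17521 F233272) (tt N17200 F233273) (tt N20377 (iv F238145)) (tt N17524 F233274) (tt N17231 F233275) (tt N17199 (iv D52035)) (tt N17526 F233276))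
theorem Q19267 : ∀ i, i < 19267 → P i := stepQ 19266 Q19266 (allL N19266 (tt N20011 (iv F235934)) (tt N17534 F233277) (tt N20013 (iv F235952)) (tt N17209 F233278) (tt N20434 (iv F238494)) (tt N17204 F233279) (tt N20015 (iv F235971)) (tt N17268 F233280) (tt N17202 (iv D52036)) (tt N17544 F233281))
theorem Q19268 : ∀ i, i < 19268 → P i := stepQ 19267 Q19267 (allL N19267 (tt N20019 (iv F235995)) (tt N20393 (iv F238250)) (tt N17204 F233282) (tt N20015 (iv F235969)) (tt N17531 F233283) (tt N20013 (iv F235954)) (tt N17209 F233284) (tt N17645 F233285) (tt N17203 (iv D52037)) (tt N17541 F233286))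
theorem Q19269 : ∀ i, i < 19269 → P i := stepQ 19268 Q19268 (allL N19268 (tt N20391 (iv F238239)) (tt N17208 F233287) (tt N17538 F233288) (tt N19268 F233289) (tt N17206 F233290) (tt N20380 (iv F238169)) (tt N17530 F233291) (tt N17263 F233292) (tt N21102 D53872) (tt N17205 (iv D52038)))
theorem Q19270 : ∀ i, i < 19270 → P i := stepQ 19269 Q19269 (allL N19269 (tt N20403 (iv F238316)) (tt N17209 F233293) (tt N17539 F233294) (tt N17534 F233295) (tt N21102 (iv F241559)) (tt N17518 F233296) (tt N20393 (iv F238255)) (tt N17264 F233297) (tt N17206 (iv D52039)) (tt N20018 (iv F235994)))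
theorem Q19271 : ∀ i, i < 19271 → P i := stepQ 19270 Q19270 (allL N19270 (tt N17533 F233298) (tt N20380 (iv F238165)) (tt N17210 F233299) (tt N19270 F233300) (tt N17525 F233301) (tt N17208 F233302) (tt N20389 (iv F238233)) (tt N17266 F233303) (tt N21103 D53873) (tt N17207 (iv D52040)))
theorem Q19272 : ∀ i, i < 19272 → P i := stepQ 19271 Q19271 (allL N19271 (tt N20020 (iv F236004)) (tt N21102 (iv F241557)) (tt N17211 F233304) (tt N21104 D53874) (tt N17209 F233305) (tt N21103 (iv F241566)) (tt N17531 F233306) (tt N17267 F233307) (tt N17208 (iv D52041)) (tt N17536 F233308))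
theorem Q19273 : ∀ i, i < 19273 → P i := stepQ 19272 Q19272 (allL N19272 (tt N20377 (iv F238140)) (tt N17544 F233309) (tt N21103 (iv F241564)) (tt N20018 (iv F235989)) (tt N20022 (iv F236023)) (tt N17211 F233310) (tt N20427 (iv F238455)) (tt N17271 F233311) (tt N17210 (iv D52042)) (tt N17534 F233312))
theorem Q19274 : ∀ i, i < 19274 → P i := stepQ 19273 Q19273 (allL N19273 (tt N17244 F233313) (tt N17575 F233314) (tt N20071 (iv F236354)) (tt N17351 F233315) (tt N17212 (iv D52043)) (tt N17609 F233316) (tt N20026 (iv F236050)) (tt N17226 F233317) (tt N17217 F233318) (tt N21105 D53875))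
theorem Q19275 : ∀ i, i < 19275 → P i := stepQ 19274 Q19274 (allL N19274 (tt N17245 F233319) (tt N17576 F233320) (tt N20072 (iv F236362)) (tt N17213 F233321) (tt N21105 (iv F241576)) (tt N17214 F233322) (tt N20027 (iv F236058)) (tt N17227 F233323) (tt N21106 D53876) (tt N17212 (iv D52044)))
theorem Q19276 : ∀ i, i < 19276 → P i := stepQ 19275 Q19275 (allL N19275 (tt N17254 F233324) (tt N17578 F233325) (tt N20076 (iv F236389)) (tt N17237 F233326) (tt N17612 F233327) (tt N21106 (iv F241582)) (tt N17216 F233328) (tt N17230 F233329) (tt N17214 (iv D52045)) (tt N17219 F233330))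
theorem Q19277 : ∀ i, i < 19277 → P i := stepQ 19276 Q19276 (allL N19276 (tt N17645 F233331) (tt N20428 (iv F238458)) (tt N17216 F233332) (tt N17684 F233333) (tt N17614 F233334) (tt N17685 F233335) (tt N20076 (iv F236392)) (tt N20019 (iv F236002)) (tt N17215 (iv D52046)) (tt N17220 F233336))
theorem Q19278 : ∀ i, i < 19278 → P i := stepQ 19277 Q19277 (allL N19277 (tt N17663 F233337) (tt N17587 F233338) (tt N20083 (iv F236435)) (tt N17303 F233339) (tt N17218 F233340) (tt N17621 F233341) (tt N20037 (iv F236124)) (tt N20085 (iv F236452)) (tt N21107 D53877) (tt N17217 (iv D52047)))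
theorem Q19279 : ∀ i, i < 19279 → P i := stepQ 19278 Q19278 (allL N19278 (tt N17677 F233342) (tt N17588 F233343) (tt N20084 (iv F236442)) (tt N17251 F233344) (tt N21107 (iv F241587)) (tt N17219 F233345) (tt N20038 (iv F236129)) (tt N20086 (iv F236459)) (tt N17218 (iv D52048)) (tt N21106 (iv F241584)))
theorem Q19280 : ∀ i, i < 19280 → P i := stepQ 19279 Q19279 (allL N19279 (tt N17685 F233346) (tt N20394 (iv F238259)) (tt N17268 F233347) (tt N17220 (iv D52049)) (tt N20483 (iv F238766)) (tt N17645 F233348) (tt N20041 (iv F236148)) (tt N20013 (iv F235956)) (tt N17221 F233349) (tt N17684 F233350))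
theorem Q19281 : ∀ i, i < 19281 → P i := stepQ 19280 Q19280 (allL N19280 (tt N17586 F233351) (tt N17226 F233352) (tt N20652 (iv F239582)) (tt N17336 F233353) (tt N17222 (iv D52050)) (tt N17560 F233354) (tt N20061 (iv F236280)) (tt N17575 F233355) (tt N17582 F233356) (tt N21108 D53878))
theorem Q19282 : ∀ i, i < 19282 → P i := stepQ 19281 Q19281 (allL N19281 (tt N17593 F233357) (tt N17227 F233358) (tt N20653 (iv F239589)) (tt N17223 F233359) (tt N21108 (iv F241592)) (tt N17224 F233360) (tt N20062 (iv F236288)) (tt N17576 F233361) (tt N21109 D53879) (tt N17222 (iv D52051)))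
theorem Q19283 : ∀ i, i < 19283 → P i := stepQ 19282 Q19282 (allL N19282 (tt N17594 F233362) (tt N17230 F233363) (tt N20664 (iv F239633)) (tt N17262 F233364) (tt N17564 F233365) (tt N21109 (iv F241598)) (tt N17225 F233366) (tt N17578 F233367) (tt N17224 (iv D52052)) (tt N17589 F233368))
theorem Q19284 : ∀ i, i < 19284 → P i := stepQ 19283 Q19283 (allL N19283 (tt N17249 F233369) (tt N17560 F233370) (tt N20073 (iv F236369)) (tt N17356 F233371) (tt N17228 F233372) (tt N17226 (iv D52053)) (tt N20454 (iv F238595)) (tt N17609 F233373) (tt N17617 F233374) (tt N21110 D53880))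
theorem Q19285 : ∀ i, i < 19285 → P i := stepQ 19284 Q19284 (allL N19284 (tt N17250 F233375) (tt N21108 (iv F241590)) (tt N20074 (iv F236377)) (tt N17357 F233376) (tt N17227 F233377) (tt N21110 (iv F241605)) (tt N20066 (iv F236319)) (tt N21105 (iv F241578)) (tt N21111 D53881) (tt N17226 (iv D52054)))
theorem Q19286 : ∀ i, i < 19286 → P i := stepQ 19285 Q19285 (allL N19285 (tt N17251 F233378) (tt N21109 (iv F241596)) (tt N20075 (iv F236383)) (tt N17677 F233379) (tt N21111 (iv F241608)) (tt N17230 F233380) (tt N20067 (iv F236325)) (tt N21106 (iv F241583)) (tt N17227 (iv D52055)) (tt N20086 (iv F236460)))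
theorem Q19287 : ∀ i, i < 19287 → P i := stepQ 19286 Q19286 (allL N19286 (tt N17261 F233381) (tt N17561 F233382) (tt N20078 (iv F236404)) (tt N17232 F233383) (tt N21110 (iv F241604)) (tt N17229 F233384) (tt N20455 (iv F238601)) (tt N17610 F233385) (tt N21112 D53882) (tt N17228 (iv D52056)))
theorem Q19288 : ∀ i, i < 19288 → P i := stepQ 19287 Q19287 (allL N19287 (tt N17262 F233386) (tt N17564 F233387) (tt N20079 (iv F236410)) (tt N17594 F233388) (tt N17230 F233389) (tt N21112 (iv F241612)) (tt N17231 F233390) (tt N17612 F233391) (tt N17229 (iv D52057)) (tt N17623 F233392))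
theorem Q19289 : ∀ i, i < 19289 → P i := stepQ 19288 Q19288 (allL N19288 (tt N20085 (iv F236445)) (tt N17639 F233393) (tt N20066 (iv F236315)) (tt N17884 F233394) (tt N17236 F233395) (tt N17653 F233396) (tt N20074 (iv F236380)) (tt N17663 F233397) (tt N21113 D53883) (tt N17235 (iv D52058)))
theorem Q19290 : ∀ i, i < 19290 → P i := stepQ 19289 Q19289 (allL N19289 (tt N20086 (iv F236453)) (tt N17640 F233398) (tt N20067 (iv F236322)) (tt N21106 (iv F241581)) (tt N21113 (iv F241616)) (tt N17237 F233399) (tt N20075 (iv F236385)) (tt N17677 F233400) (tt N17236 (iv D52059)) (tt N17251 F233401))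
theorem Q19291 : ∀ i, i < 19291 → P i := stepQ 19290 Q19290 (allL N19290 (tt N20094 (iv F236500)) (tt N17280 F233402) (tt N20068 (iv F236330)) (tt N17279 F233403) (tt N20080 (iv F236419)) (tt N17649 F233404) (tt N17239 F233405) (tt N20044 (iv F236171)) (tt N21114 D53884) (tt N17238 (iv D52060)))
theorem Q19292 : ∀ i, i < 19292 → P i := stepQ 19291 Q19291 (allL N19291 (tt N20095 (iv F236507)) (tt N17268 F233406) (tt N20069 (iv F236338)) (tt N17264 F233407) (tt N20081 (iv F236424)) (tt N17240 F233408) (tt N21114 (iv F241623)) (tt N17534 F233409) (tt N17239 (iv D52061)) (tt N17271 F233410))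
theorem Q19293 : ∀ i, i < 19293 → P i := stepQ 19292 Q19292 (allL N19292 (tt N20026 (iv F236046)) (tt N17648 F233411) (tt N20032 (iv F236089)) (tt N17431 F233412) (tt N17241 (iv D52062)) (tt N20658 (iv F239610)) (tt N17244 F233413) (tt N20034 (iv F236106)) (tt N17662 F233414) (tt N21115 D53885))
theorem Q19294 : ∀ i, i < 19294 → P i := stepQ 19293 Q19293 (allL N19293 (tt N20027 (iv F236053)) (tt N17649 F233415) (tt N20033 (iv F236096)) (tt N17242 F233416) (tt N21115 (iv F241627)) (tt N17280 F233417) (tt N17245 F233418) (tt N20035 (iv F236114)) (tt N21116 D53886) (tt N17241 (iv D52063)))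
theorem Q19295 : ∀ i, i < 19295 → P i := stepQ 19294 Q19294 (allL N19294 (tt N20071 (iv F236352)) (tt N20513 (iv F238909)) (tt N17244 F233419) (tt N20130 (iv F236724)) (tt N17243 (iv D52064)) (tt N17637 F233420) (tt N20032 (iv F236091)) (tt N17247 F233421) (tt N17659 F233422) (tt N21117 D53887))
theorem Q19296 : ∀ i, i < 19296 → P i := stepQ 19295 Q19295 (allL N19295 (tt N20072 (iv F236360)) (tt N20514 (iv F238916)) (tt N17245 F233423) (tt N17274 F233424) (tt N21117 (iv F241635)) (tt N17253 F233425) (tt N20033 (iv F236099)) (tt N17248 F233426) (tt N21118 D53888) (tt N17243 (iv D52065)))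
theorem Q19297 : ∀ i, i < 19297 → P i := stepQ 19296 Q19296 (allL N19296 (tt N21105 (iv F241573)) (tt N17653 F233427) (tt N21117 (iv F241634)) (tt N17437 F233428) (tt N17245 F233429) (tt N17639 F233430) (tt N21115 (iv F241628)) (tt N17250 F233431) (tt N21119 D53889) (tt N17244 (iv D52066)))
theorem Q19298 : ∀ i, i < 19298 → P i := stepQ 19297 Q19297 (allL N19297 (tt N21106 (iv F241579)) (tt N17654 F233432) (tt N21118 (iv F241638)) (tt N20086 (iv F236456)) (tt N21119 (iv F241643)) (tt N17254 F233433) (tt N21116 (iv F241632)) (tt N17251 F233434) (tt N17245 (iv D52067)) (tt N17677 F233435))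
theorem Q19299 : ∀ i, i < 19299 → P i := stepQ 19298 Q19298 (allL N19298 (tt N20550 (iv F239094)) (tt N17247 F233436) (tt N17656 F233437) (tt N17743 F233438) (tt N17246 (iv D52068)) (tt N21120 D53890) (tt N17582 F233439) (tt N20513 (iv F238914)) (tt N20061 (iv F236282)) (tt N21121 D53891))
theorem Q19300 : ∀ i, i < 19300 → P i := stepQ 19299 Q19299 (allL N19299 (tt N20551 (iv F239100)) (tt N17248 F233440) (tt N17657 F233441) (tt N17275 F233442) (tt N21121 (iv F241656)) (tt N17256 F233443) (tt N17583 F233444) (tt N20514 (iv F238921)) (tt N21122 D53892) (tt N17246 (iv D52069)))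
theorem Q19301 : ∀ i, i < 19301 → P i := stepQ 19300 Q19300 (allL N19300 (tt N17883 F233445) (tt N17743 F233446) (tt N17442 F233447) (tt N17247 (iv D52070)) (tt N17276 F233448) (tt N21123 D53893) (tt N17298 F233449) (tt N20130 (iv F236726)) (tt N20205 (iv F237187)) (tt N21124 D53894))
theorem Q19302 : ∀ i, i < 19302 → P i := stepQ 19301 Q19301 (allL N19301 (tt N20073 (iv F236367)) (tt N21120 (iv F241647)) (tt N17249 F233450) (tt N21123 (iv F241666)) (tt N17257 F233451) (tt N17247 (iv D52071)) (tt N21125 D53895) (tt N17637 F233452) (tt N17651 F233453) (tt N21126 D53896))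
theorem Q19303 : ∀ i, i < 19303 → P i := stepQ 19302 Q19302 (allL N19302 (tt N20074 (iv F236375)) (tt N21121 (iv F241653)) (tt N17250 F233454) (tt N21124 (iv F241673)) (tt N17248 F233455) (tt N21126 (iv F241684)) (tt N20085 (iv F236451)) (tt N21117 (iv F241637)) (tt N21127 D53897) (tt N17247 (iv D52072)))
theorem Q19304 : ∀ i, i < 19304 → P i := stepQ 19303 Q19303 (allL N19303 (tt N20075 (iv F236381)) (tt N21122 (iv F241658)) (tt N17251 F233456) (tt N21116 (iv F241630)) (tt N21127 (iv F241687)) (tt N17259 F233457) (tt N20086 (iv F236458)) (tt N21118 (iv F241640)) (tt N17248 (iv D52073)) (tt N20067 (iv F236327)))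
theorem Q19305 : ∀ i, i < 19305 → P i := stepQ 19304 Q19304 (allL N19304 (tt N20454 (iv F238590)) (tt N17662 F233458) (tt N21125 (iv F241677)) (tt N17446 F233459) (tt N17260 F233460) (tt N20087 (iv F236466)) (tt N17249 (iv D52074)) (tt N20645 (iv F239555)) (tt N17648 F233461) (tt N21128 D53898))
theorem Q19306 : ∀ i, i < 19306 → P i := stepQ 19305 Q19305 (allL N19305 (tt N21110 (iv F241601)) (tt N17663 F233462) (tt N21126 (iv F241682)) (tt N17447 F233463) (tt N17261 F233464) (tt N17250 F233465) (tt N21128 (iv F241691)) (tt N17639 F233466) (tt N21129 D53899) (tt N17249 (iv D52075)))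
theorem Q19307 : ∀ i, i < 19307 → P i := stepQ 19306 Q19306 (allL N19306 (tt N21111 (iv F241607)) (tt N17664 F233467) (tt N21127 (iv F241686)) (tt N21130 D53900) (tt N17251 F233468) (tt N21129 (iv F241694)) (tt N20089 (iv F236477)) (tt N21119 (iv F241645)) (tt N17250 (iv D52076)) (tt N21113 (iv F241619)))
theorem Q19308 : ∀ i, i < 19308 → P i := stepQ 19307 Q19307 (allL N19307 (tt N20533 (iv F238991)) (tt N17253 F233469) (tt N17665 F233470) (tt N17278 F233471) (tt N17641 F233472) (tt N20514 (iv F238919)) (tt N17643 F233473) (tt N17256 F233474) (tt N21131 D53901) (tt N17252 (iv D52077)))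
theorem Q19309 : ∀ i, i < 19309 → P i := stepQ 19308 Q19308 (allL N19308 (tt N20076 (iv F236387)) (tt N21131 (iv F241699)) (tt N17254 F233475) (tt N20047 (iv F236186)) (tt N17642 F233476) (tt N21118 (iv F241639)) (tt N17645 F233477) (tt N17259 F233478) (tt N17253 (iv D52078)) (tt N17673 F233479))
theorem Q19310 : ∀ i, i < 19310 → P i := stepQ 19309 Q19309 (allL N19309 (tt N20504 (iv F238868)) (tt N17257 F233480) (tt N17668 F233481) (tt N19309 F233482) (tt N21120 (iv F241650)) (tt N17255 (iv D52079)) (tt N20465 (iv F238661)) (tt N17636 F233483) (tt N17650 F233484) (tt N21132 D53902))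
theorem Q19311 : ∀ i, i < 19311 → P i := stepQ 19310 Q19310 (allL N19310 (tt N20510 (iv F238893)) (tt N17258 F233485) (tt N17669 F233486) (tt N19310 F233487) (tt N17256 F233488) (tt N21132 (iv F241708)) (tt N17263 F233489) (tt N17641 F233490) (tt N21133 D53903) (tt N17255 (iv D52080)))
theorem Q19312 : ∀ i, i < 19312 → P i := stepQ 19311 Q19311 (allL N19311 (tt N20552 (iv F239106)) (tt N17259 F233491) (tt N17670 F233492) (tt N21114 (iv F241621)) (tt N21133 (iv F241712)) (tt N21122 (iv F241661)) (tt N17264 F233493) (tt N21131 (iv F241703)) (tt N17256 (iv D52081)) (tt N20063 (iv F236297)))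
theorem Q19313 : ∀ i, i < 19313 → P i := stepQ 19312 Q19312 (allL N19312 (tt N20077 (iv F236395)) (tt N20465 (iv F238658)) (tt N17260 F233494) (tt N19312 F233495) (tt N21125 (iv F241679)) (tt N17265 F233496) (tt N17257 (iv D52082)) (tt N20495 (iv F238838)) (tt N17647 F233497) (tt N21134 D53904))
theorem Q19314 : ∀ i, i < 19314 → P i := stepQ 19313 Q19313 (allL N19313 (tt N20078 (iv F236402)) (tt N21132 (iv F241705)) (tt N17261 F233498) (tt N19313 F233499) (tt N21126 (iv F241683)) (tt N17258 F233500) (tt N21134 (iv F241719)) (tt N17638 F233501) (tt N21135 D53905) (tt N17257 (iv D52083)))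
theorem Q19315 : ∀ i, i < 19315 → P i := stepQ 19314 Q19314 (allL N19314 (tt N20079 (iv F236408)) (tt N21133 (iv F241710)) (tt N17262 F233502) (tt N21136 D53906) (tt N17259 F233503) (tt N21135 (iv F241721)) (tt N17267 F233504) (tt N17642 F233505) (tt N17258 (iv D52084)) (tt N17666 F233506))
theorem Q19316 : ∀ i, i < 19316 → P i := stepQ 19315 Q19315 (allL N19315 (tt N20030 (iv F236074)) (tt N21114 (iv F241620)) (tt N20041 (iv F236146)) (tt N17259 (iv D52085)) (tt N20674 (iv F239671)) (tt N21116 (iv F241631)) (tt N17268 F233507) (tt N20047 (iv F236188)) (tt N17280 F233508) (tt N17688 F233509))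
theorem Q19317 : ∀ i, i < 19317 → P i := stepQ 19316 Q19316 (allL N19316 (tt N20455 (iv F238597)) (tt N17676 F233510) (tt N21134 (iv F241716)) (tt N17272 F233511) (tt N21128 (iv F241690)) (tt N17270 F233512) (tt N17261 F233513) (tt N20646 (iv F239561)) (tt N21137 D53907) (tt N17260 (iv D52086)))
theorem Q19318 : ∀ i, i < 19318 → P i := stepQ 19317 Q19317 (allL N19317 (tt N21112 (iv F241609)) (tt N17677 F233514) (tt N21135 (iv F241720)) (tt N21109 (iv F241597)) (tt N21129 (iv F241693)) (tt N17262 F233515) (tt N21137 (iv F241730)) (tt N17640 F233516) (tt N17261 (iv D52087)) (tt N17654 F233517))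
theorem Q19319 : ∀ i, i < 19319 → P i := stepQ 19318 Q19318 (allL N19318 (tt N20511 (iv F238900)) (tt N17267 F233518) (tt N17681 F233519) (tt N21138 D53908) (tt N17264 F233520) (tt N20469 (iv F238685)) (tt N21133 (iv F241713)) (tt N21102 (iv F241561)) (tt N17263 (iv D52088)) (tt N20064 (iv F236305)))
theorem Q19320 : ∀ i, i < 19320 → P i := stepQ 19319 Q19319 (allL N19319 (tt N20080 (iv F236415)) (tt N20466 (iv F238665)) (tt N17270 F233521) (tt N19319 F233522) (tt N20094 (iv F236504)) (tt N21134 (iv F241718)) (tt N17266 F233523) (tt N20502 (iv F238864)) (tt N21139 D53909) (tt N17265 (iv D52089)))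
theorem Q19321 : ∀ i, i < 19321 → P i := stepQ 19320 Q19320 (allL N19320 (tt N20081 (iv F236421)) (tt N20469 (iv F238682)) (tt N17271 F233524) (tt N21140 D53910) (tt N20095 (iv F236511)) (tt N17267 F233525) (tt N21139 (iv F241735)) (tt N21103 (iv F241567)) (tt N17266 (iv D52090)) (tt N20069 (iv F236343)))
theorem Q19322 : ∀ i, i < 19322 → P i := stepQ 19321 Q19321 (allL N19321 (tt N20082 (iv F236428)) (tt N21138 (iv F241732)) (tt N20671 (iv F239660)) (tt N17267 (iv D52091)) (tt N20675 (iv F239674)) (tt N21140 (iv F241737)) (tt N21136 (iv F241724)) (tt N21104 (iv F241570)) (tt N19321 F233526) (tt N20070 (iv F236351)))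
theorem Q19323 : ∀ i, i < 19323 → P i := stepQ 19322 Q19322 (allL N19322 (tt N20456 (iv F238602)) (tt N17687 F233527) (tt N20502 (iv F238861)) (tt N17273 F233528) (tt N20096 (iv F236518)) (tt N20646 (iv F239559)) (tt N17992 F233529) (tt N17270 F233530) (tt N21141 D53911) (tt N17269 (iv D52092)))
theorem Q19324 : ∀ i, i < 19324 → P i := stepQ 19323 Q19323 (allL N19323 (tt N20457 (iv F238608)) (tt N17688 F233531) (tt N21139 (iv F241734)) (tt N20063 (iv F236293)) (tt N20097 (iv F236522)) (tt N21137 (iv F241729)) (tt N17271 F233532) (tt N21141 (iv F241743)) (tt N17270 (iv D52093)) (tt N21114 (iv F241624)))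
theorem Q19325 : ∀ i, i < 19325 → P i := stepQ 19324 Q19324 (allL N19324 (tt N17912 F233533) (tt N17744 F233534) (tt N17495 F233535) (tt N17277 F233536) (tt N21124 (iv F241674)) (tt N19324 F233537) (tt N17299 F233538) (tt N20131 (iv F236734)) (tt N21142 D53912) (tt N17276 (iv D52094)))
theorem Q19326 : ∀ i, i < 19326 → P i := stepQ 19325 Q19325 (allL N19325 (tt N17285 F233539) (tt N19325 F233540) (tt N18020 F233541) (tt N20009 (iv F235919)) (tt N17331 F233542) (tt N20007 (iv F235903)) (tt N17287 F233543) (tt N20006 (iv F235896)) (tt N17284 (iv D52095)) (tt N19325 F233544))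
theorem Q19327 : ∀ i, i < 19327 → P i := stepQ 19326 Q19326 (allL N19326 (tt N20009 (iv F235917)) (tt N17286 F233545) (tt N20005 (iv F235883)) (tt N17285 (iv D52096)) (tt N18004 F233546) (tt N20008 (iv F235912)) (tt N17288 F233547) (tt N18008 F233548) (tt N19326 F233549) (tt N19326 F233550))
theorem Q19328 : ∀ i, i < 19328 → P i := stepQ 19327 Q19327 (allL N19327 (tt N17403 F233551) (tt N20145 (iv F236804)) (tt N17290 (iv D52097)) (tt N19327 F233552) (tt N21143 D53913) (tt N17343 F233553) (tt N20108 (iv F236591)) (tt N17340 F233554) (tt N17350 F233555) (tt N21144 D53914))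
theorem Q19329 : ∀ i, i < 19329 → P i := stepQ 19328 Q19328 (allL N19328 (tt N17404 F233556) (tt N17729 F233557) (tt N21143 (iv F241751)) (tt N17294 F233558) (tt N17290 (iv D52098)) (tt N17788 F233559) (tt N20109 (iv F236597)) (tt N17341 F233560) (tt N17351 F233561) (tt N21145 D53915))
theorem Q19330 : ∀ i, i < 19330 → P i := stepQ 19329 Q19329 (allL N19329 (tt N17405 F233562) (tt N17730 F233563) (tt N21144 (iv F241756)) (tt N17291 F233564) (tt N21145 (iv F241763)) (tt N17344 F233565) (tt N20110 (iv F236603)) (tt N17342 F233566) (tt N21146 D53916) (tt N17290 (iv D52099)))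
theorem Q19331 : ∀ i, i < 19331 → P i := stepQ 19330 Q19330 (allL N19330 (tt N17399 F233567) (tt N17733 F233568) (tt N20305 (iv F237751)) (tt N17341 F233569) (tt N17292 (iv D52100)) (tt N17790 F233570) (tt N20205 (iv F237186)) (tt N17294 F233571) (tt N17298 F233572) (tt N21147 D53917))
theorem Q19332 : ∀ i, i < 19332 → P i := stepQ 19331 Q19331 (allL N19331 (tt N17400 F233573) (tt N17734 F233574) (tt N20363 (iv F238061)) (tt N17293 F233575) (tt N21147 (iv F241775)) (tt N17296 F233576) (tt N20206 (iv F237193)) (tt N17295 F233577) (tt N21148 D53918) (tt N17292 (iv D52101)))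
theorem Q19333 : ∀ i, i < 19333 → P i := stepQ 19332 Q19332 (allL N19332 (tt N17846 F233578) (tt N17736 F233579) (tt N21084 (iv F241457)) (tt N21145 (iv F241762)) (tt N17295 F233580) (tt N17792 F233581) (tt N20119 (iv F236656)) (tt N21147 (iv F241777)) (tt N21149 D53919) (tt N17294 (iv D52102)))
theorem Q19334 : ∀ i, i < 19334 → P i := stepQ 19333 Q19333 (allL N19333 (tt N17863 F233582) (tt N17737 F233583) (tt N21047 (iv F241307)) (tt N17411 F233584) (tt N21149 (iv F241786)) (tt N17297 F233585) (tt N20120 (iv F236661)) (tt N21148 (iv F241782)) (tt N17295 (iv D52103)) (tt N17304 F233586))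
theorem Q19335 : ∀ i, i < 19335 → P i := stepQ 19334 Q19334 (allL N19334 (tt N17853 F233587) (tt N17739 F233588) (tt N21033 (iv F241250)) (tt N17414 F233589) (tt N17794 F233590) (tt N21148 (iv F241781)) (tt N19334 F233591) (tt N17297 F233592) (tt N17296 (iv D52104)) (tt N17307 F233593))
theorem Q19336 : ∀ i, i < 19336 → P i := stepQ 19335 Q19335 (allL N19335 (tt N17884 F233594) (tt N17749 F233595) (tt N20306 (iv F237757)) (tt N20085 (iv F236448)) (tt N17299 F233596) (tt N17801 F233597) (tt N21124 (iv F241675)) (tt N17303 F233598) (tt N21150 D53920) (tt N17298 (iv D52105)))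
theorem Q19337 : ∀ i, i < 19337 → P i := stepQ 19336 Q19336 (allL N19336 (tt N17913 F233599) (tt N17750 F233600) (tt N20364 (iv F238067)) (tt N17438 F233601) (tt N21150 (iv F241791)) (tt N17307 F233602) (tt N21142 (iv F241749)) (tt N17304 F233603) (tt N17299 (iv D52106)) (tt N21148 (iv F241783)))
theorem Q19338 : ∀ i, i < 19338 → P i := stepQ 19337 Q19337 (allL N19337 (tt N17300 (iv D52107)) (tt N17914 F233604) (tt N17420 F233605) (tt N17314 F233606) (tt N21151 D53921) (tt N17308 F233607) (tt N17417 F233608) (tt N20356 (iv F238021)) (tt N17462 F233609) (tt N21152 D53922))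
theorem Q19339 : ∀ i, i < 19339 → P i := stepQ 19338 Q19338 (allL N19338 (tt N21151 (iv F241794)) (tt N17301 F233610) (tt N17751 F233611) (tt N20292 (iv F237683)) (tt N17300 (iv D52108)) (tt N17804 F233612) (tt N20137 (iv F236765)) (tt N20301 (iv F237731)) (tt N20756 (iv F240014)) (tt N21153 D53923))
theorem Q19340 : ∀ i, i < 19340 → P i := stepQ 19339 Q19339 (allL N19339 (tt N21152 (iv F241800)) (tt N17302 F233613) (tt N17752 F233614) (tt N17315 F233615) (tt N21153 (iv F241808)) (tt N17309 F233616) (tt N20138 (iv F236773)) (tt N20360 (iv F238048)) (tt N21154 D53924) (tt N17300 (iv D52109)))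
theorem Q19341 : ∀ i, i < 19341 → P i := stepQ 19340 Q19340 (allL N19340 (tt N17896 F233617) (tt N21153 (iv F241806)) (tt N17303 F233618) (tt N20294 (iv F237693)) (tt N17302 F233619) (tt N17807 F233620) (tt N20141 (iv F236789)) (tt N20306 (iv F237762)) (tt N21155 D53925) (tt N17301 (iv D52110)))
theorem Q19342 : ∀ i, i < 19342 → P i := stepQ 19341 Q19341 (allL N19341 (tt N17923 F233621) (tt N21154 (iv F241810)) (tt N17304 F233622) (tt N21156 D53926) (tt N21155 (iv F241815)) (tt N17310 F233623) (tt N20142 (iv F236793)) (tt N20364 (iv F238070)) (tt N17302 (iv D52111)) (tt N21047 (iv F241309)))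
theorem Q19343 : ∀ i, i < 19343 → P i := stepQ 19342 Q19342 (allL N19342 (tt N17901 F233624) (tt N17758 F233625) (tt N21155 (iv F241814)) (tt N21157 D53927) (tt N17304 F233626) (tt N17809 F233627) (tt N20144 (iv F236802)) (tt N21150 (iv F241793)) (tt N17303 (iv D52112)) (tt N21149 (iv F241788)))
theorem Q19344 : ∀ i, i < 19344 → P i := stepQ 19343 Q19343 (allL N19343 (tt N17305 (iv D52113)) (tt N17903 F233628) (tt N17427 F233629) (tt N17317 F233630) (tt N17810 F233631) (tt N20356 (iv F238019)) (tt N19343 F233632) (tt N17308 F233633) (tt N17475 F233634) (tt N21158 D53928))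
theorem Q19345 : ∀ i, i < 19345 → P i := stepQ 19344 Q19344 (allL N19344 (tt N21158 (iv F241825)) (tt N17306 F233635) (tt N17760 F233636) (tt N17318 F233637) (tt N17811 F233638) (tt N20360 (iv F238046)) (tt N19344 F233639) (tt N17309 F233640) (tt N21159 D53929) (tt N17305 (iv D52114)))
theorem Q19346 : ∀ i, i < 19346 → P i := stepQ 19345 Q19345 (allL N19345 (tt N17909 F233641) (tt N21159 (iv F241832)) (tt N17307 F233642) (tt N21160 D53930) (tt N17812 F233643) (tt N20364 (iv F238068)) (tt N19345 F233644) (tt N17310 F233645) (tt N17306 (iv D52115)) (tt N21033 (iv F241254)))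
theorem Q19347 : ∀ i, i < 19347 → P i := stepQ 19346 Q19346 (allL N19346 (tt N17309 F233646) (tt N17915 F233647) (tt N17428 F233648) (tt N17320 F233649) (tt N17813 F233650) (tt N21152 (iv F241804)) (tt N17311 F233651) (tt N21158 (iv F241831)) (tt N21161 D53931) (tt N17308 (iv D52116)))
theorem Q19348 : ∀ i, i < 19348 → P i := stepQ 19347 Q19347 (allL N19347 (tt N21161 (iv F241842)) (tt N17310 F233652) (tt N17769 F233653) (tt N21162 D53932) (tt N17814 F233654) (tt N21154 (iv F241812)) (tt N17312 F233655) (tt N21159 (iv F241836)) (tt N17309 (iv D52117)) (tt N20762 (iv F240050)))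
theorem Q19349 : ∀ i, i < 19349 → P i := stepQ 19348 Q19348 (allL N19348 (tt N17924 F233656) (tt N21162 (iv F241848)) (tt N17465 F233657) (tt N17310 (iv D52118)) (tt N20966 (iv F240995)) (tt N21156 (iv F241819)) (tt N17313 F233658) (tt N21160 (iv F241840)) (tt N17322 F233659) (tt N21046 (iv F241305)))
theorem Q19350 : ∀ i, i < 19350 → P i := stepQ 19349 Q19349 (allL N19349 (tt N17312 F233660) (tt N17928 F233661) (tt N17429 F233662) (tt N20335 (iv F237904)) (tt N17815 F233663) (tt N17425 F233664) (tt N21161 (iv F241846)) (tt N19349 F233665) (tt N17311 (iv D52119)) (tt N17477 F233666))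
theorem Q19351 : ∀ i, i < 19351 → P i := stepQ 19350 Q19350 (allL N19350 (tt N20335 (iv F237901)) (tt N17313 F233667) (tt N20202 (iv F237161)) (tt N17312 (iv D52120)) (tt N20334 (iv F237896)) (tt N20157 (iv F236871)) (tt N21162 (iv F241849)) (tt N19350 F233668) (tt N17324 F233669) (tt N20763 (iv F240058)))
theorem Q19352 : ∀ i, i < 19352 → P i := stepQ 19351 Q19351 (allL N19351 (tt N17315 F233670) (tt N18049 F233671) (tt N17326 F233672) (tt N21152 (iv F241803)) (tt N20353 (iv F238002)) (tt N17320 F233673) (tt N17952 F233674) (tt N20357 (iv F238029)) (tt N21163 D53933) (tt N17314 (iv D52121)))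
theorem Q19353 : ∀ i, i < 19353 → P i := stepQ 19352 Q19352 (allL N19352 (tt N21163 (iv F241851)) (tt N17316 F233675) (tt N17327 F233676) (tt N21164 D53934) (tt N20354 (iv F238008)) (tt N17321 F233677) (tt N20170 (iv F236954)) (tt N20361 (iv F238054)) (tt N17315 (iv D52122)) (tt N19352 F233678))
theorem Q19354 : ∀ i, i < 19354 → P i := stepQ 19353 Q19353 (allL N19353 (tt N18056 F233679) (tt N21164 (iv F241857)) (tt N17497 F233680) (tt N17316 (iv D52123)) (tt N21165 D53935) (tt N17322 F233681) (tt N20174 (iv F236979)) (tt N20365 (iv F238075)) (tt N21156 (iv F241820)) (tt N19353 F233682))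
theorem Q19355 : ∀ i, i < 19355 → P i := stepQ 19354 Q19354 (allL N19354 (tt N17318 F233683) (tt N18026 F233684) (tt N17329 F233685) (tt N21158 (iv F241828)) (tt N18017 F233686) (tt N20357 (iv F238027)) (tt N19354 F233687) (tt N17320 F233688) (tt N21166 D53936) (tt N17317 (iv D52124)))
theorem Q19356 : ∀ i, i < 19356 → P i := stepQ 19355 Q19355 (allL N19355 (tt N21166 (iv F241863)) (tt N17319 F233689) (tt N17330 F233690) (tt N21167 D53937) (tt N18018 F233691) (tt N20361 (iv F238052)) (tt N19355 F233692) (tt N17321 F233693) (tt N17318 (iv D52125)) (tt N19355 F233694))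
theorem Q19357 : ∀ i, i < 19357 → P i := stepQ 19356 Q19356 (allL N19356 (tt N18048 F233695) (tt N21167 (iv F241870)) (tt N17500 F233696) (tt N17319 (iv D52126)) (tt N21168 D53938) (tt N20365 (iv F238073)) (tt N19356 F233697) (tt N17322 F233698) (tt N21160 (iv F241841)) (tt N19356 F233699))
theorem Q19358 : ∀ i, i < 19358 → P i := stepQ 19357 Q19357 (allL N19357 (tt N17321 F233700) (tt N18050 F233701) (tt N17331 F233702) (tt N20370 (iv F238098)) (tt N18020 F233703) (tt N21163 (iv F241854)) (tt N17323 F233704) (tt N21166 (iv F241868)) (tt N17320 (iv D52127)) (tt N19357 F233705))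
theorem Q19359 : ∀ i, i < 19359 → P i := stepQ 19358 Q19358 (allL N19358 (tt N20370 (iv F238095)) (tt N17322 F233706) (tt N20204 (iv F237177)) (tt N17321 (iv D52128)) (tt N20352 (iv F237996)) (tt N21164 (iv F241858)) (tt N17324 F233707) (tt N21167 (iv F241873)) (tt N21162 (iv F241850)) (tt N19358 F233708))
theorem Q19360 : ∀ i, i < 19360 → P i := stepQ 19359 Q19359 (allL N19359 (tt N18057 F233709) (tt N20352 (iv F237994)) (tt N17503 F233710) (tt N18022 F233711) (tt N17322 (iv D52129)) (tt N21169 D53939) (tt N17325 F233712) (tt N21168 (iv F241879)) (tt N20966 (iv F240997)) (tt N19359 F233713))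
theorem Q19361 : ∀ i, i < 19361 → P i := stepQ 19360 Q19360 (allL N19360 (tt N17327 F233714) (tt N19360 F233715) (tt N21163 (iv F241853)) (tt N20753 (iv F239994)) (tt N20373 (iv F238112)) (tt N17331 F233716) (tt N17954 F233717) (tt N20375 (iv F238130)) (tt N17326 (iv D52130)) (tt N19360 F233718))
theorem Q19362 : ∀ i, i < 19362 → P i := stepQ 19361 Q19361 (allL N19361 (tt N20753 (iv F239991)) (tt N17328 F233719) (tt N20203 (iv F237169)) (tt N17327 (iv D52131)) (tt N17713 (iv F233724)) (tt N17332 F233720) (tt N20179 (iv F237012)) (tt N17717 F233721) (tt N17712 F233722) (tt N19361 F233723))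
theorem Q19363 : ∀ i, i < 19363 → P i := stepQ 19362 Q19362 (allL N19362 (tt N17330 F233725) (tt N19362 F233726) (tt N21166 (iv F241865)) (tt N18005 F233727) (tt N20006 (iv F235893)) (tt N20375 (iv F238128)) (tt N19362 F233728) (tt N17331 F233729) (tt N17329 (iv D52132)) (tt N19362 F233730))
theorem Q19364 : ∀ i, i < 19364 → P i := stepQ 19363 Q19363 (allL N19363 (tt N17748 F233731) (tt N17351 F233732) (tt N20784 (iv F240152)) (tt N17575 F233733) (tt N17334 (iv D52133)) (tt N17724 F233734) (tt N20491 (iv F238818)) (tt N17336 F233735) (tt N17729 F233736) (tt N21170 D53940))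
theorem Q19365 : ∀ i, i < 19365 → P i := stepQ 19364 Q19364 (allL N19364 (tt N17765 F233737) (tt N17352 F233738) (tt N20789 (iv F240176)) (tt N17335 F233739) (tt N21170 (iv F241888)) (tt N17338 F233740) (tt N20492 (iv F238824)) (tt N17337 F233741) (tt N21171 D53941) (tt N17334 (iv D52134)))
theorem Q19366 : ∀ i, i < 19366 → P i := stepQ 19365 Q19365 (allL N19365 (tt N17757 F233742) (tt N17357 F233743) (tt N20787 (iv F240167)) (tt N21108 (iv F241591)) (tt N17337 F233744) (tt N17726 F233745) (tt N20194 (iv F237112)) (tt N21170 (iv F241890)) (tt N21172 D53942) (tt N17336 (iv D52135)))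
theorem Q19367 : ∀ i, i < 19367 → P i := stepQ 19366 Q19366 (allL N19366 (tt N17772 F233746) (tt N17358 F233747) (tt N20791 (iv F240187)) (tt N17468 F233748) (tt N21172 (iv F241899)) (tt N17339 F233749) (tt N20195 (iv F237117)) (tt N21171 (iv F241895)) (tt N17337 (iv D52136)) (tt N20813 (iv F240301)))
theorem Q19368 : ∀ i, i < 19368 → P i := stepQ 19367 Q19367 (allL N19367 (tt N17766 F233750) (tt N17364 F233751) (tt N20790 (iv F240181)) (tt N17456 F233752) (tt N17728 F233753) (tt N21171 (iv F241894)) (tt N19367 F233754) (tt N17339 F233755) (tt N17338 (iv D52137)) (tt N18067 F233756))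
theorem Q19369 : ∀ i, i < 19369 → P i := stepQ 19368 Q19368 (allL N19368 (tt N17407 F233757) (tt N20140 (iv F236781)) (tt N17341 F233758) (tt N21173 D53943) (tt N17340 (iv D52138)) (tt N20137 (iv F236764)) (tt N20209 (iv F237208)) (tt N21143 (iv F241753)) (tt N17354 F233759) (tt N21174 D53944))
theorem Q19370 : ∀ i, i < 19370 → P i := stepQ 19369 Q19369 (allL N19369 (tt N17408 F233760) (tt N20152 (iv F236844)) (tt N17342 F233761) (tt N19369 F233762) (tt N21174 (iv F241905)) (tt N17345 F233763) (tt N20210 (iv F237216)) (tt N21144 (iv F241759)) (tt N21175 D53945) (tt N17340 (iv D52139)))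
theorem Q19371 : ∀ i, i < 19371 → P i := stepQ 19370 Q19370 (allL N19370 (tt N17410 F233764) (tt N20805 (iv F240263)) (tt N21174 (iv F241904)) (tt N21147 (iv F241774)) (tt N17342 F233765) (tt N20802 (iv F240245)) (tt N20212 (iv F237227)) (tt N21145 (iv F241765)) (tt N21176 D53946) (tt N17341 (iv D52140)))
theorem Q19372 : ∀ i, i < 19372 → P i := stepQ 19371 Q19371 (allL N19371 (tt N17411 F233766) (tt N20813 (iv F240296)) (tt N21175 (iv F241907)) (tt N17863 F233767) (tt N21176 (iv F241911)) (tt N17346 F233768) (tt N20213 (iv F237231)) (tt N21146 (iv F241770)) (tt N17342 (iv D52141)) (tt N17358 F233769))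
theorem Q19373 : ∀ i, i < 19373 → P i := stepQ 19372 Q19372 (allL N19372 (tt N17413 F233770) (tt N20146 (iv F236810)) (tt N17344 F233771) (tt N19372 F233772) (tt N18068 F233773) (tt N21144 (iv F241758)) (tt N19372 F233774) (tt N17345 F233775) (tt N21177 D53947) (tt N17343 (iv D52142)))
theorem Q19374 : ∀ i, i < 19374 → P i := stepQ 19373 Q19373 (allL N19373 (tt N17414 F233776) (tt N18067 F233777) (tt N21177 (iv F241914)) (tt N17853 F233778) (tt N18069 F233779) (tt N21146 (iv F241769)) (tt N19373 F233780) (tt N17346 F233781) (tt N17344 (iv D52143)) (tt N17364 F233782))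
theorem Q19375 : ∀ i, i < 19375 → P i := stepQ 19374 Q19374 (allL N19374 (tt N17419 F233783) (tt N20153 (iv F236850)) (tt N17346 F233784) (tt N21178 D53948) (tt N20151 (iv F236839)) (tt N21175 (iv F241908)) (tt N17347 F233785) (tt N21177 (iv F241917)) (tt N17345 (iv D52144)) (tt N17368 F233786))
theorem Q19376 : ∀ i, i < 19376 → P i := stepQ 19375 Q19375 (allL N19375 (tt N17426 F233787) (tt N20158 (iv F236877)) (tt N17869 F233788) (tt N17347 (iv D52145)) (tt N20897 (iv F240686)) (tt N20218 (iv F237265)) (tt N21178 (iv F241921)) (tt N19375 F233789) (tt N19375 F233790) (tt N17373 F233791))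
theorem Q19377 : ∀ i, i < 19377 → P i := stepQ 19376 Q19376 (allL N19376 (tt N17430 F233792) (tt N21179 D53949) (tt N17348 (iv D52146)) (tt N17375 F233793) (tt N21180 D53950) (tt N19376 F233794) (tt N17350 F233795) (tt N18033 F233796) (tt N20108 (iv F236593)) (tt N21181 D53951))
theorem Q19378 : ∀ i, i < 19378 → P i := stepQ 19377 Q19377 (allL N19377 (tt N17431 F233797) (tt N20491 (iv F238816)) (tt N21180 (iv F241930)) (tt N20026 (iv F236049)) (tt N17348 (iv D52147)) (tt N21182 D53952) (tt N17351 F233798) (tt N20220 (iv F237281)) (tt N20109 (iv F236598)) (tt N21183 D53953))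
theorem Q19379 : ∀ i, i < 19379 → P i := stepQ 19378 Q19378 (allL N19378 (tt N17432 F233799) (tt N20492 (iv F238821)) (tt N21181 (iv F241935)) (tt N17349 F233800) (tt N21183 (iv F241943)) (tt N19378 F233801) (tt N17352 F233802) (tt N20221 (iv F237287)) (tt N21184 D53954) (tt N17348 (iv D52148)))
theorem Q19380 : ∀ i, i < 19380 → P i := stepQ 19379 Q19379 (allL N19379 (tt N20963 (iv F240977)) (tt N17350 (iv D52149)) (tt N20122 (iv F236672)) (tt N17377 F233803) (tt N21185 D53955) (tt N17359 F233804) (tt N21179 (iv F241927)) (tt N17353 F233805) (tt N20145 (iv F236808)) (tt N21186 D53956))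
theorem Q19381 : ∀ i, i < 19381 → P i := stepQ 19380 Q19380 (allL N19380 (tt N17434 F233806) (tt N21185 (iv F241949)) (tt N17351 F233807) (tt N21187 D53957) (tt N17350 (iv D52150)) (tt N21188 D53958) (tt N21180 (iv F241932)) (tt N17354 F233808) (tt N21143 (iv F241754)) (tt N21189 D53959))
theorem Q19382 : ∀ i, i < 19382 → P i := stepQ 19381 Q19381 (allL N19381 (tt N17435 F233809) (tt N21186 (iv F241951)) (tt N17352 F233810) (tt N17379 F233811) (tt N21189 (iv F241967)) (tt N17361 F233812) (tt N21181 (iv F241938)) (tt N17355 F233813) (tt N21190 D53960) (tt N17350 (iv D52151)))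
theorem Q19383 : ∀ i, i < 19383 → P i := stepQ 19382 Q19382 (allL N19382 (tt N17436 F233814) (tt N17724 F233815) (tt N21188 (iv F241961)) (tt N17609 F233816) (tt N17362 F233817) (tt N17351 (iv D52152)) (tt N20568 (iv F239194)) (tt N17356 F233818) (tt N17788 F233819) (tt N21191 D53961))
theorem Q19384 : ∀ i, i < 19384 → P i := stepQ 19383 Q19383 (allL N19383 (tt N17437 F233820) (tt N21170 (iv F241886)) (tt N21189 (iv F241966)) (tt N21105 (iv F241575)) (tt N17352 F233821) (tt N21191 (iv F241977)) (tt N21183 (iv F241944)) (tt N17357 F233822) (tt N21192 D53962) (tt N17351 (iv D52153)))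
theorem Q19385 : ∀ i, i < 19385 → P i := stepQ 19384 Q19384 (allL N19384 (tt N17438 F233823) (tt N21171 (iv F241892)) (tt N21190 (iv F241970)) (tt N17913 F233824) (tt N21192 (iv F241980)) (tt N17364 F233825) (tt N21184 (iv F241948)) (tt N17358 F233826) (tt N17352 (iv D52154)) (tt N21146 (iv F241771)))
theorem Q19386 : ∀ i, i < 19386 → P i := stepQ 19385 Q19385 (allL N19385 (tt N20948 (iv F240911)) (tt N17354 F233827) (tt N20118 (iv F236649)) (tt N21193 D53963) (tt N17353 (iv D52155)) (tt N20116 (iv F236638)) (tt N17973 F233828) (tt N21185 (iv F241950)) (tt N20140 (iv F236785)) (tt N21194 D53964))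
theorem Q19387 : ∀ i, i < 19387 → P i := stepQ 19386 Q19386 (allL N19386 (tt N20964 (iv F240984)) (tt N17355 F233829) (tt N20126 (iv F236697)) (tt N17384 F233830) (tt N21194 (iv F241986)) (tt N17365 F233831) (tt N17945 F233832) (tt N21186 (iv F241954)) (tt N21195 D53965) (tt N17353 (iv D52156)))
theorem Q19388 : ∀ i, i < 19388 → P i := stepQ 19387 Q19387 (allL N19387 (tt N17442 F233833) (tt N21193 (iv F241982)) (tt N17883 F233834) (tt N17354 (iv D52157)) (tt N17385 F233835) (tt N21196 D53966) (tt N17880 F233836) (tt N21187 (iv F241959)) (tt N20247 (iv F237443)) (tt N21197 D53967))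
theorem Q19389 : ∀ i, i < 19389 → P i := stepQ 19388 Q19388 (allL N19388 (tt N17443 F233837) (tt N20116 (iv F236636)) (tt N17356 F233838) (tt N21196 (iv F241993)) (tt N17366 F233839) (tt N17354 (iv D52158)) (tt N20756 (iv F240013)) (tt N21188 (iv F241963)) (tt N20137 (iv F236767)) (tt N21198 D53968))
theorem Q19390 : ∀ i, i < 19390 → P i := stepQ 19389 Q19389 (allL N19389 (tt N17444 F233840) (tt N21194 (iv F241985)) (tt N17357 F233841) (tt N21197 (iv F241998)) (tt N17355 F233842) (tt N21198 (iv F242004)) (tt N20224 (iv F237305)) (tt N21189 (iv F241968)) (tt N21199 D53969) (tt N17354 (iv D52159)))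
theorem Q19391 : ∀ i, i < 19391 → P i := stepQ 19390 Q19390 (allL N19390 (tt N17445 F233843) (tt N21195 (iv F241988)) (tt N17358 F233844) (tt N21200 D53970) (tt N21199 (iv F242007)) (tt N17368 F233845) (tt N20225 (iv F237311)) (tt N21190 (iv F241972)) (tt N17355 (iv D52160)) (tt N21175 (iv F241909)))
theorem Q19392 : ∀ i, i < 19392 → P i := stepQ 19391 Q19391 (allL N19391 (tt N17447 F233846) (tt N17726 F233847) (tt N21198 (iv F242002)) (tt N21110 (iv F241603)) (tt N17369 F233848) (tt N17357 F233849) (tt N20758 (iv F240025)) (tt N21191 (iv F241978)) (tt N21201 D53971) (tt N17356 (iv D52161)))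
theorem Q19393 : ∀ i, i < 19393 → P i := stepQ 19392 Q19392 (allL N19392 (tt N17448 F233850) (tt N21172 (iv F241898)) (tt N21199 (iv F242006)) (tt N21202 D53972) (tt N17358 F233851) (tt N21201 (iv F242015)) (tt N20228 (iv F237328)) (tt N21192 (iv F241981)) (tt N17357 (iv D52162)) (tt N21176 (iv F241912)))
theorem Q19394 : ∀ i, i < 19394 → P i := stepQ 19393 Q19393 (allL N19393 (tt N20971 (iv F241014)) (tt N17361 F233852) (tt N20123 (iv F236678)) (tt N17390 F233853) (tt N20121 (iv F236667)) (tt N21186 (iv F241953)) (tt N19393 F233854) (tt N17365 F233855) (tt N21203 D53973) (tt N17359 (iv D52163)))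
theorem Q19395 : ∀ i, i < 19395 → P i := stepQ 19394 Q19394 (allL N19394 (tt N17452 F233856) (tt N20113 (iv F236620)) (tt N17362 F233857) (tt N19394 F233858) (tt N21188 (iv F241962)) (tt N17360 (iv D52164)) (tt N20567 (iv F239188)) (tt N17366 F233859) (tt N17787 F233860) (tt N21204 D53974))
theorem Q19396 : ∀ i, i < 19396 → P i := stepQ 19395 Q19395 (allL N19395 (tt N17453 F233861) (tt N20121 (iv F236664)) (tt N17363 F233862) (tt N19395 F233863) (tt N17361 F233864) (tt N21204 (iv F242024)) (tt N19395 F233865) (tt N17367 F233866) (tt N21205 D53975) (tt N17360 (iv D52165)))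
theorem Q19397 : ∀ i, i < 19397 → P i := stepQ 19396 Q19396 (allL N19396 (tt N17454 F233867) (tt N21203 (iv F242018)) (tt N17364 F233868) (tt N21206 D53976) (tt N21205 (iv F242028)) (tt N21190 (iv F241971)) (tt N19396 F233869) (tt N17368 F233870) (tt N17361 (iv D52166)) (tt N21177 (iv F241918)))
theorem Q19398 : ∀ i, i < 19398 → P i := stepQ 19397 Q19397 (allL N19397 (tt N17455 F233871) (tt N17725 F233872) (tt N21204 (iv F242022)) (tt N17374 F233873) (tt N21191 (iv F241976)) (tt N17363 F233874) (tt N20569 (iv F239200)) (tt N17369 F233875) (tt N21207 D53977) (tt N17362 (iv D52167)))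
theorem Q19399 : ∀ i, i < 19399 → P i := stepQ 19398 Q19398 (allL N19398 (tt N17456 F233876) (tt N17728 F233877) (tt N21205 (iv F242027)) (tt N17766 F233878) (tt N17364 F233879) (tt N21207 (iv F242040)) (tt N19398 F233880) (tt N17370 F233881) (tt N17363 (iv D52168)) (tt N18069 F233882))
theorem Q19400 : ∀ i, i < 19400 → P i := stepQ 19399 Q19399 (allL N19399 (tt N20972 (iv F241021)) (tt N17368 F233883) (tt N20127 (iv F236703)) (tt N21208 D53978) (tt N20125 (iv F236692)) (tt N21195 (iv F241989)) (tt N17371 F233884) (tt N21203 (iv F242020)) (tt N17365 (iv D52169)) (tt N20153 (iv F236854)))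
theorem Q19401 : ∀ i, i < 19401 → P i := stepQ 19400 Q19400 (allL N19400 (tt N17463 F233885) (tt N20117 (iv F236642)) (tt N17369 F233886) (tt N19400 F233887) (tt N21198 (iv F242003)) (tt N17367 F233888) (tt N20757 (iv F240021)) (tt N21204 (iv F242025)) (tt N21209 D53979) (tt N17366 (iv D52170)))
theorem Q19402 : ∀ i, i < 19402 → P i := stepQ 19401 Q19401 (allL N19401 (tt N17464 F233889) (tt N20125 (iv F236690)) (tt N17370 F233890) (tt N21210 D53980) (tt N17368 F233891) (tt N21209 (iv F242048)) (tt N17372 F233892) (tt N21205 (iv F242030)) (tt N17367 (iv D52171)) (tt N20151 (iv F236842)))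
theorem Q19403 : ∀ i, i < 19403 → P i := stepQ 19402 Q19402 (allL N19402 (tt N17465 F233893) (tt N21208 (iv F242043)) (tt N17924 F233894) (tt N17368 (iv D52172)) (tt N21211 D53981) (tt N21200 (iv F242010)) (tt N17373 F233895) (tt N21206 (iv F242035)) (tt N17394 F233896) (tt N21178 (iv F241923)))
theorem Q19404 : ∀ i, i < 19404 → P i := stepQ 19403 Q19403 (allL N19403 (tt N17468 F233897) (tt N17727 F233898) (tt N21209 (iv F242047)) (tt N17772 F233899) (tt N21201 (iv F242014)) (tt N17370 F233900) (tt N20759 (iv F240030)) (tt N21207 (iv F242041)) (tt N17369 (iv D52173)) (tt N20803 (iv F240254)))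
theorem Q19405 : ∀ i, i < 19405 → P i := stepQ 19404 Q19404 (allL N19404 (tt N20341 (iv F237937)) (tt N17373 F233901) (tt N21060 (iv F241352)) (tt N17371 (iv D52174)) (tt N21212 D53982) (tt N17936 F233902) (tt N21208 (iv F242044)) (tt N19404 F233903) (tt N17396 F233904) (tt N20158 (iv F236881)))
theorem Q19406 : ∀ i, i < 19406 → P i := stepQ 19405 Q19405 (allL N19405 (tt N17478 F233905) (tt N20128 (iv F236708)) (tt N17774 F233906) (tt N17372 (iv D52175)) (tt N20864 (iv F240537)) (tt N20763 (iv F240055)) (tt N21210 (iv F242051)) (tt N19405 F233907) (tt N19405 F233908) (tt N20157 (iv F236874)))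
theorem Q19407 : ∀ i, i < 19407 → P i := stepQ 19406 Q19406 (allL N19406 (tt N17479 F233909) (tt N21212 (iv F242057)) (tt N17936 F233910) (tt N20864 (iv F240536)) (tt N17373 (iv D52176)) (tt N21060 (iv F241354)) (tt N21211 (iv F242055)) (tt N19406 F233911) (tt N17397 F233912) (tt N20897 (iv F240689)))
theorem Q19408 : ∀ i, i < 19408 → P i := stepQ 19407 Q19407 (allL N19407 (tt N17956 F233913) (tt N17375 (iv D52177)) (tt N19407 F233914) (tt N21179 (iv F241925)) (tt N17955 F233915) (tt N19407 F233916) (tt N17377 F233917) (tt N18030 F233918) (tt N19407 F233919) (tt N21213 D53983))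
theorem Q19409 : ∀ i, i < 19409 → P i := stepQ 19408 Q19408 (allL N19408 (tt N17483 F233920) (tt N21213 (iv F242063)) (tt N17376 F233921) (tt N21181 (iv F241936)) (tt N18054 F233922) (tt N19408 F233923) (tt N17379 F233924) (tt N18038 F233925) (tt N21214 D53984) (tt N17375 (iv D52178)))
theorem Q19410 : ∀ i, i < 19410 → P i := stepQ 19409 Q19409 (allL N19409 (tt N17484 F233926) (tt N19409 F233927) (tt N21214 (iv F242070)) (tt N17388 F233928) (tt N18043 F233929) (tt N19409 F233930) (tt N17381 F233931) (tt N18042 F233932) (tt N17376 (iv D52179)) (tt N19409 F233933))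
theorem Q19411 : ∀ i, i < 19411 → P i := stepQ 19410 Q19410 (allL N19410 (tt N21089 (iv F241488)) (tt N17379 F233934) (tt N19410 F233935) (tt N21186 (iv F241952)) (tt N21088 (iv F241484)) (tt N17390 F233936) (tt N21213 (iv F242067)) (tt N17384 F233937) (tt N21215 D53985) (tt N17377 (iv D52180)))
theorem Q19412 : ∀ i, i < 19412 → P i := stepQ 19411 Q19411 (allL N19411 (tt N17486 F233938) (tt N20919 (iv F240793)) (tt N17911 F233939) (tt N17378 (iv D52181)) (tt N21187 (iv F241957)) (tt N19411 F233940) (tt N17921 F233941) (tt N17385 F233942) (tt N20243 (iv F237424)) (tt N21216 D53986))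
theorem Q19413 : ∀ i, i < 19413 → P i := stepQ 19412 Q19412 (allL N19412 (tt N17487 F233943) (tt N21088 (iv F241482)) (tt N17380 F233944) (tt N21216 (iv F242083)) (tt N17379 F233945) (tt N19412 F233946) (tt N18054 F233947) (tt N17386 F233948) (tt N21217 D53987) (tt N17378 (iv D52182)))
theorem Q19414 : ∀ i, i < 19414 → P i := stepQ 19413 Q19413 (allL N19413 (tt N17488 F233949) (tt N21215 (iv F242076)) (tt N17381 F233950) (tt N21218 D53988) (tt N21217 (iv F242089)) (tt N17391 F233951) (tt N21214 (iv F242073)) (tt N17387 F233952) (tt N17379 (iv D52183)) (tt N19413 F233953))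
theorem Q19415 : ∀ i, i < 19415 → P i := stepQ 19414 Q19414 (allL N19414 (tt N17489 F233954) (tt N19414 F233955) (tt N21217 (iv F242088)) (tt N18042 F233956) (tt N17381 F233957) (tt N19414 F233958) (tt N18043 F233959) (tt N17388 F233960) (tt N17380 (iv D52184)) (tt N19414 F233961))
theorem Q19416 : ∀ i, i < 19416 → P i := stepQ 19415 Q19415 (allL N19415 (tt N17384 F233962) (tt N17490 F233963) (tt N19415 F233964) (tt N20964 (iv F240987)) (tt N21086 (iv F241471)) (tt N17392 F233965) (tt N18028 F233966) (tt N21089 (iv F241494)) (tt N21219 D53989) (tt N17382 (iv D52185)))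
theorem Q19417 : ∀ i, i < 19417 → P i := stepQ 19416 Q19416 (allL N19416 (tt N20913 (iv F240771)) (tt N17385 F233967) (tt N20639 (iv F239527)) (tt N17383 (iv D52186)) (tt N21193 (iv F241983)) (tt N19416 F233968) (tt N17905 F233969) (tt N20919 (iv F240797)) (tt N20246 (iv F237439)) (tt N21220 D53990))
theorem Q19418 : ∀ i, i < 19418 → P i := stepQ 19417 Q19417 (allL N19417 (tt N21086 (iv F241468)) (tt N17386 F233970) (tt N19417 F233971) (tt N21220 (iv F242106)) (tt N17384 F233972) (tt N19417 F233973) (tt N18046 F233974) (tt N21088 (iv F241487)) (tt N21221 D53991) (tt N17383 (iv D52187)))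
theorem Q19419 : ∀ i, i < 19419 → P i := stepQ 19418 Q19418 (allL N19418 (tt N21219 (iv F242099)) (tt N17387 F233975) (tt N19418 F233976) (tt N21222 D53992) (tt N21221 (iv F242111)) (tt N17393 F233977) (tt N18058 F233978) (tt N21215 (iv F242079)) (tt N17384 (iv D52188)) (tt N19418 F233979))
theorem Q19420 : ∀ i, i < 19420 → P i := stepQ 19419 Q19419 (allL N19419 (tt N17495 F233980) (tt N21220 (iv F242105)) (tt N17912 F233981) (tt N17386 F233982) (tt N21197 (iv F241999)) (tt N19419 F233983) (tt N17908 F233984) (tt N21216 (iv F242086)) (tt N21223 D53993) (tt N17385 (iv D52189)))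
theorem Q19421 : ∀ i, i < 19421 → P i := stepQ 19420 Q19420 (allL N19420 (tt N17496 F233985) (tt N21221 (iv F242109)) (tt N17388 F233986) (tt N21224 D53994) (tt N17387 F233987) (tt N19420 F233988) (tt N18047 F233989) (tt N21217 (iv F242092)) (tt N17386 (iv D52190)) (tt N19420 F233990))
theorem Q19422 : ∀ i, i < 19422 → P i := stepQ 19421 Q19421 (allL N19421 (tt N17497 F233991) (tt N21222 (iv F242115)) (tt N18056 F233992) (tt N17387 (iv D52191)) (tt N21225 D53995) (tt N17394 F233993) (tt N20242 (iv F237416)) (tt N21218 (iv F242097)) (tt N21200 (iv F242011)) (tt N19421 F233994))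
theorem Q19423 : ∀ i, i < 19423 → P i := stepQ 19422 Q19422 (allL N19422 (tt N17390 F233995) (tt N17498 F233996) (tt N19422 F233997) (tt N20971 (iv F241017)) (tt N19422 F233998) (tt N21089 (iv F241492)) (tt N19422 F233999) (tt N17392 F234000) (tt N21226 D53996) (tt N17389 (iv D52192)))
theorem Q19424 : ∀ i, i < 19424 → P i := stepQ 19423 Q19423 (allL N19423 (tt N21226 (iv F242130)) (tt N17391 F234001) (tt N19423 F234002) (tt N21227 D53997) (tt N19423 F234003) (tt N21215 (iv F242078)) (tt N19423 F234004) (tt N17393 F234005) (tt N17390 (iv D52193)) (tt N19423 F234006))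
theorem Q19425 : ∀ i, i < 19425 → P i := stepQ 19424 Q19424 (allL N19424 (tt N17500 F234007) (tt N21227 (iv F242137)) (tt N18048 F234008) (tt N17391 (iv D52194)) (tt N21228 D53998) (tt N21218 (iv F242096)) (tt N19424 F234009) (tt N17394 F234010) (tt N21206 (iv F242036)) (tt N19424 F234011))
theorem Q19426 : ∀ i, i < 19426 → P i := stepQ 19425 Q19425 (allL N19425 (tt N17393 F234012) (tt N17501 F234013) (tt N19425 F234014) (tt N20350 (iv F237985)) (tt N19425 F234015) (tt N21219 (iv F242102)) (tt N17395 F234016) (tt N21226 (iv F242135)) (tt N17392 (iv D52195)) (tt N19425 F234017))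
theorem Q19427 : ∀ i, i < 19427 → P i := stepQ 19426 Q19426 (allL N19426 (tt N20350 (iv F237983)) (tt N17394 F234018) (tt N21071 (iv F241394)) (tt N17393 (iv D52196)) (tt N21229 D53999) (tt N21222 (iv F242116)) (tt N17396 F234019) (tt N21227 (iv F242139)) (tt N21208 (iv F242045)) (tt N19426 F234020))
theorem Q19428 : ∀ i, i < 19428 → P i := stepQ 19427 Q19427 (allL N19427 (tt N17503 F234021) (tt N21229 (iv F242147)) (tt N18057 F234022) (tt N19427 F234023) (tt N17394 (iv D52197)) (tt N21230 D54000) (tt N17397 F234024) (tt N21228 (iv F242145)) (tt N21211 (iv F242056)) (tt N19427 F234025))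
theorem Q19429 : ∀ i, i < 19429 → P i := stepQ 19428 Q19428 (allL N19428 (tt N20166 (iv F236922)) (tt N17397 F234026) (tt N18063 F234027) (tt N19428 F234028) (tt N17396 (iv D52198)) (tt N18064 F234029) (tt N21229 (iv F242150)) (tt N19428 F234030) (tt N21212 (iv F242061)) (tt N19428 F234031))
theorem Q19430 : ∀ i, i < 19430 → P i := stepQ 19429 Q19429 (allL N19429 (tt N21231 D54001) (tt N17398 (iv D52199)) (tt N17825 F234032) (tt N19429 F234033) (tt N21232 D54002) (tt N17849 F234034) (tt N20246 (iv F237438)) (tt N17855 F234035) (tt N17905 F234036) (tt N21233 D54003))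
theorem Q19431 : ∀ i, i < 19431 → P i := stepQ 19430 Q19430 (allL N19430 (tt N20305 (iv F237750)) (tt N21232 (iv F242162)) (tt N17399 F234037) (tt N21234 D54004) (tt N17398 (iv D52200)) (tt N17834 F234038) (tt N20247 (iv F237442)) (tt N17842 F234039) (tt N17880 F234040) (tt N21235 D54005))
theorem Q19432 : ∀ i, i < 19432 → P i := stepQ 19431 Q19431 (allL N19431 (tt N20363 (iv F238060)) (tt N21233 (iv F242167)) (tt N17400 F234041) (tt N19431 F234042) (tt N21235 (iv F242177)) (tt N17851 F234043) (tt N20248 (iv F237448)) (tt N17859 F234044) (tt N21236 D54006) (tt N17398 (iv D52201)))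
theorem Q19433 : ∀ i, i < 19433 → P i := stepQ 19432 Q19432 (allL N19432 (tt N21147 (iv F241772)) (tt N17828 F234045) (tt N21235 (iv F242176)) (tt N17410 F234046) (tt N17400 F234047) (tt N17836 F234048) (tt N20250 (iv F237457)) (tt N17846 F234049) (tt N21237 D54007) (tt N17399 (iv D52202)))
theorem Q19434 : ∀ i, i < 19434 → P i := stepQ 19433 Q19433 (allL N19433 (tt N21148 (iv F241778)) (tt N17829 F234050) (tt N21236 (iv F242180)) (tt N21146 (iv F241768)) (tt N21237 (iv F242185)) (tt N17853 F234051) (tt N20251 (iv F237460)) (tt N17863 F234052) (tt N17400 (iv D52203)) (tt N17913 F234053))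
theorem Q19435 : ∀ i, i < 19435 → P i := stepQ 19434 Q19434 (allL N19434 (tt N20108 (iv F236588)) (tt N21098 (iv F241538)) (tt N17401 (iv D52204)) (tt N19434 F234054) (tt N21238 D54008) (tt N19434 F234055) (tt N17403 F234056) (tt N20171 (iv F236962)) (tt N17430 F234057) (tt N21239 D54009))
theorem Q19436 : ∀ i, i < 19436 → P i := stepQ 19435 Q19435 (allL N19435 (tt N20109 (iv F236594)) (tt N17831 F234058) (tt N21238 (iv F242189)) (tt N17845 F234059) (tt N17401 (iv D52205)) (tt N20926 (iv F240820)) (tt N17404 F234060) (tt N20252 (iv F237465)) (tt N17431 F234061) (tt N21240 D54010))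
theorem Q19437 : ∀ i, i < 19437 → P i := stepQ 19436 Q19436 (allL N19436 (tt N20110 (iv F236599)) (tt N17832 F234062) (tt N21239 (iv F242192)) (tt N17402 F234063) (tt N21240 (iv F242198)) (tt N19436 F234064) (tt N17405 F234065) (tt N20253 (iv F237471)) (tt N21241 D54011) (tt N17401 (iv D52206)))
theorem Q19438 : ∀ i, i < 19438 → P i := stepQ 19437 Q19437 (allL N19437 (tt N21038 (iv F241268)) (tt N17403 (iv D52207)) (tt N17833 F234066) (tt N19437 F234067) (tt N21242 D54012) (tt N17412 F234068) (tt N21098 (iv F241541)) (tt N17406 F234069) (tt N17433 F234070) (tt N21243 D54013))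
theorem Q19439 : ∀ i, i < 19439 → P i := stepQ 19438 Q19438 (allL N19438 (tt N21143 (iv F241750)) (tt N21242 (iv F242204)) (tt N17404 F234071) (tt N21244 D54014) (tt N17403 (iv D52208)) (tt N17826 F234072) (tt N21238 (iv F242190)) (tt N17407 F234073) (tt N17434 F234074) (tt N21245 D54015))
theorem Q19440 : ∀ i, i < 19440 → P i := stepQ 19439 Q19439 (allL N19439 (tt N21144 (iv F241755)) (tt N21243 (iv F242209)) (tt N17405 F234075) (tt N19439 F234076) (tt N21245 (iv F242219)) (tt N17413 F234077) (tt N21239 (iv F242195)) (tt N17408 F234078) (tt N21246 D54016) (tt N17403 (iv D52209)))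
theorem Q19441 : ∀ i, i < 19441 → P i := stepQ 19440 Q19440 (allL N19440 (tt N21145 (iv F241760)) (tt N17836 F234079) (tt N21245 (iv F242218)) (tt N17846 F234080) (tt N17405 F234081) (tt N17828 F234082) (tt N21240 (iv F242199)) (tt N17410 F234083) (tt N21247 D54017) (tt N17404 (iv D52210)))
theorem Q19442 : ∀ i, i < 19442 → P i := stepQ 19441 Q19441 (allL N19441 (tt N21146 (iv F241766)) (tt N17837 F234084) (tt N21246 (iv F242222)) (tt N21148 (iv F241780)) (tt N21247 (iv F242227)) (tt N17414 F234085) (tt N21241 (iv F242202)) (tt N17411 F234086) (tt N17405 (iv D52211)) (tt N17438 F234087))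
theorem Q19443 : ∀ i, i < 19443 → P i := stepQ 19442 Q19442 (allL N19442 (tt N21007 (iv F241160)) (tt N17407 F234088) (tt N17839 F234089) (tt N21248 D54018) (tt N17406 (iv D52212)) (tt N21249 D54019) (tt N20260 (iv F237505)) (tt N21242 (iv F242207)) (tt N17440 F234090) (tt N21250 D54020))
theorem Q19444 : ∀ i, i < 19444 → P i := stepQ 19443 Q19443 (allL N19443 (tt N21039 (iv F241275)) (tt N17408 F234091) (tt N17840 F234092) (tt N19443 F234093) (tt N21250 (iv F242242)) (tt N17416 F234094) (tt N20261 (iv F237512)) (tt N21243 (iv F242213)) (tt N21251 D54021) (tt N17406 (iv D52213)))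
theorem Q19445 : ∀ i, i < 19445 → P i := stepQ 19444 Q19444 (allL N19444 (tt N21173 (iv F241901)) (tt N21248 (iv F242231)) (tt N21234 (iv F242172)) (tt N17407 (iv D52214)) (tt N19444 F234095) (tt N21252 D54022) (tt N20262 (iv F237514)) (tt N21244 (iv F242217)) (tt N21253 D54023) (tt N21254 D54024))
theorem Q19446 : ∀ i, i < 19446 → P i := stepQ 19445 Q19445 (allL N19445 (tt N20137 (iv F236761)) (tt N21249 (iv F242234)) (tt N17409 F234096) (tt N21252 (iv F242248)) (tt N17417 F234097) (tt N17407 (iv D52215)) (tt N21151 (iv F241798)) (tt N17826 F234098) (tt N17443 F234099) (tt N21255 D54025))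
theorem Q19447 : ∀ i, i < 19447 → P i := stepQ 19446 Q19446 (allL N19446 (tt N21174 (iv F241903)) (tt N21250 (iv F242240)) (tt N17410 F234100) (tt N21254 (iv F242253)) (tt N17408 F234101) (tt N21255 (iv F242257)) (tt N20264 (iv F237524)) (tt N21245 (iv F242221)) (tt N21256 D54026) (tt N17407 (iv D52216)))
theorem Q19448 : ∀ i, i < 19448 → P i := stepQ 19447 Q19447 (allL N19447 (tt N21175 (iv F241906)) (tt N21251 (iv F242243)) (tt N17411 F234102) (tt N21257 D54027) (tt N21256 (iv F242260)) (tt N17419 F234103) (tt N20265 (iv F237527)) (tt N21246 (iv F242224)) (tt N17408 (iv D52217)) (tt N17445 F234104))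
theorem Q19449 : ∀ i, i < 19449 → P i := stepQ 19448 Q19448 (allL N19448 (tt N17751 F234105) (tt N17845 F234106) (tt N21151 (iv F241796)) (tt N17831 F234107) (tt N17420 F234108) (tt N20266 (iv F237534)) (tt N17409 (iv D52218)) (tt N20911 (iv F240763)) (tt N17446 F234109) (tt N21258 D54028))
theorem Q19450 : ∀ i, i < 19450 → P i := stepQ 19449 Q19449 (allL N19449 (tt N20802 (iv F240241)) (tt N17846 F234110) (tt N21255 (iv F242255)) (tt N17836 F234111) (tt N17421 F234112) (tt N17410 F234113) (tt N21258 (iv F242269)) (tt N17828 F234114) (tt N21259 D54029) (tt N17409 (iv D52219)))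
theorem Q19451 : ∀ i, i < 19451 → P i := stepQ 19450 Q19450 (allL N19450 (tt N21176 (iv F241910)) (tt N17847 F234115) (tt N21256 (iv F242259)) (tt N21260 D54030) (tt N17411 F234116) (tt N21259 (iv F242272)) (tt N20268 (iv F237541)) (tt N21247 (iv F242229)) (tt N17410 (iv D52220)) (tt N17448 F234117))
theorem Q19452 : ∀ i, i < 19452 → P i := stepQ 19451 Q19451 (allL N19451 (tt N21053 (iv F241320)) (tt N17413 F234118) (tt N17850 F234119) (tt N19451 F234120) (tt N18070 F234121) (tt N21243 (iv F242212)) (tt N19451 F234122) (tt N17416 F234123) (tt N21261 D54031) (tt N17412 (iv D52221)))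
theorem Q19453 : ∀ i, i < 19453 → P i := stepQ 19452 Q19452 (allL N19452 (tt N21177 (iv F241913)) (tt N21261 (iv F242277)) (tt N17414 F234124) (tt N21262 D54032) (tt N18071 F234125) (tt N21246 (iv F242223)) (tt N19452 F234126) (tt N17419 F234127) (tt N17413 (iv D52222)) (tt N17454 F234128))
theorem Q19454 : ∀ i, i < 19454 → P i := stepQ 19453 Q19453 (allL N19453 (tt N17917 F234129) (tt N17417 F234130) (tt N17855 F234131) (tt N17950 F234132) (tt N21249 (iv F242236)) (tt N17415 (iv D52223)) (tt N17914 F234133) (tt N17825 F234134) (tt N17459 F234135) (tt N21263 D54033))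
theorem Q19455 : ∀ i, i < 19455 → P i := stepQ 19454 Q19454 (allL N19454 (tt N17930 F234136) (tt N17418 F234137) (tt N17856 F234138) (tt N18059 F234139) (tt N17416 F234140) (tt N21263 (iv F242291)) (tt N17423 F234141) (tt N18070 F234142) (tt N21264 D54034) (tt N17415 (iv D52224)))
theorem Q19456 : ∀ i, i < 19456 → P i := stepQ 19455 Q19455 (allL N19455 (tt N21054 (iv F241327)) (tt N17419 F234143) (tt N17857 F234144) (tt N21265 D54035) (tt N21264 (iv F242297)) (tt N21251 (iv F242245)) (tt N17424 F234145) (tt N21261 (iv F242281)) (tt N17416 (iv D52225)) (tt N17461 F234146))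
theorem Q19457 : ∀ i, i < 19457 → P i := stepQ 19456 Q19456 (allL N19456 (tt N20138 (iv F236768)) (tt N21263 (iv F242288)) (tt N17421 F234147) (tt N17952 F234148) (tt N21255 (iv F242256)) (tt N17418 F234149) (tt N21152 (iv F241805)) (tt N17827 F234150) (tt N21266 D54036) (tt N17417 (iv D52226)))
theorem Q19458 : ∀ i, i < 19458 → P i := stepQ 19457 Q19457 (allL N19457 (tt N20151 (iv F236836)) (tt N21264 (iv F242295)) (tt N17422 F234151) (tt N20817 (iv F240312)) (tt N17419 F234152) (tt N21266 (iv F242306)) (tt N17425 F234153) (tt N18071 F234154) (tt N17418 (iv D52227)) (tt N17464 F234155))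
theorem Q19459 : ∀ i, i < 19459 → P i := stepQ 19458 Q19458 (allL N19458 (tt N21178 (iv F241919)) (tt N21265 (iv F242301)) (tt N21046 (iv F241301)) (tt N17419 (iv D52228)) (tt N21045 F241299) (tt N21257 (iv F242262)) (tt N17426 F234156) (tt N21262 (iv F242284)) (tt N19458 F234157) (tt N17465 F234158))
theorem Q19460 : ∀ i, i < 19460 → P i := stepQ 19459 Q19459 (allL N19459 (tt N17752 F234159) (tt N17862 F234160) (tt N21152 (iv F241802)) (tt N17780 F234161) (tt N21258 (iv F242268)) (tt N17428 F234162) (tt N17421 F234163) (tt N20912 (iv F240770)) (tt N21267 D54037) (tt N17420 (iv D52229)))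
theorem Q19461 : ∀ i, i < 19461 → P i := stepQ 19460 Q19460 (allL N19460 (tt N20803 (iv F240248)) (tt N17863 F234164) (tt N21266 (iv F242305)) (tt N20813 (iv F240298)) (tt N21259 (iv F242271)) (tt N17422 F234165) (tt N21267 (iv F242312)) (tt N17829 F234166) (tt N17421 (iv D52230)) (tt N17468 F234167))
theorem Q19462 : ∀ i, i < 19462 → P i := stepQ 19461 Q19461 (allL N19461 (tt N17931 F234168) (tt N17425 F234169) (tt N17865 F234170) (tt N20338 (iv F237925)) (tt N17424 F234171) (tt N17928 F234172) (tt N21264 (iv F242298)) (tt N19461 F234173) (tt N17423 (iv D52231)) (tt N17473 F234174))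
theorem Q19463 : ∀ i, i < 19463 → P i := stepQ 19462 Q19462 (allL N19462 (tt N20287 (iv F237656)) (tt N17426 F234175) (tt N20219 (iv F237271)) (tt N17424 (iv D52232)) (tt N20975 (iv F241036)) (tt N20282 (iv F237624)) (tt N21265 (iv F242302)) (tt N19462 F234176) (tt N19462 F234177) (tt N17474 F234178))
theorem Q19464 : ∀ i, i < 19464 → P i := stepQ 19463 Q19463 (allL N19463 (tt N17760 F234179) (tt N17870 F234180) (tt N21158 (iv F241827)) (tt N17784 F234181) (tt N20284 (iv F237639)) (tt N20912 (iv F240768)) (tt N19463 F234182) (tt N17428 F234183) (tt N21268 D54038) (tt N17427 (iv D52233)))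
theorem Q19465 : ∀ i, i < 19465 → P i := stepQ 19464 Q19464 (allL N19464 (tt N17769 F234184) (tt N17871 F234185) (tt N21161 (iv F241844)) (tt N20185 (iv F237055)) (tt N20285 (iv F237645)) (tt N21267 (iv F242311)) (tt N17429 F234186) (tt N21268 (iv F242317)) (tt N17428 (iv D52234)) (tt N17481 F234187))
theorem Q19466 : ∀ i, i < 19466 → P i := stepQ 19465 Q19465 (allL N19465 (tt N21180 (iv F241929)) (tt N21100 (iv F241549)) (tt N17431 F234188) (tt N20132 (iv F236738)) (tt N17430 (iv D52235)) (tt N21269 D54039) (tt N17434 F234189) (tt N20139 (iv F236779)) (tt N21238 (iv F242191)) (tt N21270 D54040))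
theorem Q19467 : ∀ i, i < 19467 → P i := stepQ 19466 Q19466 (allL N19466 (tt N21181 (iv F241934)) (tt N21082 (iv F241446)) (tt N17432 F234190) (tt N17483 F234191) (tt N21270 (iv F242322)) (tt N19466 F234192) (tt N17435 F234193) (tt N20172 (iv F236968)) (tt N21271 D54041) (tt N17430 (iv D52236)))
theorem Q19468 : ∀ i, i < 19468 → P i := stepQ 19467 Q19467 (allL N19467 (tt N21182 (iv F241940)) (tt N17874 F234194) (tt N21269 (iv F242319)) (tt N20658 (iv F239608)) (tt N19467 F234195) (tt N17431 (iv D52237)) (tt N20642 (iv F239542)) (tt N20288 (iv F237665)) (tt N20926 (iv F240821)) (tt N21272 D54042))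
theorem Q19469 : ∀ i, i < 19469 → P i := stepQ 19468 Q19468 (allL N19468 (tt N21183 (iv F241942)) (tt N17875 F234196) (tt N21270 (iv F242321)) (tt N21115 (iv F241626)) (tt N17432 F234197) (tt N21272 (iv F242329)) (tt N17437 F234198) (tt N20289 (iv F237669)) (tt N21273 D54043) (tt N17431 (iv D52238)))
theorem Q19470 : ∀ i, i < 19470 → P i := stepQ 19469 Q19469 (allL N19469 (tt N21184 (iv F241945)) (tt N17876 F234199) (tt N21271 (iv F242324)) (tt N21142 (iv F241747)) (tt N21273 (iv F242331)) (tt N19469 F234200) (tt N17438 F234201) (tt N20290 (iv F237673)) (tt N17432 (iv D52239)) (tt N21241 (iv F242203)))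
theorem Q19471 : ∀ i, i < 19471 → P i := stepQ 19470 Q19470 (allL N19470 (tt N20922 (iv F240804)) (tt N17434 F234202) (tt N17877 F234203) (tt N20847 (iv F240451)) (tt N17433 (iv D52240)) (tt N21274 D54044) (tt N21100 (iv F241552)) (tt N17440 F234204) (tt N21242 (iv F242208)) (tt N21275 D54045))
theorem Q19472 : ∀ i, i < 19472 → P i := stepQ 19471 Q19471 (allL N19471 (tt N21091 (iv F241500)) (tt N17435 F234205) (tt N17878 F234206) (tt N17485 F234207) (tt N21275 (iv F242340)) (tt N17451 F234208) (tt N21082 (iv F241449)) (tt N17441 F234209) (tt N21276 D54046) (tt N17433 (iv D52241)))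
theorem Q19473 : ∀ i, i < 19473 → P i := stepQ 19472 Q19472 (allL N19472 (tt N21187 (iv F241955)) (tt N20847 (iv F240449)) (tt N20130 (iv F236723)) (tt N17434 (iv D52242)) (tt N17486 F234210) (tt N21277 D54047) (tt N20132 (iv F236739)) (tt N17442 F234211) (tt N21278 D54048) (tt N21279 D54049))
theorem Q19474 : ∀ i, i < 19474 → P i := stepQ 19473 Q19473 (allL N19473 (tt N21188 (iv F241960)) (tt N21274 (iv F242333)) (tt N17436 F234212) (tt N21277 (iv F242347)) (tt N17452 F234213) (tt N17434 (iv D52243)) (tt N20640 (iv F239533)) (tt N17443 F234214) (tt N17826 F234215) (tt N21280 D54050))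
theorem Q19475 : ∀ i, i < 19475 → P i := stepQ 19474 Q19474 (allL N19474 (tt N21189 (iv F241965)) (tt N21275 (iv F242338)) (tt N17437 F234216) (tt N21279 (iv F242352)) (tt N17435 F234217) (tt N21280 (iv F242357)) (tt N21270 (iv F242323)) (tt N17444 F234218) (tt N21281 D54051) (tt N17434 (iv D52244)))
theorem Q19476 : ∀ i, i < 19476 → P i := stepQ 19475 Q19475 (allL N19475 (tt N21190 (iv F241969)) (tt N21276 (iv F242342)) (tt N17438 F234219) (tt N21282 D54052) (tt N21281 (iv F242360)) (tt N17454 F234220) (tt N21271 (iv F242326)) (tt N17445 F234221) (tt N17435 (iv D52245)) (tt N21246 (iv F242225)))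
theorem Q19477 : ∀ i, i < 19477 → P i := stepQ 19476 Q19476 (allL N19476 (tt N21191 (iv F241973)) (tt N17884 F234222) (tt N21280 (iv F242355)) (tt N17639 F234223) (tt N17455 F234224) (tt N17437 F234225) (tt N20643 (iv F239547)) (tt N17447 F234226) (tt N21283 D54053) (tt N17436 (iv D52246)))
theorem Q19478 : ∀ i, i < 19478 → P i := stepQ 19477 Q19477 (allL N19477 (tt N21192 (iv F241979)) (tt N17885 F234227) (tt N21281 (iv F242359)) (tt N21284 D54054) (tt N17438 F234228) (tt N21283 (iv F242367)) (tt N21273 (iv F242332)) (tt N17448 F234229) (tt N17437 (iv D52247)) (tt N21247 (iv F242230)))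
theorem Q19479 : ∀ i, i < 19479 → P i := stepQ 19478 Q19478 (allL N19478 (tt N17440 F234230) (tt N20948 (iv F240912)) (tt N17886 F234231) (tt N20914 (iv F240778)) (tt N17439 (iv D52248)) (tt N21285 D54055) (tt N20299 (iv F237720)) (tt N20922 (iv F240808)) (tt N21007 (iv F241165)) (tt N21286 D54056))
theorem Q19480 : ∀ i, i < 19480 → P i := stepQ 19479 Q19479 (allL N19479 (tt N17441 F234232) (tt N20964 (iv F240985)) (tt N17887 F234233) (tt N17490 F234234) (tt N21286 (iv F242380)) (tt N17458 F234235) (tt N20300 (iv F237727)) (tt N21091 (iv F241505)) (tt N21287 D54057) (tt N17439 (iv D52249)))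
theorem Q19481 : ∀ i, i < 19481 → P i := stepQ 19480 Q19480 (allL N19480 (tt N20914 (iv F240776)) (tt N17442 F234236) (tt N20845 (iv F240437)) (tt N17440 (iv D52250)) (tt N17491 F234237) (tt N21288 D54058) (tt N20301 (iv F237730)) (tt N20847 (iv F240453)) (tt N21289 D54059) (tt N21290 D54060))
theorem Q19482 : ∀ i, i < 19482 → P i := stepQ 19481 Q19481 (allL N19481 (tt N21285 (iv F242372)) (tt N17443 F234238) (tt N17889 F234239) (tt N21288 (iv F242385)) (tt N17459 F234240) (tt N17440 (iv D52251)) (tt N21291 D54061) (tt N21274 (iv F242336)) (tt N21249 (iv F242239)) (tt N21292 D54062))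
theorem Q19483 : ∀ i, i < 19483 → P i := stepQ 19482 Q19482 (allL N19482 (tt N21286 (iv F242378)) (tt N17444 F234241) (tt N17890 F234242) (tt N21290 (iv F242390)) (tt N17441 F234243) (tt N21292 (iv F242401)) (tt N20303 (iv F237745)) (tt N21275 (iv F242341)) (tt N21293 D54063) (tt N17440 (iv D52252)))
theorem Q19484 : ∀ i, i < 19484 → P i := stepQ 19483 Q19483 (allL N19483 (tt N21287 (iv F242381)) (tt N17445 F234244) (tt N17891 F234245) (tt N21294 D54064) (tt N21293 (iv F242404)) (tt N17461 F234246) (tt N20304 (iv F237749)) (tt N21276 (iv F242345)) (tt N17441 (iv D52253)) (tt N21251 (iv F242246)))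
theorem Q19485 : ∀ i, i < 19485 → P i := stepQ 19484 Q19484 (allL N19484 (tt N21196 (iv F241991)) (tt N21288 (iv F242384)) (tt N21123 (iv F241665)) (tt N17443 F234247) (tt N19484 F234248) (tt N17442 (iv D52254)) (tt N21295 D54065) (tt N21277 (iv F242349)) (tt N21296 D54066) (tt N21297 D54067))
theorem Q19486 : ∀ i, i < 19486 → P i := stepQ 19485 Q19485 (allL N19485 (tt N20247 (iv F237440)) (tt N21289 (iv F242387)) (tt N20205 (iv F237184)) (tt N21253 (iv F242251)) (tt N17494 F234249) (tt N21296 (iv F242414)) (tt N20305 (iv F237754)) (tt N21278 (iv F242351)) (tt N17442 (iv D52255)) (tt N21298 D54068))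
theorem Q19487 : ∀ i, i < 19487 → P i := stepQ 19486 Q19486 (allL N19486 (tt N21197 (iv F241996)) (tt N21290 (iv F242389)) (tt N21124 (iv F241672)) (tt N17444 F234250) (tt N17495 F234251) (tt N21297 (iv F242417)) (tt N20306 (iv F237761)) (tt N21279 (iv F242354)) (tt N21299 D54069) (tt N17442 (iv D52256)))
theorem Q19488 : ∀ i, i < 19488 → P i := stepQ 19487 Q19487 (allL N19487 (tt N20756 (iv F240009)) (tt N21291 (iv F242393)) (tt N17446 F234252) (tt N21295 (iv F242410)) (tt N17462 F234253) (tt N20307 (iv F237768)) (tt N17443 (iv D52257)) (tt N21300 D54070) (tt N21151 (iv F241799)) (tt N21301 D54071))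
theorem Q19489 : ∀ i, i < 19489 → P i := stepQ 19488 Q19488 (allL N19488 (tt N21198 (iv F242001)) (tt N21292 (iv F242398)) (tt N17447 F234254) (tt N21297 (iv F242415)) (tt N17463 F234255) (tt N17444 F234256) (tt N21301 (iv F242424)) (tt N21280 (iv F242358)) (tt N21302 D54072) (tt N17443 (iv D52258)))
theorem Q19490 : ∀ i, i < 19490 → P i := stepQ 19489 Q19489 (allL N19489 (tt N21199 (iv F242005)) (tt N21293 (iv F242402)) (tt N17448 F234257) (tt N21303 D54073) (tt N17445 F234258) (tt N21302 (iv F242427)) (tt N20309 (iv F237778)) (tt N21281 (iv F242361)) (tt N17444 (iv D52259)) (tt N21256 (iv F242261)))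
theorem Q19491 : ∀ i, i < 19491 → P i := stepQ 19490 Q19490 (allL N19490 (tt N21200 (iv F242008)) (tt N21294 (iv F242405)) (tt N21156 (iv F241818)) (tt N17445 (iv D52260)) (tt N21304 D54074) (tt N17465 F234259) (tt N20310 (iv F237780)) (tt N21282 (iv F242363)) (tt N17497 F234260) (tt N21257 (iv F242264)))
theorem Q19492 : ∀ i, i < 19492 → P i := stepQ 19491 Q19491 (allL N19491 (tt N20754 (iv F240000)) (tt N17899 F234261) (tt N21300 (iv F242420)) (tt N20645 (iv F239553)) (tt N17466 F234262) (tt N20311 (iv F237784)) (tt N20637 (iv F239519)) (tt N17446 (iv D52261)) (tt N20911 (iv F240764)) (tt N21305 D54075))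
theorem Q19493 : ∀ i, i < 19493 → P i := stepQ 19492 Q19492 (allL N19492 (tt N20758 (iv F240022)) (tt N17900 F234263) (tt N21301 (iv F242422)) (tt N21128 (iv F241689)) (tt N17467 F234264) (tt N20312 (iv F237787)) (tt N17447 F234265) (tt N21305 (iv F242431)) (tt N21306 D54076) (tt N17446 (iv D52262)))
theorem Q19494 : ∀ i, i < 19494 → P i := stepQ 19493 Q19493 (allL N19493 (tt N21201 (iv F242012)) (tt N17901 F234266) (tt N21302 (iv F242425)) (tt N21307 D54077) (tt N17468 F234267) (tt N17448 F234268) (tt N21306 (iv F242434)) (tt N21283 (iv F242368)) (tt N17447 (iv D52263)) (tt N21259 (iv F242274)))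
theorem Q19495 : ∀ i, i < 19495 → P i := stepQ 19494 Q19494 (allL N19494 (tt N21202 (iv F242016)) (tt N17902 F234269) (tt N21308 D54078) (tt N17448 (iv D52264)) (tt N21157 (iv F241823)) (tt N21307 (iv F242436)) (tt N20314 (iv F237793)) (tt N21284 (iv F242371)) (tt N21130 (iv F241698)) (tt N21260 (iv F242276)))
theorem Q19496 : ∀ i, i < 19496 → P i := stepQ 19495 Q19495 (allL N19495 (tt N17450 F234270) (tt N17866 F234271) (tt N17903 F234272) (tt N19495 F234273) (tt N17449 (iv D52265)) (tt N21309 D54079) (tt N19495 F234274) (tt N17457 F234275) (tt N17929 F234276) (tt N21310 D54080))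
theorem Q19497 : ∀ i, i < 19497 → P i := stepQ 19496 Q19496 (allL N19496 (tt N17451 F234277) (tt N20971 (iv F241015)) (tt N17904 F234278) (tt N17498 F234279) (tt N21310 (iv F242447)) (tt N21091 (iv F241503)) (tt N19496 F234280) (tt N17458 F234281) (tt N21311 D54081) (tt N17449 (iv D52266)))
theorem Q19498 : ∀ i, i < 19498 → P i := stepQ 19497 Q19497 (allL N19497 (tt N21309 (iv F242437)) (tt N17452 F234282) (tt N17905 F234283) (tt N19497 F234284) (tt N21274 (iv F242335)) (tt N17450 (iv D52267)) (tt N20639 (iv F239530)) (tt N17459 F234285) (tt N17825 F234286) (tt N21312 D54082))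
theorem Q19499 : ∀ i, i < 19499 → P i := stepQ 19498 Q19498 (allL N19498 (tt N21310 (iv F242443)) (tt N17453 F234287) (tt N17906 F234288) (tt N19498 F234289) (tt N17451 F234290) (tt N21312 (iv F242457)) (tt N19498 F234291) (tt N17460 F234292) (tt N21313 D54083) (tt N17450 (iv D52268)))
theorem Q19500 : ∀ i, i < 19500 → P i := stepQ 19499 Q19499 (allL N19499 (tt N21311 (iv F242450)) (tt N17454 F234293) (tt N17907 F234294) (tt N21314 D54084) (tt N21313 (iv F242461)) (tt N21276 (iv F242344)) (tt N19499 F234295) (tt N17461 F234296) (tt N17451 (iv D52269)) (tt N21261 (iv F242282)))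
theorem Q19501 : ∀ i, i < 19501 → P i := stepQ 19500 Q19500 (allL N19500 (tt N21204 (iv F242021)) (tt N21312 (iv F242454)) (tt N17455 F234297) (tt N19500 F234298) (tt N21280 (iv F242356)) (tt N17453 F234299) (tt N20641 (iv F239538)) (tt N17463 F234300) (tt N21315 D54085) (tt N17452 (iv D52270)))
theorem Q19502 : ∀ i, i < 19502 → P i := stepQ 19501 Q19501 (allL N19501 (tt N21205 (iv F242026)) (tt N21313 (iv F242459)) (tt N17456 F234301) (tt N21316 D54086) (tt N17454 F234302) (tt N21315 (iv F242471)) (tt N19501 F234303) (tt N17464 F234304) (tt N17453 (iv D52271)) (tt N18071 F234305))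
theorem Q19503 : ∀ i, i < 19503 → P i := stepQ 19502 Q19502 (allL N19502 (tt N21206 (iv F242032)) (tt N21314 (iv F242465)) (tt N21160 (iv F241838)) (tt N17454 (iv D52272)) (tt N21317 D54087) (tt N21282 (iv F242362)) (tt N19502 F234306) (tt N17465 F234307) (tt N17500 F234308) (tt N21262 (iv F242286)))
theorem Q19504 : ∀ i, i < 19504 → P i := stepQ 19503 Q19503 (allL N19503 (tt N21207 (iv F242037)) (tt N17913 F234309) (tt N21315 (iv F242470)) (tt N21171 (iv F241893)) (tt N21283 (iv F242366)) (tt N17456 F234310) (tt N20644 (iv F239550)) (tt N17468 F234311) (tt N17455 (iv D52273)) (tt N17829 F234312))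
theorem Q19505 : ∀ i, i < 19505 → P i := stepQ 19504 Q19504 (allL N19504 (tt N17459 F234313) (tt N17858 F234314) (tt N17914 F234315) (tt N19504 F234316) (tt N21285 (iv F242375)) (tt N17457 (iv D52274)) (tt N17855 F234317) (tt N21309 (iv F242441)) (tt N17917 F234318) (tt N21318 D54088))
theorem Q19506 : ∀ i, i < 19506 → P i := stepQ 19505 Q19505 (allL N19505 (tt N17460 F234319) (tt N17867 F234320) (tt N17915 F234321) (tt N19505 F234322) (tt N17458 F234323) (tt N21318 (iv F242485)) (tt N17469 F234324) (tt N21310 (iv F242449)) (tt N21319 D54089) (tt N17457 (iv D52275)))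
theorem Q19507 : ∀ i, i < 19507 → P i := stepQ 19506 Q19506 (allL N19506 (tt N17461 F234325) (tt N20972 (iv F241022)) (tt N17916 F234326) (tt N20333 (iv F237890)) (tt N21319 (iv F242490)) (tt N21287 (iv F242383)) (tt N17470 F234327) (tt N21311 (iv F242453)) (tt N17458 (iv D52276)) (tt N21054 (iv F241332)))
theorem Q19508 : ∀ i, i < 19508 → P i := stepQ 19507 Q19507 (allL N19507 (tt N17855 F234328) (tt N17462 F234329) (tt N17917 F234330) (tt N19507 F234331) (tt N21291 (iv F242395)) (tt N17471 F234332) (tt N17459 (iv D52277)) (tt N21231 (iv F242160)) (tt N17914 F234333) (tt N21320 D54090))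
theorem Q19509 : ∀ i, i < 19509 → P i := stepQ 19508 Q19508 (allL N19508 (tt N21318 (iv F242481)) (tt N17463 F234334) (tt N17918 F234335) (tt N19508 F234336) (tt N21292 (iv F242400)) (tt N17460 F234337) (tt N21320 (iv F242498)) (tt N21312 (iv F242458)) (tt N21321 D54091) (tt N17459 (iv D52278)))
theorem Q19510 : ∀ i, i < 19510 → P i := stepQ 19509 Q19509 (allL N19509 (tt N21319 (iv F242487)) (tt N17464 F234338) (tt N17919 F234339) (tt N21322 D54092) (tt N17461 F234340) (tt N21321 (iv F242501)) (tt N17473 F234341) (tt N21313 (iv F242463)) (tt N17460 (iv D52279)) (tt N21264 (iv F242300)))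
theorem Q19511 : ∀ i, i < 19511 → P i := stepQ 19510 Q19510 (allL N19510 (tt N20333 (iv F237889)) (tt N17465 F234342) (tt N20233 (iv F237354)) (tt N17461 (iv D52280)) (tt N21059 (iv F241347)) (tt N21294 (iv F242406)) (tt N17474 F234343) (tt N21314 (iv F242468)) (tt N17502 F234344) (tt N21265 (iv F242304)))
theorem Q19512 : ∀ i, i < 19512 → P i := stepQ 19511 Q19511 (allL N19511 (tt N20359 (iv F238036)) (tt N21231 (iv F242156)) (tt N17466 F234345) (tt N19511 F234346) (tt N21300 (iv F242421)) (tt N17475 F234347) (tt N20636 (iv F239514)) (tt N17462 (iv D52281)) (tt N20356 F238022) (tt N21323 D54093))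
theorem Q19513 : ∀ i, i < 19513 → P i := stepQ 19512 Q19512 (allL N19512 (tt N20757 (iv F240016)) (tt N21320 (iv F242494)) (tt N17467 F234348) (tt N19512 F234349) (tt N21301 (iv F242423)) (tt N17476 F234350) (tt N17463 F234351) (tt N21323 (iv F242508)) (tt N21324 D54094) (tt N17462 (iv D52282)))
theorem Q19514 : ∀ i, i < 19514 → P i := stepQ 19513 Q19513 (allL N19513 (tt N21209 (iv F242046)) (tt N21321 (iv F242499)) (tt N17468 F234352) (tt N21325 D54095) (tt N21302 (iv F242426)) (tt N17464 F234353) (tt N21324 (iv F242511)) (tt N21315 (iv F242472)) (tt N17463 (iv D52283)) (tt N21266 (iv F242308)))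
theorem Q19515 : ∀ i, i < 19515 → P i := stepQ 19514 Q19514 (allL N19514 (tt N21210 (iv F242049)) (tt N21322 (iv F242502)) (tt N20792 (iv F240191)) (tt N17464 (iv D52284)) (tt N20970 (iv F241010)) (tt N21325 (iv F242512)) (tt N17478 F234354) (tt N21316 (iv F242475)) (tt N19514 F234355) (tt N20817 (iv F240317)))
theorem Q19516 : ∀ i, i < 19516 → P i := stepQ 19515 Q19515 (allL N19515 (tt N21211 (iv F242053)) (tt N21059 F241350) (tt N20966 F240999) (tt N20970 (iv F241009)) (tt N17465 (iv D52285)) (tt N21326 D54096) (tt N17479 F234356) (tt N21317 (iv F242479)) (tt N17503 F234357) (tt N21045 (iv F241298)))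
theorem Q19517 : ∀ i, i < 19517 → P i := stepQ 19516 Q19516 (allL N19516 (tt N20755 (iv F240004)) (tt N17926 F234358) (tt N21323 (iv F242505)) (tt N17482 F234359) (tt N21305 (iv F242430)) (tt N17480 F234360) (tt N20638 (iv F239525)) (tt N17467 F234361) (tt N21327 D54097) (tt N17466 (iv D52286)))
theorem Q19518 : ∀ i, i < 19518 → P i := stepQ 19517 Q19517 (allL N19517 (tt N20759 (iv F240026)) (tt N17927 F234362) (tt N21324 (iv F242509)) (tt N20195 (iv F237115)) (tt N21306 (iv F242433)) (tt N17481 F234363) (tt N17468 F234364) (tt N21327 (iv F242517)) (tt N17467 (iv D52287)) (tt N21267 (iv F242313)))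
theorem Q19519 : ∀ i, i < 19519 → P i := stepQ 19518 Q19518 (allL N19518 (tt N17473 F234365) (tt N17868 F234366) (tt N17928 F234367) (tt N21328 D54098) (tt N17470 F234368) (tt N17865 F234369) (tt N21319 (iv F242491)) (tt N19518 F234370) (tt N17469 (iv D52288)) (tt N17931 F234371))
theorem Q19520 : ∀ i, i < 19520 → P i := stepQ 19519 Q19519 (allL N19519 (tt N17849 F234372) (tt N17475 F234373) (tt N17929 F234374) (tt N19519 F234375) (tt N17848 F234376) (tt N21231 (iv F242159)) (tt N19519 F234377) (tt N17471 (iv D52289)) (tt N17903 F234378) (tt N21329 D54099))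
theorem Q19521 : ∀ i, i < 19521 → P i := stepQ 19520 Q19520 (allL N19520 (tt N17856 F234379) (tt N17476 F234380) (tt N17930 F234381) (tt N19520 F234382) (tt N17854 F234383) (tt N21320 (iv F242497)) (tt N17472 F234384) (tt N21329 (iv F242530)) (tt N21330 D54100) (tt N17471 (iv D52290)))
theorem Q19522 : ∀ i, i < 19522 → P i := stepQ 19521 Q19521 (allL N19521 (tt N17865 F234385) (tt N17477 F234386) (tt N17931 F234387) (tt N20283 (iv F237630)) (tt N17864 F234388) (tt N17473 F234389) (tt N21330 (iv F242535)) (tt N19521 F234390) (tt N17472 (iv D52291)) (tt N17928 F234391))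
theorem Q19523 : ∀ i, i < 19523 → P i := stepQ 19522 Q19522 (allL N19522 (tt N21328 (iv F242518)) (tt N17478 F234392) (tt N21057 (iv F241339)) (tt N17473 (iv D52292)) (tt N20976 (iv F241043)) (tt N20283 F237634) (tt N21322 (iv F242503)) (tt N19522 F234393) (tt N19522 F234394) (tt N20338 (iv F237929)))
theorem Q19524 : ∀ i, i < 19524 → P i := stepQ 19523 Q19523 (allL N19523 (tt N20760 (iv F240032)) (tt N21329 (iv F242525)) (tt N17480 F234395) (tt N19523 F234396) (tt N20336 (iv F237913)) (tt N21323 (iv F242507)) (tt N19523 F234397) (tt N17476 F234398) (tt N21331 D54101) (tt N17475 (iv D52293)))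
theorem Q19525 : ∀ i, i < 19525 → P i := stepQ 19524 Q19524 (allL N19524 (tt N20762 (iv F240045)) (tt N21330 (iv F242532)) (tt N17481 F234399) (tt N21332 D54102) (tt N20337 (iv F237920)) (tt N21324 (iv F242510)) (tt N17477 F234400) (tt N21331 (iv F242539)) (tt N17476 (iv D52294)) (tt N21161 (iv F241847)))
theorem Q19526 : ∀ i, i < 19526 → P i := stepQ 19525 Q19525 (allL N19525 (tt N20763 (iv F240051)) (tt N20283 (iv F237629)) (tt N20201 (iv F237153)) (tt N17477 (iv D52295)) (tt N20282 (iv F237623)) (tt N17478 F234401) (tt N21332 (iv F242540)) (tt N19525 F234402) (tt N19525 F234403) (tt N20335 (iv F237908)))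
theorem Q19527 : ∀ i, i < 19527 → P i := stepQ 19526 Q19526 (allL N19526 (tt N20761 (iv F240039)) (tt N17937 F234404) (tt N21331 (iv F242537)) (tt N20197 (iv F237127)) (tt N20339 (iv F237931)) (tt N21327 (iv F242516)) (tt N19526 F234405) (tt N17481 F234406) (tt N17480 (iv D52296)) (tt N21268 (iv F242318)))
theorem Q19528 : ∀ i, i < 19528 → P i := stepQ 19527 Q19527 (allL N19527 (tt N21214 (iv F242069)) (tt N20750 (iv F239975)) (tt N17484 F234407) (tt N21333 D54103) (tt N20167 (iv F236932)) (tt N19527 F234408) (tt N17488 F234409) (tt N20173 (iv F236974)) (tt N17483 (iv D52297)) (tt N19527 F234410))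
theorem Q19529 : ∀ i, i < 19529 → P i := stepQ 19528 Q19528 (allL N19528 (tt N21092 (iv F241506)) (tt N17488 F234411) (tt N17504 F234412) (tt N21334 D54104) (tt N21085 (iv F241463)) (tt N17499 F234413) (tt N20750 (iv F239978)) (tt N17493 F234414) (tt N17485 (iv D52298)) (tt N19528 F234415))
theorem Q19530 : ∀ i, i < 19530 → P i := stepQ 19529 Q19529 (allL N19529 (tt N20243 (iv F237419)) (tt N20567 (iv F239185)) (tt N20111 F236610) (tt N19529 F234416) (tt N21278 (iv F242350)) (tt N19529 F234417) (tt N20113 (iv F236623)) (tt N17494 F234418) (tt N17486 (iv D52299)) (tt N21335 D54105))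
theorem Q19531 : ∀ i, i < 19531 → P i := stepQ 19530 Q19530 (allL N19530 (tt N21216 (iv F242081)) (tt N20848 (iv F240455)) (tt N20131 (iv F236730)) (tt N17487 F234419) (tt N21279 (iv F242353)) (tt N19530 F234420) (tt N20133 (iv F236746)) (tt N17495 F234421) (tt N21336 D54106) (tt N17486 (iv D52300)))
theorem Q19532 : ∀ i, i < 19532 → P i := stepQ 19531 Q19531 (allL N19531 (tt N21217 (iv F242087)) (tt N21085 (iv F241461)) (tt N17489 F234422) (tt N21337 D54107) (tt N17488 F234423) (tt N19531 F234424) (tt N20167 (iv F236934)) (tt N17496 F234425) (tt N17487 (iv D52301)) (tt N19531 F234426))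
theorem Q19533 : ∀ i, i < 19533 → P i := stepQ 19532 Q19532 (allL N19532 (tt N21218 (iv F242094)) (tt N21334 (iv F242546)) (tt N20365 (iv F238072)) (tt N17488 (iv D52302)) (tt N21338 D54108) (tt N17500 F234427) (tt N21333 (iv F242544)) (tt N17497 F234428) (tt N21282 (iv F242364)) (tt N19532 F234429))
theorem Q19534 : ∀ i, i < 19534 → P i := stepQ 19533 Q19533 (allL N19533 (tt N17493 F234430) (tt N21219 (iv F242100)) (tt N17506 F234431) (tt N20348 (iv F237978)) (tt N21087 (iv F241477)) (tt N17501 F234432) (tt N20358 (iv F238034)) (tt N21092 (iv F241511)) (tt N17490 (iv D52303)) (tt N19533 F234433))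
theorem Q19535 : ∀ i, i < 19535 → P i := stepQ 19534 Q19534 (allL N19534 (tt N20636 (iv F239511)) (tt N17494 F234434) (tt N20565 (iv F239175)) (tt N19534 F234435) (tt N21289 (iv F242388)) (tt N19534 F234436) (tt N20359 (iv F238041)) (tt N20567 (iv F239189)) (tt N17491 (iv D52304)) (tt N21339 D54109))
theorem Q19536 : ∀ i, i < 19536 → P i := stepQ 19535 Q19535 (allL N19535 (tt N20915 (iv F240780)) (tt N17495 F234437) (tt N20846 (iv F240443)) (tt N17492 F234438) (tt N21290 (iv F242391)) (tt N19535 F234439) (tt N20360 (iv F238047)) (tt N20848 (iv F240460)) (tt N21340 D54110) (tt N17491 (iv D52305)))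
theorem Q19537 : ∀ i, i < 19537 → P i := stepQ 19536 Q19536 (allL N19536 (tt N21087 (iv F241475)) (tt N17496 F234440) (tt N17507 F234441) (tt N21341 D54111) (tt N17493 F234442) (tt N19536 F234443) (tt N20361 (iv F238053)) (tt N21085 (iv F241466)) (tt N17492 (iv D52306)) (tt N19536 F234444))
theorem Q19538 : ∀ i, i < 19538 → P i := stepQ 19537 Q19537 (allL N19537 (tt N20348 (iv F237977)) (tt N17497 F234445) (tt N20239 (iv F237395)) (tt N17493 (iv D52307)) (tt N21342 D54112) (tt N17502 F234446) (tt N20362 (iv F238058)) (tt N21334 (iv F242549)) (tt N21294 (iv F242407)) (tt N19537 F234447))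
theorem Q19539 : ∀ i, i < 19539 → P i := stepQ 19538 Q19538 (allL N19538 (tt N20248 (iv F237444)) (tt N21339 (iv F242561)) (tt N20206 (iv F237190)) (tt N19538 F234448) (tt N21298 (iv F242418)) (tt N19538 F234449) (tt N20363 (iv F238064)) (tt N21335 (iv F242553)) (tt N21343 D54113) (tt N17494 (iv D52308)))
theorem Q19540 : ∀ i, i < 19540 → P i := stepQ 19539 Q19539 (allL N19539 (tt N21223 (iv F242119)) (tt N21340 (iv F242564)) (tt N21142 (iv F241746)) (tt N21344 D54114) (tt N21299 (iv F242419)) (tt N19539 F234450) (tt N20364 (iv F238069)) (tt N21336 (iv F242555)) (tt N17495 (iv D52309)) (tt N21343 (iv F242572)))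
theorem Q19541 : ∀ i, i < 19541 → P i := stepQ 19540 Q19540 (allL N19540 (tt N21224 (iv F242123)) (tt N21341 (iv F242566)) (tt N21333 (iv F242542)) (tt N17496 (iv D52310)) (tt N21345 D54115) (tt N19540 F234451) (tt N20365 (iv F238074)) (tt N21337 (iv F242557)) (tt N21344 (iv F242574)) (tt N19540 F234452))
theorem Q19542 : ∀ i, i < 19542 → P i := stepQ 19541 Q19541 (allL N19541 (tt N21225 (iv F242127)) (tt N21342 (iv F242569)) (tt N21165 (iv F241861)) (tt N21345 (iv F242575)) (tt N17497 (iv D52311)) (tt N21346 D54116) (tt N20366 (iv F238077)) (tt N21338 (iv F242559)) (tt N21304 (iv F242428)) (tt N19541 F234453))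
theorem Q19543 : ∀ i, i < 19543 → P i := stepQ 19542 Q19542 (allL N19542 (tt N17499 F234454) (tt N21226 (iv F242131)) (tt N17509 F234455) (tt N20345 (iv F237964)) (tt N19542 F234456) (tt N21092 (iv F241509)) (tt N19542 F234457) (tt N17501 F234458) (tt N17498 (iv D52312)) (tt N19542 F234459))
theorem Q19544 : ∀ i, i < 19544 → P i := stepQ 19543 Q19543 (allL N19543 (tt N20345 (iv F237963)) (tt N17500 F234460) (tt N17998 F234461) (tt N17499 (iv D52313)) (tt N21072 (iv F241400)) (tt N21334 (iv F242548)) (tt N19543 F234462) (tt N17502 F234463) (tt N21314 (iv F242469)) (tt N19543 F234464))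
theorem Q19545 : ∀ i, i < 19545 → P i := stepQ 19544 Q19544 (allL N19544 (tt N21228 (iv F242141)) (tt N21072 F241404) (tt N21168 (iv F241876)) (tt N19544 F234465) (tt N17500 (iv D52314)) (tt N21347 D54117) (tt N19544 F234466) (tt N17503 F234467) (tt N21317 (iv F242480)) (tt N19544 F234468))
theorem Q19546 : ∀ i, i < 19546 → P i := stepQ 19545 Q19545 (allL N19545 (tt N21230 (iv F242152)) (tt N21067 F241384) (tt N21169 (iv F241882)) (tt N19545 F234469) (tt N21346 (iv F242577)) (tt N17503 (iv D52315)) (tt N21069 (iv F241389)) (tt N21347 (iv F242580)) (tt N21326 (iv F242514)) (tt N19545 F234470))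
theorem Q19547 : ∀ i, i < 19547 → P i := stepQ 19546 Q19546 (allL N19546 (tt N17517 F234471) (tt N17526 F234472) (tt N20441 (iv F238525)) (tt N17524 F234473) (tt N17518 F234474) (tt N20381 (iv F238175)) (tt N17521 F234475) (tt N17556 F234476) (tt N17510 (iv D52316)) (tt N17513 F234477))
theorem Q19548 : ∀ i, i < 19548 → P i := stepQ 19547 Q19547 (allL N19547 (tt N17518 F234478) (tt N17524 F234479) (tt N20440 (iv F238517)) (tt N17526 F234480) (tt N17517 F234481) (tt N20403 (iv F238320)) (tt N17513 F234482) (tt N17581 F234483) (tt N17511 (iv D52317)) (tt N17521 F234484))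
theorem Q19549 : ∀ i, i < 19549 → P i := stepQ 19548 Q19548 (allL N19548 (tt N17520 F234485) (tt N20432 (iv F238484)) (tt N17513 F234486) (tt N21348 D54118) (tt N20431 (iv F238479)) (tt N20384 (iv F238195)) (tt N20440 (iv F238520)) (tt N17565 F234487) (tt N17512 (iv D52318)) (tt N20441 (iv F238529)))
theorem Q19550 : ∀ i, i < 19550 → P i := stepQ 19549 Q19549 (allL N19549 (tt N17980 F234488) (tt N17515 F234489) (tt N19549 F234490) (tt N21349 D54119) (tt N19549 F234491) (tt N17975 F234492) (tt N20423 (iv F238431)) (tt N17572 F234493) (tt N17514 (iv D52319)) (tt N19549 F234494))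
theorem Q19551 : ∀ i, i < 19551 → P i := stepQ 19550 Q19550 (allL N19550 (tt N17522 F234495) (tt N21349 (iv F242587)) (tt N17529 F234496) (tt N17515 (iv D52320)) (tt N21350 D54120) (tt N20387 (iv F238217)) (tt N20025 (iv F236043)) (tt N17573 F234497) (tt N21348 (iv F242585)) (tt N19550 F234498))
theorem Q19552 : ∀ i, i < 19552 → P i := stepQ 19551 Q19551 (allL N19551 (tt N20441 (iv F238523)) (tt N20429 (iv F238466)) (tt N17517 F234499) (tt N21351 D54121) (tt N20440 (iv F238518)) (tt N20390 (iv F238236)) (tt N20431 (iv F238481)) (tt N17580 F234500) (tt N17516 (iv D52321)) (tt N17520 F234501))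
theorem Q19553 : ∀ i, i < 19553 → P i := stepQ 19552 Q19552 (allL N19552 (tt N20431 (iv F238476)) (tt N20437 (iv F238503)) (tt N17521 F234502) (tt N21352 D54122) (tt N17520 F234503) (tt N20406 (iv F238338)) (tt N20441 (iv F238527)) (tt N17598 F234504) (tt N17519 (iv D52322)) (tt N20440 (iv F238522)))
theorem Q19554 : ∀ i, i < 19554 → P i := stepQ 19553 Q19553 (allL N19553 (tt N21348 (iv F242582)) (tt N20438 (iv F238508)) (tt N17542 F234505) (tt N17520 (iv D52323)) (tt N21353 D54123) (tt N20396 (iv F238273)) (tt N20442 (iv F238533)) (tt N17599 F234506) (tt N17522 F234507) (tt N21351 (iv F242599)))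
theorem Q19555 : ∀ i, i < 19555 → P i := stepQ 19554 Q19554 (allL N19554 (tt N21350 (iv F242591)) (tt N20424 (iv F238435)) (tt N17551 F234508) (tt N19554 F234509) (tt N17522 (iv D52324)) (tt N21354 D54124) (tt N20449 (iv F238559)) (tt N17607 F234510) (tt N21353 (iv F242604)) (tt N19554 F234511))
theorem Q19556 : ∀ i, i < 19556 → P i := stepQ 19555 Q19555 (allL N19555 (tt N17531 F234512) (tt N20430 (iv F238471)) (tt N17524 F234513) (tt N21355 D54125) (tt N20019 (iv F235999)) (tt N20412 (iv F238378)) (tt N20020 (iv F236009)) (tt N17614 F234514) (tt N17523 (iv D52325)) (tt N17527 F234515))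
theorem Q19557 : ∀ i, i < 19557 → P i := stepQ 19556 Q19556 (allL N19556 (tt N17534 F234516) (tt N20381 (iv F238173)) (tt N20022 (iv F236022)) (tt N20403 (iv F238319)) (tt N21103 (iv F241565)) (tt N17526 F234517) (tt N20414 (iv F238387)) (tt N20095 (iv F236513)) (tt N17525 (iv D52326)) (tt N20377 (iv F238147)))
theorem Q19558 : ∀ i, i < 19558 → P i := stepQ 19557 Q19557 (allL N19557 (tt N17542 F234518) (tt N20439 (iv F238512)) (tt N21348 (iv F242583)) (tt N17527 (iv D52327)) (tt N21356 D54126) (tt N20421 (iv F238420)) (tt N20023 (iv F236029)) (tt N17627 F234519) (tt N17529 F234520) (tt N21355 (iv F242612)))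
theorem Q19559 : ∀ i, i < 19559 → P i := stepQ 19558 Q19558 (allL N19558 (tt N17551 F234521) (tt N20387 (iv F238214)) (tt N21350 (iv F242592)) (tt N17975 F234522) (tt N17529 (iv D52328)) (tt N21349 (iv F242588)) (tt N20017 (iv F235983)) (tt N17635 F234523) (tt N21356 (iv F242615)) (tt N19558 F234524))
theorem Q19560 : ∀ i, i < 19560 → P i := stepQ 19559 Q19559 (allL N19559 (tt N20406 (iv F238336)) (tt N17531 F234525) (tt N20018 (iv F235988)) (tt N21357 D54127) (tt N20393 (iv F238253)) (tt N20431 (iv F238480)) (tt N21102 (iv F241560)) (tt N17644 F234526) (tt N17530 (iv D52329)) (tt N17539 F234527))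
theorem Q19561 : ∀ i, i < 19561 → P i := stepQ 19560 Q19560 (allL N19560 (tt N21355 (iv F242609)) (tt N21357 (iv F242616)) (tt N21351 (iv F242596)) (tt N17531 (iv D52330)) (tt N21358 D54128) (tt N20433 (iv F238489)) (tt N21104 (iv F241569)) (tt N17646 F234528) (tt N19560 F234529) (tt N17542 F234530))
theorem Q19562 : ∀ i, i < 19562 → P i := stepQ 19561 Q19561 (allL N19561 (tt N20022 (iv F236020)) (tt N20385 (iv F238199)) (tt N17534 F234531) (tt N21359 D54129) (tt N20377 (iv F238144)) (tt N17536 F234532) (tt N20395 (iv F238270)) (tt N20069 (iv F236342)) (tt N17532 (iv D52331)) (tt N21103 (iv F241568)))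
theorem Q19563 : ∀ i, i < 19563 → P i := stepQ 19562 Q19562 (allL N19562 (tt N21103 (iv F241563)) (tt N20434 (iv F238493)) (tt N20377 (iv F238142)) (tt N21360 D54130) (tt N17534 F234533) (tt N20020 (iv F236008)) (tt N20436 (iv F238502)) (tt N20081 (iv F236426)) (tt N17533 (iv D52332)) (tt N20022 (iv F236026)))
theorem Q19564 : ∀ i, i < 19564 → P i := stepQ 19563 Q19563 (allL N19563 (tt N20397 (iv F238276)) (tt N17536 F234534) (tt N20393 (iv F238251)) (tt N21361 D54131) (tt N20018 (iv F235990)) (tt N20385 (iv F238202)) (tt N17539 F234535) (tt N20064 (iv F236304)) (tt N17535 (iv D52333)) (tt N21102 (iv F241562)))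
theorem Q19565 : ∀ i, i < 19565 → P i := stepQ 19564 Q19564 (allL N19564 (tt N20023 (iv F236027)) (tt N21361 (iv F242628)) (tt N20442 (iv F238531)) (tt N17536 (iv D52334)) (tt N20447 (iv F238548)) (tt N21359 (iv F242624)) (tt N17542 F234536) (tt N20070 (iv F236349)) (tt N17548 F234537) (tt N21104 (iv F241572)))
theorem Q19566 : ∀ i, i < 19566 → P i := stepQ 19565 Q19565 (allL N19565 (tt N17539 F234538) (tt N20418 (iv F238408)) (tt N20403 (iv F238318)) (tt N21362 D54132) (tt N20404 (iv F238325)) (tt N20440 (iv F238519)) (tt N20397 (iv F238280)) (tt N17679 F234539) (tt N17537 (iv D52335)) (tt N20406 (iv F238340)))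
theorem Q19567 : ∀ i, i < 19567 → P i := stepQ 19566 Q19566 (allL N19566 (tt N20404 (iv F238323)) (tt N17541 F234540) (tt N21102 (iv F241558)) (tt N20427 (iv F238453)) (tt N17539 F234541) (tt N20388 (iv F238223)) (tt N20018 (iv F235992)) (tt N17681 F234542) (tt N17538 (iv D52336)) (tt N20393 (iv F238257)))
theorem Q19568 : ∀ i, i < 19568 → P i := stepQ 19567 Q19567 (allL N19567 (tt N21362 (iv F242631)) (tt N17542 F234543) (tt N21359 (iv F242623)) (tt N17539 (iv D52337)) (tt N21363 D54133) (tt N20442 (iv F238532)) (tt N21361 (iv F242629)) (tt N17682 F234544) (tt N17550 F234545) (tt N21357 (iv F242619)))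
theorem Q19569 : ∀ i, i < 19569 → P i := stepQ 19568 Q19568 (allL N19568 (tt N20015 (iv F235966)) (tt N20388 (iv F238221)) (tt N17544 F234546) (tt N20019 (iv F235998)) (tt N20443 (iv F238537)) (tt N17541 F234547) (tt N20011 (iv F235939)) (tt N17684 F234548) (tt N17540 (iv D52338)) (tt N20013 (iv F235957)))
theorem Q19570 : ∀ i, i < 19570 → P i := stepQ 19569 Q19569 (allL N19569 (tt N20013 (iv F235950)) (tt N20427 (iv F238452)) (tt N20011 (iv F235936)) (tt N17541 (iv D52339)) (tt N20446 (iv F238545)) (tt N20019 (iv F236000)) (tt N17544 F234549) (tt N17685 F234550) (tt N17543 F234551) (tt N20015 (iv F235973)))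
theorem Q19571 : ∀ i, i < 19571 → P i := stepQ 19570 Q19570 (allL N19570 (tt N21356 (iv F242613)) (tt N21363 (iv F242634)) (tt N21353 (iv F242602)) (tt N20446 (iv F238544)) (tt N17542 (iv D52340)) (tt N21364 D54134) (tt N20447 (iv F238550)) (tt N17686 F234552) (tt N17551 F234553) (tt N21358 (iv F242622)))
theorem Q19572 : ∀ i, i < 19572 → P i := stepQ 19571 Q19571 (allL N19571 (tt N20024 (iv F236032)) (tt N20386 (iv F238206)) (tt N17550 F234554) (tt N17545 (iv D52341)) (tt N20399 (iv F238288)) (tt N17548 F234555) (tt N20401 (iv F238306)) (tt N17708 F234556) (tt N21359 (iv F242626)) (tt N19571 F234557))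
theorem Q19573 : ∀ i, i < 19573 → P i := stepQ 19572 Q19572 (allL N19572 (tt N20399 (iv F238285)) (tt N17548 F234558) (tt N20401 (iv F238303)) (tt N17547 (iv D52342)) (tt N20024 (iv F236035)) (tt N20386 (iv F238209)) (tt N17550 F234559) (tt N20065 (iv F236312)) (tt N21361 (iv F242630)) (tt N19572 F234560))
theorem Q19574 : ∀ i, i < 19574 → P i := stepQ 19573 Q19573 (allL N19573 (tt N17550 F234561) (tt N20402 (iv F238310)) (tt N20024 (iv F236034)) (tt N17549 (iv D52343)) (tt N20401 (iv F238304)) (tt N20025 (iv F236042)) (tt N20399 (iv F238290)) (tt N17707 F234562) (tt N21362 (iv F242633)) (tt N19573 F234563))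
theorem Q19575 : ∀ i, i < 19575 → P i := stepQ 19574 Q19574 (allL N19574 (tt N20401 (iv F238301)) (tt N17551 F234564) (tt N20399 (iv F238287)) (tt N17979 F234565) (tt N17550 (iv D52344)) (tt N20400 (iv F238296)) (tt N20024 (iv F236037)) (tt N17709 F234566) (tt N21363 (iv F242636)) (tt N19574 F234567))
theorem Q19576 : ∀ i, i < 19576 → P i := stepQ 19575 Q19575 (allL N19575 (tt N21349 (iv F242586)) (tt N20400 F238300) (tt N21354 (iv F242605)) (tt N17980 F234568) (tt N20450 (iv F238563)) (tt N17551 (iv D52345)) (tt N20425 (iv F238443)) (tt N17710 F234569) (tt N21364 (iv F242638)) (tt N19575 F234570))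
theorem Q19577 : ∀ i, i < 19577 → P i := stepQ 19576 Q19576 (allL N19576 (tt N17575 F234571) (tt N17617 F234572) (tt N20689 (iv F239730)) (tt N17748 F234573) (tt N17553 (iv D52346)) (tt N17582 F234574) (tt N20461 (iv F238637)) (tt N17586 F234575) (tt N17560 F234576) (tt N21365 D54135))
theorem Q19578 : ∀ i, i < 19578 → P i := stepQ 19577 Q19577 (allL N19577 (tt N17576 F234577) (tt N17618 F234578) (tt N20709 (iv F239806)) (tt N17554 F234579) (tt N21365 (iv F242642)) (tt N17555 F234580) (tt N20462 (iv F238643)) (tt N17593 F234581) (tt N21366 D54136) (tt N17553 (iv D52347)))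
theorem Q19579 : ∀ i, i < 19579 → P i := stepQ 19578 Q19578 (allL N19578 (tt N17578 F234582) (tt N17623 F234583) (tt N20710 (iv F239812)) (tt N17612 F234584) (tt N17589 F234585) (tt N21366 (iv F242648)) (tt N17556 F234586) (tt N17594 F234587) (tt N17555 (iv D52348)) (tt N17564 F234588))
theorem Q19580 : ∀ i, i < 19580 → P i := stepQ 19579 Q19579 (allL N19579 (tt N17582 F234589) (tt N17609 F234590) (tt N20686 (iv F239712)) (tt N17724 F234591) (tt N17557 (iv D52349)) (tt N17575 F234592) (tt N20550 (iv F239098)) (tt N17560 F234593) (tt N17586 F234594) (tt N21367 D54137))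
theorem Q19581 : ∀ i, i < 19581 → P i := stepQ 19580 Q19580 (allL N19580 (tt N17583 F234595) (tt N17610 F234596) (tt N20687 (iv F239718)) (tt N17558 F234597) (tt N21367 (iv F242654)) (tt N17562 F234598) (tt N20551 (iv F239105)) (tt N17561 F234599) (tt N21368 D54138) (tt N17557 (iv D52350)))
theorem Q19582 : ∀ i, i < 19582 → P i := stepQ 19581 Q19581 (allL N19581 (tt N17584 F234600) (tt N20655 (iv F239596)) (tt N17560 F234601) (tt N20777 (iv F240122)) (tt N17559 (iv D52351)) (tt N20652 (iv F239583)) (tt N20474 (iv F238716)) (tt N20686 (iv F239715)) (tt N20689 (iv F239733)) (tt N21369 D54139))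
theorem Q19583 : ∀ i, i < 19583 → P i := stepQ 19582 Q19582 (allL N19582 (tt N17585 F234602) (tt N20665 (iv F239638)) (tt N17561 F234603) (tt N17567 F234604) (tt N21369 (iv F242665)) (tt N17563 F234605) (tt N20475 (iv F238722)) (tt N20687 (iv F239722)) (tt N21370 D54140) (tt N17559 (iv D52352)))
theorem Q19584 : ∀ i, i < 19584 → P i := stepQ 19583 Q19583 (allL N19583 (tt N17587 F234606) (tt N21110 (iv F241602)) (tt N21369 (iv F242664)) (tt N17726 F234607) (tt N17561 F234608) (tt N21108 (iv F241593)) (tt N20477 (iv F238734)) (tt N21367 (iv F242656)) (tt N21371 D54141) (tt N17560 (iv D52353)))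
theorem Q19585 : ∀ i, i < 19585 → P i := stepQ 19584 Q19584 (allL N19584 (tt N17588 F234609) (tt N21112 (iv F241610)) (tt N21370 (iv F242667)) (tt N17622 F234610) (tt N21371 (iv F242670)) (tt N17564 F234611) (tt N20478 (iv F238738)) (tt N21368 (iv F242661)) (tt N17561 (iv D52354)) (tt N21366 (iv F242650)))
theorem Q19586 : ∀ i, i < 19586 → P i := stepQ 19585 Q19585 (allL N19585 (tt N17589 F234612) (tt N17612 F234613) (tt N20708 (iv F239799)) (tt N17623 F234614) (tt N17578 F234615) (tt N21368 (iv F242660)) (tt N17581 F234616) (tt N17564 F234617) (tt N17562 (iv D52355)) (tt N17594 F234618))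
theorem Q19587 : ∀ i, i < 19587 → P i := stepQ 19586 Q19586 (allL N19586 (tt N17592 F234619) (tt N20666 (iv F239642)) (tt N17564 F234620) (tt N21372 D54142) (tt N20664 (iv F239634)) (tt N21370 (iv F242668)) (tt N17565 F234621) (tt N20708 (iv F239802)) (tt N17563 (iv D52356)) (tt N20710 (iv F239816)))
theorem Q19588 : ∀ i, i < 19588 → P i := stepQ 19587 Q19587 (allL N19587 (tt N17599 F234622) (tt N20672 (iv F239665)) (tt N17627 F234623) (tt N17565 (iv D52357)) (tt N21373 D54143) (tt N20484 (iv F238773)) (tt N21372 (iv F242673)) (tt N21348 (iv F242584)) (tt N17573 F234624) (tt N20720 (iv F239845)))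
theorem Q19589 : ∀ i, i < 19589 → P i := stepQ 19588 Q19588 (allL N19588 (tt N20626 (iv F239449)) (tt N17567 F234625) (tt N19588 F234626) (tt N20665 (iv F239640)) (tt N20161 (iv F236895)) (tt N17569 F234627) (tt N20055 (iv F236235)) (tt N20622 (iv F239431)) (tt N21374 D54144) (tt N17566 (iv D52358)))
theorem Q19590 : ∀ i, i < 19590 → P i := stepQ 19589 Q19589 (allL N19589 (tt N17602 F234628) (tt N21374 (iv F242679)) (tt N17568 F234629) (tt N21375 D54145) (tt N20820 (iv F240328)) (tt N17570 F234630) (tt N20488 (iv F238800)) (tt N20741 (iv F239935)) (tt N17567 (iv D52359)) (tt N19589 F234631))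
theorem Q19591 : ∀ i, i < 19591 → P i := stepQ 19590 Q19590 (allL N19590 (tt N18003 F234632) (tt N17570 F234633) (tt N19590 F234634) (tt N21376 D54146) (tt N19590 F234635) (tt N21374 (iv F242681)) (tt N17572 F234636) (tt N20631 (iv F239487)) (tt N17569 (iv D52360)) (tt N19590 F234637))
theorem Q19592 : ∀ i, i < 19592 → P i := stepQ 19591 Q19591 (allL N19591 (tt N17604 F234638) (tt N21376 (iv F242689)) (tt N17632 F234639) (tt N17570 (iv D52361)) (tt N21377 D54147) (tt N21375 (iv F242686)) (tt N17573 F234640) (tt N20103 (iv F236558)) (tt N21372 (iv F242674)) (tt N19591 F234641))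
theorem Q19593 : ∀ i, i < 19593 → P i := stepQ 19592 Q19592 (allL N19592 (tt N17710 F234642) (tt N17573 F234643) (tt N20635 (iv F239507)) (tt N17572 (iv D52362)) (tt N20634 F239504) (tt N17635 F234644) (tt N21376 (iv F242690)) (tt N21349 (iv F242589)) (tt N20672 (iv F239667)) (tt N19592 F234645))
theorem Q19594 : ∀ i, i < 19594 → P i := stepQ 19593 Q19593 (allL N19593 (tt N17607 F234646) (tt N20634 (iv F239500)) (tt N17635 F234647) (tt N19593 F234648) (tt N17573 (iv D52363)) (tt N20635 (iv F239509)) (tt N21377 (iv F242695)) (tt N21350 (iv F242594)) (tt N21373 (iv F242677)) (tt N19593 F234649))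
theorem Q19595 : ∀ i, i < 19595 → P i := stepQ 19594 Q19594 (allL N19594 (tt N20689 (iv F239728)) (tt N20647 (iv F239562)) (tt N17575 F234650) (tt N21378 D54148) (tt N17574 (iv D52364)) (tt N20686 (iv F239713)) (tt N20496 (iv F238841)) (tt N20652 (iv F239585)) (tt N17584 F234651) (tt N21379 D54149))
theorem Q19596 : ∀ i, i < 19596 → P i := stepQ 19595 Q19595 (allL N19595 (tt N20709 (iv F239804)) (tt N20648 (iv F239566)) (tt N17576 F234652) (tt N19595 F234653) (tt N21379 (iv F242699)) (tt N17577 F234654) (tt N20497 (iv F238846)) (tt N20653 (iv F239593)) (tt N21380 D54150) (tt N17574 (iv D52365)))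
theorem Q19597 : ∀ i, i < 19597 → P i := stepQ 19596 Q19596 (allL N19596 (tt N21365 (iv F242639)) (tt N21105 (iv F241574)) (tt N21379 (iv F242698)) (tt N21170 (iv F241887)) (tt N17576 F234655) (tt N21367 (iv F242655)) (tt N20499 (iv F238850)) (tt N21108 (iv F241594)) (tt N21381 D54151) (tt N17575 (iv D52366)))
theorem Q19598 : ∀ i, i < 19598 → P i := stepQ 19597 Q19597 (allL N19597 (tt N21366 (iv F242645)) (tt N21106 (iv F241580)) (tt N21380 (iv F242700)) (tt N17640 F234656) (tt N21381 (iv F242703)) (tt N17578 F234657) (tt N20500 (iv F238853)) (tt N21109 (iv F241599)) (tt N17576 (iv D52367)) (tt N17588 F234658))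
theorem Q19599 : ∀ i, i < 19599 → P i := stepQ 19598 Q19598 (allL N19598 (tt N20710 (iv F239810)) (tt N20661 (iv F239617)) (tt N17578 F234659) (tt N21382 D54152) (tt N20708 (iv F239800)) (tt N21380 (iv F242701)) (tt N17580 F234660) (tt N20664 (iv F239636)) (tt N17577 (iv D52368)) (tt N17592 F234661))
theorem Q19600 : ∀ i, i < 19600 → P i := stepQ 19599 Q19599 (allL N19599 (tt N20617 (iv F239407)) (tt N17580 F234662) (tt N20428 (iv F238459)) (tt N21383 D54153) (tt N20616 (iv F239404)) (tt N20507 (iv F238882)) (tt N20661 (iv F239619)) (tt N20429 (iv F238469)) (tt N17579 (iv D52369)) (tt N17597 F234663))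
theorem Q19601 : ∀ i, i < 19601 → P i := stepQ 19600 Q19600 (allL N19600 (tt N20720 (iv F239841)) (tt N21383 (iv F242709)) (tt N17646 F234664) (tt N17580 (iv D52370)) (tt N21384 D54154) (tt N20509 (iv F238890)) (tt N21382 (iv F242706)) (tt N21351 (iv F242597)) (tt N19600 F234665) (tt N17599 F234666))
theorem Q19602 : ∀ i, i < 19602 → P i := stepQ 19601 Q19601 (allL N19601 (tt N21367 (iv F242651)) (tt N20085 (iv F236446)) (tt N20690 (iv F239735)) (tt N17749 F234667) (tt N17583 F234668) (tt N21365 (iv F242643)) (tt N21121 (iv F241657)) (tt N17587 F234669) (tt N21385 D54155) (tt N17582 (iv D52371)))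
theorem Q19603 : ∀ i, i < 19603 → P i := stepQ 19602 Q19602 (allL N19602 (tt N21368 (iv F242657)) (tt N20086 (iv F236454)) (tt N20691 (iv F239740)) (tt N17654 F234670) (tt N21385 (iv F242715)) (tt N17589 F234671) (tt N21122 (iv F241662)) (tt N17588 F234672) (tt N17583 (iv D52372)) (tt N21109 (iv F241600)))
theorem Q19604 : ∀ i, i < 19604 → P i := stepQ 19603 Q19603 (allL N19603 (tt N20777 (iv F240120)) (tt N20680 (iv F239688)) (tt N17753 F234673) (tt N17584 (iv D52373)) (tt N17600 F234674) (tt N21386 D54156) (tt N20519 (iv F238942)) (tt N20688 (iv F239727)) (tt N21387 D54157) (tt N21388 D54158))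
theorem Q19605 : ∀ i, i < 19605 → P i := stepQ 19604 Q19604 (allL N19604 (tt N20652 (iv F239580)) (tt N20681 (iv F239692)) (tt N17586 F234675) (tt N21386 (iv F242718)) (tt N17590 F234676) (tt N17584 (iv D52374)) (tt N20556 (iv F239130)) (tt N20689 (iv F239732)) (tt N20686 (iv F239716)) (tt N21389 D54159))
theorem Q19606 : ∀ i, i < 19606 → P i := stepQ 19605 Q19605 (allL N19605 (tt N21369 (iv F242663)) (tt N20682 (iv F239696)) (tt N17587 F234677) (tt N21388 (iv F242724)) (tt N17585 F234678) (tt N21389 (iv F242728)) (tt N20520 (iv F238947)) (tt N20690 (iv F239738)) (tt N21390 D54160) (tt N17584 (iv D52375)))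
theorem Q19607 : ∀ i, i < 19607 → P i := stepQ 19606 Q19606 (allL N19606 (tt N21370 (iv F242666)) (tt N20683 (iv F239700)) (tt N17588 F234679) (tt N21391 D54161) (tt N21390 (iv F242730)) (tt N17592 F234680) (tt N20521 (iv F238950)) (tt N20691 (iv F239743)) (tt N17585 (iv D52376)) (tt N21380 (iv F242702)))
theorem Q19608 : ∀ i, i < 19608 → P i := stepQ 19607 Q19607 (allL N19607 (tt N21108 (iv F241589)) (tt N17621 F234681) (tt N21389 (iv F242726)) (tt N17757 F234682) (tt N17593 F234683) (tt N17587 F234684) (tt N20558 (iv F239140)) (tt N21365 (iv F242644)) (tt N21392 D54162) (tt N17586 (iv D52377)))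
theorem Q19609 : ∀ i, i < 19609 → P i := stepQ 19608 Q19608 (allL N19608 (tt N21371 (iv F242669)) (tt N21107 (iv F241586)) (tt N21390 (iv F242729)) (tt N21393 D54163) (tt N17588 F234685) (tt N21392 (iv F242736)) (tt N20524 (iv F238961)) (tt N21385 (iv F242716)) (tt N17587 (iv D52378)) (tt N21381 (iv F242704)))
theorem Q19610 : ∀ i, i < 19610 → P i := stepQ 19609 Q19609 (allL N19609 (tt N20653 (iv F239587)) (tt N20703 (iv F239777)) (tt N17593 F234686) (tt N19609 F234687) (tt N21389 (iv F242727)) (tt N17591 F234688) (tt N20557 (iv F239136)) (tt N20709 (iv F239809)) (tt N21394 D54164) (tt N17590 (iv D52379)))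
theorem Q19611 : ∀ i, i < 19611 → P i := stepQ 19610 Q19610 (allL N19610 (tt N20664 (iv F239631)) (tt N20704 (iv F239782)) (tt N17594 F234689) (tt N21395 D54165) (tt N17592 F234690) (tt N21394 (iv F242740)) (tt N17598 F234691) (tt N20710 (iv F239815)) (tt N17591 (iv D52380)) (tt N20708 (iv F239803)))
theorem Q19612 : ∀ i, i < 19612 → P i := stepQ 19611 Q19611 (allL N19611 (tt N21372 (iv F242671)) (tt N20705 (iv F239787)) (tt N17674 F234692) (tt N17592 (iv D52381)) (tt N21396 D54166) (tt N21391 (iv F242732)) (tt N17599 F234693) (tt N20711 (iv F239820)) (tt N17604 F234694) (tt N21382 (iv F242708)))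
theorem Q19613 : ∀ i, i < 19613 → P i := stepQ 19612 Q19612 (allL N19612 (tt N21109 (iv F241595)) (tt N17622 F234695) (tt N21394 (iv F242739)) (tt N21112 (iv F241611)) (tt N21392 (iv F242735)) (tt N17594 F234696) (tt N20559 (iv F239143)) (tt N21366 (iv F242649)) (tt N17593 (iv D52382)) (tt N21368 (iv F242662)))
theorem Q19614 : ∀ i, i < 19614 → P i := stepQ 19613 Q19613 (allL N19613 (tt N17597 F234697) (tt N20588 (iv F239289)) (tt N20415 (iv F238390)) (tt N20538 (iv F239019)) (tt N20587 (iv F239285)) (tt N20530 (iv F238981)) (tt N20606 (iv F239364)) (tt N20416 (iv F238398)) (tt N17595 (iv D52383)) (tt N20617 (iv F239410)))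
theorem Q19615 : ∀ i, i < 19615 → P i := stepQ 19614 Q19614 (allL N19614 (tt N20587 (iv F239282)) (tt N17598 F234698) (tt N17626 F234699) (tt N21397 D54167) (tt N17597 F234700) (tt N20563 (iv F239163)) (tt N20704 (iv F239785)) (tt N20437 (iv F238507)) (tt N17596 (iv D52384)) (tt N20616 (iv F239406)))
theorem Q19616 : ∀ i, i < 19616 → P i := stepQ 19615 Q19615 (allL N19615 (tt N20538 (iv F239018)) (tt N17599 F234701) (tt N20485 (iv F238777)) (tt N17597 (iv D52385)) (tt N20621 (iv F239423)) (tt N20532 (iv F238989)) (tt N20705 (iv F239788)) (tt N20438 (iv F238510)) (tt N17606 F234702) (tt N21383 (iv F242711)))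
theorem Q19617 : ∀ i, i < 19617 → P i := stepQ 19616 Q19616 (allL N19616 (tt N20671 (iv F239658)) (tt N21397 (iv F242746)) (tt N20082 (iv F236430)) (tt N17598 (iv D52386)) (tt N21398 D54168) (tt N20564 (iv F239166)) (tt N21395 (iv F242741)) (tt N21352 (iv F242600)) (tt N19616 F234703) (tt N20099 (iv F236533)))
theorem Q19618 : ∀ i, i < 19618 → P i := stepQ 19617 Q19617 (allL N19617 (tt N21373 (iv F242675)) (tt N20621 (iv F239422)) (tt N17686 F234704) (tt N21398 (iv F242748)) (tt N17599 (iv D52387)) (tt N21399 D54169) (tt N21396 (iv F242744)) (tt N21353 (iv F242603)) (tt N17607 F234705) (tt N21384 (iv F242714)))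
theorem Q19619 : ∀ i, i < 19619 → P i := stepQ 19618 Q19618 (allL N19618 (tt N20490 (iv F238810)) (tt N20735 (iv F239897)) (tt N17764 F234706) (tt N19618 F234707) (tt N21387 (iv F242721)) (tt N19618 F234708) (tt N17761 F234709) (tt N20742 (iv F239942)) (tt N17600 (iv D52388)) (tt N21400 D54170))
theorem Q19620 : ∀ i, i < 19620 → P i := stepQ 19619 Q19619 (allL N19619 (tt N20778 (iv F240124)) (tt N20736 (iv F239903)) (tt N17783 F234710) (tt N17601 F234711) (tt N21388 (iv F242725)) (tt N19619 F234712) (tt N20544 (iv F239059)) (tt N20743 (iv F239948)) (tt N21401 D54171) (tt N17600 (iv D52389)))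
theorem Q19621 : ∀ i, i < 19621 → P i := stepQ 19620 Q19620 (allL N19620 (tt N20820 (iv F240326)) (tt N20737 (iv F239908)) (tt N17603 F234713) (tt N21402 D54172) (tt N17602 F234714) (tt N19620 F234715) (tt N20545 (iv F239065)) (tt N20744 (iv F239954)) (tt N17601 (iv D52390)) (tt N19620 F234716))
theorem Q19622 : ∀ i, i < 19622 → P i := stepQ 19621 Q19621 (allL N19621 (tt N21375 (iv F242684)) (tt N20738 (iv F239914)) (tt N17701 F234717) (tt N17602 (iv D52391)) (tt N21403 D54173) (tt N17604 F234718) (tt N20546 (iv F239070)) (tt N20745 (iv F239960)) (tt N21391 (iv F242733)) (tt N19621 F234719))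
theorem Q19623 : ∀ i, i < 19623 → P i := stepQ 19622 Q19622 (allL N19622 (tt N21377 (iv F242692)) (tt N20625 (iv F239443)) (tt N17706 F234720) (tt N19622 F234721) (tt N17604 (iv D52392)) (tt N21404 D54174) (tt N17607 F234722) (tt N20734 (iv F239894)) (tt N21396 (iv F242745)) (tt N19622 F234723))
theorem Q19624 : ∀ i, i < 19624 → P i := stepQ 19623 Q19623 (allL N19623 (tt N20635 (iv F239505)) (tt N20058 (iv F236253)) (tt N17710 F234724) (tt N19623 F234725) (tt N20105 (iv F236570)) (tt N17607 (iv D52393)) (tt N21405 D54175) (tt N21354 (iv F242607)) (tt N21399 (iv F242751)) (tt N19623 F234726))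
theorem Q19625 : ∀ i, i < 19625 → P i := stepQ 19624 Q19624 (allL N19624 (tt N17637 F234727) (tt N20649 (iv F239571)) (tt N17609 F234728) (tt N21406 D54176) (tt N17608 (iv D52394)) (tt N20071 (iv F236356)) (tt N20574 (iv F239223)) (tt N20073 (iv F236373)) (tt N17619 F234729) (tt N21407 D54177))
theorem Q19626 : ∀ i, i < 19626 → P i := stepQ 19625 Q19625 (allL N19625 (tt N17638 F234730) (tt N20662 (iv F239622)) (tt N17610 F234731) (tt N19625 F234732) (tt N21407 (iv F242774)) (tt N17611 F234733) (tt N20575 (iv F239229)) (tt N20078 (iv F236407)) (tt N21408 D54178) (tt N17608 (iv D52395)))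
theorem Q19627 : ∀ i, i < 19627 → P i := stepQ 19626 Q19626 (allL N19626 (tt N17639 F234734) (tt N21367 (iv F242652)) (tt N21407 (iv F242773)) (tt N21191 (iv F241975)) (tt N17610 F234735) (tt N21105 (iv F241577)) (tt N20577 (iv F239235)) (tt N21110 (iv F241606)) (tt N21409 D54179) (tt N17609 (iv D52396)))
theorem Q19628 : ∀ i, i < 19628 → P i := stepQ 19627 Q19627 (allL N19627 (tt N17640 F234736) (tt N21368 (iv F242658)) (tt N21408 (iv F242776)) (tt N21366 (iv F242647)) (tt N21409 (iv F242780)) (tt N17612 F234737) (tt N20578 (iv F239238)) (tt N21112 (iv F241613)) (tt N17610 (iv D52397)) (tt N17622 F234738))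
theorem Q19629 : ∀ i, i < 19629 → P i := stepQ 19628 Q19628 (allL N19628 (tt N17642 F234739) (tt N20663 (iv F239626)) (tt N17612 F234740) (tt N21410 D54180) (tt N20076 (iv F236391)) (tt N21408 (iv F242777)) (tt N17614 F234741) (tt N20079 (iv F236413)) (tt N17611 (iv D52398)) (tt N17624 F234742))
theorem Q19630 : ∀ i, i < 19630 → P i := stepQ 19629 Q19629 (allL N19629 (tt N20563 (iv F239160)) (tt N17614 F234743) (tt N20616 (iv F239403)) (tt N21411 D54181) (tt N20428 (iv F238461)) (tt N20587 (iv F239286)) (tt N20663 (iv F239628)) (tt N20430 (iv F238474)) (tt N17613 (iv D52399)) (tt N17626 F234744))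
theorem Q19631 : ∀ i, i < 19631 → P i := stepQ 19630 Q19630 (allL N19630 (tt N17646 F234745) (tt N21411 (iv F242786)) (tt N20720 (iv F239843)) (tt N17614 (iv D52400)) (tt N20723 (iv F239854)) (tt N20589 (iv F239296)) (tt N21410 (iv F242783)) (tt N21355 (iv F242610)) (tt N19630 F234746) (tt N17627 F234747))
theorem Q19632 : ∀ i, i < 19632 → P i := stepQ 19631 Q19631 (allL N19631 (tt N17648 F234748) (tt N20461 (iv F238635)) (tt N20087 (iv F236463)) (tt N17796 F234749) (tt N17615 (iv D52401)) (tt N21125 (iv F241680)) (tt N17617 F234750) (tt N20591 (iv F239305)) (tt N20454 (iv F238596)) (tt N21412 D54182))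
theorem Q19633 : ∀ i, i < 19633 → P i := stepQ 19632 Q19632 (allL N19632 (tt N17649 F234751) (tt N20462 (iv F238640)) (tt N20091 (iv F236486)) (tt N17616 F234752) (tt N21412 (iv F242791)) (tt N20094 (iv F236505)) (tt N17618 F234753) (tt N20592 (iv F239309)) (tt N21413 D54183) (tt N17615 (iv D52402)))
theorem Q19634 : ∀ i, i < 19634 → P i := stepQ 19633 Q19633 (allL N19633 (tt N17653 F234754) (tt N21365 (iv F242640)) (tt N20088 (iv F236470)) (tt N17801 F234755) (tt N17618 F234756) (tt N20085 (iv F236450)) (tt N21412 (iv F242792)) (tt N17621 F234757) (tt N21414 D54184) (tt N17617 (iv D52403)))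
theorem Q19635 : ∀ i, i < 19635 → P i := stepQ 19634 Q19634 (allL N19634 (tt N17654 F234758) (tt N21366 (iv F242646)) (tt N20092 (iv F236492)) (tt N21368 (iv F242659)) (tt N21414 (iv F242796)) (tt N17623 F234759) (tt N21413 (iv F242794)) (tt N17622 F234760) (tt N17618 (iv D52404)) (tt N21112 (iv F241614)))
theorem Q19636 : ∀ i, i < 19636 → P i := stepQ 19635 Q19635 (allL N19635 (tt N17660 F234761) (tt N20684 (iv F239704)) (tt N17621 F234762) (tt N20297 (iv F237709)) (tt N17620 F234763) (tt N20083 (iv F236438)) (tt N20602 (iv F239350)) (tt N20088 (iv F236474)) (tt N21415 D54185) (tt N17619 (iv D52405)))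
theorem Q19637 : ∀ i, i < 19637 → P i := stepQ 19636 Q19636 (allL N19636 (tt N17661 F234764) (tt N20706 (iv F239791)) (tt N17622 F234765) (tt N21416 D54186) (tt N21415 (iv F242800)) (tt N17624 F234766) (tt N20603 (iv F239354)) (tt N20092 (iv F236494)) (tt N17620 (iv D52406)) (tt N21408 (iv F242778)))
theorem Q19638 : ∀ i, i < 19638 → P i := stepQ 19637 Q19637 (allL N19637 (tt N17664 F234767) (tt N21392 (iv F242734)) (tt N21415 (iv F242799)) (tt N21417 D54187) (tt N17622 F234768) (tt N21107 (iv F241588)) (tt N20605 (iv F239361)) (tt N21414 (iv F242797)) (tt N17621 (iv D52407)) (tt N21409 (iv F242781)))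
theorem Q19639 : ∀ i, i < 19639 → P i := stepQ 19638 Q19638 (allL N19638 (tt N17674 F234769) (tt N20707 (iv F239794)) (tt N21372 (iv F242672)) (tt N17624 (iv D52408)) (tt N21418 D54188) (tt N21416 (iv F242802)) (tt N17627 F234770) (tt N20093 (iv F236498)) (tt N17632 F234771) (tt N21410 (iv F242785)))
theorem Q19640 : ∀ i, i < 19640 → P i := stepQ 19639 Q19639 (allL N19639 (tt N17626 F234772) (tt N17679 F234773) (tt N20587 (iv F239284)) (tt N20535 (iv F239006)) (tt N20415 (iv F238392)) (tt N20616 (iv F239405)) (tt N20608 (iv F239374)) (tt N20418 (iv F238411)) (tt N17625 (iv D52409)) (tt N20563 (iv F239164)))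
theorem Q19641 : ∀ i, i < 19641 → P i := stepQ 19640 Q19640 (allL N19640 (tt N20535 (iv F239003)) (tt N17627 F234774) (tt N20620 (iv F239419)) (tt N17626 (iv D52410)) (tt N20484 (iv F238772)) (tt N20618 (iv F239412)) (tt N20707 (iv F239795)) (tt N20439 (iv F238514)) (tt N17634 F234775) (tt N21411 (iv F242788)))
theorem Q19642 : ∀ i, i < 19642 → P i := stepQ 19641 Q19641 (allL N19641 (tt N17686 F234776) (tt N20484 (iv F238770)) (tt N21373 (iv F242676)) (tt N20483 (iv F238765)) (tt N17627 (iv D52411)) (tt N20672 (iv F239666)) (tt N21418 (iv F242807)) (tt N21356 (iv F242614)) (tt N17635 F234777) (tt N20723 (iv F239857)))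
theorem Q19643 : ∀ i, i < 19643 → P i := stepQ 19642 Q19642 (allL N19642 (tt N17691 F234778) (tt N19642 F234779) (tt N20101 (iv F236544)) (tt N17715 F234780) (tt N20003 (iv F235869)) (tt N17719 F234781) (tt N17629 F234782) (tt N20549 (iv F239092)) (tt N17628 (iv D52412)) (tt N19642 F234783))
theorem Q19644 : ∀ i, i < 19644 → P i := stepQ 19643 Q19643 (allL N19643 (tt N17701 F234784) (tt N20729 (iv F239873)) (tt N21375 (iv F242685)) (tt N17630 (iv D52413)) (tt N21419 D54189) (tt N17632 F234785) (tt N20630 (iv F239480)) (tt N20102 (iv F236553)) (tt N21416 (iv F242803)) (tt N19643 F234786))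
theorem Q19645 : ∀ i, i < 19645 → P i := stepQ 19644 Q19644 (allL N19644 (tt N17706 F234787) (tt N20489 (iv F238804)) (tt N21377 (iv F242693)) (tt N17987 F234788) (tt N17632 (iv D52414)) (tt N21420 D54190) (tt N17635 F234789) (tt N20057 (iv F236250)) (tt N21418 (iv F242808)) (tt N19644 F234790))
theorem Q19646 : ∀ i, i < 19646 → P i := stepQ 19645 Q19645 (allL N19645 (tt N20556 (iv F239128)) (tt N17637 F234791) (tt N20061 (iv F236277)) (tt N20795 (iv F240211)) (tt N17636 (iv D52415)) (tt N20513 (iv F238912)) (tt N20652 (iv F239584)) (tt N21120 (iv F241651)) (tt N17656 F234792) (tt N21421 D54191))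
theorem Q19647 : ∀ i, i < 19647 → P i := stepQ 19646 Q19646 (allL N19646 (tt N20557 (iv F239132)) (tt N17638 F234793) (tt N20062 (iv F236285)) (tt N19646 F234794) (tt N21421 (iv F242815)) (tt N17641 F234795) (tt N20653 (iv F239592)) (tt N21132 (iv F241709)) (tt N21422 D54192) (tt N17636 (iv D52416)))
theorem Q19648 : ∀ i, i < 19648 → P i := stepQ 19647 Q19647 (allL N19647 (tt N21406 (iv F242768)) (tt N20795 (iv F240210)) (tt N21277 (iv F242346)) (tt N17637 (iv D52417)) (tt N19647 F234796) (tt N20130 F236727) (tt N20654 (iv F239595)) (tt N21123 (iv F241669)) (tt N21423 D54193) (tt N21424 D54194))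
theorem Q19649 : ∀ i, i < 19649 → P i := stepQ 19648 Q19648 (allL N19648 (tt N21407 (iv F242772)) (tt N21421 (iv F242814)) (tt N17639 F234797) (tt N21424 (iv F242821)) (tt N17638 F234798) (tt N21117 (iv F241636)) (tt N20656 (iv F239602)) (tt N21126 (iv F241685)) (tt N21425 D54195) (tt N17637 (iv D52418)))
theorem Q19650 : ∀ i, i < 19650 → P i := stepQ 19649 Q19649 (allL N19649 (tt N21408 (iv F242775)) (tt N21422 (iv F242816)) (tt N17640 F234799) (tt N21426 D54196) (tt N21425 (iv F242824)) (tt N17642 F234800) (tt N20657 (iv F239605)) (tt N21135 (iv F241722)) (tt N17638 (iv D52419)) (tt N17661 F234801))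
theorem Q19651 : ∀ i, i < 19651 → P i := stepQ 19650 Q19650 (allL N19650 (tt N21409 (iv F242779)) (tt N21113 (iv F241615)) (tt N21425 (iv F242823)) (tt N21427 D54197) (tt N17640 F234802) (tt N21119 (iv F241644)) (tt N20660 (iv F239615)) (tt N21129 (iv F241695)) (tt N17639 (iv D52420)) (tt N17664 F234803))
theorem Q19652 : ∀ i, i < 19652 → P i := stepQ 19651 Q19651 (allL N19651 (tt N20562 (iv F239156)) (tt N17642 F234804) (tt N20063 (iv F236292)) (tt N21428 D54198) (tt N21131 (iv F241701)) (tt N21422 (iv F242817)) (tt N17644 F234805) (tt N21133 (iv F241714)) (tt N17641 (iv D52421)) (tt N17670 F234806))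
theorem Q19653 : ∀ i, i < 19653 → P i := stepQ 19652 Q19652 (allL N19652 (tt N21410 (iv F242782)) (tt N21428 (iv F242830)) (tt N21382 (iv F242705)) (tt N17642 (iv D52422)) (tt N21429 D54199) (tt N21426 (iv F242826)) (tt N17646 F234807) (tt N21136 (iv F241725)) (tt N19652 F234808) (tt N17674 F234809))
theorem Q19654 : ∀ i, i < 19654 → P i := stepQ 19653 Q19653 (allL N19653 (tt N20534 (iv F238998)) (tt N17645 F234810) (tt N20064 (iv F236300)) (tt N20052 (iv F236215)) (tt N17644 F234811) (tt N20394 (iv F238263)) (tt N21131 (iv F241702)) (tt N20393 (iv F238256)) (tt N17643 (iv D52423)) (tt N17681 F234812))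
theorem Q19655 : ∀ i, i < 19655 → P i := stepQ 19654 Q19654 (allL N19654 (tt N20564 (iv F239165)) (tt N17646 F234813) (tt N21140 (iv F241736)) (tt N17644 (iv D52424)) (tt N21430 D54200) (tt N20671 (iv F239661)) (tt N21428 (iv F242831)) (tt N21357 (iv F242617)) (tt N19654 F234814) (tt N17682 F234815))
theorem Q19656 : ∀ i, i < 19656 → P i := stepQ 19655 Q19655 (allL N19655 (tt N20723 (iv F239853)) (tt N21430 (iv F242837)) (tt N21384 (iv F242712)) (tt N20053 F236224) (tt N17646 (iv D52425)) (tt N20619 (iv F239415)) (tt N21429 (iv F242834)) (tt N21358 (iv F242620)) (tt N19655 F234816) (tt N17686 F234817))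
theorem Q19657 : ∀ i, i < 19657 → P i := stepQ 19656 Q19656 (allL N19656 (tt N20087 (iv F236461)) (tt N20476 (iv F238725)) (tt N17648 F234818) (tt N20226 (iv F237316)) (tt N17647 (iv D52426)) (tt N20454 (iv F238594)) (tt N17651 F234819) (tt N20517 (iv F238931)) (tt N21125 (iv F241681)) (tt N21431 D54201))
theorem Q19658 : ∀ i, i < 19658 → P i := stepQ 19657 Q19657 (allL N19657 (tt N20091 (iv F236484)) (tt N20481 (iv F238751)) (tt N17649 F234820) (tt N17690 F234821) (tt N21431 (iv F242841)) (tt N20068 (iv F236333)) (tt N17652 F234822) (tt N20518 (iv F238937)) (tt N21432 D54202) (tt N17647 (iv D52427)))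
theorem Q19659 : ∀ i, i < 19659 → P i := stepQ 19658 Q19658 (allL N19658 (tt N21125 (iv F241676)) (tt N20658 (iv F239607)) (tt N20454 (iv F238592)) (tt N17874 F234823) (tt N20077 (iv F236399)) (tt N17648 (iv D52428)) (tt N20073 (iv F236372)) (tt N20677 (iv F239681)) (tt N20087 (iv F236467)) (tt N21433 D54203))
theorem Q19660 : ∀ i, i < 19660 → P i := stepQ 19659 Q19659 (allL N19659 (tt N21412 (iv F242789)) (tt N21115 (iv F241625)) (tt N21431 (iv F242840)) (tt N17875 F234824) (tt N17649 F234825) (tt N21433 (iv F242846)) (tt N17653 F234826) (tt N20678 (iv F239685)) (tt N21434 D54204) (tt N17648 (iv D52429)))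
theorem Q19661 : ∀ i, i < 19661 → P i := stepQ 19660 Q19660 (allL N19660 (tt N21413 (iv F242793)) (tt N21116 (iv F241629)) (tt N21432 (iv F242843)) (tt N21122 (iv F241660)) (tt N21434 (iv F242847)) (tt N21114 (iv F241622)) (tt N17654 F234827) (tt N20679 (iv F239687)) (tt N17649 (iv D52430)) (tt N21137 (iv F241731)))
theorem Q19662 : ∀ i, i < 19662 → P i := stepQ 19661 Q19661 (allL N19661 (tt N20522 (iv F238951)) (tt N17651 F234828) (tt N20513 (iv F238910)) (tt N20193 (iv F237104)) (tt N17650 (iv D52431)) (tt N20061 (iv F236279)) (tt N20476 (iv F238729)) (tt N17656 F234829) (tt N21120 (iv F241652)) (tt N21435 D54205))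
theorem Q19663 : ∀ i, i < 19663 → P i := stepQ 19662 Q19662 (allL N19662 (tt N20527 (iv F238967)) (tt N17652 F234830) (tt N20514 (iv F238917)) (tt N17692 F234831) (tt N21435 (iv F242850)) (tt N17665 F234832) (tt N20481 (iv F238755)) (tt N17657 F234833) (tt N21436 D54206) (tt N17650 (iv D52432)))
theorem Q19664 : ∀ i, i < 19664 → P i := stepQ 19663 Q19663 (allL N19663 (tt N20088 (iv F236468)) (tt N21435 (iv F242849)) (tt N17653 F234834) (tt N20227 (iv F237322)) (tt N17652 F234835) (tt N20066 (iv F236318)) (tt N21431 (iv F242842)) (tt N17660 F234836) (tt N21437 D54207) (tt N17651 (iv D52433)))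
theorem Q19665 : ∀ i, i < 19665 → P i := stepQ 19664 Q19664 (allL N19664 (tt N20092 (iv F236490)) (tt N21436 (iv F242852)) (tt N17654 F234837) (tt N21438 D54208) (tt N21437 (iv F242856)) (tt N17666 F234838) (tt N21432 (iv F242844)) (tt N17661 F234839) (tt N17652 (iv D52434)) (tt N21135 (iv F241723)))
theorem Q19666 : ∀ i, i < 19666 → P i := stepQ 19665 Q19665 (allL N19665 (tt N21414 (iv F242795)) (tt N21119 (iv F241642)) (tt N21437 (iv F242855)) (tt N21439 D54209) (tt N17654 F234840) (tt N21113 (iv F241617)) (tt N21434 (iv F242848)) (tt N17664 F234841) (tt N17653 (iv D52435)) (tt N21129 (iv F241696)))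
theorem Q19667 : ∀ i, i < 19667 → P i := stepQ 19666 Q19666 (allL N19666 (tt N17656 F234842) (tt N20595 (iv F239319)) (tt N20550 (iv F239096)) (tt N20807 (iv F240276)) (tt N17655 (iv D52436)) (tt N20553 (iv F239114)) (tt N20686 (iv F239714)) (tt N20522 F238956) (tt N20556 (iv F239131)) (tt N21440 D54210))
theorem Q19668 : ∀ i, i < 19668 → P i := stepQ 19667 Q19667 (allL N19667 (tt N17657 F234843) (tt N20607 (iv F239367)) (tt N20551 (iv F239102)) (tt N17694 F234844) (tt N21440 (iv F242864)) (tt N17667 F234845) (tt N20687 (iv F239721)) (tt N20527 (iv F238972)) (tt N21441 D54211) (tt N17655 (iv D52437)))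
theorem Q19669 : ∀ i, i < 19669 → P i := stepQ 19668 Q19668 (allL N19668 (tt N20807 (iv F240274)) (tt N17658 F234846) (tt N20828 (iv F240366)) (tt N17656 (iv D52438)) (tt N17695 F234847) (tt N20189 (iv F237082)) (tt N20688 (iv F239726)) (tt N20193 (iv F237107)) (tt N20835 (iv F240403)) (tt N21442 D54212))
theorem Q19670 : ∀ i, i < 19670 → P i := stepQ 19669 Q19669 (allL N19669 (tt N20553 (iv F239111)) (tt N17659 F234848) (tt N21120 (iv F241648)) (tt N20189 (iv F237081)) (tt N17668 F234849) (tt N17656 (iv D52439)) (tt N20493 (iv F238826)) (tt N20061 (iv F236281)) (tt N20513 (iv F238915)) (tt N21443 D54213))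
theorem Q19671 : ∀ i, i < 19671 → P i := stepQ 19670 Q19670 (allL N19670 (tt N21440 (iv F242863)) (tt N17660 F234850) (tt N21121 (iv F241654)) (tt N21442 (iv F242868)) (tt N17657 F234851) (tt N21443 (iv F242872)) (tt N20690 (iv F239737)) (tt N21435 (iv F242851)) (tt N21444 D54214) (tt N17656 (iv D52440)))
theorem Q19672 : ∀ i, i < 19672 → P i := stepQ 19671 Q19671 (allL N19671 (tt N21441 (iv F242865)) (tt N17661 F234852) (tt N21122 (iv F241659)) (tt N21445 D54215) (tt N21444 (iv F242874)) (tt N17670 F234853) (tt N20691 (iv F239742)) (tt N21436 (iv F242854)) (tt N17657 (iv D52441)) (tt N21422 (iv F242818)))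
theorem Q19673 : ∀ i, i < 19673 → P i := stepQ 19672 Q19672 (allL N19672 (tt N20257 (iv F237488)) (tt N20835 (iv F240400)) (tt N17893 F234854) (tt N21423 (iv F242819)) (tt N17698 F234855) (tt N20207 (iv F237196)) (tt N20693 (iv F239749)) (tt N20211 (iv F237223)) (tt N17658 (iv D52442)) (tt N21446 D54216))
theorem Q19674 : ∀ i, i < 19674 → P i := stepQ 19673 Q19673 (allL N19673 (tt N20297 (iv F237706)) (tt N21442 (iv F242867)) (tt N17894 F234856) (tt N17660 F234857) (tt N17699 F234858) (tt N20222 (iv F237292)) (tt N20694 (iv F239753)) (tt N20227 (iv F237325)) (tt N21447 D54217) (tt N17658 (iv D52443)))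
theorem Q19675 : ∀ i, i < 19675 → P i := stepQ 19674 Q19674 (allL N19674 (tt N20034 (iv F236101)) (tt N20493 (iv F238825)) (tt N17662 F234859) (tt N20220 (iv F237279)) (tt N17671 F234860) (tt N20695 (iv F239756)) (tt N17659 (iv D52444)) (tt N20026 (iv F236051)) (tt N20032 (iv F236093)) (tt N21448 D54218))
theorem Q19676 : ∀ i, i < 19676 → P i := stepQ 19675 Q19675 (allL N19675 (tt N20083 (iv F236433)) (tt N21443 (iv F242870)) (tt N17663 F234861) (tt N20222 (iv F237290)) (tt N17672 F234862) (tt N17660 F234863) (tt N21448 (iv F242884)) (tt N20066 (iv F236320)) (tt N21449 D54219) (tt N17659 (iv D52445)))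
theorem Q19677 : ∀ i, i < 19677 → P i := stepQ 19676 Q19676 (allL N19676 (tt N21415 (iv F242798)) (tt N21444 (iv F242873)) (tt N17664 F234864) (tt N21450 D54220) (tt N17661 F234865) (tt N21449 (iv F242887)) (tt N20697 (iv F239762)) (tt N21437 (iv F242857)) (tt N17660 (iv D52446)) (tt N21425 (iv F242825)))
theorem Q19678 : ∀ i, i < 19678 → P i := stepQ 19677 Q19677 (allL N19677 (tt N21416 (iv F242801)) (tt N21445 (iv F242875)) (tt N21391 (iv F242731)) (tt N17661 (iv D52447)) (tt N21451 D54221) (tt N17674 F234866) (tt N20698 (iv F239764)) (tt N21438 (iv F242859)) (tt N17701 F234867) (tt N21426 (iv F242828)))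
theorem Q19679 : ∀ i, i < 19679 → P i := stepQ 19678 Q19678 (allL N19678 (tt N20032 (iv F236087)) (tt N20645 (iv F239552)) (tt N20026 (iv F236048)) (tt N17899 F234868) (tt N17675 F234869) (tt N20699 (iv F239768)) (tt N20071 (iv F236357)) (tt N17662 (iv D52448)) (tt N20034 (iv F236107)) (tt N21452 D54222))
theorem Q19680 : ∀ i, i < 19680 → P i := stepQ 19679 Q19679 (allL N19679 (tt N20037 (iv F236120)) (tt N21128 (iv F241688)) (tt N21448 (iv F242882)) (tt N17900 F234870) (tt N17676 F234871) (tt N20700 (iv F239771)) (tt N17663 F234872) (tt N21452 (iv F242891)) (tt N21453 D54223) (tt N17662 (iv D52449)))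
theorem Q19681 : ∀ i, i < 19681 → P i := stepQ 19680 Q19680 (allL N19680 (tt N21107 (iv F241585)) (tt N21129 (iv F241692)) (tt N21449 (iv F242885)) (tt N21454 D54224) (tt N17677 F234873) (tt N17664 F234874) (tt N21453 (iv F242893)) (tt N21113 (iv F241618)) (tt N17663 (iv D52450)) (tt N21119 (iv F241646)))
theorem Q19682 : ∀ i, i < 19682 → P i := stepQ 19681 Q19681 (allL N19681 (tt N21417 (iv F242804)) (tt N21130 (iv F241697)) (tt N21455 D54225) (tt N17664 (iv D52451)) (tt N21393 (iv F242737)) (tt N21454 (iv F242894)) (tt N20702 (iv F239775)) (tt N21439 (iv F242861)) (tt N17902 F234875) (tt N21427 (iv F242829)))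
theorem Q19683 : ∀ i, i < 19683 → P i := stepQ 19682 Q19682 (allL N19682 (tt N20536 (iv F239008)) (tt N17666 F234876) (tt N21131 (iv F241700)) (tt N21456 D54226) (tt N20063 (iv F236294)) (tt N21436 (iv F242853)) (tt N20064 (iv F236303)) (tt N17670 F234877) (tt N17665 (iv D52452)) (tt N21133 (iv F241715)))
theorem Q19684 : ∀ i, i < 19684 → P i := stepQ 19683 Q19683 (allL N19683 (tt N20093 (iv F236495)) (tt N21456 (iv F242897)) (tt N20711 (iv F239818)) (tt N17666 (iv D52453)) (tt N20728 (iv F239869)) (tt N21438 (iv F242858)) (tt N20070 (iv F236348)) (tt N17674 F234878) (tt N17703 F234879) (tt N21136 (iv F241727)))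
theorem Q19685 : ∀ i, i < 19685 → P i := stepQ 19684 Q19684 (allL N19684 (tt N17670 F234880) (tt N20608 (iv F239372)) (tt N20552 (iv F239108)) (tt N21457 D54227) (tt N20560 (iv F239146)) (tt N21441 (iv F242866)) (tt N17679 F234881) (tt N20536 (iv F239012)) (tt N17667 (iv D52454)) (tt N20562 (iv F239159)))
theorem Q19686 : ∀ i, i < 19686 → P i := stepQ 19685 Q19685 (allL N19685 (tt N20554 (iv F239116)) (tt N17672 F234882) (tt N21132 (iv F241706)) (tt N17988 F234883) (tt N21443 (iv F242871)) (tt N17669 F234884) (tt N20494 (iv F238832)) (tt N20062 (iv F236289)) (tt N21458 D54228) (tt N17668 (iv D52455)))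
theorem Q19687 : ∀ i, i < 19687 → P i := stepQ 19686 Q19686 (allL N19686 (tt N20560 (iv F239144)) (tt N17673 F234885) (tt N21133 (iv F241711)) (tt N21141 (iv F241741)) (tt N17670 F234886) (tt N21458 (iv F242904)) (tt N17681 F234887) (tt N20063 (iv F236296)) (tt N17669 (iv D52456)) (tt N21131 (iv F241704)))
theorem Q19688 : ∀ i, i < 19688 → P i := stepQ 19687 Q19687 (allL N19687 (tt N21457 (iv F242900)) (tt N17674 F234888) (tt N21459 D54229) (tt N17670 (iv D52457)) (tt N21460 D54230) (tt N21445 (iv F242876)) (tt N17682 F234889) (tt N21456 (iv F242898)) (tt N17705 F234890) (tt N21428 (iv F242833)))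
theorem Q19689 : ∀ i, i < 19689 → P i := stepQ 19688 Q19688 (allL N19688 (tt N20035 (iv F236108)) (tt N20494 (iv F238829)) (tt N17676 F234891) (tt N17989 F234892) (tt N21448 (iv F242883)) (tt N17683 F234893) (tt N17672 F234894) (tt N20027 (iv F236059)) (tt N21461 D54231) (tt N17671 (iv D52458)))
theorem Q19690 : ∀ i, i < 19690 → P i := stepQ 19689 Q19689 (allL N19689 (tt N20084 (iv F236440)) (tt N21458 (iv F242903)) (tt N17677 F234895) (tt N21462 D54232) (tt N21449 (iv F242886)) (tt N17673 F234896) (tt N21461 (iv F242912)) (tt N20067 (iv F236326)) (tt N17672 (iv D52459)) (tt N21118 (iv F241641)))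
theorem Q19691 : ∀ i, i < 19691 → P i := stepQ 19690 Q19690 (allL N19690 (tt N20041 (iv F236144)) (tt N21141 (iv F241740)) (tt N20030 (iv F236076)) (tt N17673 (iv D52460)) (tt N20727 (iv F239866)) (tt N21462 (iv F242913)) (tt N17685 F234897) (tt N17688 F234898) (tt N17687 F234899) (tt N20047 (iv F236189)))
theorem Q19692 : ∀ i, i < 19692 → P i := stepQ 19691 Q19691 (allL N19691 (tt N21418 (iv F242806)) (tt N21460 (iv F242907)) (tt N21396 (iv F242743)) (tt N20727 (iv F239865)) (tt N17674 (iv D52461)) (tt N21463 D54233) (tt N17686 F234900) (tt N20728 (iv F239871)) (tt N17706 F234901) (tt N21429 (iv F242836)))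
theorem Q19693 : ∀ i, i < 19693 → P i := stepQ 19692 Q19692 (allL N19692 (tt N20033 (iv F236094)) (tt N20646 (iv F239557)) (tt N20027 (iv F236055)) (tt N17689 F234902) (tt N21452 (iv F242890)) (tt N17687 F234903) (tt N20072 (iv F236365)) (tt N17676 F234904) (tt N21462 (iv F242915)) (tt N17675 (iv D52462)))
theorem Q19694 : ∀ i, i < 19694 → P i := stepQ 19693 Q19693 (allL N19693 (tt N20038 (iv F236125)) (tt N21137 (iv F241728)) (tt N21461 (iv F242910)) (tt N20067 (iv F236323)) (tt N21453 (iv F242892)) (tt N17688 F234905) (tt N17677 F234906) (tt N21462 (iv F242914)) (tt N17676 (iv D52463)) (tt N21116 (iv F241633)))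
theorem Q19695 : ∀ i, i < 19695 → P i := stepQ 19694 Q19694 (allL N19694 (tt N17681 F234907) (tt N20415 (iv F238389)) (tt N20511 (iv F238902)) (tt N20531 (iv F238984)) (tt N17679 F234908) (tt N20508 (iv F238887)) (tt N20560 (iv F239147)) (tt N20404 (iv F238327)) (tt N17678 (iv D52464)) (tt N20534 (iv F239002)))
theorem Q19696 : ∀ i, i < 19696 → P i := stepQ 19695 Q19695 (allL N19695 (tt N17682 F234909) (tt N20535 (iv F239004)) (tt N20098 (iv F236526)) (tt N17679 (iv D52465)) (tt N20532 (iv F238988)) (tt N20099 (iv F236531)) (tt N21457 (iv F242901)) (tt N21362 (iv F242632)) (tt N17707 F234910) (tt N20564 (iv F239168)))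
theorem Q19697 : ∀ i, i < 19697 → P i := stepQ 19696 Q19696 (allL N19696 (tt N20508 (iv F238884)) (tt N17684 F234911) (tt N20469 (iv F238683)) (tt N20428 (iv F238460)) (tt N20468 (iv F238678)) (tt N17681 F234912) (tt N20501 (iv F238857)) (tt N20388 (iv F238225)) (tt N17680 (iv D52466)) (tt N20394 (iv F238266)))
theorem Q19698 : ∀ i, i < 19698 → P i := stepQ 19697 Q19697 (allL N19697 (tt N20531 (iv F238982)) (tt N17685 F234913) (tt N20507 (iv F238881)) (tt N17681 (iv D52467)) (tt N20530 (iv F238980)) (tt N20428 (iv F238462)) (tt N21141 (iv F241742)) (tt N20427 (iv F238456)) (tt N17992 F234914) (tt N20052 (iv F236218)))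
theorem Q19699 : ∀ i, i < 19699 → P i := stepQ 19698 Q19698 (allL N19698 (tt N20098 (iv F236524)) (tt N20485 (iv F238776)) (tt N17682 (iv D52468)) (tt N20069 (iv F236339)) (tt N20537 (iv F239014)) (tt N20070 (iv F236347)) (tt N21459 (iv F242905)) (tt N21359 (iv F242625)) (tt N17708 F234915) (tt N21140 (iv F241739)))
theorem Q19700 : ∀ i, i < 19700 → P i := stepQ 19699 Q19699 (allL N19699 (tt N20532 (iv F238986)) (tt N17686 F234916) (tt N20537 F239017) (tt N20530 (iv F238979)) (tt N17682 (iv D52469)) (tt N20538 (iv F239021)) (tt N21460 (iv F242908)) (tt N21363 (iv F242635)) (tt N17709 F234917) (tt N21430 (iv F242839)))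
theorem Q19701 : ∀ i, i < 19701 → P i := stepQ 19700 Q19700 (allL N19700 (tt N20047 (iv F236184)) (tt N20501 (iv F238855)) (tt N17688 F234918) (tt N20076 (iv F236390)) (tt N20722 (iv F239851)) (tt N21461 (iv F242911)) (tt N17684 F234919) (tt N20030 (iv F236079)) (tt N17683 (iv D52470)) (tt N20041 (iv F236150)))
theorem Q19702 : ∀ i, i < 19702 → P i := stepQ 19701 Q19701 (allL N19701 (tt N20483 (iv F238762)) (tt N20530 (iv F238978)) (tt N20031 (iv F236083)) (tt N17686 F234920) (tt N17685 (iv D52471)) (tt N20588 (iv F239293)) (tt N20727 (iv F239867)) (tt N20446 (iv F238547)) (tt N17993 F234921) (tt N20053 (iv F236223)))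
theorem Q19703 : ∀ i, i < 19703 → P i := stepQ 19702 Q19702 (allL N19702 (tt N20672 (iv F239664)) (tt N20538 F239023) (tt N21399 (iv F242750)) (tt N20588 (iv F239291)) (tt N20726 (iv F239863)) (tt N17686 (iv D52472)) (tt N21464 D54234) (tt N21364 (iv F242637)) (tt N17710 F234922) (tt N20619 (iv F239417)))
theorem Q19704 : ∀ i, i < 19704 → P i := stepQ 19703 Q19703 (allL N19703 (tt N20101 (iv F236542)) (tt N20486 (iv F238781)) (tt N17691 F234923) (tt N21465 D54235) (tt N20238 (iv F237390)) (tt N17720 F234924) (tt N17693 F234925) (tt N20543 (iv F239053)) (tt N17690 (iv D52473)) (tt N19703 F234926))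
theorem Q19705 : ∀ i, i < 19705 → P i := stepQ 19704 Q19704 (allL N19704 (tt N20539 (iv F239024)) (tt N17693 F234927) (tt N17713 F234928) (tt N21466 D54236) (tt N20203 (iv F237170)) (tt N17702 F234929) (tt N20486 (iv F238785)) (tt N17697 F234930) (tt N17692 (iv D52474)) (tt N19704 F234931))
theorem Q19706 : ∀ i, i < 19706 → P i := stepQ 19705 Q19705 (allL N19705 (tt N20102 (iv F236550)) (tt N21466 (iv F242922)) (tt N20745 (iv F239957)) (tt N17693 (iv D52475)) (tt N21467 D54237) (tt N17703 F234932) (tt N21465 (iv F242920)) (tt N17701 F234933) (tt N21438 (iv F242860)) (tt N19705 F234934))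
theorem Q19707 : ∀ i, i < 19707 → P i := stepQ 19706 Q19706 (allL N19706 (tt N17697 F234935) (tt N20623 (iv F239433)) (tt N17715 F234936) (tt N21468 D54238) (tt N20822 (iv F240339)) (tt N17704 F234937) (tt N20741 (iv F239934)) (tt N20539 (iv F239030)) (tt N17694 (iv D52476)) (tt N19706 F234938))
theorem Q19708 : ∀ i, i < 19708 → P i := stepQ 19707 Q19707 (allL N19707 (tt N20814 (iv F240302)) (tt N17699 F234939) (tt N20829 (iv F240372)) (tt N17696 F234940) (tt N21442 (iv F242869)) (tt N17994 F234941) (tt N20743 (iv F239947)) (tt N20199 (iv F237143)) (tt N21469 D54239) (tt N17695 (iv D52477)))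
theorem Q19709 : ∀ i, i < 19709 → P i := stepQ 19708 Q19708 (allL N19708 (tt N20822 (iv F240336)) (tt N17700 F234942) (tt N17717 F234943) (tt N21470 D54240) (tt N17697 F234944) (tt N17995 F234945) (tt N20744 (iv F239953)) (tt N20203 (iv F237173)) (tt N17696 (iv D52478)) (tt N19708 F234946))
theorem Q19710 : ∀ i, i < 19710 → P i := stepQ 19709 Q19709 (allL N19709 (tt N21468 (iv F242928)) (tt N17701 F234947) (tt N21465 (iv F242918)) (tt N17697 (iv D52479)) (tt N21471 D54241) (tt N17705 F234948) (tt N20745 (iv F239959)) (tt N21466 (iv F242924)) (tt N21445 (iv F242877)) (tt N19709 F234949))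
theorem Q19711 : ∀ i, i < 19711 → P i := stepQ 19710 Q19710 (allL N19710 (tt N20272 (iv F237563)) (tt N20836 (iv F240404)) (tt N17941 F234950) (tt N19710 F234951) (tt N21446 (iv F242879)) (tt N17996 F234952) (tt N20746 (iv F239965)) (tt N20216 (iv F237253)) (tt N21472 D54242) (tt N17698 (iv D52480)))
theorem Q19712 : ∀ i, i < 19712 → P i := stepQ 19711 Q19711 (allL N19711 (tt N20320 (iv F237823)) (tt N21469 (iv F242931)) (tt N17942 F234953) (tt N21473 D54243) (tt N21447 (iv F242881)) (tt N17997 F234954) (tt N20747 (iv F239968)) (tt N20232 (iv F237352)) (tt N17699 (iv D52481)) (tt N21472 (iv F242940)))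
theorem Q19713 : ∀ i, i < 19713 → P i := stepQ 19712 Q19712 (allL N19712 (tt N20344 (iv F237958)) (tt N21470 (iv F242933)) (tt N21334 (iv F242547)) (tt N17700 (iv D52482)) (tt N21474 D54244) (tt N17998 F234955) (tt N20748 (iv F239970)) (tt N20239 (iv F237397)) (tt N21473 (iv F242942)) (tt N19712 F234956))
theorem Q19714 : ∀ i, i < 19714 → P i := stepQ 19713 Q19713 (allL N19713 (tt N21419 (iv F242809)) (tt N21471 (iv F242936)) (tt N21403 (iv F242760)) (tt N21474 (iv F242943)) (tt N17701 (iv D52483)) (tt N21475 D54245) (tt N20749 (iv F239972)) (tt N21467 (iv F242926)) (tt N21451 (iv F242888)) (tt N19713 F234957))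
theorem Q19715 : ∀ i, i < 19715 → P i := stepQ 19714 Q19714 (allL N19714 (tt N20542 (iv F239041)) (tt N17703 F234958) (tt N20547 (iv F239074)) (tt N17702 (iv D52484)) (tt N20104 (iv F236563)) (tt N21466 (iv F242923)) (tt N20065 (iv F236311)) (tt N17705 F234959) (tt N21456 (iv F242899)) (tt N19714 F234960))
theorem Q19716 : ∀ i, i < 19716 → P i := stepQ 19715 Q19715 (allL N19715 (tt N17705 F234961) (tt N20548 (iv F239080)) (tt N20104 (iv F236562)) (tt N17704 (iv D52485)) (tt N20547 (iv F239075)) (tt N21468 (iv F242929)) (tt N17707 F234962) (tt N20542 (iv F239046)) (tt N21457 (iv F242902)) (tt N19715 F234963))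
theorem Q19717 : ∀ i, i < 19717 → P i := stepQ 19716 Q19716 (allL N19716 (tt N20104 (iv F236560)) (tt N20487 (iv F238789)) (tt N17705 (iv D52486)) (tt N17720 F234964) (tt N20542 (iv F239044)) (tt N21465 (iv F242919)) (tt N17708 F234965) (tt N20547 (iv F239077)) (tt N21459 (iv F242906)) (tt N19716 F234966))
theorem Q19718 : ∀ i, i < 19718 → P i := stepQ 19717 Q19717 (allL N19717 (tt N20547 (iv F239072)) (tt N17706 F234967) (tt N20542 (iv F239043)) (tt N18001 F234968) (tt N17705 (iv D52487)) (tt N21476 D54246) (tt N17709 F234969) (tt N20104 (iv F236565)) (tt N21460 (iv F242909)) (tt N19717 F234970))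
theorem Q19719 : ∀ i, i < 19719 → P i := stepQ 19718 Q19718 (allL N19718 (tt N21420 (iv F242811)) (tt N21476 (iv F242947)) (tt N21404 (iv F242762)) (tt N18002 F234971) (tt N21475 (iv F242945)) (tt N17706 (iv D52488)) (tt N21477 D54247) (tt N20730 (iv F239879)) (tt N21463 (iv F242916)) (tt N19718 F234972))
theorem Q19720 : ∀ i, i < 19720 → P i := stepQ 19719 Q19719 (allL N19719 (tt N21376 (iv F242688)) (tt N20541 F239040) (tt N21405 (iv F242765)) (tt N18003 F234973) (tt N20733 (iv F239887)) (tt N21477 (iv F242951)) (tt N17710 (iv D52489)) (tt N20632 (iv F239491)) (tt N21464 (iv F242917)) (tt N19719 F234974))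
theorem Q19721 : ∀ i, i < 19721 → P i := stepQ 19720 Q19720 (allL N19720 (tt N17713 F234975) (tt N19720 F234976) (tt N20539 (iv F239026)) (tt N20549 (iv F239089)) (tt N20753 (iv F239995)) (tt N17718 F234977) (tt N20451 (iv F238573)) (tt N17715 F234978) (tt N17711 (iv D52490)) (tt N19720 F234979))
theorem Q19722 : ∀ i, i < 19722 → P i := stepQ 19721 Q19721 (allL N19721 (tt N17717 F234980) (tt N19721 F234981) (tt N20822 (iv F240338)) (tt N20375 (iv F238126)) (tt N17715 F234982) (tt N18005 F234983) (tt N20752 (iv F239988)) (tt N20753 (iv F239998)) (tt N17714 (iv D52491)) (tt N19721 F234984))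
theorem Q19723 : ∀ i, i < 19723 → P i := stepQ 19722 Q19722 (allL N19722 (tt N17743 F234985) (tt N20568 (iv F239192)) (tt N20782 (iv F240141)) (tt N20550 (iv F239097)) (tt N17722 (iv D52492)) (tt N21478 D54248) (tt N17724 F234986) (tt N20764 (iv F240062)) (tt N20793 (iv F240202)) (tt N21479 D54249))
theorem Q19724 : ∀ i, i < 19724 → P i := stepQ 19723 Q19723 (allL N19723 (tt N17744 F234987) (tt N20569 (iv F239197)) (tt N20783 (iv F240146)) (tt N17723 F234988) (tt N21479 (iv F242956)) (tt N19723 F234989) (tt N17725 F234990) (tt N20765 (iv F240069)) (tt N21480 D54250) (tt N17722 (iv D52493)))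
theorem Q19725 : ∀ i, i < 19725 → P i := stepQ 19724 Q19724 (allL N19724 (tt N17749 F234991) (tt N21191 (iv F241974)) (tt N20785 (iv F240157)) (tt N21367 (iv F242653)) (tt N17725 F234992) (tt N21170 (iv F241889)) (tt N21479 (iv F242957)) (tt N17726 F234993) (tt N21481 D54251) (tt N17724 (iv D52494)))
theorem Q19726 : ∀ i, i < 19726 → P i := stepQ 19725 Q19725 (allL N19725 (tt N17750 F234994) (tt N21207 (iv F242038)) (tt N20786 (iv F240161)) (tt N17802 F234995) (tt N21481 (iv F242963)) (tt N17728 F234996) (tt N21480 (iv F242961)) (tt N17727 F234997) (tt N17725 (iv D52495)) (tt N20799 (iv F240234)))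
theorem Q19727 : ∀ i, i < 19727 → P i := stepQ 19726 Q19726 (allL N19726 (tt N17758 F234998) (tt N21201 (iv F242013)) (tt N20788 (iv F240171)) (tt N21482 D54252) (tt N17727 F234999) (tt N21172 (iv F241900)) (tt N20769 (iv F240087)) (tt N21481 (iv F242964)) (tt N17726 (iv D52496)) (tt N20806 (iv F240273)))
theorem Q19728 : ∀ i, i < 19728 → P i := stepQ 19727 Q19727 (allL N19727 (tt N20804 (iv F240255)) (tt N21145 (iv F241761)) (tt N20800 (iv F240235)) (tt N17736 F235000) (tt N17730 F235001) (tt N20798 (iv F240226)) (tt N20780 (iv F240135)) (tt N20805 (iv F240268)) (tt N21483 D54253) (tt N17729 (iv D52497)))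
theorem Q19729 : ∀ i, i < 19729 → P i := stepQ 19728 Q19728 (allL N19728 (tt N20827 (iv F240358)) (tt N21146 (iv F241767)) (tt N20811 (iv F240287)) (tt N17829 F235002) (tt N21483 (iv F242967)) (tt N18067 F235003) (tt N20781 (iv F240139)) (tt N20813 (iv F240300)) (tt N17730 (iv D52498)) (tt N21171 (iv F241896)))
theorem Q19730 : ∀ i, i < 19730 → P i := stepQ 19729 Q19729 (allL N19729 (tt N20793 (iv F240196)) (tt N20205 (iv F237183)) (tt N20764 (iv F240060)) (tt N20182 (iv F237035)) (tt N17731 (iv D52499)) (tt N20839 (iv F240416)) (tt N17733 F235004) (tt N20782 (iv F240143)) (tt N17743 F235005) (tt N21484 D54254))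
theorem Q19731 : ∀ i, i < 19731 → P i := stepQ 19730 Q19730 (allL N19730 (tt N20794 (iv F240203)) (tt N20206 (iv F237189)) (tt N20765 (iv F240065)) (tt N17732 F235006) (tt N21484 (iv F242968)) (tt N19730 F235007) (tt N17734 F235008) (tt N20783 (iv F240150)) (tt N21485 D54255) (tt N17731 (iv D52500)))
theorem Q19732 : ∀ i, i < 19732 → P i := stepQ 19731 Q19731 (allL N19731 (tt N20798 (iv F240221)) (tt N21147 (iv F241773)) (tt N20766 (iv F240071)) (tt N20805 (iv F240265)) (tt N17734 F235009) (tt N20804 (iv F240259)) (tt N21484 (iv F242969)) (tt N17736 F235010) (tt N21486 D54256) (tt N17733 (iv D52501)))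
theorem Q19733 : ∀ i, i < 19733 → P i := stepQ 19732 Q19732 (allL N19732 (tt N20799 (iv F240228)) (tt N21148 (iv F241779)) (tt N20767 (iv F240075)) (tt N17837 F235011) (tt N21486 (iv F242974)) (tt N17739 F235012) (tt N21485 (iv F242972)) (tt N17737 F235013) (tt N17734 (iv D52502)) (tt N17750 F235014))
theorem Q19734 : ∀ i, i < 19734 → P i := stepQ 19733 Q19733 (allL N19733 (tt N20805 (iv F240262)) (tt N17792 F235015) (tt N20768 (iv F240081)) (tt N20798 (iv F240224)) (tt N17740 F235016) (tt N17736 F235017) (tt N20830 (iv F240379)) (tt N20804 (iv F240261)) (tt N21487 D54257) (tt N17735 (iv D52503)))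
theorem Q19735 : ∀ i, i < 19735 → P i := stepQ 19734 Q19734 (allL N19734 (tt N20806 (iv F240269)) (tt N21149 (iv F241785)) (tt N20769 (iv F240085)) (tt N21488 D54258) (tt N17737 F235018) (tt N21487 (iv F242979)) (tt N20788 (iv F240173)) (tt N21486 (iv F242975)) (tt N17736 (iv D52504)) (tt N17758 F235019))
theorem Q19736 : ∀ i, i < 19736 → P i := stepQ 19735 Q19735 (allL N19735 (tt N18067 F235020) (tt N17794 F235021) (tt N20770 (iv F240090)) (tt N18069 F235022) (tt N17739 F235023) (tt N20827 (iv F240361)) (tt N19735 F235024) (tt N17741 F235025) (tt N17738 (iv D52505)) (tt N17766 F235026))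
theorem Q19737 : ∀ i, i < 19737 → P i := stepQ 19736 Q19736 (allL N19736 (tt N20813 (iv F240295)) (tt N17793 F235027) (tt N20771 (iv F240096)) (tt N20803 (iv F240250)) (tt N21487 (iv F242978)) (tt N17741 F235028) (tt N20831 (iv F240383)) (tt N20827 (iv F240363)) (tt N17740 (iv D52506)) (tt N17772 F235029))
theorem Q19738 : ∀ i, i < 19738 → P i := stepQ 19737 Q19737 (allL N19737 (tt N20782 (iv F240140)) (tt N20845 (iv F240436)) (tt N17743 F235030) (tt N20828 (iv F240367)) (tt N17742 (iv D52507)) (tt N21489 D54259) (tt N17746 F235031) (tt N20793 (iv F240201)) (tt N20764 (iv F240063)) (tt N21490 D54260))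
theorem Q19739 : ∀ i, i < 19739 → P i := stepQ 19738 Q19738 (allL N19738 (tt N20783 (iv F240145)) (tt N20846 (iv F240442)) (tt N17744 F235032) (tt N17776 F235033) (tt N21490 (iv F242986)) (tt N19738 F235034) (tt N17747 F235035) (tt N20794 (iv F240209)) (tt N21491 D54261) (tt N17742 (iv D52508)))
theorem Q19740 : ∀ i, i < 19740 → P i := stepQ 19739 Q19739 (allL N19739 (tt N21478 (iv F242953)) (tt N21123 (iv F241664)) (tt N21489 (iv F242983)) (tt N21120 (iv F241649)) (tt N19739 F235036) (tt N17743 (iv D52509)) (tt N21492 D54262) (tt N20795 (iv F240213)) (tt N20839 F240418) (tt N21493 D54263))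
theorem Q19741 : ∀ i, i < 19741 → P i := stepQ 19740 Q19740 (allL N19740 (tt N21479 (iv F242955)) (tt N21124 (iv F241671)) (tt N21490 (iv F242985)) (tt N21121 (iv F241655)) (tt N17744 F235037) (tt N21493 (iv F242996)) (tt N17749 F235038) (tt N20796 (iv F240216)) (tt N21494 D54264) (tt N17743 (iv D52510)))
theorem Q19742 : ∀ i, i < 19742 → P i := stepQ 19741 Q19741 (allL N19741 (tt N21480 (iv F242958)) (tt N21142 (iv F241745)) (tt N21491 (iv F242988)) (tt N17876 F235039) (tt N21494 (iv F242997)) (tt N19741 F235040) (tt N17750 F235041) (tt N20797 (iv F240220)) (tt N17744 (iv D52511)) (tt N21485 (iv F242973)))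
theorem Q19743 : ∀ i, i < 19743 → P i := stepQ 19742 Q19742 (allL N19742 (tt N20911 (iv F240759)) (tt N17746 F235042) (tt N20301 (iv F237732)) (tt N20852 (iv F240475)) (tt N17745 (iv D52512)) (tt N21495 D54265) (tt N20845 (iv F240439)) (tt N17751 F235043) (tt N20754 (iv F240003)) (tt N21496 D54266))
theorem Q19744 : ∀ i, i < 19744 → P i := stepQ 19743 Q19743 (allL N19743 (tt N20912 (iv F240765)) (tt N17747 F235044) (tt N20360 (iv F238044)) (tt N17777 F235045) (tt N21496 (iv F243004)) (tt N17760 F235046) (tt N20846 (iv F240446)) (tt N17752 F235047) (tt N21497 D54267) (tt N17745 (iv D52513)))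
theorem Q19745 : ∀ i, i < 19745 → P i := stepQ 19744 Q19744 (allL N19744 (tt N20775 (iv F240113)) (tt N20852 (iv F240473)) (tt N20688 (iv F239724)) (tt N17746 (iv D52514)) (tt N17778 F235048) (tt N21498 D54268) (tt N20828 (iv F240368)) (tt N17753 F235049) (tt N20833 (iv F240394)) (tt N21499 D54269))
theorem Q19746 : ∀ i, i < 19746 → P i := stepQ 19745 Q19745 (allL N19745 (tt N20784 (iv F240151)) (tt N21495 (iv F242999)) (tt N17748 F235050) (tt N21498 (iv F243009)) (tt N17761 F235051) (tt N17746 (iv D52515)) (tt N21387 (iv F242722)) (tt N17754 F235052) (tt N20519 F238944) (tt N21500 D54270))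
theorem Q19747 : ∀ i, i < 19747 → P i := stepQ 19746 Q19746 (allL N19746 (tt N20785 (iv F240156)) (tt N21496 (iv F243003)) (tt N17749 F235053) (tt N21499 (iv F243012)) (tt N17747 F235054) (tt N21500 (iv F243017)) (tt N21490 (iv F242987)) (tt N17755 F235055) (tt N21501 D54271) (tt N17746 (iv D52516)))
theorem Q19748 : ∀ i, i < 19748 → P i := stepQ 19747 Q19747 (allL N19747 (tt N20786 (iv F240160)) (tt N21497 (iv F243006)) (tt N17750 F235056) (tt N20856 (iv F240497)) (tt N21501 (iv F243020)) (tt N17763 F235057) (tt N21491 (iv F242990)) (tt N17756 F235058) (tt N17747 (iv D52517)) (tt N20767 (iv F240079)))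
theorem Q19749 : ∀ i, i < 19749 → P i := stepQ 19748 Q19748 (allL N19748 (tt N20491 (iv F238815)) (tt N17796 F235059) (tt N21387 (iv F242720)) (tt N20461 (iv F238636)) (tt N17764 F235060) (tt N21492 (iv F242993)) (tt N17748 (iv D52518)) (tt N20833 (iv F240393)) (tt N17753 F235061) (tt N21502 D54272))
theorem Q19750 : ∀ i, i < 19750 → P i := stepQ 19749 Q19749 (allL N19749 (tt N21170 (iv F241885)) (tt N17801 F235062) (tt N21500 (iv F243015)) (tt N21365 (iv F242641)) (tt N17765 F235063) (tt N17749 F235064) (tt N21502 (iv F243024)) (tt N17757 F235065) (tt N21503 D54273) (tt N17748 (iv D52519)))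
theorem Q19751 : ∀ i, i < 19751 → P i := stepQ 19750 Q19750 (allL N19750 (tt N21481 (iv F242962)) (tt N21150 (iv F241790)) (tt N21501 (iv F243019)) (tt N21504 D54274) (tt N17750 F235066) (tt N21503 (iv F243027)) (tt N21494 (iv F242998)) (tt N17758 F235067) (tt N17749 (iv D52520)) (tt N21486 (iv F242976)))
theorem Q19752 : ∀ i, i < 19752 → P i := stepQ 19751 Q19751 (allL N19751 (tt N17831 F235068) (tt N17753 F235069) (tt N20988 (iv F241097)) (tt N17751 (iv D52521)) (tt N17781 F235070) (tt N21505 D54275) (tt N17790 F235071) (tt N20852 (iv F240477)) (tt N17796 (iv F235072)) (tt N21506 D54276))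
theorem Q19753 : ∀ i, i < 19753 → P i := stepQ 19752 Q19752 (allL N19752 (tt N20266 (iv F237529)) (tt N17754 F235073) (tt N17804 F235074) (tt N21505 (iv F243033)) (tt N17767 F235075) (tt N17751 (iv D52522)) (tt N20211 (iv F237222)) (tt N21495 (iv F243002)) (tt N20226 (iv F237319)) (tt N21507 D54277))
theorem Q19754 : ∀ i, i < 19754 → P i := stepQ 19753 Q19753 (allL N19753 (tt N21258 (iv F242265)) (tt N17755 F235076) (tt N21153 (iv F241807)) (tt N21506 (iv F243038)) (tt N17752 F235077) (tt N21507 (iv F243044)) (tt N20802 (iv F240246)) (tt N21496 (iv F243005)) (tt N21508 D54278) (tt N17751 (iv D52523)))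
theorem Q19755 : ∀ i, i < 19755 → P i := stepQ 19754 Q19754 (allL N19754 (tt N21267 (iv F242309)) (tt N17756 F235078) (tt N21154 (iv F241811)) (tt N20831 (iv F240381)) (tt N21508 (iv F243046)) (tt N17769 F235079) (tt N20803 (iv F240252)) (tt N21497 (iv F243008)) (tt N17752 (iv D52524)) (tt N20759 (iv F240031)))
theorem Q19756 : ∀ i, i < 19756 → P i := stepQ 19755 Q19755 (allL N19755 (tt N20779 (iv F240129)) (tt N21505 (iv F243032)) (tt N21386 (iv F242717)) (tt N17754 F235080) (tt N19755 F235081) (tt N17753 (iv D52525)) (tt N20839 (iv F240417)) (tt N21498 (iv F243011)) (tt N21492 (iv F242994)) (tt N21509 D54279))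
theorem Q19757 : ∀ i, i < 19757 → P i := stepQ 19756 Q19756 (allL N19756 (tt N20780 (iv F240132)) (tt N21506 (iv F243037)) (tt N21388 (iv F242723)) (tt N17755 F235082) (tt N17783 F235083) (tt N21509 (iv F243049)) (tt N20804 (iv F240260)) (tt N21499 (iv F243014)) (tt N21510 D54280) (tt N17753 (iv D52526)))
theorem Q19758 : ∀ i, i < 19758 → P i := stepQ 19757 Q19757 (allL N19757 (tt N20787 (iv F240166)) (tt N21507 (iv F243041)) (tt N17757 F235084) (tt N21509 (iv F243047)) (tt N17770 F235085) (tt N17755 F235086) (tt N20840 (iv F240421)) (tt N21500 (iv F243018)) (tt N21511 D54281) (tt N17754 (iv D52527)))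
theorem Q19759 : ∀ i, i < 19759 → P i := stepQ 19758 Q19758 (allL N19758 (tt N20788 (iv F240170)) (tt N21508 (iv F243045)) (tt N17758 F235087) (tt N21512 D54282) (tt N17756 F235088) (tt N21511 (iv F243053)) (tt N20806 (iv F240272)) (tt N21501 (iv F243021)) (tt N17755 (iv D52528)) (tt N20769 (iv F240088)))
theorem Q19760 : ∀ i, i < 19760 → P i := stepQ 19759 Q19759 (allL N19759 (tt N21172 (iv F241897)) (tt N17809 F235089) (tt N21511 (iv F243051)) (tt N21513 D54283) (tt N17772 F235090) (tt N17758 F235091) (tt N20842 (iv F240427)) (tt N21503 (iv F243028)) (tt N17757 (iv D52529)) (tt N21487 (iv F242980)))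
theorem Q19761 : ∀ i, i < 19761 → P i := stepQ 19760 Q19760 (allL N19760 (tt N21482 (iv F242965)) (tt N21157 (iv F241822)) (tt N21514 D54284) (tt N17758 (iv D52530)) (tt N17902 F235092) (tt N21513 (iv F243055)) (tt N20810 (iv F240286)) (tt N21504 (iv F243030)) (tt N21393 (iv F242738)) (tt N21488 (iv F242982)))
theorem Q19762 : ∀ i, i < 19762 → P i := stepQ 19761 Q19761 (allL N19761 (tt N20278 (iv F237600)) (tt N17761 F235093) (tt N17798 F235094) (tt N19761 F235095) (tt N21495 (iv F243001)) (tt N17759 (iv D52531)) (tt N20735 (iv F239901)) (tt N17767 F235096) (tt N20230 (iv F237342)) (tt N21515 D54285))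
theorem Q19763 : ∀ i, i < 19763 → P i := stepQ 19762 Q19762 (allL N19762 (tt N20284 (iv F237635)) (tt N17762 F235097) (tt N17811 F235098) (tt N19762 F235099) (tt N17760 F235100) (tt N21515 (iv F243060)) (tt N19762 F235101) (tt N17768 F235102) (tt N21516 D54286) (tt N17759 (iv D52532)))
theorem Q19764 : ∀ i, i < 19764 → P i := stepQ 19763 Q19763 (allL N19763 (tt N21268 (iv F242314)) (tt N17763 F235103) (tt N21159 (iv F241833)) (tt N20832 (iv F240387)) (tt N21516 (iv F243064)) (tt N21497 (iv F243007)) (tt N19763 F235104) (tt N17769 F235105) (tt N17760 (iv D52533)) (tt N20761 (iv F240044)))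
theorem Q19765 : ∀ i, i < 19765 → P i := stepQ 19764 Q19764 (allL N19764 (tt N20789 (iv F240175)) (tt N21515 (iv F243057)) (tt N17765 F235106) (tt N19764 F235107) (tt N21500 (iv F243016)) (tt N17762 F235108) (tt N21400 (iv F242755)) (tt N17770 F235109) (tt N21517 D54287) (tt N17761 (iv D52534)))
theorem Q19766 : ∀ i, i < 19766 → P i := stepQ 19765 Q19765 (allL N19765 (tt N20790 (iv F240180)) (tt N21516 (iv F243062)) (tt N17766 F235110) (tt N21518 D54288) (tt N17763 F235111) (tt N21517 (iv F243068)) (tt N19765 F235112) (tt N17771 F235113) (tt N17762 (iv D52535)) (tt N20770 (iv F240094)))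
theorem Q19767 : ∀ i, i < 19767 → P i := stepQ 19766 Q19766 (allL N19766 (tt N20492 (iv F238820)) (tt N17797 F235114) (tt N21400 (iv F242752)) (tt N17775 F235115) (tt N21502 (iv F243023)) (tt N19766 F235116) (tt N17765 F235117) (tt N20834 (iv F240399)) (tt N21519 D54289) (tt N17764 (iv D52536)))
theorem Q19768 : ∀ i, i < 19768 → P i := stepQ 19767 Q19767 (allL N19767 (tt N21171 (iv F241891)) (tt N17802 F235118) (tt N21517 (iv F243067)) (tt N21207 (iv F242039)) (tt N21503 (iv F243026)) (tt N17766 F235119) (tt N21519 (iv F243075)) (tt N17772 F235120) (tt N17765 (iv D52537)) (tt N20827 (iv F240364)))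
theorem Q19769 : ∀ i, i < 19769 → P i := stepQ 19768 Q19768 (allL N19768 (tt N20279 (iv F237607)) (tt N17770 F235121) (tt N17805 F235122) (tt N19768 F235123) (tt N21507 (iv F243043)) (tt N17768 F235124) (tt N20216 (iv F237252)) (tt N21515 (iv F243061)) (tt N21520 D54290) (tt N17767 (iv D52538)))
theorem Q19770 : ∀ i, i < 19770 → P i := stepQ 19769 Q19769 (allL N19769 (tt N20285 (iv F237642)) (tt N17771 F235125) (tt N17814 F235126) (tt N21521 D54291) (tt N17769 F235127) (tt N21520 (iv F243079)) (tt N17773 F235128) (tt N21516 (iv F243066)) (tt N17768 (iv D52539)) (tt N20235 (iv F237371)))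
theorem Q19771 : ∀ i, i < 19771 → P i := stepQ 19770 Q19770 (allL N19770 (tt N20791 (iv F240186)) (tt N21520 (iv F243077)) (tt N17772 F235129) (tt N21522 D54292) (tt N21511 (iv F243052)) (tt N17771 F235130) (tt N20841 (iv F240424)) (tt N21517 (iv F243069)) (tt N17770 (iv D52540)) (tt N20771 (iv F240098)))
theorem Q19772 : ∀ i, i < 19772 → P i := stepQ 19771 Q19771 (allL N19771 (tt N20792 (iv F240190)) (tt N21521 (iv F243080)) (tt N21210 (iv F242050)) (tt N17771 (iv D52541)) (tt N20863 (iv F240531)) (tt N21522 (iv F243083)) (tt N17774 F235131) (tt N21518 (iv F243071)) (tt N19771 F235132) (tt N20772 (iv F240103)))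
theorem Q19773 : ∀ i, i < 19773 → P i := stepQ 19772 Q19772 (allL N19772 (tt N20286 (iv F237648)) (tt N17774 F235133) (tt N20282 (iv F237622)) (tt N17773 (iv D52542)) (tt N20201 (iv F237154)) (tt N20219 (iv F237273)) (tt N21521 (iv F243081)) (tt N19772 F235134) (tt N19772 F235135) (tt N20236 (iv F237379)))
theorem Q19774 : ∀ i, i < 19774 → P i := stepQ 19773 Q19773 (allL N19773 (tt N20776 (iv F240116)) (tt N20853 (iv F240480)) (tt N20743 (iv F239944)) (tt N17779 F235136) (tt N21499 (iv F243013)) (tt N19773 F235137) (tt N20829 (iv F240375)) (tt N17783 F235138) (tt N21523 D54293) (tt N17778 (iv D52543)))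
theorem Q19775 : ∀ i, i < 19775 → P i := stepQ 19774 Q19774 (allL N19774 (tt N17832 F235139) (tt N17783 F235140) (tt N21074 (iv F241412)) (tt N17782 F235141) (tt N21506 (iv F243039)) (tt N19774 F235142) (tt N17791 F235143) (tt N20853 (iv F240485)) (tt N21524 D54294) (tt N17781 (iv D52544)))
theorem Q19776 : ∀ i, i < 19776 → P i := stepQ 19775 Q19775 (allL N19775 (tt N20781 (iv F240136)) (tt N21524 (iv F243088)) (tt N21401 (iv F242756)) (tt N20851 (iv F240469)) (tt N21510 (iv F243050)) (tt N19775 F235144) (tt N20827 (iv F240362)) (tt N21523 (iv F243086)) (tt N17783 (iv D52545)) (tt N21519 (iv F243076)))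
theorem Q19777 : ∀ i, i < 19777 → P i := stepQ 19776 Q19776 (allL N19776 (tt N17826 F235145) (tt N20132 (iv F236736)) (tt N17788 F235146) (tt N21100 (iv F241551)) (tt N17787 (iv D52546)) (tt N21143 (iv F241752)) (tt N20847 (iv F240452)) (tt N20137 (iv F236766)) (tt N21188 (iv F241964)) (tt N21525 D54295))
theorem Q19778 : ∀ i, i < 19778 → P i := stepQ 19777 Q19777 (allL N19777 (tt N17827 F235147) (tt N20133 (iv F236742)) (tt N17789 F235148) (tt N17947 F235149) (tt N21525 (iv F243094)) (tt N18068 F235150) (tt N20848 (iv F240459)) (tt N20138 (iv F236774)) (tt N21526 D54296) (tt N17787 (iv D52547)))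
theorem Q19779 : ∀ i, i < 19779 → P i := stepQ 19778 Q19778 (allL N19778 (tt N17828 F235151) (tt N20798 (iv F240222)) (tt N21525 (iv F243093)) (tt N17792 F235152) (tt N17789 F235153) (tt N21145 (iv F241764)) (tt N20850 (iv F240467)) (tt N20802 (iv F240247)) (tt N21527 D54297) (tt N17788 (iv D52548)))
theorem Q19780 : ∀ i, i < 19780 → P i := stepQ 19779 Q19779 (allL N19779 (tt N17829 F235154) (tt N20799 (iv F240229)) (tt N21526 (iv F243096)) (tt N20827 (iv F240360)) (tt N21527 (iv F243099)) (tt N18069 F235155) (tt N20851 (iv F240471)) (tt N20803 (iv F240253)) (tt N17789 (iv D52549)) (tt N21207 (iv F242042)))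
theorem Q19781 : ∀ i, i < 19781 → P i := stepQ 19780 Q19780 (allL N19780 (tt N17836 F235156) (tt N20804 (iv F240256)) (tt N21077 (iv F241426)) (tt N20802 (iv F240243)) (tt N17791 F235157) (tt N21147 (iv F241776)) (tt N21506 (iv F243040)) (tt N17792 F235158) (tt N21528 D54298) (tt N17790 (iv D52550)))
theorem Q19782 : ∀ i, i < 19782 → P i := stepQ 19781 Q19781 (allL N19781 (tt N17837 F235159) (tt N20827 (iv F240359)) (tt N20998 (iv F241134)) (tt N20799 (iv F240231)) (tt N21528 (iv F243101)) (tt N17794 F235160) (tt N21524 (iv F243090)) (tt N17793 F235161) (tt N17791 (iv D52551)) (tt N17802 F235162))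
theorem Q19783 : ∀ i, i < 19783 → P i := stepQ 19782 Q19782 (allL N19782 (tt N17847 F235163) (tt N21487 (iv F242977)) (tt N21020 (iv F241201)) (tt N21529 D54299) (tt N17793 F235164) (tt N21149 (iv F241787)) (tt N20858 (iv F240508)) (tt N21528 (iv F243102)) (tt N17792 (iv D52552)) (tt N17809 F235165))
theorem Q19784 : ∀ i, i < 19784 → P i := stepQ 19783 Q19783 (allL N19783 (tt N17872 F235166) (tt N20993 (iv F241116)) (tt N17796 F235167) (tt N20307 (iv F237766)) (tt N17795 (iv D52553)) (tt N21295 (iv F242412)) (tt N17799 F235168) (tt N20865 (iv F240545)) (tt N20988 (iv F241101)) (tt N21530 D54300))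
theorem Q19785 : ∀ i, i < 19785 → P i := stepQ 19784 Q19784 (allL N19784 (tt N17873 F235169) (tt N21075 (iv F241418)) (tt N17797 F235170) (tt N17816 F235171) (tt N21530 (iv F243108)) (tt N19784 F235172) (tt N17800 F235173) (tt N20866 (iv F240553)) (tt N21531 D54301) (tt N17795 (iv D52554)))
theorem Q19786 : ∀ i, i < 19786 → P i := stepQ 19785 Q19785 (allL N19785 (tt N17874 F235174) (tt N21492 (iv F242991)) (tt N21295 (iv F242409)) (tt N21125 (iv F241678)) (tt N19785 F235175) (tt N17796 (iv D52555)) (tt N21123 (iv F241668)) (tt N20867 (iv F240556)) (tt N21505 (iv F243035)) (tt N21532 D54302))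
theorem Q19787 : ∀ i, i < 19787 → P i := stepQ 19786 Q19786 (allL N19786 (tt N17875 F235176) (tt N21502 (iv F243022)) (tt N21530 (iv F243107)) (tt N21412 (iv F242790)) (tt N17797 F235177) (tt N21532 (iv F243116)) (tt N17801 F235178) (tt N20868 (iv F240560)) (tt N21533 D54303) (tt N17796 (iv D52556)))
theorem Q19788 : ∀ i, i < 19788 → P i := stepQ 19787 Q19787 (allL N19787 (tt N17876 F235179) (tt N21519 (iv F243073)) (tt N21531 (iv F243111)) (tt N21480 (iv F242959)) (tt N21533 (iv F243118)) (tt N19787 F235180) (tt N17802 F235181) (tt N20869 (iv F240564)) (tt N17797 (iv D52557)) (tt N21524 (iv F243091)))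
theorem Q19789 : ∀ i, i < 19789 → P i := stepQ 19788 Q19788 (allL N19788 (tt N20942 (iv F240884)) (tt N17799 F235182) (tt N21495 (iv F243000)) (tt N20302 (iv F237737)) (tt N17798 (iv D52558)) (tt N20301 F237733) (tt N20993 (iv F241119)) (tt N17804 F235183) (tt N20979 (iv F241063)) (tt N21534 D54304))
theorem Q19790 : ∀ i, i < 19790 → P i := stepQ 19789 Q19789 (allL N19789 (tt N21094 (iv F241516)) (tt N17800 F235184) (tt N21515 (iv F243058)) (tt N17817 F235185) (tt N21534 (iv F243121)) (tt N17811 F235186) (tt N21075 (iv F241421)) (tt N17805 F235187) (tt N21535 D54305) (tt N17798 (iv D52559)))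
theorem Q19791 : ∀ i, i < 19791 → P i := stepQ 19790 Q19790 (allL N19790 (tt N17881 F235188) (tt N21534 (iv F243120)) (tt N17801 F235189) (tt N20308 (iv F237772)) (tt N17800 F235190) (tt N20306 (iv F237760)) (tt N21530 (iv F243109)) (tt N17807 F235191) (tt N21536 D54306) (tt N17799 (iv D52560)))
theorem Q19792 : ∀ i, i < 19792 → P i := stepQ 19791 Q19791 (allL N19791 (tt N17882 F235192) (tt N21535 (iv F243123)) (tt N17802 F235193) (tt N20938 (iv F240872)) (tt N21536 (iv F243128)) (tt N17812 F235194) (tt N21531 (iv F243113)) (tt N17808 F235195) (tt N17800 (iv D52561)) (tt N20998 (iv F241138)))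
theorem Q19793 : ∀ i, i < 19793 → P i := stepQ 19792 Q19792 (allL N19792 (tt N17885 F235196) (tt N21503 (iv F243025)) (tt N21536 (iv F243127)) (tt N21537 D54307) (tt N17802 F235197) (tt N21150 (iv F241792)) (tt N21533 (iv F243119)) (tt N17809 F235198) (tt N17801 (iv D52562)) (tt N21528 (iv F243103)))
theorem Q19794 : ∀ i, i < 19794 → P i := stepQ 19793 Q19793 (allL N19793 (tt N17804 F235199) (tt N17886 F235200) (tt N20266 (iv F237531)) (tt N20934 (iv F240851)) (tt N17803 (iv D52563)) (tt N21151 (iv F241797)) (tt N20263 F237521) (tt N20942 (iv F240888)) (tt N20307 (iv F237769)) (tt N21538 D54308))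
theorem Q19795 : ∀ i, i < 19795 → P i := stepQ 19794 Q19794 (allL N19794 (tt N17805 F235201) (tt N17887 F235202) (tt N20279 (iv F237609)) (tt N17819 F235203) (tt N21538 (iv F243134)) (tt N17813 F235204) (tt N20275 (iv F237587)) (tt N21094 (iv F241521)) (tt N21539 D54309) (tt N17803 (iv D52564)))
theorem Q19796 : ∀ i, i < 19796 → P i := stepQ 19795 Q19795 (allL N19795 (tt N20934 (iv F240849)) (tt N17806 F235205) (tt N20989 (iv F241103)) (tt N17804 (iv D52565)) (tt N17820 F235206) (tt N20292 (iv F237684)) (tt N20877 (iv F240599)) (tt N20302 (iv F237739)) (tt N20986 (iv F241088)) (tt N21540 D54310))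
theorem Q19797 : ∀ i, i < 19797 → P i := stepQ 19796 Q19796 (allL N19796 (tt N21538 (iv F243132)) (tt N17807 F235207) (tt N21507 (iv F243042)) (tt N21540 (iv F243139)) (tt N17805 F235208) (tt N21153 (iv F241809)) (tt N20878 (iv F240604)) (tt N21534 (iv F243122)) (tt N21541 D54311) (tt N17804 (iv D52566)))
theorem Q19798 : ∀ i, i < 19798 → P i := stepQ 19797 Q19797 (allL N19797 (tt N21539 (iv F243135)) (tt N17808 F235209) (tt N21520 (iv F243078)) (tt N20944 (iv F240893)) (tt N21541 (iv F243142)) (tt N17814 F235210) (tt N20879 (iv F240609)) (tt N21535 (iv F243125)) (tt N17805 (iv D52567)) (tt N21010 (iv F241176)))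
theorem Q19799 : ∀ i, i < 19799 → P i := stepQ 19798 Q19798 (allL N19798 (tt N17893 F235211) (tt N20986 (iv F241084)) (tt N20257 (iv F237490)) (tt N21099 (iv F241545)) (tt N17822 F235212) (tt N20255 (iv F237480)) (tt N20881 (iv F240619)) (tt N20263 (iv F237519)) (tt N17806 (iv D52568)) (tt N21542 D54312))
theorem Q19800 : ∀ i, i < 19800 → P i := stepQ 19799 Q19799 (allL N19799 (tt N17894 F235213) (tt N21540 (iv F243138)) (tt N20297 (iv F237708)) (tt N17807 F235214) (tt N17823 F235215) (tt N20294 (iv F237695)) (tt N20882 (iv F240624)) (tt N20308 (iv F237775)) (tt N21543 D54313) (tt N17806 (iv D52569)))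
theorem Q19801 : ∀ i, i < 19801 → P i := stepQ 19800 Q19800 (allL N19800 (tt N17897 F235216) (tt N21541 (iv F243141)) (tt N17809 F235217) (tt N21544 D54314) (tt N17808 F235218) (tt N21155 (iv F241816)) (tt N20884 (iv F240632)) (tt N21536 (iv F243129)) (tt N17807 (iv D52570)) (tt N21020 (iv F241204)))
theorem Q19802 : ∀ i, i < 19802 → P i := stepQ 19801 Q19801 (allL N19801 (tt N17902 F235219) (tt N21513 (iv F243054)) (tt N21545 D54315) (tt N17809 (iv D52571)) (tt N21482 (iv F242966)) (tt N21157 (iv F241824)) (tt N20886 (iv F240638)) (tt N21537 (iv F243131)) (tt N21417 (iv F242805)) (tt N21529 (iv F243105)))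
theorem Q19803 : ∀ i, i < 19803 → P i := stepQ 19802 Q19802 (allL N19802 (tt N17811 F235220) (tt N17904 F235221) (tt N20284 (iv F237637)) (tt N17824 F235222) (tt N21158 (iv F241829)) (tt N21094 (iv F241519)) (tt N19802 F235223) (tt N17813 F235224) (tt N21546 D54316) (tt N17810 (iv D52572)))
theorem Q19804 : ∀ i, i < 19804 → P i := stepQ 19803 Q19803 (allL N19803 (tt N21546 (iv F243149)) (tt N17812 F235225) (tt N21516 (iv F243063)) (tt N20955 (iv F240939)) (tt N21159 (iv F241834)) (tt N21535 (iv F243124)) (tt N19803 F235226) (tt N17814 F235227) (tt N17811 (iv D52573)) (tt N21028 (iv F241232)))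
theorem Q19805 : ∀ i, i < 19805 → P i := stepQ 19804 Q19804 (allL N19804 (tt N17814 F235228) (tt N17916 F235229) (tt N20285 (iv F237644)) (tt N20324 (iv F237849)) (tt N21161 (iv F241845)) (tt N21539 (iv F243137)) (tt N17815 F235230) (tt N21546 (iv F243153)) (tt N17813 (iv D52574)) (tt N20337 (iv F237922)))
theorem Q19806 : ∀ i, i < 19806 → P i := stepQ 19805 Q19805 (allL N19805 (tt N20935 (iv F240854)) (tt N17823 F235231) (tt N21026 (iv F241219)) (tt N17821 F235232) (tt N21540 (iv F243140)) (tt N18023 F235233) (tt N20908 (iv F240747)) (tt N20323 (iv F237845)) (tt N21547 D54317) (tt N17820 (iv D52575)))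
theorem Q19807 : ∀ i, i < 19807 → P i := stepQ 19806 Q19806 (allL N19806 (tt N17941 F235234) (tt N20987 (iv F241090)) (tt N20272 (iv F237565)) (tt N17949 F235235) (tt N21542 (iv F243144)) (tt N18024 F235236) (tt N20909 (iv F240753)) (tt N20275 (iv F237588)) (tt N21548 D54318) (tt N17822 (iv D52576)))
theorem Q19808 : ∀ i, i < 19808 → P i := stepQ 19807 Q19807 (allL N19807 (tt N17942 F235237) (tt N21547 (iv F243154)) (tt N20320 (iv F237825)) (tt N21096 (iv F241528)) (tt N21543 (iv F243146)) (tt N18025 F235238) (tt N20910 (iv F240758)) (tt N20328 (iv F237874)) (tt N17823 (iv D52577)) (tt N21548 (iv F243158)))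
theorem Q19809 : ∀ i, i < 19809 → P i := stepQ 19808 Q19808 (allL N19808 (tt N17825 (iv D52578)) (tt N17921 F235239) (tt N21231 (iv F242157)) (tt N17955 F235240) (tt N21549 D54319) (tt N17929 F235241) (tt N20919 (iv F240796)) (tt N17917 F235242) (tt N21309 (iv F242442)) (tt N21550 D54320))
theorem Q19810 : ∀ i, i < 19810 → P i := stepQ 19809 Q19809 (allL N19809 (tt N21549 (iv F243159)) (tt N17826 F235243) (tt N21232 (iv F242163)) (tt N21551 D54321) (tt N17825 (iv D52579)) (tt N21242 (iv F242206)) (tt N20920 (iv F240799)) (tt N21249 (iv F242238)) (tt N21274 (iv F242337)) (tt N21552 D54322))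
theorem Q19811 : ∀ i, i < 19811 → P i := stepQ 19810 Q19810 (allL N19810 (tt N21550 (iv F243162)) (tt N17827 F235244) (tt N21233 (iv F242168)) (tt N17957 F235245) (tt N21552 (iv F243170)) (tt N18070 F235246) (tt N20921 (iv F240803)) (tt N21263 (iv F242293)) (tt N21553 D54323) (tt N17825 (iv D52580)))
theorem Q19812 : ∀ i, i < 19812 → P i := stepQ 19811 Q19811 (allL N19811 (tt N21100 (iv F241548)) (tt N21551 (iv F243167)) (tt N17841 F235247) (tt N17826 (iv D52581)) (tt N17958 F235248) (tt N21244 (iv F242216)) (tt N20922 (iv F240807)) (tt N21252 (iv F242249)) (tt N21554 D54324) (tt N21555 D54325))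
theorem Q19813 : ∀ i, i < 19813 → P i := stepQ 19812 Q19812 (allL N19812 (tt N21525 (iv F243092)) (tt N21552 (iv F243169)) (tt N17828 F235249) (tt N21555 (iv F243176)) (tt N17827 F235250) (tt N21245 (iv F242220)) (tt N20924 (iv F240813)) (tt N21255 (iv F242258)) (tt N21556 D54326) (tt N17826 (iv D52582)))
theorem Q19814 : ∀ i, i < 19814 → P i := stepQ 19813 Q19813 (allL N19813 (tt N21526 (iv F243095)) (tt N21553 (iv F243171)) (tt N17829 F235251) (tt N21557 D54327) (tt N21556 (iv F243179)) (tt N18071 F235252) (tt N20925 (iv F240816)) (tt N21266 (iv F242307)) (tt N17827 (iv D52583)) (tt N21315 (iv F242473)))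
theorem Q19815 : ∀ i, i < 19815 → P i := stepQ 19814 Q19814 (allL N19814 (tt N21527 (iv F243098)) (tt N21237 (iv F242184)) (tt N21556 (iv F243178)) (tt N21558 D54328) (tt N17829 F235253) (tt N21247 (iv F242228)) (tt N20928 (iv F240826)) (tt N21259 (iv F242273)) (tt N17828 (iv D52584)) (tt N21283 (iv F242369)))
theorem Q19816 : ∀ i, i < 19816 → P i := stepQ 19815 Q19815 (allL N19815 (tt N20988 (iv F241095)) (tt N21099 (iv F241544)) (tt N17831 F235254) (tt N20986 (iv F241085)) (tt N17830 (iv D52585)) (tt N21559 D54329) (tt N17834 F235255) (tt N20929 (iv F240831)) (tt N17872 F235256) (tt N21560 D54330))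
theorem Q19817 : ∀ i, i < 19817 → P i := stepQ 19816 Q19816 (allL N19816 (tt N21074 (iv F241410)) (tt N21097 (iv F241533)) (tt N17832 F235257) (tt N17962 F235258) (tt N21560 (iv F243187)) (tt N19816 F235259) (tt N17835 F235260) (tt N20930 (iv F240838)) (tt N21561 D54331) (tt N17830 (iv D52586)))
theorem Q19818 : ∀ i, i < 19818 → P i := stepQ 19817 Q19817 (allL N19817 (tt N21505 (iv F243031)) (tt N20926 (iv F240817)) (tt N21559 (iv F243183)) (tt N20266 (iv F237532)) (tt N19817 F235261) (tt N17831 (iv D52587)) (tt N20249 (iv F237452)) (tt N20931 (iv F240840)) (tt N17874 F235262) (tt N21562 D54332))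
theorem Q19819 : ∀ i, i < 19819 → P i := stepQ 19818 Q19818 (allL N19818 (tt N21506 (iv F243036)) (tt N21240 (iv F242196)) (tt N21560 (iv F243186)) (tt N21258 (iv F242267)) (tt N17832 F235263) (tt N21562 (iv F243194)) (tt N17836 F235264) (tt N20932 (iv F240844)) (tt N21563 D54333) (tt N17831 (iv D52588)))
theorem Q19820 : ∀ i, i < 19820 → P i := stepQ 19819 Q19819 (allL N19819 (tt N21524 (iv F243087)) (tt N21241 (iv F242200)) (tt N21561 (iv F243189)) (tt N21485 (iv F242970)) (tt N21563 (iv F243195)) (tt N19819 F235265) (tt N17837 F235266) (tt N20933 (iv F240847)) (tt N17832 (iv D52589)) (tt N17876 F235267))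
theorem Q19821 : ∀ i, i < 19821 → P i := stepQ 19820 Q19820 (allL N19820 (tt N20946 (iv F240901)) (tt N17834 F235268) (tt N21242 (iv F242205)) (tt N20881 (iv F240617)) (tt N17833 (iv D52590)) (tt N21232 (iv F242164)) (tt N21099 (iv F241546)) (tt N17839 F235269) (tt N17877 F235270) (tt N21564 D54334))
theorem Q19822 : ∀ i, i < 19822 → P i := stepQ 19821 Q19821 (allL N19821 (tt N21095 (iv F241522)) (tt N17835 F235271) (tt N21243 (iv F242210)) (tt N17963 F235272) (tt N21564 (iv F243199)) (tt N17850 F235273) (tt N21097 (iv F241535)) (tt N17840 F235274) (tt N21565 D54335) (tt N17833 (iv D52591)))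
theorem Q19823 : ∀ i, i < 19823 → P i := stepQ 19822 Q19822 (allL N19822 (tt N20977 (iv F241048)) (tt N20881 (iv F240616)) (tt N21252 (iv F242247)) (tt N17834 (iv D52592)) (tt N17964 F235275) (tt N21234 (iv F242174)) (tt N20986 (iv F241086)) (tt N17841 F235276) (tt N20877 (iv F240601)) (tt N21566 D54336))
theorem Q19824 : ∀ i, i < 19824 → P i := stepQ 19823 Q19823 (allL N19823 (tt N21077 (iv F241425)) (tt N21564 (iv F243198)) (tt N17836 F235277) (tt N21566 (iv F243206)) (tt N17835 F235278) (tt N21235 (iv F242178)) (tt N21560 (iv F243188)) (tt N17843 F235279) (tt N21567 D54337) (tt N17834 (iv D52593)))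
theorem Q19825 : ∀ i, i < 19825 → P i := stepQ 19824 Q19824 (allL N19824 (tt N20998 (iv F241133)) (tt N21565 (iv F243201)) (tt N17837 F235280) (tt N20873 (iv F240584)) (tt N21567 (iv F243210)) (tt N17852 F235281) (tt N21561 (iv F243191)) (tt N17844 F235282) (tt N17835 (iv D52594)) (tt N17882 F235283))
theorem Q19826 : ∀ i, i < 19826 → P i := stepQ 19825 Q19825 (allL N19825 (tt N21528 (iv F243100)) (tt N21247 (iv F242226)) (tt N21567 (iv F243209)) (tt N21568 D54338) (tt N17837 F235284) (tt N21237 (iv F242186)) (tt N21563 (iv F243196)) (tt N17847 F235285) (tt N17836 (iv D52595)) (tt N17885 F235286))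
theorem Q19827 : ∀ i, i < 19827 → P i := stepQ 19826 Q19826 (allL N19826 (tt N17839 F235287) (tt N20307 (iv F237764)) (tt N21007 (iv F241162)) (tt N20993 (iv F241117)) (tt N17838 (iv D52596)) (tt N21291 (iv F242396)) (tt N20302 F237741) (tt N20946 (iv F240905)) (tt N17886 F235288) (tt N21569 D54339))
theorem Q19828 : ∀ i, i < 19828 → P i := stepQ 19827 Q19827 (allL N19827 (tt N17840 F235289) (tt N20327 (iv F237865)) (tt N21039 (iv F241277)) (tt N17966 F235290) (tt N21569 (iv F243216)) (tt N17854 F235291) (tt N20323 (iv F237844)) (tt N21095 (iv F241526)) (tt N21570 D54340) (tt N17838 (iv D52597)))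
theorem Q19829 : ∀ i, i < 19829 → P i := stepQ 19828 Q19828 (allL N19828 (tt N20993 (iv F241115)) (tt N17841 F235292) (tt N21571 D54341) (tt N17839 (iv D52598)) (tt N17967 F235293) (tt N21572 D54342) (tt N20942 (iv F240887)) (tt N20881 (iv F240620)) (tt N20870 (iv F240569)) (tt N21573 D54343))
theorem Q19830 : ∀ i, i < 19830 → P i := stepQ 19829 Q19829 (allL N19829 (tt N21291 (iv F242392)) (tt N17842 F235294) (tt N21249 (iv F242235)) (tt N21572 (iv F243222)) (tt N17855 F235295) (tt N17839 (iv D52599)) (tt N21285 (iv F242376)) (tt N21232 (iv F242165)) (tt N17889 F235296) (tt N21574 D54344))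
theorem Q19831 : ∀ i, i < 19831 → P i := stepQ 19830 Q19830 (allL N19830 (tt N21569 (iv F243215)) (tt N17843 F235297) (tt N21250 (iv F242241)) (tt N21573 (iv F243225)) (tt N17840 F235298) (tt N21574 (iv F243229)) (tt N20943 (iv F240891)) (tt N21564 (iv F243200)) (tt N21575 D54345) (tt N17839 (iv D52600)))
theorem Q19832 : ∀ i, i < 19832 → P i := stepQ 19831 Q19831 (allL N19831 (tt N21570 (iv F243217)) (tt N17844 F235299) (tt N21251 (iv F242244)) (tt N20879 (iv F240607)) (tt N21575 (iv F243231)) (tt N17857 F235300) (tt N20944 (iv F240895)) (tt N21565 (iv F243204)) (tt N17840 (iv D52601)) (tt N17891 F235301))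
theorem Q19833 : ∀ i, i < 19833 → P i := stepQ 19832 Q19832 (allL N19832 (tt N21101 (iv F241553)) (tt N21572 (iv F243221)) (tt N21244 (iv F242214)) (tt N17842 F235302) (tt N19832 F235303) (tt N17841 (iv D52602)) (tt N21576 D54346) (tt N21234 (iv F242175)) (tt N21577 D54347) (tt N21578 D54348))
theorem Q19834 : ∀ i, i < 19834 → P i := stepQ 19833 Q19833 (allL N19833 (tt N21099 (iv F241543)) (tt N20870 (iv F240566)) (tt N21554 (iv F243173)) (tt N17893 F235304) (tt N17969 F235305) (tt N21577 (iv F243237)) (tt N20946 (iv F240904)) (tt N20877 (iv F240600)) (tt N17841 (iv D52603)) (tt N21579 D54349))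
theorem Q19835 : ∀ i, i < 19835 → P i := stepQ 19834 Q19834 (allL N19834 (tt N21083 (iv F241451)) (tt N21573 (iv F243224)) (tt N21555 (iv F243175)) (tt N17843 F235306) (tt N17970 F235307) (tt N21578 (iv F243240)) (tt N20947 (iv F240909)) (tt N21566 (iv F243208)) (tt N21580 D54350) (tt N17841 (iv D52604)))
theorem Q19836 : ∀ i, i < 19836 → P i := stepQ 19835 Q19835 (allL N19835 (tt N20116 (iv F236635)) (tt N21285 (iv F242373)) (tt N17845 F235308) (tt N21576 (iv F243233)) (tt N17858 F235309) (tt N20948 (iv F240915)) (tt N17842 (iv D52605)) (tt N21581 D54351) (tt N17895 F235310) (tt N21582 D54352))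
theorem Q19837 : ∀ i, i < 19837 → P i := stepQ 19836 Q19836 (allL N19836 (tt N21084 (iv F241456)) (tt N21574 (iv F243227)) (tt N17846 F235311) (tt N21578 (iv F243238)) (tt N17859 F235312) (tt N17843 F235313) (tt N21582 (iv F243249)) (tt N21235 (iv F242179)) (tt N21583 D54353) (tt N17842 (iv D52606)))
theorem Q19838 : ∀ i, i < 19838 → P i := stepQ 19837 Q19837 (allL N19837 (tt N21020 (iv F241200)) (tt N21575 (iv F243230)) (tt N17847 F235314) (tt N21584 D54354) (tt N17844 F235315) (tt N21583 (iv F243252)) (tt N20950 (iv F240924)) (tt N21567 (iv F243211)) (tt N17843 (iv D52607)) (tt N17897 F235316))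
theorem Q19839 : ∀ i, i < 19839 → P i := stepQ 19838 Q19838 (allL N19838 (tt N20114 (iv F236626)) (tt N20911 (iv F240760)) (tt N21581 (iv F243244)) (tt N20252 (iv F237463)) (tt N17861 F235317) (tt N20951 (iv F240927)) (tt N20244 (iv F237427)) (tt N17845 (iv D52608)) (tt N17899 F235318) (tt N21585 D54355))
theorem Q19840 : ∀ i, i < 19840 → P i := stepQ 19839 Q19839 (allL N19839 (tt N20119 (iv F236653)) (tt N21258 (iv F242266)) (tt N21582 (iv F243247)) (tt N21240 (iv F242197)) (tt N17862 F235319) (tt N20952 (iv F240930)) (tt N17846 F235320) (tt N21585 (iv F243256)) (tt N21586 D54356) (tt N17845 (iv D52609)))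
theorem Q19841 : ∀ i, i < 19841 → P i := stepQ 19840 Q19840 (allL N19840 (tt N21149 (iv F241784)) (tt N21259 (iv F242270)) (tt N21583 (iv F243250)) (tt N21587 D54357) (tt N17863 F235321) (tt N17847 F235322) (tt N21586 (iv F243258)) (tt N21237 (iv F242187)) (tt N17846 (iv D52610)) (tt N17901 F235323))
theorem Q19842 : ∀ i, i < 19842 → P i := stepQ 19841 Q19841 (allL N19841 (tt N21529 (iv F243104)) (tt N21260 (iv F242275)) (tt N21588 D54358) (tt N17847 (iv D52611)) (tt N21488 (iv F242981)) (tt N21587 (iv F243260)) (tt N20954 (iv F240935)) (tt N21568 (iv F243213)) (tt N21558 (iv F243182)) (tt N17902 F235324))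
theorem Q19843 : ∀ i, i < 19843 → P i := stepQ 19842 Q19842 (allL N19842 (tt N17850 F235325) (tt N20336 (iv F237910)) (tt N21053 (iv F241322)) (tt N17971 F235326) (tt N21329 (iv F242528)) (tt N21095 (iv F241524)) (tt N19842 F235327) (tt N17854 F235328) (tt N21589 D54359) (tt N17848 (iv D52612)))
theorem Q19844 : ∀ i, i < 19844 → P i := stepQ 19843 Q19843 (allL N19843 (tt N21329 (iv F242524)) (tt N17851 F235329) (tt N18070 F235330) (tt N19843 F235331) (tt N17850 F235332) (tt N21233 (iv F242170)) (tt N19843 F235333) (tt N17856 F235334) (tt N21590 D54360) (tt N17849 (iv D52613)))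
theorem Q19845 : ∀ i, i < 19845 → P i := stepQ 19844 Q19844 (allL N19844 (tt N21589 (iv F243263)) (tt N17852 F235335) (tt N21261 (iv F242278)) (tt N18066 F235336) (tt N21590 (iv F243270)) (tt N21565 (iv F243203)) (tt N19844 F235337) (tt N17857 F235338) (tt N17850 (iv D52614)) (tt N17907 F235339))
theorem Q19846 : ∀ i, i < 19846 → P i := stepQ 19845 Q19845 (allL N19845 (tt N21033 (iv F241249)) (tt N21590 (iv F243268)) (tt N17853 F235340) (tt N21591 D54361) (tt N17852 F235341) (tt N21236 (iv F242181)) (tt N19845 F235342) (tt N17860 F235343) (tt N17851 (iv D52615)) (tt N17909 F235344))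
theorem Q19847 : ∀ i, i < 19847 → P i := stepQ 19846 Q19846 (allL N19846 (tt N17857 F235345) (tt N20337 (iv F237917)) (tt N21054 (iv F241329)) (tt N20276 (iv F237592)) (tt N21330 (iv F242534)) (tt N21570 (iv F243218)) (tt N17864 F235346) (tt N21589 (iv F243266)) (tt N17854 (iv D52616)) (tt N17916 F235347))
theorem Q19848 : ∀ i, i < 19848 → P i := stepQ 19847 Q19847 (allL N19847 (tt N21320 (iv F242493)) (tt N17859 F235348) (tt N21263 (iv F242289)) (tt N19847 F235349) (tt N21574 (iv F243228)) (tt N17856 F235350) (tt N21318 (iv F242486)) (tt N21233 (iv F242171)) (tt N21592 D54362) (tt N17855 (iv D52617)))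
theorem Q19849 : ∀ i, i < 19849 → P i := stepQ 19848 Q19848 (allL N19848 (tt N21330 (iv F242531)) (tt N17860 F235351) (tt N21264 (iv F242296)) (tt N21593 D54363) (tt N17857 F235352) (tt N21592 (iv F243279)) (tt N17865 F235353) (tt N21590 (iv F243272)) (tt N17856 (iv D52618)) (tt N17919 F235354))
theorem Q19850 : ∀ i, i < 19850 → P i := stepQ 19849 Q19849 (allL N19849 (tt N20113 (iv F236619)) (tt N21309 (iv F242438)) (tt N17861 F235355) (tt N19849 F235356) (tt N21581 (iv F243245)) (tt N17866 F235357) (tt N20243 (iv F237422)) (tt N17858 (iv D52619)) (tt N17921 F235358) (tt N21594 D54364))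
theorem Q19851 : ∀ i, i < 19851 → P i := stepQ 19850 Q19850 (allL N19850 (tt N20117 (iv F236641)) (tt N21318 (iv F242482)) (tt N17862 F235359) (tt N19850 F235360) (tt N21582 (iv F243248)) (tt N17867 F235361) (tt N17859 F235362) (tt N21594 (iv F243288)) (tt N21595 D54365) (tt N17858 (iv D52620)))
theorem Q19852 : ∀ i, i < 19852 → P i := stepQ 19851 Q19851 (allL N19851 (tt N21047 (iv F241306)) (tt N21592 (iv F243278)) (tt N17863 F235363) (tt N21596 D54366) (tt N21583 (iv F243251)) (tt N17860 F235364) (tt N21595 (iv F243291)) (tt N21236 (iv F242182)) (tt N17859 (iv D52621)) (tt N17923 F235365))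
theorem Q19853 : ∀ i, i < 19853 → P i := stepQ 19852 Q19852 (allL N19852 (tt N21046 (iv F241300)) (tt N21593 (iv F243281)) (tt N21178 (iv F241920)) (tt N17860 (iv D52622)) (tt N20894 (iv F240674)) (tt N21596 (iv F243293)) (tt N17869 F235366) (tt N21591 (iv F243275)) (tt N19852 F235367) (tt N17924 F235368))
theorem Q19854 : ∀ i, i < 19854 → P i := stepQ 19853 Q19853 (allL N19853 (tt N20115 (iv F236630)) (tt N20912 (iv F240766)) (tt N21594 (iv F243285)) (tt N18072 F235369) (tt N21585 (iv F243255)) (tt N17870 F235370) (tt N20245 (iv F237433)) (tt N17862 F235371) (tt N21597 D54367) (tt N17861 (iv D52623)))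
theorem Q19855 : ∀ i, i < 19855 → P i := stepQ 19854 Q19854 (allL N19854 (tt N20120 (iv F236657)) (tt N21267 (iv F242310)) (tt N21595 (iv F243289)) (tt N20213 (iv F237229)) (tt N21586 (iv F243257)) (tt N17871 F235372) (tt N17863 F235373) (tt N21597 (iv F243297)) (tt N17862 (iv D52624)) (tt N17927 F235374))
theorem Q19856 : ∀ i, i < 19856 → P i := stepQ 19855 Q19855 (allL N19855 (tt N20283 (iv F237628)) (tt N17869 F235375) (tt N21598 D54368) (tt N17865 (iv D52625)) (tt N20218 (iv F237264)) (tt N21328 (iv F242520)) (tt N21593 (iv F243282)) (tt N19855 F235376) (tt N19855 F235377) (tt N17932 F235378))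
theorem Q19857 : ∀ i, i < 19857 → P i := stepQ 19856 Q19856 (allL N19856 (tt N20121 (iv F236663)) (tt N21310 (iv F242444)) (tt N17870 F235379) (tt N19856 F235380) (tt N20971 (iv F241018)) (tt N21594 (iv F243287)) (tt N19856 F235381) (tt N17867 F235382) (tt N21599 D54369) (tt N17866 (iv D52626)))
theorem Q19858 : ∀ i, i < 19858 → P i := stepQ 19857 Q19857 (allL N19857 (tt N20125 (iv F236689)) (tt N21319 (iv F242488)) (tt N17871 F235383) (tt N21600 D54370) (tt N20972 (iv F241024)) (tt N21595 (iv F243290)) (tt N17868 F235384) (tt N21599 (iv F243305)) (tt N17867 (iv D52627)) (tt N17934 F235385))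
theorem Q19859 : ∀ i, i < 19859 → P i := stepQ 19858 Q19858 (allL N19858 (tt N20128 (iv F236707)) (tt N21328 (iv F242519)) (tt N20218 (iv F237263)) (tt N17868 (iv D52628)) (tt N21598 (iv F243299)) (tt N17869 F235386) (tt N21600 (iv F243307)) (tt N19858 F235387) (tt N19858 F235388) (tt N17935 F235389))
theorem Q19860 : ∀ i, i < 19860 → P i := stepQ 19859 Q19859 (allL N19859 (tt N20124 (iv F236683)) (tt N21268 (iv F242315)) (tt N21599 (iv F243303)) (tt N20214 (iv F237235)) (tt N20973 (iv F241027)) (tt N21597 (iv F243296)) (tt N19859 F235390) (tt N17871 F235391) (tt N17870 (iv D52629)) (tt N17937 F235392))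
theorem Q19861 : ∀ i, i < 19861 → P i := stepQ 19860 Q19860 (allL N19860 (tt N21295 (iv F242408)) (tt N21101 (iv F241554)) (tt N17874 F235393) (tt N20756 F240015) (tt N19860 F235394) (tt N17872 (iv D52630)) (tt N21196 (iv F241995)) (tt N20980 (iv F241066)) (tt N21559 (iv F243185)) (tt N21601 D54371))
theorem Q19862 : ∀ i, i < 19862 → P i := stepQ 19861 Q19861 (allL N19861 (tt N21530 (iv F243106)) (tt N21083 (iv F241452)) (tt N17875 F235395) (tt N21079 (iv F241434)) (tt N17873 F235396) (tt N21601 (iv F243312)) (tt N17881 F235397) (tt N20981 (iv F241070)) (tt N21602 D54372) (tt N17872 (iv D52631)))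
theorem Q19863 : ∀ i, i < 19863 → P i := stepQ 19862 Q19862 (allL N19862 (tt N21531 (iv F243110)) (tt N21081 (iv F241441)) (tt N17876 F235398) (tt N21078 (iv F241430)) (tt N21602 (iv F243314)) (tt N19862 F235399) (tt N17882 F235400) (tt N20982 (iv F241074)) (tt N17873 (iv D52632)) (tt N21561 (iv F243192)))
theorem Q19864 : ∀ i, i < 19864 → P i := stepQ 19863 Q19863 (allL N19863 (tt N21123 (iv F241663)) (tt N20642 (iv F239539)) (tt N21196 (iv F241992)) (tt N20073 (iv F236370)) (tt N19863 F235401) (tt N17883 F235402) (tt N17874 (iv D52633)) (tt N21406 (iv F242771)) (tt N20249 (iv F237453)) (tt N21603 D54373))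
theorem Q19865 : ∀ i, i < 19865 → P i := stepQ 19864 Q19864 (allL N19864 (tt N21532 (iv F243114)) (tt N21272 (iv F242327)) (tt N21601 (iv F243310)) (tt N21433 (iv F242845)) (tt N19864 F235403) (tt N17875 F235404) (tt N21603 (iv F243318)) (tt N20984 (iv F241079)) (tt N21604 D54374) (tt N17874 (iv D52634)))
theorem Q19866 : ∀ i, i < 19866 → P i := stepQ 19865 Q19865 (allL N19865 (tt N21533 (iv F243117)) (tt N21273 (iv F242330)) (tt N21602 (iv F243313)) (tt N21605 D54375) (tt N17876 F235405) (tt N21604 (iv F243320)) (tt N17885 F235406) (tt N20985 (iv F241082)) (tt N17875 (iv D52635)) (tt N21563 (iv F243197)))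
theorem Q19867 : ∀ i, i < 19867 → P i := stepQ 19866 Q19866 (allL N19866 (tt N20945 (iv F240897)) (tt N17880 F235407) (tt N21274 (iv F242334)) (tt N17973 F235408) (tt N17905 F235409) (tt N17877 (iv D52636)) (tt N21193 (iv F241984)) (tt N17889 F235410) (tt N21232 (iv F242166)) (tt N21606 D54376))
theorem Q19868 : ∀ i, i < 19868 → P i := stepQ 19867 Q19867 (allL N19867 (tt N20947 (iv F240906)) (tt N17881 F235411) (tt N21275 (iv F242339)) (tt N17943 F235412) (tt N17878 F235413) (tt N21606 (iv F243325)) (tt N21083 (iv F241454)) (tt N17890 F235414) (tt N21607 D54377) (tt N17877 (iv D52637)))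
theorem Q19869 : ∀ i, i < 19869 → P i := stepQ 19868 Q19868 (allL N19868 (tt N21096 (iv F241527)) (tt N17882 F235415) (tt N21276 (iv F242343)) (tt N17942 F235416) (tt N21607 (iv F243328)) (tt N17907 F235417) (tt N21081 (iv F241443)) (tt N17891 F235418) (tt N17878 (iv D52638)) (tt N21565 (iv F243205)))
theorem Q19870 : ∀ i, i < 19870 → P i := stepQ 19869 Q19869 (allL N19869 (tt N20308 (iv F237770)) (tt N17943 F235419) (tt N20227 (iv F237321)) (tt N17881 F235420) (tt N17939 F235421) (tt N20224 (iv F237304)) (tt N21079 (iv F241435)) (tt N17894 F235422) (tt N21608 D54378) (tt N17879 (iv D52639)))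
theorem Q19871 : ∀ i, i < 19871 → P i := stepQ 19870 Q19870 (allL N19870 (tt N20306 (iv F237756)) (tt N21606 (iv F243322)) (tt N17884 F235423) (tt N20224 (iv F237302)) (tt N17908 F235424) (tt N17881 F235425) (tt N21197 (iv F242000)) (tt N17896 F235426) (tt N21609 D54379) (tt N17880 (iv D52640)))
theorem Q19872 : ∀ i, i < 19872 → P i := stepQ 19871 Q19871 (allL N19871 (tt N21536 (iv F243126)) (tt N21607 (iv F243327)) (tt N17885 F235427) (tt N21610 D54380) (tt N17882 F235428) (tt N21609 (iv F243335)) (tt N21602 (iv F243315)) (tt N17897 F235429) (tt N17881 (iv D52641)) (tt N21567 (iv F243212)))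
theorem Q19873 : ∀ i, i < 19873 → P i := stepQ 19872 Q19872 (allL N19872 (tt N20938 (iv F240870)) (tt N17942 F235430) (tt N20856 (iv F240496)) (tt N17882 (iv D52642)) (tt N21611 D54381) (tt N17910 F235431) (tt N21078 (iv F241432)) (tt N17898 F235432) (tt N17940 F235433) (tt N20873 (iv F240587)))
theorem Q19874 : ∀ i, i < 19874 → P i := stepQ 19873 Q19873 (allL N19873 (tt N20130 (iv F236721)) (tt N20637 (iv F239517)) (tt N21187 (iv F241956)) (tt N20071 (iv F236355)) (tt N17911 F235434) (tt N21406 (iv F242770)) (tt N17899 F235435) (tt N17883 (iv D52643)) (tt N20244 (iv F237429)) (tt N21612 D54382))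
theorem Q19875 : ∀ i, i < 19875 → P i := stepQ 19874 Q19874 (allL N19874 (tt N21124 (iv F241670)) (tt N20643 (iv F239544)) (tt N21197 (iv F241997)) (tt N20074 (iv F236378)) (tt N17912 F235436) (tt N21603 (iv F243317)) (tt N17884 F235437) (tt N21612 (iv F243343)) (tt N21613 D54383) (tt N17883 (iv D52644)))
theorem Q19876 : ∀ i, i < 19876 → P i := stepQ 19875 Q19875 (allL N19875 (tt N21150 (iv F241789)) (tt N21283 (iv F242365)) (tt N21609 (iv F243333)) (tt N21614 D54384) (tt N17913 F235438) (tt N17885 F235439) (tt N21613 (iv F243345)) (tt N17901 F235440) (tt N17884 (iv D52645)) (tt N21237 (iv F242188)))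
theorem Q19877 : ∀ i, i < 19877 → P i := stepQ 19876 Q19876 (allL N19876 (tt N21537 (iv F243130)) (tt N21284 (iv F242370)) (tt N21615 D54385) (tt N17885 (iv D52646)) (tt N21504 (iv F243029)) (tt N21614 (iv F243346)) (tt N21605 (iv F243321)) (tt N17902 F235441) (tt N21439 (iv F242862)) (tt N21568 (iv F243214)))
theorem Q19878 : ∀ i, i < 19878 → P i := stepQ 19877 Q19877 (allL N19877 (tt N17889 F235442) (tt N21151 (iv F241795)) (tt N21285 (iv F242374)) (tt N20936 (iv F240861)) (tt N17914 F235443) (tt N17886 (iv D52647)) (tt N21249 (iv F242237)) (tt N20945 (iv F240900)) (tt N21291 (iv F242397)) (tt N21616 D54386))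
theorem Q19879 : ∀ i, i < 19879 → P i := stepQ 19878 Q19878 (allL N19878 (tt N17890 F235444) (tt N21538 (iv F243133)) (tt N21286 (iv F242379)) (tt N20937 (iv F240867)) (tt N17887 F235445) (tt N21616 (iv F243351)) (tt N21003 (iv F241149)) (tt N20947 (iv F240910)) (tt N21617 D54387) (tt N17886 (iv D52648)))
theorem Q19880 : ∀ i, i < 19880 → P i := stepQ 19879 Q19879 (allL N19879 (tt N17891 F235446) (tt N21539 (iv F243136)) (tt N21287 (iv F242382)) (tt N20328 (iv F237872)) (tt N21617 (iv F243353)) (tt N17916 F235447) (tt N21004 (iv F241152)) (tt N21096 (iv F241531)) (tt N17887 (iv D52649)) (tt N21570 (iv F243219)))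
theorem Q19881 : ∀ i, i < 19881 → P i := stepQ 19880 Q19880 (allL N19880 (tt N20936 (iv F240859)) (tt N17892 F235448) (tt N20854 (iv F240487)) (tt N17889 F235449) (tt N17974 F235450) (tt N17888 (iv D52650)) (tt N21618 D54388) (tt N17973 F235451) (tt N20871 (iv F240575)) (tt N21619 D54389))
theorem Q19882 : ∀ i, i < 19882 → P i := stepQ 19881 Q19881 (allL N19881 (tt N20937 (iv F240865)) (tt N17894 F235452) (tt N20855 (iv F240492)) (tt N17890 F235453) (tt N17940 F235454) (tt N21619 (iv F243360)) (tt N21006 (iv F241159)) (tt N17943 F235455) (tt N21611 (iv F243340)) (tt N17888 (iv D52651)))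
theorem Q19883 : ∀ i, i < 19883 → P i := stepQ 19882 Q19882 (allL N19882 (tt N21249 (iv F242233)) (tt N17895 F235456) (tt N21291 (iv F242394)) (tt N21618 (iv F243355)) (tt N17917 F235457) (tt N21007 (iv F241164)) (tt N17889 (iv D52652)) (tt N21549 (iv F243161)) (tt N21285 (iv F242377)) (tt N21620 D54390))
theorem Q19884 : ∀ i, i < 19884 → P i := stepQ 19883 Q19883 (allL N19883 (tt N21616 (iv F243349)) (tt N17896 F235458) (tt N21292 (iv F242399)) (tt N21619 (iv F243358)) (tt N17918 F235459) (tt N17890 F235460) (tt N21620 (iv F243364)) (tt N21606 (iv F243326)) (tt N21621 D54391) (tt N17889 (iv D52653)))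
theorem Q19885 : ∀ i, i < 19885 → P i := stepQ 19884 Q19884 (allL N19884 (tt N21617 (iv F243352)) (tt N17897 F235461) (tt N21293 (iv F242403)) (tt N21622 D54392) (tt N17891 F235462) (tt N21621 (iv F243367)) (tt N21009 (iv F241171)) (tt N21607 (iv F243329)) (tt N17890 (iv D52654)) (tt N21575 (iv F243232)))
theorem Q19886 : ∀ i, i < 19886 → P i := stepQ 19885 Q19885 (allL N19885 (tt N20328 (iv F237870)) (tt N17898 F235463) (tt N20232 (iv F237350)) (tt N17891 (iv D52655)) (tt N21608 (iv F243331)) (tt N17920 F235464) (tt N21010 (iv F241174)) (tt N17942 F235465) (tt N17939 F235466) (tt N20879 (iv F240611)))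
theorem Q19887 : ∀ i, i < 19887 → P i := stepQ 19886 Q19886 (allL N19886 (tt N20139 (iv F236775)) (tt N21618 (iv F243354)) (tt N20220 (iv F237278)) (tt N17895 F235467) (tt N18033 F235468) (tt N21011 (iv F241179)) (tt N17892 (iv D52656)) (tt N21180 (iv F241933)) (tt N21623 D54393) (tt N21624 D54394))
theorem Q19888 : ∀ i, i < 19888 → P i := stepQ 19887 Q19887 (allL N19887 (tt N20255 (iv F237478)) (tt N20871 (iv F240571)) (tt N20207 (iv F237195)) (tt N21577 (iv F243235)) (tt N18034 F235469) (tt N17893 F235470) (tt N21623 (iv F243370)) (tt N20209 (iv F237209)) (tt N17892 (iv D52657)) (tt N21625 D54395))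
theorem Q19889 : ∀ i, i < 19889 → P i := stepQ 19888 Q19888 (allL N19888 (tt N20294 (iv F237691)) (tt N21619 (iv F243357)) (tt N20222 (iv F237289)) (tt N17896 F235471) (tt N18035 F235472) (tt N17894 F235473) (tt N21624 (iv F243373)) (tt N20224 (iv F237306)) (tt N21626 D54396) (tt N17892 (iv D52658)))
theorem Q19890 : ∀ i, i < 19890 → P i := stepQ 19889 Q19889 (allL N19889 (tt N21542 (iv F243143)) (tt N20872 (iv F240577)) (tt N21446 (iv F242878)) (tt N21579 (iv F243241)) (tt N17941 F235474) (tt N21625 (iv F243375)) (tt N21014 (iv F241186)) (tt N20878 (iv F240605)) (tt N21627 D54397) (tt N17893 (iv D52659)))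
theorem Q19891 : ∀ i, i < 19891 → P i := stepQ 19890 Q19890 (allL N19890 (tt N21543 (iv F243145)) (tt N21611 (iv F243338)) (tt N21447 (iv F242880)) (tt N21628 D54398) (tt N17942 F235475) (tt N21626 (iv F243377)) (tt N21015 (iv F241188)) (tt N21608 (iv F243332)) (tt N17894 (iv D52660)) (tt N21627 (iv F243379)))
theorem Q19892 : ∀ i, i < 19892 → P i := stepQ 19891 Q19891 (allL N19891 (tt N20132 (iv F236735)) (tt N21549 (iv F243160)) (tt N17899 F235476) (tt N21180 (iv F241931)) (tt N17921 F235477) (tt N21016 (iv F241191)) (tt N21187 (iv F241958)) (tt N17895 (iv D52661)) (tt N21581 (iv F243246)) (tt N21629 D54399))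
theorem Q19893 : ∀ i, i < 19893 → P i := stepQ 19892 Q19892 (allL N19892 (tt N20141 (iv F236786)) (tt N21620 (iv F243362)) (tt N17900 F235478) (tt N21624 (iv F243371)) (tt N17922 F235479) (tt N21017 (iv F241194)) (tt N17896 F235480) (tt N21629 (iv F243383)) (tt N21630 D54400) (tt N17895 (iv D52662)))
theorem Q19894 : ∀ i, i < 19894 → P i := stepQ 19893 Q19893 (allL N19893 (tt N21155 (iv F241813)) (tt N21621 (iv F243365)) (tt N17901 F235481) (tt N21631 D54401) (tt N17923 F235482) (tt N17897 F235483) (tt N21630 (iv F243386)) (tt N21609 (iv F243336)) (tt N17896 (iv D52663)) (tt N21583 (iv F243253)))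
theorem Q19895 : ∀ i, i < 19895 → P i := stepQ 19894 Q19894 (allL N19894 (tt N21544 (iv F243147)) (tt N21622 (iv F243368)) (tt N21632 D54402) (tt N17897 (iv D52664)) (tt N21633 D54403) (tt N21631 (iv F243387)) (tt N21019 (iv F241199)) (tt N21610 (iv F243337)) (tt N21628 (iv F243380)) (tt N21584 (iv F243254)))
theorem Q19896 : ∀ i, i < 19896 → P i := stepQ 19895 Q19895 (allL N19895 (tt N20950 (iv F240921)) (tt N21608 (iv F243330)) (tt N20858 (iv F240506)) (tt N21633 (iv F243389)) (tt N17898 (iv D52665)) (tt N21634 D54404) (tt N21020 (iv F241202)) (tt N21611 (iv F243339)) (tt N17943 F235484) (tt N20884 (iv F240633)))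
theorem Q19897 : ∀ i, i < 19897 → P i := stepQ 19896 Q19896 (allL N19896 (tt N20135 (iv F236752)) (tt N21305 (iv F242429)) (tt N21629 (iv F243381)) (tt N21452 (iv F242889)) (tt N17926 F235485) (tt N21021 (iv F241206)) (tt N21612 (iv F243342)) (tt N17900 F235486) (tt N21635 D54405) (tt N17899 (iv D52666)))
theorem Q19898 : ∀ i, i < 19898 → P i := stepQ 19897 Q19897 (allL N19897 (tt N20144 (iv F236799)) (tt N21306 (iv F242432)) (tt N21630 (iv F243384)) (tt N21636 D54406) (tt N17927 F235487) (tt N21022 (iv F241209)) (tt N17901 F235488) (tt N21635 (iv F243393)) (tt N17900 (iv D52667)) (tt N21586 (iv F243259)))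
theorem Q19899 : ∀ i, i < 19899 → P i := stepQ 19898 Q19898 (allL N19898 (tt N21157 (iv F241821)) (tt N21307 (iv F242435)) (tt N21637 D54407) (tt N17901 (iv D52668)) (tt N21202 (iv F242017)) (tt N17902 F235489) (tt N21636 (iv F243394)) (tt N21614 (iv F243347)) (tt N21454 (iv F242895)) (tt N21587 (iv F243261)))
theorem Q19900 : ∀ i, i < 19900 → P i := stepQ 19899 Q19899 (allL N19899 (tt N21545 (iv F243148)) (tt N21638 D54408) (tt N17902 (iv D52669)) (tt N21632 (iv F243388)) (tt N21514 (iv F243056)) (tt N21637 (iv F243395)) (tt N21024 (iv F241212)) (tt N21615 (iv F243348)) (tt N21455 (iv F242896)) (tt N21588 (iv F243262)))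
theorem Q19901 : ∀ i, i < 19901 → P i := stepQ 19900 Q19900 (allL N19900 (tt N17905 F235490) (tt N20356 (iv F238017)) (tt N21309 (iv F242439)) (tt N18045 F235491) (tt N20945 (iv F240899)) (tt N17903 (iv D52670)) (tt N20913 (iv F240774)) (tt N17914 F235492) (tt N21231 (iv F242161)) (tt N21639 D54409))
theorem Q19902 : ∀ i, i < 19902 → P i := stepQ 19901 Q19901 (allL N19901 (tt N17906 F235493) (tt N21158 (iv F241826)) (tt N21310 (iv F242445)) (tt N18026 F235494) (tt N17904 F235495) (tt N21639 (iv F243398)) (tt N19901 F235496) (tt N17915 F235497) (tt N21640 D54410) (tt N17903 (iv D52671)))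
theorem Q19903 : ∀ i, i < 19903 → P i := stepQ 19902 Q19902 (allL N19902 (tt N17907 F235498) (tt N21546 (iv F243150)) (tt N21311 (iv F242451)) (tt N18025 F235499) (tt N21640 (iv F243401)) (tt N21096 (iv F241529)) (tt N19902 F235500) (tt N17916 F235501) (tt N17904 (iv D52672)) (tt N21589 (iv F243267)))
theorem Q19904 : ∀ i, i < 19904 → P i := stepQ 19903 Q19903 (allL N19903 (tt N21639 (iv F243396)) (tt N17908 F235502) (tt N21312 (iv F242455)) (tt N18046 F235503) (tt N21606 (iv F243324)) (tt N17906 F235504) (tt N21220 (iv F242108)) (tt N17918 F235505) (tt N21641 D54411) (tt N17905 (iv D52673)))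
theorem Q19905 : ∀ i, i < 19905 → P i := stepQ 19904 Q19904 (allL N19904 (tt N21640 (iv F243400)) (tt N17909 F235506) (tt N21313 (iv F242460)) (tt N21642 D54412) (tt N17907 F235507) (tt N21641 (iv F243405)) (tt N19904 F235508) (tt N17919 F235509) (tt N17906 (iv D52674)) (tt N21590 (iv F243273)))
theorem Q19906 : ∀ i, i < 19906 → P i := stepQ 19905 Q19905 (allL N19905 (tt N20364 (iv F238066)) (tt N21641 (iv F243404)) (tt N17913 F235510) (tt N21643 D54413) (tt N21609 (iv F243334)) (tt N17909 F235511) (tt N21223 (iv F242122)) (tt N17923 F235512) (tt N17908 (iv D52675)) (tt N21236 (iv F242183)))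
theorem Q19907 : ∀ i, i < 19907 → P i := stepQ 19906 Q19906 (allL N19906 (tt N21160 (iv F241837)) (tt N21642 (iv F243407)) (tt N21206 (iv F242033)) (tt N17909 (iv D52676)) (tt N21644 D54414) (tt N21643 (iv F243412)) (tt N19906 F235513) (tt N17924 F235514) (tt N18048 F235515) (tt N21591 (iv F243277)))
theorem Q19908 : ∀ i, i < 19908 → P i := stepQ 19907 Q19907 (allL N19907 (tt N20958 (iv F240955)) (tt N18037 F235516) (tt N20861 (iv F240521)) (tt N21644 (iv F243416)) (tt N17910 (iv D52677)) (tt N21645 D54415) (tt N19907 F235517) (tt N17925 F235518) (tt N17944 F235519) (tt N20889 (iv F240657)))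
theorem Q19909 : ∀ i, i < 19909 → P i := stepQ 19908 Q19908 (allL N19908 (tt N20131 (iv F236728)) (tt N20638 (iv F239522)) (tt N21216 (iv F242082)) (tt N17938 F235520) (tt N21612 (iv F243341)) (tt N19908 F235521) (tt N17926 F235522) (tt N17912 F235523) (tt N21646 D54416) (tt N17911 (iv D52678)))
theorem Q19910 : ∀ i, i < 19910 → P i := stepQ 19909 Q19909 (allL N19909 (tt N21142 (iv F241744)) (tt N20644 (iv F239548)) (tt N21223 (iv F242120)) (tt N21184 (iv F241946)) (tt N21613 (iv F243344)) (tt N19909 F235524) (tt N17913 F235525) (tt N21646 (iv F243425)) (tt N17912 (iv D52679)) (tt N20251 (iv F237461)))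
theorem Q19911 : ∀ i, i < 19911 → P i := stepQ 19910 Q19910 (allL N19910 (tt N17918 F235526) (tt N21152 (iv F241801)) (tt N21318 (iv F242483)) (tt N18049 F235527) (tt N21616 (iv F243350)) (tt N17915 F235528) (tt N21263 (iv F242292)) (tt N21639 (iv F243399)) (tt N21647 D54417) (tt N17914 (iv D52680)))
theorem Q19912 : ∀ i, i < 19912 → P i := stepQ 19911 Q19911 (allL N19911 (tt N17919 F235529) (tt N21161 (iv F241843)) (tt N21319 (iv F242489)) (tt N20329 (iv F237876)) (tt N17916 F235530) (tt N21647 (iv F243427)) (tt N17928 F235531) (tt N21640 (iv F243403)) (tt N17915 (iv D52681)) (tt N21330 (iv F242536)))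
theorem Q19913 : ∀ i, i < 19913 → P i := stepQ 19912 Q19912 (allL N19912 (tt N21263 (iv F242287)) (tt N17922 F235532) (tt N21320 (iv F242495)) (tt N18051 F235533) (tt N21620 (iv F243363)) (tt N17930 F235534) (tt N17918 F235535) (tt N21550 (iv F243166)) (tt N21648 D54418) (tt N17917 (iv D52682)))
theorem Q19914 : ∀ i, i < 19914 → P i := stepQ 19913 Q19913 (allL N19913 (tt N21647 (iv F243426)) (tt N17923 F235536) (tt N21321 (iv F242500)) (tt N21649 D54419) (tt N21621 (iv F243366)) (tt N17919 F235537) (tt N21648 (iv F243430)) (tt N21641 (iv F243406)) (tt N17918 (iv D52683)) (tt N21592 (iv F243280)))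
theorem Q19915 : ∀ i, i < 19915 → P i := stepQ 19914 Q19914 (allL N19914 (tt N20329 (iv F237875)) (tt N17924 F235538) (tt N21650 D54420) (tt N17919 (iv D52684)) (tt N20229 (iv F237332)) (tt N21649 (iv F243432)) (tt N17932 F235539) (tt N21642 (iv F243410)) (tt N18053 F235540) (tt N21593 (iv F243284)))
theorem Q19916 : ∀ i, i < 19916 → P i := stepQ 19915 Q19915 (allL N19915 (tt N20133 (iv F236741)) (tt N21550 (iv F243163)) (tt N17926 F235541) (tt N18054 F235542) (tt N21629 (iv F243382)) (tt N17933 F235543) (tt N21216 (iv F242085)) (tt N17922 F235544) (tt N21651 D54421) (tt N17921 (iv D52685)))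
theorem Q19917 : ∀ i, i < 19917 → P i := stepQ 19916 Q19916 (allL N19916 (tt N20142 (iv F236790)) (tt N21648 (iv F243428)) (tt N17927 F235545) (tt N21652 D54422) (tt N21630 (iv F243385)) (tt N17934 F235546) (tt N17923 F235547) (tt N21651 (iv F243439)) (tt N17922 (iv D52686)) (tt N21595 (iv F243292)))
theorem Q19918 : ∀ i, i < 19918 → P i := stepQ 19917 Q19917 (allL N19917 (tt N21156 (iv F241817)) (tt N21649 (iv F243431)) (tt N21200 (iv F242009)) (tt N17923 (iv D52687)) (tt N21653 D54423) (tt N17924 F235548) (tt N21652 (iv F243441)) (tt N21643 (iv F243413)) (tt N18056 F235549) (tt N21596 (iv F243295)))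
theorem Q19919 : ∀ i, i < 19919 → P i := stepQ 19918 Q19918 (allL N19918 (tt N20966 (iv F240994)) (tt N20229 (iv F237330)) (tt N21211 (iv F242054)) (tt N17925 F235550) (tt N17924 (iv D52688)) (tt N21654 D54424) (tt N17936 F235551) (tt N21644 (iv F243418)) (tt N18057 F235552) (tt N20894 (iv F240677)))
theorem Q19920 : ∀ i, i < 19920 → P i := stepQ 19919 Q19919 (allL N19919 (tt N20965 (iv F240990)) (tt N20225 (iv F237308)) (tt N20862 (iv F240527)) (tt N21654 (iv F243444)) (tt N21634 (iv F243390)) (tt N17925 (iv D52689)) (tt N21195 (iv F241990)) (tt N21645 (iv F243421)) (tt N17945 F235553) (tt N20893 (iv F240672)))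
theorem Q19921 : ∀ i, i < 19921 → P i := stepQ 19920 Q19920 (allL N19920 (tt N20136 (iv F236756)) (tt N21327 (iv F242515)) (tt N21651 (iv F243437)) (tt N20223 (iv F237296)) (tt N21635 (iv F243392)) (tt N17937 F235554) (tt N21646 (iv F243424)) (tt N17927 F235555) (tt N17926 (iv D52690)) (tt N21597 (iv F243298)))
theorem Q19922 : ∀ i, i < 19922 → P i := stepQ 19921 Q19921 (allL N19921 (tt N18070 F235556) (tt N17933 F235557) (tt N21329 (iv F242526)) (tt N18061 F235558) (tt N21053 (iv F241324)) (tt N21550 (iv F243165)) (tt N19921 F235559) (tt N17930 F235560) (tt N21655 D54425) (tt N17929 (iv D52691)))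
theorem Q19923 : ∀ i, i < 19923 → P i := stepQ 19922 Q19922 (allL N19922 (tt N21264 (iv F242294)) (tt N17934 F235561) (tt N21330 (iv F242533)) (tt N21656 D54426) (tt N21054 (iv F241330)) (tt N21648 (iv F243429)) (tt N17931 F235562) (tt N21655 (iv F243449)) (tt N17930 (iv D52692)) (tt N21319 (iv F242492)))
theorem Q19924 : ∀ i, i < 19924 → P i := stepQ 19923 Q19923 (allL N19923 (tt N20338 (iv F237923)) (tt N17935 F235563) (tt N21212 (iv F242058)) (tt N17931 (iv D52693)) (tt N21060 (iv F241353)) (tt N17932 F235564) (tt N21656 (iv F243451)) (tt N19923 F235565) (tt N18063 F235566) (tt N21328 (iv F242523)))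
theorem Q19925 : ∀ i, i < 19925 → P i := stepQ 19924 Q19924 (allL N19924 (tt N20159 (iv F236882)) (tt N21060 (iv F241351)) (tt N17932 (iv D52694)) (tt N21057 (iv F241340)) (tt N17935 F235567) (tt N21212 (iv F242059)) (tt N21650 (iv F243435)) (tt N19924 F235568) (tt N18064 F235569) (tt N21598 (iv F243302)))
theorem Q19926 : ∀ i, i < 19926 → P i := stepQ 19925 Q19925 (allL N19925 (tt N20147 (iv F236816)) (tt N21655 (iv F243447)) (tt N17937 F235570) (tt N21657 D54427) (tt N21055 (iv F241334)) (tt N21651 (iv F243438)) (tt N19925 F235571) (tt N17934 F235572) (tt N17933 (iv D52695)) (tt N21599 (iv F243306)))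
theorem Q19927 : ∀ i, i < 19927 → P i := stepQ 19926 Q19926 (allL N19926 (tt N20154 (iv F236855)) (tt N21656 (iv F243450)) (tt N20229 (iv F237331)) (tt N17934 (iv D52696)) (tt N21650 (iv F243434)) (tt N21652 (iv F243440)) (tt N17935 F235573) (tt N21657 (iv F243455)) (tt N18065 F235574) (tt N21600 (iv F243309)))
theorem Q19928 : ∀ i, i < 19928 → P i := stepQ 19927 Q19927 (allL N19927 (tt N21548 (iv F243156)) (tt N20873 (iv F240582)) (tt N21472 (iv F242938)) (tt N21565 (iv F243202)) (tt N21627 (iv F243378)) (tt N18066 F235575) (tt N21080 (iv F241438)) (tt N20879 (iv F240610)) (tt N17941 (iv D52697)) (tt N17942 F235576))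
theorem Q19929 : ∀ i, i < 19929 → P i := stepQ 19928 Q19928 (allL N19928 (tt N20949 (iv F240917)) (tt N20224 (iv F237300)) (tt N20857 (iv F240502)) (tt N21606 (iv F243323)) (tt N17945 F235577) (tt N17943 (iv D52698)) (tt N21194 (iv F241987)) (tt N21619 (iv F243361)) (tt N21634 (iv F243391)) (tt N17973 F235578))
theorem Q19930 : ∀ i, i < 19930 → P i := stepQ 19929 Q19929 (allL N19929 (tt N20957 (iv F240950)) (tt N18035 F235579) (tt N20860 (iv F240516)) (tt N18031 F235580) (tt N21619 (iv F243359)) (tt N17944 (iv D52699)) (tt N21658 D54428) (tt N17945 F235581) (tt N21645 (iv F243422)) (tt N17974 F235582))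
theorem Q19931 : ∀ i, i < 19931 → P i := stepQ 19930 Q19930 (allL N19930 (tt N17960 F235583) (tt N20167 (iv F236930)) (tt N17948 F235584) (tt N21659 D54429) (tt N20750 (iv F239976)) (tt N18074 F235585) (tt N21085 (iv F241465)) (tt N20170 (iv F236955)) (tt N17947 (iv D52700)) (tt N19930 F235586))
theorem Q19932 : ∀ i, i < 19932 → P i := stepQ 19931 Q19931 (allL N19931 (tt N18030 F235587) (tt N17951 F235588) (tt N19931 F235589) (tt N20956 (iv F240946)) (tt N17950 (iv D52701)) (tt N19931 F235590) (tt N18029 F235591) (tt N17956 F235592) (tt N19931 F235593) (tt N21660 D54430))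
theorem Q19933 : ∀ i, i < 19933 → P i := stepQ 19932 Q19932 (allL N19932 (tt N18051 F235594) (tt N17952 F235595) (tt N19932 F235596) (tt N21263 (iv F242290)) (tt N21660 (iv F243467)) (tt N18059 F235597) (tt N18049 F235598) (tt N17957 F235599) (tt N21661 D54431) (tt N17950 (iv D52702)))
theorem Q19934 : ∀ i, i < 19934 → P i := stepQ 19933 Q19933 (allL N19933 (tt N20168 (iv F236937)) (tt N20956 (iv F240944)) (tt N17964 F235600) (tt N17951 (iv D52703)) (tt N21252 F242250) (tt N19933 F235601) (tt N20291 (iv F237678)) (tt N17958 F235602) (tt N20907 (iv F240743)) (tt N21662 D54432))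
theorem Q19935 : ∀ i, i < 19935 → P i := stepQ 19934 Q19934 (allL N19934 (tt N20169 (iv F236943)) (tt N21660 (iv F243465)) (tt N17953 F235603) (tt N21662 (iv F243479)) (tt N17952 F235604) (tt N19934 F235605) (tt N20353 (iv F238004)) (tt N17959 F235606) (tt N21663 D54433) (tt N17951 (iv D52704)))
theorem Q19936 : ∀ i, i < 19936 → P i := stepQ 19935 Q19935 (allL N19935 (tt N20170 (iv F236950)) (tt N21661 (iv F243472)) (tt N17954 F235607) (tt N20824 (iv F240347)) (tt N21663 (iv F243483)) (tt N18075 F235608) (tt N21163 (iv F241855)) (tt N17960 F235609) (tt N17952 (iv D52705)) (tt N19935 F235610))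
theorem Q19937 : ∀ i, i < 19937 → P i := stepQ 19936 Q19936 (allL N19936 (tt N20178 (iv F237000)) (tt N19936 F235611) (tt N21663 (iv F243482)) (tt N20628 (iv F239466)) (tt N17954 F235612) (tt N19936 F235613) (tt N20373 (iv F238114)) (tt N17961 F235614) (tt N17953 (iv D52706)) (tt N19936 F235615))
theorem Q19938 : ∀ i, i < 19938 → P i := stepQ 19937 Q19937 (allL N19937 (tt N17957 F235616) (tt N18054 F235617) (tt N19937 F235618) (tt N21550 (iv F243164)) (tt N21213 (iv F242065)) (tt N18061 F235619) (tt N21088 (iv F241486)) (tt N18051 F235620) (tt N21664 D54434) (tt N17955 (iv D52707)))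
theorem Q19939 : ∀ i, i < 19939 → P i := stepQ 19938 Q19938 (allL N19938 (tt N21179 (iv F241924)) (tt N17958 F235621) (tt N20959 (iv F240962)) (tt N17956 (iv D52708)) (tt N21551 (iv F243168)) (tt N19938 F235622) (tt N20963 (iv F240982)) (tt N20956 F240949) (tt N21029 (iv F241238)) (tt N21665 D54435))
theorem Q19940 : ∀ i, i < 19940 → P i := stepQ 19939 Q19939 (allL N19939 (tt N21213 (iv F242062)) (tt N17959 F235623) (tt N19939 F235624) (tt N21665 (iv F243494)) (tt N17957 F235625) (tt N19939 F235626) (tt N21089 (iv F241493)) (tt N21660 (iv F243470)) (tt N21666 D54436) (tt N17956 (iv D52709)))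
theorem Q19941 : ∀ i, i < 19941 → P i := stepQ 19940 Q19940 (allL N19940 (tt N21664 (iv F243487)) (tt N17960 F235627) (tt N19940 F235628) (tt N21667 D54437) (tt N21666 (iv F243498)) (tt N18076 F235629) (tt N21090 (iv F241498)) (tt N21661 (iv F243476)) (tt N17957 (iv D52710)) (tt N19940 F235630))
theorem Q19942 : ∀ i, i < 19942 → P i := stepQ 19941 Q19941 (allL N19941 (tt N21098 (iv F241537)) (tt N21029 (iv F241233)) (tt N17969 F235631) (tt N19941 F235632) (tt N21554 (iv F243174)) (tt N19941 F235633) (tt N21038 (iv F241273)) (tt N20907 (iv F240742)) (tt N17958 (iv D52711)) (tt N21668 D54438))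
theorem Q19943 : ∀ i, i < 19943 → P i := stepQ 19942 Q19942 (allL N19942 (tt N21082 (iv F241445)) (tt N21665 (iv F243493)) (tt N17970 F235634) (tt N17959 F235635) (tt N21555 (iv F243177)) (tt N19942 F235636) (tt N21091 (iv F241504)) (tt N21662 (iv F243481)) (tt N21669 D54439) (tt N17958 (iv D52712)))
theorem Q19944 : ∀ i, i < 19944 → P i := stepQ 19943 Q19943 (allL N19943 (tt N20750 (iv F239974)) (tt N21666 (iv F243496)) (tt N17961 F235637) (tt N21670 D54440) (tt N17960 F235638) (tt N19943 F235639) (tt N21092 (iv F241510)) (tt N21663 (iv F243485)) (tt N17959 (iv D52713)) (tt N19943 F235640))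
theorem Q19945 : ∀ i, i < 19945 → P i := stepQ 19944 Q19944 (allL N19944 (tt N21659 (iv F243461)) (tt N21667 (iv F243501)) (tt N20821 (iv F240332)) (tt N17960 (iv D52714)) (tt N21671 D54441) (tt N18077 F235641) (tt N21093 (iv F241514)) (tt N20824 (iv F240349)) (tt N21557 (iv F243181)) (tt N19944 F235642))
theorem Q19946 : ∀ i, i < 19946 → P i := stepQ 19945 Q19945 (allL N19945 (tt N20978 (iv F241053)) (tt N20909 (iv F240750)) (tt N21662 (iv F243478)) (tt N17965 F235643) (tt N21566 (iv F243207)) (tt N19945 F235644) (tt N20987 (iv F241093)) (tt N17970 F235645) (tt N21672 D54442) (tt N17964 (iv D52715)))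
theorem Q19947 : ∀ i, i < 19947 → P i := stepQ 19946 Q19946 (allL N19946 (tt N20735 (iv F239896)) (tt N20959 (iv F240961)) (tt N17967 (iv D52716)) (tt N19946 F235646) (tt N21571 (iv F243220)) (tt N19946 F235647) (tt N20278 (iv F237605)) (tt N20271 F237562) (tt N20318 (iv F237816)) (tt N21673 D54443))
theorem Q19948 : ∀ i, i < 19948 → P i := stepQ 19947 Q19947 (allL N19947 (tt N21075 (iv F241417)) (tt N17970 F235648) (tt N21673 (iv F243514)) (tt N17968 F235649) (tt N21573 (iv F243226)) (tt N19947 F235650) (tt N21094 (iv F241520)) (tt N20909 (iv F240754)) (tt N21674 D54444) (tt N17967 (iv D52717)))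
theorem Q19949 : ∀ i, i < 19949 → P i := stepQ 19948 Q19948 (allL N19948 (tt N21097 (iv F241532)) (tt N20904 (iv F240720)) (tt N21668 (iv F243504)) (tt N17972 F235651) (tt N21579 (iv F243242)) (tt N19948 F235652) (tt N21095 (iv F241525)) (tt N20908 (iv F240748)) (tt N21675 D54445) (tt N17969 (iv D52718)))
theorem Q19950 : ∀ i, i < 19950 → P i := stepQ 19949 Q19949 (allL N19949 (tt N21081 (iv F241440)) (tt N21674 (iv F243517)) (tt N21669 (iv F243507)) (tt N20910 (iv F240756)) (tt N21580 (iv F243243)) (tt N19949 F235653) (tt N21096 (iv F241530)) (tt N21672 (iv F243513)) (tt N17970 (iv D52719)) (tt N21675 (iv F243520)))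
theorem Q19951 : ∀ i, i < 19951 → P i := stepQ 19950 Q19950 (allL N19950 (tt N20956 (iv F240943)) (tt N18033 F235654) (tt N20859 (iv F240511)) (tt N18030 F235655) (tt N21618 (iv F243356)) (tt N19950 F235656) (tt N17974 (iv D52720)) (tt N21179 (iv F241928)) (tt N20887 (iv F240644)) (tt N21658 (iv F243460)))
theorem Q19952 : ∀ i, i < 19952 → P i := stepQ 19951 Q19951 (allL N19951 (tt N18002 F235657) (tt N20488 (iv F238796)) (tt N19951 F235658) (tt N21420 (iv F242812)) (tt N20162 (iv F236902)) (tt N17987 (iv D52721)) (tt N21374 (iv F242682)) (tt N20056 (iv F236244)) (tt N20055 F236237) (tt N19951 F235659))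
theorem Q19953 : ∀ i, i < 19953 → P i := stepQ 19952 Q19952 (allL N19952 (tt N20818 (iv F240318)) (tt N17997 F235660) (tt N20832 (iv F240386)) (tt N21676 D54446) (tt N20197 (iv F237128)) (tt N21469 (iv F242932)) (tt N19952 F235661) (tt N20200 (iv F237149)) (tt N17994 (iv D52722)) (tt N20843 (iv F240432)))
theorem Q19954 : ∀ i, i < 19954 → P i := stepQ 19953 Q19953 (allL N19953 (tt N20826 (iv F240353)) (tt N17998 F235662) (tt N21167 (iv F241871)) (tt N17995 (iv D52723)) (tt N20351 (iv F237989)) (tt N21470 (iv F242934)) (tt N19953 F235663) (tt N20204 (iv F237180)) (tt N21676 (iv F243523)) (tt N19953 F235664))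
theorem Q19955 : ∀ i, i < 19955 → P i := stepQ 19954 Q19954 (allL N19954 (tt N20273 (iv F237569)) (tt N20843 (iv F240428)) (tt N18066 F235665) (tt N21677 D54447) (tt N20214 (iv F237236)) (tt N21472 (iv F242939)) (tt N19954 F235666) (tt N20217 (iv F237259)) (tt N17996 (iv D52724)) (tt N17997 F235667))
theorem Q19956 : ∀ i, i < 19956 → P i := stepQ 19955 Q19955 (allL N19955 (tt N20321 (iv F237828)) (tt N21676 (iv F243521)) (tt N21314 (iv F242466)) (tt N17997 (iv D52725)) (tt N21058 (iv F241343)) (tt N21473 (iv F242941)) (tt N19955 F235668) (tt N20233 (iv F237357)) (tt N17998 F235669) (tt N21677 (iv F243526)))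
theorem Q19957 : ∀ i, i < 19957 → P i := stepQ 19956 Q19956 (allL N19956 (tt N20543 (iv F239048)) (tt N18002 F235670) (tt N20549 (iv F239088)) (tt N21476 (iv F242948)) (tt N20346 (iv F237969)) (tt N18001 (iv D52726)) (tt N20627 (iv F239461)) (tt N20101 (iv F236548)) (tt N20100 F236541) (tt N19956 F235671))
theorem Q19958 : ∀ i, i < 19958 → P i := stepQ 19957 Q19957 (allL N19957 (tt N21374 (iv F242678)) (tt N20627 (iv F239458)) (tt N19957 F235672) (tt N21477 (iv F242950)) (tt N21061 (iv F241358)) (tt N18003 F235673) (tt N18002 (iv D52727)) (tt N20629 (iv F239476)) (tt N20626 F239456) (tt N19957 F235674))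
theorem Q19959 : ∀ i, i < 19959 → P i := stepQ 19958 Q19958 (allL N19958 (tt N18007 F235675) (tt N18012 (iv F235681)) (tt N18006 (iv D52728)) (tt N20001 F235856) (tt N20008 (iv F235911)) (tt N18011 F235676) (tt N19958 F235677) (tt N18013 F235678) (tt N19958 F235679) (tt N19958 F235680))
theorem Q19960 : ∀ i, i < 19960 → P i := stepQ 19959 Q19959 (allL N19959 (tt N18008 F235682) (tt N19959 F235683) (tt N20008 (iv F235910)) (tt N20006 F235898) (tt N18006 (iv D52729)) (tt N20005 (iv F235885)) (tt N19959 F235684) (tt N20009 (iv F235923)) (tt N19959 F235685) (tt N19959 F235686))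
theorem Q19961 : ∀ i, i < 19961 → P i := stepQ 19960 Q19960 (allL N19960 (tt N20008 (iv F235908)) (tt N19960 F235687) (tt N18008 F235688) (tt N20007 F235907) (tt N18007 (iv D52730)) (tt N20009 (iv F235921)) (tt N19960 F235689) (tt N20005 (iv F235887)) (tt N19960 F235690) (tt N19960 F235691))
theorem Q19962 : ∀ i, i < 19962 → P i := stepQ 19961 Q19961 (allL N19961 (tt N18015 F235692) (tt N18019 F235693) (tt N20007 (iv F235901)) (tt N18018 F235694) (tt N20367 (iv F238082)) (tt N18020 F235695) (tt N19961 F235696) (tt N18021 F235697) (tt N18014 (iv D52731)) (tt N19961 F235698))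
theorem Q19963 : ∀ i, i < 19963 → P i := stepQ 19962 Q19962 (allL N19962 (tt N18018 F235699) (tt N18016 F235700) (tt N20006 (iv F235892)) (tt N18015 (iv D52732)) (tt N21166 (iv F241866)) (tt N18021 F235701) (tt N19962 F235702) (tt N18020 F235703) (tt N18017 F235704) (tt N19962 F235705))
theorem Q19964 : ∀ i, i < 19964 → P i := stepQ 19963 Q19963 (allL N19963 (tt N18041 F235706) (tt N21166 (iv F241864)) (tt N19963 F235707) (tt N20369 (iv F238091)) (tt N18016 (iv D52733)) (tt N21678 D54448) (tt N19963 F235708) (tt N18050 F235709) (tt N18026 F235710) (tt N19963 F235711))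
theorem Q19965 : ∀ i, i < 19965 → P i := stepQ 19964 Q19964 (allL N19964 (tt N18032 F235712) (tt N20367 (iv F238080)) (tt N19964 F235713) (tt N21168 (iv F241877)) (tt N18019 (iv D52734)) (tt N21679 D54449) (tt N19964 F235714) (tt N18022 F235715) (tt N18027 F235716) (tt N19964 F235717))
theorem Q19966 : ∀ i, i < 19966 → P i := stepQ 19965 Q19965 (allL N19965 (tt N18058 F235718) (tt N20358 (iv F238031)) (tt N19965 F235719) (tt N21169 (iv F241883)) (tt N21678 (iv F243529)) (tt N18022 (iv D52735)) (tt N21219 (iv F242103)) (tt N21679 (iv F243536)) (tt N18028 F235720) (tt N19965 F235721))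
theorem Q19967 : ∀ i, i < 19967 → P i := stepQ 19966 Q19966 (allL N19966 (tt N20955 (iv F240937)) (tt N18025 F235722) (tt N21027 (iv F241224)) (tt N21546 (iv F243151)) (tt N20316 (iv F237803)) (tt N21547 (iv F243155)) (tt N19966 F235723) (tt N20324 (iv F237852)) (tt N18023 (iv D52736)) (tt N21025 (iv F241217)))
theorem Q19968 : ∀ i, i < 19968 → P i := stepQ 19967 Q19967 (allL N19967 (tt N18066 F235724) (tt N21025 (iv F241214)) (tt N20273 (iv F237571)) (tt N21589 (iv F243264)) (tt N20270 (iv F237552)) (tt N21548 (iv F243157)) (tt N19967 F235725) (tt N20276 (iv F237595)) (tt N18024 (iv D52737)) (tt N18025 F235726))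
theorem Q19969 : ∀ i, i < 19969 → P i := stepQ 19968 Q19968 (allL N19968 (tt N18046 F235727) (tt N20357 (iv F238024)) (tt N19968 F235728) (tt N21639 (iv F243397)) (tt N18028 F235729) (tt N18026 (iv D52738)) (tt N21086 (iv F241473)) (tt N18049 F235730) (tt N21678 (iv F243531)) (tt N18045 F235731))
theorem Q19970 : ∀ i, i < 19970 → P i := stepQ 19969 Q19969 (allL N19969 (tt N18031 F235732) (tt N20353 (iv F238000)) (tt N19969 F235733) (tt N20957 (iv F240952)) (tt N18049 F235734) (tt N18027 (iv D52739)) (tt N21660 (iv F243469)) (tt N18028 F235735) (tt N21679 (iv F243537)) (tt N18029 F235736))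
theorem Q19971 : ∀ i, i < 19971 → P i := stepQ 19970 Q19970 (allL N19970 (tt N21660 (iv F243464)) (tt N18038 F235737) (tt N19970 F235738) (tt N21658 (iv F243458)) (tt N18051 F235739) (tt N19970 F235740) (tt N18031 F235741) (tt N21213 (iv F242068)) (tt N21680 D54450) (tt N18030 (iv D52740)))
theorem Q19972 : ∀ i, i < 19972 → P i := stepQ 19971 Q19971 (allL N19971 (tt N21679 (iv F243533)) (tt N18039 F235742) (tt N19971 F235743) (tt N21681 D54451) (tt N18052 F235744) (tt N18032 F235745) (tt N21680 (iv F243543)) (tt N18058 F235746) (tt N18031 (iv D52741)) (tt N19971 F235747))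
theorem Q19973 : ∀ i, i < 19973 → P i := stepQ 19972 Q19972 (allL N19972 (tt N21168 (iv F241875)) (tt N18040 F235748) (tt N21228 (iv F242142)) (tt N18032 (iv D52742)) (tt N18048 F235749) (tt N21681 (iv F243546)) (tt N19972 F235750) (tt N18057 F235751) (tt N21644 (iv F243419)) (tt N19972 F235752))
theorem Q19974 : ∀ i, i < 19974 → P i := stepQ 19973 Q19973 (allL N19973 (tt N20171 (iv F236957)) (tt N20887 (iv F240640)) (tt N20106 F236579) (tt N19973 F235753) (tt N21623 (iv F243369)) (tt N19973 F235754) (tt N18034 F235755) (tt N20108 (iv F236592)) (tt N18033 (iv D52743)) (tt N21682 D54452))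
theorem Q19975 : ∀ i, i < 19975 → P i := stepQ 19974 Q19974 (allL N19974 (tt N20172 (iv F236963)) (tt N21658 (iv F243457)) (tt N20221 (iv F237283)) (tt N18038 F235756) (tt N21624 (iv F243372)) (tt N19974 F235757) (tt N18035 F235758) (tt N21181 (iv F241939)) (tt N21683 D54453) (tt N18033 (iv D52744)))
theorem Q19976 : ∀ i, i < 19976 → P i := stepQ 19975 Q19975 (allL N19975 (tt N20256 (iv F237483)) (tt N20888 (iv F240646)) (tt N20208 (iv F237200)) (tt N19975 F235759) (tt N21625 (iv F243374)) (tt N18036 F235760) (tt N21682 (iv F243551)) (tt N20210 (iv F237217)) (tt N21684 D54454) (tt N18034 (iv D52745)))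
theorem Q19977 : ∀ i, i < 19977 → P i := stepQ 19976 Q19976 (allL N19976 (tt N20295 (iv F237697)) (tt N21645 (iv F243420)) (tt N20223 (iv F237295)) (tt N21685 D54455) (tt N21626 (iv F243376)) (tt N18037 F235761) (tt N21683 (iv F243553)) (tt N20225 (iv F237312)) (tt N18035 (iv D52746)) (tt N21684 (iv F243555)))
theorem Q19978 : ∀ i, i < 19978 → P i := stepQ 19977 Q19977 (allL N19977 (tt N20270 (iv F237550)) (tt N20889 (iv F240652)) (tt N20214 (iv F237234)) (tt N21686 D54456) (tt N18066 F235762) (tt N21684 (iv F243554)) (tt N19977 F235763) (tt N20215 (iv F237245)) (tt N18036 (iv D52747)) (tt N18037 F235764))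
theorem Q19979 : ∀ i, i < 19979 → P i := stepQ 19978 Q19978 (allL N19978 (tt N20317 (iv F237806)) (tt N21644 (iv F243415)) (tt N21657 (iv F243453)) (tt N18037 (iv D52748)) (tt N21642 (iv F243408)) (tt N21685 (iv F243556)) (tt N19978 F235765) (tt N20229 (iv F237334)) (tt N18040 F235766) (tt N21686 (iv F243560)))
theorem Q19980 : ∀ i, i < 19980 → P i := stepQ 19979 Q19979 (allL N19979 (tt N20173 (iv F236969)) (tt N21680 (iv F243539)) (tt N18042 F235767) (tt N21687 D54457) (tt N18055 F235768) (tt N19979 F235769) (tt N18039 F235770) (tt N21214 (iv F242074)) (tt N18038 (iv D52749)) (tt N19979 F235771))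
theorem Q19981 : ∀ i, i < 19981 → P i := stepQ 19980 Q19980 (allL N19980 (tt N20355 (iv F238012)) (tt N21681 (iv F243545)) (tt N21688 D54458) (tt N18039 (iv D52750)) (tt N21689 D54459) (tt N18040 F235772) (tt N21687 (iv F243562)) (tt N20242 (iv F237417)) (tt N21685 (iv F243557)) (tt N19980 F235773))
theorem Q19982 : ∀ i, i < 19982 → P i := stepQ 19981 Q19981 (allL N19981 (tt N20175 (iv F236981)) (tt N21690 D54460) (tt N18040 (iv D52751)) (tt N18044 F235774) (tt N21691 D54461) (tt N21688 (iv F243565)) (tt N19981 F235775) (tt N18065 F235776) (tt N21657 (iv F243456)) (tt N19981 F235777))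
theorem Q19983 : ∀ i, i < 19983 → P i := stepQ 19982 Q19982 (allL N19982 (tt N20369 (iv F238090)) (tt N18048 F235778) (tt N21691 (iv F243575)) (tt N18041 F235779) (tt N18040 (iv D52752)) (tt N21692 D54462) (tt N19982 F235780) (tt N18053 F235781) (tt N21642 (iv F243411)) (tt N19982 F235782))
theorem Q19984 : ∀ i, i < 19984 → P i := stepQ 19983 Q19983 (allL N19983 (tt N21678 (iv F243527)) (tt N18047 F235783) (tt N19983 F235784) (tt N21692 (iv F243581)) (tt N18058 F235785) (tt N18041 (iv D52753)) (tt N21221 (iv F242113)) (tt N18052 F235786) (tt N18046 F235787) (tt N19983 F235788))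
theorem Q19985 : ∀ i, i < 19985 → P i := stepQ 19984 Q19984 (allL N19984 (tt N20167 (iv F236929)) (tt N21664 (iv F243488)) (tt N18043 (iv D52754)) (tt N21688 (iv F243564)) (tt N21214 (iv F242071)) (tt N18044 F235789) (tt N21217 (iv F242091)) (tt N18055 F235790) (tt N18054 F235791) (tt N19984 F235792))
theorem Q19986 : ∀ i, i < 19986 → P i := stepQ 19985 Q19985 (allL N19985 (tt N18076 F235793) (tt N18044 (iv D52755)) (tt N19985 F235794) (tt N21690 (iv F243571)) (tt N19985 F235795) (tt N21664 (iv F243490)) (tt N19985 F235796) (tt N18062 F235797) (tt N18061 F235798) (tt N19985 F235799))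
theorem Q19987 : ∀ i, i < 19987 → P i := stepQ 19986 Q19986 (allL N19986 (tt N20365 (iv F238071)) (tt N21692 (iv F243580)) (tt N21218 (iv F242095)) (tt N18047 (iv D52756)) (tt N21693 D54463) (tt N18048 F235800) (tt N21224 (iv F242125)) (tt N18056 F235801) (tt N21643 (iv F243414)) (tt N19986 F235802))
theorem Q19988 : ∀ i, i < 19988 → P i := stepQ 19987 Q19987 (allL N19987 (tt N18052 F235803) (tt N21163 (iv F241852)) (tt N19987 F235804) (tt N20371 (iv F238102)) (tt N21679 (iv F243535)) (tt N18050 F235805) (tt N21661 (iv F243475)) (tt N21678 (iv F243530)) (tt N18049 (iv D52757)) (tt N19987 F235806))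
theorem Q19989 : ∀ i, i < 19989 → P i := stepQ 19988 Q19988 (allL N19988 (tt N21661 (iv F243471)) (tt N18055 F235807) (tt N19988 F235808) (tt N21694 D54464) (tt N21680 (iv F243541)) (tt N18062 F235809) (tt N18052 F235810) (tt N21664 (iv F243491)) (tt N18051 (iv D52758)) (tt N19988 F235811))
theorem Q19990 : ∀ i, i < 19990 → P i := stepQ 19989 Q19989 (allL N19989 (tt N20371 (iv F238101)) (tt N18056 F235812) (tt N21695 D54465) (tt N18052 (iv D52759)) (tt N21696 D54466) (tt N18053 F235813) (tt N21694 (iv F243588)) (tt N21692 (iv F243582)) (tt N21649 (iv F243433)) (tt N19989 F235814))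
theorem Q19991 : ∀ i, i < 19991 → P i := stepQ 19990 Q19990 (allL N19990 (tt N20177 (iv F236994)) (tt N21071 (iv F241393)) (tt N18053 (iv D52760)) (tt N19990 F235815) (tt N18065 F235816) (tt N21695 (iv F243591)) (tt N18064 F235817) (tt N21691 (iv F243578)) (tt N21650 (iv F243436)) (tt N19990 F235818))
theorem Q19992 : ∀ i, i < 19992 → P i := stepQ 19991 Q19991 (allL N19991 (tt N20174 (iv F236976)) (tt N21694 (iv F243586)) (tt N20242 (iv F237414)) (tt N18055 (iv D52761)) (tt N21697 D54467) (tt N18065 F235819) (tt N18056 F235820) (tt N21688 (iv F243566)) (tt N21652 (iv F243442)) (tt N19991 F235821))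
theorem Q19993 : ∀ i, i < 19993 → P i := stepQ 19992 Q19992 (allL N19992 (tt N21165 (iv F241860)) (tt N21696 (iv F243593)) (tt N21225 (iv F242128)) (tt N21689 (iv F243568)) (tt N18056 (iv D52762)) (tt N21698 D54468) (tt N21697 (iv F243595)) (tt N21693 (iv F243584)) (tt N21653 (iv F243443)) (tt N19992 F235822))
theorem Q19994 : ∀ i, i < 19994 → P i := stepQ 19993 Q19993 (allL N19993 (tt N21169 (iv F241881)) (tt N20242 (iv F237413)) (tt N21230 (iv F242153)) (tt N18058 F235823) (tt N21698 (iv F243597)) (tt N18057 (iv D52763)) (tt N21222 (iv F242117)) (tt N21681 (iv F243547)) (tt N21654 (iv F243445)) (tt N19993 F235824))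
theorem Q19995 : ∀ i, i < 19995 → P i := stepQ 19994 Q19994 (allL N19994 (tt N18062 F235825) (tt N18075 F235826) (tt N19994 F235827) (tt N20372 (iv F238106)) (tt N19994 F235828) (tt N21661 (iv F243474)) (tt N18060 F235829) (tt N18076 F235830) (tt N18059 (iv D52764)) (tt N19994 F235831))
theorem Q19996 : ∀ i, i < 19996 → P i := stepQ 19995 Q19995 (allL N19995 (tt N20372 (iv F238104)) (tt N18065 F235832) (tt N21229 (iv F242148)) (tt N18062 (iv D52765)) (tt N21071 (iv F241396)) (tt N21694 (iv F243587)) (tt N18063 F235833) (tt N21690 (iv F243573)) (tt N21656 (iv F243452)) (tt N19995 F235834))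
theorem Q19997 : ∀ i, i < 19997 → P i := stepQ 19996 Q19996 (allL N19996 (tt N18071 F235835) (tt N20147 (iv F236817)) (tt N18069 F235836) (tt N21699 D54469) (tt N21177 (iv F241915)) (tt N21526 (iv F243097)) (tt N19996 F235837) (tt N20151 (iv F236841)) (tt N18068 (iv D52766)) (tt N21205 (iv F242031)))
theorem Q19998 : ∀ i, i < 19998 → P i := stepQ 19997 Q19997 (allL N19997 (tt N21655 (iv F243446)) (tt N18071 F235838) (tt N21590 (iv F243269)) (tt N21700 D54470) (tt N21261 (iv F242279)) (tt N21553 (iv F243172)) (tt N19997 F235839) (tt N21264 (iv F242299)) (tt N18070 (iv D52767)) (tt N21313 (iv F242464)))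
theorem Q19999 : ∀ i, i < 19999 → P i := stepQ 19998 Q19998 (allL N19998 (tt N21699 (iv F243599)) (tt N21700 (iv F243602)) (tt N20812 (iv F240290)) (tt N18071 (iv D52768)) (tt N21037 (iv F241264)) (tt N21557 (iv F243180)) (tt N19998 F235840) (tt N20817 (iv F240315)) (tt N18077 F235841) (tt N21316 (iv F242477)))
theorem Q20000 : ∀ i, i < 20000 → P i := stepQ 19999 Q19999 (allL N19999 (tt N18077 F235842) (tt N20175 (iv F236982)) (tt N20773 (iv F240105)) (tt N18074 (iv D52769)) (tt N20900 (iv F240701)) (tt N21659 (iv F243462)) (tt N19999 F235843) (tt N20176 (iv F236991)) (tt N21699 (iv F243601)) (tt N19999 F235844))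
theorem Q20001 : ∀ i, i < 20001 → P i := stepQ 20000 Q20000 (allL N20000 (tt N21690 (iv F243570)) (tt N18077 F235845) (tt N21701 D54471) (tt N18076 (iv D52770)) (tt N21065 (iv F241373)) (tt N21667 (iv F243502)) (tt N20000 F235846) (tt N20372 F238109) (tt N21700 (iv F243604)) (tt N20000 F235847))
theorem Q20002 : ∀ i, i < 20002 → P i := stepQ 20001 Q20001 (allL N20001 (tt N18095 F235848) (tt N18489 F235849) (tt N18363 F235850) (tt N19958 (iv F235856)) (tt N18488 F235851) (tt N18603 F235852) (tt N20001 F235853) (tt N18088 F235854) (tt N18087 (iv D52771)) (tt N20001 F235855))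
theorem Q20003 : ∀ i, i < 20003 → P i := stepQ 20002 Q20002 (allL N20002 (tt N18708 F235857) (tt N20002 F235858) (tt N18452 F235859) (tt N19066 F235860) (tt N18707 F235861) (tt N18093 F235862) (tt N18783 F235863) (tt N18091 F235864) (tt N21702 D54472) (tt N18090 (iv D52772)))
theorem Q20004 : ∀ i, i < 20004 → P i := stepQ 20003 Q20003 (allL N20003 (tt N18486 F235865) (tt N20003 F235866) (tt N18453 F235867) (tt N18484 F235868) (tt N19642 F235869) (tt N18094 F235870) (tt N18092 F235871) (tt N21702 (iv F243615)) (tt N18091 (iv D52773)) (tt N20003 F235872))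
theorem Q20005 : ∀ i, i < 20005 → P i := stepQ 20004 Q20004 (allL N20004 (tt N18488 F235873) (tt N20004 F235874) (tt N18456 F235875) (tt N18487 F235876) (tt N18095 F235877) (tt N21702 (iv F243613)) (tt N20004 F235878) (tt N18094 F235879) (tt N18093 (iv D52774)) (tt N20004 F235880))
theorem Q20006 : ∀ i, i < 20006 → P i := stepQ 20005 Q20005 (allL N20005 (tt N18106 F235881) (tt N20005 F235882) (tt N19326 F235883) (tt N18105 F235884) (tt N18096 (iv D52775)) (tt N19959 F235885) (tt N18098 F235886) (tt N19960 F235887) (tt N20005 F235888) (tt N20005 F235889))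
theorem Q20007 : ∀ i, i < 20007 → P i := stepQ 20006 Q20006 (allL N20006 (tt N18101 F235890) (tt N20006 F235891) (tt N19962 F235892) (tt N19959 (iv F235898)) (tt N19362 F235893) (tt N18105 F235894) (tt N20006 F235895) (tt N19325 F235896) (tt N18100 (iv D52776)) (tt N20006 F235897))
theorem Q20008 : ∀ i, i < 20008 → P i := stepQ 20007 Q20007 (allL N20007 (tt N18103 F235899) (tt N20007 F235900) (tt N19961 F235901) (tt N19960 (iv F235907)) (tt N18487 F235902) (tt N19325 F235903) (tt N20007 F235904) (tt N18105 F235905) (tt N18102 (iv D52777)) (tt N20007 F235906))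
theorem Q20009 : ∀ i, i < 20009 → P i := stepQ 20008 Q20008 (allL N20008 (tt N19960 F235908) (tt N18104 F235909) (tt N19959 F235910) (tt N18103 (iv D52778)) (tt N19958 F235911) (tt N19326 F235912) (tt N20008 F235913) (tt N18106 F235914) (tt N20008 F235915) (tt N20008 F235916))
theorem Q20010 : ∀ i, i < 20010 → P i := stepQ 20009 Q20009 (allL N20009 (tt N19326 F235917) (tt N20009 F235918) (tt N18106 (iv D52779)) (tt N19325 F235919) (tt N18907 F235920) (tt N19960 F235921) (tt N18107 F235922) (tt N19959 F235923) (tt N20009 F235924) (tt N20009 F235925))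
theorem Q20011 : ∀ i, i < 20011 → P i := stepQ 20010 Q20010 (allL N20010 (tt N18572 F235926) (tt N18519 F235927) (tt N18586 F235928) (tt N20010 F235929) (tt N18109 F235930) (tt N18545 F235931) (tt N18583 F235932) (tt N18139 F235933) (tt N21703 D54473) (tt N18108 (iv D52780)))
theorem Q20012 : ∀ i, i < 20012 → P i := stepQ 20011 Q20011 (allL N20011 (tt N19266 F235934) (tt N18520 F235935) (tt N19569 F235936) (tt N18124 F235937) (tt N21703 (iv F243620)) (tt N19263 F235938) (tt N19568 F235939) (tt N18140 F235940) (tt N18109 (iv D52781)) (tt N18115 F235941))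
theorem Q20013 : ∀ i, i < 20013 → P i := stepQ 20012 Q20012 (allL N20012 (tt N18586 F235942) (tt N18510 F235943) (tt N18572 F235944) (tt N18116 F235945) (tt N18111 F235946) (tt N18570 F235947) (tt N18114 F235948) (tt N18634 F235949) (tt N21704 D54474) (tt N18110 (iv D52782)))
theorem Q20014 : ∀ i, i < 20014 → P i := stepQ 20013 Q20013 (allL N20013 (tt N19569 F235950) (tt N18523 F235951) (tt N19266 F235952) (tt N18125 F235953) (tt N21704 (iv F243629)) (tt N19267 F235954) (tt N18115 F235955) (tt N19279 F235956) (tt N18111 (iv D52783)) (tt N19568 F235957))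
theorem Q20015 : ∀ i, i < 20015 → P i := stepQ 20014 Q20014 (allL N20014 (tt N18583 F235958) (tt N18574 F235959) (tt N18114 F235960) (tt N20014 F235961) (tt N18113 F235962) (tt N18554 F235963) (tt N18572 F235964) (tt N18157 F235965) (tt N21705 D54475) (tt N18112 (iv D52784)))
theorem Q20016 : ∀ i, i < 20016 → P i := stepQ 20015 Q20015 (allL N20015 (tt N19568 F235966) (tt N18575 F235967) (tt N18115 F235968) (tt N19267 F235969) (tt N21705 (iv F243637)) (tt N18125 F235970) (tt N19266 F235971) (tt N18158 F235972) (tt N18113 (iv D52785)) (tt N19569 F235973))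
theorem Q20017 : ∀ i, i < 20017 → P i := stepQ 20016 Q20016 (allL N20016 (tt N18587 F235974) (tt N18527 F235975) (tt N21705 (iv F243636)) (tt N21706 D54476) (tt N18115 F235976) (tt N18556 F235977) (tt N21704 (iv F243631)) (tt N18159 F235978) (tt N18114 (iv D52786)) (tt N21703 (iv F243624)))
theorem Q20018 : ∀ i, i < 20018 → P i := stepQ 20017 Q20017 (allL N20017 (tt N18590 F235979) (tt N18529 F235980) (tt N21707 D54477) (tt N18117 (iv D52787)) (tt N18132 F235981) (tt N18559 F235982) (tt N19558 F235983) (tt N18164 F235984) (tt N21706 (iv F243649)) (tt N20017 F235985))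
theorem Q20019 : ∀ i, i < 20019 → P i := stepQ 20018 Q20018 (allL N20018 (tt N18537 F235986) (tt N18119 F235987) (tt N19559 F235988) (tt N19272 F235989) (tt N19563 F235990) (tt N19264 F235991) (tt N19566 F235992) (tt N18176 F235993) (tt N18118 (iv D52788)) (tt N19269 F235994))
theorem Q20020 : ∀ i, i < 20020 → P i := stepQ 20019 Q20019 (allL N20019 (tt N19267 F235995) (tt N18568 F235996) (tt N19263 F235997) (tt N19568 F235998) (tt N19555 F235999) (tt N19569 F236000) (tt N18124 F236001) (tt N19276 F236002) (tt N18122 (iv D52789)) (tt N18125 F236003))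
theorem Q20021 : ∀ i, i < 20021 → P i := stepQ 20020 Q20020 (allL N20020 (tt N19271 F236004) (tt N18573 F236005) (tt N19265 F236006) (tt N21708 D54478) (tt N18124 F236007) (tt N19562 F236008) (tt N19555 F236009) (tt N18198 F236010) (tt N18123 (iv D52790)) (tt N18129 F236011))
theorem Q20022 : ∀ i, i < 20022 → P i := stepQ 20021 Q20021 (allL N20021 (tt N18524 F236012) (tt N18586 F236013) (tt N18547 F236014) (tt N18130 F236015) (tt N18564 F236016) (tt N18549 F236017) (tt N18128 F236018) (tt N18680 F236019) (tt N21709 D54479) (tt N18127 (iv D52791)))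
theorem Q20023 : ∀ i, i < 20023 → P i := stepQ 20022 Q20022 (allL N20022 (tt N19561 F236020) (tt N18587 F236021) (tt N19556 F236022) (tt N21710 D54480) (tt N19272 F236023) (tt N18129 F236024) (tt N21709 (iv F243672)) (tt N18217 F236025) (tt N18128 (iv D52792)) (tt N19562 F236026))
theorem Q20024 : ∀ i, i < 20024 → P i := stepQ 20023 Q20023 (allL N20023 (tt N19564 F236027) (tt N18588 F236028) (tt N21711 D54481) (tt N18129 (iv D52793)) (tt N21706 (iv F243645)) (tt N21710 (iv F243679)) (tt N19557 F236029) (tt N18218 F236030) (tt N18132 F236031) (tt N21708 (iv F243665)))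
theorem Q20025 : ∀ i, i < 20025 → P i := stepQ 20024 Q20024 (allL N20024 (tt N19571 F236032) (tt N18590 F236033) (tt N19573 F236034) (tt N18131 (iv D52794)) (tt N19572 F236035) (tt N18132 F236036) (tt N19574 F236037) (tt N18225 F236038) (tt N21710 (iv F243682)) (tt N20024 F236039))
theorem Q20026 : ∀ i, i < 20026 → P i := stepQ 20025 Q20025 (allL N20025 (tt N18594 F236040) (tt N21712 D54482) (tt N18132 (iv D52795)) (tt N18593 F236041) (tt N21707 (iv F243653)) (tt N19573 F236042) (tt N19550 F236043) (tt N18226 F236044) (tt N21711 (iv F243689)) (tt N20025 F236045))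
theorem Q20027 : ∀ i, i < 20027 → P i := stepQ 20026 Q20026 (allL N20026 (tt N19292 F236046) (tt N18650 F236047) (tt N19678 F236048) (tt N19377 F236049) (tt N18133 (iv D52796)) (tt N21713 D54483) (tt N19273 F236050) (tt N19674 F236051) (tt N18144 F236052) (tt N21714 D54484))
theorem Q20028 : ∀ i, i < 20028 → P i := stepQ 20027 Q20027 (allL N20027 (tt N19293 F236053) (tt N18651 F236054) (tt N19692 F236055) (tt N18134 F236056) (tt N21714 (iv F243711)) (tt N18136 F236057) (tt N19274 F236058) (tt N19688 F236059) (tt N21715 D54485) (tt N18133 (iv D52797)))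
theorem Q20029 : ∀ i, i < 20029 → P i := stepQ 20028 Q20028 (allL N20028 (tt N18820 F236060) (tt N18655 F236061) (tt N18859 F236062) (tt N20028 F236063) (tt N21713 (iv F243703)) (tt N18135 (iv D52798)) (tt N18740 F236064) (tt N18855 F236065) (tt N18151 F236066) (tt N21716 D54486))
theorem Q20030 : ∀ i, i < 20030 → P i := stepQ 20029 Q20029 (allL N20029 (tt N18826 F236067) (tt N18656 F236068) (tt N18870 F236069) (tt N20029 F236070) (tt N18136 F236071) (tt N21716 (iv F243726)) (tt N18139 F236072) (tt N18866 F236073) (tt N21717 D54487) (tt N18135 (iv D52799)))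
theorem Q20031 : ∀ i, i < 20031 → P i := stepQ 20030 Q20030 (allL N20030 (tt N19315 F236074) (tt N18657 F236075) (tt N19690 F236076) (tt N18195 F236077) (tt N21717 (iv F243732)) (tt N21715 (iv F243718)) (tt N18140 F236078) (tt N19700 F236079) (tt N18136 (iv D52800)) (tt N18153 F236080))
theorem Q20032 : ∀ i, i < 20032 → P i := stepQ 20031 Q20031 (allL N20031 (tt N18827 F236081) (tt N18663 F236082) (tt N19701 F236083) (tt N21718 D54488) (tt N18140 F236084) (tt N18746 F236085) (tt N21717 (iv F243733)) (tt N21703 (iv F243623)) (tt N18139 (iv D52801)) (tt N18159 F236086))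
theorem Q20033 : ∀ i, i < 20033 → P i := stepQ 20032 Q20032 (allL N20032 (tt N19678 F236087) (tt N18666 F236088) (tt N19292 F236089) (tt N18248 F236090) (tt N18141 (iv D52802)) (tt N21719 D54489) (tt N19294 F236091) (tt N18144 F236092) (tt N19674 F236093) (tt N21720 D54490))
theorem Q20034 : ∀ i, i < 20034 → P i := stepQ 20033 Q20033 (allL N20033 (tt N19692 F236094) (tt N18667 F236095) (tt N19293 F236096) (tt N18142 F236097) (tt N21720 (iv F243755)) (tt N18147 F236098) (tt N19295 F236099) (tt N18145 F236100) (tt N21721 D54491) (tt N18141 (iv D52803)))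
theorem Q20035 : ∀ i, i < 20035 → P i := stepQ 20034 Q20034 (allL N20034 (tt N19674 F236101) (tt N18829 F236102) (tt N18144 F236103) (tt N18401 F236104) (tt N18143 (iv D52804)) (tt N21722 D54492) (tt N18199 F236105) (tt N19292 F236106) (tt N19678 F236107) (tt N21723 D54493))
theorem Q20036 : ∀ i, i < 20036 → P i := stepQ 20035 Q20035 (allL N20035 (tt N19688 F236108) (tt N18830 F236109) (tt N18145 F236110) (tt N18165 F236111) (tt N21723 (iv F243778)) (tt N18150 F236112) (tt N18200 F236113) (tt N19293 F236114) (tt N21724 D54494) (tt N18143 (iv D52805)))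
theorem Q20037 : ∀ i, i < 20037 → P i := stepQ 20036 Q20036 (allL N20036 (tt N18843 F236115) (tt N18671 F236116) (tt N21722 (iv F243768)) (tt N18253 F236117) (tt N18151 F236118) (tt N18144 (iv D52806)) (tt N18755 F236119) (tt N21719 (iv F243749)) (tt N21713 (iv F243706)) (tt N21725 D54495))
theorem Q20038 : ∀ i, i < 20038 → P i := stepQ 20037 Q20037 (allL N20037 (tt N19679 F236120) (tt N18672 F236121) (tt N21723 (iv F243776)) (tt N18254 F236122) (tt N18145 F236123) (tt N21725 (iv F243793)) (tt N19277 F236124) (tt N21720 (iv F243757)) (tt N21726 D54496) (tt N18144 (iv D52807)))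
theorem Q20039 : ∀ i, i < 20039 → P i := stepQ 20038 Q20038 (allL N20038 (tt N19693 F236125) (tt N18673 F236126) (tt N21724 (iv F243783)) (tt N18205 F236127) (tt N21726 (iv F243797)) (tt N18153 F236128) (tt N19278 F236129) (tt N21721 (iv F243764)) (tt N18145 (iv D52808)) (tt N21715 (iv F243721)))
theorem Q20040 : ∀ i, i < 20040 → P i := stepQ 20039 Q20039 (allL N20039 (tt N18859 F236130) (tt N18626 F236131) (tt N18820 F236132) (tt N18160 F236133) (tt N21719 (iv F243747)) (tt N18146 (iv D52809)) (tt N18817 F236134) (tt N18151 F236135) (tt N18855 F236136) (tt N21727 D54497))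
theorem Q20041 : ∀ i, i < 20041 → P i := stepQ 20040 Q20040 (allL N20040 (tt N18870 F236137) (tt N18630 F236138) (tt N18826 F236139) (tt N18161 F236140) (tt N18147 F236141) (tt N21727 (iv F243803)) (tt N18634 F236142) (tt N18152 F236143) (tt N21728 D54498) (tt N18146 (iv D52810)))
theorem Q20042 : ∀ i, i < 20042 → P i := stepQ 20041 Q20041 (allL N20041 (tt N19690 F236144) (tt N18674 F236145) (tt N19315 F236146) (tt N18206 F236147) (tt N21728 (iv F243810)) (tt N21721 (iv F243762)) (tt N19279 F236148) (tt N18153 F236149) (tt N18147 (iv D52811)) (tt N19700 F236150))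
theorem Q20043 : ∀ i, i < 20043 → P i := stepQ 20042 Q20042 (allL N20042 (tt N18148 (iv D52812)) (tt N18615 F236151) (tt N18215 F236152) (tt N18166 F236153) (tt N18653 (iv F236158)) (tt N18747 F236154) (tt N18154 F236155) (tt N18212 F236156) (tt N18608 F236157) (tt N21729 D54499))
theorem Q20044 : ∀ i, i < 20044 → P i := stepQ 20043 Q20043 (allL N20043 (tt N18653 F236159) (tt N18149 F236160) (tt N18608 F236161) (tt N20043 F236162) (tt N18148 (iv D52813)) (tt N21730 D54500) (tt N18155 F236163) (tt N18196 F236164) (tt N18215 F236165) (tt N21731 D54501))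
theorem Q20045 : ∀ i, i < 20045 → P i := stepQ 20044 Q20044 (allL N20044 (tt N21729 (iv F243814)) (tt N18150 F236166) (tt N18675 F236167) (tt N18167 F236168) (tt N21731 (iv F243834)) (tt N18830 F236169) (tt N18156 F236170) (tt N19290 F236171) (tt N21732 D54502) (tt N18148 (iv D52814)))
theorem Q20046 : ∀ i, i < 20046 → P i := stepQ 20045 Q20045 (allL N20045 (tt N18855 F236172) (tt N21730 (iv F243823)) (tt N18151 F236173) (tt N20045 F236174) (tt N21722 (iv F243770)) (tt N18149 (iv D52815)) (tt N18764 F236175) (tt N18820 F236176) (tt N18859 F236177) (tt N21733 D54503))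
theorem Q20047 : ∀ i, i < 20047 → P i := stepQ 20046 Q20046 (allL N20046 (tt N18866 F236178) (tt N21731 (iv F243831)) (tt N18152 F236179) (tt N20046 F236180) (tt N18150 F236181) (tt N21733 (iv F243847)) (tt N18157 F236182) (tt N18826 F236183) (tt N21734 D54504) (tt N18149 (iv D52816)))
theorem Q20048 : ∀ i, i < 20048 → P i := stepQ 20047 Q20047 (allL N20047 (tt N19700 F236184) (tt N21732 (iv F243837)) (tt N18153 F236185) (tt N19308 F236186) (tt N21734 (iv F243852)) (tt N21724 (iv F243785)) (tt N18158 F236187) (tt N19315 F236188) (tt N18150 (iv D52817)) (tt N19690 F236189))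
theorem Q20049 : ∀ i, i < 20049 → P i := stepQ 20048 Q20048 (allL N20048 (tt N18860 F236190) (tt N18678 F236191) (tt N21733 (iv F243845)) (tt N18162 F236192) (tt N21725 (iv F243792)) (tt N18152 F236193) (tt N18767 F236194) (tt N21727 (iv F243805)) (tt N21735 D54505) (tt N18151 (iv D52818)))
theorem Q20050 : ∀ i, i < 20050 → P i := stepQ 20049 Q20049 (allL N20049 (tt N18871 F236195) (tt N18679 F236196) (tt N21734 (iv F243851)) (tt N21736 D54506) (tt N18153 F236197) (tt N21735 (iv F243859)) (tt N18159 F236198) (tt N21728 (iv F243812)) (tt N18152 (iv D52819)) (tt N21717 (iv F243735)))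
theorem Q20051 : ∀ i, i < 20051 → P i := stepQ 20050 Q20050 (allL N20050 (tt N18156 F236199) (tt N18659 F236200) (tt N18680 F236201) (tt N18168 F236202) (tt N18658 F236203) (tt N18548 F236204) (tt N21729 (iv F243820)) (tt N18547 F236205) (tt N21737 D54507) (tt N18154 (iv D52820)))
theorem Q20052 : ∀ i, i < 20052 → P i := stepQ 20051 Q20051 (allL N20051 (tt N18658 F236206) (tt N18157 F236207) (tt N18681 F236208) (tt N20051 F236209) (tt N18156 F236210) (tt N18770 F236211) (tt N21731 (iv F243835)) (tt N18574 F236212) (tt N21738 D54508) (tt N18155 (iv D52821)))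
theorem Q20053 : ∀ i, i < 20053 → P i := stepQ 20052 Q20052 (allL N20052 (tt N21737 (iv F243867)) (tt N18158 F236213) (tt N18682 F236214) (tt N19653 F236215) (tt N21738 (iv F243878)) (tt N18576 F236216) (tt N21732 (iv F243841)) (tt N18575 F236217) (tt N18156 (iv D52822)) (tt N19697 F236218))
theorem Q20054 : ∀ i, i < 20054 → P i := stepQ 20053 Q20053 (allL N20053 (tt N18867 F236219) (tt N21738 (iv F243876)) (tt N18159 F236220) (tt N19655 (iv F236224)) (tt N18158 F236221) (tt N18772 F236222) (tt N21734 (iv F243853)) (tt N21705 (iv F243640)) (tt N18157 (iv D52823)) (tt N19701 F236223))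
theorem Q20055 : ∀ i, i < 20055 → P i := stepQ 20054 Q20054 (allL N20054 (tt N18872 F236225) (tt N18689 F236226) (tt N21739 D54509) (tt N18159 (iv D52824)) (tt N18218 F236227) (tt N18774 F236228) (tt N21736 (iv F243864)) (tt N21706 (iv F243648)) (tt N18164 F236229) (tt N21718 (iv F243742)))
theorem Q20056 : ∀ i, i < 20056 → P i := stepQ 20055 Q20055 (allL N20055 (tt N18876 F236230) (tt N18641 F236231) (tt N20055 F236232) (tt N21727 (iv F243802)) (tt N18272 F236233) (tt N18161 F236234) (tt N19588 F236235) (tt N18162 F236236) (tt N19951 (iv F236237)) (tt N18160 (iv D52825)))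
theorem Q20057 : ∀ i, i < 20057 → P i := stepQ 20056 Q20056 (allL N20056 (tt N18877 F236238) (tt N18691 F236239) (tt N20056 F236240) (tt N21740 D54510) (tt N18274 F236241) (tt N18163 F236242) (tt N18778 F236243) (tt N19951 F236244) (tt N18162 (iv D52826)) (tt N20056 F236245))
theorem Q20058 : ∀ i, i < 20058 → P i := stepQ 20057 Q20057 (allL N20057 (tt N18880 F236246) (tt N18692 F236247) (tt N21741 D54511) (tt N18163 (iv D52827)) (tt N18222 F236248) (tt N21740 (iv F243892)) (tt N18164 F236249) (tt N19644 F236250) (tt N21736 (iv F243866)) (tt N20057 F236251))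
theorem Q20059 : ∀ i, i < 20059 → P i := stepQ 20058 Q20058 (allL N20058 (tt N18881 F236252) (tt N19623 F236253) (tt N18164 (iv D52828)) (tt N20058 F236254) (tt N18226 F236255) (tt N18780 F236256) (tt N21741 (iv F243900)) (tt N21707 (iv F243656)) (tt N21739 (iv F243888)) (tt N20058 F236257))
theorem Q20060 : ∀ i, i < 20060 → P i := stepQ 20059 Q20059 (allL N20059 (tt N18167 F236258) (tt N18616 F236259) (tt N18170 F236260) (tt N21729 (iv F243817)) (tt N20059 F236261) (tt N18748 F236262) (tt N18168 F236263) (tt N18604 F236264) (tt N18713 F236265) (tt N18166 (iv D52829)))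
theorem Q20061 : ∀ i, i < 20061 → P i := stepQ 20060 Q20060 (allL N20060 (tt N18169 F236266) (tt N18539 F236267) (tt N18171 F236268) (tt N18684 F236274) (tt N20060 F236269) (tt N18508 F236270) (tt N18713 F236271) (tt N18507 F236272) (tt N18168 (iv D52830)) (tt N18505 F236273))
theorem Q20062 : ∀ i, i < 20062 → P i := stepQ 20061 Q20061 (allL N20061 (tt N18719 F236275) (tt N18178 F236276) (tt N19645 F236277) (tt N18310 F236278) (tt N18172 (iv D52831)) (tt N19661 F236279) (tt N19280 F236280) (tt N19669 F236281) (tt N19298 F236282) (tt N21742 D54512))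
theorem Q20063 : ∀ i, i < 20063 → P i := stepQ 20062 Q20062 (allL N20062 (tt N18720 F236283) (tt N18179 F236284) (tt N19646 F236285) (tt N18173 F236286) (tt N21742 (iv F243907)) (tt N18174 F236287) (tt N19281 F236288) (tt N19685 F236289) (tt N21743 D54513) (tt N18172 (iv D52832)))
theorem Q20064 : ∀ i, i < 20064 → P i := stepQ 20063 Q20063 (allL N20063 (tt N18724 F236290) (tt N18180 F236291) (tt N19651 F236292) (tt N19323 F236293) (tt N19682 F236294) (tt N21743 (iv F243915)) (tt N18176 F236295) (tt N19686 F236296) (tt N18174 (iv D52833)) (tt N19311 F236297))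
theorem Q20065 : ∀ i, i < 20065 → P i := stepQ 20064 Q20064 (allL N20064 (tt N18688 F236298) (tt N18183 F236299) (tt N19653 F236300) (tt N21744 D54514) (tt N18176 F236301) (tt N18636 F236302) (tt N19682 F236303) (tt N19563 F236304) (tt N18175 (iv D52834)) (tt N19318 F236305))
theorem Q20066 : ∀ i, i < 20066 → P i := stepQ 20065 Q20065 (allL N20065 (tt N18694 F236306) (tt N18185 F236307) (tt N18705 F236308) (tt N18177 (iv D52835)) (tt N18225 F236309) (tt N18639 F236310) (tt N19714 F236311) (tt N19572 F236312) (tt N21744 (iv F243926)) (tt N20065 F236313))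
theorem Q20067 : ∀ i, i < 20067 → P i := stepQ 20066 Q20066 (allL N20066 (tt N18204 F236314) (tt N21742 (iv F243904)) (tt N19288 F236315) (tt N18344 F236316) (tt N18179 F236317) (tt N19663 F236318) (tt N19284 F236319) (tt N19675 F236320) (tt N21745 D54515) (tt N18178 (iv D52836)))
theorem Q20068 : ∀ i, i < 20068 → P i := stepQ 20067 Q20067 (allL N20067 (tt N18205 F236321) (tt N21743 (iv F243912)) (tt N19289 F236322) (tt N19693 F236323) (tt N21745 (iv F243930)) (tt N18180 F236324) (tt N19285 F236325) (tt N19689 F236326) (tt N18179 (iv D52837)) (tt N19303 F236327))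
theorem Q20069 : ∀ i, i < 20069 → P i := stepQ 20068 Q20068 (allL N20068 (tt N18216 F236328) (tt N18632 F236329) (tt N19290 F236330) (tt N18184 F236331) (tt N18610 F236332) (tt N19657 F236333) (tt N18182 F236334) (tt N18675 F236335) (tt N21746 D54516) (tt N18181 (iv D52838)))
theorem Q20070 : ∀ i, i < 20070 → P i := stepQ 20069 Q20069 (allL N20069 (tt N18217 F236336) (tt N18636 F236337) (tt N19291 F236338) (tt N19698 F236339) (tt N18611 F236340) (tt N18183 F236341) (tt N21746 (iv F243941)) (tt N19561 F236342) (tt N18182 (iv D52839)) (tt N19320 F236343))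
theorem Q20071 : ∀ i, i < 20071 → P i := stepQ 20070 Q20070 (allL N20070 (tt N18218 F236344) (tt N21744 (iv F243920)) (tt N18865 F236345) (tt N18183 (iv D52840)) (tt N18872 F236346) (tt N19698 F236347) (tt N19683 F236348) (tt N19564 F236349) (tt N18185 F236350) (tt N19321 F236351))
theorem Q20072 : ∀ i, i < 20072 → P i := stepQ 20071 Q20071 (allL N20071 (tt N19294 F236352) (tt N18804 F236353) (tt N19273 F236354) (tt N19873 F236355) (tt N18188 (iv D52841)) (tt N19624 F236356) (tt N19678 F236357) (tt N18190 F236358) (tt N18199 F236359) (tt N21747 D54517))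
theorem Q20073 : ∀ i, i < 20073 → P i := stepQ 20072 Q20072 (allL N20072 (tt N19295 F236360) (tt N18805 F236361) (tt N19274 F236362) (tt N18189 F236363) (tt N21747 (iv F243948)) (tt N18192 F236364) (tt N19692 F236365) (tt N18191 F236366) (tt N21748 D54518) (tt N18188 (iv D52842)))
theorem Q20074 : ∀ i, i < 20074 → P i := stepQ 20073 Q20073 (allL N20073 (tt N19301 F236367) (tt N18809 F236368) (tt N19283 F236369) (tt N19863 F236370) (tt N18193 F236371) (tt N18190 (iv D52843)) (tt N19658 F236372) (tt N19624 F236373) (tt N18203 F236374) (tt N21749 D54519))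
theorem Q20075 : ∀ i, i < 20075 → P i := stepQ 20074 Q20074 (allL N20074 (tt N19302 F236375) (tt N18810 F236376) (tt N19284 F236377) (tt N19874 F236378) (tt N18191 F236379) (tt N21749 (iv F243965)) (tt N19288 F236380) (tt N21747 (iv F243951)) (tt N21750 D54520) (tt N18190 (iv D52844)))
theorem Q20076 : ∀ i, i < 20076 → P i := stepQ 20075 Q20075 (allL N20075 (tt N19303 F236381) (tt N18811 F236382) (tt N19285 F236383) (tt N21715 (iv F243717)) (tt N21750 (iv F243971)) (tt N18195 F236384) (tt N19289 F236385) (tt N21748 (iv F243958)) (tt N18191 (iv D52845)) (tt N18205 F236386))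
theorem Q20077 : ∀ i, i < 20077 → P i := stepQ 20076 Q20076 (allL N20076 (tt N19308 F236387) (tt N18815 F236388) (tt N19275 F236389) (tt N19700 F236390) (tt N19628 F236391) (tt N21748 (iv F243956)) (tt N19276 F236392) (tt N18195 F236393) (tt N18192 (iv D52846)) (tt N18206 F236394))
theorem Q20078 : ∀ i, i < 20078 → P i := stepQ 20077 Q20077 (allL N20077 (tt N19312 F236395) (tt N18820 F236396) (tt N18606 F236397) (tt N20077 F236398) (tt N19658 F236399) (tt N18196 F236400) (tt N18193 (iv D52847)) (tt N21730 (iv F243828)) (tt N18208 F236401) (tt N21751 D54521))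
theorem Q20079 : ∀ i, i < 20079 → P i := stepQ 20078 Q20078 (allL N20078 (tt N19313 F236402) (tt N18821 F236403) (tt N19286 F236404) (tt N20078 F236405) (tt N21749 (iv F243964)) (tt N18194 F236406) (tt N21751 (iv F243980)) (tt N19625 F236407) (tt N21752 D54522) (tt N18193 (iv D52848)))
theorem Q20080 : ∀ i, i < 20080 → P i := stepQ 20079 Q20079 (allL N20079 (tt N19314 F236408) (tt N18822 F236409) (tt N19287 F236410) (tt N21753 D54523) (tt N18195 F236411) (tt N21752 (iv F243984)) (tt N18198 F236412) (tt N19628 F236413) (tt N18194 (iv D52849)) (tt N18210 F236414))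
theorem Q20081 : ∀ i, i < 20081 → P i := stepQ 20080 Q20080 (allL N20080 (tt N19319 F236415) (tt N18826 F236416) (tt N18610 F236417) (tt N20080 F236418) (tt N19290 F236419) (tt N21751 (iv F243979)) (tt N18197 F236420) (tt N21731 (iv F243836)) (tt N21754 D54524) (tt N18196 (iv D52850)))
theorem Q20082 : ∀ i, i < 20082 → P i := stepQ 20081 Q20081 (allL N20081 (tt N19320 F236421) (tt N18827 F236422) (tt N18611 F236423) (tt N21755 D54525) (tt N19291 F236424) (tt N18198 F236425) (tt N21754 (iv F243998)) (tt N19562 F236426) (tt N18197 (iv D52851)) (tt N18217 F236427))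
theorem Q20083 : ∀ i, i < 20083 → P i := stepQ 20082 Q20082 (allL N20082 (tt N19321 F236428) (tt N18828 F236429) (tt N19616 F236430) (tt N18198 (iv D52852)) (tt N21718 (iv F243739)) (tt N21755 (iv F244004)) (tt N21753 (iv F243990)) (tt N21708 (iv F243663)) (tt N20082 F236431) (tt N18218 F236432))
theorem Q20084 : ∀ i, i < 20084 → P i := stepQ 20083 Q20083 (allL N20083 (tt N19675 F236433) (tt N18834 F236434) (tt N19277 F236435) (tt N18407 F236436) (tt N18200 F236437) (tt N19635 F236438) (tt N21723 (iv F243779)) (tt N18204 F236439) (tt N21756 D54526) (tt N18199 (iv D52853)))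
theorem Q20085 : ∀ i, i < 20085 → P i := stepQ 20084 Q20084 (allL N20084 (tt N19689 F236440) (tt N18835 F236441) (tt N19278 F236442) (tt N21721 (iv F243761)) (tt N21756 (iv F244011)) (tt N18206 F236443) (tt N21724 (iv F243786)) (tt N18205 F236444) (tt N18200 (iv D52854)) (tt N21748 (iv F243959)))
theorem Q20086 : ∀ i, i < 20086 → P i := stepQ 20085 Q20085 (allL N20085 (tt N19288 F236445) (tt N19601 F236446) (tt N18204 F236447) (tt N19335 F236448) (tt N18202 F236449) (tt N19633 F236450) (tt N19302 F236451) (tt N19277 F236452) (tt N21757 D54527) (tt N18201 (iv D52855)))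
theorem Q20087 : ∀ i, i < 20087 → P i := stepQ 20086 Q20086 (allL N20086 (tt N19289 F236453) (tt N19602 F236454) (tt N18205 F236455) (tt N19297 F236456) (tt N21757 (iv F244017)) (tt N18207 F236457) (tt N19303 F236458) (tt N19278 F236459) (tt N18202 (iv D52856)) (tt N19285 F236460))
theorem Q20088 : ∀ i, i < 20088 → P i := stepQ 20087 Q20087 (allL N20087 (tt N19656 F236461) (tt N18843 F236462) (tt N19631 F236463) (tt N18416 F236464) (tt N18208 F236465) (tt N19304 F236466) (tt N18203 (iv D52857)) (tt N21758 D54528) (tt N19658 F236467) (tt N21759 D54529))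
theorem Q20089 : ∀ i, i < 20089 → P i := stepQ 20088 Q20088 (allL N20088 (tt N19663 F236468) (tt N18844 F236469) (tt N19633 F236470) (tt N18417 F236471) (tt N18209 F236472) (tt N18204 F236473) (tt N21759 (iv F244036)) (tt N19635 F236474) (tt N21760 D54530) (tt N18203 (iv D52858)))
theorem Q20090 : ∀ i, i < 20090 → P i := stepQ 20089 Q20089 (allL N20089 (tt N21745 (iv F243928)) (tt N18845 F236475) (tt N21757 (iv F244016)) (tt N21761 D54531) (tt N18205 F236476) (tt N21760 (iv F244041)) (tt N19306 F236477) (tt N21756 (iv F244013)) (tt N18204 (iv D52859)) (tt N21750 (iv F243973)))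
theorem Q20091 : ∀ i, i < 20091 → P i := stepQ 20090 Q20090 (allL N20090 (tt N18668 F236478) (tt N18859 F236479) (tt N18747 F236480) (tt N18219 F236481) (tt N21758 (iv F244026)) (tt N18215 F236482) (tt N18749 F236483) (tt N18208 (iv D52860)) (tt N21730 (iv F243829)) (tt N21762 D54532))
theorem Q20092 : ∀ i, i < 20092 → P i := stepQ 20091 Q20091 (allL N20091 (tt N19657 F236484) (tt N18860 F236485) (tt N19632 F236486) (tt N18220 F236487) (tt N21759 (iv F244034)) (tt N18216 F236488) (tt N18209 F236489) (tt N21762 (iv F244052)) (tt N21763 D54533) (tt N18208 (iv D52861)))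
theorem Q20093 : ∀ i, i < 20093 → P i := stepQ 20092 Q20092 (allL N20092 (tt N19664 F236490) (tt N18861 F236491) (tt N19634 F236492) (tt N21764 D54534) (tt N21760 (iv F244040)) (tt N18210 F236493) (tt N21763 (iv F244057)) (tt N19636 F236494) (tt N18209 (iv D52862)) (tt N21752 (iv F243986)))
theorem Q20094 : ∀ i, i < 20094 → P i := stepQ 20093 Q20093 (allL N20093 (tt N19683 F236495) (tt N18862 F236496) (tt N21765 D54535) (tt N18210 (iv D52863)) (tt N21736 (iv F243863)) (tt N21764 (iv F244060)) (tt N18218 F236497) (tt N19638 F236498) (tt N18222 F236499) (tt N21753 (iv F243993)))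
theorem Q20095 : ∀ i, i < 20095 → P i := stepQ 20094 Q20094 (allL N20094 (tt N19290 F236500) (tt N18619 F236501) (tt N18216 F236502) (tt N18604 F236503) (tt N19319 F236504) (tt N19632 F236505) (tt N18213 F236506) (tt N21729 (iv F243821)) (tt N21766 D54536) (tt N18212 (iv D52864)))
theorem Q20096 : ∀ i, i < 20096 → P i := stepQ 20095 Q20095 (allL N20095 (tt N19291 F236507) (tt N18622 F236508) (tt N18217 F236509) (tt N18715 F236510) (tt N19320 F236511) (tt N18214 F236512) (tt N21766 (iv F244075)) (tt N19556 F236513) (tt N18213 (iv D52865)) (tt N18611 F236514))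
theorem Q20097 : ∀ i, i < 20097 → P i := stepQ 20096 Q20096 (allL N20096 (tt N18675 F236515) (tt N18870 F236516) (tt N21729 (iv F243816)) (tt N18223 F236517) (tt N19322 F236518) (tt N21762 (iv F244050)) (tt N18680 F236519) (tt N18216 F236520) (tt N21767 D54537) (tt N18215 (iv D52866)))
theorem Q20098 : ∀ i, i < 20098 → P i := stepQ 20097 Q20097 (allL N20097 (tt N21746 (iv F243935)) (tt N18871 F236521) (tt N21766 (iv F244071)) (tt N21768 D54538) (tt N19323 F236522) (tt N21763 (iv F244056)) (tt N18217 F236523) (tt N21767 (iv F244082)) (tt N18216 (iv D52867)) (tt N21754 (iv F243999)))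
theorem Q20099 : ∀ i, i < 20099 → P i := stepQ 20098 Q20098 (allL N20098 (tt N19698 F236524) (tt N18872 F236525) (tt N19695 F236526) (tt N18217 (iv D52868)) (tt N21744 (iv F243922)) (tt N18218 F236527) (tt N21768 (iv F244087)) (tt N21710 (iv F243681)) (tt N18225 F236528) (tt N21755 (iv F244007)))
theorem Q20100 : ∀ i, i < 20100 → P i := stepQ 20099 Q20099 (allL N20099 (tt N18865 F236529) (tt N21769 D54539) (tt N18218 (iv D52869)) (tt N18863 F236530) (tt N21739 (iv F243886)) (tt N19695 F236531) (tt N21765 (iv F244065)) (tt N21711 (iv F243688)) (tt N18226 F236532) (tt N19616 F236533))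
theorem Q20101 : ∀ i, i < 20101 → P i := stepQ 20100 Q20100 (allL N20100 (tt N18698 F236534) (tt N18876 F236535) (tt N18707 F236536) (tt N21762 (iv F244049)) (tt N18452 F236537) (tt N18223 F236538) (tt N18782 F236539) (tt N18220 F236540) (tt N19956 (iv F236541)) (tt N18219 (iv D52870)))
theorem Q20102 : ∀ i, i < 20102 → P i := stepQ 20101 Q20101 (allL N20101 (tt N19703 F236542) (tt N18877 F236543) (tt N19642 F236544) (tt N21770 D54540) (tt N18453 F236545) (tt N18224 F236546) (tt N18221 F236547) (tt N19956 F236548) (tt N18220 (iv D52871)) (tt N20101 F236549))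
theorem Q20103 : ∀ i, i < 20103 → P i := stepQ 20102 Q20102 (allL N20102 (tt N19705 F236550) (tt N18878 F236551) (tt N21771 D54541) (tt N18221 (iv D52872)) (tt N21772 D54542) (tt N18222 F236552) (tt N21770 (iv F244101)) (tt N19643 F236553) (tt N21764 (iv F244062)) (tt N20102 F236554))
theorem Q20104 : ∀ i, i < 20104 → P i := stepQ 20103 Q20103 (allL N20103 (tt N18899 F236555) (tt N21773 D54543) (tt N18222 (iv D52873)) (tt N18898 F236556) (tt N21741 (iv F243899)) (tt N21771 (iv F244106)) (tt N18226 F236557) (tt N19591 F236558) (tt N21765 (iv F244067)) (tt N20103 F236559))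
theorem Q20105 : ∀ i, i < 20105 → P i := stepQ 20104 Q20104 (allL N20104 (tt N19716 F236560) (tt N18880 F236561) (tt N19715 F236562) (tt N18224 (iv D52874)) (tt N19714 F236563) (tt N21770 (iv F244100)) (tt N18225 F236564) (tt N19717 F236565) (tt N21768 (iv F244089)) (tt N20104 F236566))
theorem Q20106 : ∀ i, i < 20106 → P i := stepQ 20105 Q20105 (allL N20105 (tt N18794 F236567) (tt N18226 (iv D52875)) (tt N18882 F236568) (tt N18793 F236569) (tt N19623 F236570) (tt N18706 F236571) (tt N21773 (iv F244119)) (tt N21712 (iv F243697)) (tt N21769 (iv F244095)) (tt N20105 F236572))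
theorem Q20107 : ∀ i, i < 20107 → P i := stepQ 20106 Q20106 (allL N20106 (tt N18371 F236573) (tt N18933 F236574) (tt N19973 (iv F236579)) (tt N18227 (iv D52876)) (tt N21774 D54544) (tt N20106 F236575) (tt N18325 F236576) (tt N18228 F236577) (tt N18337 F236578) (tt N21775 D54545))
theorem Q20108 : ∀ i, i < 20108 → P i := stepQ 20107 Q20107 (allL N20107 (tt N18372 F236580) (tt N18934 F236581) (tt N20107 F236582) (tt N21775 (iv F244132)) (tt N18232 F236583) (tt N20107 F236584) (tt N18326 F236585) (tt N18229 F236586) (tt N18367 F236587) (tt N18227 (iv D52877)))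
theorem Q20109 : ∀ i, i < 20109 → P i := stepQ 20108 Q20108 (allL N20108 (tt N19434 F236588) (tt N21776 D54546) (tt N18228 (iv D52878)) (tt N20108 F236589) (tt N21777 D54547) (tt N20108 F236590) (tt N19327 F236591) (tt N19973 F236592) (tt N19376 F236593) (tt N21778 D54548))
theorem Q20110 : ∀ i, i < 20110 → P i := stepQ 20109 Q20109 (allL N20109 (tt N19435 F236594) (tt N18936 F236595) (tt N21777 (iv F244144)) (tt N18234 F236596) (tt N18228 (iv D52879)) (tt N21779 D54549) (tt N19328 F236597) (tt N21774 (iv F244127)) (tt N19377 F236598) (tt N21780 D54550))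
theorem Q20111 : ∀ i, i < 20111 → P i := stepQ 20110 Q20110 (allL N20110 (tt N19436 F236599) (tt N18937 F236600) (tt N21778 (iv F244149)) (tt N18229 F236601) (tt N21780 (iv F244163)) (tt N20110 F236602) (tt N19329 F236603) (tt N21775 (iv F244135)) (tt N21781 D54551) (tt N18228 (iv D52880)))
theorem Q20112 : ∀ i, i < 20112 → P i := stepQ 20111 Q20111 (allL N20111 (tt N18366 F236604) (tt N18938 F236605) (tt N19529 (iv F236610)) (tt N18230 (iv D52881)) (tt N21782 D54552) (tt N20111 F236606) (tt N18231 F236607) (tt N18323 F236608) (tt N18245 F236609) (tt N21783 D54553))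
theorem Q20113 : ∀ i, i < 20113 → P i := stepQ 20112 Q20112 (allL N20112 (tt N18367 F236611) (tt N18939 F236612) (tt N20112 F236613) (tt N21783 (iv F244182)) (tt N18326 F236614) (tt N20112 F236615) (tt N18232 F236616) (tt N18324 F236617) (tt N18372 F236618) (tt N18230 (iv D52882)))
theorem Q20114 : ∀ i, i < 20114 → P i := stepQ 20113 Q20113 (allL N20113 (tt N19849 F236619) (tt N19394 F236620) (tt N18231 (iv D52883)) (tt N20113 F236621) (tt N21784 D54554) (tt N18236 F236622) (tt N19529 F236623) (tt N18233 F236624) (tt N18247 F236625) (tt N21785 D54555))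
theorem Q20115 : ∀ i, i < 20115 → P i := stepQ 20114 Q20114 (allL N20114 (tt N19838 F236626) (tt N18940 F236627) (tt N21784 (iv F244188)) (tt N21774 (iv F244125)) (tt N18231 (iv D52884)) (tt N21786 D54556) (tt N21782 (iv F244175)) (tt N18234 F236628) (tt N18248 F236629) (tt N21787 D54557))
theorem Q20116 : ∀ i, i < 20116 → P i := stepQ 20115 Q20115 (allL N20115 (tt N19853 F236630) (tt N18941 F236631) (tt N21785 (iv F244195)) (tt N18232 F236632) (tt N21787 (iv F244208)) (tt N18238 F236633) (tt N21783 (iv F244184)) (tt N18235 F236634) (tt N21788 D54558) (tt N18231 (iv D52885)))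
theorem Q20117 : ∀ i, i < 20117 → P i := stepQ 20116 Q20116 (allL N20116 (tt N19835 F236635) (tt N19388 F236636) (tt N18234 F236637) (tt N21789 D54559) (tt N18233 (iv D52886)) (tt N19385 F236638) (tt N19262 F236639) (tt N21784 (iv F244191)) (tt N18251 F236640) (tt N21790 D54560))
theorem Q20118 : ∀ i, i < 20118 → P i := stepQ 20117 Q20117 (allL N20117 (tt N19850 F236641) (tt N19400 F236642) (tt N18235 F236643) (tt N20117 F236644) (tt N21790 (iv F244224)) (tt N18239 F236645) (tt N19232 F236646) (tt N21785 (iv F244199)) (tt N21791 D54561) (tt N18233 (iv D52887)))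
theorem Q20119 : ∀ i, i < 20119 → P i := stepQ 20118 Q20118 (allL N20118 (tt N19101 F236647) (tt N18942 F236648) (tt N19385 F236649) (tt N21779 (iv F244156)) (tt N18240 F236650) (tt N18234 (iv D52888)) (tt N19021 F236651) (tt N21786 (iv F244204)) (tt N18253 F236652) (tt N21792 D54562))
theorem Q20120 : ∀ i, i < 20120 → P i := stepQ 20119 Q20119 (allL N20119 (tt N19839 F236653) (tt N18943 F236654) (tt N21790 (iv F244223)) (tt N21780 (iv F244162)) (tt N18235 F236655) (tt N21792 (iv F244237)) (tt N19332 F236656) (tt N21787 (iv F244209)) (tt N21793 D54563) (tt N18234 (iv D52889)))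
theorem Q20121 : ∀ i, i < 20121 → P i := stepQ 20120 Q20120 (allL N20120 (tt N19854 F236657) (tt N18944 F236658) (tt N21791 (iv F244229)) (tt N18381 F236659) (tt N21793 (iv F244241)) (tt N18242 F236660) (tt N19333 F236661) (tt N21788 (iv F244214)) (tt N18235 (iv D52890)) (tt N18255 F236662))
theorem Q20122 : ∀ i, i < 20122 → P i := stepQ 20121 Q20121 (allL N20121 (tt N19856 F236663) (tt N19395 F236664) (tt N18238 F236665) (tt N20121 F236666) (tt N19393 F236667) (tt N21785 (iv F244197)) (tt N20121 F236668) (tt N18239 F236669) (tt N21794 D54564) (tt N18236 (iv D52891)))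
theorem Q20123 : ∀ i, i < 20123 → P i := stepQ 20122 Q20122 (allL N20122 (tt N19115 F236670) (tt N18945 F236671) (tt N19379 F236672) (tt N20122 F236673) (tt N21786 (iv F244203)) (tt N18237 (iv D52892)) (tt N21795 D54565) (tt N18240 F236674) (tt N18258 F236675) (tt N21796 D54566))
theorem Q20124 : ∀ i, i < 20124 → P i := stepQ 20123 Q20123 (allL N20123 (tt N19123 F236676) (tt N18946 F236677) (tt N19393 F236678) (tt N20123 F236679) (tt N18238 F236680) (tt N21796 (iv F244262)) (tt N20123 F236681) (tt N18241 F236682) (tt N21797 D54567) (tt N18237 (iv D52893)))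
theorem Q20125 : ∀ i, i < 20125 → P i := stepQ 20124 Q20124 (allL N20124 (tt N19859 F236683) (tt N18947 F236684) (tt N21794 (iv F244246)) (tt N18386 F236685) (tt N21797 (iv F244267)) (tt N21788 (iv F244213)) (tt N20124 F236686) (tt N18242 F236687) (tt N18238 (iv D52894)) (tt N18260 F236688))
theorem Q20126 : ∀ i, i < 20126 → P i := stepQ 20125 Q20125 (allL N20125 (tt N19857 F236689) (tt N19401 F236690) (tt N18242 F236691) (tt N21798 D54568) (tt N19399 F236692) (tt N21791 (iv F244230)) (tt N18243 F236693) (tt N21794 (iv F244249)) (tt N18239 (iv D52895)) (tt N18264 F236694))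
theorem Q20127 : ∀ i, i < 20127 → P i := stepQ 20126 Q20126 (allL N20126 (tt N19116 F236695) (tt N18948 F236696) (tt N19386 F236697) (tt N20126 F236698) (tt N21792 (iv F244236)) (tt N18241 F236699) (tt N19027 F236700) (tt N21796 (iv F244263)) (tt N21799 D54569) (tt N18240 (iv D52896)))
theorem Q20128 : ∀ i, i < 20128 → P i := stepQ 20127 Q20127 (allL N20127 (tt N19124 F236701) (tt N18949 F236702) (tt N19399 F236703) (tt N21800 D54570) (tt N18242 F236704) (tt N21799 (iv F244280)) (tt N18244 F236705) (tt N21797 (iv F244269)) (tt N18241 (iv D52897)) (tt N18266 F236706))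
theorem Q20129 : ∀ i, i < 20129 → P i := stepQ 20128 Q20128 (allL N20128 (tt N19858 F236707) (tt N19405 F236708) (tt N18396 F236709) (tt N18243 (iv D52898)) (tt N21801 D54571) (tt N19194 F236710) (tt N21798 (iv F244274)) (tt N20128 F236711) (tt N20128 F236712) (tt N18269 F236713))
theorem Q20130 : ∀ i, i < 20130 → P i := stepQ 20129 Q20129 (allL N20129 (tt N19125 F236714) (tt N18950 F236715) (tt N21802 D54572) (tt N18244 (iv D52899)) (tt N18400 F236716) (tt N19029 F236717) (tt N21800 (iv F244286)) (tt N20129 F236718) (tt N20129 F236719) (tt N18270 F236720))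
theorem Q20131 : ∀ i, i < 20131 → P i := stepQ 20130 Q20130 (allL N20130 (tt N19873 F236721) (tt N18952 F236722) (tt N19472 F236723) (tt N19294 F236724) (tt N18245 (iv D52900)) (tt N19647 (iv F236727)) (tt N18248 F236725) (tt N19300 F236726) (tt N21782 (iv F244177)) (tt N21803 D54573))
theorem Q20132 : ∀ i, i < 20132 → P i := stepQ 20131 Q20131 (allL N20131 (tt N19908 F236728) (tt N18953 F236729) (tt N19530 F236730) (tt N18246 F236731) (tt N21803 (iv F244309)) (tt N20131 F236732) (tt N18249 F236733) (tt N19324 F236734) (tt N21804 D54574) (tt N18245 (iv D52901)))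
theorem Q20133 : ∀ i, i < 20133 → P i := stepQ 20132 Q20132 (allL N20132 (tt N19891 F236735) (tt N19776 F236736) (tt N18248 F236737) (tt N19465 F236738) (tt N18247 (iv D52902)) (tt N21805 D54575) (tt N19472 F236739) (tt N18251 F236740) (tt N21784 (iv F244192)) (tt N21806 D54576))
theorem Q20134 : ∀ i, i < 20134 → P i := stepQ 20133 Q20133 (allL N20133 (tt N19915 F236741) (tt N19777 F236742) (tt N18249 F236743) (tt N18277 F236744) (tt N21806 (iv F244331)) (tt N18257 F236745) (tt N19530 F236746) (tt N18252 F236747) (tt N21807 D54577) (tt N18247 (iv D52903)))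
theorem Q20135 : ∀ i, i < 20135 → P i := stepQ 20134 Q20134 (allL N20134 (tt N19156 F236748) (tt N18956 F236749) (tt N21805 (iv F244322)) (tt N21719 (iv F243746)) (tt N18258 F236750) (tt N18248 (iv D52904)) (tt N21808 D54578) (tt N18253 F236751) (tt N21786 (iv F244205)) (tt N21809 D54579))
theorem Q20136 : ∀ i, i < 20136 → P i := stepQ 20135 Q20135 (allL N20135 (tt N19896 F236752) (tt N18957 F236753) (tt N21806 (iv F244329)) (tt N21720 (iv F243754)) (tt N18249 F236754) (tt N21809 (iv F244349)) (tt N21803 (iv F244311)) (tt N18254 F236755) (tt N21810 D54580) (tt N18248 (iv D52905)))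
theorem Q20137 : ∀ i, i < 20137 → P i := stepQ 20136 Q20136 (allL N20136 (tt N19920 F236756) (tt N18958 F236757) (tt N21807 (iv F244336)) (tt N18408 F236758) (tt N21810 (iv F244353)) (tt N18260 F236759) (tt N21804 (iv F244318)) (tt N18255 F236760) (tt N18249 (iv D52906)) (tt N21788 (iv F244215)))
theorem Q20138 : ∀ i, i < 20138 → P i := stepQ 20137 Q20137 (allL N20137 (tt N19445 F236761) (tt N18251 F236762) (tt N18959 F236763) (tt N21811 D54581) (tt N18250 (iv D52907)) (tt N19368 F236764) (tt N19338 F236765) (tt N19776 F236766) (tt N19388 F236767) (tt N21812 D54582))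
theorem Q20139 : ∀ i, i < 20139 → P i := stepQ 20138 Q20138 (allL N20138 (tt N19456 F236768) (tt N18252 F236769) (tt N18960 F236770) (tt N18280 F236771) (tt N21812 (iv F244365)) (tt N18261 F236772) (tt N19339 F236773) (tt N19777 F236774) (tt N21813 D54583) (tt N18250 (iv D52908)))
theorem Q20140 : ∀ i, i < 20140 → P i := stepQ 20139 Q20139 (allL N20139 (tt N19886 F236775) (tt N21811 (iv F244356)) (tt N18401 F236776) (tt N18251 (iv D52909)) (tt N18281 F236777) (tt N21814 D54584) (tt N18404 F236778) (tt N19465 F236779) (tt N21815 D54585) (tt N21816 D54586))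
theorem Q20141 : ∀ i, i < 20141 → P i := stepQ 20140 Q20140 (allL N20140 (tt N19152 F236780) (tt N19368 F236781) (tt N18253 F236782) (tt N21814 (iv F244379)) (tt N18262 F236783) (tt N18251 (iv D52910)) (tt N19041 F236784) (tt N21805 (iv F244325)) (tt N19385 F236785) (tt N21817 D54587))
theorem Q20142 : ∀ i, i < 20142 → P i := stepQ 20141 Q20141 (allL N20141 (tt N19892 F236786) (tt N21812 (iv F244363)) (tt N18254 F236787) (tt N21816 (iv F244390)) (tt N18252 F236788) (tt N21817 (iv F244398)) (tt N19340 F236789) (tt N21806 (iv F244333)) (tt N21818 D54588) (tt N18251 (iv D52911)))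
theorem Q20143 : ∀ i, i < 20143 → P i := stepQ 20142 Q20142 (allL N20142 (tt N19916 F236790) (tt N21813 (iv F244370)) (tt N18255 F236791) (tt N21819 D54589) (tt N21818 (iv F244402)) (tt N18264 F236792) (tt N19341 F236793) (tt N21807 (iv F244339)) (tt N18252 (iv D52912)) (tt N21791 (iv F244232)))
theorem Q20144 : ∀ i, i < 20144 → P i := stepQ 20143 Q20143 (allL N20143 (tt N19157 F236794) (tt N18966 F236795) (tt N21817 (iv F244396)) (tt N21725 (iv F243791)) (tt N18265 F236796) (tt N18254 F236797) (tt N19044 F236798) (tt N21809 (iv F244350)) (tt N21820 D54590) (tt N18253 (iv D52913)))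
theorem Q20145 : ∀ i, i < 20145 → P i := stepQ 20144 Q20144 (allL N20144 (tt N19897 F236799) (tt N18967 F236800) (tt N21818 (iv F244401)) (tt N21821 D54591) (tt N18255 F236801) (tt N21820 (iv F244412)) (tt N19342 F236802) (tt N21810 (iv F244354)) (tt N18254 (iv D52914)) (tt N21793 (iv F244243)))
theorem Q20146 : ∀ i, i < 20146 → P i := stepQ 20145 Q20145 (allL N20145 (tt N19177 F236803) (tt N19327 F236804) (tt N18258 F236805) (tt N20145 F236806) (tt N21805 (iv F244324)) (tt N18256 (iv D52915)) (tt N21776 (iv F244140)) (tt N18262 F236807) (tt N19379 F236808) (tt N21822 D54592))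
theorem Q20147 : ∀ i, i < 20147 → P i := stepQ 20146 Q20146 (allL N20146 (tt N19190 F236809) (tt N19372 F236810) (tt N18259 F236811) (tt N20146 F236812) (tt N18257 F236813) (tt N21822 (iv F244422)) (tt N20146 F236814) (tt N18263 F236815) (tt N21823 D54593) (tt N18256 (iv D52916)))
theorem Q20148 : ∀ i, i < 20148 → P i := stepQ 20147 Q20147 (allL N20147 (tt N19925 F236816) (tt N19996 F236817) (tt N18260 F236818) (tt N21824 D54594) (tt N21823 (iv F244427)) (tt N21807 (iv F244337)) (tt N20147 F236819) (tt N18264 F236820) (tt N18257 (iv D52917)) (tt N21794 (iv F244250)))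
theorem Q20149 : ∀ i, i < 20149 → P i := stepQ 20148 Q20148 (allL N20148 (tt N19168 F236821) (tt N18935 F236822) (tt N21776 (iv F244137)) (tt N18271 F236823) (tt N21808 (iv F244343)) (tt N20148 F236824) (tt N18258 (iv D52918)) (tt N19049 F236825) (tt N21795 (iv F244257)) (tt N21825 D54595))
theorem Q20150 : ∀ i, i < 20150 → P i := stepQ 20149 Q20149 (allL N20149 (tt N19182 F236826) (tt N18969 F236827) (tt N21822 (iv F244420)) (tt N18272 F236828) (tt N21809 (iv F244348)) (tt N18259 F236829) (tt N21825 (iv F244441)) (tt N18265 F236830) (tt N21826 D54596) (tt N18258 (iv D52919)))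
theorem Q20151 : ∀ i, i < 20151 → P i := stepQ 20150 Q20150 (allL N20150 (tt N19195 F236831) (tt N18970 F236832) (tt N21823 (iv F244426)) (tt N21827 D54597) (tt N18260 F236833) (tt N21826 (iv F244445)) (tt N20150 F236834) (tt N18266 F236835) (tt N18259 (iv D52920)) (tt N21797 (iv F244270)))
theorem Q20152 : ∀ i, i < 20152 → P i := stepQ 20151 Q20151 (allL N20151 (tt N19457 F236836) (tt N18264 F236837) (tt N18971 F236838) (tt N21828 D54598) (tt N19374 F236839) (tt N21813 (iv F244372)) (tt N18267 F236840) (tt N19996 F236841) (tt N18261 (iv D52921)) (tt N19401 F236842))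
theorem Q20153 : ∀ i, i < 20153 → P i := stepQ 20152 Q20152 (allL N20152 (tt N19178 F236843) (tt N19369 F236844) (tt N18265 F236845) (tt N20152 F236846) (tt N21817 (iv F244397)) (tt N18263 F236847) (tt N19053 F236848) (tt N21822 (iv F244423)) (tt N21829 D54599) (tt N18262 (iv D52922)))
theorem Q20154 : ∀ i, i < 20154 → P i := stepQ 20153 Q20153 (allL N20153 (tt N19191 F236849) (tt N19374 F236850) (tt N18266 F236851) (tt N21830 D54600) (tt N18264 F236852) (tt N21829 (iv F244464)) (tt N18268 F236853) (tt N21823 (iv F244429)) (tt N18263 (iv D52923)) (tt N19399 F236854))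
theorem Q20155 : ∀ i, i < 20155 → P i := stepQ 20154 Q20154 (allL N20154 (tt N19926 F236855) (tt N21828 (iv F244454)) (tt N18432 F236856) (tt N18264 (iv D52924)) (tt N21831 D54601) (tt N21819 (iv F244406)) (tt N18269 F236857) (tt N21824 (iv F244435)) (tt N18287 F236858) (tt N21798 (iv F244276)))
theorem Q20156 : ∀ i, i < 20156 → P i := stepQ 20155 Q20155 (allL N20155 (tt N19183 F236859) (tt N18976 F236860) (tt N21829 (iv F244463)) (tt N21832 D54602) (tt N21820 (iv F244411)) (tt N18266 F236861) (tt N19055 F236862) (tt N21826 (iv F244446)) (tt N18265 (iv D52925)) (tt N21799 (iv F244282)))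
theorem Q20157 : ∀ i, i < 20157 → P i := stepQ 20156 Q20156 (allL N20156 (tt N19196 F236863) (tt N18977 F236864) (tt N21833 D54603) (tt N18266 (iv D52926)) (tt N18436 F236865) (tt N21832 (iv F244479)) (tt N18270 F236866) (tt N21827 (iv F244451)) (tt N18275 F236867) (tt N21800 (iv F244288)))
theorem Q20158 : ∀ i, i < 20158 → P i := stepQ 20157 Q20157 (allL N20157 (tt N18981 F236868) (tt N18269 F236869) (tt N18929 F236870) (tt N18267 (iv D52927)) (tt N19058 (iv F236875)) (tt N19350 F236871) (tt N21828 (iv F244456)) (tt N20157 F236872) (tt N18289 F236873) (tt N19405 F236874))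
theorem Q20159 : ∀ i, i < 20159 → P i := stepQ 20158 Q20158 (allL N20158 (tt N19192 F236876) (tt N19375 F236877) (tt N21834 D54604) (tt N18268 (iv D52928)) (tt N21835 D54605) (tt N19057 F236878) (tt N21830 (iv F244469)) (tt N20158 F236879) (tt N20158 F236880) (tt N19404 F236881))
theorem Q20160 : ∀ i, i < 20160 → P i := stepQ 20159 Q20159 (allL N20159 (tt N19924 F236882) (tt N19058 F236883) (tt N18443 F236884) (tt N21835 (iv F244497)) (tt N18269 (iv D52929)) (tt N21836 D54606) (tt N21831 (iv F244475)) (tt N20159 F236885) (tt N18290 F236886) (tt N21801 (iv F244296)))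
theorem Q20161 : ∀ i, i < 20161 → P i := stepQ 20160 Q20160 (allL N20160 (tt N19197 F236887) (tt N21836 (iv F244503)) (tt N18270 (iv D52930)) (tt N21834 (iv F244488)) (tt N18447 F236888) (tt N19058 F236889) (tt N21833 (iv F244484)) (tt N20160 F236890) (tt N18276 F236891) (tt N21802 (iv F244304)))
theorem Q20162 : ∀ i, i < 20162 → P i := stepQ 20161 Q20161 (allL N20161 (tt N19199 F236892) (tt N18982 F236893) (tt N20161 F236894) (tt N21825 (iv F244439)) (tt N19588 F236895) (tt N20161 F236896) (tt N18272 F236897) (tt N19059 F236898) (tt N21837 D54607) (tt N18271 (iv D52931)))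
theorem Q20163 : ∀ i, i < 20163 → P i := stepQ 20162 Q20162 (allL N20162 (tt N19203 F236899) (tt N18983 F236900) (tt N20162 F236901) (tt N21838 D54608) (tt N19951 F236902) (tt N18273 F236903) (tt N21837 (iv F244515)) (tt N18274 F236904) (tt N18272 (iv D52932)) (tt N20162 F236905))
theorem Q20164 : ∀ i, i < 20164 → P i := stepQ 20163 Q20163 (allL N20163 (tt N19208 F236906) (tt N18984 F236907) (tt N21839 D54609) (tt N18273 (iv D52933)) (tt N18451 F236908) (tt N21838 (iv F244520)) (tt N20163 F236909) (tt N18275 F236910) (tt N21827 (iv F244452)) (tt N20163 F236911))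
theorem Q20165 : ∀ i, i < 20165 → P i := stepQ 20164 Q20164 (allL N20164 (tt N19204 F236912) (tt N18987 F236913) (tt N21840 D54610) (tt N18274 (iv D52934)) (tt N21841 D54611) (tt N18275 F236914) (tt N19062 F236915) (tt N21838 (iv F244521)) (tt N21832 (iv F244481)) (tt N20164 F236916))
theorem Q20166 : ∀ i, i < 20166 → P i := stepQ 20165 Q20165 (allL N20165 (tt N19209 F236917) (tt N21842 D54612) (tt N18275 (iv D52935)) (tt N20165 F236918) (tt N18455 F236919) (tt N21840 (iv F244532)) (tt N18276 F236920) (tt N21839 (iv F244528)) (tt N21833 (iv F244485)) (tt N20165 F236921))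
theorem Q20167 : ∀ i, i < 20167 → P i := stepQ 20166 Q20166 (allL N20166 (tt N19428 F236922) (tt N18276 (iv D52936)) (tt N18479 F236923) (tt N20166 F236924) (tt N18459 F236925) (tt N18290 F236926) (tt N21842 (iv F244544)) (tt N20166 F236927) (tt N21836 (iv F244508)) (tt N20166 F236928))
theorem Q20168 : ∀ i, i < 20168 → P i := stepQ 20167 Q20167 (allL N20167 (tt N19984 F236929) (tt N19930 F236930) (tt N18278 F236931) (tt N21843 D54613) (tt N19527 F236932) (tt N18285 F236933) (tt N19531 F236934) (tt N18283 F236935) (tt N18277 (iv D52937)) (tt N20167 F236936))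
theorem Q20169 : ∀ i, i < 20169 → P i := stepQ 20168 Q20168 (allL N20168 (tt N19933 F236937) (tt N18281 F236938) (tt N19127 F236939) (tt N18279 (iv D52938)) (tt N21811 (iv F244358)) (tt N20168 F236940) (tt N18403 F236941) (tt N19260 F236942) (tt N21844 D54614) (tt N21845 D54615))
theorem Q20170 : ∀ i, i < 20170 → P i := stepQ 20169 Q20169 (allL N20169 (tt N19934 F236943) (tt N18282 F236944) (tt N18292 F236945) (tt N21845 (iv F244564)) (tt N18280 F236946) (tt N20169 F236947) (tt N18461 F236948) (tt N19228 F236949) (tt N21846 D54616) (tt N18279 (iv D52939)))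
theorem Q20171 : ∀ i, i < 20171 → P i := stepQ 20170 Q20170 (allL N20170 (tt N19935 F236950) (tt N18283 F236951) (tt N18293 F236952) (tt N21847 D54617) (tt N21846 (iv F244571)) (tt N18286 F236953) (tt N19352 F236954) (tt N19930 F236955) (tt N18280 (iv D52940)) (tt N20170 F236956))
theorem Q20172 : ∀ i, i < 20172 → P i := stepQ 20171 Q20171 (allL N20171 (tt N19973 F236957) (tt N21844 (iv F244555)) (tt N18371 F236958) (tt N20171 F236959) (tt N21815 (iv F244385)) (tt N20171 F236960) (tt N18373 F236961) (tt N19434 F236962) (tt N18281 (iv D52941)) (tt N21848 D54618))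
theorem Q20173 : ∀ i, i < 20173 → P i := stepQ 20172 Q20172 (allL N20172 (tt N19974 F236963) (tt N21845 (iv F244562)) (tt N18402 F236964) (tt N18282 F236965) (tt N21816 (iv F244391)) (tt N20172 F236966) (tt N18405 F236967) (tt N19466 F236968) (tt N21849 D54619) (tt N18281 (iv D52942)))
theorem Q20174 : ∀ i, i < 20174 → P i := stepQ 20173 Q20173 (allL N20173 (tt N19979 F236969) (tt N21846 (iv F244569)) (tt N18284 F236970) (tt N21850 D54620) (tt N18283 F236971) (tt N20173 F236972) (tt N18462 F236973) (tt N19527 F236974) (tt N18282 (iv D52943)) (tt N20173 F236975))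
theorem Q20175 : ∀ i, i < 20175 → P i := stepQ 20174 Q20174 (allL N20174 (tt N19991 F236976) (tt N21847 (iv F244577)) (tt N18471 F236977) (tt N18283 (iv D52944)) (tt N21851 D54621) (tt N18287 F236978) (tt N19353 F236979) (tt N21843 (iv F244552)) (tt N21819 (iv F244408)) (tt N20174 F236980))
theorem Q20176 : ∀ i, i < 20176 → P i := stepQ 20175 Q20175 (allL N20175 (tt N19981 F236981) (tt N19999 F236982) (tt N18474 F236983) (tt N18285 (iv D52945)) (tt N21852 D54622) (tt N21843 (iv F244550)) (tt N20175 F236984) (tt N18287 F236985) (tt N21824 (iv F244436)) (tt N20175 F236986))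
theorem Q20177 : ∀ i, i < 20177 → P i := stepQ 20176 Q20176 (allL N20176 (tt N18988 F236987) (tt N18287 F236988) (tt N18932 F236989) (tt N18286 (iv D52946)) (tt N19063 (iv F236993)) (tt N21847 (iv F244579)) (tt N18289 F236990) (tt N19999 F236991) (tt N21828 (iv F244458)) (tt N20176 F236992))
theorem Q20178 : ∀ i, i < 20178 → P i := stepQ 20177 Q20177 (allL N20177 (tt N19990 F236994) (tt N19063 F236995) (tt N18477 F236996) (tt N20177 F236997) (tt N18287 (iv D52947)) (tt N21853 D54623) (tt N18290 F236998) (tt N21852 (iv F244609)) (tt N21831 (iv F244476)) (tt N20177 F236999))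
theorem Q20179 : ∀ i, i < 20179 → P i := stepQ 20178 Q20178 (allL N20178 (tt N19936 F237000) (tt N18294 F237001) (tt N21846 (iv F244570)) (tt N18886 F237002) (tt N18293 F237003) (tt N20178 F237004) (tt N18481 F237005) (tt N18896 F237006) (tt N18292 (iv D52948)) (tt N20178 F237007))
theorem Q20180 : ∀ i, i < 20180 → P i := stepQ 20179 Q20179 (allL N20179 (tt N18905 F237008) (tt N18295 F237009) (tt N18931 (iv F237016)) (tt N18293 (iv D52949)) (tt N18697 F237010) (tt N18297 F237011) (tt N19361 F237012) (tt N18702 F237013) (tt N18696 F237014) (tt N20179 F237015))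
theorem Q20181 : ∀ i, i < 20181 → P i := stepQ 20180 Q20180 (allL N20180 (tt N18993 F237017) (tt N18325 F237018) (tt N18974 F237019) (tt N18299 (iv D52950)) (tt N21854 D54624) (tt N18302 F237020) (tt N18933 F237021) (tt N18300 F237022) (tt N18307 F237023) (tt N21855 D54625))
theorem Q20182 : ∀ i, i < 20182 → P i := stepQ 20181 Q20181 (allL N20181 (tt N18994 F237024) (tt N18326 F237025) (tt N19233 F237026) (tt N21855 (iv F244627)) (tt N18939 F237027) (tt N18303 F237028) (tt N18934 F237029) (tt N18301 F237030) (tt N19076 F237031) (tt N18299 (iv D52951)))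
theorem Q20183 : ∀ i, i < 20183 → P i := stepQ 20182 Q20182 (allL N20182 (tt N18995 F237032) (tt N18328 F237033) (tt N18965 F237034) (tt N19729 F237035) (tt N18300 (iv D52952)) (tt N19004 F237036) (tt N18962 F237037) (tt N21854 (iv F244622)) (tt N18310 F237038) (tt N21856 D54626))
theorem Q20184 : ∀ i, i < 20184 → P i := stepQ 20183 Q20183 (allL N20183 (tt N18996 F237039) (tt N18329 F237040) (tt N18975 F237041) (tt N18301 F237042) (tt N21856 (iv F244635)) (tt N18304 F237043) (tt N18972 F237044) (tt N21855 (iv F244630)) (tt N21857 D54627) (tt N18300 (iv D52953)))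
theorem Q20185 : ∀ i, i < 20185 → P i := stepQ 20184 Q20184 (allL N20184 (tt N18997 F237045) (tt N18330 F237046) (tt N18978 F237047) (tt N18303 F237048) (tt N19008 F237049) (tt N21855 (iv F244628)) (tt N20184 F237050) (tt N18304 F237051) (tt N21858 D54628) (tt N18302 (iv D52954)))
theorem Q20186 : ∀ i, i < 20186 → P i := stepQ 20185 Q20185 (allL N20185 (tt N18998 F237052) (tt N18334 F237053) (tt N18979 F237054) (tt N19464 F237055) (tt N19010 F237056) (tt N21857 (iv F244642)) (tt N18305 F237057) (tt N21858 (iv F244651)) (tt N18304 (iv D52955)) (tt N18317 F237058))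
theorem Q20187 : ∀ i, i < 20187 → P i := stepQ 20186 Q20186 (allL N20186 (tt N18999 F237059) (tt N18337 F237060) (tt N21859 D54629) (tt N18306 (iv D52956)) (tt N21860 D54630) (tt N20186 F237061) (tt N18307 F237062) (tt N18645 F237063) (tt N18933 F237064) (tt N21861 D54631))
theorem Q20188 : ∀ i, i < 20188 → P i := stepQ 20187 Q20187 (allL N20187 (tt N19000 F237065) (tt N18338 F237066) (tt N20187 F237067) (tt N21861 (iv F244668)) (tt N18648 F237068) (tt N20187 F237069) (tt N18308 F237070) (tt N18646 F237071) (tt N18797 F237072) (tt N18306 (iv D52957)))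
theorem Q20189 : ∀ i, i < 20189 → P i := stepQ 20188 Q20188 (allL N20188 (tt N19001 F237073) (tt N19024 F237074) (tt N18307 (iv D52958)) (tt N20188 F237075) (tt N21862 D54632) (tt N18312 F237076) (tt N21859 (iv F244657)) (tt N18309 F237077) (tt N18974 F237078) (tt N21863 D54633))
theorem Q20190 : ∀ i, i < 20190 → P i := stepQ 20189 Q20189 (allL N20189 (tt N19002 F237079) (tt N18339 F237080) (tt N21862 (iv F244674)) (tt N19669 F237081) (tt N18307 (iv D52959)) (tt N19668 F237082) (tt N21860 (iv F244663)) (tt N18310 F237083) (tt N21854 (iv F244623)) (tt N21864 D54634))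
theorem Q20191 : ∀ i, i < 20191 → P i := stepQ 20190 Q20190 (allL N20190 (tt N19003 F237084) (tt N18340 F237085) (tt N21863 (iv F244681)) (tt N18308 F237086) (tt N21864 (iv F244688)) (tt N18313 F237087) (tt N21861 (iv F244670)) (tt N18311 F237088) (tt N21865 D54635) (tt N18307 (iv D52960)))
theorem Q20192 : ∀ i, i < 20192 → P i := stepQ 20191 Q20191 (allL N20191 (tt N19004 F237089) (tt N19021 F237090) (tt N18310 F237091) (tt N21866 D54636) (tt N18309 (iv D52961)) (tt N18995 F237092) (tt N18942 F237093) (tt N21862 (iv F244676)) (tt N18965 F237094) (tt N21867 D54637))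
theorem Q20193 : ∀ i, i < 20193 → P i := stepQ 20192 Q20192 (allL N20192 (tt N19005 F237095) (tt N19027 F237096) (tt N18311 F237097) (tt N20192 F237098) (tt N21867 (iv F244707)) (tt N18314 F237099) (tt N18948 F237100) (tt N21863 (iv F244684)) (tt N21868 D54638) (tt N18309 (iv D52962)))
theorem Q20194 : ∀ i, i < 20194 → P i := stepQ 20193 Q20193 (allL N20193 (tt N18965 F237101) (tt N18343 F237102) (tt N18995 F237103) (tt N19661 F237104) (tt N18315 F237105) (tt N18310 (iv D52963)) (tt N18922 F237106) (tt N19668 F237107) (tt N19004 F237108) (tt N21869 D54639))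
theorem Q20195 : ∀ i, i < 20195 → P i := stepQ 20194 Q20194 (allL N20194 (tt N19006 F237109) (tt N18344 F237110) (tt N21867 (iv F244706)) (tt N21742 (iv F243906)) (tt N18311 F237111) (tt N21869 (iv F244721)) (tt N19365 F237112) (tt N21864 (iv F244690)) (tt N21870 D54640) (tt N18310 (iv D52964)))
theorem Q20196 : ∀ i, i < 20196 → P i := stepQ 20195 Q20195 (allL N20195 (tt N19007 F237113) (tt N18345 F237114) (tt N21868 (iv F244712)) (tt N19517 F237115) (tt N21870 (iv F244726)) (tt N18317 F237116) (tt N19366 F237117) (tt N21865 (iv F244695)) (tt N18311 (iv D52965)) (tt N21857 (iv F244644)))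
theorem Q20197 : ∀ i, i < 20197 → P i := stepQ 20196 Q20196 (allL N20196 (tt N19008 F237118) (tt N19025 F237119) (tt N18313 F237120) (tt N20196 F237121) (tt N18997 F237122) (tt N21863 (iv F244683)) (tt N20196 F237123) (tt N18314 F237124) (tt N21871 D54641) (tt N18312 (iv D52966)))
theorem Q20198 : ∀ i, i < 20198 → P i := stepQ 20197 Q20197 (allL N20197 (tt N19009 F237125) (tt N18346 F237126) (tt N21871 (iv F244730)) (tt N19526 F237127) (tt N19952 F237128) (tt N21865 (iv F244694)) (tt N20197 F237129) (tt N18317 F237130) (tt N18313 (iv D52967)) (tt N21858 (iv F244652)))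
theorem Q20199 : ∀ i, i < 20199 → P i := stepQ 20198 Q20198 (allL N20198 (tt N19010 F237131) (tt N19028 F237132) (tt N18317 F237133) (tt N21872 D54642) (tt N18998 F237134) (tt N21868 (iv F244713)) (tt N18318 F237135) (tt N21871 (iv F244733)) (tt N18314 (iv D52968)) (tt N18979 F237136))
theorem Q20200 : ∀ i, i < 20200 → P i := stepQ 20199 Q20199 (allL N20199 (tt N18975 F237137) (tt N18349 F237138) (tt N18996 F237139) (tt N18320 F237140) (tt N21869 (iv F244720)) (tt N18316 F237141) (tt N18927 F237142) (tt N19707 F237143) (tt N21873 D54643) (tt N18315 (iv D52969)))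
theorem Q20201 : ∀ i, i < 20201 → P i := stepQ 20200 Q20200 (allL N20200 (tt N18979 F237144) (tt N18350 F237145) (tt N18998 F237146) (tt N21874 D54644) (tt N18317 F237147) (tt N21873 (iv F244745)) (tt N18319 F237148) (tt N19952 F237149) (tt N18316 (iv D52970)) (tt N19010 F237150))
theorem Q20202 : ∀ i, i < 20202 → P i := stepQ 20201 Q20201 (allL N20201 (tt N19011 F237151) (tt N19029 F237152) (tt N19525 F237153) (tt N18318 (iv D52971)) (tt N19772 F237154) (tt N18950 F237155) (tt N21872 (iv F244739)) (tt N20201 F237156) (tt N20201 F237157) (tt N18980 F237158))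
theorem Q20203 : ∀ i, i < 20203 → P i := stepQ 20202 Q20202 (allL N20202 (tt N18980 F237159) (tt N18355 F237160) (tt N19350 F237161) (tt N18319 (iv D52972)) (tt N18446 F237162) (tt N18929 F237163) (tt N21874 (iv F244753)) (tt N20202 F237164) (tt N18322 F237165) (tt N19011 F237166))
theorem Q20204 : ∀ i, i < 20204 → P i := stepQ 20203 Q20203 (allL N20203 (tt N18986 F237167) (tt N18358 F237168) (tt N19361 F237169) (tt N21875 D54645) (tt N19704 F237170) (tt N18321 F237171) (tt N18931 F237172) (tt N19708 F237173) (tt N18320 (iv D52973)) (tt N20203 F237174))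
theorem Q20205 : ∀ i, i < 20205 → P i := stepQ 20204 Q20204 (allL N20204 (tt N18990 F237175) (tt N18359 F237176) (tt N19358 F237177) (tt N18321 (iv D52974)) (tt N18457 F237178) (tt N21875 (iv F244760)) (tt N18322 F237179) (tt N19953 F237180) (tt N21874 (iv F244755)) (tt N20204 F237181))
theorem Q20206 : ∀ i, i < 20206 → P i := stepQ 20205 Q20205 (allL N20205 (tt N18369 F237182) (tt N19729 F237183) (tt N19485 F237184) (tt N18328 F237185) (tt N18323 (iv D52975)) (tt N21876 D54646) (tt N19330 F237186) (tt N21782 (iv F244176)) (tt N19300 F237187) (tt N21877 D54647))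
theorem Q20207 : ∀ i, i < 20207 → P i := stepQ 20206 Q20206 (allL N20206 (tt N18370 F237188) (tt N19730 F237189) (tt N19538 F237190) (tt N18324 F237191) (tt N21877 (iv F244776)) (tt N20206 F237192) (tt N19331 F237193) (tt N21783 (iv F244185)) (tt N21878 D54648) (tt N18323 (iv D52976)))
theorem Q20208 : ∀ i, i < 20208 → P i := stepQ 20207 Q20207 (allL N20207 (tt N18374 F237194) (tt N21854 (iv F244617)) (tt N19887 F237195) (tt N21782 (iv F244174)) (tt N18325 (iv D52977)) (tt N19672 F237196) (tt N21774 (iv F244126)) (tt N18328 F237197) (tt N18339 F237198) (tt N21879 D54649))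
theorem Q20209 : ∀ i, i < 20209 → P i := stepQ 20208 Q20208 (allL N20208 (tt N18375 F237199) (tt N21855 (iv F244625)) (tt N19975 F237200) (tt N18326 F237201) (tt N21879 (iv F244787)) (tt N18330 F237202) (tt N21775 (iv F244134)) (tt N18329 F237203) (tt N21880 D54650) (tt N18325 (iv D52978)))
theorem Q20210 : ∀ i, i < 20210 → P i := stepQ 20209 Q20209 (allL N20209 (tt N18377 F237204) (tt N19041 F237205) (tt N18328 F237206) (tt N21881 D54651) (tt N18327 (iv D52979)) (tt N19038 F237207) (tt N19368 F237208) (tt N19887 F237209) (tt N18341 F237210) (tt N21882 D54652))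
theorem Q20211 : ∀ i, i < 20211 → P i := stepQ 20210 Q20210 (allL N20210 (tt N18378 F237211) (tt N19053 F237212) (tt N18329 F237213) (tt N20210 F237214) (tt N21882 (iv F244807)) (tt N18331 F237215) (tt N19369 F237216) (tt N19975 F237217) (tt N21883 D54653) (tt N18327 (iv D52980)))
theorem Q20212 : ∀ i, i < 20212 → P i := stepQ 20211 Q20211 (allL N20211 (tt N18379 F237218) (tt N19004 F237219) (tt N19038 F237220) (tt N21876 (iv F244767)) (tt N18332 F237221) (tt N18328 (iv D52981)) (tt N19752 F237222) (tt N19672 F237223) (tt N18343 F237224) (tt N21884 D54654))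
theorem Q20213 : ∀ i, i < 20213 → P i := stepQ 20212 Q20212 (allL N20212 (tt N18380 F237225) (tt N21856 (iv F244632)) (tt N21882 (iv F244806)) (tt N21877 (iv F244775)) (tt N18329 F237226) (tt N21884 (iv F244822)) (tt N19370 F237227) (tt N21879 (iv F244789)) (tt N21885 D54655) (tt N18328 (iv D52982)))
theorem Q20214 : ∀ i, i < 20214 → P i := stepQ 20213 Q20213 (allL N20213 (tt N18381 F237228) (tt N21857 (iv F244639)) (tt N21883 (iv F244813)) (tt N19854 F237229) (tt N21885 (iv F244826)) (tt N18334 F237230) (tt N19371 F237231) (tt N21880 (iv F244794)) (tt N18329 (iv D52983)) (tt N18345 F237232))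
theorem Q20215 : ∀ i, i < 20215 → P i := stepQ 20214 Q20214 (allL N20214 (tt N18386 F237233) (tt N21858 (iv F244646)) (tt N19977 F237234) (tt N19859 F237235) (tt N19954 F237236) (tt N21880 (iv F244793)) (tt N20214 F237237) (tt N18334 F237238) (tt N18330 (iv D52984)) (tt N18346 F237239))
theorem Q20216 : ∀ i, i < 20216 → P i := stepQ 20215 Q20215 (allL N20215 (tt N18390 F237240) (tt N19054 F237241) (tt N18334 F237242) (tt N21886 D54656) (tt N19052 F237243) (tt N21883 (iv F244814)) (tt N18335 F237244) (tt N19977 F237245) (tt N18331 (iv D52985)) (tt N18347 F237246))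
theorem Q20217 : ∀ i, i < 20217 → P i := stepQ 20216 Q20216 (allL N20216 (tt N18392 F237247) (tt N19005 F237248) (tt N19039 F237249) (tt N20216 F237250) (tt N21884 (iv F244821)) (tt N18333 F237251) (tt N19768 F237252) (tt N19710 F237253) (tt N21887 D54657) (tt N18332 (iv D52986)))
theorem Q20218 : ∀ i, i < 20218 → P i := stepQ 20217 Q20217 (allL N20217 (tt N18393 F237254) (tt N19010 F237255) (tt N19052 F237256) (tt N21888 D54658) (tt N18334 F237257) (tt N21887 (iv F244840)) (tt N18336 F237258) (tt N19954 F237259) (tt N18333 (iv D52987)) (tt N18350 F237260))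
theorem Q20219 : ∀ i, i < 20219 → P i := stepQ 20218 Q20218 (allL N20218 (tt N18396 F237261) (tt N19057 F237262) (tt N19858 F237263) (tt N18335 (iv D52988)) (tt N19855 F237264) (tt N19375 F237265) (tt N21886 (iv F244833)) (tt N20218 F237266) (tt N20218 F237267) (tt N18351 F237268))
theorem Q20220 : ∀ i, i < 20220 → P i := stepQ 20219 Q20219 (allL N20219 (tt N18400 F237269) (tt N19011 F237270) (tt N19462 F237271) (tt N18336 (iv D52989)) (tt N19125 F237272) (tt N19772 F237273) (tt N21888 (iv F244848)) (tt N20219 F237274) (tt N20219 F237275) (tt N18355 F237276))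
theorem Q20221 : ∀ i, i < 20221 → P i := stepQ 20220 Q20220 (allL N20220 (tt N18401 F237277) (tt N21860 (iv F244661)) (tt N19886 F237278) (tt N19674 F237279) (tt N18337 (iv D52990)) (tt N21889 D54659) (tt N18339 F237280) (tt N19377 F237281) (tt N21774 (iv F244128)) (tt N21890 D54660))
theorem Q20222 : ∀ i, i < 20222 → P i := stepQ 20221 Q20221 (allL N20221 (tt N18402 F237282) (tt N21861 (iv F244667)) (tt N19974 F237283) (tt N18338 F237284) (tt N21890 (iv F244861)) (tt N20221 F237285) (tt N18340 F237286) (tt N19378 F237287) (tt N21891 D54661) (tt N18337 (iv D52991)))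
theorem Q20223 : ∀ i, i < 20223 → P i := stepQ 20222 Q20222 (allL N20222 (tt N18407 F237288) (tt N21864 (iv F244686)) (tt N19888 F237289) (tt N19675 F237290) (tt N18340 F237291) (tt N19673 F237292) (tt N21890 (iv F244862)) (tt N18344 F237293) (tt N21892 D54662) (tt N18339 (iv D52992)))
theorem Q20224 : ∀ i, i < 20224 → P i := stepQ 20223 Q20223 (allL N20223 (tt N18408 F237294) (tt N21865 (iv F244692)) (tt N19976 F237295) (tt N19920 F237296) (tt N21892 (iv F244872)) (tt N18346 F237297) (tt N21891 (iv F244868)) (tt N18345 F237298) (tt N18340 (iv D52993)) (tt N21880 (iv F244795)))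
theorem Q20225 : ∀ i, i < 20225 → P i := stepQ 20224 Q20224 (allL N20224 (tt N18414 F237299) (tt N19928 F237300) (tt N18344 F237301) (tt N19870 F237302) (tt N18342 F237303) (tt N19869 F237304) (tt N19389 F237305) (tt N19888 F237306) (tt N21893 D54663) (tt N18341 (iv D52994)))
theorem Q20226 : ∀ i, i < 20226 → P i := stepQ 20225 Q20225 (allL N20225 (tt N18415 F237307) (tt N19919 F237308) (tt N18345 F237309) (tt N21894 D54664) (tt N21893 (iv F244878)) (tt N18347 F237310) (tt N19390 F237311) (tt N19976 F237312) (tt N18342 (iv D52995)) (tt N21883 (iv F244817)))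
theorem Q20227 : ∀ i, i < 20227 → P i := stepQ 20226 Q20226 (allL N20226 (tt N18416 F237313) (tt N18922 F237314) (tt N19257 F237315) (tt N19656 F237316) (tt N18348 F237317) (tt N18911 F237318) (tt N18343 (iv D52996)) (tt N21895 D54665) (tt N19752 F237319) (tt N21896 D54666))
theorem Q20228 : ∀ i, i < 20228 → P i := stepQ 20227 Q20227 (allL N20227 (tt N18417 F237320) (tt N21869 (iv F244717)) (tt N19869 F237321) (tt N19663 F237322) (tt N18349 F237323) (tt N18344 F237324) (tt N21896 (iv F244903)) (tt N19673 F237325) (tt N21897 D54667) (tt N18343 (iv D52997)))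
theorem Q20229 : ∀ i, i < 20229 → P i := stepQ 20228 Q20228 (allL N20228 (tt N18418 F237326) (tt N21870 (iv F244725)) (tt N21893 (iv F244877)) (tt N21898 D54668) (tt N18345 F237327) (tt N21897 (iv F244907)) (tt N19392 F237328) (tt N21892 (iv F244874)) (tt N18344 (iv D52998)) (tt N21885 (iv F244828)))
theorem Q20230 : ∀ i, i < 20230 → P i := stepQ 20229 Q20229 (allL N20229 (tt N18432 F237329) (tt N19918 F237330) (tt N19926 F237331) (tt N18347 (iv D52999)) (tt N19914 F237332) (tt N21894 (iv F244885)) (tt N18351 F237333) (tt N19978 F237334) (tt N18365 F237335) (tt N21886 (iv F244836)))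
theorem Q20231 : ∀ i, i < 20231 → P i := stepQ 20230 Q20230 (allL N20230 (tt N18433 F237336) (tt N18699 F237337) (tt N19212 F237338) (tt N18356 F237339) (tt N21895 (iv F244893)) (tt N18352 F237340) (tt N18883 F237341) (tt N18348 (iv D53000)) (tt N19761 F237342) (tt N21899 D54669))
theorem Q20232 : ∀ i, i < 20232 → P i := stepQ 20231 Q20231 (allL N20231 (tt N18434 F237343) (tt N18927 F237344) (tt N19223 F237345) (tt N18357 F237346) (tt N21896 (iv F244901)) (tt N18353 F237347) (tt N18349 F237348) (tt N21899 (iv F244918)) (tt N21900 D54670) (tt N18348 (iv D53001)))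
theorem Q20233 : ∀ i, i < 20233 → P i := stepQ 20232 Q20232 (allL N20232 (tt N18435 F237349) (tt N21873 (iv F244743)) (tt N19885 F237350) (tt N21901 D54671) (tt N21897 (iv F244906)) (tt N18350 F237351) (tt N21900 (iv F244923)) (tt N19711 F237352) (tt N18349 (iv D53002)) (tt N21887 (iv F244843)))
theorem Q20234 : ∀ i, i < 20234 → P i := stepQ 20233 Q20233 (allL N20233 (tt N18436 F237353) (tt N21874 (iv F244750)) (tt N19510 F237354) (tt N18350 (iv D53003)) (tt N19196 F237355) (tt N21901 (iv F244927)) (tt N18355 F237356) (tt N19955 F237357) (tt N18359 F237358) (tt N21888 (iv F244851)))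
theorem Q20235 : ∀ i, i < 20235 → P i := stepQ 20234 Q20234 (allL N20234 (tt N18444 F237359) (tt N18925 F237360) (tt N19230 F237361) (tt N18360 F237362) (tt N18914 F237363) (tt N21899 (iv F244916)) (tt N20234 F237364) (tt N18353 F237365) (tt N21902 D54672) (tt N18352 (iv D53004)))
theorem Q20236 : ∀ i, i < 20236 → P i := stepQ 20235 Q20235 (allL N20235 (tt N18445 F237366) (tt N18928 F237367) (tt N19176 F237368) (tt N21903 D54673) (tt N18916 F237369) (tt N21900 (iv F244922)) (tt N18354 F237370) (tt N21902 (iv F244935)) (tt N18353 (iv D53005)) (tt N19769 F237371))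
theorem Q20237 : ∀ i, i < 20237 → P i := stepQ 20236 Q20236 (allL N20236 (tt N18446 F237372) (tt N18929 F237373) (tt N18439 F237374) (tt N18354 (iv D53006)) (tt N18980 F237375) (tt N18355 F237376) (tt N21903 (iv F244941)) (tt N20236 F237377) (tt N18362 F237378) (tt N19772 F237379))
theorem Q20238 : ∀ i, i < 20238 → P i := stepQ 20237 Q20237 (allL N20237 (tt N18452 F237380) (tt N18700 F237381) (tt N18708 F237382) (tt N21899 (iv F244915)) (tt N18698 F237383) (tt N18360 F237384) (tt N18884 F237385) (tt N18357 F237386) (tt N21904 D54674) (tt N18356 (iv D53007)))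
theorem Q20239 : ∀ i, i < 20239 → P i := stepQ 20238 Q20238 (allL N20238 (tt N18453 F237387) (tt N18931 F237388) (tt N18486 F237389) (tt N21905 D54675) (tt N19703 F237390) (tt N18361 F237391) (tt N18358 F237392) (tt N21904 (iv F244950)) (tt N18357 (iv D53008)) (tt N20238 F237393))
theorem Q20240 : ∀ i, i < 20240 → P i := stepQ 20239 Q20239 (allL N20239 (tt N18454 F237394) (tt N21875 (iv F244758)) (tt N19537 F237395) (tt N18358 (iv D53009)) (tt N21906 D54676) (tt N18359 F237396) (tt N21905 (iv F244956)) (tt N19712 F237397) (tt N21901 (iv F244929)) (tt N20239 F237398))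
theorem Q20241 : ∀ i, i < 20241 → P i := stepQ 20240 Q20240 (allL N20240 (tt N18456 F237399) (tt N18930 F237400) (tt N18488 F237401) (tt N21907 D54677) (tt N18363 F237402) (tt N21904 (iv F244948)) (tt N20240 F237403) (tt N18361 F237404) (tt N18360 (iv D53010)) (tt N20240 F237405))
theorem Q20242 : ∀ i, i < 20242 → P i := stepQ 20241 Q20241 (allL N20241 (tt N18457 F237406) (tt N18932 F237407) (tt N18476 F237408) (tt N18361 (iv D53011)) (tt N18990 F237409) (tt N21905 (iv F244955)) (tt N18362 F237410) (tt N21907 (iv F244969)) (tt N21903 (iv F244942)) (tt N20241 F237411))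
theorem Q20243 : ∀ i, i < 20243 → P i := stepQ 20242 Q20242 (allL N20242 (tt N18471 F237412) (tt N19993 F237413) (tt N19991 F237414) (tt N18364 (iv D53012)) (tt N21908 D54678) (tt N18365 F237415) (tt N19421 F237416) (tt N19980 F237417) (tt N21894 (iv F244888)) (tt N20242 F237418))
theorem Q20244 : ∀ i, i < 20244 → P i := stepQ 20243 Q20243 (allL N20243 (tt N19529 F237419) (tt N21909 D54679) (tt N18366 (iv D53013)) (tt N20243 F237420) (tt N21910 D54680) (tt N20243 F237421) (tt N19849 F237422) (tt N18368 F237423) (tt N19411 F237424) (tt N21911 D54681))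
theorem Q20245 : ∀ i, i < 20245 → P i := stepQ 20244 Q20244 (allL N20244 (tt N21782 (iv F244171)) (tt N19078 F237425) (tt N21910 (iv F244987)) (tt N18374 F237426) (tt N18366 (iv D53014)) (tt N21912 D54682) (tt N19838 F237427) (tt N18369 F237428) (tt N19873 F237429) (tt N21913 D54683))
theorem Q20246 : ∀ i, i < 20246 → P i := stepQ 20245 Q20245 (allL N20245 (tt N21783 (iv F244179)) (tt N19079 F237430) (tt N21911 (iv F244992)) (tt N18367 F237431) (tt N21913 (iv F245005)) (tt N20245 F237432) (tt N19853 F237433) (tt N18370 F237434) (tt N21914 D54684) (tt N18366 (iv D53015)))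
theorem Q20247 : ∀ i, i < 20247 → P i := stepQ 20246 Q20246 (allL N20246 (tt N21915 D54685) (tt N18368 (iv D53016)) (tt N19080 F237435) (tt N20246 F237436) (tt N21916 D54686) (tt N20246 F237437) (tt N19429 F237438) (tt N21909 (iv F244984)) (tt N19416 F237439) (tt N21917 D54687))
theorem Q20248 : ∀ i, i < 20248 → P i := stepQ 20247 Q20247 (allL N20247 (tt N19485 F237440) (tt N21916 (iv F245020)) (tt N18369 F237441) (tt N21918 D54688) (tt N18368 (iv D53017)) (tt N21919 D54689) (tt N19430 F237442) (tt N21910 (iv F244989)) (tt N19387 F237443) (tt N21920 D54690))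
theorem Q20249 : ∀ i, i < 20249 → P i := stepQ 20248 Q20248 (allL N20248 (tt N19538 F237444) (tt N21917 (iv F245024)) (tt N18370 F237445) (tt N20248 F237446) (tt N21920 (iv F245041)) (tt N20248 F237447) (tt N19431 F237448) (tt N21911 (iv F244996)) (tt N21921 D54691) (tt N18368 (iv D53018)))
theorem Q20250 : ∀ i, i < 20250 → P i := stepQ 20249 Q20249 (allL N20249 (tt N21876 (iv F244764)) (tt N19083 F237449) (tt N21919 (iv F245035)) (tt N18379 F237450) (tt N20249 F237451) (tt N18369 (iv D53019)) (tt N19817 F237452) (tt N21912 (iv F245001)) (tt N19863 F237453) (tt N21922 D54692))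
theorem Q20251 : ∀ i, i < 20251 → P i := stepQ 20250 Q20250 (allL N20250 (tt N21877 (iv F244772)) (tt N19084 F237454) (tt N21920 (iv F245040)) (tt N18380 F237455) (tt N18370 F237456) (tt N21922 (iv F245051)) (tt N19432 F237457) (tt N21913 (iv F245007)) (tt N21923 D54693) (tt N18369 (iv D53020)))
theorem Q20252 : ∀ i, i < 20252 → P i := stepQ 20251 Q20251 (allL N20251 (tt N21878 (iv F244778)) (tt N19085 F237458) (tt N21921 (iv F245044)) (tt N21781 (iv F244167)) (tt N21923 (iv F245054)) (tt N20251 F237459) (tt N19433 F237460) (tt N21914 (iv F245011)) (tt N18370 (iv D53021)) (tt N19909 F237461))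
theorem Q20253 : ∀ i, i < 20253 → P i := stepQ 20252 Q20252 (allL N20252 (tt N21774 (iv F244122)) (tt N19087 F237462) (tt N21815 (iv F244384)) (tt N19838 F237463) (tt N18371 (iv D53022)) (tt N21924 D54694) (tt N18374 F237464) (tt N19435 F237465) (tt N18401 F237466) (tt N21925 D54695))
theorem Q20254 : ∀ i, i < 20254 → P i := stepQ 20253 Q20253 (allL N20253 (tt N21775 (iv F244129)) (tt N19088 F237467) (tt N21848 (iv F244584)) (tt N18372 F237468) (tt N21925 (iv F245064)) (tt N20253 F237469) (tt N18375 F237470) (tt N19436 F237471) (tt N21926 D54696) (tt N18371 (iv D53023)))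
theorem Q20255 : ∀ i, i < 20255 → P i := stepQ 20254 Q20254 (allL N20254 (tt N19161 F237472) (tt N18373 (iv D53024)) (tt N19089 F237473) (tt N20254 F237474) (tt N21927 D54697) (tt N18382 F237475) (tt N21844 (iv F244559)) (tt N18376 F237476) (tt N18403 F237477) (tt N21928 D54698))
theorem Q20256 : ∀ i, i < 20256 → P i := stepQ 20255 Q20255 (allL N20255 (tt N19887 F237478) (tt N21927 (iv F245073)) (tt N18374 F237479) (tt N21929 D54699) (tt N18373 (iv D53025)) (tt N19798 F237480) (tt N21815 (iv F244386)) (tt N18377 F237481) (tt N18404 F237482) (tt N21930 D54700))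
theorem Q20257 : ∀ i, i < 20257 → P i := stepQ 20256 Q20256 (allL N20256 (tt N19975 F237483) (tt N21928 (iv F245080)) (tt N18375 F237484) (tt N20256 F237485) (tt N21930 (iv F245093)) (tt N18383 F237486) (tt N21848 (iv F244587)) (tt N18378 F237487) (tt N21931 D54701) (tt N18373 (iv D53026)))
theorem Q20258 : ∀ i, i < 20258 → P i := stepQ 20257 Q20257 (allL N20257 (tt N19672 F237488) (tt N19092 F237489) (tt N19798 F237490) (tt N21912 (iv F244999)) (tt N18384 F237491) (tt N18374 (iv D53027)) (tt N21932 D54702) (tt N18379 F237492) (tt N18406 F237493) (tt N21933 D54703))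
theorem Q20259 : ∀ i, i < 20259 → P i := stepQ 20258 Q20258 (allL N20258 (tt N21879 (iv F244785)) (tt N19093 F237494) (tt N21930 (iv F245092)) (tt N21913 (iv F245004)) (tt N18375 F237495) (tt N21933 (iv F245111)) (tt N21925 (iv F245065)) (tt N18380 F237496) (tt N21934 D54704) (tt N18374 (iv D53028)))
theorem Q20260 : ∀ i, i < 20260 → P i := stepQ 20259 Q20259 (allL N20259 (tt N21880 (iv F244790)) (tt N19094 F237497) (tt N21931 (iv F245097)) (tt N21788 (iv F244212)) (tt N21934 (iv F245114)) (tt N18386 F237498) (tt N21926 (iv F245069)) (tt N18381 F237499) (tt N18375 (iv D53029)) (tt N18408 F237500))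
theorem Q20261 : ∀ i, i < 20261 → P i := stepQ 20260 Q20260 (allL N20260 (tt N19146 F237501) (tt N18377 F237502) (tt N19095 F237503) (tt N21935 D54705) (tt N18376 (iv D53030)) (tt N19143 F237504) (tt N19442 F237505) (tt N21927 (iv F245076)) (tt N18410 F237506) (tt N21936 D54706))
theorem Q20262 : ∀ i, i < 20262 → P i := stepQ 20261 Q20261 (allL N20261 (tt N19174 F237507) (tt N18378 F237508) (tt N19096 F237509) (tt N20261 F237510) (tt N21936 (iv F245128)) (tt N18387 F237511) (tt N19443 F237512) (tt N21928 (iv F245084)) (tt N21937 D54707) (tt N18376 (iv D53031)))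
theorem Q20263 : ∀ i, i < 20263 → P i := stepQ 20262 Q20262 (allL N20262 (tt N21881 (iv F244796)) (tt N21935 (iv F245118)) (tt N21918 (iv F245030)) (tt N18377 (iv D53032)) (tt N20262 F237513) (tt N21938 D54708) (tt N19444 F237514) (tt N21929 (iv F245089)) (tt N21939 D54709) (tt N21940 D54710))
theorem Q20264 : ∀ i, i < 20264 → P i := stepQ 20263 Q20263 (allL N20263 (tt N19038 F237515) (tt N19143 F237516) (tt N18379 F237517) (tt N21938 (iv F245139)) (tt N18388 F237518) (tt N18377 (iv D53033)) (tt N19793 (iv F237521)) (tt N19798 F237519) (tt N18413 F237520) (tt N21941 D54711))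
theorem Q20265 : ∀ i, i < 20265 → P i := stepQ 20264 Q20264 (allL N20264 (tt N21882 (iv F244804)) (tt N21936 (iv F245126)) (tt N18380 F237522) (tt N21940 (iv F245152)) (tt N18378 F237523) (tt N21941 (iv F245159)) (tt N19446 F237524) (tt N21930 (iv F245095)) (tt N21942 D54712) (tt N18377 (iv D53034)))
theorem Q20266 : ∀ i, i < 20266 → P i := stepQ 20265 Q20265 (allL N20265 (tt N21883 (iv F244811)) (tt N21937 (iv F245132)) (tt N18381 F237525) (tt N21943 D54713) (tt N21942 (iv F245163)) (tt N18390 F237526) (tt N19447 F237527) (tt N21931 (iv F245099)) (tt N18378 (iv D53035)) (tt N18415 F237528))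
theorem Q20267 : ∀ i, i < 20267 → P i := stepQ 20266 Q20266 (allL N20266 (tt N19752 F237529) (tt N19101 F237530) (tt N19793 F237531) (tt N19817 F237532) (tt N18391 F237533) (tt N19448 F237534) (tt N18379 (iv D53036)) (tt N21944 D54714) (tt N18416 F237535) (tt N21945 D54715))
theorem Q20268 : ∀ i, i < 20268 → P i := stepQ 20267 Q20267 (allL N20267 (tt N21884 (iv F244818)) (tt N19102 F237536) (tt N21941 (iv F245157)) (tt N21922 (iv F245049)) (tt N18392 F237537) (tt N18380 F237538) (tt N21945 (iv F245184)) (tt N21933 (iv F245112)) (tt N21946 D54716) (tt N18379 (iv D53037)))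
theorem Q20269 : ∀ i, i < 20269 → P i := stepQ 20268 Q20268 (allL N20268 (tt N21885 (iv F244825)) (tt N19103 F237539) (tt N21942 (iv F245162)) (tt N21947 D54717) (tt N18381 F237540) (tt N21946 (iv F245187)) (tt N19450 F237541) (tt N21934 (iv F245115)) (tt N18380 (iv D53038)) (tt N18418 F237542))
theorem Q20270 : ∀ i, i < 20270 → P i := stepQ 20269 Q20269 (allL N20269 (tt N19162 F237543) (tt N18383 F237544) (tt N19104 F237545) (tt N20269 F237546) (tt N19160 F237547) (tt N21928 (iv F245083)) (tt N20269 F237548) (tt N18387 F237549) (tt N21948 D54718) (tt N18382 (iv D53039)))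
theorem Q20271 : ∀ i, i < 20271 → P i := stepQ 20270 Q20270 (allL N20270 (tt N19977 F237550) (tt N21948 (iv F245193)) (tt N18386 F237551) (tt N21949 D54719) (tt N19967 F237552) (tt N21931 (iv F245098)) (tt N20270 F237553) (tt N18390 F237554) (tt N18383 (iv D53040)) (tt N18421 F237555))
theorem Q20272 : ∀ i, i < 20272 → P i := stepQ 20271 Q20271 (allL N20271 (tt N18892 F237556) (tt N19108 F237557) (tt N19073 F237558) (tt N20271 F237559) (tt N21932 (iv F245104)) (tt N20271 F237560) (tt N18384 (iv D53041)) (tt N19946 (iv F237562)) (tt N18422 F237561) (tt N21950 D54720))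
theorem Q20273 : ∀ i, i < 20273 → P i := stepQ 20272 Q20272 (allL N20272 (tt N19710 F237563) (tt N19109 F237564) (tt N19806 F237565) (tt N20272 F237566) (tt N21933 (iv F245110)) (tt N18385 F237567) (tt N21950 (iv F245209)) (tt N18392 F237568) (tt N21951 D54721) (tt N18384 (iv D53042)))
theorem Q20274 : ∀ i, i < 20274 → P i := stepQ 20273 Q20273 (allL N20273 (tt N19954 F237569) (tt N19110 F237570) (tt N19967 F237571) (tt N21952 D54722) (tt N18386 F237572) (tt N21951 (iv F245214)) (tt N20273 F237573) (tt N18393 F237574) (tt N18385 (iv D53043)) (tt N18424 F237575))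
theorem Q20275 : ∀ i, i < 20275 → P i := stepQ 20274 Q20274 (allL N20274 (tt N19175 F237576) (tt N18390 F237577) (tt N19111 F237578) (tt N21953 D54723) (tt N19172 F237579) (tt N21937 (iv F245134)) (tt N18394 F237580) (tt N21948 (iv F245197)) (tt N18387 (iv D53044)) (tt N18428 F237581))
theorem Q20276 : ∀ i, i < 20276 → P i := stepQ 20275 Q20275 (allL N20275 (tt N19039 F237582) (tt N19144 F237583) (tt N18392 F237584) (tt N19070 F237585) (tt N21941 (iv F245158)) (tt N18389 F237586) (tt N19794 F237587) (tt N19806 F237588) (tt N21954 D54724) (tt N18388 (iv D53045)))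
theorem Q20277 : ∀ i, i < 20277 → P i := stepQ 20276 Q20276 (allL N20276 (tt N19052 F237589) (tt N19172 F237590) (tt N18393 F237591) (tt N19846 F237592) (tt N18390 F237593) (tt N21954 (iv F245234)) (tt N18395 F237594) (tt N19967 F237595) (tt N18389 (iv D53046)) (tt N18431 F237596))
theorem Q20278 : ∀ i, i < 20278 → P i := stepQ 20277 Q20277 (allL N20277 (tt N21886 (iv F244829)) (tt N21953 (iv F245224)) (tt N21798 (iv F244273)) (tt N18390 (iv D53047)) (tt N21955 D54725) (tt N21943 (iv F245166)) (tt N18396 F237597) (tt N21949 (iv F245201)) (tt N20277 F237598) (tt N18432 F237599))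
theorem Q20279 : ∀ i, i < 20279 → P i := stepQ 20278 Q20278 (allL N20278 (tt N19761 F237600) (tt N19115 F237601) (tt N19250 F237602) (tt N20278 F237603) (tt N21944 (iv F245174)) (tt N18397 F237604) (tt N19946 F237605) (tt N18391 (iv D53048)) (tt N18433 F237606) (tt N21956 D54726))
theorem Q20280 : ∀ i, i < 20280 → P i := stepQ 20279 Q20279 (allL N20279 (tt N19768 F237607) (tt N19116 F237608) (tt N19794 F237609) (tt N20279 F237610) (tt N21945 (iv F245182)) (tt N18398 F237611) (tt N18392 F237612) (tt N21956 (iv F245250)) (tt N21957 D54727) (tt N18391 (iv D53049)))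
theorem Q20281 : ∀ i, i < 20281 → P i := stepQ 20280 Q20280 (allL N20280 (tt N21887 (iv F244837)) (tt N19117 F237613) (tt N21954 (iv F245232)) (tt N21958 D54728) (tt N21946 (iv F245186)) (tt N18393 F237614) (tt N21957 (iv F245255)) (tt N21951 (iv F245215)) (tt N18392 (iv D53050)) (tt N18435 F237615))
theorem Q20282 : ∀ i, i < 20282 → P i := stepQ 20281 Q20281 (allL N20281 (tt N21888 (iv F244844)) (tt N19118 F237616) (tt N21959 D54729) (tt N18393 (iv D53051)) (tt N21800 (iv F244285)) (tt N21958 (iv F245258)) (tt N18400 F237617) (tt N21952 (iv F245220)) (tt N20281 F237618) (tt N18436 F237619))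
theorem Q20283 : ∀ i, i < 20283 → P i := stepQ 20282 Q20282 (allL N20282 (tt N19189 F237620) (tt N18396 F237621) (tt N19772 F237622) (tt N18394 (iv D53052)) (tt N19525 F237623) (tt N19462 F237624) (tt N21953 (iv F245227)) (tt N20282 F237625) (tt N20282 F237626) (tt N18439 F237627))
theorem Q20284 : ∀ i, i < 20284 → P i := stepQ 20283 Q20283 (allL N20283 (tt N19855 F237628) (tt N19525 F237629) (tt N21801 (iv F244291)) (tt N19521 F237630) (tt N18396 (iv D53053)) (tt N19522 (iv F237634)) (tt N21955 (iv F245241)) (tt N20283 F237631) (tt N20283 F237632) (tt N18443 F237633))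
theorem Q20285 : ∀ i, i < 20285 → P i := stepQ 20284 Q20284 (allL N20284 (tt N19762 F237635) (tt N19123 F237636) (tt N19802 F237637) (tt N20284 F237638) (tt N19463 F237639) (tt N21956 (iv F245248)) (tt N20284 F237640) (tt N18398 F237641) (tt N21960 D54730) (tt N18397 (iv D53054)))
theorem Q20286 : ∀ i, i < 20286 → P i := stepQ 20285 Q20285 (allL N20285 (tt N19769 F237642) (tt N19124 F237643) (tt N19804 F237644) (tt N21961 D54731) (tt N19464 F237645) (tt N21957 (iv F245254)) (tt N18399 F237646) (tt N21960 (iv F245272)) (tt N18398 (iv D53055)) (tt N18445 F237647))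
theorem Q20287 : ∀ i, i < 20287 → P i := stepQ 20286 Q20286 (allL N20286 (tt N19772 F237648) (tt N19125 F237649) (tt N19189 F237650) (tt N18399 (iv D53056)) (tt N19011 F237651) (tt N18400 F237652) (tt N21961 (iv F245278)) (tt N20286 F237653) (tt N20286 F237654) (tt N18446 F237655))
theorem Q20288 : ∀ i, i < 20288 → P i := stepQ 20287 Q20287 (allL N20287 (tt N19462 F237656) (tt N19192 (iv F237662)) (tt N18400 (iv D53057)) (tt N19188 F237657) (tt N21802 (iv F244300)) (tt N19189 F237658) (tt N21959 (iv F245263)) (tt N20287 F237659) (tt N20287 F237660) (tt N18447 F237661))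
theorem Q20289 : ∀ i, i < 20289 → P i := stepQ 20288 Q20288 (allL N20288 (tt N21889 (iv F244852)) (tt N19130 F237663) (tt N21814 (iv F244378)) (tt N21722 (iv F243769)) (tt N20288 F237664) (tt N18401 (iv D53058)) (tt N21962 D54732) (tt N19467 F237665) (tt N21924 (iv F245061)) (tt N21963 D54733))
theorem Q20290 : ∀ i, i < 20290 → P i := stepQ 20289 Q20289 (allL N20289 (tt N21890 (iv F244858)) (tt N19131 F237666) (tt N21816 (iv F244389)) (tt N21723 (iv F243777)) (tt N18402 F237667) (tt N21963 (iv F245289)) (tt N18407 F237668) (tt N19468 F237669) (tt N21964 D54734) (tt N18401 (iv D53059)))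
theorem Q20291 : ∀ i, i < 20291 → P i := stepQ 20290 Q20290 (allL N20290 (tt N21891 (iv F244864)) (tt N19132 F237670) (tt N21849 (iv F244590)) (tt N21804 (iv F244316)) (tt N21964 (iv F245292)) (tt N20290 F237671) (tt N18408 F237672) (tt N19469 F237673) (tt N18402 (iv D53060)) (tt N21926 (iv F245071)))
theorem Q20292 : ∀ i, i < 20292 → P i := stepQ 20291 Q20291 (allL N20291 (tt N18403 (iv D53061)) (tt N19105 F237674) (tt N19133 F237675) (tt N18460 F237676) (tt N21965 D54735) (tt N18419 F237677) (tt N19933 F237678) (tt N18409 F237679) (tt N19161 F237680) (tt N21966 D54736))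
theorem Q20293 : ∀ i, i < 20293 → P i := stepQ 20292 Q20292 (allL N20292 (tt N21965 (iv F245295)) (tt N18404 F237681) (tt N19134 F237682) (tt N19338 F237683) (tt N18403 (iv D53062)) (tt N19795 F237684) (tt N21811 (iv F244360)) (tt N18410 F237685) (tt N21927 (iv F245077)) (tt N21967 D54737))
theorem Q20294 : ∀ i, i < 20294 → P i := stepQ 20293 Q20293 (allL N20293 (tt N21966 (iv F245303)) (tt N18405 F237686) (tt N19135 F237687) (tt N18461 F237688) (tt N21967 (iv F245313)) (tt N18420 F237689) (tt N21845 (iv F244566)) (tt N18411 F237690) (tt N21968 D54738) (tt N18403 (iv D53063)))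
theorem Q20295 : ∀ i, i < 20295 → P i := stepQ 20294 Q20294 (allL N20294 (tt N19888 F237691) (tt N21967 (iv F245310)) (tt N18407 F237692) (tt N19340 F237693) (tt N18405 F237694) (tt N19799 F237695) (tt N21816 (iv F244392)) (tt N18414 F237696) (tt N21969 D54739) (tt N18404 (iv D53064)))
theorem Q20296 : ∀ i, i < 20296 → P i := stepQ 20295 Q20295 (allL N20295 (tt N19976 F237697) (tt N21968 (iv F245316)) (tt N18408 F237698) (tt N21970 D54740) (tt N21969 (iv F245322)) (tt N18421 F237699) (tt N21849 (iv F244592)) (tt N18415 F237700) (tt N18405 (iv D53065)) (tt N21931 (iv F245100)))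
theorem Q20297 : ∀ i, i < 20297 → P i := stepQ 20296 Q20296 (allL N20296 (tt N18839 F237701) (tt N19140 F237702) (tt N19040 F237703) (tt N18753 F237704) (tt N18422 F237705) (tt N21962 (iv F245286)) (tt N18406 (iv D53066)) (tt N21971 D54741) (tt N21932 (iv F245105)) (tt N21972 D54742))
theorem Q20298 : ∀ i, i < 20298 → P i := stepQ 20297 Q20297 (allL N20297 (tt N19673 F237706) (tt N19141 F237707) (tt N19799 F237708) (tt N19635 F237709) (tt N18423 F237710) (tt N18407 F237711) (tt N21972 (iv F245341)) (tt N18417 F237712) (tt N21973 D54743) (tt N18406 (iv D53067)))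
theorem Q20299 : ∀ i, i < 20299 → P i := stepQ 20298 Q20298 (allL N20298 (tt N21892 (iv F244870)) (tt N19142 F237713) (tt N21969 (iv F245321)) (tt N21974 D54744) (tt N18408 F237714) (tt N21973 (iv F245346)) (tt N21964 (iv F245293)) (tt N18418 F237715) (tt N18407 (iv D53068)) (tt N21934 (iv F245116)))
theorem Q20300 : ∀ i, i < 20300 → P i := stepQ 20299 Q20299 (allL N20299 (tt N18410 F237716) (tt N19098 F237717) (tt N19143 F237718) (tt N21975 D54745) (tt N18409 (iv D53069)) (tt N19095 F237719) (tt N19478 F237720) (tt N21965 (iv F245301)) (tt N19146 F237721) (tt N21976 D54746))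
theorem Q20301 : ∀ i, i < 20301 → P i := stepQ 20300 Q20300 (allL N20300 (tt N18411 F237722) (tt N19113 F237723) (tt N19144 F237724) (tt N18464 F237725) (tt N21976 (iv F245361)) (tt N18425 F237726) (tt N19479 F237727) (tt N21966 (iv F245309)) (tt N21977 D54747) (tt N18409 (iv D53070)))
theorem Q20302 : ∀ i, i < 20302 → P i := stepQ 20301 Q20301 (allL N20301 (tt N21975 (iv F245350)) (tt N18412 F237728) (tt N19742 F237732) (tt N18410 (iv D53071)) (tt N18465 F237729) (tt N19788 (iv F237733)) (tt N19480 F237730) (tt N19338 F237731) (tt N21978 D54748) (tt N21979 D54749))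
theorem Q20303 : ∀ i, i < 20303 → P i := stepQ 20302 Q20302 (allL N20302 (tt N19095 F237734) (tt N18413 F237735) (tt N19146 F237736) (tt N19788 F237737) (tt N18426 F237738) (tt N18410 (iv D53072)) (tt N19826 (iv F237741)) (tt N19795 F237739) (tt N19143 F237740) (tt N21980 D54750))
theorem Q20304 : ∀ i, i < 20304 → P i := stepQ 20303 Q20303 (allL N20303 (tt N21976 (iv F245358)) (tt N18414 F237742) (tt N19147 F237743) (tt N21979 (iv F245380)) (tt N18411 F237744) (tt N21980 (iv F245390)) (tt N19482 F237745) (tt N21967 (iv F245315)) (tt N21981 D54751) (tt N18410 (iv D53073)))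
theorem Q20305 : ∀ i, i < 20305 → P i := stepQ 20304 Q20304 (allL N20304 (tt N21977 (iv F245364)) (tt N18415 F237746) (tt N19148 F237747) (tt N21982 D54752) (tt N21981 (iv F245395)) (tt N18428 F237748) (tt N19483 F237749) (tt N21968 (iv F245319)) (tt N18411 (iv D53074)) (tt N21937 (iv F245136)))
theorem Q20306 : ∀ i, i < 20306 → P i := stepQ 20305 Q20305 (allL N20305 (tt N19430 F237750) (tt N21978 (iv F245371)) (tt N19330 F237751) (tt N21939 (iv F245147)) (tt N18468 F237752) (tt N19256 F237753) (tt N19485 F237754) (tt N19262 F237755) (tt N18412 (iv D53075)) (tt N21983 D54753))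
theorem Q20307 : ∀ i, i < 20307 → P i := stepQ 20306 Q20306 (allL N20306 (tt N19870 F237756) (tt N21979 (iv F245378)) (tt N19335 F237757) (tt N18414 F237758) (tt N18469 F237759) (tt N19790 F237760) (tt N19486 F237761) (tt N19340 F237762) (tt N21984 D54754) (tt N18412 (iv D53076)))
theorem Q20308 : ∀ i, i < 20308 → P i := stepQ 20307 Q20307 (allL N20307 (tt N19257 F237763) (tt N19826 F237764) (tt N18416 F237765) (tt N19783 F237766) (tt N18429 F237767) (tt N19487 F237768) (tt N18413 (iv D53077)) (tt N21985 D54755) (tt N19793 F237769) (tt N21986 D54756))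
theorem Q20309 : ∀ i, i < 20309 → P i := stepQ 20308 Q20308 (allL N20308 (tt N19869 F237770) (tt N21980 (iv F245386)) (tt N18417 F237771) (tt N19790 F237772) (tt N18430 F237773) (tt N18414 F237774) (tt N21986 (iv F245427)) (tt N19799 F237775) (tt N21987 D54757) (tt N18413 (iv D53078)))
theorem Q20310 : ∀ i, i < 20310 → P i := stepQ 20309 Q20309 (allL N20309 (tt N21893 (iv F244875)) (tt N21981 (iv F245393)) (tt N18418 F237776) (tt N21988 D54758) (tt N18415 F237777) (tt N21987 (iv F245431)) (tt N19489 F237778) (tt N21969 (iv F245324)) (tt N18414 (iv D53079)) (tt N21942 (iv F245165)))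
theorem Q20311 : ∀ i, i < 20311 → P i := stepQ 20310 Q20310 (allL N20310 (tt N21894 (iv F244882)) (tt N21982 (iv F245397)) (tt N21819 (iv F244405)) (tt N18415 (iv D53080)) (tt N21989 D54759) (tt N18432 F237779) (tt N19490 F237780) (tt N21970 (iv F245327)) (tt N18471 F237781) (tt N21943 (iv F245169)))
theorem Q20312 : ∀ i, i < 20312 → P i := stepQ 20311 Q20311 (allL N20311 (tt N21895 (iv F244889)) (tt N19156 F237782) (tt N21985 (iv F245415)) (tt N21758 (iv F244025)) (tt N18433 F237783) (tt N19491 F237784) (tt N21971 (iv F245334)) (tt N18416 (iv D53081)) (tt N21944 (iv F245177)) (tt N21990 D54760))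
theorem Q20313 : ∀ i, i < 20313 → P i := stepQ 20312 Q20312 (allL N20312 (tt N21896 (iv F244897)) (tt N19157 F237785) (tt N21986 (iv F245423)) (tt N21759 (iv F244033)) (tt N18434 F237786) (tt N19492 F237787) (tt N18417 F237788) (tt N21990 (iv F245439)) (tt N21991 D54761) (tt N18416 (iv D53082)))
theorem Q20314 : ∀ i, i < 20314 → P i := stepQ 20313 Q20313 (allL N20313 (tt N21897 (iv F244904)) (tt N19158 F237789) (tt N21987 (iv F245429)) (tt N21992 D54762) (tt N18435 F237790) (tt N18418 F237791) (tt N21991 (iv F245443)) (tt N21973 (iv F245347)) (tt N18417 (iv D53083)) (tt N21946 (iv F245188)))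
theorem Q20315 : ∀ i, i < 20315 → P i := stepQ 20314 Q20314 (allL N20314 (tt N21898 (iv F244909)) (tt N19159 F237792) (tt N21993 D54763) (tt N18418 (iv D53084)) (tt N21821 (iv F244416)) (tt N21992 (iv F245445)) (tt N19494 F237793) (tt N21974 (iv F245349)) (tt N21761 (iv F244045)) (tt N21947 (iv F245191)))
theorem Q20316 : ∀ i, i < 20316 → P i := stepQ 20315 Q20315 (allL N20315 (tt N18420 F237794) (tt N19106 F237795) (tt N19160 F237796) (tt N18472 F237797) (tt N19104 F237798) (tt N21966 (iv F245307)) (tt N20315 F237799) (tt N18425 F237800) (tt N21994 D54764) (tt N18419 (iv D53085)))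
theorem Q20317 : ∀ i, i < 20317 → P i := stepQ 20316 Q20316 (allL N20316 (tt N21994 (iv F245447)) (tt N18421 F237801) (tt N19163 F237802) (tt N21995 D54765) (tt N19966 F237803) (tt N21968 (iv F245318)) (tt N20316 F237804) (tt N18428 F237805) (tt N18420 (iv D53086)) (tt N21948 (iv F245198)))
theorem Q20318 : ∀ i, i < 20318 → P i := stepQ 20317 Q20317 (allL N20317 (tt N19978 F237806) (tt N21995 (iv F245454)) (tt N21824 (iv F244433)) (tt N18421 (iv D53087)) (tt N21996 D54766) (tt N21970 (iv F245326)) (tt N20317 F237807) (tt N18432 F237808) (tt N18474 F237809) (tt N21949 (iv F245203)))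
theorem Q20319 : ∀ i, i < 20319 → P i := stepQ 20318 Q20318 (allL N20318 (tt N18883 F237810) (tt N19168 F237811) (tt N19067 F237812) (tt N18448 F237813) (tt N21971 (iv F245333)) (tt N20318 F237814) (tt N18433 F237815) (tt N18422 (iv D53088)) (tt N19946 F237816) (tt N21997 D54767))
theorem Q20320 : ∀ i, i < 20320 → P i := stepQ 20319 Q20319 (allL N20319 (tt N18893 F237817) (tt N19169 F237818) (tt N19074 F237819) (tt N18449 F237820) (tt N21972 (iv F245340)) (tt N20319 F237821) (tt N18423 F237822) (tt N21997 (iv F245469)) (tt N21998 D54768) (tt N18422 (iv D53089)))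
theorem Q20321 : ∀ i, i < 20321 → P i := stepQ 20320 Q20320 (allL N20320 (tt N19711 F237823) (tt N19170 F237824) (tt N19807 F237825) (tt N21999 D54769) (tt N21973 (iv F245345)) (tt N18424 F237826) (tt N21998 (iv F245474)) (tt N18435 F237827) (tt N18423 (iv D53090)) (tt N21951 (iv F245216)))
theorem Q20322 : ∀ i, i < 20322 → P i := stepQ 20321 Q20321 (allL N20321 (tt N19955 F237828) (tt N19171 F237829) (tt N22000 D54770) (tt N18424 (iv D53091)) (tt N21827 (iv F244449)) (tt N21999 (iv F245477)) (tt N20321 F237830) (tt N18436 F237831) (tt N18451 F237832) (tt N21952 (iv F245222)))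
theorem Q20323 : ∀ i, i < 20323 → P i := stepQ 20322 Q20322 (allL N20322 (tt N18428 F237833) (tt N19114 F237834) (tt N19172 F237835) (tt N22001 D54771) (tt N19111 F237836) (tt N21977 (iv F245367)) (tt N18437 F237837) (tt N21994 (iv F245452)) (tt N18425 (iv D53092)) (tt N19175 F237838))
theorem Q20324 : ∀ i, i < 20324 → P i := stepQ 20323 Q20323 (allL N20323 (tt N19096 F237839) (tt N18430 F237840) (tt N19174 F237841) (tt N19249 F237842) (tt N21980 (iv F245389)) (tt N18427 F237843) (tt N19827 F237844) (tt N19805 F237845) (tt N22002 D54772) (tt N18426 (iv D53093)))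
theorem Q20325 : ∀ i, i < 20325 → P i := stepQ 20324 Q20324 (allL N20324 (tt N19111 F237846) (tt N18431 F237847) (tt N19175 F237848) (tt N19804 F237849) (tt N18428 F237850) (tt N22002 (iv F245496)) (tt N18438 F237851) (tt N19966 F237852) (tt N18427 (iv D53094)) (tt N19172 F237853))
theorem Q20326 : ∀ i, i < 20326 → P i := stepQ 20325 Q20325 (allL N20325 (tt N22001 (iv F245485)) (tt N18432 F237854) (tt N21903 (iv F244939)) (tt N18428 (iv D53095)) (tt N22003 D54773) (tt N21982 (iv F245398)) (tt N18439 F237855) (tt N21995 (iv F245456)) (tt N18476 F237856) (tt N21953 (iv F245229)))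
theorem Q20327 : ∀ i, i < 20327 → P i := stepQ 20326 Q20326 (allL N20326 (tt N19212 F237857) (tt N19252 F237858) (tt N18433 F237859) (tt N19064 F237860) (tt N21985 (iv F245417)) (tt N18440 F237861) (tt N19067 F237862) (tt N18429 (iv D53096)) (tt N19250 F237863) (tt N22004 D54774))
theorem Q20328 : ∀ i, i < 20328 → P i := stepQ 20327 Q20327 (allL N20327 (tt N19223 F237864) (tt N19827 F237865) (tt N18434 F237866) (tt N19221 F237867) (tt N21986 (iv F245425)) (tt N18441 F237868) (tt N18430 F237869) (tt N22004 (iv F245513)) (tt N22005 D54775) (tt N18429 (iv D53097)))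
theorem Q20329 : ∀ i, i < 20329 → P i := stepQ 20328 Q20328 (allL N20328 (tt N19885 F237870) (tt N22002 (iv F245493)) (tt N18435 F237871) (tt N19879 F237872) (tt N21987 (iv F245430)) (tt N18431 F237873) (tt N22005 (iv F245519)) (tt N19807 F237874) (tt N18430 (iv D53098)) (tt N21954 (iv F245237)))
theorem Q20330 : ∀ i, i < 20330 → P i := stepQ 20329 Q20329 (allL N20329 (tt N19914 F237875) (tt N22003 (iv F245501)) (tt N21831 (iv F244474)) (tt N19911 F237876) (tt N18432 (iv D53099)) (tt N22006 D54776) (tt N18443 F237877) (tt N21996 (iv F245461)) (tt N18477 F237878) (tt N21955 (iv F245243)))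
theorem Q20331 : ∀ i, i < 20331 → P i := stepQ 20330 Q20330 (allL N20330 (tt N21899 (iv F244912)) (tt N19182 F237879) (tt N22004 (iv F245509)) (tt N18452 F237880) (tt N21990 (iv F245437)) (tt N18444 F237881) (tt N21997 (iv F245468)) (tt N18434 F237882) (tt N22007 D54777) (tt N18433 (iv D53100)))
theorem Q20332 : ∀ i, i < 20332 → P i := stepQ 20331 Q20331 (allL N20331 (tt N21900 (iv F244919)) (tt N19183 F237883) (tt N22005 (iv F245516)) (tt N22008 D54778) (tt N21991 (iv F245441)) (tt N18445 F237884) (tt N18435 F237885) (tt N22007 (iv F245526)) (tt N18434 (iv D53101)) (tt N21957 (iv F245256)))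
theorem Q20333 : ∀ i, i < 20333 → P i := stepQ 20332 Q20332 (allL N20332 (tt N21901 (iv F244925)) (tt N19184 F237886) (tt N22009 D54779) (tt N18435 (iv D53102)) (tt N22010 D54780) (tt N18436 F237887) (tt N22008 (iv F245529)) (tt N21999 (iv F245478)) (tt N18454 F237888) (tt N21958 (iv F245260)))
theorem Q20334 : ∀ i, i < 20334 → P i := stepQ 20333 Q20333 (allL N20333 (tt N19510 F237889) (tt N22011 D54781) (tt N18436 (iv D53103)) (tt N19506 F237890) (tt N21833 (iv F244483)) (tt N22009 (iv F245533)) (tt N18447 F237891) (tt N22000 (iv F245483)) (tt N18455 F237892) (tt N21959 (iv F245265)))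
theorem Q20335 : ∀ i, i < 20335 → P i := stepQ 20334 Q20334 (allL N20334 (tt N18439 F237893) (tt N19122 F237894) (tt N18446 F237895) (tt N18437 (iv D53104)) (tt N19350 F237896) (tt N18447 F237897) (tt N22001 (iv F245489)) (tt N20334 F237898) (tt N18458 F237899) (tt N19189 F237900))
theorem Q20336 : ∀ i, i < 20336 → P i := stepQ 20335 Q20335 (allL N20335 (tt N19350 F237901) (tt N18443 F237902) (tt N18980 F237903) (tt N19349 F237904) (tt N18439 (iv D53105)) (tt N18981 F237905) (tt N22003 (iv F245504)) (tt N20335 F237906) (tt N18478 F237907) (tt N19525 F237908))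
theorem Q20337 : ∀ i, i < 20337 → P i := stepQ 20336 Q20336 (allL N20336 (tt N19230 F237909) (tt N19842 F237910) (tt N18444 F237911) (tt N19229 F237912) (tt N19523 F237913) (tt N22004 (iv F245511)) (tt N20336 F237914) (tt N18441 F237915) (tt N22012 D54782) (tt N18440 (iv D53106)))
theorem Q20338 : ∀ i, i < 20338 → P i := stepQ 20337 Q20337 (allL N20337 (tt N19176 F237916) (tt N19846 F237917) (tt N18445 F237918) (tt N19172 F237919) (tt N19524 F237920) (tt N22005 (iv F245518)) (tt N18442 F237921) (tt N22012 (iv F245549)) (tt N18441 (iv D53107)) (tt N19804 F237922))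
theorem Q20339 : ∀ i, i < 20339 → P i := stepQ 20338 Q20338 (allL N20338 (tt N19923 F237923) (tt N18981 F237924) (tt N21836 (iv F244504)) (tt N19461 F237925) (tt N19198 F237926) (tt N18443 (iv D53108)) (tt N22013 D54783) (tt N20338 F237927) (tt N18479 F237928) (tt N19522 F237929))
theorem Q20340 : ∀ i, i < 20340 → P i := stepQ 20339 Q20339 (allL N20339 (tt N21902 (iv F244930)) (tt N19195 F237930) (tt N22012 (iv F245545)) (tt N22014 D54784) (tt N19526 F237931) (tt N22007 (iv F245525)) (tt N20339 F237932) (tt N18445 F237933) (tt N18444 (iv D53109)) (tt N21960 (iv F245273)))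
theorem Q20341 : ∀ i, i < 20341 → P i := stepQ 20340 Q20340 (allL N20340 (tt N21903 (iv F244937)) (tt N19196 F237934) (tt N22001 (iv F245487)) (tt N18445 (iv D53110)) (tt N21874 (iv F244752)) (tt N22008 (iv F245528)) (tt N18446 F237935) (tt N22014 (iv F245561)) (tt N18457 F237936) (tt N21961 (iv F245280)))
theorem Q20342 : ∀ i, i < 20342 → P i := stepQ 20341 Q20341 (allL N20341 (tt N19404 F237937) (tt N18447 (iv D53111)) (tt N19198 F237938) (tt N19121 F237939) (tt N21836 (iv F244506)) (tt N19122 F237940) (tt N22011 (iv F245540)) (tt N20341 F237941) (tt N18459 F237942) (tt N19192 F237943))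
theorem Q20343 : ∀ i, i < 20343 → P i := stepQ 20342 Q20342 (allL N20342 (tt N18884 F237944) (tt N19199 F237945) (tt N18783 F237946) (tt N21997 (iv F245466)) (tt N18782 F237947) (tt N20342 F237948) (tt N18452 F237949) (tt N18449 F237950) (tt N22015 D54785) (tt N18448 (iv D53112)))
theorem Q20344 : ∀ i, i < 20344 → P i := stepQ 20343 Q20343 (allL N20343 (tt N18894 F237951) (tt N19200 F237952) (tt N18787 F237953) (tt N22016 D54786) (tt N18786 F237954) (tt N20343 F237955) (tt N18450 F237956) (tt N22015 (iv F245569)) (tt N18449 (iv D53113)) (tt N20343 F237957))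
theorem Q20345 : ∀ i, i < 20345 → P i := stepQ 20344 Q20344 (allL N20344 (tt N19712 F237958) (tt N19201 F237959) (tt N22017 D54787) (tt N18450 (iv D53114)) (tt N22018 D54788) (tt N18451 F237960) (tt N22016 (iv F245575)) (tt N18454 F237961) (tt N21999 (iv F245479)) (tt N20344 F237962))
theorem Q20346 : ∀ i, i < 20346 → P i := stepQ 20345 Q20345 (allL N20345 (tt N19543 F237963) (tt N22019 D54789) (tt N18451 (iv D53115)) (tt N19542 F237964) (tt N21839 (iv F244526)) (tt N22017 (iv F245579)) (tt N20345 F237965) (tt N18455 F237966) (tt N22000 (iv F245484)) (tt N20345 F237967))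
theorem Q20347 : ∀ i, i < 20347 → P i := stepQ 20346 Q20346 (allL N20346 (tt N21904 (iv F244944)) (tt N19203 F237968) (tt N21702 (iv F243610)) (tt N22020 D54790) (tt N19956 F237969) (tt N18456 F237970) (tt N22015 (iv F245568)) (tt N18453 F237971) (tt N18452 (iv D53116)) (tt N20346 F237972))
theorem Q20348 : ∀ i, i < 20348 → P i := stepQ 20347 Q20347 (allL N20347 (tt N21905 (iv F244952)) (tt N19204 F237973) (tt N22021 D54791) (tt N18453 (iv D53117)) (tt N22022 D54792) (tt N18457 F237974) (tt N18454 F237975) (tt N22020 (iv F245597)) (tt N22008 (iv F245530)) (tt N20347 F237976))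
theorem Q20349 : ∀ i, i < 20349 → P i := stepQ 20348 Q20348 (allL N20348 (tt N19537 F237977) (tt N22023 D54793) (tt N18454 (iv D53118)) (tt N19533 F237978) (tt N22024 D54794) (tt N18455 F237979) (tt N22021 (iv F245603)) (tt N22017 (iv F245581)) (tt N22009 (iv F245534)) (tt N20348 F237980))
theorem Q20350 : ∀ i, i < 20350 → P i := stepQ 20349 Q20349 (allL N20349 (tt N21906 (iv F244958)) (tt N19206 F237981) (tt N22024 (iv F245615)) (tt N21772 (iv F244112)) (tt N18454 (iv D53119)) (tt N21841 (iv F244537)) (tt N22022 (iv F245606)) (tt N22018 (iv F245586)) (tt N22010 (iv F245536)) (tt N20349 F237982))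
theorem Q20351 : ∀ i, i < 20351 → P i := stepQ 20350 Q20350 (allL N20350 (tt N19426 F237983) (tt N18455 (iv D53120)) (tt N19207 F237984) (tt N19425 F237985) (tt N21842 (iv F244543)) (tt N22023 (iv F245611)) (tt N18459 F237986) (tt N22019 (iv F245593)) (tt N22011 (iv F245541)) (tt N20350 F237987))
theorem Q20352 : ∀ i, i < 20352 → P i := stepQ 20351 Q20351 (allL N20351 (tt N21907 (iv F244964)) (tt N19208 F237988) (tt N22025 D54795) (tt N18456 (iv D53121)) (tt N19953 F237989) (tt N22020 (iv F245596)) (tt N20351 F237990) (tt N18457 F237991) (tt N22014 (iv F245562)) (tt N20351 F237992))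
theorem Q20353 : ∀ i, i < 20353 → P i := stepQ 20352 Q20352 (allL N20352 (tt N18476 F237993) (tt N19359 F237994) (tt N18457 (iv D53122)) (tt N18475 F237995) (tt N19358 F237996) (tt N22021 (iv F245602)) (tt N18458 F237997) (tt N22025 (iv F245622)) (tt N22001 (iv F245490)) (tt N20352 F237998))
theorem Q20354 : ∀ i, i < 20354 → P i := stepQ 20353 Q20353 (allL N20353 (tt N18461 F237999) (tt N19969 F238000) (tt N18480 F238001) (tt N21966 (iv F245306)) (tt N19351 F238002) (tt N18472 F238003) (tt N19934 F238004) (tt N18464 F238005) (tt N22026 D54796) (tt N18460 (iv D53123)))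
theorem Q20355 : ∀ i, i < 20355 → P i := stepQ 20354 Q20354 (allL N20354 (tt N22026 (iv F245624)) (tt N18462 F238006) (tt N18481 F238007) (tt N22027 D54797) (tt N19352 F238008) (tt N18473 F238009) (tt N21846 (iv F244573)) (tt N18467 F238010) (tt N18461 (iv D53124)) (tt N20354 F238011))
theorem Q20356 : ∀ i, i < 20356 → P i := stepQ 20355 Q20355 (allL N20355 (tt N19980 F238012) (tt N22027 (iv F245632)) (tt N21843 (iv F244549)) (tt N18462 (iv D53125)) (tt N22028 D54798) (tt N18474 F238013) (tt N21850 (iv F244597)) (tt N18471 F238014) (tt N21970 (iv F245328)) (tt N20355 F238015))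
theorem Q20357 : ∀ i, i < 20357 → P i := stepQ 20356 Q20356 (allL N20356 (tt N18465 F238016) (tt N19900 F238017) (tt N19075 F238018) (tt N18463 (iv D53126)) (tt N21975 (iv F245353)) (tt N19343 F238019) (tt N19077 F238020) (tt N19337 F238021) (tt N19511 (iv F238022)) (tt N22029 D54799))
theorem Q20358 : ∀ i, i < 20358 → P i := stepQ 20357 Q20357 (allL N20357 (tt N18466 F238023) (tt N19968 F238024) (tt N18483 F238025) (tt N22029 (iv F245643)) (tt N18464 F238026) (tt N19354 F238027) (tt N19239 F238028) (tt N19351 F238029) (tt N22030 D54800) (tt N18463 (iv D53127)))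
theorem Q20359 : ∀ i, i < 20359 → P i := stepQ 20358 Q20358 (allL N20358 (tt N18467 F238030) (tt N19965 F238031) (tt N18484 F238032) (tt N22021 (iv F245601)) (tt N22030 (iv F245650)) (tt N18475 F238033) (tt N19533 F238034) (tt N22026 (iv F245630)) (tt N18464 (iv D53128)) (tt N20358 F238035))
theorem Q20360 : ∀ i, i < 20360 → P i := stepQ 20359 Q20359 (allL N20359 (tt N19511 F238036) (tt N18468 F238037) (tt N18908 F238038) (tt N20359 F238039) (tt N21978 (iv F245374)) (tt N18913 F238040) (tt N19534 F238041) (tt N18910 F238042) (tt N18465 (iv D53129)) (tt N22031 D54801))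
theorem Q20361 : ∀ i, i < 20361 → P i := stepQ 20360 Q20360 (allL N20360 (tt N22029 (iv F245640)) (tt N18469 F238043) (tt N19743 F238044) (tt N18466 F238045) (tt N21979 (iv F245381)) (tt N19344 F238046) (tt N19535 F238047) (tt N19339 F238048) (tt N22032 D54802) (tt N18465 (iv D53130)))
theorem Q20362 : ∀ i, i < 20362 → P i := stepQ 20361 Q20361 (allL N20361 (tt N22030 (iv F245647)) (tt N18470 F238049) (tt N18485 F238050) (tt N22033 D54803) (tt N18467 F238051) (tt N19355 F238052) (tt N19536 F238053) (tt N19352 F238054) (tt N18466 (iv D53131)) (tt N20361 F238055))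
theorem Q20363 : ∀ i, i < 20363 → P i := stepQ 20362 Q20362 (allL N20362 (tt N22021 (iv F245599)) (tt N18471 F238056) (tt N21905 (iv F244954)) (tt N18467 (iv D53132)) (tt N22034 D54804) (tt N18476 F238057) (tt N19537 F238058) (tt N22027 (iv F245634)) (tt N21982 (iv F245400)) (tt N20362 F238059))
theorem Q20364 : ∀ i, i < 20364 → P i := stepQ 20363 Q20363 (allL N20363 (tt N19431 F238060) (tt N22031 (iv F245656)) (tt N19331 F238061) (tt N20363 F238062) (tt N21983 (iv F245403)) (tt N19231 F238063) (tt N19538 F238064) (tt N19232 F238065) (tt N22035 D54805) (tt N18468 (iv D53133)))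
theorem Q20365 : ∀ i, i < 20365 → P i := stepQ 20364 Q20364 (allL N20364 (tt N19905 F238066) (tt N22032 (iv F245662)) (tt N19336 F238067) (tt N22036 D54806) (tt N21984 (iv F245409)) (tt N19345 F238068) (tt N19539 F238069) (tt N19341 F238070) (tt N18469 (iv D53134)) (tt N22035 (iv F245681)))
theorem Q20366 : ∀ i, i < 20366 → P i := stepQ 20365 Q20365 (allL N20365 (tt N19986 F238071) (tt N22033 (iv F245667)) (tt N19532 F238072) (tt N18470 (iv D53135)) (tt N22037 D54807) (tt N19356 F238073) (tt N19540 F238074) (tt N19353 F238075) (tt N22036 (iv F245687)) (tt N20365 F238076))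
theorem Q20367 : ∀ i, i < 20367 → P i := stepQ 20366 Q20366 (allL N20366 (tt N21908 (iv F244971)) (tt N22034 (iv F245673)) (tt N21851 (iv F244601)) (tt N22037 (iv F245690)) (tt N18471 (iv D53136)) (tt N22038 D54808) (tt N19541 F238077) (tt N22028 (iv F245638)) (tt N21989 (iv F245435)) (tt N20366 F238078))
theorem Q20368 : ∀ i, i < 20368 → P i := stepQ 20367 Q20367 (allL N20367 (tt N18473 F238079) (tt N19964 F238080) (tt N18487 F238081) (tt N22025 (iv F245619)) (tt N19961 F238082) (tt N22026 (iv F245628)) (tt N20367 F238083) (tt N18475 F238084) (tt N18472 (iv D53137)) (tt N20367 F238085))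
theorem Q20369 : ∀ i, i < 20369 → P i := stepQ 20368 Q20368 (allL N20368 (tt N22025 (iv F245617)) (tt N18474 F238086) (tt N21907 (iv F244966)) (tt N18473 (iv D53138)) (tt N22039 D54809) (tt N22027 (iv F245633)) (tt N20368 F238087) (tt N18476 F238088) (tt N21995 (iv F245457)) (tt N20368 F238089))
theorem Q20370 : ∀ i, i < 20370 → P i := stepQ 20369 Q20369 (allL N20369 (tt N19982 F238090) (tt N22039 (iv F245698)) (tt N21852 (iv F244606)) (tt N19963 F238091) (tt N18474 (iv D53139)) (tt N22040 D54810) (tt N20369 F238092) (tt N18477 F238093) (tt N21996 (iv F245462)) (tt N20369 F238094))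
theorem Q20371 : ∀ i, i < 20371 → P i := stepQ 20370 Q20370 (allL N20370 (tt N19358 F238095) (tt N18477 F238096) (tt N18990 F238097) (tt N19357 F238098) (tt N18476 (iv D53140)) (tt N22041 D54811) (tt N18478 F238099) (tt N22039 (iv F245702)) (tt N22003 (iv F245505)) (tt N20370 F238100))
theorem Q20372 : ∀ i, i < 20372 → P i := stepQ 20371 Q20371 (allL N20371 (tt N19989 F238101) (tt N22041 (iv F245709)) (tt N21853 (iv F244613)) (tt N19987 F238102) (tt N22038 (iv F245695)) (tt N18477 (iv D53141)) (tt N22042 D54812) (tt N22040 (iv F245706)) (tt N22006 (iv F245523)) (tt N20371 F238103))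
theorem Q20373 : ∀ i, i < 20373 → P i := stepQ 20372 Q20372 (allL N20372 (tt N19995 F238104) (tt N18988 F238105) (tt N21842 (iv F244541)) (tt N19994 F238106) (tt N19207 F238107) (tt N22042 (iv F245717)) (tt N18479 (iv D53142)) (tt N20000 (iv F238109)) (tt N22013 (iv F245555)) (tt N20372 F238108))
theorem Q20374 : ∀ i, i < 20374 → P i := stepQ 20373 Q20373 (allL N20373 (tt N18481 F238110) (tt N20373 F238111) (tt N22026 (iv F245626)) (tt N21702 (iv F243611)) (tt N19360 F238112) (tt N18487 F238113) (tt N19936 F238114) (tt N18484 F238115) (tt N18480 (iv D53143)) (tt N20373 F238116))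
theorem Q20375 : ∀ i, i < 20375 → P i := stepQ 20374 Q20374 (allL N20374 (tt N21702 (iv F243608)) (tt N18482 F238117) (tt N21904 (iv F244946)) (tt N18481 (iv D53144)) (tt N18709 F238118) (tt N18488 F238119) (tt N18886 F238120) (tt N18486 F238121) (tt N18708 F238122) (tt N20374 F238123))
theorem Q20376 : ∀ i, i < 20376 → P i := stepQ 20375 Q20375 (allL N20375 (tt N18485 F238124) (tt N20375 F238125) (tt N22030 (iv F245649)) (tt N19721 F238126) (tt N18484 F238127) (tt N19362 F238128) (tt N19240 F238129) (tt N19360 F238130) (tt N18483 (iv D53145)) (tt N20375 F238131))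
theorem Q20377 : ∀ i, i < 20377 → P i := stepQ 20376 Q20376 (allL N20376 (tt N18564 F238132) (tt N18509 F238133) (tt N18574 F238134) (tt N18498 F238135) (tt N18524 F238136) (tt N18541 F238137) (tt N18499 F238138) (tt N18681 F238139) (tt N22043 D54813) (tt N18497 (iv D53146)))
theorem Q20378 : ∀ i, i < 20378 → P i := stepQ 20377 Q20377 (allL N20377 (tt N19272 F238140) (tt N18512 F238141) (tt N19562 F238142) (tt N18537 F238143) (tt N19561 F238144) (tt N19265 F238145) (tt N22043 (iv F245726)) (tt N18611 F238146) (tt N18499 (iv D53147)) (tt N19556 F238147))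
theorem Q20379 : ∀ i, i < 20379 → P i := stepQ 20378 Q20378 (allL N20378 (tt N18515 F238148) (tt N18547 F238149) (tt N18519 F238150) (tt N18501 F238151) (tt N18517 F238152) (tt N18534 F238153) (tt N18504 F238154) (tt N18659 F238155) (tt N22044 D54814) (tt N18500 (iv D53148)))
theorem Q20380 : ∀ i, i < 20380 → P i := stepQ 20379 Q20379 (allL N20379 (tt N18517 F238156) (tt N18583 F238157) (tt N18504 F238158) (tt N20379 F238159) (tt N18515 F238160) (tt N18581 F238161) (tt N18519 F238162) (tt N18620 F238163) (tt N22045 D54815) (tt N18502 (iv D53149)))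
theorem Q20381 : ∀ i, i < 20381 → P i := stepQ 20380 Q20380 (allL N20380 (tt N18519 F238164) (tt N19270 F238165) (tt N18515 F238166) (tt N20380 F238167) (tt N18504 F238168) (tt N19268 F238169) (tt N18517 F238170) (tt N18621 F238171) (tt N22046 D54816) (tt N18503 (iv D53150)))
theorem Q20382 : ∀ i, i < 20382 → P i := stepQ 20381 Q20381 (allL N20381 (tt N18520 F238172) (tt N19556 F238173) (tt N22045 (iv F245740)) (tt N18546 F238174) (tt N22046 (iv F245749)) (tt N19546 F238175) (tt N22044 (iv F245735)) (tt N18622 F238176) (tt N18504 (iv D53151)) (tt N18512 F238177))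
theorem Q20383 : ∀ i, i < 20383 → P i := stepQ 20382 Q20382 (allL N20382 (tt N18521 F238178) (tt N18541 F238179) (tt N18526 F238180) (tt N18507 F238181) (tt N18536 F238182) (tt N18509 F238183) (tt N18533 F238184) (tt N18684 F238185) (tt N22047 D54817) (tt N18506 (iv D53152)))
theorem Q20384 : ∀ i, i < 20384 → P i := stepQ 20383 Q20383 (allL N20383 (tt N18523 F238186) (tt N22043 (iv F245721)) (tt N18527 F238187) (tt N18552 F238188) (tt N18525 F238189) (tt N22047 (iv F245759)) (tt N18512 F238190) (tt N18685 F238191) (tt N18509 (iv D53153)) (tt N22044 (iv F245737)))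
theorem Q20385 : ∀ i, i < 20385 → P i := stepQ 20384 Q20384 (allL N20384 (tt N18525 F238192) (tt N21704 (iv F243626)) (tt N18512 F238193) (tt N22048 D54818) (tt N18523 F238194) (tt N19548 F238195) (tt N18527 F238196) (tt N18635 F238197) (tt N18510 (iv D53154)) (tt N22045 (iv F245745)))
theorem Q20386 : ∀ i, i < 20386 → P i := stepQ 20385 Q20385 (allL N20385 (tt N18527 F238198) (tt N19561 F238199) (tt N18523 F238200) (tt N22049 D54819) (tt N18512 F238201) (tt N19563 F238202) (tt N18525 F238203) (tt N18636 F238204) (tt N18511 (iv D53155)) (tt N22046 (iv F245753)))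
theorem Q20387 : ∀ i, i < 20387 → P i := stepQ 20386 Q20386 (allL N20386 (tt N18529 F238205) (tt N19571 F238206) (tt N18592 F238207) (tt N18513 (iv D53156)) (tt N18559 F238208) (tt N19572 F238209) (tt N18531 F238210) (tt N18639 F238211) (tt N22049 (iv F245778)) (tt N20386 F238212))
theorem Q20388 : ∀ i, i < 20388 → P i := stepQ 20387 Q20387 (allL N20387 (tt N18531 F238213) (tt N19558 F238214) (tt N18563 F238215) (tt N18514 (iv D53157)) (tt N18589 F238216) (tt N19550 F238217) (tt N18529 F238218) (tt N18644 F238219) (tt N22048 (iv F245770)) (tt N20387 F238220))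
theorem Q20389 : ∀ i, i < 20389 → P i := stepQ 20388 Q20388 (allL N20388 (tt N22044 (iv F245729)) (tt N19568 F238221) (tt N22046 (iv F245748)) (tt N18568 F238222) (tt N22045 (iv F245741)) (tt N19566 F238223) (tt N18520 F238224) (tt N19696 F238225) (tt N18515 (iv D53158)) (tt N18523 F238226))
theorem Q20390 : ∀ i, i < 20390 → P i := stepQ 20389 Q20389 (allL N20389 (tt N18574 F238227) (tt N18517 F238228) (tt N18564 F238229) (tt N20389 F238230) (tt N18547 F238231) (tt N18566 F238232) (tt N19270 F238233) (tt N18658 F238234) (tt N22050 D54820) (tt N18516 (iv D53159)))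
theorem Q20391 : ∀ i, i < 20391 → P i := stepQ 20390 Q20390 (allL N20390 (tt N22045 (iv F245738)) (tt N22050 (iv F245780)) (tt N18520 F238235) (tt N22051 D54821) (tt N22044 (iv F245733)) (tt N19551 F238236) (tt N22046 (iv F245751)) (tt N18660 F238237) (tt N18517 (iv D53160)) (tt N18525 F238238))
theorem Q20392 : ∀ i, i < 20392 → P i := stepQ 20391 Q20391 (allL N20391 (tt N19268 F238239) (tt N18545 F238240) (tt N18534 F238241) (tt N20391 F238242) (tt N18533 F238243) (tt N18519 F238244) (tt N18536 F238245) (tt N18662 F238246) (tt N22052 D54822) (tt N18518 (iv D53161)))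
theorem Q20393 : ∀ i, i < 20393 → P i := stepQ 20392 Q20392 (allL N20392 (tt N22046 (iv F245746)) (tt N21703 (iv F243618)) (tt N22044 (iv F245731)) (tt N22053 D54823) (tt N18520 F238247) (tt N22052 (iv F245796)) (tt N22045 (iv F245743)) (tt N18663 F238248) (tt N18519 (iv D53162)) (tt N18527 F238249))
theorem Q20394 : ∀ i, i < 20394 → P i := stepQ 20393 Q20393 (allL N20393 (tt N22047 (iv F245754)) (tt N19267 F238250) (tt N19563 F238251) (tt N18575 F238252) (tt N19559 F238253) (tt N18523 F238254) (tt N19269 F238255) (tt N19653 F238256) (tt N18521 (iv D53163)) (tt N19566 F238257))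
theorem Q20395 : ∀ i, i < 20395 → P i := stepQ 20394 Q20394 (allL N20394 (tt N18685 F238258) (tt N19279 F238259) (tt N18636 F238260) (tt N18576 F238261) (tt N18635 F238262) (tt N19653 F238263) (tt N18674 F238264) (tt N18523 F238265) (tt N18522 (iv D53164)) (tt N19696 F238266))
theorem Q20396 : ∀ i, i < 20396 → P i := stepQ 20395 Q20395 (allL N20395 (tt N21709 (iv F243666)) (tt N18525 F238267) (tt N18575 F238268) (tt N22054 D54824) (tt N22043 (iv F245724)) (tt N18578 F238269) (tt N19561 F238270) (tt N18682 F238271) (tt N18524 (iv D53165)) (tt N22050 (iv F245786)))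
theorem Q20397 : ∀ i, i < 20397 → P i := stepQ 20396 Q20396 (allL N20396 (tt N22048 (iv F245763)) (tt N22054 (iv F245805)) (tt N18585 F238272) (tt N18525 (iv D53166)) (tt N22055 D54825) (tt N19553 F238273) (tt N22049 (iv F245776)) (tt N18686 F238274) (tt N18531 F238275) (tt N22051 (iv F245791)))
theorem Q20398 : ∀ i, i < 20398 → P i := stepQ 20397 Q20397 (allL N20397 (tt N19563 F238276) (tt N18556 F238277) (tt N22047 (iv F245756)) (tt N22056 D54826) (tt N18537 F238278) (tt N18527 F238279) (tt N19565 F238280) (tt N18688 F238281) (tt N18526 (iv D53167)) (tt N22052 (iv F245799)))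
theorem Q20399 : ∀ i, i < 20399 → P i := stepQ 20398 Q20398 (allL N20398 (tt N22049 (iv F245771)) (tt N21706 (iv F243644)) (tt N22057 D54827) (tt N18527 (iv D53168)) (tt N18588 F238282) (tt N22056 (iv F245823)) (tt N22048 (iv F245768)) (tt N18689 F238283) (tt N18529 F238284) (tt N22053 (iv F245803)))
theorem Q20400 : ∀ i, i < 20400 → P i := stepQ 20399 Q20399 (allL N20399 (tt N19572 F238285) (tt N18559 F238286) (tt N19574 F238287) (tt N18528 (iv D53169)) (tt N19571 F238288) (tt N18529 F238289) (tt N19573 F238290) (tt N18694 F238291) (tt N22056 (iv F245826)) (tt N20399 F238292))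
theorem Q20401 : ∀ i, i < 20401 → P i := stepQ 20400 Q20400 (allL N20400 (tt N18592 F238293) (tt N19575 (iv F238300)) (tt N18529 (iv D53170)) (tt N18561 F238294) (tt N18591 F238295) (tt N19574 F238296) (tt N18563 F238297) (tt N18695 F238298) (tt N22057 (iv F245833)) (tt N20400 F238299))
theorem Q20402 : ∀ i, i < 20402 → P i := stepQ 20401 Q20401 (allL N20401 (tt N19574 F238301) (tt N18531 F238302) (tt N19572 F238303) (tt N18530 (iv D53171)) (tt N19573 F238304) (tt N18592 F238305) (tt N19571 F238306) (tt N18705 F238307) (tt N22054 (iv F245811)) (tt N20401 F238308))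
theorem Q20403 : ∀ i, i < 20403 → P i := stepQ 20402 Q20402 (allL N20402 (tt N18589 F238309) (tt N19573 F238310) (tt N18595 F238311) (tt N18558 F238312) (tt N18531 (iv D53172)) (tt N21712 (iv F243695)) (tt N18559 F238313) (tt N18706 F238314) (tt N22055 (iv F245818)) (tt N20402 F238315))
theorem Q20404 : ∀ i, i < 20404 → P i := stepQ 20403 Q20403 (allL N20403 (tt N19269 F238316) (tt N18546 F238317) (tt N19565 F238318) (tt N19556 F238319) (tt N22052 (iv F245795)) (tt N19547 F238320) (tt N22047 (iv F245760)) (tt N18715 F238321) (tt N18533 (iv D53173)) (tt N18537 F238322))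
theorem Q20405 : ∀ i, i < 20405 → P i := stepQ 20404 Q20404 (allL N20404 (tt N19566 F238323) (tt N18552 F238324) (tt N22052 (iv F245794)) (tt N22043 (iv F245723)) (tt N19565 F238325) (tt N22044 (iv F245734)) (tt N18537 F238326) (tt N19694 F238327) (tt N18534 (iv D53174)) (tt N22047 (iv F245762)))
theorem Q20406 : ∀ i, i < 20406 → P i := stepQ 20405 Q20405 (allL N20405 (tt N18567 F238328) (tt N18536 F238329) (tt N18553 F238330) (tt N20405 F238331) (tt N18541 F238332) (tt N18577 F238333) (tt N18545 F238334) (tt N18725 F238335) (tt N22058 D54828) (tt N18535 (iv D53175)))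
theorem Q20407 : ∀ i, i < 20407 → P i := stepQ 20406 Q20406 (allL N20406 (tt N19559 F238336) (tt N22058 (iv F245836)) (tt N18537 F238337) (tt N22059 D54829) (tt N22047 (iv F245758)) (tt N19552 F238338) (tt N22052 (iv F245797)) (tt N18726 F238339) (tt N18536 (iv D53176)) (tt N19565 F238340))
theorem Q20408 : ∀ i, i < 20408 → P i := stepQ 20407 Q20407 (allL N20407 (tt N18565 F238341) (tt N18684 F238342) (tt N18770 F238343) (tt N18539 F238344) (tt N18725 F238345) (tt N18681 F238346) (tt N18736 F238347) (tt N18541 F238348) (tt N22060 D54830) (tt N18538 (iv D53177)))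
theorem Q20409 : ∀ i, i < 20409 → P i := stepQ 20408 Q20408 (allL N20408 (tt N18566 F238349) (tt N18554 F238350) (tt N18541 F238351) (tt N20408 F238352) (tt N18553 F238353) (tt N18574 F238354) (tt N18544 F238355) (tt N18770 F238356) (tt N22061 D54831) (tt N18540 (iv D53178)))
theorem Q20410 : ∀ i, i < 20410 → P i := stepQ 20409 Q20409 (allL N20409 (tt N18568 F238357) (tt N22047 (iv F245755)) (tt N22061 (iv F245860)) (tt N22044 (iv F245732)) (tt N22058 (iv F245838)) (tt N22043 (iv F245725)) (tt N18546 F238358) (tt N22060 (iv F245856)) (tt N18541 (iv D53179)) (tt N18552 F238359))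
theorem Q20411 : ∀ i, i < 20411 → P i := stepQ 20410 Q20410 (allL N20410 (tt N18577 F238360) (tt N18544 F238361) (tt N18551 F238362) (tt N20410 F238363) (tt N18549 F238364) (tt N18567 F238365) (tt N18554 F238366) (tt N18743 F238367) (tt N22062 D54832) (tt N18542 (iv D53180)))
theorem Q20412 : ∀ i, i < 20412 → P i := stepQ 20411 Q20411 (allL N20411 (tt N18570 F238368) (tt N18549 F238369) (tt N18545 F238370) (tt N18560 F238371) (tt N18544 F238372) (tt N18586 F238373) (tt N18553 F238374) (tt N18744 F238375) (tt N22063 D54833) (tt N18543 (iv D53181)))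
theorem Q20413 : ∀ i, i < 20413 → P i := stepQ 20412 Q20412 (allL N20412 (tt N18571 F238376) (tt N22062 (iv F245867)) (tt N18546 F238377) (tt N22064 D54834) (tt N22063 (iv F245878)) (tt N19555 F238378) (tt N22061 (iv F245863)) (tt N18745 F238379) (tt N18544 (iv D53182)) (tt N18555 F238380))
theorem Q20414 : ∀ i, i < 20414 → P i := stepQ 20413 Q20413 (allL N20413 (tt N18573 F238381) (tt N22052 (iv F245793)) (tt N22063 (iv F245876)) (tt N22065 D54835) (tt N18546 F238382) (tt N21703 (iv F243621)) (tt N22058 (iv F245840)) (tt N18746 F238383) (tt N18545 (iv D53183)) (tt N18556 F238384))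
theorem Q20415 : ∀ i, i < 20415 → P i := stepQ 20414 Q20414 (allL N20414 (tt N18575 F238385) (tt N22044 (iv F245730)) (tt N21709 (iv F243668)) (tt N22047 (iv F245757)) (tt N22050 (iv F245782)) (tt N18552 F238386) (tt N19556 F238387) (tt N21737 (iv F243873)) (tt N18547 (iv D53184)) (tt N22043 (iv F245728)))
theorem Q20416 : ∀ i, i < 20416 → P i := stepQ 20415 Q20415 (allL N20415 (tt N18576 F238388) (tt N19694 F238389) (tt N19613 F238390) (tt N18685 F238391) (tt N19639 F238392) (tt N21737 (iv F243872)) (tt N18761 F238393) (tt N18552 F238394) (tt N18548 (iv D53185)) (tt N22060 (iv F245857)))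
theorem Q20417 : ∀ i, i < 20417 → P i := stepQ 20416 Q20416 (allL N20416 (tt N18578 F238395) (tt N22063 (iv F245875)) (tt N18552 F238396) (tt N22057 (iv F245828)) (tt N22062 (iv F245869)) (tt N21709 (iv F243671)) (tt N18555 F238397) (tt N19613 F238398) (tt N18549 (iv D53186)) (tt N22061 (iv F245865)))
theorem Q20418 : ∀ i, i < 20418 → P i := stepQ 20417 Q20417 (allL N20417 (tt N18553 F238399) (tt N18580 F238400) (tt N18567 F238401) (tt N18557 F238402) (tt N18566 F238403) (tt N18551 F238404) (tt N18570 F238405) (tt N18769 F238406) (tt N22066 D54836) (tt N18550 (iv D53187)))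
theorem Q20419 : ∀ i, i < 20419 → P i := stepQ 20418 Q20418 (allL N20418 (tt N18579 F238407) (tt N19565 F238408) (tt N22062 (iv F245868)) (tt N22055 (iv F245815)) (tt N18552 F238409) (tt N22066 (iv F245896)) (tt N18556 F238410) (tt N19639 F238411) (tt N18551 (iv D53188)) (tt N22058 (iv F245842)))
theorem Q20420 : ∀ i, i < 20420 → P i := stepQ 20419 Q20419 (allL N20419 (tt N22066 (iv F245892)) (tt N18555 F238412) (tt N22058 (iv F245837)) (tt N22067 D54837) (tt N22061 (iv F245861)) (tt N18579 F238413) (tt N22063 (iv F245880)) (tt N18771 F238414) (tt N18553 (iv D53189)) (tt N22062 (iv F245873)))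
theorem Q20421 : ∀ i, i < 20421 → P i := stepQ 20420 Q20420 (allL N20420 (tt N18584 F238415) (tt N22061 (iv F245859)) (tt N18556 F238416) (tt N22068 D54838) (tt N18555 F238417) (tt N21705 (iv F243638)) (tt N22062 (iv F245871)) (tt N18772 F238418) (tt N18554 (iv D53190)) (tt N22063 (iv F245882)))
theorem Q20422 : ∀ i, i < 20422 → P i := stepQ 20421 Q20421 (allL N20421 (tt N18585 F238419) (tt N22067 (iv F245900)) (tt N22048 (iv F245765)) (tt N18555 (iv D53191)) (tt N22069 D54839) (tt N19557 F238420) (tt N22057 (iv F245831)) (tt N18773 F238421) (tt N18563 F238422) (tt N22064 (iv F245887)))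
theorem Q20423 : ∀ i, i < 20423 → P i := stepQ 20422 Q20422 (allL N20422 (tt N18588 F238423) (tt N22056 (iv F245820)) (tt N22070 D54840) (tt N18556 (iv D53192)) (tt N22049 (iv F245774)) (tt N21706 (iv F243646)) (tt N22055 (iv F245816)) (tt N18774 F238424) (tt N18559 F238425) (tt N22065 (iv F245891)))
theorem Q20424 : ∀ i, i < 20424 → P i := stepQ 20423 Q20423 (allL N20423 (tt N18562 F238426) (tt N18593 F238427) (tt N20423 F238428) (tt N21712 (iv F243693)) (tt N20423 F238429) (tt N18558 F238430) (tt N19549 F238431) (tt N18793 F238432) (tt N18557 (iv D53193)) (tt N20423 F238433))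
theorem Q20425 : ∀ i, i < 20425 → P i := stepQ 20424 Q20424 (allL N20424 (tt N18591 F238434) (tt N19554 F238435) (tt N18559 (iv D53194)) (tt N20424 F238436) (tt N18592 F238437) (tt N21707 (iv F243654)) (tt N18595 F238438) (tt N18780 F238439) (tt N22070 (iv F245920)) (tt N20424 F238440))
theorem Q20426 : ∀ i, i < 20426 → P i := stepQ 20425 Q20425 (allL N20425 (tt N21712 (iv F243691)) (tt N18563 F238441) (tt N22071 D54841) (tt N18562 (iv D53195)) (tt N22072 D54842) (tt N18589 F238442) (tt N19575 F238443) (tt N18794 F238444) (tt N22067 (iv F245904)) (tt N20425 F238445))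
theorem Q20427 : ∀ i, i < 20427 → P i := stepQ 20426 Q20426 (allL N20426 (tt N18595 F238446) (tt N22072 (iv F245930)) (tt N18589 F238447) (tt N20426 F238448) (tt N18563 (iv D53196)) (tt N22071 (iv F245924)) (tt N18591 F238449) (tt N18795 F238450) (tt N22069 (iv F245914)) (tt N20426 F238451))
theorem Q20428 : ∀ i, i < 20428 → P i := stepQ 20427 Q20427 (allL N20427 (tt N22043 (iv F245720)) (tt N19569 F238452) (tt N22050 (iv F245781)) (tt N19566 F238453) (tt N21709 (iv F243670)) (tt N18568 F238454) (tt N19272 F238455) (tt N19697 F238456) (tt N18564 (iv D53197)) (tt N18575 F238457))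
theorem Q20429 : ∀ i, i < 20429 → P i := stepQ 20428 Q20428 (allL N20428 (tt N22060 (iv F245849)) (tt N19276 F238458) (tt N19599 F238459) (tt N19696 F238460) (tt N19629 F238461) (tt N19697 F238462) (tt N18815 F238463) (tt N18568 F238464) (tt N18565 (iv D53198)) (tt N18576 F238465))
theorem Q20430 : ∀ i, i < 20430 → P i := stepQ 20429 Q20429 (allL N20429 (tt N22061 (iv F245858)) (tt N19551 F238466) (tt N18568 F238467) (tt N22073 D54843) (tt N22066 (iv F245895)) (tt N22050 (iv F245783)) (tt N18571 F238468) (tt N19599 F238469) (tt N18566 (iv D53199)) (tt N18578 F238470))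
theorem Q20431 : ∀ i, i < 20431 → P i := stepQ 20430 Q20430 (allL N20430 (tt N22058 (iv F245835)) (tt N19555 F238471) (tt N22066 (iv F245894)) (tt N22074 D54844) (tt N18568 F238472) (tt N22062 (iv F245870)) (tt N18573 F238473) (tt N19629 F238474) (tt N18567 (iv D53200)) (tt N18579 F238475))
theorem Q20432 : ∀ i, i < 20432 → P i := stepQ 20431 Q20431 (allL N20431 (tt N19552 F238476) (tt N18571 F238477) (tt N19264 F238478) (tt N22075 D54845) (tt N19548 F238479) (tt N19559 F238480) (tt N19551 F238481) (tt N18823 F238482) (tt N18569 (iv D53201)) (tt N18582 F238483))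
theorem Q20433 : ∀ i, i < 20433 → P i := stepQ 20432 Q20432 (allL N20432 (tt N22063 (iv F245874)) (tt N19548 F238484) (tt N18573 F238485) (tt N22076 D54846) (tt N18571 F238486) (tt N21704 (iv F243630)) (tt N22066 (iv F245897)) (tt N18824 F238487) (tt N18570 (iv D53202)) (tt N18584 F238488))
theorem Q20434 : ∀ i, i < 20434 → P i := stepQ 20433 Q20433 (allL N20433 (tt N22064 (iv F245883)) (tt N22075 (iv F245948)) (tt N22051 (iv F245787)) (tt N18571 (iv D53203)) (tt N22077 D54847) (tt N19560 F238489) (tt N22073 (iv F245938)) (tt N18825 F238490) (tt N20433 F238491) (tt N18585 F238492))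
theorem Q20435 : ∀ i, i < 20435 → P i := stepQ 20434 Q20434 (allL N20434 (tt N21703 (iv F243617)) (tt N19562 F238493) (tt N21704 (iv F243627)) (tt N22078 D54848) (tt N19266 F238494) (tt N18573 F238495) (tt N21705 (iv F243639)) (tt N18827 F238496) (tt N18572 (iv D53204)) (tt N18587 F238497))
theorem Q20436 : ∀ i, i < 20436 → P i := stepQ 20435 Q20435 (allL N20435 (tt N22065 (iv F245888)) (tt N21708 (iv F243659)) (tt N22079 D54849) (tt N18573 (iv D53205)) (tt N22053 (iv F245800)) (tt N22078 (iv F245966)) (tt N22074 (iv F245943)) (tt N18828 F238498) (tt N20435 F238499) (tt N18588 F238500))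
theorem Q20437 : ∀ i, i < 20437 → P i := stepQ 20436 Q20436 (allL N20436 (tt N22050 (iv F245779)) (tt N21705 (iv F243635)) (tt N22043 (iv F245722)) (tt N22080 D54850) (tt N18575 F238501) (tt N22061 (iv F245862)) (tt N19562 F238502) (tt N21738 (iv F243880)) (tt N18574 (iv D53206)) (tt N21709 (iv F243674)))
theorem Q20438 : ∀ i, i < 20438 → P i := stepQ 20437 Q20437 (allL N20437 (tt N22062 (iv F245866)) (tt N19552 F238503) (tt N18579 F238504) (tt N22081 D54851) (tt N18578 F238505) (tt N22058 (iv F245839)) (tt N18584 F238506) (tt N19614 F238507) (tt N18577 (iv D53207)) (tt N22066 (iv F245899)))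
theorem Q20439 : ∀ i, i < 20439 → P i := stepQ 20438 Q20438 (allL N20438 (tt N22057 (iv F245827)) (tt N19553 F238508) (tt N22049 (iv F245773)) (tt N18578 (iv D53208)) (tt N22070 (iv F245917)) (tt N22054 (iv F245808)) (tt N18585 F238509) (tt N19615 F238510) (tt N18592 F238511) (tt N22073 (iv F245941)))
theorem Q20440 : ∀ i, i < 20440 → P i := stepQ 20439 Q20439 (allL N20439 (tt N22055 (iv F245812)) (tt N19557 F238512) (tt N22069 (iv F245911)) (tt N18579 (iv D53209)) (tt N22048 (iv F245766)) (tt N22067 (iv F245901)) (tt N18588 F238513) (tt N19640 F238514) (tt N18589 F238515) (tt N22074 (iv F245946)))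
theorem Q20441 : ∀ i, i < 20441 → P i := stepQ 20440 Q20440 (allL N20440 (tt N18582 F238516) (tt N22066 (iv F245893)) (tt N19547 F238517) (tt N21711 (iv F243685)) (tt N19551 F238518) (tt N19565 F238519) (tt N19548 F238520) (tt N18863 F238521) (tt N18580 (iv D53210)) (tt N19552 F238522))
theorem Q20442 : ∀ i, i < 20442 → P i := stepQ 20441 Q20441 (allL N20441 (tt N19551 F238523) (tt N18584 F238524) (tt N19546 F238525) (tt N22082 D54852) (tt N18582 F238526) (tt N22045 (iv F245742)) (tt N19552 F238527) (tt N18864 F238528) (tt N18581 (iv D53211)) (tt N19548 F238529))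
theorem Q20443 : ∀ i, i < 20443 → P i := stepQ 20442 Q20442 (allL N20442 (tt N21711 (iv F243684)) (tt N18585 F238530) (tt N19564 F238531) (tt N18582 (iv D53212)) (tt N22083 D54853) (tt N19567 F238532) (tt N19553 F238533) (tt N18865 F238534) (tt N18594 F238535) (tt N22075 (iv F245954)))
theorem Q20444 : ∀ i, i < 20444 → P i := stepQ 20443 Q20443 (allL N20443 (tt N21705 (iv F243634)) (tt N22045 (iv F245739)) (tt N18587 F238536) (tt N22084 D54854) (tt N19568 F238537) (tt N18584 F238538) (tt N21703 (iv F243622)) (tt N18867 F238539) (tt N18583 (iv D53213)) (tt N21704 (iv F243633)))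
theorem Q20445 : ∀ i, i < 20445 → P i := stepQ 20444 Q20444 (allL N20444 (tt N22068 (iv F245905)) (tt N22082 (iv F245985)) (tt N22085 D54855) (tt N18584 (iv D53214)) (tt N22086 D54856) (tt N22084 (iv F245999)) (tt N22081 (iv F245981)) (tt N18868 F238540) (tt N20444 F238541) (tt N22076 (iv F245960)))
theorem Q20446 : ∀ i, i < 20446 → P i := stepQ 20445 Q20445 (allL N20445 (tt N22069 (iv F245910)) (tt N22083 (iv F245991)) (tt N22055 (iv F245814)) (tt N22086 (iv F246006)) (tt N18585 (iv D53215)) (tt N22087 D54857) (tt N22070 (iv F245918)) (tt N18869 F238542) (tt N18595 F238543) (tt N22077 (iv F245963)))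
theorem Q20447 : ∀ i, i < 20447 → P i := stepQ 20446 Q20446 (allL N20446 (tt N21704 (iv F243625)) (tt N21709 (iv F243667)) (tt N21703 (iv F243619)) (tt N19570 F238544) (tt N19569 F238545) (tt N22063 (iv F245879)) (tt N18587 F238546) (tt N19701 F238547) (tt N18586 (iv D53216)) (tt N21705 (iv F243641)))
theorem Q20448 : ∀ i, i < 20448 → P i := stepQ 20447 Q20447 (allL N20447 (tt N21706 (iv F243643)) (tt N21710 (iv F243676)) (tt N22083 (iv F245992)) (tt N18587 (iv D53217)) (tt N19564 F238548) (tt N18588 F238549) (tt N19570 F238550) (tt N18872 F238551) (tt N18590 F238552) (tt N22078 (iv F245970)))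
theorem Q20449 : ∀ i, i < 20449 → P i := stepQ 20448 Q20448 (allL N20448 (tt N22070 (iv F245915)) (tt N22087 (iv F246009)) (tt N18588 (iv D53218)) (tt N22085 (iv F246003)) (tt N22057 (iv F245829)) (tt N22083 (iv F245993)) (tt N22069 (iv F245912)) (tt N18873 F238553) (tt N18591 F238554) (tt N22079 (iv F245973)))
theorem Q20450 : ∀ i, i < 20450 → P i := stepQ 20449 Q20449 (allL N20449 (tt N21707 (iv F243650)) (tt N18595 F238555) (tt N18590 (iv D53219)) (tt N20449 F238556) (tt N18594 F238557) (tt N18591 F238558) (tt N19554 F238559) (tt N18881 F238560) (tt N22083 (iv F245996)) (tt N20449 F238561))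
theorem Q20451 : ∀ i, i < 20451 → P i := stepQ 20450 Q20450 (allL N20450 (tt N22071 (iv F245921)) (tt N18591 (iv D53220)) (tt N21712 (iv F243692)) (tt N20450 F238562) (tt N19575 F238563) (tt N18595 F238564) (tt N22072 (iv F245934)) (tt N18882 F238565) (tt N22087 (iv F246012)) (tt N20450 F238566))
theorem Q20452 : ∀ i, i < 20452 → P i := stepQ 20451 Q20451 (allL N20451 (tt N18697 F238567) (tt N20451 F238568) (tt N18691 F238569) (tt N18784 F238570) (tt N18905 F238571) (tt N18599 F238572) (tt N19720 F238573) (tt N18642 F238574) (tt N18598 (iv D53221)) (tt N20451 F238575))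
theorem Q20453 : ∀ i, i < 20453 → P i := stepQ 20452 Q20452 (allL N20452 (tt N18801 F238576) (tt N18624 F238577) (tt N21730 (iv F243824)) (tt N18605 (iv D53222)) (tt N22088 D54858) (tt N18608 F238578) (tt N18730 F238579) (tt N18606 F238580) (tt N18747 F238581) (tt N22089 D54859))
theorem Q20454 : ∀ i, i < 20454 → P i := stepQ 20453 Q20453 (allL N20453 (tt N18802 F238582) (tt N18625 F238583) (tt N20453 F238584) (tt N22089 (iv F246023)) (tt N18909 F238585) (tt N18609 F238586) (tt N18731 F238587) (tt N18607 F238588) (tt N18717 F238589) (tt N18605 (iv D53223)))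
theorem Q20455 : ∀ i, i < 20455 → P i := stepQ 20454 Q20454 (allL N20454 (tt N19304 F238590) (tt N18627 F238591) (tt N19658 F238592) (tt N18911 F238593) (tt N18606 (iv D53224)) (tt N19656 F238594) (tt N19283 F238595) (tt N22088 (iv F246019)) (tt N19631 F238596) (tt N22090 D54860))
theorem Q20456 : ∀ i, i < 20456 → P i := stepQ 20455 Q20455 (allL N20455 (tt N19316 F238597) (tt N18628 F238598) (tt N21751 (iv F243976)) (tt N18607 F238599) (tt N22090 (iv F246031)) (tt N18610 F238600) (tt N19286 F238601) (tt N22089 (iv F246026)) (tt N22091 D54861) (tt N18606 (iv D53225)))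
theorem Q20457 : ∀ i, i < 20457 → P i := stepQ 20456 Q20456 (allL N20456 (tt N19322 F238602) (tt N18629 F238603) (tt N21731 (iv F243832)) (tt N18609 F238604) (tt N18675 F238605) (tt N22089 (iv F246024)) (tt N18681 F238606) (tt N18610 F238607) (tt N22092 D54862) (tt N18608 (iv D53226)))
theorem Q20458 : ∀ i, i < 20458 → P i := stepQ 20457 Q20457 (allL N20457 (tt N19323 F238608) (tt N18633 F238609) (tt N21754 (iv F243996)) (tt N18724 F238610) (tt N21746 (iv F243939)) (tt N22091 (iv F246037)) (tt N18611 F238611) (tt N22092 (iv F246045)) (tt N18610 (iv D53227)) (tt N21766 (iv F244076)))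
theorem Q20459 : ∀ i, i < 20459 → P i := stepQ 20458 Q20458 (allL N20458 (tt N18647 F238612) (tt N18747 F238613) (tt N18655 F238618) (tt N18612 (iv D53228)) (tt N22093 D54863) (tt N18615 F238614) (tt N18716 F238615) (tt N18613 F238616) (tt N18624 F238617) (tt N22094 D54864))
theorem Q20460 : ∀ i, i < 20460 → P i := stepQ 20459 Q20459 (allL N20459 (tt N18648 F238619) (tt N18748 F238620) (tt N20459 F238621) (tt N22094 (iv F246057)) (tt N19000 F238622) (tt N18616 F238623) (tt N18717 F238624) (tt N18614 F238625) (tt N18731 F238626) (tt N18612 (iv D53229)))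
theorem Q20461 : ∀ i, i < 20461 → P i := stepQ 20460 Q20460 (allL N20460 (tt N18649 F238627) (tt N18855 F238628) (tt N18613 (iv D53230)) (tt N20460 F238629) (tt N22095 D54865) (tt N18617 F238630) (tt N18852 F238631) (tt N18655 F238632) (tt N18626 F238633) (tt N22096 D54866))
theorem Q20462 : ∀ i, i < 20462 → P i := stepQ 20461 Q20461 (allL N20461 (tt N18650 F238634) (tt N19631 F238635) (tt N22095 (iv F246063)) (tt N19748 F238636) (tt N18613 (iv D53231)) (tt N22097 D54867) (tt N19576 F238637) (tt N22093 (iv F246052)) (tt N18627 F238638) (tt N22098 D54868))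
theorem Q20463 : ∀ i, i < 20463 → P i := stepQ 20462 Q20462 (allL N20462 (tt N18651 F238639) (tt N19632 F238640) (tt N22096 (iv F246070)) (tt N18614 F238641) (tt N22098 (iv F246086)) (tt N18619 F238642) (tt N19577 F238643) (tt N22094 (iv F246060)) (tt N22099 D54869) (tt N18613 (iv D53232)))
theorem Q20464 : ∀ i, i < 20464 → P i := stepQ 20463 Q20463 (allL N20463 (tt N18652 F238644) (tt N21729 (iv F243815)) (tt N18656 F238645) (tt N18616 F238646) (tt N18654 F238647) (tt N22094 (iv F246058)) (tt N18659 F238648) (tt N18619 F238649) (tt N22100 D54870) (tt N18615 (iv D53233)))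
theorem Q20465 : ∀ i, i < 20465 → P i := stepQ 20464 Q20464 (allL N20464 (tt N18654 F238650) (tt N18866 F238651) (tt N18619 F238652) (tt N20464 F238653) (tt N18652 F238654) (tt N22096 (iv F246072)) (tt N18620 F238655) (tt N18656 F238656) (tt N22101 D54871) (tt N18617 (iv D53234)))
theorem Q20466 : ∀ i, i < 20466 → P i := stepQ 20465 Q20465 (allL N20465 (tt N18655 F238657) (tt N19312 F238658) (tt N18647 F238659) (tt N20465 F238660) (tt N22097 (iv F246079)) (tt N18618 (iv D53235)) (tt N19309 F238661) (tt N18649 F238662) (tt N18631 F238663) (tt N22102 D54872))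
theorem Q20467 : ∀ i, i < 20467 → P i := stepQ 20466 Q20466 (allL N20466 (tt N18656 F238664) (tt N19319 F238665) (tt N18652 F238666) (tt N20466 F238667) (tt N18619 F238668) (tt N22102 (iv F246112)) (tt N18621 F238669) (tt N18654 F238670) (tt N22103 D54873) (tt N18618 (iv D53236)))
theorem Q20468 : ∀ i, i < 20468 → P i := stepQ 20467 Q20467 (allL N20467 (tt N18657 F238671) (tt N21766 (iv F244070)) (tt N22101 (iv F246103)) (tt N18742 F238672) (tt N22103 (iv F246118)) (tt N22099 (iv F246091)) (tt N18622 F238673) (tt N22100 (iv F246099)) (tt N18619 (iv D53237)) (tt N18633 F238674))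
theorem Q20469 : ∀ i, i < 20469 → P i := stepQ 20468 Q20468 (allL N20468 (tt N18660 F238675) (tt N18867 F238676) (tt N18622 F238677) (tt N22104 D54874) (tt N19696 F238678) (tt N18864 F238679) (tt N22101 (iv F246105)) (tt N22045 (iv F245744)) (tt N18620 (iv D53238)) (tt N18635 F238680))
theorem Q20470 : ∀ i, i < 20470 → P i := stepQ 20469 Q20469 (allL N20469 (tt N18663 F238681) (tt N19320 F238682) (tt N19696 F238683) (tt N22105 D54875) (tt N18622 F238684) (tt N19318 F238685) (tt N22103 (iv F246119)) (tt N22046 (iv F245752)) (tt N18621 (iv D53239)) (tt N18636 F238686))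
theorem Q20471 : ∀ i, i < 20471 → P i := stepQ 20470 Q20470 (allL N20470 (tt N18664 F238687) (tt N18730 F238688) (tt N18677 F238689) (tt N18623 (iv D53240)) (tt N22106 D54876) (tt N18683 F238690) (tt N18624 F238691) (tt N18711 F238692) (tt N18716 F238693) (tt N22107 D54877))
theorem Q20472 : ∀ i, i < 20472 → P i := stepQ 20471 Q20471 (allL N20471 (tt N18665 F238694) (tt N18731 F238695) (tt N18640 F238696) (tt N22107 (iv F246147)) (tt N18919 F238697) (tt N18713 F238698) (tt N18625 F238699) (tt N18712 F238700) (tt N18748 F238701) (tt N18623 (iv D53241)))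
theorem Q20473 : ∀ i, i < 20473 → P i := stepQ 20472 Q20472 (allL N20472 (tt N18666 F238702) (tt N22088 (iv F246014)) (tt N18671 F238703) (tt N18920 F238704) (tt N18624 (iv D53242)) (tt N18669 F238705) (tt N22106 (iv F246141)) (tt N18627 F238706) (tt N22093 (iv F246053)) (tt N22108 D54878))
theorem Q20474 : ∀ i, i < 20474 → P i := stepQ 20473 Q20473 (allL N20473 (tt N18667 F238707) (tt N22089 (iv F246022)) (tt N18678 F238708) (tt N18625 F238709) (tt N22108 (iv F246154)) (tt N18629 F238710) (tt N22107 (iv F246149)) (tt N18628 F238711) (tt N22109 D54879) (tt N18624 (iv D53243)))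
theorem Q20475 : ∀ i, i < 20475 → P i := stepQ 20474 Q20474 (allL N20474 (tt N18669 F238712) (tt N21719 (iv F243744)) (tt N18627 F238713) (tt N18956 F238714) (tt N18626 (iv D53244)) (tt N18666 F238715) (tt N19581 F238716) (tt N18671 F238717) (tt N22095 (iv F246067)) (tt N22110 D54880))
theorem Q20476 : ∀ i, i < 20476 → P i := stepQ 20475 Q20475 (allL N20475 (tt N18670 F238718) (tt N21727 (iv F243800)) (tt N18628 F238719) (tt N18641 F238720) (tt N22110 (iv F246165)) (tt N18630 F238721) (tt N19582 F238722) (tt N18678 F238723) (tt N22111 D54881) (tt N18626 (iv D53245)))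
theorem Q20477 : ∀ i, i < 20477 → P i := stepQ 20476 Q20476 (allL N20476 (tt N18671 F238724) (tt N19656 F238725) (tt N18666 F238726) (tt N18922 F238727) (tt N18631 F238728) (tt N18627 (iv D53246)) (tt N19661 F238729) (tt N18669 F238730) (tt N22097 (iv F246082)) (tt N22112 D54882))
theorem Q20478 : ∀ i, i < 20478 → P i := stepQ 20477 Q20477 (allL N20477 (tt N18672 F238731) (tt N22090 (iv F246028)) (tt N22110 (iv F246163)) (tt N18923 F238732) (tt N18628 F238733) (tt N22112 (iv F246179)) (tt N19583 F238734) (tt N22108 (iv F246156)) (tt N22113 D54883) (tt N18627 (iv D53247)))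
theorem Q20479 : ∀ i, i < 20479 → P i := stepQ 20478 Q20478 (allL N20478 (tt N18673 F238735) (tt N22091 (iv F246035)) (tt N22111 (iv F246170)) (tt N18757 F238736) (tt N22113 (iv F246183)) (tt N18633 F238737) (tt N19584 F238738) (tt N22109 (iv F246161)) (tt N18628 (iv D53248)) (tt N22099 (iv F246093)))
theorem Q20480 : ∀ i, i < 20480 → P i := stepQ 20479 Q20479 (allL N20479 (tt N18674 F238739) (tt N22092 (iv F246041)) (tt N18679 F238740) (tt N18761 F238741) (tt N18676 F238742) (tt N22109 (iv F246160)) (tt N18685 F238743) (tt N18633 F238744) (tt N18629 (iv D53249)) (tt N22100 (iv F246100)))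
theorem Q20481 : ∀ i, i < 20481 → P i := stepQ 20480 Q20480 (allL N20480 (tt N18676 F238745) (tt N21728 (iv F243807)) (tt N18633 F238746) (tt N22114 D54884) (tt N18674 F238747) (tt N22111 (iv F246171)) (tt N18635 F238748) (tt N18679 F238749) (tt N18630 (iv D53250)) (tt N22101 (iv F246107)))
theorem Q20482 : ∀ i, i < 20482 → P i := stepQ 20481 Q20481 (allL N20481 (tt N18678 F238750) (tt N19657 F238751) (tt N18667 F238752) (tt N18637 F238753) (tt N22112 (iv F246178)) (tt N18632 F238754) (tt N19662 F238755) (tt N18670 F238756) (tt N22115 D54885) (tt N18631 (iv D53251)))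
theorem Q20483 : ∀ i, i < 20483 → P i := stepQ 20482 Q20482 (allL N20482 (tt N18679 F238757) (tt N21746 (iv F243936)) (tt N18674 F238758) (tt N22116 D54886) (tt N18633 F238759) (tt N22115 (iv F246195)) (tt N18636 F238760) (tt N18676 F238761) (tt N18632 (iv D53252)) (tt N22103 (iv F246121)))
theorem Q20484 : ∀ i, i < 20484 → P i := stepQ 20483 Q20483 (allL N20483 (tt N19701 F238762) (tt N18635 F238763) (tt N18827 F238764) (tt N19641 F238765) (tt N19279 F238766) (tt N18824 F238767) (tt N21728 (iv F243811)) (tt N21704 (iv F243632)) (tt N18634 (iv D53253)) (tt N18867 F238768))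
theorem Q20485 : ∀ i, i < 20485 → P i := stepQ 20484 Q20484 (allL N20484 (tt N18686 F238769) (tt N19641 F238770) (tt N18773 F238771) (tt N18635 (iv D53254)) (tt N19640 F238772) (tt N19587 F238773) (tt N22114 (iv F246189)) (tt N22048 (iv F245769)) (tt N18644 F238774) (tt N22104 (iv F246128)))
theorem Q20486 : ∀ i, i < 20486 → P i := stepQ 20485 Q20485 (allL N20485 (tt N18689 F238775) (tt N19698 F238776) (tt N19615 F238777) (tt N18636 (iv D53255)) (tt N18774 F238778) (tt N21744 (iv F243923)) (tt N22116 (iv F246202)) (tt N22049 (iv F245777)) (tt N18639 F238779) (tt N22105 (iv F246135)))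
theorem Q20487 : ∀ i, i < 20487 → P i := stepQ 20486 Q20486 (allL N20486 (tt N18691 F238780) (tt N19703 F238781) (tt N18697 F238782) (tt N22117 D54887) (tt N18931 F238783) (tt N18638 F238784) (tt N19704 F238785) (tt N18701 F238786) (tt N18637 (iv D53256)) (tt N20486 F238787))
theorem Q20488 : ∀ i, i < 20488 → P i := stepQ 20487 Q20487 (allL N20487 (tt N18692 F238788) (tt N19716 F238789) (tt N18897 F238790) (tt N18638 (iv D53257)) (tt N18779 F238791) (tt N22117 (iv F246208)) (tt N18639 F238792) (tt N18704 F238793) (tt N22116 (iv F246204)) (tt N20487 F238794))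
theorem Q20489 : ∀ i, i < 20489 → P i := stepQ 20488 Q20488 (allL N20488 (tt N18701 F238795) (tt N19951 F238796) (tt N18642 F238797) (tt N22118 D54888) (tt N18983 F238798) (tt N18643 F238799) (tt N19589 F238800) (tt N18691 F238801) (tt N18641 (iv D53258)) (tt N20488 F238802))
theorem Q20490 : ∀ i, i < 20490 → P i := stepQ 20489 Q20489 (allL N20489 (tt N18704 F238803) (tt N19644 F238804) (tt N18792 F238805) (tt N18643 (iv D53259)) (tt N18875 F238806) (tt N22118 (iv F246215)) (tt N18644 F238807) (tt N18692 F238808) (tt N22114 (iv F246191)) (tt N20489 F238809))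
theorem Q20491 : ∀ i, i < 20491 → P i := stepQ 20490 Q20490 (allL N20490 (tt N19618 F238810) (tt N21795 (iv F244252)) (tt N18645 (iv D53260)) (tt N20490 F238811) (tt N22119 D54889) (tt N20490 F238812) (tt N18945 F238813) (tt N21859 (iv F244658)) (tt N18935 F238814) (tt N22120 D54890))
theorem Q20492 : ∀ i, i < 20492 → P i := stepQ 20491 Q20491 (allL N20491 (tt N19748 F238815) (tt N19377 F238816) (tt N22119 (iv F246220)) (tt N18650 F238817) (tt N18645 (iv D53261)) (tt N22121 D54891) (tt N19363 F238818) (tt N21860 (iv F244664)) (tt N18936 F238819) (tt N22122 D54892))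
theorem Q20493 : ∀ i, i < 20493 → P i := stepQ 20492 Q20492 (allL N20492 (tt N19766 F238820) (tt N19378 F238821) (tt N22120 (iv F246224)) (tt N18646 F238822) (tt N22122 (iv F246237)) (tt N20492 F238823) (tt N19364 F238824) (tt N21861 (iv F244671)) (tt N22123 D54893) (tt N18645 (iv D53262)))
theorem Q20494 : ∀ i, i < 20494 → P i := stepQ 20493 Q20493 (allL N20493 (tt N22093 (iv F246046)) (tt N19674 F238825) (tt N22097 (iv F246077)) (tt N21860 (iv F244662)) (tt N18647 (iv D53263)) (tt N22095 (iv F246064)) (tt N19669 F238826) (tt N18650 F238827) (tt N18666 F238828) (tt N22124 D54894))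
theorem Q20495 : ∀ i, i < 20495 → P i := stepQ 20494 Q20494 (allL N20494 (tt N22094 (iv F246054)) (tt N19688 F238829) (tt N22102 (iv F246110)) (tt N18648 F238830) (tt N22124 (iv F246246)) (tt N18652 F238831) (tt N19685 F238832) (tt N18651 F238833) (tt N22125 D54895) (tt N18647 (iv D53264)))
theorem Q20496 : ∀ i, i < 20496 → P i := stepQ 20495 Q20495 (allL N20495 (tt N21730 (iv F243822)) (tt N18649 (iv D53265)) (tt N18801 F238834) (tt N20495 F238835) (tt N22126 D54896) (tt N18653 F238836) (tt N18803 F238837) (tt N19312 F238838) (tt N18668 F238839) (tt N22127 D54897))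
theorem Q20497 : ∀ i, i < 20497 → P i := stepQ 20496 Q20496 (allL N20496 (tt N22095 (iv F246061)) (tt N22126 (iv F246256)) (tt N18650 F238840) (tt N22128 D54898) (tt N18649 (iv D53266)) (tt N22093 (iv F246050)) (tt N19594 F238841) (tt N22097 (iv F246081)) (tt N18669 F238842) (tt N22129 D54899))
theorem Q20498 : ∀ i, i < 20498 → P i := stepQ 20497 Q20497 (allL N20497 (tt N22096 (iv F246068)) (tt N22127 (iv F246263)) (tt N18651 F238843) (tt N20497 F238844) (tt N22129 (iv F246276)) (tt N18654 F238845) (tt N19595 F238846) (tt N22102 (iv F246114)) (tt N22130 D54900) (tt N18649 (iv D53267)))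
theorem Q20499 : ∀ i, i < 20499 → P i := stepQ 20498 Q20498 (allL N20498 (tt N22097 (iv F246075)) (tt N21713 (iv F243700)) (tt N22093 (iv F246048)) (tt N22121 (iv F246230)) (tt N18655 F238847) (tt N18650 (iv D53268)) (tt N22131 D54901) (tt N22095 (iv F246066)) (tt N18671 F238848) (tt N22132 D54902))
theorem Q20500 : ∀ i, i < 20500 → P i := stepQ 20499 Q20499 (allL N20499 (tt N22098 (iv F246083)) (tt N21714 (iv F243708)) (tt N22129 (iv F246275)) (tt N22122 (iv F246236)) (tt N18651 F238849) (tt N22132 (iv F246291)) (tt N19596 F238850) (tt N22124 (iv F246248)) (tt N22133 D54903) (tt N18650 (iv D53269)))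
theorem Q20501 : ∀ i, i < 20501 → P i := stepQ 20500 Q20500 (allL N20500 (tt N22099 (iv F246088)) (tt N21715 (iv F243715)) (tt N22130 (iv F246278)) (tt N18811 F238851) (tt N22133 (iv F246292)) (tt N18657 F238852) (tt N19597 F238853) (tt N22125 (iv F246253)) (tt N18651 (iv D53270)) (tt N18673 F238854))
theorem Q20502 : ∀ i, i < 20502 → P i := stepQ 20501 Q20501 (allL N20501 (tt N22100 (iv F246094)) (tt N19700 F238855) (tt N22103 (iv F246117)) (tt N18815 F238856) (tt N22101 (iv F246104)) (tt N22125 (iv F246251)) (tt N19696 F238857) (tt N18657 F238858) (tt N18652 (iv D53271)) (tt N18674 F238859))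
theorem Q20503 : ∀ i, i < 20503 → P i := stepQ 20502 Q20502 (allL N20502 (tt N21731 (iv F243830)) (tt N18654 F238860) (tt N19322 F238861) (tt N20502 F238862) (tt N21729 (iv F243818)) (tt N22127 (iv F246266)) (tt N18658 F238863) (tt N19319 F238864) (tt N22134 D54904) (tt N18653 (iv D53272)))
theorem Q20504 : ∀ i, i < 20504 → P i := stepQ 20503 Q20503 (allL N20503 (tt N22101 (iv F246101)) (tt N22134 (iv F246295)) (tt N18657 F238865) (tt N22135 D54905) (tt N22100 (iv F246097)) (tt N22130 (iv F246279)) (tt N18660 F238866) (tt N22103 (iv F246120)) (tt N18654 (iv D53273)) (tt N18676 F238867))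
theorem Q20505 : ∀ i, i < 20505 → P i := stepQ 20504 Q20504 (allL N20504 (tt N19309 F238868) (tt N18740 F238869) (tt N18716 F238870) (tt N20504 F238871) (tt N22131 (iv F246286)) (tt N18661 F238872) (tt N18655 (iv D53274)) (tt N18718 F238873) (tt N18677 F238874) (tt N22136 D54906))
theorem Q20506 : ∀ i, i < 20506 → P i := stepQ 20505 Q20505 (allL N20505 (tt N22102 (iv F246108)) (tt N21716 (iv F243723)) (tt N22094 (iv F246056)) (tt N20505 F238875) (tt N22132 (iv F246290)) (tt N18656 F238876) (tt N22136 (iv F246309)) (tt N22096 (iv F246074)) (tt N22137 D54907) (tt N18655 (iv D53275)))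
theorem Q20507 : ∀ i, i < 20507 → P i := stepQ 20506 Q20506 (allL N20506 (tt N22103 (iv F246115)) (tt N21717 (iv F243730)) (tt N22100 (iv F246095)) (tt N22138 D54908) (tt N18657 F238877) (tt N22137 (iv F246311)) (tt N18663 F238878) (tt N22101 (iv F246106)) (tt N18656 (iv D53276)) (tt N18679 F238879))
theorem Q20508 : ∀ i, i < 20508 → P i := stepQ 20507 Q20507 (allL N20507 (tt N21738 (iv F243875)) (tt N18660 F238880) (tt N19697 F238881) (tt N22139 D54909) (tt N21737 (iv F243871)) (tt N19599 F238882) (tt N22134 (iv F246297)) (tt N22050 (iv F245785)) (tt N18658 (iv D53277)) (tt N18682 F238883))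
theorem Q20509 : ∀ i, i < 20509 → P i := stepQ 20508 Q20508 (allL N20508 (tt N19696 F238884) (tt N21737 (iv F243868)) (tt N18663 F238885) (tt N22060 (iv F245852)) (tt N18660 F238886) (tt N19694 F238887) (tt N22100 (iv F246098)) (tt N22044 (iv F245736)) (tt N18659 (iv D53278)) (tt N18685 F238888))
theorem Q20510 : ∀ i, i < 20510 → P i := stepQ 20509 Q20509 (allL N20509 (tt N22104 (iv F246122)) (tt N22139 (iv F246318)) (tt N18825 F238889) (tt N18660 (iv D53279)) (tt N22140 D54910) (tt N19600 F238890) (tt N22135 (iv F246301)) (tt N22051 (iv F245789)) (tt N20509 F238891) (tt N18686 F238892))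
theorem Q20511 : ∀ i, i < 20511 → P i := stepQ 20510 Q20510 (allL N20510 (tt N19310 F238893) (tt N18741 F238894) (tt N18721 F238895) (tt N20510 F238896) (tt N18714 F238897) (tt N22136 (iv F246308)) (tt N18662 F238898) (tt N18723 F238899) (tt N22141 D54911) (tt N18661 (iv D53280)))
theorem Q20512 : ∀ i, i < 20512 → P i := stepQ 20511 Q20511 (allL N20511 (tt N19318 F238900) (tt N18746 F238901) (tt N19694 F238902) (tt N22142 D54912) (tt N18715 F238903) (tt N18663 F238904) (tt N22141 (iv F246335)) (tt N22052 (iv F245798)) (tt N18662 (iv D53281)) (tt N18688 F238905))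
theorem Q20513 : ∀ i, i < 20513 → P i := stepQ 20512 Q20512 (allL N20512 (tt N22105 (iv F246129)) (tt N21718 (iv F243737)) (tt N22143 D54913) (tt N18663 (iv D53282)) (tt N18828 F238906) (tt N22142 (iv F246342)) (tt N22138 (iv F246314)) (tt N22053 (iv F245801)) (tt N20512 F238907) (tt N18689 F238908))
theorem Q20514 : ∀ i, i < 20514 → P i := stepQ 20513 Q20513 (allL N20513 (tt N22106 (iv F246136)) (tt N19294 F238909) (tt N19661 F238910) (tt N18952 F238911) (tt N18664 (iv D53283)) (tt N19645 F238912) (tt N18666 F238913) (tt N19298 F238914) (tt N19669 F238915) (tt N22144 D54914))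
theorem Q20515 : ∀ i, i < 20515 → P i := stepQ 20514 Q20514 (allL N20514 (tt N22107 (iv F246144)) (tt N19295 F238916) (tt N19662 F238917) (tt N18665 F238918) (tt N22144 (iv F246355)) (tt N19307 F238919) (tt N18667 F238920) (tt N19299 F238921) (tt N22145 D54915) (tt N18664 (iv D53284)))
theorem Q20516 : ∀ i, i < 20516 → P i := stepQ 20515 Q20515 (allL N20515 (tt N22108 (iv F246151)) (tt N21720 (iv F243752)) (tt N22112 (iv F246176)) (tt N18957 F238922) (tt N18667 F238923) (tt N22110 (iv F246166)) (tt N22144 (iv F246357)) (tt N18672 F238924) (tt N22146 D54916) (tt N18666 (iv D53285)))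
theorem Q20517 : ∀ i, i < 20517 → P i := stepQ 20516 Q20516 (allL N20516 (tt N22109 (iv F246157)) (tt N21721 (iv F243759)) (tt N22115 (iv F246194)) (tt N18835 F238925) (tt N22146 (iv F246366)) (tt N18674 F238926) (tt N22145 (iv F246363)) (tt N18673 F238927) (tt N18667 (iv D53286)) (tt N22125 (iv F246254)))
theorem Q20518 : ∀ i, i < 20518 → P i := stepQ 20517 Q20517 (allL N20517 (tt N21758 (iv F244022)) (tt N18669 F238928) (tt N18829 F238929) (tt N21895 (iv F244892)) (tt N18668 (iv D53287)) (tt N22088 (iv F246017)) (tt N18831 F238930) (tt N19656 F238931) (tt N22126 (iv F246261)) (tt N22147 D54917))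
theorem Q20519 : ∀ i, i < 20519 → P i := stepQ 20518 Q20518 (allL N20518 (tt N21762 (iv F244046)) (tt N18670 F238932) (tt N18830 F238933) (tt N18698 F238934) (tt N22147 (iv F246370)) (tt N18675 F238935) (tt N18832 F238936) (tt N19657 F238937) (tt N22148 D54918) (tt N18668 (iv D53288)))
theorem Q20520 : ∀ i, i < 20520 → P i := stepQ 20519 Q20519 (allL N20519 (tt N18956 F238938) (tt N21895 (iv F244890)) (tt N18961 F238939) (tt N18669 (iv D53289)) (tt N18699 F238940) (tt N18920 F238941) (tt N19603 F238942) (tt N18922 F238943) (tt N19745 (iv F238944)) (tt N22149 D54919))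
theorem Q20521 : ∀ i, i < 20521 → P i := stepQ 20520 Q20520 (allL N20520 (tt N22110 (iv F246162)) (tt N22147 (iv F246368)) (tt N18672 F238945) (tt N22149 (iv F246380)) (tt N18670 F238946) (tt N22108 (iv F246155)) (tt N19605 F238947) (tt N22112 (iv F246181)) (tt N22150 D54920) (tt N18669 (iv D53290)))
theorem Q20522 : ∀ i, i < 20522 → P i := stepQ 20521 Q20521 (allL N20521 (tt N22111 (iv F246169)) (tt N22148 (iv F246373)) (tt N18673 F238948) (tt N22151 D54921) (tt N22150 (iv F246386)) (tt N18676 F238949) (tt N19606 F238950) (tt N22115 (iv F246197)) (tt N18670 (iv D53291)) (tt N22130 (iv F246281)))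
theorem Q20523 : ∀ i, i < 20523 → P i := stepQ 20522 Q20522 (allL N20522 (tt N19661 F238951) (tt N18755 F238952) (tt N22106 (iv F246138)) (tt N18965 F238953) (tt N18677 F238954) (tt N18719 F238955) (tt N18671 (iv D53292)) (tt N19666 (iv F238956)) (tt N22131 (iv F246289)) (tt N22152 D54922))
theorem Q20524 : ∀ i, i < 20524 → P i := stepQ 20523 Q20523 (allL N20523 (tt N22112 (iv F246174)) (tt N21725 (iv F243790)) (tt N22108 (iv F246152)) (tt N18966 F238957) (tt N18678 F238958) (tt N18672 F238959) (tt N22152 (iv F246397)) (tt N22110 (iv F246168)) (tt N22153 D54923) (tt N18671 (iv D53293)))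
theorem Q20525 : ∀ i, i < 20525 → P i := stepQ 20524 Q20524 (allL N20524 (tt N22113 (iv F246182)) (tt N21726 (iv F243796)) (tt N22150 (iv F246385)) (tt N22154 D54924) (tt N18673 F238960) (tt N22153 (iv F246400)) (tt N19608 F238961) (tt N22146 (iv F246367)) (tt N18672 (iv D53294)) (tt N22133 (iv F246294)))
theorem Q20526 : ∀ i, i < 20526 → P i := stepQ 20525 Q20525 (allL N20525 (tt N21767 (iv F244077)) (tt N18676 F238962) (tt N21732 (iv F243838)) (tt N22155 D54925) (tt N22092 (iv F246043)) (tt N22148 (iv F246375)) (tt N18682 F238963) (tt N21746 (iv F243942)) (tt N18675 (iv D53295)) (tt N22134 (iv F246299)))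
theorem Q20527 : ∀ i, i < 20527 → P i := stepQ 20526 Q20526 (allL N20526 (tt N22114 (iv F246185)) (tt N22155 (iv F246405)) (tt N18858 F238964) (tt N18676 (iv D53296)) (tt N22156 D54926) (tt N22151 (iv F246389)) (tt N18686 F238965) (tt N22116 (iv F246203)) (tt N18704 F238966) (tt N22135 (iv F246303)))
theorem Q20528 : ∀ i, i < 20528 → P i := stepQ 20527 Q20527 (allL N20527 (tt N19662 F238967) (tt N18767 F238968) (tt N22107 (iv F246146)) (tt N18690 F238969) (tt N22152 (iv F246395)) (tt N18687 F238970) (tt N18678 F238971) (tt N19667 F238972) (tt N22157 D54927) (tt N18677 (iv D53297)))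
theorem Q20529 : ∀ i, i < 20529 → P i := stepQ 20528 Q20528 (allL N20528 (tt N22115 (iv F246192)) (tt N21735 (iv F243858)) (tt N22109 (iv F246158)) (tt N22158 D54928) (tt N22153 (iv F246399)) (tt N18679 F238973) (tt N22157 (iv F246421)) (tt N22111 (iv F246173)) (tt N18678 (iv D53298)) (tt N22137 (iv F246312)))
theorem Q20530 : ∀ i, i < 20530 → P i := stepQ 20529 Q20529 (allL N20529 (tt N22116 (iv F246198)) (tt N21736 (iv F243862)) (tt N22159 D54929) (tt N18679 (iv D53299)) (tt N18862 F238974) (tt N22158 (iv F246423)) (tt N18689 F238975) (tt N22114 (iv F246190)) (tt N18692 F238976) (tt N22138 (iv F246316)))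
theorem Q20531 : ∀ i, i < 20531 → P i := stepQ 20530 Q20530 (allL N20530 (tt N18682 F238977) (tt N19701 F238978) (tt N21737 (iv F243869)) (tt N19699 F238979) (tt N19697 F238980) (tt N19613 F238981) (tt N21767 (iv F244081)) (tt N21709 (iv F243673)) (tt N18680 (iv D53300)) (tt N21738 (iv F243881)))
theorem Q20532 : ∀ i, i < 20532 → P i := stepQ 20531 Q20531 (allL N20531 (tt N19697 F238982) (tt N18685 F238983) (tt N21738 (iv F243877)) (tt N19694 F238984) (tt N18682 F238985) (tt N22060 (iv F245854)) (tt N22092 (iv F246044)) (tt N22043 (iv F245727)) (tt N18681 (iv D53301)) (tt N21737 (iv F243874)))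
theorem Q20533 : ∀ i, i < 20533 → P i := stepQ 20532 Q20532 (allL N20532 (tt N19699 F238986) (tt N18686 F238987) (tt N21744 (iv F243921)) (tt N18682 (iv D53302)) (tt N19695 F238988) (tt N19615 F238989) (tt N22155 (iv F246408)) (tt N22054 (iv F245810)) (tt N18705 F238990) (tt N22139 (iv F246323)))
theorem Q20534 : ∀ i, i < 20534 → P i := stepQ 20533 Q20533 (allL N20533 (tt N19307 F238991) (tt N18736 F238992) (tt N18687 F238993) (tt N18713 F238994) (tt N18723 F238995) (tt N22107 (iv F246148)) (tt N18684 F238996) (tt N18714 F238997) (tt N22160 D54930) (tt N18683 (iv D53303)))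
theorem Q20535 : ∀ i, i < 20535 → P i := stepQ 20534 Q20534 (allL N20534 (tt N19653 F238998) (tt N22060 (iv F245850)) (tt N18688 F238999) (tt N21737 (iv F243870)) (tt N18726 F239000) (tt N18685 F239001) (tt N22160 (iv F246436)) (tt N22047 (iv F245761)) (tt N18684 (iv D53304)) (tt N19694 F239002))
theorem Q20536 : ∀ i, i < 20536 → P i := stepQ 20535 Q20535 (allL N20535 (tt N19640 F239003) (tt N19695 F239004) (tt N18869 F239005) (tt N19639 F239006) (tt N18686 (iv D53305)) (tt N21769 (iv F244094)) (tt N22156 (iv F246415)) (tt N22055 (iv F245817)) (tt N18706 F239007) (tt N22140 (iv F246329)))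
theorem Q20537 : ∀ i, i < 20537 → P i := stepQ 20536 Q20536 (allL N20536 (tt N19682 F239008) (tt N18768 F239009) (tt N22160 (iv F246434)) (tt N22161 D54931) (tt N18724 F239010) (tt N22157 (iv F246420)) (tt N18688 F239011) (tt N19684 F239012) (tt N18687 (iv D53306)) (tt N22141 (iv F246337)))
theorem Q20538 : ∀ i, i < 20538 → P i := stepQ 20537 Q20537 (allL N20537 (tt N21744 (iv F243919)) (tt N18774 F239013) (tt N19699 (iv F239017)) (tt N18688 (iv D53307)) (tt N19698 F239014) (tt N18689 F239015) (tt N22161 (iv F246442)) (tt N22056 (iv F245825)) (tt N18694 F239016) (tt N22142 (iv F246344)))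
theorem Q20539 : ∀ i, i < 20539 → P i := stepQ 20538 Q20538 (allL N20538 (tt N19615 F239018) (tt N19702 (iv F239023)) (tt N18689 (iv D53308)) (tt N19613 F239019) (tt N18873 F239020) (tt N19699 F239021) (tt N22159 (iv F246428)) (tt N22057 (iv F245832)) (tt N18695 F239022) (tt N22143 (iv F246350)))
theorem Q20540 : ∀ i, i < 20540 → P i := stepQ 20539 Q20539 (allL N20539 (tt N19704 F239024) (tt N18778 F239025) (tt N19720 F239026) (tt N22162 D54932) (tt N18986 F239027) (tt N18693 F239028) (tt N18691 F239029) (tt N19706 F239030) (tt N18690 (iv D53309)) (tt N20539 F239031))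
theorem Q20541 : ∀ i, i < 20541 → P i := stepQ 20540 Q20540 (allL N20540 (tt N22117 (iv F246205)) (tt N21740 (iv F243891)) (tt N22163 D54933) (tt N18691 (iv D53310)) (tt N22164 D54934) (tt N18692 F239032) (tt N22162 (iv F246450)) (tt N22118 (iv F246217)) (tt N22158 (iv F246424)) (tt N20540 F239033))
theorem Q20542 : ∀ i, i < 20542 → P i := stepQ 20541 Q20541 (allL N20541 (tt N18897 F239034) (tt N19719 (iv F239040)) (tt N18692 (iv D53311)) (tt N18789 F239035) (tt N18879 F239036) (tt N22163 (iv F246455)) (tt N18695 F239037) (tt N18792 F239038) (tt N22159 (iv F246430)) (tt N20541 F239039))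
theorem Q20543 : ∀ i, i < 20543 → P i := stepQ 20542 Q20542 (allL N20542 (tt N19714 F239041) (tt N18779 F239042) (tt N19717 F239043) (tt N18693 (iv D53312)) (tt N19716 F239044) (tt N22162 (iv F246449)) (tt N18694 F239045) (tt N19715 F239046) (tt N22161 (iv F246444)) (tt N20542 F239047))
theorem Q20544 : ∀ i, i < 20544 → P i := stepQ 20543 Q20543 (allL N20543 (tt N19956 F239048) (tt N18701 F239049) (tt N18709 F239050) (tt N22165 D54935) (tt N21904 (iv F244947)) (tt N18703 F239051) (tt N18885 F239052) (tt N19703 F239053) (tt N18698 (iv D53313)) (tt N20543 F239054))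
theorem Q20545 : ∀ i, i < 20545 → P i := stepQ 20544 Q20544 (allL N20544 (tt N18969 F239055) (tt N21899 (iv F244913)) (tt N18992 F239056) (tt N18700 F239057) (tt N22149 (iv F246381)) (tt N18925 F239058) (tt N19619 F239059) (tt N18927 F239060) (tt N22166 D54936) (tt N18699 (iv D53314)))
theorem Q20546 : ∀ i, i < 20546 → P i := stepQ 20545 Q20545 (allL N20545 (tt N18983 F239061) (tt N21904 (iv F244945)) (tt N18702 F239062) (tt N22167 D54937) (tt N18701 F239063) (tt N18930 F239064) (tt N19620 F239065) (tt N18931 F239066) (tt N18700 (iv D53315)) (tt N20545 F239067))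
theorem Q20547 : ∀ i, i < 20547 → P i := stepQ 20546 Q20546 (allL N20546 (tt N22118 (iv F246212)) (tt N22165 (iv F246464)) (tt N18895 F239068) (tt N18701 (iv D53316)) (tt N22168 D54938) (tt N18704 F239069) (tt N19621 F239070) (tt N22117 (iv F246210)) (tt N22151 (iv F246391)) (tt N20546 F239071))
theorem Q20548 : ∀ i, i < 20548 → P i := stepQ 20547 Q20547 (allL N20547 (tt N19717 F239072) (tt N18704 F239073) (tt N19714 F239074) (tt N18703 (iv D53317)) (tt N19715 F239075) (tt N22165 (iv F246466)) (tt N18705 F239076) (tt N19716 F239077) (tt N22155 (iv F246410)) (tt N20547 F239078))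
theorem Q20549 : ∀ i, i < 20549 → P i := stepQ 20548 Q20548 (allL N20548 (tt N18875 F239079) (tt N19715 F239080) (tt N18900 F239081) (tt N18777 F239082) (tt N18704 (iv D53318)) (tt N22169 D54939) (tt N18706 F239083) (tt N18779 F239084) (tt N22156 (iv F246417)) (tt N20548 F239085))
theorem Q20550 : ∀ i, i < 20550 → P i := stepQ 20549 Q20549 (allL N20549 (tt N18709 F239086) (tt N20549 F239087) (tt N19956 F239088) (tt N19720 F239089) (tt N21702 (iv F243612)) (tt N18710 F239090) (tt N18784 F239091) (tt N19642 F239092) (tt N18707 (iv D53319)) (tt N20549 F239093))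
theorem Q20551 : ∀ i, i < 20551 → P i := stepQ 20550 Q20550 (allL N20550 (tt N19298 F239094) (tt N18733 F239095) (tt N19666 F239096) (tt N19722 F239097) (tt N18711 (iv D53320)) (tt N22131 (iv F246287)) (tt N19579 F239098) (tt N22106 (iv F246142)) (tt N18719 F239099) (tt N22170 D54940))
theorem Q20552 : ∀ i, i < 20552 → P i := stepQ 20551 Q20551 (allL N20551 (tt N19299 F239100) (tt N18734 F239101) (tt N19667 F239102) (tt N18712 F239103) (tt N22170 (iv F246495)) (tt N18714 F239104) (tt N19580 F239105) (tt N22107 (iv F246150)) (tt N22171 D54941) (tt N18711 (iv D53321)))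
theorem Q20553 : ∀ i, i < 20553 → P i := stepQ 20552 Q20552 (allL N20552 (tt N19311 F239106) (tt N18742 F239107) (tt N19684 F239108) (tt N21766 (iv F244072)) (tt N22141 (iv F246334)) (tt N22171 (iv F246501)) (tt N18715 F239109) (tt N22160 (iv F246437)) (tt N18714 (iv D53322)) (tt N18724 F239110))
theorem Q20554 : ∀ i, i < 20554 → P i := stepQ 20553 Q20553 (allL N20553 (tt N19669 F239111) (tt N18750 F239112) (tt N22131 (iv F246284)) (tt N19002 F239113) (tt N18716 (iv D53323)) (tt N19666 F239114) (tt N22093 (iv F246051)) (tt N18719 F239115) (tt N22106 (iv F246143)) (tt N22172 D54942))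
theorem Q20555 : ∀ i, i < 20555 → P i := stepQ 20554 Q20554 (allL N20554 (tt N19685 F239116) (tt N18751 F239117) (tt N22136 (iv F246306)) (tt N18717 F239118) (tt N22172 (iv F246507)) (tt N18721 F239119) (tt N22094 (iv F246059)) (tt N18720 F239120) (tt N22173 D54943) (tt N18716 (iv D53324)))
theorem Q20556 : ∀ i, i < 20556 → P i := stepQ 20555 Q20555 (allL N20555 (tt N18813 F239121) (tt N18718 (iv D53325)) (tt N18752 F239122) (tt N20555 F239123) (tt N22174 D54944) (tt N18722 F239124) (tt N18846 F239125) (tt N18740 F239126) (tt N18759 F239127) (tt N22175 D54945))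
theorem Q20557 : ∀ i, i < 20557 → P i := stepQ 20556 Q20556 (allL N20556 (tt N19645 F239128) (tt N22174 (iv F246515)) (tt N18719 F239129) (tt N22176 D54946) (tt N18718 (iv D53326)) (tt N22106 (iv F246140)) (tt N19604 F239130) (tt N22131 (iv F246288)) (tt N19666 F239131) (tt N22177 D54947))
theorem Q20558 : ∀ i, i < 20558 → P i := stepQ 20557 Q20557 (allL N20557 (tt N19646 F239132) (tt N22175 (iv F246522)) (tt N18720 F239133) (tt N20557 F239134) (tt N22177 (iv F246537)) (tt N18723 F239135) (tt N19609 F239136) (tt N22136 (iv F246310)) (tt N22178 D54948) (tt N18718 (iv D53327)))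
theorem Q20559 : ∀ i, i < 20559 → P i := stepQ 20558 Q20558 (allL N20558 (tt N21742 (iv F243903)) (tt N18756 F239137) (tt N22177 (iv F246536)) (tt N19006 F239138) (tt N18720 F239139) (tt N22152 (iv F246396)) (tt N19607 F239140) (tt N22172 (iv F246509)) (tt N22179 D54949) (tt N18719 (iv D53328)))
theorem Q20560 : ∀ i, i < 20560 → P i := stepQ 20559 Q20559 (allL N20559 (tt N21743 (iv F243911)) (tt N18757 F239141) (tt N22178 (iv F246540)) (tt N22091 (iv F246036)) (tt N22179 (iv F246545)) (tt N18724 F239142) (tt N19612 F239143) (tt N22173 (iv F246513)) (tt N18720 (iv D53329)) (tt N22171 (iv F246503)))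
theorem Q20561 : ∀ i, i < 20561 → P i := stepQ 20560 Q20560 (allL N20560 (tt N19686 F239144) (tt N18761 F239145) (tt N22141 (iv F246333)) (tt N22092 (iv F246042)) (tt N19684 F239146) (tt N22173 (iv F246512)) (tt N19694 F239147) (tt N18724 F239148) (tt N18721 (iv D53330)) (tt N22160 (iv F246438)))
theorem Q20562 : ∀ i, i < 20562 → P i := stepQ 20561 Q20561 (allL N20561 (tt N18814 F239149) (tt N18723 F239150) (tt N18763 F239151) (tt N20561 F239152) (tt N18736 F239153) (tt N22175 (iv F246525)) (tt N18725 F239154) (tt N18741 F239155) (tt N22180 D54950) (tt N18722 (iv D53331)))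
theorem Q20563 : ∀ i, i < 20563 → P i := stepQ 20562 Q20562 (allL N20562 (tt N19651 F239156) (tt N22180 (iv F246548)) (tt N18724 F239157) (tt N22181 D54951) (tt N22160 (iv F246435)) (tt N22178 (iv F246541)) (tt N18726 F239158) (tt N22141 (iv F246336)) (tt N18723 (iv D53332)) (tt N19684 F239159))
theorem Q20564 : ∀ i, i < 20564 → P i := stepQ 20563 Q20563 (allL N20563 (tt N19629 F239160) (tt N18726 F239161) (tt N18771 F239162) (tt N22140 (iv F246327)) (tt N22060 (iv F245853)) (tt N19614 F239163) (tt N22180 (iv F246551)) (tt N22058 (iv F245841)) (tt N18725 (iv D53333)) (tt N19639 F239164))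
theorem Q20565 : ∀ i, i < 20565 → P i := stepQ 20564 Q20564 (allL N20564 (tt N19654 F239165) (tt N22140 (iv F246325)) (tt N21755 (iv F244002)) (tt N18726 (iv D53334)) (tt N22139 (iv F246320)) (tt N19616 F239166) (tt N22181 (iv F246555)) (tt N22059 (iv F245846)) (tt N20564 F239167) (tt N19695 F239168))
theorem Q20566 : ∀ i, i < 20566 → P i := stepQ 20565 Q20565 (allL N20565 (tt N18796 F239169) (tt N18918 F239170) (tt N19534 F239175) (tt N18727 (iv D53335)) (tt N22182 D54952) (tt N20565 F239171) (tt N18908 F239172) (tt N18728 F239173) (tt N19012 F239174) (tt N22183 D54953))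
theorem Q20567 : ∀ i, i < 20567 → P i := stepQ 20566 Q20566 (allL N20566 (tt N18797 F239176) (tt N18919 F239177) (tt N20566 F239178) (tt N22183 (iv F246568)) (tt N18731 F239179) (tt N20566 F239180) (tt N18909 F239181) (tt N18729 F239182) (tt N19000 F239183) (tt N18727 (iv D53336)))
theorem Q20568 : ∀ i, i < 20568 → P i := stepQ 20567 Q20567 (allL N20567 (tt N18798 F239184) (tt N19529 F239185) (tt N18728 (iv D53337)) (tt N20567 F239186) (tt N22184 D54954) (tt N20567 F239187) (tt N19394 F239188) (tt N19534 F239189) (tt N19014 F239190) (tt N22185 D54955))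
theorem Q20569 : ∀ i, i < 20569 → P i := stepQ 20568 Q20568 (allL N20568 (tt N18799 F239191) (tt N19722 F239192) (tt N22184 (iv F246574)) (tt N18733 F239193) (tt N18728 (iv D53338)) (tt N22186 D54956) (tt N19382 F239194) (tt N22182 (iv F246563)) (tt N19015 F239195) (tt N22187 D54957))
theorem Q20570 : ∀ i, i < 20570 → P i := stepQ 20569 Q20569 (allL N20569 (tt N18800 F239196) (tt N19723 F239197) (tt N22185 (iv F246580)) (tt N18729 F239198) (tt N22187 (iv F246594)) (tt N20569 F239199) (tt N19397 F239200) (tt N22183 (iv F246571)) (tt N22188 D54958) (tt N18728 (iv D53339)))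
theorem Q20571 : ∀ i, i < 20571 → P i := stepQ 20570 Q20570 (allL N20570 (tt N18803 F239201) (tt N18764 F239202) (tt N18730 (iv D53340)) (tt N20570 F239203) (tt N22189 D54959) (tt N18735 F239204) (tt N21730 (iv F243827)) (tt N18732 F239205) (tt N18749 F239206) (tt N22190 D54960))
theorem Q20572 : ∀ i, i < 20572 → P i := stepQ 20571 Q20571 (allL N20571 (tt N18804 F239207) (tt N22106 (iv F246137)) (tt N22189 (iv F246604)) (tt N22182 (iv F246561)) (tt N18730 (iv D53341)) (tt N22174 (iv F246517)) (tt N22088 (iv F246018)) (tt N18733 F239208) (tt N18750 F239209) (tt N22191 D54961))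
theorem Q20573 : ∀ i, i < 20573 → P i := stepQ 20572 Q20572 (allL N20572 (tt N18805 F239210) (tt N22107 (iv F246145)) (tt N22190 (iv F246612)) (tt N18731 F239211) (tt N22191 (iv F246617)) (tt N18736 F239212) (tt N22089 (iv F246025)) (tt N18734 F239213) (tt N22192 D54962) (tt N18730 (iv D53342)))
theorem Q20574 : ∀ i, i < 20574 → P i := stepQ 20573 Q20573 (allL N20573 (tt N18846 F239214) (tt N18732 (iv D53343)) (tt N18759 F239215) (tt N20573 F239216) (tt N22193 D54963) (tt N18737 F239217) (tt N18813 F239218) (tt N18764 F239219) (tt N18752 F239220) (tt N22194 D54964))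
theorem Q20575 : ∀ i, i < 20575 → P i := stepQ 20574 Q20574 (allL N20574 (tt N18807 F239221) (tt N22193 (iv F246624)) (tt N18733 F239222) (tt N22195 D54965) (tt N18732 (iv D53344)) (tt N22196 D54966) (tt N19624 F239223) (tt N22189 (iv F246607)) (tt N18753 F239224) (tt N22197 D54967))
theorem Q20576 : ∀ i, i < 20576 → P i := stepQ 20575 Q20575 (allL N20575 (tt N18808 F239225) (tt N22194 (iv F246631)) (tt N18734 F239226) (tt N20575 F239227) (tt N22197 (iv F246652)) (tt N18739 F239228) (tt N19625 F239229) (tt N22190 (iv F246615)) (tt N22198 D54968) (tt N18732 (iv D53345)))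
theorem Q20577 : ∀ i, i < 20577 → P i := stepQ 20576 Q20576 (allL N20576 (tt N18809 F239230) (tt N22131 (iv F246283)) (tt N22196 (iv F246644)) (tt N22186 (iv F246587)) (tt N18740 F239231) (tt N18733 (iv D53346)) (tt N21713 (iv F243704)) (tt N22174 (iv F246519)) (tt N18755 F239232) (tt N22199 D54969))
theorem Q20578 : ∀ i, i < 20578 → P i := stepQ 20577 Q20577 (allL N20577 (tt N18810 F239233) (tt N22170 (iv F246492)) (tt N22197 (iv F246651)) (tt N22187 (iv F246593)) (tt N18734 F239234) (tt N22199 (iv F246661)) (tt N19626 F239235) (tt N22191 (iv F246618)) (tt N22200 D54970) (tt N18733 (iv D53347)))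
theorem Q20579 : ∀ i, i < 20579 → P i := stepQ 20578 Q20578 (allL N20578 (tt N18811 F239236) (tt N22171 (iv F246498)) (tt N22198 (iv F246655)) (tt N22099 (iv F246090)) (tt N22200 (iv F246663)) (tt N18742 F239237) (tt N19627 F239238) (tt N22192 (iv F246621)) (tt N18734 (iv D53348)) (tt N18757 F239239))
theorem Q20580 : ∀ i, i < 20580 → P i := stepQ 20579 Q20579 (allL N20579 (tt N18812 F239240) (tt N18765 F239241) (tt N18736 F239242) (tt N20579 F239243) (tt N18763 F239244) (tt N22190 (iv F246614)) (tt N18770 F239245) (tt N18739 F239246) (tt N22201 D54971) (tt N18735 (iv D53349)))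
theorem Q20581 : ∀ i, i < 20581 → P i := stepQ 20580 Q20580 (allL N20580 (tt N18815 F239247) (tt N22160 (iv F246433)) (tt N22201 (iv F246668)) (tt N22100 (iv F246096)) (tt N22180 (iv F246550)) (tt N22192 (iv F246620)) (tt N22060 (iv F245855)) (tt N18742 F239248) (tt N18736 (iv D53350)) (tt N18761 F239249))
theorem Q20582 : ∀ i, i < 20582 → P i := stepQ 20581 Q20581 (allL N20581 (tt N18847 F239250) (tt N18739 F239251) (tt N18760 F239252) (tt N20581 F239253) (tt N18758 F239254) (tt N22194 (iv F246634)) (tt N18743 F239255) (tt N18765 F239256) (tt N22202 D54972) (tt N18737 (iv D53351)))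
theorem Q20583 : ∀ i, i < 20583 → P i := stepQ 20582 Q20582 (allL N20582 (tt N18817 F239257) (tt N18749 F239258) (tt N18740 F239259) (tt N18781 F239260) (tt N22196 (iv F246646)) (tt N18738 (iv D53352)) (tt N18859 F239261) (tt N18752 F239262) (tt N18764 F239263) (tt N22203 D54973))
theorem Q20584 : ∀ i, i < 20584 → P i := stepQ 20583 Q20583 (allL N20583 (tt N18818 F239264) (tt N18758 F239265) (tt N18741 F239266) (tt N18788 F239267) (tt N18739 F239268) (tt N22203 (iv F246684)) (tt N18744 F239269) (tt N18763 F239270) (tt N22204 D54974) (tt N18738 (iv D53353)))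
theorem Q20585 : ∀ i, i < 20585 → P i := stepQ 20584 Q20584 (allL N20584 (tt N18819 F239271) (tt N22202 (iv F246674)) (tt N18742 F239272) (tt N22205 D54975) (tt N22204 (iv F246691)) (tt N22198 (iv F246656)) (tt N18745 F239273) (tt N22201 (iv F246671)) (tt N18739 (iv D53354)) (tt N18766 F239274))
theorem Q20586 : ∀ i, i < 20586 → P i := stepQ 20585 Q20585 (allL N20585 (tt N18821 F239275) (tt N22136 (iv F246305)) (tt N22203 (iv F246682)) (tt N20585 F239276) (tt N22199 (iv F246660)) (tt N18741 F239277) (tt N21716 (iv F243727)) (tt N22175 (iv F246527)) (tt N22206 D54976) (tt N18740 (iv D53355)))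
theorem Q20587 : ∀ i, i < 20587 → P i := stepQ 20586 Q20586 (allL N20586 (tt N18822 F239278) (tt N22141 (iv F246332)) (tt N22204 (iv F246689)) (tt N22207 D54977) (tt N18742 F239279) (tt N22206 (iv F246700)) (tt N18746 F239280) (tt N22180 (iv F246552)) (tt N18741 (iv D53356)) (tt N18768 F239281))
theorem Q20588 : ∀ i, i < 20588 → P i := stepQ 20587 Q20587 (allL N20587 (tt N19614 F239282) (tt N18745 F239283) (tt N19639 F239284) (tt N22208 D54978) (tt N19613 F239285) (tt N19629 F239286) (tt N22202 (iv F246677)) (tt N22062 (iv F245872)) (tt N18743 (iv D53357)) (tt N18771 F239287))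
theorem Q20589 : ∀ i, i < 20589 → P i := stepQ 20588 Q20588 (allL N20588 (tt N18824 F239288) (tt N19613 F239289) (tt N18746 F239290) (tt N19702 F239291) (tt N18745 F239292) (tt N19701 F239293) (tt N22204 (iv F246692)) (tt N22063 (iv F245881)) (tt N18744 (iv D53358)) (tt N18772 F239294))
theorem Q20590 : ∀ i, i < 20590 → P i := stepQ 20589 Q20589 (allL N20589 (tt N18825 F239295) (tt N22208 (iv F246707)) (tt N22104 (iv F246124)) (tt N18745 (iv D53359)) (tt N22209 D54979) (tt N19630 F239296) (tt N22205 (iv F246696)) (tt N22064 (iv F245885)) (tt N20589 F239297) (tt N18773 F239298))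
theorem Q20591 : ∀ i, i < 20591 → P i := stepQ 20590 Q20590 (allL N20590 (tt N18828 F239299) (tt N22142 (iv F246339)) (tt N22210 D54980) (tt N18746 (iv D53360)) (tt N22105 (iv F246132)) (tt N21718 (iv F243740)) (tt N22207 (iv F246703)) (tt N22065 (iv F245889)) (tt N20590 F239300) (tt N18774 F239301))
theorem Q20592 : ∀ i, i < 20592 → P i := stepQ 20591 Q20591 (allL N20591 (tt N18829 F239302) (tt N22093 (iv F246047)) (tt N21758 (iv F244024)) (tt N19031 F239303) (tt N18747 (iv D53361)) (tt N22126 (iv F246258)) (tt N18750 F239304) (tt N19631 F239305) (tt N22088 (iv F246020)) (tt N22211 D54981))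
theorem Q20593 : ∀ i, i < 20593 → P i := stepQ 20592 Q20592 (allL N20592 (tt N18830 F239306) (tt N22094 (iv F246055)) (tt N21762 (iv F244048)) (tt N18748 F239307) (tt N22211 (iv F246729)) (tt N21729 (iv F243819)) (tt N18751 F239308) (tt N19632 F239309) (tt N22212 D54982) (tt N18747 (iv D53362)))
theorem Q20594 : ∀ i, i < 20594 → P i := stepQ 20593 Q20593 (allL N20593 (tt N18831 F239310) (tt N22196 (iv F246643)) (tt N18750 F239311) (tt N21971 (iv F245332)) (tt N18749 (iv D53363)) (tt N22193 (iv F246626)) (tt N21758 (iv F244028)) (tt N18753 F239312) (tt N22189 (iv F246608)) (tt N22213 D54983))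
theorem Q20595 : ∀ i, i < 20595 → P i := stepQ 20594 Q20594 (allL N20594 (tt N18832 F239313) (tt N22203 (iv F246681)) (tt N18751 F239314) (tt N18782 F239315) (tt N22213 (iv F246737)) (tt N18758 F239316) (tt N21762 (iv F244051)) (tt N18754 F239317) (tt N22214 D54984) (tt N18749 (iv D53364)))
theorem Q20596 : ∀ i, i < 20596 → P i := stepQ 20595 Q20595 (allL N20595 (tt N18833 F239318) (tt N19666 F239319) (tt N22193 (iv F246625)) (tt N19035 F239320) (tt N18759 F239321) (tt N18750 (iv D53365)) (tt N22215 D54985) (tt N18755 F239322) (tt N22174 (iv F246520)) (tt N22216 D54986))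
theorem Q20597 : ∀ i, i < 20597 → P i := stepQ 20596 Q20596 (allL N20596 (tt N18834 F239323) (tt N22172 (iv F246505)) (tt N22213 (iv F246736)) (tt N19036 F239324) (tt N18751 F239325) (tt N22216 (iv F246755)) (tt N22211 (iv F246730)) (tt N18756 F239326) (tt N22217 D54987) (tt N18750 (iv D53366)))
theorem Q20598 : ∀ i, i < 20598 → P i := stepQ 20597 Q20597 (allL N20597 (tt N18835 F239327) (tt N22173 (iv F246511)) (tt N22214 (iv F246740)) (tt N22109 (iv F246159)) (tt N22217 (iv F246758)) (tt N18761 F239328) (tt N22212 (iv F246733)) (tt N18757 F239329) (tt N18751 (iv D53367)) (tt N22192 (iv F246622)))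
theorem Q20599 : ∀ i, i < 20599 → P i := stepQ 20598 Q20598 (allL N20598 (tt N18752 (iv D53368)) (tt N18836 F239330) (tt N18813 F239331) (tt N18775 F239332) (tt N22215 (iv F246747)) (tt N18762 F239333) (tt N18759 F239334) (tt N18817 F239335) (tt N18846 F239336) (tt N22218 D54988))
theorem Q20600 : ∀ i, i < 20600 → P i := stepQ 20599 Q20599 (allL N20599 (tt N22215 (iv F246743)) (tt N18753 F239337) (tt N22174 (iv F246516)) (tt N19140 F239338) (tt N18752 (iv D53369)) (tt N22189 (iv F246605)) (tt N18833 F239339) (tt N22196 (iv F246648)) (tt N22193 (iv F246629)) (tt N22219 D54989))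
theorem Q20601 : ∀ i, i < 20601 → P i := stepQ 20600 Q20600 (allL N20600 (tt N22218 (iv F246760)) (tt N18754 F239340) (tt N22175 (iv F246523)) (tt N18785 F239341) (tt N22219 (iv F246769)) (tt N18763 F239342) (tt N18849 F239343) (tt N22203 (iv F246686)) (tt N22220 D54990) (tt N18752 (iv D53370)))
theorem Q20602 : ∀ i, i < 20602 → P i := stepQ 20601 Q20601 (allL N20601 (tt N18840 F239344) (tt N22189 (iv F246603)) (tt N18755 F239345) (tt N21962 (iv F245284)) (tt N18764 F239346) (tt N18753 (iv D53371)) (tt N21722 (iv F243771)) (tt N22193 (iv F246628)) (tt N22196 (iv F246649)) (tt N22221 D54991))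
theorem Q20603 : ∀ i, i < 20603 → P i := stepQ 20602 Q20602 (allL N20602 (tt N18841 F239347) (tt N22219 (iv F246767)) (tt N18756 F239348) (tt N21972 (iv F245339)) (tt N18754 F239349) (tt N22221 (iv F246777)) (tt N19635 F239350) (tt N22213 (iv F246738)) (tt N22222 D54992) (tt N18753 (iv D53372)))
theorem Q20604 : ∀ i, i < 20604 → P i := stepQ 20603 Q20603 (allL N20603 (tt N18842 F239351) (tt N22220 (iv F246771)) (tt N18757 F239352) (tt N22223 D54993) (tt N22222 (iv F246780)) (tt N18766 F239353) (tt N19636 F239354) (tt N22214 (iv F246742)) (tt N18754 (iv D53373)) (tt N22198 (iv F246658)))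
theorem Q20605 : ∀ i, i < 20605 → P i := stepQ 20604 Q20604 (allL N20604 (tt N18844 F239355) (tt N22152 (iv F246393)) (tt N22221 (iv F246775)) (tt N19044 F239356) (tt N18767 F239357) (tt N18756 F239358) (tt N21725 (iv F243794)) (tt N22216 (iv F246756)) (tt N22224 D54994) (tt N18755 (iv D53374)))
theorem Q20606 : ∀ i, i < 20606 → P i := stepQ 20605 Q20605 (allL N20605 (tt N18845 F239359) (tt N22179 (iv F246544)) (tt N22222 (iv F246779)) (tt N22225 D54995) (tt N18757 F239360) (tt N22224 (iv F246788)) (tt N19637 F239361) (tt N22217 (iv F246759)) (tt N18756 (iv D53375)) (tt N22200 (iv F246665)))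
theorem Q20607 : ∀ i, i < 20607 → P i := stepQ 20606 Q20606 (allL N20606 (tt N18848 F239362) (tt N22204 (iv F246688)) (tt N18761 F239363) (tt N22159 (iv F246426)) (tt N22202 (iv F246676)) (tt N22214 (iv F246741)) (tt N19613 F239364) (tt N18766 F239365) (tt N18758 (iv D53376)) (tt N22201 (iv F246672)))
theorem Q20608 : ∀ i, i < 20608 → P i := stepQ 20607 Q20607 (allL N20607 (tt N18849 F239366) (tt N19667 F239367) (tt N22194 (iv F246632)) (tt N18776 F239368) (tt N22216 (iv F246754)) (tt N18760 F239369) (tt N22218 (iv F246765)) (tt N18767 F239370) (tt N22226 D54996) (tt N18759 (iv D53377)))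
theorem Q20609 : ∀ i, i < 20609 → P i := stepQ 20608 Q20608 (allL N20608 (tt N18850 F239371) (tt N19684 F239372) (tt N22202 (iv F246675)) (tt N22156 (iv F246414)) (tt N18761 F239373) (tt N22226 (iv F246794)) (tt N19639 F239374) (tt N18768 F239375) (tt N18760 (iv D53378)) (tt N22180 (iv F246553)))
theorem Q20610 : ∀ i, i < 20610 → P i := stepQ 20609 Q20609 (allL N20609 (tt N18763 F239376) (tt N18851 F239377) (tt N18814 F239378) (tt N18790 F239379) (tt N18812 F239380) (tt N22218 (iv F246764)) (tt N18769 F239381) (tt N18818 F239382) (tt N22227 D54997) (tt N18762 (iv D53379)))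
theorem Q20611 : ∀ i, i < 20611 → P i := stepQ 20610 Q20610 (allL N20610 (tt N22227 (iv F246796)) (tt N18766 F239383) (tt N22180 (iv F246549)) (tt N22228 D54998) (tt N22201 (iv F246669)) (tt N22220 (iv F246772)) (tt N18771 F239384) (tt N22204 (iv F246693)) (tt N18763 (iv D53380)) (tt N22202 (iv F246679)))
theorem Q20612 : ∀ i, i < 20612 → P i := stepQ 20611 Q20611 (allL N20611 (tt N18856 F239385) (tt N22190 (iv F246611)) (tt N18767 F239386) (tt N20611 F239387) (tt N22221 (iv F246776)) (tt N18765 F239388) (tt N21733 (iv F243848)) (tt N22194 (iv F246636)) (tt N22229 D54999) (tt N18764 (iv D53381)))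
theorem Q20613 : ∀ i, i < 20613 → P i := stepQ 20612 Q20612 (allL N20612 (tt N18857 F239389) (tt N22201 (iv F246667)) (tt N18768 F239390) (tt N22230 D55000) (tt N18766 F239391) (tt N22229 (iv F246809)) (tt N18772 F239392) (tt N22202 (iv F246678)) (tt N18765 (iv D53382)) (tt N22204 (iv F246694)))
theorem Q20614 : ∀ i, i < 20614 → P i := stepQ 20613 Q20613 (allL N20613 (tt N18858 F239393) (tt N22228 (iv F246803)) (tt N22114 (iv F246187)) (tt N18766 (iv D53383)) (tt N22231 D55001) (tt N22223 (iv F246783)) (tt N18773 F239394) (tt N22159 (iv F246429)) (tt N18792 F239395) (tt N22205 (iv F246698)))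
theorem Q20615 : ∀ i, i < 20615 → P i := stepQ 20614 Q20614 (allL N20614 (tt N18861 F239396) (tt N22157 (iv F246419)) (tt N22229 (iv F246808)) (tt N22232 D55002) (tt N22224 (iv F246787)) (tt N18768 F239397) (tt N21735 (iv F243860)) (tt N22226 (iv F246795)) (tt N18767 (iv D53384)) (tt N22206 (iv F246701)))
theorem Q20616 : ∀ i, i < 20616 → P i := stepQ 20615 Q20615 (allL N20615 (tt N18862 F239398) (tt N22161 (iv F246440)) (tt N22233 D55003) (tt N18768 (iv D53385)) (tt N22116 (iv F246201)) (tt N22232 (iv F246820)) (tt N18774 F239399) (tt N22156 (iv F246416)) (tt N18779 F239400) (tt N22207 (iv F246705)))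
theorem Q20617 : ∀ i, i < 20617 → P i := stepQ 20616 Q20616 (allL N20616 (tt N18771 F239401) (tt N18863 F239402) (tt N19629 F239403) (tt N21769 (iv F244092)) (tt N19599 F239404) (tt N19639 F239405) (tt N22227 (iv F246800)) (tt N22066 (iv F245898)) (tt N18769 (iv D53386)) (tt N19614 F239406))
theorem Q20618 : ∀ i, i < 20618 → P i := stepQ 20617 Q20617 (allL N20617 (tt N19599 F239407) (tt N18772 F239408) (tt N22060 (iv F245851)) (tt N22143 (iv F246346)) (tt N18771 F239409) (tt N21738 (iv F243879)) (tt N22201 (iv F246670)) (tt N22061 (iv F245864)) (tt N18770 (iv D53387)) (tt N19613 F239410))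
theorem Q20619 : ∀ i, i < 20619 → P i := stepQ 20618 Q20618 (allL N20618 (tt N21769 (iv F244090)) (tt N18773 F239411) (tt N22234 D55004) (tt N18771 (iv D53388)) (tt N22235 D55005) (tt N19640 F239412) (tt N22228 (iv F246804)) (tt N22067 (iv F245903)) (tt N18794 F239413) (tt N22208 (iv F246712)))
theorem Q20620 : ∀ i, i < 20620 → P i := stepQ 20619 Q20619 (allL N20619 (tt N18868 F239414) (tt N22143 F246351) (tt N22236 D55006) (tt N18772 (iv D53389)) (tt N22237 D55007) (tt N19655 F239415) (tt N22230 (iv F246811)) (tt N22068 (iv F245907)) (tt N20619 F239416) (tt N19702 F239417))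
theorem Q20621 : ∀ i, i < 20621 → P i := stepQ 20620 Q20620 (allL N20620 (tt N18869 F239418) (tt N22235 (iv F246836)) (tt N19640 F239419) (tt N22237 (iv F246852)) (tt N18773 (iv D53390)) (tt N22234 (iv F246831)) (tt N22231 (iv F246816)) (tt N22069 (iv F245913)) (tt N18795 F239420) (tt N22209 (iv F246719)))
theorem Q20622 : ∀ i, i < 20622 → P i := stepQ 20621 Q20621 (allL N20621 (tt N18873 F239421) (tt N19617 F239422) (tt N18774 (iv D53391)) (tt N22236 (iv F246844)) (tt N19615 F239423) (tt N21739 (iv F243887)) (tt N22233 (iv F246825)) (tt N22070 (iv F245919)) (tt N18780 F239424) (tt N22210 (iv F246726)))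
theorem Q20623 : ∀ i, i < 20623 → P i := stepQ 20622 Q20622 (allL N20622 (tt N18785 F239425) (tt N18888 F239426) (tt N20622 F239427) (tt N22218 (iv F246763)) (tt N19059 F239428) (tt N18790 F239429) (tt N18776 F239430) (tt N19588 F239431) (tt N22238 D55008) (tt N18775 (iv D53392)))
theorem Q20624 : ∀ i, i < 20624 → P i := stepQ 20623 Q20623 (allL N20623 (tt N18874 F239432) (tt N19706 F239433) (tt N20623 F239434) (tt N22169 (iv F246488)) (tt N19060 F239435) (tt N18777 F239436) (tt N22238 (iv F246861)) (tt N18778 F239437) (tt N18776 (iv D53393)) (tt N20623 F239438))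
theorem Q20625 : ∀ i, i < 20625 → P i := stepQ 20624 Q20624 (allL N20624 (tt N18878 F239439) (tt N22162 (iv F246447)) (tt N22239 D55009) (tt N18778 (iv D53394)) (tt N22240 D55010) (tt N18779 F239440) (tt N21740 (iv F243893)) (tt N22169 (iv F246489)) (tt N22232 (iv F246821)) (tt N20624 F239441))
theorem Q20626 : ∀ i, i < 20626 → P i := stepQ 20625 Q20625 (allL N20625 (tt N18879 F239442) (tt N19622 F239443) (tt N18779 (iv D53395)) (tt N20625 F239444) (tt N18897 F239445) (tt N22239 (iv F246867)) (tt N18780 F239446) (tt N18900 F239447) (tt N22233 (iv F246827)) (tt N20625 F239448))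
theorem Q20627 : ∀ i, i < 20627 → P i := stepQ 20626 Q20626 (allL N20626 (tt N19588 F239449) (tt N18782 F239450) (tt N20626 F239451) (tt N22203 (iv F246683)) (tt N19199 F239452) (tt N18788 F239453) (tt N18876 F239454) (tt N18785 F239455) (tt N19957 (iv F239456)) (tt N18781 (iv D53396)))
theorem Q20628 : ∀ i, i < 20628 → P i := stepQ 20627 Q20627 (allL N20627 (tt N18885 F239457) (tt N19957 F239458) (tt N18784 F239459) (tt N22163 (iv F246454)) (tt N22015 (iv F245566)) (tt N18789 F239460) (tt N19956 F239461) (tt N18786 F239462) (tt N18782 (iv D53397)) (tt N20627 F239463))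
theorem Q20629 : ∀ i, i < 20629 → P i := stepQ 20628 Q20628 (allL N20628 (tt N18886 F239464) (tt N20628 F239465) (tt N22015 (iv F245565)) (tt N19936 F239466) (tt N18784 F239467) (tt N20628 F239468) (tt N21702 (iv F243614)) (tt N18787 F239469) (tt N18783 (iv D53398)) (tt N20628 F239470))
theorem Q20630 : ∀ i, i < 20630 → P i := stepQ 20629 Q20629 (allL N20629 (tt N22238 (iv F246856)) (tt N18786 F239471) (tt N20629 F239472) (tt N22241 D55011) (tt N19200 F239473) (tt N18791 F239474) (tt N18874 F239475) (tt N19957 F239476) (tt N18785 (iv D53399)) (tt N20629 F239477))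
theorem Q20631 : ∀ i, i < 20631 → P i := stepQ 20630 Q20630 (allL N20630 (tt N18895 F239478) (tt N22241 (iv F246873)) (tt N22118 (iv F246214)) (tt N18786 (iv D53400)) (tt N22242 D55012) (tt N18792 F239479) (tt N19643 F239480) (tt N22163 (iv F246457)) (tt N22223 (iv F246785)) (tt N20630 F239481))
theorem Q20632 : ∀ i, i < 20632 → P i := stepQ 20631 Q20631 (allL N20631 (tt N18791 F239482) (tt N18898 F239483) (tt N20631 F239484) (tt N21773 (iv F244117)) (tt N20631 F239485) (tt N22238 (iv F246860)) (tt N18793 F239486) (tt N19590 F239487) (tt N18790 (iv D53401)) (tt N20631 F239488))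
theorem Q20633 : ∀ i, i < 20633 → P i := stepQ 20632 Q20632 (allL N20632 (tt N21773 (iv F244115)) (tt N18792 F239489) (tt N22243 D55013) (tt N18791 (iv D53402)) (tt N22244 D55014) (tt N22241 (iv F246874)) (tt N18794 F239490) (tt N19719 F239491) (tt N22228 (iv F246806)) (tt N20632 F239492))
theorem Q20634 : ∀ i, i < 20634 → P i := stepQ 20633 Q20633 (allL N20633 (tt N18900 F239493) (tt N22244 (iv F246889)) (tt N18875 F239494) (tt N20633 F239495) (tt N18792 (iv D53403)) (tt N22245 D55015) (tt N18795 F239496) (tt N18879 F239497) (tt N22231 (iv F246818)) (tt N20633 F239498))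
theorem Q20635 : ∀ i, i < 20635 → P i := stepQ 20634 Q20634 (allL N20634 (tt N18882 F239499) (tt N19593 F239500) (tt N18794 (iv D53404)) (tt N20634 F239501) (tt N19592 (iv F239504)) (tt N18795 F239502) (tt N22243 (iv F246884)) (tt N22071 (iv F245926)) (tt N22234 (iv F246832)) (tt N20634 F239503))
theorem Q20636 : ∀ i, i < 20636 → P i := stepQ 20635 Q20635 (allL N20635 (tt N19623 F239505) (tt N18795 F239506) (tt N19592 F239507) (tt N20635 F239508) (tt N18794 (iv D53405)) (tt N19593 F239509) (tt N22244 (iv F246892)) (tt N22072 (iv F245935)) (tt N22235 (iv F246840)) (tt N20635 F239510))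
theorem Q20637 : ∀ i, i < 20637 → P i := stepQ 20636 Q20636 (allL N20636 (tt N19534 F239511) (tt N21915 (iv F245013)) (tt N18796 (iv D53406)) (tt N20636 F239512) (tt N22246 D55016) (tt N20636 F239513) (tt N19511 F239514) (tt N18798 F239515) (tt N19077 F239516) (tt N22247 D55017))
theorem Q20638 : ∀ i, i < 20638 → P i := stepQ 20637 Q20637 (allL N20637 (tt N22182 (iv F246558)) (tt N19873 F239517) (tt N22246 (iv F246901)) (tt N18804 F239518) (tt N18796 (iv D53407)) (tt N22248 D55018) (tt N19491 F239519) (tt N18799 F239520) (tt N19078 F239521) (tt N22249 D55019))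
theorem Q20639 : ∀ i, i < 20639 → P i := stepQ 20638 Q20638 (allL N20638 (tt N22183 (iv F246565)) (tt N19908 F239522) (tt N22247 (iv F246906)) (tt N18797 F239523) (tt N22249 (iv F246918)) (tt N20638 F239524) (tt N19516 F239525) (tt N18800 F239526) (tt N22250 D55020) (tt N18796 (iv D53408)))
theorem Q20640 : ∀ i, i < 20640 → P i := stepQ 20639 Q20639 (allL N20639 (tt N21909 (iv F244979)) (tt N18798 (iv D53409)) (tt N19416 F239527) (tt N20639 F239528) (tt N22251 D55021) (tt N20639 F239529) (tt N19497 F239530) (tt N21915 (iv F245018)) (tt N19080 F239531) (tt N22252 D55022))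
theorem Q20641 : ∀ i, i < 20641 → P i := stepQ 20640 Q20640 (allL N20640 (tt N22184 (iv F246572)) (tt N22251 (iv F246926)) (tt N18799 F239532) (tt N22253 D55023) (tt N18798 (iv D53410)) (tt N22254 D55024) (tt N19473 F239533) (tt N22246 (iv F246903)) (tt N19081 F239534) (tt N22255 D55025))
theorem Q20642 : ∀ i, i < 20642 → P i := stepQ 20641 Q20641 (allL N20641 (tt N22185 (iv F246578)) (tt N22252 (iv F246930)) (tt N18800 F239535) (tt N20641 F239536) (tt N22255 (iv F246943)) (tt N20641 F239537) (tt N19500 F239538) (tt N22247 (iv F246910)) (tt N22256 D55026) (tt N18798 (iv D53411)))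
theorem Q20643 : ∀ i, i < 20643 → P i := stepQ 20642 Q20642 (allL N20642 (tt N22186 (iv F246585)) (tt N19863 F239539) (tt N22254 (iv F246938)) (tt N18809 F239540) (tt N20642 F239541) (tt N18799 (iv D53412)) (tt N19467 F239542) (tt N22248 (iv F246914)) (tt N19083 F239543) (tt N22257 D55027))
theorem Q20644 : ∀ i, i < 20644 → P i := stepQ 20643 Q20643 (allL N20643 (tt N22187 (iv F246591)) (tt N19874 F239544) (tt N22255 (iv F246942)) (tt N18810 F239545) (tt N18800 F239546) (tt N22257 (iv F246952)) (tt N19476 F239547) (tt N22249 (iv F246920)) (tt N22258 D55028) (tt N18799 (iv D53413)))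
theorem Q20645 : ∀ i, i < 20645 → P i := stepQ 20644 Q20644 (allL N20644 (tt N22188 (iv F246596)) (tt N19909 F239548) (tt N22256 (iv F246945)) (tt N22123 (iv F246241)) (tt N22258 (iv F246955)) (tt N20644 F239549) (tt N19503 F239550) (tt N22250 (iv F246924)) (tt N18800 (iv D53414)) (tt N19085 F239551))
theorem Q20646 : ∀ i, i < 20646 → P i := stepQ 20645 Q20645 (allL N20645 (tt N22088 (iv F246013)) (tt N19678 F239552) (tt N22126 (iv F246257)) (tt N19491 F239553) (tt N18801 (iv D53415)) (tt N21758 (iv F244027)) (tt N18804 F239554) (tt N19304 F239555) (tt N18829 F239556) (tt N22259 D55029))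
theorem Q20647 : ∀ i, i < 20647 → P i := stepQ 20646 Q20646 (allL N20646 (tt N22089 (iv F246021)) (tt N19692 F239557) (tt N22127 (iv F246264)) (tt N18802 F239558) (tt N22259 (iv F246960)) (tt N19322 F239559) (tt N18805 F239560) (tt N19316 F239561) (tt N22260 D55030) (tt N18801 (iv D53416)))
theorem Q20648 : ∀ i, i < 20648 → P i := stepQ 20647 Q20647 (allL N20647 (tt N22189 (iv F246602)) (tt N19594 F239562) (tt N18804 F239563) (tt N22261 D55031) (tt N18803 (iv D53417)) (tt N22215 (iv F246748)) (tt N22126 (iv F246259)) (tt N18807 F239564) (tt N18831 F239565) (tt N22262 D55032))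
theorem Q20649 : ∀ i, i < 20649 → P i := stepQ 20648 Q20648 (allL N20648 (tt N22190 (iv F246610)) (tt N19595 F239566) (tt N18805 F239567) (tt N20648 F239568) (tt N22262 (iv F246977)) (tt N18812 F239569) (tt N22127 (iv F246267)) (tt N18808 F239570) (tt N22263 D55033) (tt N18803 (iv D53418)))
theorem Q20650 : ∀ i, i < 20650 → P i := stepQ 20649 Q20649 (allL N20649 (tt N22174 (iv F246514)) (tt N19624 F239571) (tt N22215 (iv F246745)) (tt N22248 (iv F246912)) (tt N18813 F239572) (tt N18804 (iv D53419)) (tt N22193 (iv F246627)) (tt N18809 F239573) (tt N18833 F239574) (tt N22264 D55034))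
theorem Q20651 : ∀ i, i < 20651 → P i := stepQ 20650 Q20650 (allL N20650 (tt N22191 (iv F246616)) (tt N21747 (iv F243945)) (tt N22262 (iv F246976)) (tt N22249 (iv F246917)) (tt N18805 F239575) (tt N22264 (iv F246986)) (tt N22259 (iv F246961)) (tt N18810 F239576) (tt N22265 D55035) (tt N18804 (iv D53420)))
theorem Q20652 : ∀ i, i < 20652 → P i := stepQ 20651 Q20651 (allL N20651 (tt N22192 (iv F246619)) (tt N21748 (iv F243953)) (tt N22263 (iv F246980)) (tt N22125 (iv F246250)) (tt N22265 (iv F246988)) (tt N18815 F239577) (tt N22260 (iv F246966)) (tt N18811 F239578) (tt N18805 (iv D53421)) (tt N18835 F239579))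
theorem Q20653 : ∀ i, i < 20653 → P i := stepQ 20652 Q20652 (allL N20652 (tt N19604 F239580) (tt N18807 F239581) (tt N19280 F239582) (tt N22266 D55036) (tt N18806 (iv D53422)) (tt N19581 F239583) (tt N19645 F239584) (tt N19594 F239585) (tt N18837 F239586) (tt N22267 D55037))
theorem Q20654 : ∀ i, i < 20654 → P i := stepQ 20653 Q20653 (allL N20653 (tt N19609 F239587) (tt N18808 F239588) (tt N19281 F239589) (tt N20653 F239590) (tt N22267 (iv F247001)) (tt N18816 F239591) (tt N19646 F239592) (tt N19595 F239593) (tt N22268 D55038) (tt N18806 (iv D53423)))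
theorem Q20655 : ∀ i, i < 20655 → P i := stepQ 20654 Q20654 (allL N20654 (tt N22195 (iv F246637)) (tt N22266 (iv F246992)) (tt N22253 (iv F246935)) (tt N18807 (iv D53424)) (tt N20654 F239594) (tt N21808 (iv F244344)) (tt N19647 F239595) (tt N22261 (iv F246974)) (tt N22269 D55039) (tt N22270 D55040))
theorem Q20656 : ∀ i, i < 20656 → P i := stepQ 20655 Q20655 (allL N20655 (tt N22196 (iv F246642)) (tt N19581 F239596) (tt N18809 F239597) (tt N21808 (iv F244342)) (tt N18817 F239598) (tt N18807 (iv D53425)) (tt N21719 (iv F243748)) (tt N22215 (iv F246749)) (tt N18840 F239599) (tt N22271 D55041))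
theorem Q20657 : ∀ i, i < 20657 → P i := stepQ 20656 Q20656 (allL N20656 (tt N22197 (iv F246650)) (tt N22267 (iv F246999)) (tt N18810 F239600) (tt N22270 (iv F247015)) (tt N18808 F239601) (tt N22271 (iv F247021)) (tt N19648 F239602) (tt N22262 (iv F246978)) (tt N22272 D55042) (tt N18807 (iv D53426)))
theorem Q20658 : ∀ i, i < 20658 → P i := stepQ 20657 Q20657 (allL N20657 (tt N22198 (iv F246654)) (tt N22268 (iv F247006)) (tt N18811 F239603) (tt N22273 D55043) (tt N22272 (iv F247023)) (tt N18819 F239604) (tt N19649 F239605) (tt N22263 (iv F246982)) (tt N18808 (iv D53427)) (tt N18842 F239606))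
theorem Q20659 : ∀ i, i < 20659 → P i := stepQ 20658 Q20658 (allL N20658 (tt N21713 (iv F243699)) (tt N19658 F239607) (tt N21719 (iv F243745)) (tt N19467 F239608) (tt N18820 F239609) (tt N19292 F239610) (tt N18809 (iv D53428)) (tt N21722 (iv F243772)) (tt N18843 F239611) (tt N22274 D55044))
theorem Q20660 : ∀ i, i < 20660 → P i := stepQ 20659 Q20659 (allL N20659 (tt N22199 (iv F246659)) (tt N21749 (iv F243961)) (tt N22271 (iv F247019)) (tt N22257 (iv F246950)) (tt N18821 F239612) (tt N18810 F239613) (tt N22274 (iv F247034)) (tt N22264 (iv F246987)) (tt N22275 D55045) (tt N18809 (iv D53429)))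
theorem Q20661 : ∀ i, i < 20661 → P i := stepQ 20660 Q20660 (allL N20660 (tt N22200 (iv F246662)) (tt N21750 (iv F243969)) (tt N22272 (iv F247022)) (tt N22276 D55046) (tt N18811 F239614) (tt N22275 (iv F247036)) (tt N19650 F239615) (tt N22265 (iv F246989)) (tt N18810 (iv D53430)) (tt N18845 F239616))
theorem Q20662 : ∀ i, i < 20662 → P i := stepQ 20661 Q20661 (allL N20661 (tt N22201 (iv F246666)) (tt N19598 F239617) (tt N18815 F239618) (tt N22277 D55047) (tt N22227 (iv F246799)) (tt N22263 (iv F246981)) (tt N19599 F239619) (tt N18819 F239620) (tt N18812 (iv D53431)) (tt N18848 F239621))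
theorem Q20663 : ∀ i, i < 20663 → P i := stepQ 20662 Q20662 (allL N20662 (tt N22175 (iv F246521)) (tt N19625 F239622) (tt N22218 (iv F246762)) (tt N20662 F239623) (tt N22264 (iv F246985)) (tt N18814 F239624) (tt N22194 (iv F246635)) (tt N18821 F239625) (tt N22278 D55048) (tt N18813 (iv D53432)))
theorem Q20664 : ∀ i, i < 20664 → P i := stepQ 20663 Q20663 (allL N20663 (tt N22180 (iv F246547)) (tt N19628 F239626) (tt N22227 (iv F246798)) (tt N22279 D55049) (tt N18815 F239627) (tt N22278 (iv F247046)) (tt N19629 F239628) (tt N18822 F239629) (tt N18814 (iv D53433)) (tt N18850 F239630))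
theorem Q20665 : ∀ i, i < 20665 → P i := stepQ 20664 Q20664 (allL N20664 (tt N19610 F239631) (tt N18819 F239632) (tt N19282 F239633) (tt N22280 D55050) (tt N19586 F239634) (tt N22268 (iv F247008)) (tt N18823 F239635) (tt N19598 F239636) (tt N18816 (iv D53434)) (tt N18854 F239637))
theorem Q20666 : ∀ i, i < 20666 → P i := stepQ 20665 Q20665 (allL N20665 (tt N22203 (iv F246680)) (tt N19582 F239638) (tt N18821 F239639) (tt N19588 F239640) (tt N22271 (iv F247020)) (tt N18818 F239641) (tt N21727 (iv F243804)) (tt N22218 (iv F246766)) (tt N22281 D55051) (tt N18817 (iv D53435)))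
theorem Q20667 : ∀ i, i < 20667 → P i := stepQ 20666 Q20666 (allL N20666 (tt N22204 (iv F246687)) (tt N19586 F239642) (tt N18822 F239643) (tt N22282 D55052) (tt N18819 F239644) (tt N22281 (iv F247063)) (tt N18824 F239645) (tt N22227 (iv F246801)) (tt N18818 (iv D53436)) (tt N18857 F239646))
theorem Q20668 : ∀ i, i < 20668 → P i := stepQ 20667 Q20667 (allL N20667 (tt N22205 (iv F246695)) (tt N22280 (iv F247055)) (tt N22135 (iv F246300)) (tt N18819 (iv D53437)) (tt N22283 D55053) (tt N22273 (iv F247026)) (tt N18825 F239647) (tt N22277 (iv F247042)) (tt N20667 F239648) (tt N18858 F239649))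
theorem Q20669 : ∀ i, i < 20669 → P i := stepQ 20668 Q20668 (allL N20668 (tt N21716 (iv F243722)) (tt N21751 (iv F243975)) (tt N21727 (iv F243801)) (tt N20668 F239650) (tt N22274 (iv F247032)) (tt N18826 F239651) (tt N18821 F239652) (tt N21733 (iv F243849)) (tt N22284 D55054) (tt N18820 (iv D53438)))
theorem Q20670 : ∀ i, i < 20670 → P i := stepQ 20669 Q20669 (allL N20669 (tt N22206 (iv F246699)) (tt N21752 (iv F243982)) (tt N22281 (iv F247062)) (tt N22285 D55055) (tt N22275 (iv F247035)) (tt N18822 F239653) (tt N22284 (iv F247074)) (tt N22278 (iv F247047)) (tt N18821 (iv D53439)) (tt N18861 F239654))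
theorem Q20671 : ∀ i, i < 20671 → P i := stepQ 20670 Q20670 (allL N20670 (tt N22207 (iv F246702)) (tt N21753 (iv F243988)) (tt N22286 D55056) (tt N18822 (iv D53440)) (tt N22138 (iv F246313)) (tt N22285 (iv F247076)) (tt N18828 F239655) (tt N22279 (iv F247051)) (tt N20670 F239656) (tt N18862 F239657))
theorem Q20672 : ∀ i, i < 20672 → P i := stepQ 20671 Q20671 (allL N20671 (tt N19616 F239658) (tt N18825 F239659) (tt N19321 F239660) (tt N18823 (iv D53441)) (tt N22287 D55057) (tt N19654 F239661) (tt N22280 (iv F247057)) (tt N22075 (iv F245952)) (tt N20671 F239662) (tt N18865 F239663))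
theorem Q20673 : ∀ i, i < 20673 → P i := stepQ 20672 Q20672 (allL N20672 (tt N19702 F239664) (tt N19587 F239665) (tt N22235 (iv F246837)) (tt N18824 (iv D53442)) (tt N22234 F246834) (tt N19641 F239666) (tt N22282 (iv F247067)) (tt N22076 (iv F245958)) (tt N19592 F239667) (tt N18868 F239668))
theorem Q20674 : ∀ i, i < 20674 → P i := stepQ 20673 Q20673 (allL N20673 (tt N22209 (iv F246713)) (tt N22287 (iv F247083)) (tt N22140 (iv F246326)) (tt N22234 (iv F246830)) (tt N18825 (iv D53443)) (tt N22237 (iv F246853)) (tt N22283 (iv F247070)) (tt N22077 (iv F245961)) (tt N20673 F239669) (tt N18869 F239670))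
theorem Q20675 : ∀ i, i < 20675 → P i := stepQ 20674 Q20674 (allL N20674 (tt N21717 (iv F243729)) (tt N21754 (iv F243995)) (tt N21728 (iv F243808)) (tt N22288 D55058) (tt N19315 F239671) (tt N22284 (iv F247073)) (tt N18827 F239672) (tt N21734 (iv F243854)) (tt N18826 (iv D53444)) (tt N18871 F239673))
theorem Q20676 : ∀ i, i < 20676 → P i := stepQ 20675 Q20675 (allL N20675 (tt N21718 (iv F243736)) (tt N21755 (iv F244001)) (tt N22287 (iv F247084)) (tt N18827 (iv D53445)) (tt N19321 F239674) (tt N18828 F239675) (tt N22288 (iv F247090)) (tt N22078 (iv F245968)) (tt N20675 F239676) (tt N18872 F239677))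
theorem Q20677 : ∀ i, i < 20677 → P i := stepQ 20676 Q20676 (allL N20676 (tt N22210 (iv F246720)) (tt N22237 (iv F246850)) (tt N18828 (iv D53446)) (tt N22235 (iv F246838)) (tt N22143 (iv F246347)) (tt N22287 (iv F247086)) (tt N22286 (iv F247079)) (tt N22079 (iv F245971)) (tt N20676 F239678) (tt N18873 F239679))
theorem Q20678 : ∀ i, i < 20678 → P i := stepQ 20677 Q20677 (allL N20677 (tt N22126 (iv F246255)) (tt N21722 (iv F243767)) (tt N22088 (iv F246015)) (tt N19130 F239680) (tt N21730 (iv F243826)) (tt N18829 (iv D53447)) (tt N22189 (iv F246606)) (tt N19658 F239681) (tt N21758 (iv F244029)) (tt N22289 D55059))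
theorem Q20679 : ∀ i, i < 20679 → P i := stepQ 20678 Q20678 (allL N20678 (tt N22211 (iv F246727)) (tt N21723 (iv F243775)) (tt N22147 (iv F246369)) (tt N19131 F239682) (tt N18830 F239683) (tt N22289 (iv F247095)) (tt N18834 F239684) (tt N19659 F239685) (tt N22290 D55060) (tt N18829 (iv D53448)))
theorem Q20680 : ∀ i, i < 20680 → P i := stepQ 20679 Q20679 (allL N20679 (tt N22212 (iv F246732)) (tt N21724 (iv F243782)) (tt N22148 (iv F246374)) (tt N22145 (iv F246361)) (tt N22290 (iv F247097)) (tt N21732 (iv F243840)) (tt N18835 F239686) (tt N19660 F239687) (tt N18830 (iv D53449)) (tt N22260 (iv F246968)))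
theorem Q20681 : ∀ i, i < 20681 → P i := stepQ 20680 Q20680 (allL N20680 (tt N21971 (iv F245329)) (tt N19603 F239688) (tt N19136 F239689) (tt N18831 (iv D53450)) (tt N18883 F239690) (tt N22291 D55061) (tt N21895 (iv F244895)) (tt N18839 F239691) (tt N22292 D55062) (tt N22293 D55063))
theorem Q20682 : ∀ i, i < 20682 → P i := stepQ 20681 Q20681 (allL N20681 (tt N22193 (iv F246623)) (tt N19604 F239692) (tt N18833 F239693) (tt N22291 (iv F247102)) (tt N18846 F239694) (tt N18831 (iv D53451)) (tt N22174 (iv F246518)) (tt N18840 F239695) (tt N22215 (iv F246750)) (tt N22294 D55064))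
theorem Q20683 : ∀ i, i < 20683 → P i := stepQ 20682 Q20682 (allL N20682 (tt N22213 (iv F246735)) (tt N19605 F239696) (tt N18834 F239697) (tt N22293 (iv F247113)) (tt N18832 F239698) (tt N22294 (iv F247119)) (tt N22147 (iv F246371)) (tt N18841 F239699) (tt N22295 D55065) (tt N18831 (iv D53452)))
theorem Q20684 : ∀ i, i < 20684 → P i := stepQ 20683 Q20683 (allL N20683 (tt N22214 (iv F246739)) (tt N19606 F239700) (tt N18835 F239701) (tt N22296 D55066) (tt N22295 (iv F247123)) (tt N18848 F239702) (tt N22148 (iv F246376)) (tt N18842 F239703) (tt N18832 (iv D53453)) (tt N22263 (iv F246983)))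
theorem Q20685 : ∀ i, i < 20685 → P i := stepQ 20684 Q20684 (allL N20684 (tt N22216 (iv F246751)) (tt N19635 F239704) (tt N22294 (iv F247117)) (tt N19141 F239705) (tt N18849 F239706) (tt N18834 F239707) (tt N22219 (iv F246770)) (tt N18844 F239708) (tt N22297 D55067) (tt N18833 (iv D53454)))
theorem Q20686 : ∀ i, i < 20686 → P i := stepQ 20685 Q20685 (allL N20685 (tt N22217 (iv F246757)) (tt N21756 (iv F244009)) (tt N22295 (iv F247122)) (tt N22298 D55068) (tt N18835 F239709) (tt N22297 (iv F247131)) (tt N22290 (iv F247098)) (tt N18845 F239710) (tt N18834 (iv D53455)) (tt N22265 (iv F246990)))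
theorem Q20687 : ∀ i, i < 20687 → P i := stepQ 20686 Q20686 (allL N20686 (tt N18837 F239711) (tt N22215 (iv F246744)) (tt N19579 F239712) (tt N22299 D55069) (tt N18836 (iv D53456)) (tt N19594 F239713) (tt N19666 F239714) (tt N19581 F239715) (tt N19604 F239716) (tt N22300 D55070))
theorem Q20688 : ∀ i, i < 20688 → P i := stepQ 20687 Q20687 (allL N20687 (tt N18838 F239717) (tt N22218 (iv F246761)) (tt N19580 F239718) (tt N18888 F239719) (tt N22300 (iv F247144)) (tt N18851 F239720) (tt N19667 F239721) (tt N19582 F239722) (tt N22301 D55071) (tt N18836 (iv D53457)))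
theorem Q20689 : ∀ i, i < 20689 → P i := stepQ 20688 Q20688 (allL N20688 (tt N22299 (iv F247135)) (tt N18839 F239723) (tt N19744 F239724) (tt N18837 (iv D53458)) (tt N18889 F239725) (tt N22302 D55072) (tt N19668 F239726) (tt N19603 F239727) (tt N22303 D55073) (tt N22304 D55074))
theorem Q20690 : ∀ i, i < 20690 → P i := stepQ 20689 Q20689 (allL N20689 (tt N19594 F239728) (tt N18840 F239729) (tt N19576 F239730) (tt N22302 (iv F247157)) (tt N18852 F239731) (tt N18837 (iv D53459)) (tt N22095 (iv F246065)) (tt N19604 F239732) (tt N19581 F239733) (tt N22305 D55075))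
theorem Q20691 : ∀ i, i < 20691 → P i := stepQ 20690 Q20690 (allL N20690 (tt N22300 (iv F247142)) (tt N18841 F239734) (tt N19601 F239735) (tt N22304 (iv F247167)) (tt N18838 F239736) (tt N22305 (iv F247175)) (tt N19670 F239737) (tt N19605 F239738) (tt N22306 D55076) (tt N18837 (iv D53460)))
theorem Q20692 : ∀ i, i < 20692 → P i := stepQ 20691 Q20691 (allL N20691 (tt N22301 (iv F247148)) (tt N18842 F239739) (tt N19602 F239740) (tt N22307 D55077) (tt N22306 (iv F247179)) (tt N18854 F239741) (tt N19671 F239742) (tt N19606 F239743) (tt N18838 (iv D53461)) (tt N22268 (iv F247011)))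
theorem Q20693 : ∀ i, i < 20693 → P i := stepQ 20692 Q20692 (allL N20692 (tt N21962 (iv F245281)) (tt N22302 (iv F247155)) (tt N19149 F239744) (tt N18840 F239745) (tt N20692 F239746) (tt N18839 (iv D53462)) (tt N21889 (iv F244856)) (tt N22291 (iv F247104)) (tt N22308 D55078) (tt N22309 D55079))
theorem Q20694 : ∀ i, i < 20694 → P i := stepQ 20693 Q20693 (allL N20693 (tt N21932 (iv F245101)) (tt N22303 (iv F247160)) (tt N19150 F239747) (tt N22269 (iv F247012)) (tt N18892 F239748) (tt N22308 (iv F247190)) (tt N19672 F239749) (tt N22292 (iv F247110)) (tt N18839 (iv D53463)) (tt N22310 D55080))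
theorem Q20695 : ∀ i, i < 20695 → P i := stepQ 20694 Q20694 (allL N20694 (tt N21972 (iv F245336)) (tt N22304 (iv F247165)) (tt N19151 F239750) (tt N18841 F239751) (tt N18893 F239752) (tt N22309 (iv F247194)) (tt N19673 F239753) (tt N22293 (iv F247115)) (tt N22311 D55081) (tt N18839 (iv D53464)))
theorem Q20696 : ∀ i, i < 20696 → P i := stepQ 20695 Q20695 (allL N20695 (tt N21722 (iv F243766)) (tt N22095 (iv F246062)) (tt N18843 F239754) (tt N21889 (iv F244854)) (tt N18855 F239755) (tt N19674 F239756) (tt N18840 (iv D53465)) (tt N21713 (iv F243705)) (tt N21719 (iv F243750)) (tt N22312 D55082))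
theorem Q20697 : ∀ i, i < 20697 → P i := stepQ 20696 Q20696 (allL N20696 (tt N22221 (iv F246774)) (tt N22305 (iv F247172)) (tt N18844 F239757) (tt N22309 (iv F247192)) (tt N18856 F239758) (tt N18841 F239759) (tt N22312 (iv F247204)) (tt N22294 (iv F247120)) (tt N22313 D55083) (tt N18840 (iv D53466)))
theorem Q20698 : ∀ i, i < 20698 → P i := stepQ 20697 Q20697 (allL N20697 (tt N22222 (iv F246778)) (tt N22306 (iv F247177)) (tt N18845 F239760) (tt N22314 D55084) (tt N18842 F239761) (tt N22313 (iv F247207)) (tt N19676 F239762) (tt N22295 (iv F247124)) (tt N18841 (iv D53467)) (tt N22272 (iv F247025)))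
theorem Q20699 : ∀ i, i < 20699 → P i := stepQ 20698 Q20698 (allL N20698 (tt N22223 (iv F246782)) (tt N22307 (iv F247182)) (tt N22151 (iv F246388)) (tt N18842 (iv D53468)) (tt N22315 D55085) (tt N18858 F239763) (tt N19677 F239764) (tt N22296 (iv F247127)) (tt N18895 F239765) (tt N22273 (iv F247029)))
theorem Q20700 : ∀ i, i < 20700 → P i := stepQ 20699 Q20699 (allL N20699 (tt N21719 (iv F243743)) (tt N21758 (iv F244023)) (tt N21713 (iv F243701)) (tt N19156 F239766) (tt N18859 F239767) (tt N19678 F239768) (tt N22196 (iv F246647)) (tt N18843 (iv D53469)) (tt N21722 (iv F243773)) (tt N22316 D55086))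
theorem Q20701 : ∀ i, i < 20701 → P i := stepQ 20700 Q20700 (allL N20700 (tt N21725 (iv F243789)) (tt N21759 (iv F244031)) (tt N22312 (iv F247201)) (tt N19157 F239769) (tt N18860 F239770) (tt N19679 F239771) (tt N18844 F239772) (tt N22316 (iv F247214)) (tt N22317 D55087) (tt N18843 (iv D53470)))
theorem Q20702 : ∀ i, i < 20702 → P i := stepQ 20701 Q20701 (allL N20701 (tt N22224 (iv F246786)) (tt N21760 (iv F244038)) (tt N22313 (iv F247205)) (tt N22318 D55088) (tt N18861 F239773) (tt N18845 F239774) (tt N22317 (iv F247217)) (tt N22297 (iv F247132)) (tt N18844 (iv D53471)) (tt N22275 (iv F247037)))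
theorem Q20703 : ∀ i, i < 20703 → P i := stepQ 20702 Q20702 (allL N20702 (tt N22225 (iv F246789)) (tt N21761 (iv F244043)) (tt N22319 D55089) (tt N18845 (iv D53472)) (tt N22154 (iv F246401)) (tt N22318 (iv F247218)) (tt N19681 F239775) (tt N22298 (iv F247133)) (tt N19159 F239776) (tt N22276 (iv F247039)))
theorem Q20704 : ∀ i, i < 20704 → P i := stepQ 20703 Q20703 (allL N20703 (tt N22194 (iv F246630)) (tt N19609 F239777) (tt N18849 F239778) (tt N20703 F239779) (tt N22294 (iv F247118)) (tt N18847 F239780) (tt N22175 (iv F246526)) (tt N18856 F239781) (tt N22320 D55090) (tt N18846 (iv D53473)))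
theorem Q20705 : ∀ i, i < 20705 → P i := stepQ 20704 Q20704 (allL N20704 (tt N22202 (iv F246673)) (tt N19610 F239782) (tt N18850 F239783) (tt N22321 D55091) (tt N18848 F239784) (tt N22320 (iv F247224)) (tt N19614 F239785) (tt N18857 F239786) (tt N18847 (iv D53474)) (tt N22227 (iv F246802)))
theorem Q20706 : ∀ i, i < 20706 → P i := stepQ 20705 Q20705 (allL N20705 (tt N22159 (iv F246425)) (tt N19611 F239787) (tt N22116 (iv F246200)) (tt N18848 (iv D53475)) (tt N22233 (iv F246824)) (tt N22296 (iv F247126)) (tt N19615 F239788) (tt N18858 F239789) (tt N18897 F239790) (tt N22277 (iv F247044)))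
theorem Q20707 : ∀ i, i < 20707 → P i := stepQ 20706 Q20706 (allL N20706 (tt N22226 (iv F246792)) (tt N19636 F239791) (tt N22320 (iv F247223)) (tt N22322 D55092) (tt N22297 (iv F247130)) (tt N18850 F239792) (tt N22220 (iv F246773)) (tt N18861 F239793) (tt N18849 (iv D53476)) (tt N22278 (iv F247048)))
theorem Q20708 : ∀ i, i < 20708 → P i := stepQ 20707 Q20707 (allL N20707 (tt N22156 (iv F246411)) (tt N19638 F239794) (tt N22231 (iv F246815)) (tt N18850 (iv D53477)) (tt N22114 (iv F246188)) (tt N22322 (iv F247231)) (tt N19640 F239795) (tt N18862 F239796) (tt N18875 F239797) (tt N22279 (iv F247053)))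
theorem Q20709 : ∀ i, i < 20709 → P i := stepQ 20708 Q20708 (allL N20708 (tt N18854 F239798) (tt N22227 (iv F246797)) (tt N19585 F239799) (tt N21765 (iv F244064)) (tt N19598 F239800) (tt N22301 (iv F247150)) (tt N18863 F239801) (tt N19586 F239802) (tt N18851 (iv D53478)) (tt N19610 F239803))
theorem Q20710 : ∀ i, i < 20710 → P i := stepQ 20709 Q20709 (allL N20709 (tt N19595 F239804) (tt N18856 F239805) (tt N19577 F239806) (tt N20709 F239807) (tt N22305 (iv F247174)) (tt N18853 F239808) (tt N22096 (iv F246073)) (tt N19609 F239809) (tt N22323 D55093) (tt N18852 (iv D53479)))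
theorem Q20711 : ∀ i, i < 20711 → P i := stepQ 20710 Q20710 (allL N20710 (tt N19598 F239810) (tt N18857 F239811) (tt N19578 F239812) (tt N22324 D55094) (tt N18854 F239813) (tt N22323 (iv F247237)) (tt N18864 F239814) (tt N19610 F239815) (tt N18853 (iv D53480)) (tt N19586 F239816))
theorem Q20712 : ∀ i, i < 20712 → P i := stepQ 20711 Q20711 (allL N20711 (tt N21765 (iv F244063)) (tt N18858 F239817) (tt N19683 F239818) (tt N18854 (iv D53481)) (tt N22325 D55095) (tt N22307 (iv F247184)) (tt N18865 F239819) (tt N19611 F239820) (tt N18899 F239821) (tt N22280 (iv F247060)))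
theorem Q20713 : ∀ i, i < 20713 → P i := stepQ 20712 Q20712 (allL N20712 (tt N21733 (iv F243844)) (tt N22096 (iv F246069)) (tt N18860 F239822) (tt N20712 F239823) (tt N22312 (iv F247202)) (tt N18866 F239824) (tt N18856 F239825) (tt N21716 (iv F243728)) (tt N22326 D55096) (tt N18855 (iv D53482)))
theorem Q20714 : ∀ i, i < 20714 → P i := stepQ 20713 Q20713 (allL N20713 (tt N22229 (iv F246807)) (tt N22323 (iv F247235)) (tt N18861 F239826) (tt N22327 D55097) (tt N22313 (iv F247206)) (tt N18857 F239827) (tt N22326 (iv F247254)) (tt N22320 (iv F247225)) (tt N18856 (iv D53483)) (tt N22281 (iv F247064)))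
theorem Q20715 : ∀ i, i < 20715 → P i := stepQ 20714 Q20714 (allL N20714 (tt N22230 (iv F246810)) (tt N22324 (iv F247241)) (tt N22328 D55098) (tt N18857 (iv D53484)) (tt N22329 D55099) (tt N22327 (iv F247255)) (tt N18868 F239828) (tt N22321 (iv F247228)) (tt N20714 F239829) (tt N22282 (iv F247069)))
theorem Q20716 : ∀ i, i < 20716 → P i := stepQ 20715 Q20715 (allL N20715 (tt N22231 (iv F246814)) (tt N22325 (iv F247247)) (tt N22156 (iv F246413)) (tt N22329 (iv F247260)) (tt N18858 (iv D53485)) (tt N22330 D55100) (tt N18869 F239830) (tt N22233 (iv F246826)) (tt N18900 F239831) (tt N22283 (iv F247072)))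
theorem Q20717 : ∀ i, i < 20717 → P i := stepQ 20716 Q20716 (allL N20716 (tt N21727 (iv F243799)) (tt N21762 (iv F244047)) (tt N21716 (iv F243724)) (tt N18876 F239832) (tt N22316 (iv F247212)) (tt N18870 F239833) (tt N22203 (iv F246685)) (tt N18860 F239834) (tt N22331 D55101) (tt N18859 (iv D53486)))
theorem Q20718 : ∀ i, i < 20718 → P i := stepQ 20717 Q20717 (allL N20717 (tt N21735 (iv F243857)) (tt N21763 (iv F244054)) (tt N22326 (iv F247252)) (tt N22332 D55102) (tt N22317 (iv F247215)) (tt N18871 F239835) (tt N18861 F239836) (tt N22331 (iv F247266)) (tt N18860 (iv D53487)) (tt N22284 (iv F247075)))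
theorem Q20719 : ∀ i, i < 20719 → P i := stepQ 20718 Q20718 (allL N20718 (tt N22232 (iv F246819)) (tt N21764 (iv F244059)) (tt N22333 D55103) (tt N18861 (iv D53488)) (tt N22334 D55104) (tt N18862 F239837) (tt N22332 (iv F247268)) (tt N22322 (iv F247232)) (tt N18878 F239838) (tt N22285 (iv F247078)))
theorem Q20720 : ∀ i, i < 20720 → P i := stepQ 20719 Q20719 (allL N20719 (tt N22233 (iv F246822)) (tt N22335 D55105) (tt N18862 (iv D53489)) (tt N22328 (iv F247257)) (tt N22159 (iv F246427)) (tt N22333 (iv F247271)) (tt N18873 F239839) (tt N22231 (iv F246817)) (tt N18879 F239840) (tt N22286 (iv F247081)))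
theorem Q20721 : ∀ i, i < 20721 → P i := stepQ 20720 Q20720 (allL N20720 (tt N19600 F239841) (tt N18868 F239842) (tt N19630 F239843) (tt N18864 (iv D53490)) (tt N22336 D55106) (tt N22104 (iv F246126)) (tt N22324 (iv F247243)) (tt N22082 (iv F245988)) (tt N20720 F239844) (tt N19587 F239845))
theorem Q20722 : ∀ i, i < 20722 → P i := stepQ 20721 Q20721 (allL N20721 (tt N21739 (iv F243883)) (tt N18869 F239846) (tt N18872 F239847) (tt N22336 (iv F247280)) (tt N18865 (iv D53491)) (tt N18873 F239848) (tt N22325 (iv F247249)) (tt N22083 (iv F245995)) (tt N18881 F239849) (tt N22287 (iv F247088)))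
theorem Q20723 : ∀ i, i < 20723 → P i := stepQ 20722 Q20722 (allL N20722 (tt N21734 (iv F243850)) (tt N22101 (iv F246102)) (tt N18871 F239850) (tt N22337 D55107) (tt N19700 F239851) (tt N22326 (iv F247253)) (tt N18867 F239852) (tt N21717 (iv F243734)) (tt N18866 (iv D53492)) (tt N21728 (iv F243813)))
theorem Q20724 : ∀ i, i < 20724 → P i := stepQ 20723 Q20723 (allL N20723 (tt N19655 F239853) (tt N22104 (iv F246123)) (tt N22336 (iv F247279)) (tt N18867 (iv D53493)) (tt N19630 F239854) (tt N18868 F239855) (tt N22337 (iv F247286)) (tt N22084 (iv F246000)) (tt N20723 F239856) (tt N19641 F239857))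
theorem Q20725 : ∀ i, i < 20725 → P i := stepQ 20724 Q20724 (allL N20724 (tt N22236 (iv F246842)) (tt N22209 (iv F246714)) (tt N18868 (iv D53494)) (tt N18873 F239858) (tt N22208 (iv F246709)) (tt N22336 (iv F247281)) (tt N22328 (iv F247258)) (tt N22085 (iv F246004)) (tt N20724 F239859) (tt N22235 (iv F246841)))
theorem Q20726 : ∀ i, i < 20726 → P i := stepQ 20725 Q20725 (allL N20725 (tt N22237 (iv F246849)) (tt N22336 (iv F247278)) (tt N22208 (iv F246708)) (tt N18869 F239860) (tt N18868 (iv D53495)) (tt N22209 (iv F246717)) (tt N22329 (iv F247261)) (tt N22086 (iv F246007)) (tt N20725 F239861) (tt N22234 (iv F246833)))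
theorem Q20727 : ∀ i, i < 20727 → P i := stepQ 20726 Q20726 (allL N20726 (tt N22234 (iv F246828)) (tt N18873 F239862) (tt N21769 (iv F244091)) (tt N22209 (iv F246716)) (tt N19702 F239863) (tt N18869 (iv D53496)) (tt N22335 (iv F247275)) (tt N22087 (iv F246011)) (tt N18882 F239864) (tt N22237 (iv F246855)))
theorem Q20728 : ∀ i, i < 20728 → P i := stepQ 20727 Q20727 (allL N20727 (tt N21728 (iv F243806)) (tt N21767 (iv F244078)) (tt N21717 (iv F243731)) (tt N19691 F239865) (tt N19690 F239866) (tt N22331 (iv F247265)) (tt N19701 F239867) (tt N18871 F239868) (tt N18870 (iv D53497)) (tt N21734 (iv F243855)))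
theorem Q20729 : ∀ i, i < 20729 → P i := stepQ 20728 Q20728 (allL N20728 (tt N21736 (iv F243861)) (tt N21768 (iv F244084)) (tt N22325 (iv F247248)) (tt N18871 (iv D53498)) (tt N19683 F239869) (tt N22332 (iv F247267)) (tt N18872 F239870) (tt N19691 F239871) (tt N18880 F239872) (tt N22288 (iv F247093)))
theorem Q20730 : ∀ i, i < 20730 → P i := stepQ 20729 Q20729 (allL N20729 (tt N22169 (iv F246485)) (tt N19643 F239873) (tt N22245 (iv F246896)) (tt N18874 (iv D53499)) (tt N22338 D55108) (tt N18875 F239874) (tt N22241 (iv F246875)) (tt N18878 F239875) (tt N22322 (iv F247233)) (tt N20729 F239876))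
theorem Q20731 : ∀ i, i < 20731 → P i := stepQ 20730 Q20730 (allL N20730 (tt N21740 (iv F243890)) (tt N21770 (iv F244098)) (tt N22339 D55109) (tt N18877 (iv D53500)) (tt N22340 D55110) (tt N18880 F239877) (tt N18878 F239878) (tt N19718 F239879) (tt N22332 (iv F247270)) (tt N20730 F239880))
theorem Q20732 : ∀ i, i < 20732 → P i := stepQ 20731 Q20731 (allL N20731 (tt N22239 (iv F246864)) (tt N22341 D55111) (tt N18878 (iv D53501)) (tt N20731 F239881) (tt N22342 D55112) (tt N18879 F239882) (tt N22339 (iv F247296)) (tt N22245 (iv F246898)) (tt N22333 (iv F247272)) (tt N20731 F239883))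
theorem Q20733 : ∀ i, i < 20733 → P i := stepQ 20732 Q20732 (allL N20732 (tt N22240 (iv F246870)) (tt N21772 (iv F244111)) (tt N22342 (iv F247308)) (tt N19206 F239884) (tt N18878 (iv D53502)) (tt N22164 (iv F246461)) (tt N22340 (iv F247301)) (tt N22338 (iv F247291)) (tt N22334 (iv F247273)) (tt N20732 F239885))
theorem Q20734 : ∀ i, i < 20734 → P i := stepQ 20733 Q20733 (allL N20733 (tt N22243 (iv F246881)) (tt N18879 (iv D53503)) (tt N21773 (iv F244116)) (tt N20733 F239886) (tt N19719 F239887) (tt N22341 (iv F247305)) (tt N18882 F239888) (tt N22244 (iv F246893)) (tt N22335 (iv F247276)) (tt N20733 F239889))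
theorem Q20735 : ∀ i, i < 20735 → P i := stepQ 20734 Q20734 (allL N20734 (tt N21741 (iv F243896)) (tt N18900 F239890) (tt N18880 (iv D53504)) (tt N20734 F239891) (tt N18899 F239892) (tt N22339 (iv F247295)) (tt N18881 F239893) (tt N19622 F239894) (tt N22325 (iv F247251)) (tt N20734 F239895))
theorem Q20736 : ∀ i, i < 20736 → P i := stepQ 20735 Q20735 (allL N20735 (tt N19946 F239896) (tt N19618 F239897) (tt N19217 F239898) (tt N20735 F239899) (tt N22292 (iv F247108)) (tt N20735 F239900) (tt N19761 F239901) (tt N18892 F239902) (tt N18883 (iv D53505)) (tt N22343 D55113))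
theorem Q20737 : ∀ i, i < 20737 → P i := stepQ 20736 Q20736 (allL N20736 (tt N21997 (iv F245463)) (tt N19619 F239903) (tt N19218 F239904) (tt N18884 F239905) (tt N22293 (iv F247114)) (tt N20736 F239906) (tt N21899 (iv F244917)) (tt N18893 F239907) (tt N22344 D55114) (tt N18883 (iv D53506)))
theorem Q20738 : ∀ i, i < 20738 → P i := stepQ 20737 Q20737 (allL N20737 (tt N22015 (iv F245563)) (tt N19620 F239908) (tt N18886 F239909) (tt N22345 D55115) (tt N18885 F239910) (tt N20737 F239911) (tt N21904 (iv F244949)) (tt N18894 F239912) (tt N18884 (iv D53507)) (tt N20737 F239913))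
theorem Q20739 : ∀ i, i < 20739 → P i := stepQ 20738 Q20738 (allL N20738 (tt N22163 (iv F246453)) (tt N19621 F239914) (tt N22117 (iv F246207)) (tt N18885 (iv D53508)) (tt N22346 D55116) (tt N18897 F239915) (tt N22165 (iv F246467)) (tt N18895 F239916) (tt N22296 (iv F247128)) (tt N20738 F239917))
theorem Q20740 : ∀ i, i < 20740 → P i := stepQ 20739 Q20739 (allL N20739 (tt N18889 F239918) (tt N19049 F239919) (tt N18933 F239920) (tt N18887 (iv D53509)) (tt N22299 (iv F247138)) (tt N20739 F239921) (tt N18974 F239922) (tt N18935 F239923) (tt N21859 (iv F244659)) (tt N22347 D55117))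
theorem Q20741 : ∀ i, i < 20741 → P i := stepQ 20740 Q20740 (allL N20740 (tt N18890 F239924) (tt N19059 F239925) (tt N18901 F239926) (tt N22347 (iv F247331)) (tt N18888 F239927) (tt N20740 F239928) (tt N18985 F239929) (tt N18982 F239930) (tt N22348 D55118) (tt N18887 (iv D53510)))
theorem Q20742 : ∀ i, i < 20742 → P i := stepQ 20741 Q20741 (allL N20741 (tt N18891 F239931) (tt N22238 (iv F246857)) (tt N18902 F239932) (tt N21771 (iv F244105)) (tt N22348 (iv F247338)) (tt N18898 F239933) (tt N19706 F239934) (tt N19589 F239935) (tt N18888 (iv D53511)) (tt N20741 F239936))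
theorem Q20743 : ∀ i, i < 20743 → P i := stepQ 20742 Q20742 (allL N20742 (tt N21859 (iv F244653)) (tt N18892 F239937) (tt N18999 F239938) (tt N20742 F239939) (tt N22303 (iv F247162)) (tt N20742 F239940) (tt N19001 F239941) (tt N19618 F239942) (tt N18889 (iv D53512)) (tt N22349 D55119))
theorem Q20744 : ∀ i, i < 20744 → P i := stepQ 20743 Q20743 (allL N20743 (tt N22347 (iv F247328)) (tt N18893 F239943) (tt N19773 F239944) (tt N18890 F239945) (tt N22304 (iv F247168)) (tt N20743 F239946) (tt N19707 F239947) (tt N19619 F239948) (tt N22350 D55120) (tt N18889 (iv D53513)))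
theorem Q20745 : ∀ i, i < 20745 → P i := stepQ 20744 Q20744 (allL N20744 (tt N22348 (iv F247335)) (tt N18894 F239949) (tt N18903 F239950) (tt N22351 D55121) (tt N18891 F239951) (tt N20744 F239952) (tt N19708 F239953) (tt N19620 F239954) (tt N18890 (iv D53514)) (tt N20744 F239955))
theorem Q20746 : ∀ i, i < 20746 → P i := stepQ 20745 Q20745 (allL N20745 (tt N21771 (iv F244104)) (tt N18895 F239956) (tt N19705 F239957) (tt N18891 (iv D53515)) (tt N22352 D55122) (tt N18899 F239958) (tt N19709 F239959) (tt N19621 F239960) (tt N22307 (iv F247187)) (tt N20745 F239961))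
theorem Q20747 : ∀ i, i < 20747 → P i := stepQ 20746 Q20746 (allL N20746 (tt N21950 (iv F245204)) (tt N22349 (iv F247343)) (tt N19224 F239962) (tt N20746 F239963) (tt N22310 (iv F247196)) (tt N20746 F239964) (tt N19710 F239965) (tt N22343 (iv F247316)) (tt N22353 D55123) (tt N18892 (iv D53516)))
theorem Q20748 : ∀ i, i < 20748 → P i := stepQ 20747 Q20747 (allL N20747 (tt N21998 (iv F245470)) (tt N22350 (iv F247349)) (tt N19225 F239966) (tt N22354 D55124) (tt N22311 (iv F247199)) (tt N20747 F239967) (tt N19711 F239968) (tt N22344 (iv F247320)) (tt N18893 (iv D53517)) (tt N22353 (iv F247368)))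
theorem Q20749 : ∀ i, i < 20749 → P i := stepQ 20748 Q20748 (allL N20748 (tt N22016 (iv F245571)) (tt N22351 (iv F247354)) (tt N22355 D55125) (tt N18894 (iv D53518)) (tt N22356 D55126) (tt N20748 F239969) (tt N19712 F239970) (tt N22345 (iv F247323)) (tt N22354 (iv F247371)) (tt N20748 F239971))
theorem Q20750 : ∀ i, i < 20750 → P i := stepQ 20749 Q20749 (allL N20749 (tt N22242 (iv F246878)) (tt N22352 (iv F247360)) (tt N22168 (iv F246482)) (tt N22356 (iv F247378)) (tt N18895 (iv D53519)) (tt N22357 D55127) (tt N19713 F239972) (tt N22346 (iv F247326)) (tt N22315 (iv F247210)) (tt N20749 F239973))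
theorem Q20751 : ∀ i, i < 20751 → P i := stepQ 20750 Q20750 (allL N20750 (tt N19943 F239974) (tt N19527 F239975) (tt N18896 (iv D53520)) (tt N22355 (iv F247374)) (tt N19930 F239976) (tt N20750 F239977) (tt N19528 F239978) (tt N21846 (iv F244574)) (tt N19228 F239979) (tt N20750 F239980))
theorem Q20752 : ∀ i, i < 20752 → P i := stepQ 20751 Q20751 (allL N20751 (tt N22245 (iv F246895)) (tt N22339 (iv F247293)) (tt N22169 (iv F246487)) (tt N20751 F239981) (tt N22357 (iv F247381)) (tt N18900 (iv D53521)) (tt N22341 (iv F247306)) (tt N22239 (iv F246868)) (tt N22330 (iv F247263)) (tt N20751 F239982))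
theorem Q20753 : ∀ i, i < 20753 → P i := stepQ 20752 Q20752 (allL N20752 (tt N18903 F239983) (tt N20752 F239984) (tt N22348 (iv F247337)) (tt N19240 F239985) (tt N18902 F239986) (tt N20752 F239987) (tt N19721 F239988) (tt N19234 F239989) (tt N18901 (iv D53522)) (tt N20752 F239990))
theorem Q20754 : ∀ i, i < 20754 → P i := stepQ 20753 Q20753 (allL N20753 (tt N19361 F239991) (tt N20753 F239992) (tt N18986 F239993) (tt N19360 F239994) (tt N19720 F239995) (tt N18906 F239996) (tt N18905 F239997) (tt N19721 F239998) (tt N18904 (iv D53523)) (tt N20753 F239999))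
theorem Q20755 : ∀ i, i < 20755 → P i := stepQ 20754 Q20754 (allL N20754 (tt N19491 F240000) (tt N18920 F240001) (tt N21978 (iv F245372)) (tt N22088 (iv F246016)) (tt N18908 (iv D53524)) (tt N21895 (iv F244894)) (tt N22182 (iv F246562)) (tt N18911 F240002) (tt N19742 F240003) (tt N22358 D55128))
theorem Q20756 : ∀ i, i < 20756 → P i := stepQ 20755 Q20755 (allL N20755 (tt N19516 F240004) (tt N18921 F240005) (tt N22031 (iv F245657)) (tt N18909 F240006) (tt N22358 (iv F247385)) (tt N18914 F240007) (tt N22183 (iv F246570)) (tt N18912 F240008) (tt N22359 D55129) (tt N18908 (iv D53525)))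
theorem Q20757 : ∀ i, i < 20757 → P i := stepQ 20756 Q20756 (allL N20756 (tt N19487 F240009) (tt N19262 F240010) (tt N18911 F240011) (tt N19860 (iv F240015)) (tt N18910 (iv D53526)) (tt N19257 F240012) (tt N19388 F240013) (tt N21978 (iv F245377)) (tt N19338 F240014) (tt N22360 D55130))
theorem Q20758 : ∀ i, i < 20758 → P i := stepQ 20757 Q20757 (allL N20757 (tt N19512 F240016) (tt N19232 F240017) (tt N18912 F240018) (tt N20757 F240019) (tt N22360 (iv F247397)) (tt N18915 F240020) (tt N19400 F240021) (tt N22031 (iv F245661)) (tt N22361 D55131) (tt N18910 (iv D53527)))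
theorem Q20759 : ∀ i, i < 20759 → P i := stepQ 20758 Q20758 (allL N20758 (tt N19492 F240022) (tt N18923 F240023) (tt N22360 (iv F247395)) (tt N22090 (iv F246030)) (tt N18912 F240024) (tt N21896 (iv F244902)) (tt N19391 F240025) (tt N22358 (iv F247386)) (tt N22362 D55132) (tt N18911 (iv D53528)))
theorem Q20760 : ∀ i, i < 20760 → P i := stepQ 20759 Q20759 (allL N20759 (tt N19517 F240026) (tt N18924 F240027) (tt N22361 (iv F247402)) (tt N19007 F240028) (tt N22362 (iv F247408)) (tt N18916 F240029) (tt N19403 F240030) (tt N22359 (iv F247391)) (tt N18912 (iv D53529)) (tt N19754 F240031))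
theorem Q20761 : ∀ i, i < 20761 → P i := stepQ 20760 Q20760 (allL N20760 (tt N19523 F240032) (tt N19231 F240033) (tt N18914 F240034) (tt N20760 F240035) (tt N19230 F240036) (tt N22031 (iv F245659)) (tt N20760 F240037) (tt N18915 F240038) (tt N22363 D55133) (tt N18913 (iv D53530)))
theorem Q20762 : ∀ i, i < 20762 → P i := stepQ 20761 Q20761 (allL N20761 (tt N19526 F240039) (tt N18926 F240040) (tt N22363 (iv F247413)) (tt N19009 F240041) (tt N21902 (iv F244933)) (tt N22359 (iv F247390)) (tt N20761 F240042) (tt N18916 F240043) (tt N18914 (iv D53531)) (tt N19763 F240044))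
theorem Q20763 : ∀ i, i < 20763 → P i := stepQ 20762 Q20762 (allL N20762 (tt N19524 F240045) (tt N19181 F240046) (tt N18916 F240047) (tt N22364 D55134) (tt N19176 F240048) (tt N22361 (iv F247403)) (tt N18917 F240049) (tt N22363 (iv F247416)) (tt N18915 (iv D53532)) (tt N19347 F240050))
theorem Q20764 : ∀ i, i < 20764 → P i := stepQ 20763 Q20763 (allL N20763 (tt N19525 F240051) (tt N19194 F240052) (tt N19011 F240053) (tt N18917 (iv D53533)) (tt N19189 F240054) (tt N19405 F240055) (tt N22364 (iv F247422)) (tt N20763 F240056) (tt N20763 F240057) (tt N19350 F240058))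
theorem Q20765 : ∀ i, i < 20765 → P i := stepQ 20764 Q20764 (allL N20764 (tt N18952 F240059) (tt N22182 (iv F246559)) (tt N19729 F240060) (tt N22106 (iv F246139)) (tt N18918 (iv D53534)) (tt N22176 (iv F246531)) (tt N18920 F240061) (tt N19722 F240062) (tt N19737 F240063) (tt N22365 D55135))
theorem Q20766 : ∀ i, i < 20766 → P i := stepQ 20765 Q20765 (allL N20765 (tt N18953 F240064) (tt N22183 (iv F246566)) (tt N19730 F240065) (tt N18919 F240066) (tt N22365 (iv F247427)) (tt N20765 F240067) (tt N18921 F240068) (tt N19723 F240069) (tt N22366 D55136) (tt N18918 (iv D53535)))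
theorem Q20767 : ∀ i, i < 20767 → P i := stepQ 20766 Q20766 (allL N20766 (tt N18957 F240070) (tt N22358 (iv F247384)) (tt N19731 F240071) (tt N22108 (iv F246153)) (tt N18921 F240072) (tt N22149 (iv F246382)) (tt N22365 (iv F247428)) (tt N18923 F240073) (tt N22367 D55137) (tt N18920 (iv D53536)))
theorem Q20768 : ∀ i, i < 20768 → P i := stepQ 20767 Q20767 (allL N20767 (tt N18958 F240074) (tt N22359 (iv F247388)) (tt N19732 F240075) (tt N19037 F240076) (tt N22367 (iv F247439)) (tt N18926 F240077) (tt N22366 (iv F247434)) (tt N18924 F240078) (tt N18921 (iv D53537)) (tt N19747 F240079))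
theorem Q20769 : ∀ i, i < 20769 → P i := stepQ 20768 Q20768 (allL N20768 (tt N18966 F240080) (tt N21896 (iv F244898)) (tt N19733 F240081) (tt N22112 (iv F246177)) (tt N18927 F240082) (tt N18923 F240083) (tt N21869 (iv F244722)) (tt N22149 (iv F246384)) (tt N22368 D55138) (tt N18922 (iv D53538)))
theorem Q20770 : ∀ i, i < 20770 → P i := stepQ 20769 Q20769 (allL N20769 (tt N18967 F240084) (tt N22362 (iv F247407)) (tt N19734 F240085) (tt N22369 D55139) (tt N18924 F240086) (tt N22368 (iv F247445)) (tt N19726 F240087) (tt N22367 (iv F247440)) (tt N18923 (iv D53539)) (tt N19758 F240088))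
theorem Q20771 : ∀ i, i < 20771 → P i := stepQ 20770 Q20770 (allL N20770 (tt N18970 F240089) (tt N21902 (iv F244931)) (tt N19735 F240090) (tt N22370 D55140) (tt N18926 F240091) (tt N22166 (iv F246472)) (tt N20770 F240092) (tt N18928 F240093) (tt N18925 (iv D53540)) (tt N19765 F240094))
theorem Q20772 : ∀ i, i < 20772 → P i := stepQ 20771 Q20771 (allL N20771 (tt N18976 F240095) (tt N21900 (iv F244920)) (tt N19736 F240096) (tt N22371 D55141) (tt N22368 (iv F247444)) (tt N18928 F240097) (tt N21873 (iv F244746)) (tt N22166 (iv F246474)) (tt N18927 (iv D53541)) (tt N19770 F240098))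
theorem Q20773 : ∀ i, i < 20773 → P i := stepQ 20772 Q20772 (allL N20772 (tt N18977 F240099) (tt N21903 (iv F244938)) (tt N21828 (iv F244455)) (tt N18928 (iv D53542)) (tt N19056 F240100) (tt N22371 (iv F247459)) (tt N18929 F240101) (tt N22370 (iv F247455)) (tt N18932 F240102) (tt N19771 F240103))
theorem Q20774 : ∀ i, i < 20774 → P i := stepQ 20773 Q20773 (allL N20773 (tt N18984 F240104) (tt N21907 (iv F244965)) (tt N19999 F240105) (tt N18930 (iv D53543)) (tt N19061 F240106) (tt N22167 (iv F246478)) (tt N20773 F240107) (tt N18932 F240108) (tt N22370 (iv F247456)) (tt N20773 F240109))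
theorem Q20775 : ∀ i, i < 20775 → P i := stepQ 20774 Q20774 (allL N20774 (tt N18987 F240110) (tt N21905 (iv F244953)) (tt N21847 (iv F244578)) (tt N18931 (iv D53544)) (tt N22372 D55142) (tt N18932 F240111) (tt N21875 (iv F244761)) (tt N22167 (iv F246480)) (tt N22371 (iv F247460)) (tt N20774 F240112))
theorem Q20776 : ∀ i, i < 20776 → P i := stepQ 20775 Q20775 (allL N20775 (tt N19744 F240113) (tt N21774 (iv F244123)) (tt N22299 (iv F247137)) (tt N18940 F240114) (tt N18933 (iv D53545)) (tt N22373 D55143) (tt N21854 (iv F244621)) (tt N18936 F240115) (tt N21860 (iv F244665)) (tt N22374 D55144))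
theorem Q20777 : ∀ i, i < 20777 → P i := stepQ 20776 Q20776 (allL N20776 (tt N19773 F240116) (tt N21775 (iv F244130)) (tt N22347 (iv F247330)) (tt N18934 F240117) (tt N22374 (iv F247472)) (tt N20776 F240118) (tt N21855 (iv F244629)) (tt N18937 F240119) (tt N22375 D55145) (tt N18933 (iv D53546)))
theorem Q20778 : ∀ i, i < 20778 → P i := stepQ 20777 Q20777 (allL N20777 (tt N19603 F240120) (tt N21808 (iv F244341)) (tt N18936 F240121) (tt N19581 F240122) (tt N18935 (iv D53547)) (tt N22266 (iv F246995)) (tt N18956 F240123) (tt N22299 (iv F247141)) (tt N22119 (iv F246222)) (tt N22376 D55146))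
theorem Q20779 : ∀ i, i < 20779 → P i := stepQ 20778 Q20778 (allL N20778 (tt N19619 F240124) (tt N21825 (iv F244438)) (tt N18937 F240125) (tt N18982 F240126) (tt N22376 (iv F247481)) (tt N20778 F240127) (tt N18969 F240128) (tt N22347 (iv F247334)) (tt N22377 D55147) (tt N18935 (iv D53548)))
theorem Q20780 : ∀ i, i < 20780 → P i := stepQ 20779 Q20779 (allL N20779 (tt N19755 F240129) (tt N21779 (iv F244155)) (tt N22266 (iv F246993)) (tt N18942 F240130) (tt N20779 F240131) (tt N18936 (iv D53549)) (tt N21866 (iv F244701)) (tt N22373 (iv F247469)) (tt N22121 (iv F246233)) (tt N22378 D55148))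
theorem Q20781 : ∀ i, i < 20781 → P i := stepQ 20780 Q20780 (allL N20780 (tt N19756 F240132) (tt N21780 (iv F244161)) (tt N22376 (iv F247479)) (tt N18943 F240133) (tt N18937 F240134) (tt N22378 (iv F247490)) (tt N19727 F240135) (tt N22374 (iv F247473)) (tt N22379 D55149) (tt N18936 (iv D53550)))
theorem Q20782 : ∀ i, i < 20782 → P i := stepQ 20781 Q20781 (allL N20781 (tt N19775 F240136) (tt N21781 (iv F244166)) (tt N22377 (iv F247484)) (tt N19085 F240137) (tt N22379 (iv F247492)) (tt N20781 F240138) (tt N19728 F240139) (tt N22375 (iv F247477)) (tt N18937 (iv D53551)) (tt N22123 (iv F246244)))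
theorem Q20783 : ∀ i, i < 20783 → P i := stepQ 20782 Q20782 (allL N20782 (tt N19737 F240140) (tt N21782 (iv F244172)) (tt N19722 F240141) (tt N21854 (iv F244619)) (tt N18938 (iv D53552)) (tt N22380 D55150) (tt N18940 F240142) (tt N19729 F240143) (tt N18952 F240144) (tt N22381 D55151))
theorem Q20784 : ∀ i, i < 20784 → P i := stepQ 20783 Q20783 (allL N20783 (tt N19738 F240145) (tt N21783 (iv F244180)) (tt N19723 F240146) (tt N18939 F240147) (tt N22381 (iv F247503)) (tt N20783 F240148) (tt N18941 F240149) (tt N19730 F240150) (tt N22382 D55152) (tt N18938 (iv D53553)))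
theorem Q20785 : ∀ i, i < 20785 → P i := stepQ 20784 Q20784 (allL N20784 (tt N19745 F240151) (tt N21786 (iv F244201)) (tt N19363 F240152) (tt N22373 (iv F247467)) (tt N18945 F240153) (tt N18940 (iv D53554)) (tt N22119 (iv F246221)) (tt N18942 F240154) (tt N18956 F240155) (tt N22383 D55153))
theorem Q20786 : ∀ i, i < 20786 → P i := stepQ 20785 Q20785 (allL N20785 (tt N19746 F240156) (tt N21787 (iv F244207)) (tt N19724 F240157) (tt N22374 (iv F247471)) (tt N18941 F240158) (tt N22383 (iv F247516)) (tt N22381 (iv F247504)) (tt N18943 F240159) (tt N22384 D55154) (tt N18940 (iv D53555)))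
theorem Q20787 : ∀ i, i < 20787 → P i := stepQ 20786 Q20786 (allL N20786 (tt N19747 F240160) (tt N21788 (iv F244211)) (tt N19725 F240161) (tt N19094 F240162) (tt N22384 (iv F247520)) (tt N18947 F240163) (tt N22382 (iv F247510)) (tt N18944 F240164) (tt N18941 (iv D53556)) (tt N18958 F240165))
theorem Q20788 : ∀ i, i < 20788 → P i := stepQ 20787 Q20787 (allL N20787 (tt N19757 F240166) (tt N21792 (iv F244234)) (tt N19365 F240167) (tt N22378 (iv F247488)) (tt N18948 F240168) (tt N18943 F240169) (tt N21867 (iv F244709)) (tt N22383 (iv F247517)) (tt N22385 D55155) (tt N18942 (iv D53557)))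
theorem Q20789 : ∀ i, i < 20789 → P i := stepQ 20788 Q20788 (allL N20788 (tt N19758 F240170) (tt N21793 (iv F244240)) (tt N19726 F240171) (tt N22386 D55156) (tt N18944 F240172) (tt N22385 (iv F247526)) (tt N19734 F240173) (tt N22384 (iv F247521)) (tt N18943 (iv D53558)) (tt N18967 F240174))
theorem Q20790 : ∀ i, i < 20790 → P i := stepQ 20789 Q20789 (allL N20789 (tt N19764 F240175) (tt N21796 (iv F244259)) (tt N19364 F240176) (tt N20789 F240177) (tt N22383 (iv F247515)) (tt N18946 F240178) (tt N22120 (iv F246227)) (tt N18948 F240179) (tt N22387 D55157) (tt N18945 (iv D53559)))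
theorem Q20791 : ∀ i, i < 20791 → P i := stepQ 20790 Q20790 (allL N20790 (tt N19765 F240180) (tt N21797 (iv F244265)) (tt N19367 F240181) (tt N22388 D55158) (tt N18947 F240182) (tt N22387 (iv F247534)) (tt N20790 F240183) (tt N18949 F240184) (tt N18946 (iv D53560)) (tt N18970 F240185))
theorem Q20792 : ∀ i, i < 20792 → P i := stepQ 20791 Q20791 (allL N20791 (tt N19770 F240186) (tt N21799 (iv F244278)) (tt N19366 F240187) (tt N22389 D55159) (tt N22385 (iv F247525)) (tt N18949 F240188) (tt N21868 (iv F244714)) (tt N22387 (iv F247535)) (tt N18948 (iv D53561)) (tt N18976 F240189))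
theorem Q20793 : ∀ i, i < 20793 → P i := stepQ 20792 Q20792 (allL N20792 (tt N19771 F240190) (tt N21800 (iv F244284)) (tt N19514 F240191) (tt N18949 (iv D53562)) (tt N19118 F240192) (tt N22389 (iv F247546)) (tt N18950 F240193) (tt N22388 (iv F247541)) (tt N20792 F240194) (tt N18977 F240195))
theorem Q20794 : ∀ i, i < 20794 → P i := stepQ 20793 Q20793 (allL N20793 (tt N19729 F240196) (tt N19015 F240197) (tt N18952 F240198) (tt N18995 F240199) (tt N18951 (iv D53563)) (tt N21866 (iv F244700)) (tt N18954 F240200) (tt N19737 F240201) (tt N19722 F240202) (tt N22390 D55160))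
theorem Q20795 : ∀ i, i < 20795 → P i := stepQ 20794 Q20794 (allL N20794 (tt N19730 F240203) (tt N19016 F240204) (tt N18953 F240205) (tt N18991 F240206) (tt N22390 (iv F247553)) (tt N20794 F240207) (tt N18955 F240208) (tt N19738 F240209) (tt N22391 D55161) (tt N18951 (iv D53564)))
theorem Q20796 : ∀ i, i < 20796 → P i := stepQ 20795 Q20795 (allL N20795 (tt N22176 (iv F246528)) (tt N19647 F240210) (tt N21866 (iv F244698)) (tt N19645 F240211) (tt N20795 F240212) (tt N18952 (iv D53565)) (tt N22266 (iv F246996)) (tt N19739 F240213) (tt N22380 (iv F247500)) (tt N22392 D55162))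
theorem Q20797 : ∀ i, i < 20797 → P i := stepQ 20796 Q20796 (allL N20796 (tt N22365 (iv F247425)) (tt N21803 (iv F244306)) (tt N22390 (iv F247551)) (tt N22144 (iv F246354)) (tt N18953 F240214) (tt N22392 (iv F247567)) (tt N18957 F240215) (tt N19740 F240216) (tt N22393 D55163) (tt N18952 (iv D53566)))
theorem Q20798 : ∀ i, i < 20798 → P i := stepQ 20797 Q20797 (allL N20797 (tt N22366 (iv F247430)) (tt N21804 (iv F244314)) (tt N22391 (iv F247558)) (tt N19132 F240217) (tt N22393 (iv F247569)) (tt N20797 F240218) (tt N18958 F240219) (tt N19741 F240220) (tt N18953 (iv D53567)) (tt N22382 (iv F247512)))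
theorem Q20799 : ∀ i, i < 20799 → P i := stepQ 20798 Q20798 (allL N20798 (tt N19731 F240221) (tt N19778 F240222) (tt N18957 F240223) (tt N19733 F240224) (tt N18955 F240225) (tt N19727 F240226) (tt N22390 (iv F247554)) (tt N18963 F240227) (tt N22394 D55164) (tt N18954 (iv D53568)))
theorem Q20800 : ∀ i, i < 20800 → P i := stepQ 20799 Q20799 (allL N20799 (tt N19732 F240228) (tt N19779 F240229) (tt N18958 F240230) (tt N19781 F240231) (tt N22394 (iv F247575)) (tt N18968 F240232) (tt N22391 (iv F247561)) (tt N18964 F240233) (tt N18955 (iv D53569)) (tt N19725 F240234))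
theorem Q20801 : ∀ i, i < 20801 → P i := stepQ 20800 Q20800 (allL N20800 (tt N22149 (iv F246378)) (tt N21809 (iv F244347)) (tt N19727 F240235) (tt N22110 (iv F246164)) (tt N18969 F240236) (tt N18957 F240237) (tt N22376 (iv F247482)) (tt N18966 F240238) (tt N22395 D55165) (tt N18956 (iv D53570)))
theorem Q20802 : ∀ i, i < 20802 → P i := stepQ 20801 Q20801 (allL N20801 (tt N22367 (iv F247437)) (tt N21810 (iv F244352)) (tt N22394 (iv F247574)) (tt N22396 D55166) (tt N18958 F240239) (tt N22395 (iv F247581)) (tt N22393 (iv F247570)) (tt N18967 F240240) (tt N18957 (iv D53571)) (tt N22384 (iv F247522)))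
theorem Q20803 : ∀ i, i < 20803 → P i := stepQ 20802 Q20802 (allL N20802 (tt N19449 F240241) (tt N18963 F240242) (tt N21812 (iv F244364)) (tt N19780 F240243) (tt N18960 F240244) (tt N19370 F240245) (tt N19753 F240246) (tt N19778 F240247) (tt N22397 D55167) (tt N18959 (iv D53572)))
theorem Q20804 : ∀ i, i < 20804 → P i := stepQ 20803 Q20803 (allL N20803 (tt N19460 F240248) (tt N18964 F240249) (tt N21813 (iv F244371)) (tt N19736 F240250) (tt N22397 (iv F247587)) (tt N18971 F240251) (tt N19754 F240252) (tt N19779 F240253) (tt N18960 (iv D53573)) (tt N19403 F240254))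
theorem Q20805 : ∀ i, i < 20805 → P i := stepQ 20804 Q20804 (allL N20804 (tt N19727 F240255) (tt N19780 F240256) (tt N22149 (iv F246379)) (tt N18963 F240257) (tt N18992 F240258) (tt N19731 F240259) (tt N19756 F240260) (tt N19733 F240261) (tt N22398 D55168) (tt N18961 (iv D53574)))
theorem Q20806 : ∀ i, i < 20806 → P i := stepQ 20805 Q20805 (allL N20805 (tt N19733 F240262) (tt N19370 F240263) (tt N18966 F240264) (tt N19731 F240265) (tt N18972 F240266) (tt N18963 F240267) (tt N21856 (iv F244637)) (tt N19727 F240268) (tt N22399 D55169) (tt N18962 (iv D53575)))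
theorem Q20807 : ∀ i, i < 20807 → P i := stepQ 20806 Q20806 (allL N20806 (tt N19734 F240269) (tt N22397 (iv F247586)) (tt N18967 F240270) (tt N22400 D55170) (tt N18964 F240271) (tt N22399 (iv F247603)) (tt N19758 F240272) (tt N22394 (iv F247577)) (tt N18963 (iv D53576)) (tt N19726 F240273))
theorem Q20808 : ∀ i, i < 20808 → P i := stepQ 20807 Q20807 (allL N20807 (tt N19668 F240274) (tt N19035 F240275) (tt N21854 (iv F244618)) (tt N19666 F240276) (tt N18974 F240277) (tt N19002 F240278) (tt N22299 (iv F247140)) (tt N18965 (iv D53577)) (tt N21862 (iv F244677)) (tt N22401 D55171))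
theorem Q20809 : ∀ i, i < 20809 → P i := stepQ 20808 Q20808 (allL N20808 (tt N21869 (iv F244716)) (tt N19044 F240279) (tt N21856 (iv F244633)) (tt N22152 (iv F246394)) (tt N18975 F240280) (tt N19006 F240281) (tt N18966 F240282) (tt N22401 (iv F247615)) (tt N22402 D55172) (tt N18965 (iv D53578)))
theorem Q20810 : ∀ i, i < 20810 → P i := stepQ 20809 Q20809 (allL N20809 (tt N22368 (iv F247442)) (tt N21820 (iv F244410)) (tt N22399 (iv F247601)) (tt N22403 D55173) (tt N18976 F240283) (tt N18967 F240284) (tt N22402 (iv F247619)) (tt N22395 (iv F247582)) (tt N18966 (iv D53579)) (tt N22385 (iv F247527)))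
theorem Q20811 : ∀ i, i < 20811 → P i := stepQ 20810 Q20810 (allL N20810 (tt N22369 (iv F247447)) (tt N21821 (iv F244415)) (tt N22404 D55174) (tt N18967 (iv D53580)) (tt N19159 F240285) (tt N22403 (iv F247620)) (tt N19760 F240286) (tt N22396 (iv F247584)) (tt N22154 (iv F246403)) (tt N22386 (iv F247531)))
theorem Q20812 : ∀ i, i < 20812 → P i := stepQ 20811 Q20811 (allL N20811 (tt N22166 (iv F246470)) (tt N21826 (iv F244444)) (tt N19728 F240287) (tt N22405 D55175) (tt N22395 (iv F247580)) (tt N18970 F240288) (tt N22377 (iv F247486)) (tt N18976 F240289) (tt N18969 (iv D53581)) (tt N22387 (iv F247536)))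
theorem Q20813 : ∀ i, i < 20813 → P i := stepQ 20812 Q20812 (allL N20812 (tt N22370 (iv F247451)) (tt N21827 (iv F244448)) (tt N19998 F240290) (tt N18970 (iv D53582)) (tt N19171 F240291) (tt N22405 (iv F247624)) (tt N20812 F240292) (tt N18977 F240293) (tt N18984 F240294) (tt N22388 (iv F247543)))
theorem Q20814 : ∀ i, i < 20814 → P i := stepQ 20813 Q20813 (allL N20813 (tt N19736 F240295) (tt N19371 F240296) (tt N18976 F240297) (tt N19460 F240298) (tt N22399 (iv F247602)) (tt N18973 F240299) (tt N21857 (iv F244643)) (tt N19728 F240300) (tt N18972 (iv D53583)) (tt N19366 F240301))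
theorem Q20815 : ∀ i, i < 20815 → P i := stepQ 20814 Q20814 (allL N20814 (tt N19707 F240302) (tt N19050 F240303) (tt N21855 (iv F244626)) (tt N18985 F240304) (tt N22401 (iv F247613)) (tt N18978 F240305) (tt N22347 (iv F247333)) (tt N18975 F240306) (tt N22406 D55176) (tt N18974 (iv D53584)))
theorem Q20816 : ∀ i, i < 20816 → P i := stepQ 20815 Q20815 (allL N20815 (tt N21873 (iv F244742)) (tt N19055 F240307) (tt N21857 (iv F244640)) (tt N22407 D55177) (tt N22402 (iv F247617)) (tt N18979 F240308) (tt N18976 F240309) (tt N22406 (iv F247630)) (tt N18975 (iv D53585)) (tt N21868 (iv F244715)))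
theorem Q20817 : ∀ i, i < 20817 → P i := stepQ 20816 Q20816 (allL N20816 (tt N22371 (iv F247458)) (tt N21832 (iv F244478)) (tt N22408 D55178) (tt N18976 (iv D53586)) (tt N22409 D55179) (tt N18977 F240310) (tt N22407 (iv F247633)) (tt N22405 (iv F247625)) (tt N18987 F240311) (tt N22389 (iv F247548)))
theorem Q20818 : ∀ i, i < 20818 → P i := stepQ 20817 Q20817 (allL N20817 (tt N21828 (iv F244453)) (tt N22013 (iv F245552)) (tt N18977 (iv D53587)) (tt N19457 F240312) (tt N19185 F240313) (tt N22408 (iv F247636)) (tt N18981 F240314) (tt N19998 F240315) (tt N18988 F240316) (tt N19514 F240317))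
theorem Q20819 : ∀ i, i < 20819 → P i := stepQ 20818 Q20818 (allL N20818 (tt N19952 F240318) (tt N19051 F240319) (tt N21858 (iv F244647)) (tt N22410 D55180) (tt N19009 F240320) (tt N22406 (iv F247629)) (tt N20818 F240321) (tt N18979 F240322) (tt N18978 (iv D53588)) (tt N21871 (iv F244734)))
theorem Q20820 : ∀ i, i < 20820 → P i := stepQ 20819 Q20819 (allL N20819 (tt N21874 (iv F244749)) (tt N19056 F240323) (tt N22003 (iv F245502)) (tt N18979 (iv D53589)) (tt N21903 (iv F244940)) (tt N22407 (iv F247632)) (tt N18980 F240324) (tt N22410 (iv F247645)) (tt N18990 F240325) (tt N21872 (iv F244741)))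
theorem Q20821 : ∀ i, i < 20821 → P i := stepQ 20820 Q20820 (allL N20820 (tt N19620 F240326) (tt N21837 (iv F244511)) (tt N19234 F240327) (tt N22411 D55181) (tt N19589 F240328) (tt N20820 F240329) (tt N18983 F240330) (tt N22348 (iv F247341)) (tt N18982 (iv D53590)) (tt N20820 F240331))
theorem Q20822 : ∀ i, i < 20822 → P i := stepQ 20821 Q20821 (allL N20821 (tt N22167 (iv F246476)) (tt N21838 (iv F244519)) (tt N19944 F240332) (tt N18983 (iv D53591)) (tt N22412 D55182) (tt N18984 F240333) (tt N22411 (iv F247650)) (tt N18987 F240334) (tt N22405 (iv F247626)) (tt N20821 F240335))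
theorem Q20823 : ∀ i, i < 20823 → P i := stepQ 20822 Q20822 (allL N20822 (tt N19708 F240336) (tt N19060 F240337) (tt N19721 F240338) (tt N22413 D55183) (tt N19706 F240339) (tt N18989 F240340) (tt N22348 (iv F247340)) (tt N18986 F240341) (tt N18985 (iv D53592)) (tt N20822 F240342))
theorem Q20824 : ∀ i, i < 20824 → P i := stepQ 20823 Q20823 (allL N20823 (tt N21875 (iv F244757)) (tt N19062 F240343) (tt N22041 (iv F245710)) (tt N18986 (iv D53593)) (tt N22414 D55184) (tt N18990 F240344) (tt N18987 F240345) (tt N22413 (iv F247659)) (tt N22407 (iv F247634)) (tt N20823 F240346))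
theorem Q20825 : ∀ i, i < 20825 → P i := stepQ 20824 Q20824 (allL N20824 (tt N21847 (iv F244576)) (tt N22042 (iv F245715)) (tt N18987 (iv D53594)) (tt N19935 F240347) (tt N22415 D55185) (tt N18988 F240348) (tt N22041 (iv F245712)) (tt N19944 F240349) (tt N22408 (iv F247638)) (tt N20824 F240350))
theorem Q20826 : ∀ i, i < 20826 → P i := stepQ 20825 Q20825 (allL N20825 (tt N22372 (iv F247462)) (tt N21841 (iv F244536)) (tt N22415 (iv F247664)) (tt N22164 (iv F246460)) (tt N18987 (iv D53595)) (tt N19206 F240351) (tt N22414 (iv F247662)) (tt N22412 (iv F247654)) (tt N22409 (iv F247641)) (tt N20825 F240352))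
theorem Q20827 : ∀ i, i < 20827 → P i := stepQ 20826 Q20826 (allL N20826 (tt N19953 F240353) (tt N19061 F240354) (tt N22039 (iv F245699)) (tt N18989 (iv D53596)) (tt N21907 (iv F244967)) (tt N22413 (iv F247658)) (tt N20826 F240355) (tt N18990 F240356) (tt N22410 (iv F247646)) (tt N20826 F240357))
theorem Q20828 : ∀ i, i < 20828 → P i := stepQ 20827 Q20827 (allL N20827 (tt N19728 F240358) (tt N19781 F240359) (tt N22166 (iv F246471)) (tt N19779 F240360) (tt N22398 (iv F247594)) (tt N19735 F240361) (tt N19775 F240362) (tt N19736 F240363) (tt N18992 (iv D53597)) (tt N19767 F240364))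
theorem Q20829 : ∀ i, i < 20829 → P i := stepQ 20828 Q20828 (allL N20828 (tt N21854 (iv F244616)) (tt N19019 F240365) (tt N19668 F240366) (tt N19737 F240367) (tt N18993 (iv D53598)) (tt N21862 (iv F244675)) (tt N19744 F240368) (tt N18995 F240369) (tt N19002 F240370) (tt N22416 D55186))
theorem Q20830 : ∀ i, i < 20830 → P i := stepQ 20829 Q20829 (allL N20829 (tt N21855 (iv F244624)) (tt N19020 F240371) (tt N19707 F240372) (tt N18994 F240373) (tt N22416 (iv F247671)) (tt N18997 F240374) (tt N19773 F240375) (tt N18996 F240376) (tt N22417 D55187) (tt N18993 (iv D53599)))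
theorem Q20831 : ∀ i, i < 20831 → P i := stepQ 20830 Q20830 (allL N20830 (tt N21856 (iv F244631)) (tt N19022 F240377) (tt N21869 (iv F244718)) (tt N22390 (iv F247552)) (tt N18996 F240378) (tt N21867 (iv F244708)) (tt N19733 F240379) (tt N22416 (iv F247673)) (tt N22418 D55188) (tt N18995 (iv D53600)))
theorem Q20832 : ∀ i, i < 20832 → P i := stepQ 20831 Q20831 (allL N20831 (tt N21857 (iv F244638)) (tt N19023 F240380) (tt N21873 (iv F244744)) (tt N19754 F240381) (tt N22418 (iv F247682)) (tt N18998 F240382) (tt N19736 F240383) (tt N22417 (iv F247679)) (tt N18996 (iv D53601)) (tt N19007 F240384))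
theorem Q20833 : ∀ i, i < 20833 → P i := stepQ 20832 Q20832 (allL N20832 (tt N21858 (iv F244645)) (tt N19026 F240385) (tt N19952 F240386) (tt N19763 F240387) (tt N21871 (iv F244731)) (tt N22417 (iv F247677)) (tt N20832 F240388) (tt N18998 F240389) (tt N18997 (iv D53602)) (tt N19009 F240390))
theorem Q20834 : ∀ i, i < 20834 → P i := stepQ 20833 Q20833 (allL N20833 (tt N21860 (iv F244660)) (tt N19031 F240391) (tt N22303 (iv F247161)) (tt N22093 (iv F246049)) (tt N18999 (iv D53603)) (tt N22128 (iv F246271)) (tt N19002 F240392) (tt N19748 F240393) (tt N19744 F240394) (tt N22419 D55189))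
theorem Q20835 : ∀ i, i < 20835 → P i := stepQ 20834 Q20834 (allL N20834 (tt N21861 (iv F244666)) (tt N19032 F240395) (tt N22349 (iv F247344)) (tt N19000 F240396) (tt N22419 (iv F247686)) (tt N20834 F240397) (tt N19003 F240398) (tt N19766 F240399) (tt N22420 D55190) (tt N18999 (iv D53604)))
theorem Q20836 : ∀ i, i < 20836 → P i := stepQ 20835 Q20835 (allL N20835 (tt N21862 (iv F244672)) (tt N19672 F240400) (tt N19002 F240401) (tt N22380 (iv F247497)) (tt N19001 (iv D53605)) (tt N21854 (iv F244620)) (tt N22303 (iv F247163)) (tt N19004 F240402) (tt N19668 F240403) (tt N22421 D55191))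
theorem Q20837 : ∀ i, i < 20837 → P i := stepQ 20836 Q20836 (allL N20836 (tt N21863 (iv F244679)) (tt N19710 F240404) (tt N19003 F240405) (tt N20836 F240406) (tt N22421 (iv F247696)) (tt N19008 F240407) (tt N22349 (iv F247347)) (tt N19005 F240408) (tt N22422 D55192) (tt N19001 (iv D53606)))
theorem Q20838 : ∀ i, i < 20838 → P i := stepQ 20837 Q20837 (allL N20837 (tt N21864 (iv F244685)) (tt N19036 F240409) (tt N22421 (iv F247695)) (tt N22172 (iv F246506)) (tt N19003 F240410) (tt N22401 (iv F247614)) (tt N22419 (iv F247687)) (tt N19006 F240411) (tt N22423 D55193) (tt N19002 (iv D53607)))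
theorem Q20839 : ∀ i, i < 20839 → P i := stepQ 20838 Q20838 (allL N20838 (tt N21865 (iv F244691)) (tt N19037 F240412) (tt N22422 (iv F247699)) (tt N22359 (iv F247389)) (tt N22423 (iv F247704)) (tt N19009 F240413) (tt N22420 (iv F247691)) (tt N19007 F240414) (tt N19003 (iv D53608)) (tt N22417 (iv F247680)))
theorem Q20840 : ∀ i, i < 20840 → P i := stepQ 20839 Q20839 (allL N20839 (tt N21866 (iv F244696)) (tt N21876 (iv F244765)) (tt N22176 (iv F246529)) (tt N19004 (iv D53609)) (tt N20839 F240415) (tt N19729 F240416) (tt N19755 F240417) (tt N22380 (iv F247499)) (tt N19739 (iv F240418)) (tt N22424 D55194))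
theorem Q20841 : ∀ i, i < 20841 → P i := stepQ 20840 Q20840 (allL N20840 (tt N21867 (iv F244704)) (tt N21884 (iv F244819)) (tt N19006 F240419) (tt N22424 (iv F247706)) (tt N19005 F240420) (tt N21856 (iv F244636)) (tt N19757 F240421) (tt N22421 (iv F247697)) (tt N22425 D55195) (tt N19004 (iv D53610)))
theorem Q20842 : ∀ i, i < 20842 → P i := stepQ 20841 Q20841 (allL N20841 (tt N21868 (iv F244710)) (tt N21887 (iv F244838)) (tt N19007 F240422) (tt N22426 D55196) (tt N22425 (iv F247711)) (tt N19010 F240423) (tt N19770 F240424) (tt N22422 (iv F247701)) (tt N19005 (iv D53611)) (tt N21873 (iv F244748)))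
theorem Q20843 : ∀ i, i < 20843 → P i := stepQ 20842 Q20842 (allL N20842 (tt N21870 (iv F244724)) (tt N19045 F240425) (tt N22425 (iv F247710)) (tt N22427 D55197) (tt N19007 F240426) (tt N22402 (iv F247618)) (tt N19759 F240427) (tt N22423 (iv F247705)) (tt N19006 (iv D53612)) (tt N22418 (iv F247684)))
theorem Q20844 : ∀ i, i < 20844 → P i := stepQ 20843 Q20843 (allL N20843 (tt N21871 (iv F244728)) (tt N19954 F240428) (tt N19009 F240429) (tt N22428 D55198) (tt N21858 (iv F244649)) (tt N22422 (iv F247700)) (tt N20843 F240430) (tt N19010 F240431) (tt N19008 (iv D53613)) (tt N19952 F240432))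
theorem Q20845 : ∀ i, i < 20845 → P i := stepQ 20844 Q20844 (allL N20844 (tt N21872 (iv F244735)) (tt N21888 (iv F244845)) (tt N22364 (iv F247420)) (tt N19010 (iv D53614)) (tt N21961 (iv F245277)) (tt N22426 (iv F247713)) (tt N19011 F240433) (tt N22428 (iv F247720)) (tt N20844 F240434) (tt N21874 (iv F244756)))
theorem Q20846 : ∀ i, i < 20846 → P i := stepQ 20845 Q20845 (allL N20845 (tt N19078 F240435) (tt N19737 F240436) (tt N19480 F240437) (tt N19019 F240438) (tt N19012 (iv D53615)) (tt N22429 D55199) (tt N19742 F240439) (tt N19015 F240440) (tt N22182 (iv F246564)) (tt N22430 D55200))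
theorem Q20847 : ∀ i, i < 20847 → P i := stepQ 20846 Q20846 (allL N20846 (tt N19079 F240441) (tt N19738 F240442) (tt N19535 F240443) (tt N19013 F240444) (tt N22430 (iv F247733)) (tt N20846 F240445) (tt N19743 F240446) (tt N19016 F240447) (tt N22431 D55201) (tt N19012 (iv D53616)))
theorem Q20848 : ∀ i, i < 20848 → P i := stepQ 20847 Q20847 (allL N20847 (tt N19081 F240448) (tt N19472 F240449) (tt N19015 F240450) (tt N19470 F240451) (tt N19014 (iv D53617)) (tt N22432 D55202) (tt N19776 F240452) (tt N19480 F240453) (tt N22184 (iv F246577)) (tt N22433 D55203))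
theorem Q20849 : ∀ i, i < 20849 → P i := stepQ 20848 Q20848 (allL N20848 (tt N19082 F240454) (tt N19530 F240455) (tt N19016 F240456) (tt N19235 F240457) (tt N22433 (iv F247753)) (tt N20848 F240458) (tt N19777 F240459) (tt N19535 F240460) (tt N22434 D55204) (tt N19014 (iv D53618)))
theorem Q20850 : ∀ i, i < 20850 → P i := stepQ 20849 Q20849 (allL N20849 (tt N19083 F240461) (tt N21866 (iv F244697)) (tt N22432 (iv F247745)) (tt N19021 F240462) (tt N20849 F240463) (tt N19015 (iv D53619)) (tt N21779 (iv F244158)) (tt N22429 (iv F247728)) (tt N22186 (iv F246590)) (tt N22435 D55205))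
theorem Q20851 : ∀ i, i < 20851 → P i := stepQ 20850 Q20850 (allL N20850 (tt N19084 F240464) (tt N22390 (iv F247550)) (tt N22433 (iv F247751)) (tt N19022 F240465) (tt N19016 F240466) (tt N22435 (iv F247765)) (tt N19778 F240467) (tt N22430 (iv F247735)) (tt N22436 D55206) (tt N19015 (iv D53620)))
theorem Q20852 : ∀ i, i < 20852 → P i := stepQ 20851 Q20851 (allL N20851 (tt N19085 F240468) (tt N22391 (iv F247557)) (tt N22434 (iv F247758)) (tt N19775 F240469) (tt N22436 (iv F247767)) (tt N20851 F240470) (tt N19779 F240471) (tt N22431 (iv F247742)) (tt N19016 (iv D53621)) (tt N22188 (iv F246601)))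
theorem Q20853 : ∀ i, i < 20853 → P i := stepQ 20852 Q20852 (allL N20852 (tt N19087 F240472) (tt N19744 F240473) (tt N19145 F240474) (tt N19742 F240475) (tt N19017 (iv D53622)) (tt N22437 D55207) (tt N19019 F240476) (tt N19751 F240477) (tt N19031 F240478) (tt N22438 D55208))
theorem Q20854 : ∀ i, i < 20854 → P i := stepQ 20853 Q20853 (allL N20853 (tt N19088 F240479) (tt N19773 F240480) (tt N19222 F240481) (tt N19018 F240482) (tt N22438 (iv F247780)) (tt N20853 F240483) (tt N19020 F240484) (tt N19774 F240485) (tt N22439 D55209) (tt N19017 (iv D53623)))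
theorem Q20855 : ∀ i, i < 20855 → P i := stepQ 20854 Q20854 (allL N20854 (tt N19092 F240486) (tt N21862 (iv F244673)) (tt N19880 F240487) (tt N22429 (iv F247726)) (tt N19024 F240488) (tt N19019 (iv D53624)) (tt N22440 D55210) (tt N19021 F240489) (tt N19035 F240490) (tt N22441 D55211))
theorem Q20856 : ∀ i, i < 20856 → P i := stepQ 20855 Q20855 (allL N20855 (tt N19093 F240491) (tt N22416 (iv F247668)) (tt N19881 F240492) (tt N22430 (iv F247732)) (tt N19020 F240493) (tt N22441 (iv F247798)) (tt N22438 (iv F247781)) (tt N19022 F240494) (tt N22442 D55212) (tt N19019 (iv D53625)))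
theorem Q20857 : ∀ i, i < 20857 → P i := stepQ 20856 Q20856 (allL N20856 (tt N19094 F240495) (tt N22417 (iv F247674)) (tt N19872 F240496) (tt N19747 F240497) (tt N22442 (iv F247802)) (tt N19026 F240498) (tt N22439 (iv F247788)) (tt N19023 F240499) (tt N19020 (iv D53626)) (tt N19037 F240500))
theorem Q20858 : ∀ i, i < 20858 → P i := stepQ 20857 Q20857 (allL N20857 (tt N19102 F240501) (tt N21867 (iv F244705)) (tt N19928 F240502) (tt N22435 (iv F247763)) (tt N19027 F240503) (tt N19022 F240504) (tt N21792 (iv F244238)) (tt N22441 (iv F247799)) (tt N22443 D55213) (tt N19021 (iv D53627)))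
theorem Q20859 : ∀ i, i < 20859 → P i := stepQ 20858 Q20858 (allL N20858 (tt N19103 F240505) (tt N22418 (iv F247681)) (tt N19895 F240506) (tt N22444 D55214) (tt N19023 F240507) (tt N22443 (iv F247808)) (tt N19782 F240508) (tt N22442 (iv F247803)) (tt N19022 (iv D53628)) (tt N19045 F240509))
theorem Q20860 : ∀ i, i < 20860 → P i := stepQ 20859 Q20859 (allL N20859 (tt N19108 F240510) (tt N21859 (iv F244654)) (tt N19950 F240511) (tt N20859 F240512) (tt N22440 (iv F247793)) (tt N20859 F240513) (tt N19024 (iv D53629)) (tt N21795 (iv F244256)) (tt N19049 F240514) (tt N22445 D55215))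
theorem Q20861 : ∀ i, i < 20861 → P i := stepQ 20860 Q20860 (allL N20860 (tt N19109 F240515) (tt N21863 (iv F244680)) (tt N19929 F240516) (tt N20860 F240517) (tt N22441 (iv F247797)) (tt N19025 F240518) (tt N22445 (iv F247818)) (tt N19027 F240519) (tt N22446 D55216) (tt N19024 (iv D53630)))
theorem Q20862 : ∀ i, i < 20862 → P i := stepQ 20861 Q20861 (allL N20861 (tt N19110 F240520) (tt N21871 (iv F244729)) (tt N19907 F240521) (tt N22447 D55217) (tt N19026 F240522) (tt N22446 (iv F247821)) (tt N20861 F240523) (tt N19028 F240524) (tt N19025 (iv D53631)) (tt N19051 F240525))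
theorem Q20863 : ∀ i, i < 20863 → P i := stepQ 20862 Q20862 (allL N20862 (tt N19117 F240526) (tt N21868 (iv F244711)) (tt N19919 F240527) (tt N22448 D55218) (tt N22443 (iv F247807)) (tt N19028 F240528) (tt N21799 (iv F244281)) (tt N22446 (iv F247822)) (tt N19027 (iv D53632)) (tt N19055 F240529))
theorem Q20864 : ∀ i, i < 20864 → P i := stepQ 20863 Q20863 (allL N20863 (tt N19118 F240530) (tt N21872 (iv F244736)) (tt N22449 D55219) (tt N19028 (iv D53633)) (tt N19771 F240531) (tt N22448 (iv F247831)) (tt N19029 F240532) (tt N22447 (iv F247827)) (tt N20863 F240533) (tt N19056 F240534))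
theorem Q20865 : ∀ i, i < 20865 → P i := stepQ 20864 Q20864 (allL N20864 (tt N19126 F240535) (tt N21801 (iv F244290)) (tt N19029 (iv D53634)) (tt N19406 F240536) (tt N19405 F240537) (tt N21802 (iv F244301)) (tt N22449 (iv F247837)) (tt N20864 F240538) (tt N20864 F240539) (tt N19058 F240540))
theorem Q20866 : ∀ i, i < 20866 → P i := stepQ 20865 Q20865 (allL N20865 (tt N19128 F240541) (tt N19150 F240542) (tt N19031 F240543) (tt N21985 (iv F245416)) (tt N19030 (iv D53635)) (tt N22450 D55220) (tt N19033 F240544) (tt N19783 F240545) (tt N19145 F240546) (tt N22451 D55221))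
theorem Q20867 : ∀ i, i < 20867 → P i := stepQ 20866 Q20866 (allL N20866 (tt N19129 F240547) (tt N19224 F240548) (tt N19032 F240549) (tt N19065 F240550) (tt N22451 (iv F247850)) (tt N20866 F240551) (tt N19034 F240552) (tt N19784 F240553) (tt N22452 D55222) (tt N19030 (iv D53636)))
theorem Q20868 : ∀ i, i < 20868 → P i := stepQ 20867 Q20867 (allL N20867 (tt N19130 F240554) (tt N22128 (iv F246269)) (tt N22450 (iv F247842)) (tt N22126 F246262) (tt N20867 F240555) (tt N19031 (iv D53637)) (tt N22261 (iv F246973)) (tt N19785 F240556) (tt N22437 (iv F247775)) (tt N22453 D55223))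
theorem Q20869 : ∀ i, i < 20869 → P i := stepQ 20868 Q20868 (allL N20868 (tt N19131 F240557) (tt N22419 (iv F247685)) (tt N22451 (iv F247849)) (tt N22211 (iv F246728)) (tt N19032 F240558) (tt N22453 (iv F247863)) (tt N19036 F240559) (tt N19786 F240560) (tt N22454 D55224) (tt N19031 (iv D53638)))
theorem Q20870 : ∀ i, i < 20870 → P i := stepQ 20869 Q20869 (allL N20869 (tt N19132 F240561) (tt N22420 (iv F247689)) (tt N22452 (iv F247855)) (tt N22366 (iv F247432)) (tt N22454 (iv F247866)) (tt N20869 F240562) (tt N19037 F240563) (tt N19787 F240564) (tt N19032 (iv D53639)) (tt N22439 (iv F247790)))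
theorem Q20871 : ∀ i, i < 20871 → P i := stepQ 20870 Q20870 (allL N20870 (tt N19136 F240565) (tt N19833 F240566) (tt N21971 (iv F245331)) (tt N19033 (iv D53640)) (tt N19067 F240567) (tt N22455 D55225) (tt N21985 (iv F245419)) (tt N19040 F240568) (tt N19828 F240569) (tt N22456 D55226))
theorem Q20872 : ∀ i, i < 20872 → P i := stepQ 20871 Q20871 (allL N20871 (tt N19137 F240570) (tt N19887 F240571) (tt N19035 F240572) (tt N22455 (iv F247871)) (tt N19046 F240573) (tt N19033 (iv D53641)) (tt N22457 D55227) (tt N19041 F240574) (tt N19880 F240575) (tt N22458 D55228))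
theorem Q20873 : ∀ i, i < 20873 → P i := stepQ 20872 Q20872 (allL N20872 (tt N19138 F240576) (tt N19889 F240577) (tt N19036 F240578) (tt N22456 (iv F247877)) (tt N19034 F240579) (tt N22458 (iv F247889)) (tt N22451 (iv F247851)) (tt N19042 F240580) (tt N22459 D55229) (tt N19033 (iv D53642)))
theorem Q20874 : ∀ i, i < 20874 → P i := stepQ 20873 Q20873 (allL N20873 (tt N19139 F240581) (tt N19927 F240582) (tt N19037 F240583) (tt N19824 F240584) (tt N22459 (iv F247894)) (tt N19048 F240585) (tt N22452 (iv F247858)) (tt N19043 F240586) (tt N19034 (iv D53643)) (tt N19872 F240587))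
theorem Q20875 : ∀ i, i < 20875 → P i := stepQ 20874 Q20874 (allL N20874 (tt N19140 F240588) (tt N22299 (iv F247136)) (tt N22457 (iv F247882)) (tt N22215 (iv F246746)) (tt N19049 F240589) (tt N22261 (iv F246972)) (tt N19035 (iv D53644)) (tt N21808 (iv F244345)) (tt N22440 (iv F247794)) (tt N22460 D55230))
theorem Q20876 : ∀ i, i < 20876 → P i := stepQ 20875 Q20875 (allL N20875 (tt N19141 F240590) (tt N22401 (iv F247611)) (tt N22458 (iv F247887)) (tt N22216 (iv F246753)) (tt N19050 F240591) (tt N19036 F240592) (tt N22460 (iv F247899)) (tt N19044 F240593) (tt N22461 D55231) (tt N19035 (iv D53645)))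
theorem Q20877 : ∀ i, i < 20877 → P i := stepQ 20876 Q20876 (allL N20876 (tt N19142 F240594) (tt N22423 (iv F247703)) (tt N22459 (iv F247893)) (tt N22462 D55232) (tt N19037 F240595) (tt N22461 (iv F247902)) (tt N22454 (iv F247867)) (tt N19045 F240596) (tt N19036 (iv D53646)) (tt N22442 (iv F247804)))
theorem Q20878 : ∀ i, i < 20878 → P i := stepQ 20877 Q20877 (allL N20877 (tt N21938 (iv F245137)) (tt N19040 F240597) (tt N22463 D55233) (tt N19038 (iv D53647)) (tt N19071 F240598) (tt N21881 (iv F244800)) (tt N19795 F240599) (tt N19833 F240600) (tt N19822 F240601) (tt N22464 D55234))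
theorem Q20879 : ∀ i, i < 20879 → P i := stepQ 20878 Q20878 (allL N20878 (tt N21941 (iv F245155)) (tt N19042 F240602) (tt N21884 (iv F244820)) (tt N22464 (iv F247914)) (tt N19039 F240603) (tt N21882 (iv F244808)) (tt N19796 F240604) (tt N19889 F240605) (tt N22465 D55235) (tt N19038 (iv D53648)))
theorem Q20880 : ∀ i, i < 20880 → P i := stepQ 20879 Q20879 (allL N20879 (tt N21954 (iv F245230)) (tt N19043 F240606) (tt N21887 (iv F244839)) (tt N19831 F240607) (tt N22465 (iv F247919)) (tt N19052 F240608) (tt N19797 F240609) (tt N19927 F240610) (tt N19039 (iv D53649)) (tt N19885 F240611))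
theorem Q20881 : ∀ i, i < 20881 → P i := stepQ 20880 Q20880 (allL N20880 (tt N19149 F240612) (tt N21881 (iv F244797)) (tt N21962 (iv F245283)) (tt N19041 F240613) (tt N20880 F240614) (tt N19040 (iv D53650)) (tt N21814 (iv F244381)) (tt N22455 (iv F247873)) (tt N22466 D55236) (tt N22467 D55237))
theorem Q20882 : ∀ i, i < 20882 → P i := stepQ 20881 Q20881 (allL N20881 (tt N19150 F240615) (tt N19822 F240616) (tt N21932 (iv F245103)) (tt N19820 F240617) (tt N19073 F240618) (tt N22466 (iv F247927)) (tt N19798 F240619) (tt N19828 F240620) (tt N19040 (iv D53651)) (tt N22468 D55238))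
theorem Q20883 : ∀ i, i < 20883 → P i := stepQ 20882 Q20882 (allL N20882 (tt N19151 F240621) (tt N22464 (iv F247913)) (tt N21972 (iv F245338)) (tt N19042 F240622) (tt N19074 F240623) (tt N22467 (iv F247932)) (tt N19799 F240624) (tt N22456 (iv F247879)) (tt N22469 D55239) (tt N19040 (iv D53652)))
theorem Q20884 : ∀ i, i < 20884 → P i := stepQ 20883 Q20883 (allL N20883 (tt N19153 F240625) (tt N21882 (iv F244805)) (tt N19044 F240626) (tt N22467 (iv F247930)) (tt N19053 F240627) (tt N19042 F240628) (tt N21817 (iv F244399)) (tt N22458 (iv F247890)) (tt N22470 D55240) (tt N19041 (iv D53653)))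
theorem Q20885 : ∀ i, i < 20885 → P i := stepQ 20884 Q20884 (allL N20884 (tt N19154 F240629) (tt N22465 (iv F247918)) (tt N19045 F240630) (tt N22471 D55241) (tt N19043 F240631) (tt N22470 (iv F247945)) (tt N19800 F240632) (tt N22459 (iv F247895)) (tt N19042 (iv D53654)) (tt N19895 F240633))
theorem Q20886 : ∀ i, i < 20886 → P i := stepQ 20885 Q20885 (allL N20885 (tt N19158 F240634) (tt N22402 (iv F247616)) (tt N22470 (iv F247943)) (tt N22472 D55242) (tt N19055 F240635) (tt N19045 F240636) (tt N21820 (iv F244413)) (tt N22461 (iv F247903)) (tt N19044 (iv D53655)) (tt N22443 (iv F247809)))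
theorem Q20887 : ∀ i, i < 20887 → P i := stepQ 20886 Q20886 (allL N20886 (tt N19159 F240637) (tt N22427 (iv F247716)) (tt N22473 D55243) (tt N19045 (iv D53656)) (tt N22369 (iv F247448)) (tt N22472 (iv F247952)) (tt N19801 F240638) (tt N22462 (iv F247905)) (tt N22225 (iv F246791)) (tt N22444 (iv F247813)))
theorem Q20888 : ∀ i, i < 20888 → P i := stepQ 20887 Q20887 (allL N20887 (tt N19164 F240639) (tt N19973 F240640) (tt N19049 F240641) (tt N20887 F240642) (tt N22457 (iv F247883)) (tt N20887 F240643) (tt N19046 (iv D53657)) (tt N21776 (iv F244141)) (tt N19950 F240644) (tt N22474 D55244))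
theorem Q20889 : ∀ i, i < 20889 → P i := stepQ 20888 Q20888 (allL N20888 (tt N19165 F240645) (tt N19975 F240646) (tt N19050 F240647) (tt N20888 F240648) (tt N22458 (iv F247888)) (tt N19047 F240649) (tt N22474 (iv F247960)) (tt N19053 F240650) (tt N22475 D55245) (tt N19046 (iv D53658)))
theorem Q20890 : ∀ i, i < 20890 → P i := stepQ 20889 Q20889 (allL N20889 (tt N19166 F240651) (tt N19977 F240652) (tt N19051 F240653) (tt N22476 D55246) (tt N19048 F240654) (tt N22475 (iv F247964)) (tt N20889 F240655) (tt N19054 F240656) (tt N19047 (iv D53659)) (tt N19907 F240657))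
theorem Q20891 : ∀ i, i < 20891 → P i := stepQ 20890 Q20890 (allL N20890 (tt N19169 F240658) (tt N22347 (iv F247329)) (tt N22474 (iv F247957)) (tt N19059 F240659) (tt N22460 (iv F247898)) (tt N20890 F240660) (tt N19050 F240661) (tt N21825 (iv F244442)) (tt N22477 D55247) (tt N19049 (iv D53660)))
theorem Q20892 : ∀ i, i < 20892 → P i := stepQ 20891 Q20891 (allL N20891 (tt N19170 F240662) (tt N22406 (iv F247628)) (tt N22475 (iv F247963)) (tt N22478 D55248) (tt N22461 (iv F247901)) (tt N19051 F240663) (tt N22477 (iv F247976)) (tt N19055 F240664) (tt N19050 (iv D53661)) (tt N22446 (iv F247823)))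
theorem Q20893 : ∀ i, i < 20893 → P i := stepQ 20892 Q20892 (allL N20892 (tt N19171 F240665) (tt N22410 (iv F247643)) (tt N22479 D55249) (tt N19051 (iv D53662)) (tt N22370 (iv F247453)) (tt N22478 (iv F247978)) (tt N20892 F240666) (tt N19056 F240667) (tt N19061 F240668) (tt N22447 (iv F247829)))
theorem Q20894 : ∀ i, i < 20894 → P i := stepQ 20893 Q20893 (allL N20893 (tt N19179 F240669) (tt N21883 (iv F244812)) (tt N19055 F240670) (tt N22480 D55250) (tt N22470 (iv F247944)) (tt N19054 F240671) (tt N21829 (iv F244465)) (tt N22475 (iv F247965)) (tt N19053 (iv D53663)) (tt N19919 F240672))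
theorem Q20895 : ∀ i, i < 20895 → P i := stepQ 20894 Q20894 (allL N20894 (tt N19180 F240673) (tt N21886 (iv F244830)) (tt N22481 D55251) (tt N19054 (iv D53664)) (tt N19852 F240674) (tt N22480 (iv F247987)) (tt N19057 F240675) (tt N22476 (iv F247971)) (tt N20894 F240676) (tt N19918 F240677))
theorem Q20896 : ∀ i, i < 20896 → P i := stepQ 20895 Q20895 (allL N20895 (tt N19184 F240678) (tt N22407 (iv F247631)) (tt N22482 D55252) (tt N19055 (iv D53665)) (tt N22483 D55253) (tt N19056 F240679) (tt N21832 (iv F244480)) (tt N22478 (iv F247979)) (tt N19062 F240680) (tt N22448 (iv F247833)))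
theorem Q20897 : ∀ i, i < 20897 → P i := stepQ 20896 Q20896 (allL N20896 (tt N19185 F240681) (tt N21831 (iv F244473)) (tt N19056 (iv D53666)) (tt N22481 (iv F247991)) (tt N21828 F244460) (tt N22482 (iv F247997)) (tt N19058 F240682) (tt N22479 (iv F247984)) (tt N19063 F240683) (tt N22449 (iv F247839)))
theorem Q20898 : ∀ i, i < 20898 → P i := stepQ 20897 Q20897 (allL N20897 (tt N19193 F240684) (tt N21835 (iv F244495)) (tt N19057 (iv D53667)) (tt N19058 F240685) (tt N19375 F240686) (tt N21834 (iv F244489)) (tt N22481 (iv F247993)) (tt N20897 F240687) (tt N20897 F240688) (tt N19406 F240689))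
theorem Q20899 : ∀ i, i < 20899 → P i := stepQ 20898 Q20898 (allL N20898 (tt N19200 F240690) (tt N22348 (iv F247336)) (tt N20898 F240691) (tt N22484 D55254) (tt N22238 (iv F246859)) (tt N20898 F240692) (tt N19060 F240693) (tt N21837 (iv F244516)) (tt N19059 (iv D53668)) (tt N20898 F240694))
theorem Q20900 : ∀ i, i < 20900 → P i := stepQ 20899 Q20899 (allL N20899 (tt N19201 F240695) (tt N22413 (iv F247657)) (tt N22485 D55255) (tt N19060 (iv D53669)) (tt N22486 D55256) (tt N19061 F240696) (tt N22484 (iv F248003)) (tt N19062 F240697) (tt N22478 (iv F247980)) (tt N20899 F240698))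
theorem Q20901 : ∀ i, i < 20901 → P i := stepQ 20900 Q20900 (allL N20900 (tt N19202 F240699) (tt N21852 (iv F244605)) (tt N19061 (iv D53670)) (tt N20900 F240700) (tt N19999 F240701) (tt N22485 (iv F248007)) (tt N20900 F240702) (tt N19063 F240703) (tt N22479 (iv F247985)) (tt N20900 F240704))
theorem Q20902 : ∀ i, i < 20902 → P i := stepQ 20901 Q20901 (allL N20901 (tt N19205 F240705) (tt N21853 (iv F244612)) (tt N19062 (iv D53671)) (tt N20901 F240706) (tt N22487 D55257) (tt N19063 F240707) (tt N21840 (iv F244533)) (tt N22485 (iv F248008)) (tt N22482 (iv F247998)) (tt N20901 F240708))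
theorem Q20903 : ∀ i, i < 20903 → P i := stepQ 20902 Q20902 (allL N20902 (tt N19206 F240709) (tt N22414 (iv F247661)) (tt N22487 (iv F248014)) (tt N22240 (iv F246871)) (tt N19062 (iv D53672)) (tt N22372 (iv F247463)) (tt N21841 (iv F244538)) (tt N22486 (iv F248011)) (tt N22483 (iv F248000)) (tt N20902 F240710))
theorem Q20904 : ∀ i, i < 20904 → P i := stepQ 20903 Q20903 (allL N20903 (tt N19213 F240711) (tt N19254 F240712) (tt N19066 F240713) (tt N22004 (iv F245510)) (tt N19065 F240714) (tt N19229 F240715) (tt N19068 F240716) (tt N19221 F240717) (tt N19215 F240718) (tt N19064 (iv D53673)))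
theorem Q20905 : ∀ i, i < 20905 → P i := stepQ 20904 Q20904 (allL N20904 (tt N19218 F240719) (tt N19948 F240720) (tt N21997 (iv F245465)) (tt N19068 F240721) (tt N22456 (iv F247878)) (tt N20904 F240722) (tt N22004 (iv F245512)) (tt N19074 F240723) (tt N22488 D55258) (tt N19067 (iv D53674)))
theorem Q20906 : ∀ i, i < 20906 → P i := stepQ 20905 Q20905 (allL N20905 (tt N19071 F240724) (tt N19086 F240725) (tt N21844 (iv F244556)) (tt N19069 (iv D53675)) (tt N21938 F245141) (tt N20905 F240726) (tt N19089 F240727) (tt N19259 F240728) (tt N19127 F240729) (tt N22489 D55259))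
theorem Q20907 : ∀ i, i < 20907 → P i := stepQ 20906 Q20906 (allL N20906 (tt N19072 F240730) (tt N19220 F240731) (tt N20906 F240732) (tt N22489 (iv F248024)) (tt N19070 F240733) (tt N20906 F240734) (tt N19248 F240735) (tt N19258 F240736) (tt N19255 F240737) (tt N19069 (iv D53676)))
theorem Q20908 : ∀ i, i < 20908 → P i := stepQ 20907 Q20907 (allL N20907 (tt N21844 (iv F244554)) (tt N19164 F240738) (tt N19071 (iv D53677)) (tt N20907 F240739) (tt N22463 (iv F247908)) (tt N20907 F240740) (tt N19161 F240741) (tt N19941 F240742) (tt N19933 F240743) (tt N22490 D55260))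
theorem Q20909 : ∀ i, i < 20909 → P i := stepQ 20908 Q20908 (allL N20908 (tt N22489 (iv F248022)) (tt N19074 F240744) (tt N22490 (iv F248029)) (tt N19072 F240745) (tt N22464 (iv F247915)) (tt N20908 F240746) (tt N19805 F240747) (tt N19948 F240748) (tt N22491 D55261) (tt N19071 (iv D53678)))
theorem Q20910 : ∀ i, i < 20910 → P i := stepQ 20909 Q20909 (allL N20909 (tt N19224 F240749) (tt N19945 F240750) (tt N21950 (iv F245206)) (tt N19237 F240751) (tt N22468 (iv F247936)) (tt N20909 F240752) (tt N19806 F240753) (tt N19947 F240754) (tt N22492 D55262) (tt N19073 (iv D53679)))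
theorem Q20911 : ∀ i, i < 20911 → P i := stepQ 20910 Q20910 (allL N20910 (tt N19225 F240755) (tt N22491 (iv F248034)) (tt N21998 (iv F245472)) (tt N19949 F240756) (tt N22469 (iv F247940)) (tt N20910 F240757) (tt N19807 F240758) (tt N22488 (iv F248020)) (tt N19074 (iv D53680)) (tt N22492 (iv F248046)))
theorem Q20912 : ∀ i, i < 20912 → P i := stepQ 20911 Q20911 (allL N20911 (tt N19742 F240759) (tt N19838 F240760) (tt N21975 (iv F245352)) (tt N19087 F240761) (tt N19075 (iv D53681)) (tt N21944 (iv F245175)) (tt N19078 F240762) (tt N19448 F240763) (tt N19491 F240764) (tt N22493 D55263))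
theorem Q20913 : ∀ i, i < 20913 → P i := stepQ 20912 Q20912 (allL N20912 (tt N19743 F240765) (tt N19853 F240766) (tt N22029 (iv F245642)) (tt N19076 F240767) (tt N22493 (iv F248050)) (tt N19463 F240768) (tt N19079 F240769) (tt N19459 F240770) (tt N22494 D55264) (tt N19075 (iv D53682)))
theorem Q20914 : ∀ i, i < 20914 → P i := stepQ 20913 Q20913 (allL N20913 (tt N19416 F240771) (tt N19077 (iv D53683)) (tt N21909 (iv F244980)) (tt N19238 F240772) (tt N22495 D55265) (tt N20913 F240773) (tt N19900 F240774) (tt N19080 F240775) (tt N21915 (iv F245019)) (tt N22496 D55266))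
theorem Q20915 : ∀ i, i < 20915 → P i := stepQ 20914 Q20914 (allL N20914 (tt N19480 F240776) (tt N22495 (iv F248060)) (tt N19078 F240777) (tt N19478 F240778) (tt N19077 (iv D53684)) (tt N22497 D55267) (tt N21975 (iv F245355)) (tt N19081 F240779) (tt N22246 (iv F246904)) (tt N22498 D55268))
theorem Q20916 : ∀ i, i < 20916 → P i := stepQ 20915 Q20915 (allL N20915 (tt N19535 F240780) (tt N22496 (iv F248066)) (tt N19079 F240781) (tt N19239 F240782) (tt N22498 (iv F248081)) (tt N20915 F240783) (tt N22029 (iv F245645)) (tt N19082 F240784) (tt N22499 D55269) (tt N19077 (iv D53685)))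
theorem Q20917 : ∀ i, i < 20917 → P i := stepQ 20916 Q20916 (allL N20916 (tt N22429 (iv F247723)) (tt N21912 (iv F244998)) (tt N22497 (iv F248073)) (tt N19092 F240785) (tt N20916 F240786) (tt N19078 (iv D53686)) (tt N22500 D55270) (tt N19083 F240787) (tt N22248 (iv F246915)) (tt N22501 D55271))
theorem Q20918 : ∀ i, i < 20918 → P i := stepQ 20917 Q20917 (allL N20917 (tt N22430 (iv F247729)) (tt N21913 (iv F245003)) (tt N22498 (iv F248079)) (tt N19093 F240788) (tt N19079 F240789) (tt N22501 (iv F248093)) (tt N22493 (iv F248051)) (tt N19084 F240790) (tt N22502 D55272) (tt N19078 (iv D53687)))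
theorem Q20919 : ∀ i, i < 20919 → P i := stepQ 20918 Q20918 (allL N20918 (tt N22431 (iv F247736)) (tt N21914 (iv F245008)) (tt N22499 (iv F248084)) (tt N22375 (iv F247475)) (tt N22502 (iv F248095)) (tt N20918 F240791) (tt N22494 (iv F248056)) (tt N19085 F240792) (tt N19079 (iv D53688)) (tt N22250 (iv F246925)))
theorem Q20920 : ∀ i, i < 20920 → P i := stepQ 20919 Q20919 (allL N20919 (tt N19080 (iv D53689)) (tt N19411 F240793) (tt N21915 (iv F245014)) (tt N19241 F240794) (tt N22503 D55273) (tt N20919 F240795) (tt N19808 F240796) (tt N19416 F240797) (tt N21909 (iv F244985)) (tt N22504 D55274))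
theorem Q20921 : ∀ i, i < 20921 → P i := stepQ 20920 Q20920 (allL N20920 (tt N22503 (iv F248097)) (tt N19081 F240798) (tt N21916 (iv F245021)) (tt N22505 D55275) (tt N19080 (iv D53690)) (tt N22506 D55276) (tt N19809 F240799) (tt N22495 (iv F248063)) (tt N22251 (iv F246929)) (tt N22507 D55277))
theorem Q20922 : ∀ i, i < 20922 → P i := stepQ 20921 Q20921 (allL N20921 (tt N22504 (iv F248102)) (tt N19082 F240800) (tt N21917 (iv F245025)) (tt N19243 F240801) (tt N22507 (iv F248121)) (tt N20921 F240802) (tt N19810 F240803) (tt N22496 (iv F248070)) (tt N22508 D55278) (tt N19080 (iv D53691)))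
theorem Q20923 : ∀ i, i < 20923 → P i := stepQ 20922 Q20922 (allL N20922 (tt N19470 F240804) (tt N22505 (iv F248109)) (tt N19097 F240805) (tt N19081 (iv D53692)) (tt N19244 F240806) (tt N22509 D55279) (tt N19811 F240807) (tt N19478 F240808) (tt N22510 D55280) (tt N22511 D55281))
theorem Q20924 : ∀ i, i < 20924 → P i := stepQ 20923 Q20923 (allL N20923 (tt N22432 (iv F247743)) (tt N22506 (iv F248116)) (tt N19083 F240809) (tt N22509 (iv F248129)) (tt N20923 F240810) (tt N19081 (iv D53693)) (tt N22512 D55282) (tt N22497 (iv F248077)) (tt N22254 (iv F246941)) (tt N22513 D55283))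
theorem Q20925 : ∀ i, i < 20925 → P i := stepQ 20924 Q20924 (allL N20924 (tt N22433 (iv F247749)) (tt N22507 (iv F248120)) (tt N19084 F240811) (tt N22511 (iv F248142)) (tt N19082 F240812) (tt N22513 (iv F248152)) (tt N19812 F240813) (tt N22498 (iv F248082)) (tt N22514 D55284) (tt N19081 (iv D53694)))
theorem Q20926 : ∀ i, i < 20926 → P i := stepQ 20925 Q20925 (allL N20925 (tt N22434 (iv F247756)) (tt N22508 (iv F248123)) (tt N19085 F240814) (tt N22515 D55285) (tt N22514 (iv F248154)) (tt N20925 F240815) (tt N19813 F240816) (tt N22499 (iv F248086)) (tt N19082 (iv D53695)) (tt N22256 (iv F246948)))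
theorem Q20927 : ∀ i, i < 20927 → P i := stepQ 20926 Q20926 (allL N20926 (tt N21779 (iv F244154)) (tt N19817 F240817) (tt N22512 (iv F248146)) (tt N19101 F240818) (tt N20926 F240819) (tt N19435 F240820) (tt N19083 (iv D53696)) (tt N21924 (iv F245060)) (tt N19467 F240821) (tt N22516 D55286))
theorem Q20928 : ∀ i, i < 20928 → P i := stepQ 20927 Q20927 (allL N20927 (tt N22435 (iv F247762)) (tt N21922 (iv F245048)) (tt N22513 (iv F248150)) (tt N19102 F240822) (tt N20927 F240823) (tt N19084 F240824) (tt N22516 (iv F248163)) (tt N22501 (iv F248094)) (tt N22517 D55287) (tt N19083 (iv D53697)))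
theorem Q20929 : ∀ i, i < 20929 → P i := stepQ 20928 Q20928 (allL N20928 (tt N22436 (iv F247766)) (tt N21923 (iv F245053)) (tt N22514 (iv F248153)) (tt N22518 D55288) (tt N19085 F240825) (tt N22517 (iv F248165)) (tt N19814 F240826) (tt N22502 (iv F248096)) (tt N19084 (iv D53698)) (tt N22258 (iv F246957)))
theorem Q20930 : ∀ i, i < 20930 → P i := stepQ 20929 Q20929 (allL N20929 (tt N19145 F240827) (tt N21938 (iv F245138)) (tt N19087 F240828) (tt N19143 F240829) (tt N19086 (iv D53699)) (tt N21935 (iv F245120)) (tt N19090 F240830) (tt N19815 F240831) (tt N19128 F240832) (tt N22519 D55289))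
theorem Q20931 : ∀ i, i < 20931 → P i := stepQ 20930 Q20930 (allL N20930 (tt N19222 F240833) (tt N22489 (iv F248023)) (tt N19088 F240834) (tt N19220 F240835) (tt N22519 (iv F248171)) (tt N20930 F240836) (tt N19091 F240837) (tt N19816 F240838) (tt N22520 D55290) (tt N19086 (iv D53700)))
theorem Q20932 : ∀ i, i < 20932 → P i := stepQ 20931 Q20931 (allL N20931 (tt N22437 (iv F247769)) (tt N21924 (iv F245057)) (tt N21935 F245123) (tt N21944 (iv F245173)) (tt N20931 F240839) (tt N19087 (iv D53701)) (tt N22521 D55291) (tt N19817 F240840) (tt N19130 F240841) (tt N22522 D55292))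
theorem Q20933 : ∀ i, i < 20933 → P i := stepQ 20932 Q20932 (allL N20932 (tt N22438 (iv F247776)) (tt N21925 (iv F245062)) (tt N22519 (iv F248169)) (tt N22493 (iv F248049)) (tt N19088 F240842) (tt N22522 (iv F248187)) (tt N19093 F240843) (tt N19818 F240844) (tt N22523 D55293) (tt N19087 (iv D53702)))
theorem Q20934 : ∀ i, i < 20934 → P i := stepQ 20933 Q20933 (allL N20933 (tt N22439 (iv F247783)) (tt N21926 (iv F245067)) (tt N22520 (iv F248175)) (tt N22382 (iv F247508)) (tt N22523 (iv F248189)) (tt N20933 F240845) (tt N19094 F240846) (tt N19819 F240847) (tt N19088 (iv D53703)) (tt N19132 F240848))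
theorem Q20935 : ∀ i, i < 20935 → P i := stepQ 20934 Q20934 (allL N20934 (tt N19795 F240849) (tt N19090 F240850) (tt N21927 (iv F245074)) (tt N19793 F240851) (tt N19089 (iv D53704)) (tt N21965 (iv F245299)) (tt N21938 F245142) (tt N19095 F240852) (tt N19134 F240853) (tt N22524 D55294))
theorem Q20936 : ∀ i, i < 20936 → P i := stepQ 20935 Q20935 (allL N20935 (tt N19805 F240854) (tt N19091 F240855) (tt N21928 (iv F245081)) (tt N19248 F240856) (tt N22524 (iv F248196)) (tt N19104 F240857) (tt N22489 (iv F248026)) (tt N19096 F240858) (tt N22525 D55295) (tt N19089 (iv D53705)))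
theorem Q20937 : ∀ i, i < 20937 → P i := stepQ 20936 Q20936 (allL N20936 (tt N19880 F240859) (tt N21965 (iv F245296)) (tt N19092 F240860) (tt N19877 F240861) (tt N19105 F240862) (tt N19090 (iv D53706)) (tt N22526 D55296) (tt N19098 F240863) (tt N19137 F240864) (tt N22527 D55297))
theorem Q20938 : ∀ i, i < 20938 → P i := stepQ 20937 Q20937 (allL N20937 (tt N19881 F240865) (tt N22524 (iv F248194)) (tt N19093 F240866) (tt N19878 F240867) (tt N19091 F240868) (tt N22527 (iv F248216)) (tt N22519 (iv F248172)) (tt N19099 F240869) (tt N22528 D55298) (tt N19090 (iv D53707)))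
theorem Q20939 : ∀ i, i < 20939 → P i := stepQ 20938 Q20938 (allL N20938 (tt N19872 F240870) (tt N22525 (iv F248199)) (tt N19094 F240871) (tt N19791 F240872) (tt N22528 (iv F248220)) (tt N19107 F240873) (tt N22520 (iv F248178)) (tt N19100 F240874) (tt N19091 (iv D53708)) (tt N19139 F240875))
theorem Q20940 : ∀ i, i < 20940 → P i := stepQ 20939 Q20939 (allL N20939 (tt N22440 (iv F247791)) (tt N21932 (iv F245102)) (tt N22526 (iv F248206)) (tt N22500 (iv F248088)) (tt N19108 F240876) (tt N22521 (iv F248184)) (tt N19092 (iv D53709)) (tt N22529 D55299) (tt N19140 F240877) (tt N22530 D55300))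
theorem Q20941 : ∀ i, i < 20941 → P i := stepQ 20940 Q20940 (allL N20940 (tt N22441 (iv F247795)) (tt N21933 (iv F245108)) (tt N22527 (iv F248213)) (tt N22501 (iv F248091)) (tt N19109 F240878) (tt N19093 F240879) (tt N22530 (iv F248229)) (tt N19102 F240880) (tt N22531 D55301) (tt N19092 (iv D53710)))
theorem Q20942 : ∀ i, i < 20942 → P i := stepQ 20941 Q20941 (allL N20941 (tt N22442 (iv F247800)) (tt N21934 (iv F245113)) (tt N22528 (iv F248219)) (tt N22532 D55302) (tt N19094 F240881) (tt N22531 (iv F248231)) (tt N22523 (iv F248190)) (tt N19103 F240882) (tt N19093 (iv D53711)) (tt N19142 F240883))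
theorem Q20943 : ∀ i, i < 20943 → P i := stepQ 20942 Q20942 (allL N20942 (tt N19788 F240884) (tt N19097 F240885) (tt N21944 (iv F245172)) (tt N19095 (iv D53712)) (tt N19250 F240886) (tt N21975 (iv F245354)) (tt N19828 F240887) (tt N19793 F240888) (tt N21985 (iv F245420)) (tt N22533 D55303))
theorem Q20944 : ∀ i, i < 20944 → P i := stepQ 20943 Q20943 (allL N20943 (tt N21980 (iv F245385)) (tt N19099 F240889) (tt N21936 (iv F245127)) (tt N22533 (iv F248238)) (tt N19096 F240890) (tt N21976 (iv F245362)) (tt N19830 F240891) (tt N22524 (iv F248197)) (tt N22534 D55304) (tt N19095 (iv D53713)))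
theorem Q20945 : ∀ i, i < 20945 → P i := stepQ 20944 Q20944 (allL N20944 (tt N22002 (iv F245492)) (tt N19100 F240892) (tt N21937 (iv F245133)) (tt N19797 F240893) (tt N22534 (iv F248243)) (tt N19111 F240894) (tt N19831 F240895) (tt N22525 (iv F248202)) (tt N19096 (iv D53714)) (tt N19148 F240896))
theorem Q20946 : ∀ i, i < 20946 → P i := stepQ 20945 Q20945 (allL N20945 (tt N19866 F240897) (tt N21975 (iv F245351)) (tt N22509 (iv F248128)) (tt N19098 F240898) (tt N19900 F240899) (tt N19097 (iv D53715)) (tt N22495 (iv F248062)) (tt N19877 F240900) (tt N22535 D55305) (tt N22536 D55306))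
theorem Q20947 : ∀ i, i < 20947 → P i := stepQ 20946 Q20946 (allL N20946 (tt N19820 F240901) (tt N21985 (iv F245414)) (tt N22510 (iv F248135)) (tt N19150 F240902) (tt N19252 F240903) (tt N22535 (iv F248251)) (tt N19833 F240904) (tt N19826 F240905) (tt N19097 (iv D53716)) (tt N22537 D55307))
theorem Q20948 : ∀ i, i < 20948 → P i := stepQ 20947 Q20947 (allL N20947 (tt N19867 F240906) (tt N22533 (iv F248237)) (tt N22511 (iv F248141)) (tt N19099 F240907) (tt N19253 F240908) (tt N22536 (iv F248256)) (tt N19834 F240909) (tt N19878 F240910) (tt N22538 D55308) (tt N19097 (iv D53717)))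
theorem Q20949 : ∀ i, i < 20949 → P i := stepQ 20948 Q20948 (allL N20948 (tt N19385 F240911) (tt N19478 F240912) (tt N19101 F240913) (tt N22495 (iv F248061)) (tt N19112 F240914) (tt N19835 F240915) (tt N19098 (iv D53718)) (tt N22505 (iv F248112)) (tt N19152 F240916) (tt N22539 D55309))
theorem Q20950 : ∀ i, i < 20950 → P i := stepQ 20949 Q20949 (allL N20949 (tt N19928 F240917) (tt N21976 (iv F245359)) (tt N19102 F240918) (tt N22536 (iv F248254)) (tt N19113 F240919) (tt N19099 F240920) (tt N22539 (iv F248272)) (tt N22527 (iv F248217)) (tt N22540 D55310) (tt N19098 (iv D53719)))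
theorem Q20951 : ∀ i, i < 20951 → P i := stepQ 20950 Q20950 (allL N20950 (tt N19895 F240921) (tt N22534 (iv F248242)) (tt N19103 F240922) (tt N22541 D55311) (tt N19100 F240923) (tt N22540 (iv F248276)) (tt N19837 F240924) (tt N22528 (iv F248221)) (tt N19099 (iv D53720)) (tt N19154 F240925))
theorem Q20952 : ∀ i, i < 20952 → P i := stepQ 20951 Q20951 (allL N20951 (tt N21786 (iv F244200)) (tt N21944 (iv F245171)) (tt N22505 (iv F248113)) (tt N21924 (iv F245058)) (tt N19115 F240926) (tt N19838 F240927) (tt N22529 (iv F248226)) (tt N19101 (iv D53721)) (tt N19156 F240928) (tt N22542 D55312))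
theorem Q20953 : ∀ i, i < 20953 → P i := stepQ 20952 Q20952 (allL N20952 (tt N21792 (iv F244233)) (tt N21945 (iv F245179)) (tt N22539 (iv F248269)) (tt N22516 (iv F248160)) (tt N19116 F240929) (tt N19839 F240930) (tt N19102 F240931) (tt N22542 (iv F248284)) (tt N22543 D55313) (tt N19101 (iv D53722)))
theorem Q20954 : ∀ i, i < 20954 → P i := stepQ 20953 Q20953 (allL N20953 (tt N22443 (iv F247805)) (tt N21946 (iv F245185)) (tt N22540 (iv F248274)) (tt N22544 D55314) (tt N19117 F240932) (tt N19103 F240933) (tt N22543 (iv F248287)) (tt N22531 (iv F248232)) (tt N19102 (iv D53723)) (tt N19158 F240934))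
theorem Q20955 : ∀ i, i < 20955 → P i := stepQ 20954 Q20954 (allL N20954 (tt N22444 (iv F247810)) (tt N21947 (iv F245189)) (tt N22545 D55315) (tt N19103 (iv D53724)) (tt N22386 (iv F247529)) (tt N22544 (iv F248289)) (tt N19841 F240935) (tt N22532 (iv F248234)) (tt N22518 (iv F248167)) (tt N19159 F240936))
theorem Q20956 : ∀ i, i < 20956 → P i := stepQ 20955 Q20955 (allL N20955 (tt N19966 F240937) (tt N19107 F240938) (tt N21948 (iv F245194)) (tt N19803 F240939) (tt N21994 (iv F245450)) (tt N22525 (iv F248201)) (tt N20955 F240940) (tt N19111 F240941) (tt N19104 (iv D53725)) (tt N19163 F240942))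
theorem Q20957 : ∀ i, i < 20957 → P i := stepQ 20956 Q20956 (allL N20956 (tt N19950 F240943) (tt N19933 F240944) (tt N19108 F240945) (tt N19931 F240946) (tt N22526 (iv F248208)) (tt N20956 F240947) (tt N19105 (iv D53726)) (tt N19938 (iv F240949)) (tt N19164 F240948) (tt N22546 D55316))
theorem Q20958 : ∀ i, i < 20958 → P i := stepQ 20957 Q20957 (allL N20957 (tt N19929 F240950) (tt N21966 (iv F245304)) (tt N19109 F240951) (tt N19969 F240952) (tt N22527 (iv F248215)) (tt N19106 F240953) (tt N22546 (iv F248298)) (tt N19113 F240954) (tt N22547 D55317) (tt N19105 (iv D53727)))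
theorem Q20959 : ∀ i, i < 20959 → P i := stepQ 20958 Q20958 (allL N20958 (tt N19907 F240955) (tt N21994 (iv F245448)) (tt N19110 F240956) (tt N22548 D55318) (tt N19107 F240957) (tt N22547 (iv F248302)) (tt N20958 F240958) (tt N19114 F240959) (tt N19106 (iv D53728)) (tt N19166 F240960))
theorem Q20960 : ∀ i, i < 20960 → P i := stepQ 20959 Q20959 (allL N20959 (tt N21795 (iv F244251)) (tt N19946 F240961) (tt N19938 F240962) (tt N20959 F240963) (tt N22529 (iv F248225)) (tt N20959 F240964) (tt N19115 F240965) (tt N19108 (iv D53729)) (tt N19168 F240966) (tt N22549 D55319))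
theorem Q20961 : ∀ i, i < 20961 → P i := stepQ 20960 Q20960 (allL N20960 (tt N22445 (iv F247814)) (tt N21950 (iv F245205)) (tt N22546 (iv F248295)) (tt N20960 F240967) (tt N22530 (iv F248228)) (tt N20960 F240968) (tt N19109 F240969) (tt N22549 (iv F248317)) (tt N22550 D55320) (tt N19108 (iv D53730)))
theorem Q20962 : ∀ i, i < 20962 → P i := stepQ 20961 Q20961 (allL N20961 (tt N22446 (iv F247819)) (tt N21951 (iv F245212)) (tt N22547 (iv F248301)) (tt N22551 D55321) (tt N22531 (iv F248230)) (tt N19110 F240970) (tt N22550 (iv F248319)) (tt N19117 F240971) (tt N19109 (iv D53731)) (tt N19170 F240972))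
theorem Q20963 : ∀ i, i < 20963 → P i := stepQ 20962 Q20962 (allL N20962 (tt N22447 (iv F247824)) (tt N21952 (iv F245218)) (tt N22552 D55322) (tt N19110 (iv D53732)) (tt N22388 (iv F247539)) (tt N22551 (iv F248321)) (tt N20962 F240973) (tt N19118 F240974) (tt N20962 F240975) (tt N19171 F240976))
theorem Q20964 : ∀ i, i < 20964 → P i := stepQ 20963 Q20963 (allL N20963 (tt N19379 F240977) (tt N19244 F240978) (tt N19115 F240979) (tt N19242 F240980) (tt N22505 (iv F248110)) (tt N19119 F240981) (tt N19938 F240982) (tt N19112 (iv D53733)) (tt N19177 F240983) (tt N22553 D55323))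
theorem Q20965 : ∀ i, i < 20965 → P i := stepQ 20964 Q20964 (allL N20964 (tt N19386 F240984) (tt N19479 F240985) (tt N19116 F240986) (tt N19415 F240987) (tt N22539 (iv F248270)) (tt N19120 F240988) (tt N19113 F240989) (tt N22553 (iv F248337)) (tt N22554 D55324) (tt N19112 (iv D53734)))
theorem Q20966 : ∀ i, i < 20966 → P i := stepQ 20965 Q20965 (allL N20965 (tt N19919 F240990) (tt N21977 (iv F245365)) (tt N19117 F240991) (tt N22555 D55325) (tt N22540 (iv F248275)) (tt N19114 F240992) (tt N22554 (iv F248342)) (tt N22547 (iv F248303)) (tt N19113 (iv D53735)) (tt N19179 F240993))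
theorem Q20967 : ∀ i, i < 20967 → P i := stepQ 20966 Q20966 (allL N20966 (tt N19918 F240994) (tt N22001 (iv F245486)) (tt N19515 (iv F240999)) (tt N19114 (iv D53736)) (tt N19348 F240995) (tt N22555 (iv F248345)) (tt N19122 F240996) (tt N22548 (iv F248308)) (tt N19359 F240997) (tt N19180 F240998))
theorem Q20968 : ∀ i, i < 20968 → P i := stepQ 20967 Q20967 (allL N20967 (tt N21796 (iv F244258)) (tt N21956 (iv F245245)) (tt N22553 (iv F248333)) (tt N20967 F241000) (tt N22542 (iv F248282)) (tt N19123 F241001) (tt N22549 (iv F248316)) (tt N19116 F241002) (tt N22556 D55326) (tt N19115 (iv D53737)))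
theorem Q20969 : ∀ i, i < 20969 → P i := stepQ 20968 Q20968 (allL N20968 (tt N21799 (iv F244277)) (tt N21957 (iv F245252)) (tt N22554 (iv F248340)) (tt N22557 D55327) (tt N22543 (iv F248285)) (tt N19124 F241003) (tt N19117 F241004) (tt N22556 (iv F248350)) (tt N19116 (iv D53738)) (tt N19183 F241005))
theorem Q20970 : ∀ i, i < 20970 → P i := stepQ 20969 Q20969 (allL N20969 (tt N22448 (iv F247830)) (tt N21958 (iv F245257)) (tt N22558 D55328) (tt N19117 (iv D53739)) (tt N22559 D55329) (tt N19118 F241006) (tt N22557 (iv F248353)) (tt N22551 (iv F248322)) (tt N20969 F241007) (tt N19184 F241008))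
theorem Q20971 : ∀ i, i < 20971 → P i := stepQ 20970 Q20970 (allL N20970 (tt N22449 (iv F247834)) (tt N22560 D55330) (tt N19118 (iv D53740)) (tt N19515 F241009) (tt N19514 F241010) (tt N22558 (iv F248357)) (tt N19126 F241011) (tt N22552 (iv F248328)) (tt N20970 F241012) (tt N19185 F241013))
theorem Q20972 : ∀ i, i < 20972 → P i := stepQ 20971 Q20971 (allL N20971 (tt N19393 F241014) (tt N19496 F241015) (tt N19123 F241016) (tt N19422 F241017) (tt N19856 F241018) (tt N22553 (iv F248335)) (tt N20971 F241019) (tt N19120 F241020) (tt N22561 D55331) (tt N19119 (iv D53741)))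
theorem Q20973 : ∀ i, i < 20973 → P i := stepQ 20972 Q20972 (allL N20972 (tt N19399 F241021) (tt N19506 F241022) (tt N19124 F241023) (tt N22011 (iv F245539)) (tt N19857 F241024) (tt N22554 (iv F248341)) (tt N19121 F241025) (tt N22561 (iv F248373)) (tt N19120 (iv D53742)) (tt N19191 F241026))
theorem Q20974 : ∀ i, i < 20974 → P i := stepQ 20973 Q20973 (allL N20973 (tt N21797 (iv F244264)) (tt N21960 (iv F245268)) (tt N22561 (iv F248370)) (tt N22562 D55332) (tt N19859 F241027) (tt N22556 (iv F248349)) (tt N20973 F241028) (tt N19124 F241029) (tt N19123 (iv D53743)) (tt N19195 F241030))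
theorem Q20975 : ∀ i, i < 20975 → P i := stepQ 20974 Q20974 (allL N20974 (tt N21800 (iv F244283)) (tt N21961 (iv F245275)) (tt N22563 D55333) (tt N19124 (iv D53744)) (tt N21888 (iv F244847)) (tt N22557 (iv F248352)) (tt N19125 F241031) (tt N22562 (iv F248377)) (tt N20974 F241032) (tt N19196 F241033))
theorem Q20976 : ∀ i, i < 20976 → P i := stepQ 20975 Q20975 (allL N20975 (tt N21802 (iv F244297)) (tt N19193 F241034) (tt N19125 (iv D53745)) (tt N19198 F241035) (tt N19462 F241036) (tt N19126 F241037) (tt N22563 (iv F248383)) (tt N20975 F241038) (tt N20975 F241039) (tt N19197 F241040))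
theorem Q20977 : ∀ i, i < 20977 → P i := stepQ 20976 Q20976 (allL N20976 (tt N21834 (iv F244486)) (tt N19126 (iv D53746)) (tt N19192 F241041) (tt N19197 F241042) (tt N19522 F241043) (tt N19193 F241044) (tt N22560 (iv F248365)) (tt N20976 F241045) (tt N20976 F241046) (tt N19198 F241047))
theorem Q20978 : ∀ i, i < 20978 → P i := stepQ 20977 Q20977 (allL N20977 (tt N19822 F241048) (tt N19128 F241049) (tt N21811 (iv F244357)) (tt N19256 F241050) (tt N19127 (iv D53747)) (tt N21939 (iv F245149)) (tt N19134 F241051) (tt N19261 F241052) (tt N21938 F245143) (tt N22564 D55334))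
theorem Q20979 : ∀ i, i < 20979 → P i := stepQ 20978 Q20978 (allL N20978 (tt N19945 F241053) (tt N19129 F241054) (tt N21845 (iv F244563)) (tt N19211 F241055) (tt N22564 (iv F248389)) (tt N20978 F241056) (tt N19135 F241057) (tt N19226 F241058) (tt N22565 D55335) (tt N19127 (iv D53748)))
theorem Q20980 : ∀ i, i < 20980 → P i := stepQ 20979 Q20979 (allL N20979 (tt N21985 (iv F245413)) (tt N19256 F241059) (tt N21895 (iv F244891)) (tt N19128 (iv D53749)) (tt N19212 F241060) (tt N21978 (iv F245375)) (tt N19136 F241061) (tt N19257 F241062) (tt N19788 F241063) (tt N22566 D55336))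
theorem Q20981 : ∀ i, i < 20981 → P i := stepQ 20980 Q20980 (allL N20980 (tt N22450 (iv F247840)) (tt N21939 (iv F245145)) (tt N19130 F241064) (tt N21978 (iv F245373)) (tt N20980 F241065) (tt N19128 (iv D53750)) (tt N22567 D55337) (tt N19860 F241066) (tt N21935 F245124) (tt N22568 D55338))
theorem Q20982 : ∀ i, i < 20982 → P i := stepQ 20981 Q20981 (allL N20981 (tt N22451 (iv F247847)) (tt N22564 (iv F248387)) (tt N19131 F241067) (tt N22566 (iv F248399)) (tt N19129 F241068) (tt N22568 (iv F248411)) (tt N19138 F241069) (tt N19861 F241070) (tt N22569 D55339) (tt N19128 (iv D53751)))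
theorem Q20983 : ∀ i, i < 20983 → P i := stepQ 20982 Q20982 (allL N20982 (tt N22452 (iv F247853)) (tt N22565 (iv F248393)) (tt N19132 F241071) (tt N22570 D55340) (tt N22569 (iv F248414)) (tt N20982 F241072) (tt N19139 F241073) (tt N19862 F241074) (tt N19129 (iv D53752)) (tt N22520 (iv F248180)))
theorem Q20984 : ∀ i, i < 20984 → P i := stepQ 20983 Q20983 (allL N20983 (tt N22261 (iv F246969)) (tt N21962 (iv F245282)) (tt N22567 (iv F248404)) (tt N22189 F246609) (tt N20983 F241075) (tt N19140 F241076) (tt N19130 (iv D53753)) (tt N22195 (iv F246640)) (tt N22521 (iv F248185)) (tt N22571 D55341))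
theorem Q20985 : ∀ i, i < 20985 → P i := stepQ 20984 Q20984 (allL N20984 (tt N22453 (iv F247861)) (tt N21963 (iv F245287)) (tt N22568 (iv F248409)) (tt N22289 (iv F247094)) (tt N20984 F241077) (tt N19131 F241078) (tt N22571 (iv F248427)) (tt N19864 F241079) (tt N22572 D55342) (tt N19130 (iv D53754)))
theorem Q20986 : ∀ i, i < 20986 → P i := stepQ 20985 Q20985 (allL N20985 (tt N22454 (iv F247865)) (tt N21964 (iv F245291)) (tt N22569 (iv F248413)) (tt N22573 D55343) (tt N19132 F241080) (tt N22572 (iv F248429)) (tt N19142 F241081) (tt N19865 F241082) (tt N19131 (iv D53755)) (tt N22523 (iv F248192)))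
theorem Q20987 : ∀ i, i < 20987 → P i := stepQ 20986 Q20986 (allL N20986 (tt N19134 F241083) (tt N19798 F241084) (tt N21965 (iv F245297)) (tt N19815 F241085) (tt N19133 (iv D53756)) (tt N21927 (iv F245075)) (tt N19822 F241086) (tt N19143 F241087) (tt N19795 F241088) (tt N22574 D55344))
theorem Q20988 : ∀ i, i < 20988 → P i := stepQ 20987 Q20987 (allL N20987 (tt N19135 F241089) (tt N19806 F241090) (tt N21966 (iv F245305)) (tt N19215 F241091) (tt N22574 (iv F248436)) (tt N19160 F241092) (tt N19945 F241093) (tt N19144 F241094) (tt N22575 D55345) (tt N19133 (iv D53757)))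
theorem Q20989 : ∀ i, i < 20989 → P i := stepQ 20988 Q20988 (allL N20988 (tt N19815 F241095) (tt N19136 F241096) (tt N19751 F241097) (tt N19134 (iv D53758)) (tt N19216 F241098) (tt N22576 D55346) (tt N19256 F241099) (tt N19145 F241100) (tt N19783 F241101) (tt N22577 D55347))
theorem Q20990 : ∀ i, i < 20990 → P i := stepQ 20989 Q20989 (allL N20989 (tt N21927 (iv F245072)) (tt N19137 F241102) (tt N19795 F241103) (tt N22576 (iv F248448)) (tt N19161 F241104) (tt N19134 (iv D53759)) (tt N22463 (iv F247910)) (tt N19146 F241105) (tt N21965 (iv F245302)) (tt N22578 D55348))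
theorem Q20991 : ∀ i, i < 20991 → P i := stepQ 20990 Q20990 (allL N20990 (tt N22574 (iv F248433)) (tt N19138 F241106) (tt N21967 (iv F245311)) (tt N22577 (iv F248456)) (tt N19135 F241107) (tt N22578 (iv F248463)) (tt N22564 (iv F248390)) (tt N19147 F241108) (tt N22579 D55349) (tt N19134 (iv D53760)))
theorem Q20992 : ∀ i, i < 20992 → P i := stepQ 20991 Q20991 (allL N20991 (tt N22575 (iv F248439)) (tt N19139 F241109) (tt N21968 (iv F245317)) (tt N22580 D55350) (tt N22579 (iv F248466)) (tt N19163 F241110) (tt N22565 (iv F248396)) (tt N19148 F241111) (tt N19135 (iv D53761)) (tt N22525 (iv F248203)))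
theorem Q20993 : ∀ i, i < 20993 → P i := stepQ 20992 Q20992 (allL N20992 (tt N22455 (iv F247869)) (tt N22576 (iv F248446)) (tt N22291 (iv F247101)) (tt N19137 F241112) (tt N20992 F241113) (tt N19136 (iv D53762)) (tt N22581 D55351) (tt N19149 F241114) (tt N22582 D55352) (tt N22583 D55353))
theorem Q20994 : ∀ i, i < 20994 → P i := stepQ 20993 Q20993 (allL N20993 (tt N19828 F241115) (tt N19783 F241116) (tt N22292 (iv F247107)) (tt N19826 F241117) (tt N19217 F241118) (tt N22582 (iv F248483)) (tt N19788 F241119) (tt N19150 F241120) (tt N19136 (iv D53763)) (tt N22584 D55354))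
theorem Q20995 : ∀ i, i < 20995 → P i := stepQ 20994 Q20994 (allL N20994 (tt N22456 (iv F247875)) (tt N22577 (iv F248454)) (tt N22293 (iv F247112)) (tt N19138 F241121) (tt N19218 F241122) (tt N22583 (iv F248488)) (tt N22566 (iv F248401)) (tt N19151 F241123) (tt N22585 D55355) (tt N19136 (iv D53764)))
theorem Q20996 : ∀ i, i < 20996 → P i := stepQ 20995 Q20995 (allL N20995 (tt N22457 (iv F247880)) (tt N22463 (iv F247906)) (tt N19140 F241124) (tt N22581 (iv F248475)) (tt N19164 F241125) (tt N22567 (iv F248407)) (tt N19137 (iv D53765)) (tt N22586 D55356) (tt N22526 (iv F248211)) (tt N22587 D55357))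
theorem Q20997 : ∀ i, i < 20997 → P i := stepQ 20996 Q20996 (allL N20996 (tt N22458 (iv F247885)) (tt N22578 (iv F248460)) (tt N19141 F241126) (tt N22583 (iv F248486)) (tt N19165 F241127) (tt N19138 F241128) (tt N22587 (iv F248505)) (tt N19153 F241129) (tt N22588 D55358) (tt N19137 (iv D53766)))
theorem Q20998 : ∀ i, i < 20998 → P i := stepQ 20997 Q20997 (allL N20997 (tt N22459 (iv F247891)) (tt N22579 (iv F248465)) (tt N19142 F241130) (tt N22589 D55359) (tt N19139 F241131) (tt N22588 (iv F248508)) (tt N22569 (iv F248415)) (tt N19154 F241132) (tt N19138 (iv D53767)) (tt N22528 (iv F248222)))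
theorem Q20999 : ∀ i, i < 20999 → P i := stepQ 20998 Q20998 (allL N20998 (tt N19824 F241133) (tt N22580 (iv F248468)) (tt N19781 F241134) (tt N19139 (iv D53768)) (tt N22590 D55360) (tt N19167 F241135) (tt N22570 (iv F248421)) (tt N19155 F241136) (tt N19219 F241137) (tt N19791 F241138))
theorem Q21000 : ∀ i, i < 21000 → P i := stepQ 20999 Q20999 (allL N20999 (tt N21808 (iv F244340)) (tt N21971 (iv F245330)) (tt N22586 (iv F248499)) (tt N22196 (iv F246645)) (tt N19168 F241139) (tt N22195 F246641) (tt N19156 F241140) (tt N19140 (iv D53769)) (tt N22529 (iv F248227)) (tt N22591 D55361))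
theorem Q21001 : ∀ i, i < 21001 → P i := stepQ 21000 Q21000 (allL N21000 (tt N22460 (iv F247897)) (tt N21972 (iv F245337)) (tt N22587 (iv F248503)) (tt N22219 (iv F246768)) (tt N19169 F241141) (tt N22571 (iv F248426)) (tt N19141 F241142) (tt N22591 (iv F248518)) (tt N22592 D55362) (tt N19140 (iv D53770)))
theorem Q21002 : ∀ i, i < 21002 → P i := stepQ 21001 Q21001 (allL N21001 (tt N22461 (iv F247900)) (tt N21973 (iv F245343)) (tt N22588 (iv F248506)) (tt N22593 D55363) (tt N19170 F241143) (tt N19142 F241144) (tt N22592 (iv F248520)) (tt N19158 F241145) (tt N19141 (iv D53771)) (tt N22531 (iv F248233)))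
theorem Q21003 : ∀ i, i < 21003 → P i := stepQ 21002 Q21002 (allL N21002 (tt N22462 (iv F247904)) (tt N21974 (iv F245348)) (tt N22594 D55364) (tt N19142 (iv D53772)) (tt N22396 (iv F247583)) (tt N22593 (iv F248521)) (tt N22573 (iv F248431)) (tt N19159 F241146) (tt N22298 (iv F247134)) (tt N22532 (iv F248235)))
theorem Q21004 : ∀ i, i < 21004 → P i := stepQ 21003 Q21003 (allL N21003 (tt N19147 F241147) (tt N21941 (iv F245156)) (tt N21976 (iv F245360)) (tt N22519 (iv F248170)) (tt N19144 F241148) (tt N21936 (iv F245129)) (tt N19878 F241149) (tt N22574 (iv F248438)) (tt N22595 D55365) (tt N19143 (iv D53773)))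
theorem Q21005 : ∀ i, i < 21005 → P i := stepQ 21004 Q21004 (allL N21004 (tt N19148 F241150) (tt N21954 (iv F245231)) (tt N21977 (iv F245366)) (tt N22005 (iv F245517)) (tt N22595 (iv F248525)) (tt N19172 F241151) (tt N19879 F241152) (tt N22575 (iv F248443)) (tt N19144 (iv D53774)) (tt N22002 (iv F245499)))
theorem Q21006 : ∀ i, i < 21006 → P i := stepQ 21005 Q21005 (allL N21005 (tt N21935 (iv F245117)) (tt N19149 F241153) (tt N22437 (iv F247771)) (tt N19146 F241154) (tt N21005 F241155) (tt N19145 (iv D53775)) (tt N22596 D55366) (tt N22576 (iv F248451)) (tt N22450 (iv F247846)) (tt N22597 D55367))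
theorem Q21007 : ∀ i, i < 21007 → P i := stepQ 21006 Q21006 (allL N21006 (tt N22519 (iv F248168)) (tt N19151 F241156) (tt N22438 (iv F247778)) (tt N19147 F241157) (tt N19222 F241158) (tt N22597 (iv F248535)) (tt N19881 F241159) (tt N22577 (iv F248459)) (tt N22598 D55368) (tt N19145 (iv D53776)))
theorem Q21008 : ∀ i, i < 21008 → P i := stepQ 21007 Q21007 (allL N21007 (tt N19442 F241160) (tt N19152 F241161) (tt N19826 F241162) (tt N22596 (iv F248529)) (tt N19173 F241163) (tt N19882 F241164) (tt N19146 (iv D53777)) (tt N22510 (iv F248139)) (tt N19478 F241165) (tt N22599 D55369))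
theorem Q21009 : ∀ i, i < 21009 → P i := stepQ 21008 Q21008 (allL N21008 (tt N21936 (iv F245125)) (tt N19153 F241166) (tt N21980 (iv F245387)) (tt N22597 (iv F248533)) (tt N19174 F241167) (tt N19147 F241168) (tt N22599 (iv F248544)) (tt N22578 (iv F248464)) (tt N22600 D55370) (tt N19146 (iv D53778)))
theorem Q21010 : ∀ i, i < 21010 → P i := stepQ 21009 Q21009 (allL N21009 (tt N22595 (iv F248524)) (tt N19154 F241169) (tt N21981 (iv F245394)) (tt N22601 D55371) (tt N19148 F241170) (tt N22600 (iv F248547)) (tt N19884 F241171) (tt N22579 (iv F248467)) (tt N19147 (iv D53779)) (tt N22534 (iv F248245)))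
theorem Q21011 : ∀ i, i < 21011 → P i := stepQ 21010 Q21010 (allL N21010 (tt N22005 (iv F245514)) (tt N19155 F241172) (tt N21900 (iv F244921)) (tt N19148 (iv D53780)) (tt N22602 D55372) (tt N19176 F241173) (tt N19885 F241174) (tt N22580 (iv F248471)) (tt N19223 F241175) (tt N19797 F241176))
theorem Q21012 : ∀ i, i < 21012 → P i := stepQ 21011 Q21011 (allL N21011 (tt N21814 (iv F244376)) (tt N22596 (iv F248528)) (tt N21889 (iv F244853)) (tt N19152 F241177) (tt N21011 F241178) (tt N19886 F241179) (tt N19149 (iv D53781)) (tt N22603 D55373) (tt N22604 D55374) (tt N22605 D55375))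
theorem Q21013 : ∀ i, i < 21013 → P i := stepQ 21012 Q21012 (allL N21012 (tt N22466 (iv F247923)) (tt N22450 (iv F247841)) (tt N22308 (iv F247188)) (tt N22535 (iv F248249)) (tt N21012 F241180) (tt N19150 F241181) (tt N22604 (iv F248561)) (tt N22582 (iv F248485)) (tt N19149 (iv D53782)) (tt N22606 D55376))
theorem Q21014 : ∀ i, i < 21014 → P i := stepQ 21013 Q21013 (allL N21013 (tt N22467 (iv F247929)) (tt N22597 (iv F248532)) (tt N22309 (iv F247191)) (tt N19153 F241182) (tt N21013 F241183) (tt N19151 F241184) (tt N22605 (iv F248565)) (tt N22583 (iv F248489)) (tt N22607 D55377) (tt N19149 (iv D53783)))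
theorem Q21015 : ∀ i, i < 21015 → P i := stepQ 21014 Q21014 (allL N21014 (tt N22468 (iv F247933)) (tt N22451 (iv F247848)) (tt N22310 (iv F247195)) (tt N22537 (iv F248259)) (tt N19224 F241185) (tt N22606 (iv F248567)) (tt N19889 F241186) (tt N22584 (iv F248495)) (tt N22608 D55378) (tt N19150 (iv D53784)))
theorem Q21016 : ∀ i, i < 21016 → P i := stepQ 21015 Q21015 (allL N21015 (tt N22469 (iv F247939)) (tt N22598 (iv F248536)) (tt N22311 (iv F247198)) (tt N22609 D55379) (tt N19225 F241187) (tt N22607 (iv F248569)) (tt N19890 F241188) (tt N22585 (iv F248497)) (tt N19151 (iv D53785)) (tt N22608 (iv F248572)))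
theorem Q21017 : ∀ i, i < 21017 → P i := stepQ 21016 Q21016 (allL N21016 (tt N21805 (iv F244320)) (tt N22510 (iv F248134)) (tt N19156 F241189) (tt N22603 (iv F248556)) (tt N19177 F241190) (tt N19891 F241191) (tt N22586 (iv F248501)) (tt N19152 (iv D53786)) (tt N22505 F248115) (tt N22610 D55380))
theorem Q21018 : ∀ i, i < 21018 → P i := stepQ 21017 Q21017 (allL N21017 (tt N21817 (iv F244394)) (tt N22599 (iv F248540)) (tt N19157 F241192) (tt N22605 (iv F248562)) (tt N19178 F241193) (tt N19892 F241194) (tt N19153 F241195) (tt N22610 (iv F248578)) (tt N22611 D55381) (tt N19152 (iv D53787)))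
theorem Q21019 : ∀ i, i < 21019 → P i := stepQ 21018 Q21018 (allL N21018 (tt N22470 (iv F247942)) (tt N22600 (iv F248545)) (tt N19158 F241196) (tt N22612 D55382) (tt N19179 F241197) (tt N19154 F241198) (tt N22611 (iv F248582)) (tt N22588 (iv F248509)) (tt N19153 (iv D53788)) (tt N22540 (iv F248277)))
theorem Q21020 : ∀ i, i < 21020 → P i := stepQ 21019 Q21019 (allL N21019 (tt N22471 (iv F247947)) (tt N22601 (iv F248548)) (tt N22613 D55383) (tt N19154 (iv D53789)) (tt N22614 D55384) (tt N22612 (iv F248583)) (tt N19894 F241199) (tt N22589 (iv F248510)) (tt N22609 (iv F248574)) (tt N22541 (iv F248281)))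
theorem Q21021 : ∀ i, i < 21021 → P i := stepQ 21020 Q21020 (allL N21020 (tt N19837 F241200) (tt N22602 (iv F248550)) (tt N19782 F241201) (tt N22614 (iv F248587)) (tt N19155 (iv D53790)) (tt N22615 D55385) (tt N19895 F241202) (tt N22590 (iv F248513)) (tt N19227 F241203) (tt N19800 F241204))
theorem Q21022 : ∀ i, i < 21022 → P i := stepQ 21021 Q21021 (allL N21021 (tt N21809 (iv F244346)) (tt N21990 (iv F245436)) (tt N22610 (iv F248575)) (tt N22316 (iv F247211)) (tt N19182 F241205) (tt N19896 F241206) (tt N22591 (iv F248517)) (tt N19157 F241207) (tt N22616 D55386) (tt N19156 (iv D53791)))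
theorem Q21023 : ∀ i, i < 21023 → P i := stepQ 21022 Q21022 (allL N21022 (tt N21820 (iv F244409)) (tt N21991 (iv F245440)) (tt N22611 (iv F248579)) (tt N22617 D55387) (tt N19183 F241208) (tt N19897 F241209) (tt N19158 F241210) (tt N22616 (iv F248597)) (tt N19157 (iv D53792)) (tt N22543 (iv F248288)))
theorem Q21024 : ∀ i, i < 21024 → P i := stepQ 21023 Q21023 (allL N21023 (tt N22472 (iv F247951)) (tt N21992 (iv F245444)) (tt N22618 D55388) (tt N19158 (iv D53793)) (tt N22619 D55389) (tt N19159 F241211) (tt N22617 (iv F248599)) (tt N22593 (iv F248522)) (tt N22318 (iv F247219)) (tt N22544 (iv F248290)))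
theorem Q21025 : ∀ i, i < 21025 → P i := stepQ 21024 Q21024 (allL N21024 (tt N22473 (iv F247953)) (tt N22620 D55390) (tt N19159 (iv D53794)) (tt N22613 (iv F248584)) (tt N22404 (iv F247621)) (tt N22618 (iv F248600)) (tt N19899 F241212) (tt N22594 (iv F248523)) (tt N22319 (iv F247221)) (tt N22545 (iv F248292)))
theorem Q21026 : ∀ i, i < 21026 → P i := stepQ 21025 Q21025 (allL N21025 (tt N19163 F241213) (tt N19967 F241214) (tt N21994 (iv F245449)) (tt N22012 (iv F245546)) (tt N21948 (iv F245195)) (tt N22575 (iv F248441)) (tt N21025 F241215) (tt N19172 F241216) (tt N19160 (iv D53795)) (tt N19966 F241217))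
theorem Q21027 : ∀ i, i < 21027 → P i := stepQ 21026 Q21026 (allL N21026 (tt N21928 (iv F245079)) (tt N19165 F241218) (tt N19805 F241219) (tt N21026 F241220) (tt N22578 (iv F248462)) (tt N19162 F241221) (tt N22490 (iv F248032)) (tt N19174 F241222) (tt N22621 D55391) (tt N19161 (iv D53796)))
theorem Q21028 : ∀ i, i < 21028 → P i := stepQ 21027 Q21027 (allL N21027 (tt N21948 (iv F245192)) (tt N19166 F241223) (tt N19966 F241224) (tt N22622 D55392) (tt N19163 F241225) (tt N22621 (iv F248605)) (tt N21027 F241226) (tt N19175 F241227) (tt N19162 (iv D53797)) (tt N21994 (iv F245453)))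
theorem Q21029 : ∀ i, i < 21029 → P i := stepQ 21028 Q21028 (allL N21028 (tt N22012 (iv F245543)) (tt N19167 F241228) (tt N21902 (iv F244932)) (tt N19163 (iv D53798)) (tt N22363 (iv F247414)) (tt N22580 (iv F248469)) (tt N21028 F241229) (tt N19176 F241230) (tt N19230 F241231) (tt N19803 F241232))
theorem Q21030 : ∀ i, i < 21030 → P i := stepQ 21029 Q21029 (allL N21029 (tt N21776 (iv F244136)) (tt N19941 F241233) (tt N19168 F241234) (tt N21029 F241235) (tt N22586 (iv F248500)) (tt N21029 F241236) (tt N19177 F241237) (tt N19164 (iv D53799)) (tt N19938 F241238) (tt N22623 D55393))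
theorem Q21031 : ∀ i, i < 21031 → P i := stepQ 21030 Q21030 (allL N21030 (tt N22474 (iv F247955)) (tt N22490 (iv F248028)) (tt N19169 F241239) (tt N21030 F241240) (tt N22587 (iv F248504)) (tt N21030 F241241) (tt N19165 F241242) (tt N22623 (iv F248616)) (tt N22624 D55394) (tt N19164 (iv D53800)))
theorem Q21032 : ∀ i, i < 21032 → P i := stepQ 21031 Q21031 (allL N21031 (tt N22475 (iv F247961)) (tt N22621 (iv F248603)) (tt N19170 F241243) (tt N22625 D55395) (tt N22588 (iv F248507)) (tt N19166 F241244) (tt N22624 (iv F248619)) (tt N19179 F241245) (tt N19165 (iv D53801)) (tt N22547 (iv F248304)))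
theorem Q21033 : ∀ i, i < 21033 → P i := stepQ 21032 Q21032 (allL N21032 (tt N22476 (iv F247967)) (tt N22622 (iv F248607)) (tt N22626 D55396) (tt N19166 (iv D53802)) (tt N22627 D55397) (tt N22625 (iv F248620)) (tt N21032 F241246) (tt N19180 F241247) (tt N21032 F241248) (tt N22548 (iv F248310)))
theorem Q21034 : ∀ i, i < 21034 → P i := stepQ 21033 Q21033 (allL N21033 (tt N19845 F241249) (tt N22363 (iv F247412)) (tt N19334 F241250) (tt N22627 (iv F248631)) (tt N19167 (iv D53803)) (tt N22035 (iv F245678)) (tt N21033 F241251) (tt N19181 F241252) (tt N19231 F241253) (tt N19345 F241254))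
theorem Q21035 : ∀ i, i < 21035 → P i := stepQ 21034 Q21034 (allL N21034 (tt N21825 (iv F244437)) (tt N21997 (iv F245464)) (tt N22623 (iv F248612)) (tt N19199 F241255) (tt N22591 (iv F248516)) (tt N21034 F241256) (tt N19182 F241257) (tt N19169 F241258) (tt N22628 D55398) (tt N19168 (iv D53804)))
theorem Q21036 : ∀ i, i < 21036 → P i := stepQ 21035 Q21035 (allL N21035 (tt N22477 (iv F247974)) (tt N21998 (iv F245471)) (tt N22624 (iv F248617)) (tt N22629 D55399) (tt N22592 (iv F248519)) (tt N21035 F241259) (tt N19170 F241260) (tt N22628 (iv F248638)) (tt N19169 (iv D53805)) (tt N22550 (iv F248320)))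
theorem Q21037 : ∀ i, i < 21037 → P i := stepQ 21036 Q21036 (allL N21036 (tt N22478 (iv F247977)) (tt N21999 (iv F245476)) (tt N22630 D55400) (tt N19170 (iv D53806)) (tt N22631 D55401) (tt N19171 F241261) (tt N22629 (iv F248640)) (tt N19184 F241262) (tt N19201 F241263) (tt N22551 (iv F248324)))
theorem Q21038 : ∀ i, i < 21038 → P i := stepQ 21037 Q21037 (allL N21037 (tt N22479 (iv F247981)) (tt N22632 D55402) (tt N19171 (iv D53807)) (tt N22626 (iv F248623)) (tt N19998 F241264) (tt N22630 (iv F248642)) (tt N21037 F241265) (tt N19185 F241266) (tt N19202 F241267) (tt N22552 (iv F248330)))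
theorem Q21039 : ∀ i, i < 21039 → P i := stepQ 21038 Q21038 (allL N21038 (tt N19437 F241268) (tt N19177 F241269) (tt N19252 F241270) (tt N21038 F241271) (tt N22510 (iv F248136)) (tt N19186 F241272) (tt N19941 F241273) (tt N19173 (iv D53808)) (tt N19244 F241274) (tt N22633 D55403))
theorem Q21040 : ∀ i, i < 21040 → P i := stepQ 21039 Q21039 (allL N21039 (tt N19443 F241275) (tt N19178 F241276) (tt N19827 F241277) (tt N21039 F241278) (tt N22599 (iv F248542)) (tt N19187 F241279) (tt N19174 F241280) (tt N22633 (iv F248657)) (tt N22634 D55404) (tt N19173 (iv D53809)))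
theorem Q21041 : ∀ i, i < 21041 → P i := stepQ 21040 Q21040 (allL N21040 (tt N21937 (iv F245131)) (tt N19179 F241281) (tt N22002 (iv F245494)) (tt N22635 D55405) (tt N22600 (iv F248546)) (tt N19175 F241282) (tt N22634 (iv F248662)) (tt N22621 (iv F248606)) (tt N19174 (iv D53810)) (tt N21977 (iv F245369)))
theorem Q21042 : ∀ i, i < 21042 → P i := stepQ 21041 Q21041 (allL N21041 (tt N21953 (iv F245223)) (tt N19180 F241283) (tt N21961 (iv F245276)) (tt N19175 (iv D53811)) (tt N22364 (iv F247421)) (tt N22635 (iv F248665)) (tt N19189 F241284) (tt N22622 (iv F248609)) (tt N21041 F241285) (tt N22001 (iv F245491)))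
theorem Q21043 : ∀ i, i < 21043 → P i := stepQ 21042 Q21042 (allL N21042 (tt N21822 (iv F244418)) (tt N22633 (iv F248652)) (tt N19182 F241286) (tt N21042 F241287) (tt N22610 (iv F248576)) (tt N19190 F241288) (tt N22623 (iv F248615)) (tt N19178 F241289) (tt N22636 D55406) (tt N19177 (iv D53812)))
theorem Q21044 : ∀ i, i < 21044 → P i := stepQ 21043 Q21043 (allL N21043 (tt N21829 (iv F244461)) (tt N22634 (iv F248659)) (tt N19183 F241290) (tt N22637 D55407) (tt N22611 (iv F248580)) (tt N19191 F241291) (tt N19179 F241292) (tt N22636 (iv F248669)) (tt N19178 (iv D53813)) (tt N22554 (iv F248343)))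
theorem Q21045 : ∀ i, i < 21045 → P i := stepQ 21044 Q21044 (allL N21044 (tt N22480 (iv F247986)) (tt N22635 (iv F248664)) (tt N22638 D55408) (tt N19179 (iv D53814)) (tt N22639 D55409) (tt N19180 F241293) (tt N22637 (iv F248671)) (tt N22625 (iv F248621)) (tt N21044 F241294) (tt N22555 (iv F248347)))
theorem Q21046 : ∀ i, i < 21046 → P i := stepQ 21045 Q21045 (allL N21045 (tt N22481 (iv F247990)) (tt N22563 (iv F248380)) (tt N19180 (iv D53815)) (tt N19185 F241295) (tt N19458 (iv F241299)) (tt N22638 (iv F248674)) (tt N19193 F241296) (tt N22626 (iv F248625)) (tt N21045 F241297) (tt N19515 F241298))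
theorem Q21047 : ∀ i, i < 21047 → P i := stepQ 21046 Q21046 (allL N21046 (tt N19852 F241300) (tt N22364 (iv F247419)) (tt N19458 F241301) (tt N19181 F241302) (tt N19180 (iv D53816)) (tt N22640 D55410) (tt N19194 F241303) (tt N22627 (iv F248633)) (tt N21046 F241304) (tt N19348 F241305))
theorem Q21048 : ∀ i, i < 21048 → P i := stepQ 21047 Q21047 (allL N21047 (tt N19851 F241306) (tt N22361 (iv F247401)) (tt N19333 F241307) (tt N22640 (iv F248680)) (tt N22615 (iv F248592)) (tt N19181 (iv D53817)) (tt N21791 (iv F244231)) (tt N22035 (iv F245680)) (tt N19232 F241308) (tt N19341 F241309))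
theorem Q21049 : ∀ i, i < 21049 → P i := stepQ 21048 Q21048 (allL N21048 (tt N21826 (iv F244443)) (tt N22007 (iv F245524)) (tt N22636 (iv F248667)) (tt N22641 D55411) (tt N22616 (iv F248595)) (tt N19195 F241310) (tt N22628 (iv F248637)) (tt N19183 F241311) (tt N19182 (iv D53818)) (tt N22556 (iv F248351)))
theorem Q21050 : ∀ i, i < 21050 → P i := stepQ 21049 Q21049 (allL N21049 (tt N21832 (iv F244477)) (tt N22008 (iv F245527)) (tt N22642 D55412) (tt N19183 (iv D53819)) (tt N22643 D55413) (tt N19196 F241312) (tt N19184 F241313) (tt N22641 (iv F248684)) (tt N19204 F241314) (tt N22557 (iv F248355)))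
theorem Q21051 : ∀ i, i < 21051 → P i := stepQ 21050 Q21050 (allL N21050 (tt N22482 (iv F247996)) (tt N22644 D55414) (tt N19184 (iv D53820)) (tt N22638 (iv F248673)) (tt N22645 D55415) (tt N19185 F241315) (tt N22642 (iv F248687)) (tt N22630 (iv F248643)) (tt N19205 F241316) (tt N22558 (iv F248359)))
theorem Q21052 : ∀ i, i < 21052 → P i := stepQ 21051 Q21051 (allL N21051 (tt N22483 (iv F247999)) (tt N22010 (iv F245535)) (tt N22645 (iv F248695)) (tt N22619 (iv F248601)) (tt N19184 (iv D53821)) (tt N22409 (iv F247640)) (tt N22643 (iv F248690)) (tt N22631 (iv F248645)) (tt N19206 F241317) (tt N22559 (iv F248361)))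
theorem Q21053 : ∀ i, i < 21053 → P i := stepQ 21052 Q21052 (allL N21052 (tt N22646 D55416) (tt N19185 (iv D53822)) (tt N22011 (iv F245538)) (tt N22563 (iv F248381)) (tt N22013 (iv F245554)) (tt N22644 (iv F248692)) (tt N19198 F241318) (tt N22632 (iv F248649)) (tt N19207 F241319) (tt N22560 (iv F248367)))
theorem Q21054 : ∀ i, i < 21054 → P i := stepQ 21053 Q21053 (allL N21053 (tt N19451 F241320) (tt N19190 F241321) (tt N19842 F241322) (tt N21053 F241323) (tt N19921 F241324) (tt N22633 (iv F248655)) (tt N21053 F241325) (tt N19187 F241326) (tt N22647 D55417) (tt N19186 (iv D53823)))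
theorem Q21055 : ∀ i, i < 21055 → P i := stepQ 21054 Q21054 (allL N21054 (tt N19455 F241327) (tt N19191 F241328) (tt N19846 F241329) (tt N21959 (iv F245262)) (tt N19922 F241330) (tt N22634 (iv F248661)) (tt N19188 F241331) (tt N22647 (iv F248707)) (tt N19187 (iv D53824)) (tt N19506 F241332))
theorem Q21056 : ∀ i, i < 21056 → P i := stepQ 21055 Q21055 (allL N21055 (tt N21823 (iv F244424)) (tt N22647 (iv F248703)) (tt N19195 F241333) (tt N22648 D55418) (tt N19925 F241334) (tt N22636 (iv F248668)) (tt N21055 F241335) (tt N19191 F241336) (tt N19190 (iv D53825)) (tt N22561 (iv F248374)))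
theorem Q21057 : ∀ i, i < 21057 → P i := stepQ 21056 Q21056 (allL N21056 (tt N21830 (iv F244467)) (tt N21959 F245266) (tt N22560 (iv F248362)) (tt N19191 (iv D53826)) (tt N22649 D55419) (tt N22637 (iv F248670)) (tt N19192 F241337) (tt N22648 (iv F248710)) (tt N21056 F241338) (tt N22011 (iv F245542)))
theorem Q21058 : ∀ i, i < 21058 → P i := stepQ 21057 Q21057 (allL N21057 (tt N21835 (iv F244494)) (tt N21802 (iv F244298)) (tt N19522 F241339) (tt N19924 F241340) (tt N19192 (iv D53827)) (tt N21801 (iv F244293)) (tt N22649 (iv F248714)) (tt N21057 F241341) (tt N21057 F241342) (tt N21836 (iv F244509)))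
theorem Q21059 : ∀ i, i < 21059 → P i := stepQ 21058 Q21058 (allL N21058 (tt N21827 (iv F244447)) (tt N22014 (iv F245558)) (tt N22650 D55420) (tt N19195 (iv D53828)) (tt N19955 F241343) (tt N22641 (iv F248683)) (tt N21058 F241344) (tt N19196 F241345) (tt N19208 F241346) (tt N22562 (iv F248379)))
theorem Q21060 : ∀ i, i < 21060 → P i := stepQ 21059 Q21059 (allL N21059 (tt N21833 (iv F244482)) (tt N19515 (iv F241350)) (tt N19196 (iv D53829)) (tt N22560 (iv F248363)) (tt N19510 F241347) (tt N22642 (iv F248686)) (tt N19197 F241348) (tt N22650 (iv F248718)) (tt N19209 F241349) (tt N22563 (iv F248385)))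
theorem Q21061 : ∀ i, i < 21061 → P i := stepQ 21060 Q21060 (allL N21060 (tt N19198 (iv D53830)) (tt N19924 F241351) (tt N19404 F241352) (tt N21802 (iv F244299)) (tt N19923 F241353) (tt N19406 F241354) (tt N22646 (iv F248700)) (tt N21060 F241355) (tt N19210 F241356) (tt N21834 (iv F244492)))
theorem Q21062 : ∀ i, i < 21062 → P i := stepQ 21061 Q21061 (allL N21061 (tt N21837 (iv F244510)) (tt N22015 (iv F245564)) (tt N21061 F241357) (tt N22651 D55421) (tt N19957 F241358) (tt N21061 F241359) (tt N19203 F241360) (tt N19200 F241361) (tt N19199 (iv D53831)) (tt N21061 F241362))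
theorem Q21063 : ∀ i, i < 21063 → P i := stepQ 21062 Q21062 (allL N21062 (tt N22484 (iv F248001)) (tt N22016 (iv F245572)) (tt N22652 D55422) (tt N19200 (iv D53832)) (tt N22653 D55423) (tt N21062 F241363) (tt N19201 F241364) (tt N22651 (iv F248723)) (tt N22629 (iv F248641)) (tt N21062 F241365))
theorem Q21064 : ∀ i, i < 21064 → P i := stepQ 21063 Q21063 (allL N21063 (tt N22485 (iv F248005)) (tt N22654 D55424) (tt N19201 (iv D53833)) (tt N21063 F241366) (tt N22655 D55425) (tt N19202 F241367) (tt N22652 (iv F248727)) (tt N19205 F241368) (tt N22630 (iv F248644)) (tt N21063 F241369))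
theorem Q21065 : ∀ i, i < 21065 → P i := stepQ 21064 Q21064 (allL N21064 (tt N22486 (iv F248010)) (tt N22018 (iv F245584)) (tt N22655 (iv F248735)) (tt N22338 (iv F247290)) (tt N19201 (iv D53834)) (tt N22412 (iv F247653)) (tt N22653 (iv F248729)) (tt N19206 F241370) (tt N22631 (iv F248646)) (tt N21064 F241371))
theorem Q21066 : ∀ i, i < 21066 → P i := stepQ 21065 Q21065 (allL N21065 (tt N22656 D55426) (tt N19202 (iv D53835)) (tt N22019 (iv F245589)) (tt N21065 F241372) (tt N20000 F241373) (tt N22654 (iv F248732)) (tt N21065 F241374) (tt N19207 F241375) (tt N22632 (iv F248650)) (tt N21065 F241376))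
theorem Q21067 : ∀ i, i < 21067 → P i := stepQ 21066 Q21066 (allL N21066 (tt N21838 (iv F244518)) (tt N22020 (iv F245595)) (tt N22657 D55427) (tt N19203 (iv D53836)) (tt N22658 D55428) (tt N19208 F241377) (tt N22651 (iv F248722)) (tt N19204 F241378) (tt N22641 (iv F248685)) (tt N21066 F241379))
theorem Q21068 : ∀ i, i < 21068 → P i := stepQ 21067 Q21067 (allL N21067 (tt N21840 (iv F244530)) (tt N19545 (iv F241384)) (tt N19204 (iv D53837)) (tt N21067 F241380) (tt N22659 D55429) (tt N19209 F241381) (tt N19205 F241382) (tt N22657 (iv F248748)) (tt N22642 (iv F248688)) (tt N21067 F241383))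
theorem Q21069 : ∀ i, i < 21069 → P i := stepQ 21068 Q21068 (allL N21068 (tt N21841 (iv F244535)) (tt N22022 (iv F245605)) (tt N22659 (iv F248756)) (tt N22340 (iv F247299)) (tt N19204 (iv D53838)) (tt N21906 (iv F244961)) (tt N19206 F241385) (tt N22658 (iv F248753)) (tt N22643 (iv F248691)) (tt N21068 F241386))
theorem Q21070 : ∀ i, i < 21070 → P i := stepQ 21069 Q21069 (allL N21069 (tt N22660 D55430) (tt N19205 (iv D53839)) (tt N22023 (iv F245609)) (tt N21069 F241387) (tt N22661 D55431) (tt N19207 F241388) (tt N19545 F241389) (tt N22654 (iv F248733)) (tt N22644 (iv F248694)) (tt N21069 F241390))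
theorem Q21071 : ∀ i, i < 21071 → P i := stepQ 21070 Q21070 (allL N21070 (tt N22487 (iv F248013)) (tt N22661 (iv F248766)) (tt N19206 F241391) (tt N22662 D55432) (tt N19205 (iv D53840)) (tt N22415 (iv F247665)) (tt N22659 (iv F248758)) (tt N22655 (iv F248737)) (tt N22645 (iv F248696)) (tt N21070 F241392))
theorem Q21072 : ∀ i, i < 21072 → P i := stepQ 21071 Q21071 (allL N21071 (tt N19207 (iv D53841)) (tt N19990 F241393) (tt N19426 F241394) (tt N21071 F241395) (tt N19995 F241396) (tt N22660 (iv F248763)) (tt N19210 F241397) (tt N22656 (iv F248744)) (tt N22646 (iv F248701)) (tt N21071 F241398))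
theorem Q21073 : ∀ i, i < 21073 → P i := stepQ 21072 Q21072 (allL N21072 (tt N21839 (iv F244523)) (tt N19544 (iv F241404)) (tt N19208 (iv D53842)) (tt N21072 F241399) (tt N19543 F241400) (tt N22657 (iv F248747)) (tt N21072 F241401) (tt N19209 F241402) (tt N22650 (iv F248719)) (tt N21072 F241403))
theorem Q21074 : ∀ i, i < 21074 → P i := stepQ 21073 Q21073 (allL N21073 (tt N22004 (iv F245507)) (tt N19219 F241405) (tt N21899 (iv F244914)) (tt N19213 F241406) (tt N22566 (iv F248400)) (tt N19230 F241407) (tt N19218 F241408) (tt N19223 F241409) (tt N22580 (iv F248472)) (tt N19212 (iv D53843)))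
theorem Q21075 : ∀ i, i < 21075 → P i := stepQ 21074 Q21074 (allL N21074 (tt N19816 F241410) (tt N19218 F241411) (tt N19774 F241412) (tt N19214 (iv D53844)) (tt N22577 (iv F248457)) (tt N21074 F241413) (tt N19219 F241414) (tt N19222 F241415) (tt N22570 (iv F248423)) (tt N19216 F241416))
theorem Q21076 : ∀ i, i < 21076 → P i := stepQ 21075 Q21075 (allL N21075 (tt N19947 F241417) (tt N19784 F241418) (tt N22343 (iv F247312)) (tt N19255 F241419) (tt N22584 (iv F248493)) (tt N21075 F241420) (tt N19789 F241421) (tt N19224 F241422) (tt N22663 D55433) (tt N19217 (iv D53845)))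
theorem Q21077 : ∀ i, i < 21077 → P i := stepQ 21076 Q21076 (allL N21076 (tt N22488 (iv F248016)) (tt N22570 (iv F248418)) (tt N22344 (iv F247318)) (tt N22565 (iv F248394)) (tt N22585 (iv F248496)) (tt N21076 F241423) (tt N22580 (iv F248470)) (tt N19225 F241424) (tt N19218 (iv D53846)) (tt N22663 (iv F248776)))
theorem Q21078 : ∀ i, i < 21078 → P i := stepQ 21077 Q21077 (allL N21077 (tt N19823 F241425) (tt N22566 (iv F248398)) (tt N19780 F241426) (tt N22564 (iv F248388)) (tt N19219 (iv D53847)) (tt N21983 (iv F245404)) (tt N22577 (iv F248458)) (tt N19227 F241427) (tt N22590 (iv F248514)) (tt N19256 F241428))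
theorem Q21079 : ∀ i, i < 21079 → P i := stepQ 21078 Q21078 (allL N21078 (tt N22520 (iv F248174)) (tt N19225 F241429) (tt N22439 (iv F247785)) (tt N19862 F241430) (tt N22598 (iv F248537)) (tt N21078 F241431) (tt N19872 F241432) (tt N22570 (iv F248422)) (tt N19222 (iv D53848)) (tt N22452 (iv F247860)))
theorem Q21080 : ∀ i, i < 21080 → P i := stepQ 21079 Q21079 (allL N21079 (tt N21986 (iv F245421)) (tt N19227 F241433) (tt N21896 (iv F244899)) (tt N19861 F241434) (tt N19223 (iv D53849)) (tt N22360 (iv F247398)) (tt N19869 F241435) (tt N22566 (iv F248402)) (tt N22602 (iv F248552)) (tt N19257 F241436))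
theorem Q21081 : ∀ i, i < 21081 → P i := stepQ 21080 Q21080 (allL N21080 (tt N22492 (iv F248040)) (tt N22452 (iv F247854)) (tt N22353 (iv F247365)) (tt N22664 D55434) (tt N22608 (iv F248570)) (tt N21080 F241437) (tt N19927 F241438) (tt N22663 (iv F248775)) (tt N19224 (iv D53850)) (tt N19225 F241439))
theorem Q21082 : ∀ i, i < 21082 → P i := stepQ 21081 Q21081 (allL N21081 (tt N19949 F241440) (tt N19862 F241441) (tt N22665 D55435) (tt N19225 (iv D53851)) (tt N22666 D55436) (tt N21081 F241442) (tt N19868 F241443) (tt N22565 (iv F248397)) (tt N19226 F241444) (tt N22664 (iv F248782)))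
theorem Q21083 : ∀ i, i < 21083 → P i := stepQ 21082 Q21082 (allL N21082 (tt N19942 F241445) (tt N19466 F241446) (tt N19226 (iv D53852)) (tt N19228 F241447) (tt N22667 D55437) (tt N21082 F241448) (tt N19471 F241449) (tt N21845 (iv F244567)) (tt N22665 (iv F248787)) (tt N19260 F241450))
theorem Q21084 : ∀ i, i < 21084 → P i := stepQ 21083 Q21083 (allL N21083 (tt N19834 F241451) (tt N19861 F241452) (tt N22667 (iv F248794)) (tt N19227 F241453) (tt N19226 (iv D53853)) (tt N22668 D55438) (tt N19867 F241454) (tt N22564 (iv F248391)) (tt N22666 (iv F248791)) (tt N19261 F241455))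
theorem Q21085 : ∀ i, i < 21085 → P i := stepQ 21084 Q21084 (allL N21084 (tt N19836 F241456) (tt N22360 (iv F247394)) (tt N19332 F241457) (tt N22668 (iv F248800)) (tt N19232 F241458) (tt N19227 (iv D53854)) (tt N21790 (iv F244226)) (tt N21983 (iv F245406)) (tt N22615 (iv F248593)) (tt N19262 F241459))
theorem Q21086 : ∀ i, i < 21086 → P i := stepQ 21085 Q21085 (allL N21085 (tt N19246 F241460) (tt N19531 F241461) (tt N19236 F241462) (tt N22669 D55439) (tt N19528 F241463) (tt N21085 F241464) (tt N19930 F241465) (tt N19536 F241466) (tt N19235 (iv D53855)) (tt N21085 F241467))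
theorem Q21087 : ∀ i, i < 21087 → P i := stepQ 21086 Q21086 (allL N21086 (tt N19417 F241468) (tt N19239 F241469) (tt N21086 F241470) (tt N22496 (iv F248067)) (tt N19415 F241471) (tt N21086 F241472) (tt N19968 F241473) (tt N19243 F241474) (tt N22670 D55440) (tt N19238 (iv D53856)))
theorem Q21088 : ∀ i, i < 21088 → P i := stepQ 21087 Q21087 (allL N21087 (tt N19536 F241475) (tt N22670 (iv F248811)) (tt N19240 F241476) (tt N22671 D55441) (tt N19533 F241477) (tt N21087 F241478) (tt N22030 (iv F245652)) (tt N19246 F241479) (tt N19239 (iv D53857)) (tt N21087 F241480))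
theorem Q21089 : ∀ i, i < 21089 → P i := stepQ 21088 Q21088 (allL N21088 (tt N19243 F241481) (tt N19412 F241482) (tt N21088 F241483) (tt N22504 (iv F248104)) (tt N19410 F241484) (tt N21088 F241485) (tt N19937 F241486) (tt N19417 F241487) (tt N22672 D55442) (tt N19241 (iv D53858)))
theorem Q21090 : ∀ i, i < 21090 → P i := stepQ 21089 Q21089 (allL N21089 (tt N19410 F241488) (tt N19245 F241489) (tt N21089 F241490) (tt N22553 (iv F248334)) (tt N19243 F241491) (tt N19422 F241492) (tt N19939 F241493) (tt N19415 F241494) (tt N22673 D55443) (tt N19242 (iv D53859)))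
theorem Q21091 : ∀ i, i < 21091 → P i := stepQ 21090 Q21090 (allL N21090 (tt N22672 (iv F248822)) (tt N19246 F241495) (tt N21090 F241496) (tt N22674 D55444) (tt N22673 (iv F248833)) (tt N21090 F241497) (tt N19940 F241498) (tt N22670 (iv F248816)) (tt N19243 (iv D53860)) (tt N21090 F241499))
theorem Q21092 : ∀ i, i < 21092 → P i := stepQ 21091 Q21091 (allL N21091 (tt N19471 F241500) (tt N22553 (iv F248332)) (tt N19253 F241501) (tt N19245 F241502) (tt N22511 (iv F248143)) (tt N19496 F241503) (tt N19942 F241504) (tt N19479 F241505) (tt N22675 D55445) (tt N19244 (iv D53861)))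
theorem Q21093 : ∀ i, i < 21093 → P i := stepQ 21092 Q21092 (allL N21092 (tt N19528 F241506) (tt N22673 (iv F248831)) (tt N19247 F241507) (tt N22017 (iv F245578)) (tt N19246 F241508) (tt N19542 F241509) (tt N19943 F241510) (tt N19533 F241511) (tt N19245 (iv D53862)) (tt N21092 F241512))
theorem Q21094 : ∀ i, i < 21094 → P i := stepQ 21093 Q21093 (allL N21093 (tt N22669 (iv F248803)) (tt N22674 (iv F248838)) (tt N22411 (iv F247648)) (tt N19246 (iv D53863)) (tt N22676 D55446) (tt N21093 F241513) (tt N19944 F241514) (tt N22671 (iv F248820)) (tt N22515 (iv F248158)) (tt N21093 F241515))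
theorem Q21095 : ∀ i, i < 21095 → P i := stepQ 21094 Q21094 (allL N21094 (tt N19789 F241516) (tt N19253 F241517) (tt N21956 (iv F245246)) (tt N19251 F241518) (tt N22533 (iv F248239)) (tt N19802 F241519) (tt N19947 F241520) (tt N19794 F241521) (tt N22677 D55447) (tt N19250 (iv D53864)))
theorem Q21096 : ∀ i, i < 21096 → P i := stepQ 21095 Q21095 (allL N21095 (tt N19821 F241522) (tt N22004 (iv F245508)) (tt N22633 (iv F248653)) (tt N19254 F241523) (tt N22537 (iv F248260)) (tt N19842 F241524) (tt N19948 F241525) (tt N19827 F241526) (tt N22678 D55448) (tt N19252 (iv D53865)))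
theorem Q21097 : ∀ i, i < 21097 → P i := stepQ 21096 Q21096 (allL N21096 (tt N19868 F241527) (tt N22677 (iv F248850)) (tt N22675 (iv F248843)) (tt N19807 F241528) (tt N22538 (iv F248264)) (tt N19902 F241529) (tt N19949 F241530) (tt N19879 F241531) (tt N19253 (iv D53866)) (tt N22678 (iv F248860)))
theorem Q21098 : ∀ i, i < 21098 → P i := stepQ 21097 Q21097 (allL N21097 (tt N19948 F241532) (tt N19816 F241533) (tt N22679 D55449) (tt N19258 (iv D53867)) (tt N22680 D55450) (tt N21097 F241534) (tt N19821 F241535) (tt N22489 (iv F248027)) (tt N22664 (iv F248781)) (tt N19259 F241536))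
theorem Q21099 : ∀ i, i < 21099 → P i := stepQ 21098 Q21098 (allL N21098 (tt N19941 F241537) (tt N19434 F241538) (tt N19259 (iv D53868)) (tt N21098 F241539) (tt N22681 D55451) (tt N21098 F241540) (tt N19437 F241541) (tt N21844 (iv F244560)) (tt N19260 F241542) (tt N22679 (iv F248866)))
theorem Q21100 : ∀ i, i < 21100 → P i := stepQ 21099 Q21099 (allL N21099 (tt N19833 F241543) (tt N19815 F241544) (tt N22681 (iv F248874)) (tt N19798 F241545) (tt N19259 (iv D53869)) (tt N21929 (iv F245088)) (tt N19820 F241546) (tt N21938 (iv F245140)) (tt N19261 F241547) (tt N22680 (iv F248871)))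
theorem Q21101 : ∀ i, i < 21101 → P i := stepQ 21100 Q21100 (allL N21100 (tt N19811 F241548) (tt N19465 F241549) (tt N19261 F241550) (tt N19776 F241551) (tt N19260 (iv D53870)) (tt N22682 D55452) (tt N19470 F241552) (tt N21811 (iv F244361)) (tt N22681 (iv F248876)) (tt N22667 (iv F248797)))
theorem Q21102 : ∀ i, i < 21102 → P i := stepQ 21101 Q21101 (allL N21101 (tt N19832 F241553) (tt N19860 F241554) (tt N22682 (iv F248879)) (tt N19262 F241555) (tt N21101 F241556) (tt N19261 (iv D53871)) (tt N21789 (iv F244220)) (tt N21939 (iv F245151)) (tt N21929 (iv F245090)) (tt N22668 (iv F248802)))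
theorem Q21103 : ∀ i, i < 21103 → P i := stepQ 21102 Q21102 (allL N21102 (tt N22052 (iv F245792)) (tt N19271 F241557) (tt N19566 F241558) (tt N22683 D55453) (tt N19269 F241559) (tt N22046 (iv F245750)) (tt N19559 F241560) (tt N19318 F241561) (tt N19268 (iv D53872)) (tt N19563 F241562))
theorem Q21104 : ∀ i, i < 21104 → P i := stepQ 21103 Q21103 (allL N21103 (tt N19562 F241563) (tt N22046 (iv F245747)) (tt N19272 F241564) (tt N22684 D55454) (tt N19556 F241565) (tt N19271 F241566) (tt N22050 (iv F245784)) (tt N19320 F241567) (tt N19270 (iv D53873)) (tt N19561 F241568))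
theorem Q21105 : ∀ i, i < 21105 → P i := stepQ 21104 Q21104 (allL N21104 (tt N21708 (iv F243658)) (tt N22683 (iv F248883)) (tt N22075 (iv F245949)) (tt N19271 (iv D53874)) (tt N22078 (iv F245965)) (tt N22684 (iv F248891)) (tt N19560 F241569) (tt N19321 F241570) (tt N21104 F241571) (tt N19564 F241572))
theorem Q21106 : ∀ i, i < 21106 → P i := stepQ 21105 Q21105 (allL N21105 (tt N19296 F241573) (tt N19596 F241574) (tt N21747 (iv F243946)) (tt N19383 F241575) (tt N19274 F241576) (tt N19626 F241577) (tt N21714 (iv F243712)) (tt N19284 F241578) (tt N22685 D55455) (tt N19273 (iv D53875)))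
theorem Q21107 : ∀ i, i < 21107 → P i := stepQ 21106 Q21106 (allL N21106 (tt N19297 F241579) (tt N19597 F241580) (tt N21748 (iv F243954)) (tt N19289 F241581) (tt N22685 (iv F248897)) (tt N19275 F241582) (tt N21715 (iv F243719)) (tt N19285 F241583) (tt N19274 (iv D53876)) (tt N19278 F241584))
theorem Q21108 : ∀ i, i < 21108 → P i := stepQ 21107 Q21107 (allL N21107 (tt N19680 F241585) (tt N19608 F241586) (tt N21756 (iv F244010)) (tt N22686 D55456) (tt N19278 F241587) (tt N19637 F241588) (tt N21726 (iv F243798)) (tt N21757 (iv F244020)) (tt N19277 (iv D53877)) (tt N22685 (iv F248900)))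
theorem Q21109 : ∀ i, i < 21109 → P i := stepQ 21108 Q21108 (allL N21108 (tt N19607 F241589) (tt N19284 F241590) (tt N22267 (iv F247000)) (tt N19365 F241591) (tt N19281 F241592) (tt N19583 F241593) (tt N21742 (iv F243909)) (tt N19596 F241594) (tt N22687 D55457) (tt N19280 (iv D53878)))
theorem Q21110 : ∀ i, i < 21110 → P i := stepQ 21109 Q21109 (allL N21109 (tt N19612 F241595) (tt N19285 F241596) (tt N22268 (iv F247007)) (tt N19317 F241597) (tt N22687 (iv F248908)) (tt N19282 F241598) (tt N21743 (iv F243916)) (tt N19597 F241599) (tt N19281 (iv D53879)) (tt N19602 F241600))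
theorem Q21111 : ∀ i, i < 21111 → P i := stepQ 21110 Q21110 (allL N21110 (tt N19305 F241601) (tt N19583 F241602) (tt N21749 (iv F243962)) (tt N19391 F241603) (tt N19286 F241604) (tt N19284 F241605) (tt N22090 (iv F246033)) (tt N19626 F241606) (tt N22688 D55458) (tt N19283 (iv D53880)))
theorem Q21112 : ∀ i, i < 21112 → P i := stepQ 21111 Q21111 (allL N21111 (tt N19306 F241607) (tt N22687 (iv F248907)) (tt N21750 (iv F243970)) (tt N22689 D55459) (tt N19285 F241608) (tt N22688 (iv F248915)) (tt N21745 (iv F243932)) (tt N22685 (iv F248899)) (tt N19284 (iv D53881)) (tt N21757 (iv F244021)))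
theorem Q21113 : ∀ i, i < 21113 → P i := stepQ 21112 Q21112 (allL N21112 (tt N19317 F241609) (tt N19584 F241610) (tt N21752 (iv F243983)) (tt N19612 F241611) (tt N22688 (iv F248914)) (tt N19287 F241612) (tt N22091 (iv F246038)) (tt N19627 F241613) (tt N19286 (iv D53882)) (tt N19634 F241614))
theorem Q21114 : ∀ i, i < 21114 → P i := stepQ 21113 Q21113 (allL N21113 (tt N21757 (iv F244014)) (tt N19650 F241615) (tt N21745 (iv F243929)) (tt N22690 D55460) (tt N19289 F241616) (tt N19665 F241617) (tt N21750 (iv F243972)) (tt N19680 F241618) (tt N19288 (iv D53883)) (tt N19306 F241619))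
theorem Q21115 : ∀ i, i < 21115 → P i := stepQ 21114 Q21114 (allL N21114 (tt N21766 (iv F244069)) (tt N19315 F241620) (tt N21746 (iv F243937)) (tt N19311 F241621) (tt N21754 (iv F243997)) (tt N19660 F241622) (tt N19291 F241623) (tt N21732 (iv F243842)) (tt N19290 (iv D53884)) (tt N19323 F241624))
theorem Q21116 : ∀ i, i < 21116 → P i := stepQ 21115 Q21115 (allL N21115 (tt N21714 (iv F243707)) (tt N19659 F241625) (tt N21720 (iv F243753)) (tt N19468 F241626) (tt N19293 F241627) (tt N22274 (iv F247033)) (tt N19296 F241628) (tt N21723 (iv F243780)) (tt N22691 D55461) (tt N19292 (iv D53885)))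
theorem Q21117 : ∀ i, i < 21117 → P i := stepQ 21116 Q21116 (allL N21116 (tt N21715 (iv F243714)) (tt N19660 F241629) (tt N21721 (iv F243760)) (tt N19303 F241630) (tt N22691 (iv F248927)) (tt N19315 F241631) (tt N19297 F241632) (tt N21724 (iv F243787)) (tt N19293 (iv D53886)) (tt N19693 F241633))
theorem Q21118 : ∀ i, i < 21118 → P i := stepQ 21117 Q21117 (allL N21117 (tt N21747 (iv F243944)) (tt N22144 (iv F246352)) (tt N19296 F241634) (tt N21803 (iv F244308)) (tt N19295 F241635) (tt N19648 F241636) (tt N21720 (iv F243756)) (tt N19302 F241637) (tt N22692 D55462) (tt N19294 (iv D53887)))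
theorem Q21119 : ∀ i, i < 21119 → P i := stepQ 21118 Q21118 (allL N21118 (tt N21748 (iv F243952)) (tt N22145 (iv F246359)) (tt N19297 F241638) (tt N21724 (iv F243784)) (tt N22692 (iv F248931)) (tt N19308 F241639) (tt N21721 (iv F243763)) (tt N19303 F241640) (tt N19295 (iv D53888)) (tt N19689 F241641))
theorem Q21120 : ∀ i, i < 21120 → P i := stepQ 21119 Q21119 (allL N21119 (tt N22685 (iv F248895)) (tt N19665 F241642) (tt N22692 (iv F248930)) (tt N22693 D55463) (tt N19297 F241643) (tt N19650 F241644) (tt N22691 (iv F248928)) (tt N19306 F241645) (tt N19296 (iv D53889)) (tt N19680 F241646))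
theorem Q21121 : ∀ i, i < 21121 → P i := stepQ 21120 Q21120 (allL N21120 (tt N22131 (iv F246282)) (tt N19301 F241647) (tt N19669 F241648) (tt N19739 F241649) (tt N19309 F241650) (tt N19298 (iv D53890)) (tt N22097 (iv F246080)) (tt N19645 F241651) (tt N19661 F241652) (tt N22694 D55464))
theorem Q21122 : ∀ i, i < 21122 → P i := stepQ 21121 Q21121 (allL N21121 (tt N22170 (iv F246491)) (tt N19302 F241653) (tt N19670 F241654) (tt N19740 F241655) (tt N19299 F241656) (tt N22694 (iv F248944)) (tt N19601 F241657) (tt N22144 (iv F246358)) (tt N22695 D55465) (tt N19298 (iv D53891)))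
theorem Q21123 : ∀ i, i < 21123 → P i := stepQ 21122 Q21122 (allL N21122 (tt N22171 (iv F246497)) (tt N19303 F241658) (tt N19671 F241659) (tt N19660 F241660) (tt N22695 (iv F248948)) (tt N19311 F241661) (tt N19602 F241662) (tt N22145 (iv F246364)) (tt N19299 (iv D53892)) (tt N21743 (iv F243918)))
theorem Q21124 : ∀ i, i < 21124 → P i := stepQ 21123 Q21123 (allL N21123 (tt N19863 F241663) (tt N19739 F241664) (tt N19484 F241665) (tt N19301 F241666) (tt N21123 F241667) (tt N19300 (iv D53893)) (tt N19785 F241668) (tt N19647 F241669) (tt N21876 (iv F244771)) (tt N22696 D55466))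
theorem Q21125 : ∀ i, i < 21125 → P i := stepQ 21124 Q21124 (allL N21124 (tt N19874 F241670) (tt N19740 F241671) (tt N19486 F241672) (tt N19302 F241673) (tt N19324 F241674) (tt N22696 (iv F248955)) (tt N19335 F241675) (tt N21803 (iv F244312)) (tt N22697 D55467) (tt N19300 (iv D53894)))
theorem Q21126 : ∀ i, i < 21126 → P i := stepQ 21125 Q21125 (allL N21125 (tt N19658 F241676) (tt N22097 (iv F246076)) (tt N19304 F241677) (tt N19785 F241678) (tt N19312 F241679) (tt N19631 F241680) (tt N19301 (iv D53895)) (tt N22126 (iv F246260)) (tt N19656 F241681) (tt N22698 D55468))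
theorem Q21127 : ∀ i, i < 21127 → P i := stepQ 21126 Q21126 (allL N21126 (tt N21749 (iv F243960)) (tt N22694 (iv F248940)) (tt N19305 F241682) (tt N22696 (iv F248953)) (tt N19313 F241683) (tt N19302 F241684) (tt N22698 (iv F248968)) (tt N19648 F241685) (tt N22699 D55469) (tt N19301 (iv D53896)))
theorem Q21128 : ∀ i, i < 21128 → P i := stepQ 21127 Q21127 (allL N21127 (tt N21750 (iv F243968)) (tt N22695 (iv F248946)) (tt N19306 F241686) (tt N22700 D55470) (tt N19303 F241687) (tt N22699 (iv F248971)) (tt N21757 (iv F244019)) (tt N22692 (iv F248933)) (tt N19302 (iv D53897)) (tt N21745 (iv F243934)))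
theorem Q21129 : ∀ i, i < 21129 → P i := stepQ 21128 Q21128 (allL N21128 (tt N22090 (iv F246027)) (tt N19679 F241688) (tt N22698 (iv F248964)) (tt N19492 F241689) (tt N19316 F241690) (tt N21759 (iv F244035)) (tt N19305 F241691) (tt N22259 (iv F246962)) (tt N22701 D55471) (tt N19304 (iv D53898)))
theorem Q21130 : ∀ i, i < 21130 → P i := stepQ 21129 Q21129 (allL N21129 (tt N22688 (iv F248912)) (tt N19680 F241692) (tt N22699 (iv F248969)) (tt N22702 D55472) (tt N19317 F241693) (tt N19306 F241694) (tt N22701 (iv F248976)) (tt N19650 F241695) (tt N19305 (iv D53899)) (tt N19665 F241696))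
theorem Q21131 : ∀ i, i < 21131 → P i := stepQ 21130 Q21130 (allL N21130 (tt N22689 (iv F248918)) (tt N19681 F241697) (tt N22703 D55473) (tt N19306 (iv D53900)) (tt N22686 (iv F248903)) (tt N22702 (iv F248979)) (tt N21761 (iv F244044)) (tt N22693 (iv F248937)) (tt N19494 F241698) (tt N22690 (iv F248925)))
theorem Q21132 : ∀ i, i < 21132 → P i := stepQ 21131 Q21131 (allL N21131 (tt N22160 (iv F246432)) (tt N19308 F241699) (tt N19682 F241700) (tt N21732 (iv F243839)) (tt N19651 F241701) (tt N22145 (iv F246362)) (tt N19653 F241702) (tt N19311 F241703) (tt N19307 (iv D53901)) (tt N19686 F241704))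
theorem Q21133 : ∀ i, i < 21133 → P i := stepQ 21132 Q21132 (allL N21132 (tt N22136 (iv F246304)) (tt N19313 F241705) (tt N19685 F241706) (tt N21132 F241707) (tt N22694 (iv F248943)) (tt N19310 F241708) (tt N22102 (iv F246113)) (tt N19646 F241709) (tt N22704 D55474) (tt N19309 (iv D53902)))
theorem Q21134 : ∀ i, i < 21134 → P i := stepQ 21133 Q21133 (allL N21133 (tt N22141 (iv F246331)) (tt N19314 F241710) (tt N19686 F241711) (tt N22705 D55475) (tt N19311 F241712) (tt N22704 (iv F248986)) (tt N19318 F241713) (tt N19651 F241714) (tt N19310 (iv D53903)) (tt N19682 F241715))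
theorem Q21135 : ∀ i, i < 21135 → P i := stepQ 21134 Q21134 (allL N21134 (tt N21751 (iv F243974)) (tt N22102 (iv F246109)) (tt N19316 F241716) (tt N21134 F241717) (tt N22698 (iv F248966)) (tt N19319 F241718) (tt N19313 F241719) (tt N22127 (iv F246268)) (tt N22706 D55476) (tt N19312 (iv D53904)))
theorem Q21136 : ∀ i, i < 21136 → P i := stepQ 21135 Q21135 (allL N21135 (tt N21752 (iv F243981)) (tt N22704 (iv F248984)) (tt N19317 F241720) (tt N22707 D55477) (tt N22699 (iv F248970)) (tt N19314 F241721) (tt N22706 (iv F248996)) (tt N19649 F241722) (tt N19313 (iv D53905)) (tt N19664 F241723))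
theorem Q21137 : ∀ i, i < 21137 → P i := stepQ 21136 Q21136 (allL N21136 (tt N21753 (iv F243987)) (tt N22705 (iv F248989)) (tt N22280 (iv F247056)) (tt N19314 (iv D53906)) (tt N22288 (iv F247089)) (tt N22707 (iv F248998)) (tt N19321 F241724) (tt N19652 F241725) (tt N21136 F241726) (tt N19683 F241727))
theorem Q21138 : ∀ i, i < 21138 → P i := stepQ 21137 Q21137 (allL N21137 (tt N22091 (iv F246034)) (tt N19693 F241728) (tt N22706 (iv F248994)) (tt N21743 (iv F243914)) (tt N22701 (iv F248975)) (tt N19323 F241729) (tt N19317 F241730) (tt N22260 (iv F246967)) (tt N19316 (iv D53907)) (tt N19660 F241731))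
theorem Q21139 : ∀ i, i < 21139 → P i := stepQ 21138 Q21138 (allL N21138 (tt N22142 (iv F246338)) (tt N19321 F241732) (tt N22139 (iv F246319)) (tt N19318 (iv D53908)) (tt N21755 (iv F244003)) (tt N22105 (iv F246133)) (tt N22705 (iv F248990)) (tt N22683 (iv F248886)) (tt N21138 F241733) (tt N21744 (iv F243927)))
theorem Q21140 : ∀ i, i < 21140 → P i := stepQ 21139 Q21139 (allL N21139 (tt N21754 (iv F243994)) (tt N22103 (iv F246116)) (tt N19323 F241734) (tt N22708 D55478) (tt N21766 (iv F244073)) (tt N22706 (iv F248995)) (tt N19320 F241735) (tt N22134 (iv F246298)) (tt N19319 (iv D53909)) (tt N21746 (iv F243943)))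
theorem Q21141 : ∀ i, i < 21141 → P i := stepQ 21140 Q21140 (allL N21140 (tt N21755 (iv F244000)) (tt N22105 (iv F246130)) (tt N19654 F241736) (tt N19320 (iv D53910)) (tt N22142 (iv F246341)) (tt N19321 F241737) (tt N22708 (iv F249003)) (tt N22684 (iv F248892)) (tt N21140 F241738) (tt N19698 F241739))
theorem Q21142 : ∀ i, i < 21142 → P i := stepQ 21141 Q21141 (allL N21141 (tt N22092 (iv F246040)) (tt N19690 F241740) (tt N22134 (iv F246296)) (tt N19686 F241741) (tt N21767 (iv F244080)) (tt N22260 (iv F246965)) (tt N19697 F241742) (tt N19323 F241743) (tt N19322 (iv D53911)) (tt N21732 (iv F243843)))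
theorem Q21143 : ∀ i, i < 21143 → P i := stepQ 21142 Q21142 (allL N21142 (tt N19909 F241744) (tt N19741 F241745) (tt N19539 F241746) (tt N19469 F241747) (tt N22697 (iv F248961)) (tt N21142 F241748) (tt N19336 F241749) (tt N21804 (iv F244319)) (tt N19324 (iv D53912)) (tt N21878 (iv F244784)))
theorem Q21144 : ∀ i, i < 21144 → P i := stepQ 21143 Q21143 (allL N21143 (tt N19438 F241750) (tt N21805 (iv F244321)) (tt N19328 F241751) (tt N22682 (iv F248880)) (tt N19327 (iv D53913)) (tt N19776 F241752) (tt N21777 (iv F244145)) (tt N19368 F241753) (tt N19380 F241754) (tt N22709 D55479))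
theorem Q21145 : ∀ i, i < 21145 → P i := stepQ 21144 Q21144 (allL N21144 (tt N19439 F241755) (tt N21822 (iv F244419)) (tt N19329 F241756) (tt N21144 F241757) (tt N22709 (iv F249008)) (tt N19372 F241758) (tt N21778 (iv F244152)) (tt N19369 F241759) (tt N22710 D55480) (tt N19327 (iv D53914)))
theorem Q21146 : ∀ i, i < 21146 → P i := stepQ 21145 Q21145 (allL N21145 (tt N19440 F241760) (tt N19727 F241761) (tt N22709 (iv F249007)) (tt N19332 F241762) (tt N19329 F241763) (tt N19778 F241764) (tt N21780 (iv F244164)) (tt N19370 F241765) (tt N22711 D55481) (tt N19328 (iv D53915)))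
theorem Q21147 : ∀ i, i < 21147 → P i := stepQ 21146 Q21146 (allL N21146 (tt N19441 F241766) (tt N19728 F241767) (tt N22710 (iv F249012)) (tt N19433 F241768) (tt N22711 (iv F249018)) (tt N19373 F241769) (tt N21781 (iv F244169)) (tt N19371 F241770) (tt N19329 (iv D53916)) (tt N19384 F241771))
theorem Q21148 : ∀ i, i < 21148 → P i := stepQ 21147 Q21147 (allL N21147 (tt N19432 F241772) (tt N19731 F241773) (tt N21983 (iv F245402)) (tt N19370 F241774) (tt N19331 F241775) (tt N19780 F241776) (tt N21877 (iv F244777)) (tt N19332 F241777) (tt N22712 D55482) (tt N19330 (iv D53917)))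
theorem Q21149 : ∀ i, i < 21149 → P i := stepQ 21148 Q21148 (allL N21148 (tt N19433 F241778) (tt N19732 F241779) (tt N22035 (iv F245677)) (tt N19441 F241780) (tt N22712 (iv F249024)) (tt N19334 F241781) (tt N21878 (iv F244783)) (tt N19333 F241782) (tt N19331 (iv D53918)) (tt N19336 F241783))
theorem Q21150 : ∀ i, i < 21150 → P i := stepQ 21149 Q21149 (allL N21149 (tt N19840 F241784) (tt N19734 F241785) (tt N22615 (iv F248591)) (tt N22713 D55483) (tt N19333 F241786) (tt N19782 F241787) (tt N21793 (iv F244242)) (tt N22712 (iv F249026)) (tt N19332 (iv D53919)) (tt N19342 F241788))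
theorem Q21151 : ∀ i, i < 21151 → P i := stepQ 21150 Q21150 (allL N21150 (tt N19875 F241789) (tt N19750 F241790) (tt N21984 (iv F245408)) (tt N22714 D55484) (tt N19336 F241791) (tt N19792 F241792) (tt N22697 (iv F248962)) (tt N19342 F241793) (tt N19335 (iv D53920)) (tt N22712 (iv F249027)))
theorem Q21152 : ∀ i, i < 21152 → P i := stepQ 21151 Q21151 (allL N21151 (tt N19338 F241794) (tt N19877 F241795) (tt N19448 F241796) (tt N21965 (iv F245298)) (tt N19337 (iv D53921)) (tt N19793 F241797) (tt N19445 F241798) (tt N21975 (iv F245356)) (tt N19487 F241799) (tt N22715 D55485))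
theorem Q21153 : ∀ i, i < 21153 → P i := stepQ 21152 Q21152 (allL N21152 (tt N19339 F241800) (tt N19910 F241801) (tt N19459 F241802) (tt N19351 F241803) (tt N22715 (iv F249041)) (tt N19346 F241804) (tt N19456 F241805) (tt N22029 (iv F245646)) (tt N22716 D55486) (tt N19337 (iv D53922)))
theorem Q21154 : ∀ i, i < 21154 → P i := stepQ 21153 Q21153 (allL N21153 (tt N22715 (iv F249038)) (tt N19340 F241806) (tt N19753 F241807) (tt N21967 (iv F245312)) (tt N19339 F241808) (tt N19796 F241809) (tt N21812 (iv F244367)) (tt N21979 (iv F245384)) (tt N22717 D55487) (tt N19338 (iv D53923)))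
theorem Q21155 : ∀ i, i < 21155 → P i := stepQ 21154 Q21154 (allL N21154 (tt N22716 (iv F249044)) (tt N19341 F241810) (tt N19754 F241811) (tt N22718 D55488) (tt N22717 (iv F249052)) (tt N19347 F241812) (tt N21813 (iv F244373)) (tt N22032 (iv F245666)) (tt N19339 (iv D53924)) (tt N22361 (iv F247405)))
theorem Q21156 : ∀ i, i < 21156 → P i := stepQ 21155 Q21155 (allL N21155 (tt N19893 F241813) (tt N22717 (iv F249050)) (tt N19342 F241814) (tt N22719 D55489) (tt N19341 F241815) (tt N19800 F241816) (tt N21818 (iv F244403)) (tt N21984 (iv F245412)) (tt N19340 (iv D53925)) (tt N22615 (iv F248594)))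
theorem Q21157 : ∀ i, i < 21157 → P i := stepQ 21156 Q21156 (allL N21156 (tt N19917 F241817) (tt N22718 (iv F249054)) (tt N19490 F241818) (tt N19341 (iv D53926)) (tt N22720 D55490) (tt N19348 F241819) (tt N21819 (iv F244407)) (tt N22036 (iv F245686)) (tt N19353 F241820) (tt N22640 (iv F248682)))
theorem Q21158 : ∀ i, i < 21158 → P i := stepQ 21157 Q21157 (allL N21157 (tt N19898 F241821) (tt N19760 F241822) (tt N22721 D55491) (tt N19342 (iv D53927)) (tt N19494 F241823) (tt N19801 F241824) (tt N21821 (iv F244417)) (tt N22714 (iv F249037)) (tt N22686 (iv F248905)) (tt N22713 (iv F249032)))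
theorem Q21159 : ∀ i, i < 21159 → P i := stepQ 21158 Q21158 (allL N21158 (tt N19344 F241825) (tt N19901 F241826) (tt N19463 F241827) (tt N19354 F241828) (tt N19802 F241829) (tt N22029 (iv F245644)) (tt N21158 F241830) (tt N19346 F241831) (tt N22722 D55492) (tt N19343 (iv D53928)))
theorem Q21160 : ∀ i, i < 21160 → P i := stepQ 21159 Q21159 (allL N21159 (tt N22722 (iv F249065)) (tt N19345 F241832) (tt N19763 F241833) (tt N22723 D55493) (tt N19803 F241834) (tt N22032 (iv F245664)) (tt N21159 F241835) (tt N19347 F241836) (tt N19344 (iv D53929)) (tt N22363 (iv F247417)))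
theorem Q21161 : ∀ i, i < 21161 → P i := stepQ 21160 Q21160 (allL N21160 (tt N19906 F241837) (tt N22723 (iv F249072)) (tt N19502 F241838) (tt N19345 (iv D53930)) (tt N22548 (iv F248306)) (tt N22036 (iv F245684)) (tt N21160 F241839) (tt N19348 F241840) (tt N19356 F241841) (tt N22627 (iv F248635)))
theorem Q21162 : ∀ i, i < 21162 → P i := stepQ 21161 Q21161 (allL N21161 (tt N19347 F241842) (tt N19911 F241843) (tt N19464 F241844) (tt N22003 (iv F245503)) (tt N19804 F241845) (tt N22716 (iv F249047)) (tt N19349 F241846) (tt N22722 (iv F249070)) (tt N19346 (iv D53931)) (tt N19524 F241847))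
theorem Q21163 : ∀ i, i < 21163 → P i := stepQ 21162 Q21162 (allL N21162 (tt N22003 (iv F245500)) (tt N19348 F241848) (tt N21874 (iv F244751)) (tt N19347 (iv D53932)) (tt N22001 (iv F245488)) (tt N22718 (iv F249055)) (tt N19350 F241849) (tt N22723 (iv F249075)) (tt N19358 F241850) (tt N22364 (iv F247424)))
theorem Q21164 : ∀ i, i < 21164 → P i := stepQ 21163 Q21163 (allL N21163 (tt N19352 F241851) (tt N19987 F241852) (tt N19360 F241853) (tt N22041 (iv F245711)) (tt N22026 (iv F245627)) (tt N19357 F241854) (tt N19935 F241855) (tt N22030 (iv F245653)) (tt N19351 (iv D53933)) (tt N21163 F241856))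
theorem Q21165 : ∀ i, i < 21165 → P i := stepQ 21164 Q21164 (allL N21164 (tt N22041 (iv F245708)) (tt N19353 F241857) (tt N21875 (iv F244759)) (tt N19352 (iv D53934)) (tt N22724 D55494) (tt N19358 F241858) (tt N21847 (iv F244580)) (tt N22033 (iv F245671)) (tt N22718 (iv F249056)) (tt N21164 F241859))
theorem Q21166 : ∀ i, i < 21166 → P i := stepQ 21165 Q21165 (allL N21165 (tt N19992 F241860) (tt N22724 (iv F249077)) (tt N19541 F241861) (tt N22028 (iv F245637)) (tt N19353 (iv D53935)) (tt N22725 D55495) (tt N21851 (iv F244602)) (tt N22037 (iv F245692)) (tt N22720 (iv F249061)) (tt N21165 F241862))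
theorem Q21167 : ∀ i, i < 21167 → P i := stepQ 21166 Q21166 (allL N21166 (tt N19355 F241863) (tt N19963 F241864) (tt N19362 F241865) (tt N22039 (iv F245700)) (tt N19962 F241866) (tt N22030 (iv F245651)) (tt N21166 F241867) (tt N19357 F241868) (tt N19354 (iv D53936)) (tt N21166 F241869))
theorem Q21168 : ∀ i, i < 21168 → P i := stepQ 21167 Q21167 (allL N21167 (tt N22039 (iv F245697)) (tt N19356 F241870) (tt N19953 F241871) (tt N19355 (iv D53937)) (tt N22025 (iv F245620)) (tt N22033 (iv F245669)) (tt N21167 F241872) (tt N19358 F241873) (tt N22723 (iv F249076)) (tt N21167 F241874))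
theorem Q21169 : ∀ i, i < 21169 → P i := stepQ 21168 Q21168 (allL N21168 (tt N19972 F241875) (tt N22025 (iv F245618)) (tt N19544 F241876) (tt N19964 F241877) (tt N19356 (iv D53938)) (tt N22726 D55496) (tt N21168 F241878) (tt N19359 F241879) (tt N22548 (iv F248309)) (tt N21168 F241880))
theorem Q21170 : ∀ i, i < 21170 → P i := stepQ 21169 Q21169 (allL N21169 (tt N19993 F241881) (tt N22021 (iv F245600)) (tt N19545 F241882) (tt N19965 F241883) (tt N22725 (iv F249081)) (tt N19359 (iv D53939)) (tt N22023 (iv F245612)) (tt N22726 (iv F249086)) (tt N22555 (iv F248346)) (tt N21169 F241884))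
theorem Q21171 : ∀ i, i < 21171 → P i := stepQ 21170 Q21170 (allL N21170 (tt N19749 F241885) (tt N19383 F241886) (tt N22383 (iv F247514)) (tt N19596 F241887) (tt N19364 F241888) (tt N19724 F241889) (tt N22122 (iv F246238)) (tt N19365 F241890) (tt N22727 D55497) (tt N19363 (iv D53940)))
theorem Q21172 : ∀ i, i < 21172 → P i := stepQ 21171 Q21171 (allL N21171 (tt N19767 F241891) (tt N19384 F241892) (tt N22387 (iv F247533)) (tt N19503 F241893) (tt N22727 (iv F249090)) (tt N19367 F241894) (tt N22123 (iv F246243)) (tt N19366 F241895) (tt N19364 (iv D53941)) (tt N19728 F241896))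
theorem Q21173 : ∀ i, i < 21173 → P i := stepQ 21172 Q21172 (allL N21172 (tt N19759 F241897) (tt N19392 F241898) (tt N22385 (iv F247524)) (tt N22728 D55498) (tt N19366 F241899) (tt N19726 F241900) (tt N21870 (iv F244727)) (tt N22727 (iv F249092)) (tt N19365 (iv D53942)) (tt N22399 (iv F247605)))
theorem Q21174 : ∀ i, i < 21174 → P i := stepQ 21173 Q21173 (allL N21173 (tt N19444 F241901) (tt N21814 (iv F244377)) (tt N21939 (iv F245146)) (tt N19368 (iv D53943)) (tt N21173 F241902) (tt N21811 (iv F244359)) (tt N21881 (iv F244801)) (tt N22682 (iv F248882)) (tt N21918 (iv F245033)) (tt N22729 D55499))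
theorem Q21175 : ∀ i, i < 21175 → P i := stepQ 21174 Q21174 (allL N21174 (tt N19446 F241903) (tt N21817 (iv F244395)) (tt N19370 F241904) (tt N22729 (iv F249099)) (tt N19369 F241905) (tt N21812 (iv F244366)) (tt N21882 (iv F244809)) (tt N22709 (iv F249010)) (tt N22730 D55500) (tt N19368 (iv D53944)))
theorem Q21176 : ∀ i, i < 21176 → P i := stepQ 21175 Q21175 (allL N21175 (tt N19447 F241906) (tt N21829 (iv F244462)) (tt N19371 F241907) (tt N22731 D55501) (tt N22730 (iv F249103)) (tt N19374 F241908) (tt N21883 (iv F244815)) (tt N22710 (iv F249014)) (tt N19369 (iv D53945)) (tt N19390 F241909))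
theorem Q21177 : ∀ i, i < 21177 → P i := stepQ 21176 Q21176 (allL N21176 (tt N19450 F241910) (tt N22399 (iv F247600)) (tt N22730 (iv F249102)) (tt N22732 D55502) (tt N19371 F241911) (tt N22397 (iv F247588)) (tt N21885 (iv F244827)) (tt N22711 (iv F249020)) (tt N19370 (iv D53946)) (tt N19392 F241912))
theorem Q21178 : ∀ i, i < 21178 → P i := stepQ 21177 Q21177 (allL N21177 (tt N19452 F241913) (tt N21823 (iv F244425)) (tt N19373 F241914) (tt N22733 D55503) (tt N19996 F241915) (tt N22710 (iv F249013)) (tt N21177 F241916) (tt N19374 F241917) (tt N19372 (iv D53947)) (tt N19396 F241918))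
theorem Q21179 : ∀ i, i < 21179 → P i := stepQ 21178 Q21178 (allL N21178 (tt N19458 F241919) (tt N21830 (iv F244468)) (tt N19852 F241920) (tt N19374 (iv D53948)) (tt N22481 (iv F247992)) (tt N22731 (iv F249107)) (tt N19375 F241921) (tt N22733 (iv F249116)) (tt N21178 F241922) (tt N19402 F241923))
theorem Q21180 : ∀ i, i < 21180 → P i := stepQ 21179 Q21179 (allL N21179 (tt N19938 F241924) (tt N19376 (iv D53949)) (tt N21795 (iv F244253)) (tt N19407 F241925) (tt N22734 D55504) (tt N21179 F241926) (tt N19379 F241927) (tt N19950 F241928) (tt N21776 (iv F244142)) (tt N22735 D55505))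
theorem Q21181 : ∀ i, i < 21181 → P i := stepQ 21180 Q21180 (allL N21180 (tt N19465 F241929) (tt N22734 (iv F249120)) (tt N19377 F241930) (tt N19891 F241931) (tt N19376 (iv D53950)) (tt N22603 (iv F248558)) (tt N19380 F241932) (tt N19886 F241933) (tt N21777 (iv F244147)) (tt N22736 D55506))
theorem Q21182 : ∀ i, i < 21182 → P i := stepQ 21181 Q21181 (allL N21181 (tt N19466 F241934) (tt N22735 (iv F249125)) (tt N19378 F241935) (tt N19408 F241936) (tt N22736 (iv F249133)) (tt N21181 F241937) (tt N19381 F241938) (tt N19974 F241939) (tt N22737 D55507) (tt N19376 (iv D53951)))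
theorem Q21183 : ∀ i, i < 21183 → P i := stepQ 21182 Q21182 (allL N21182 (tt N19467 F241940) (tt N22121 (iv F246229)) (tt N22603 (iv F248555)) (tt N21713 (iv F243702)) (tt N21182 F241941) (tt N19377 (iv D53952)) (tt N22186 (iv F246589)) (tt N21889 (iv F244857)) (tt N21779 (iv F244159)) (tt N22738 D55508))
theorem Q21184 : ∀ i, i < 21184 → P i := stepQ 21183 Q21183 (allL N21183 (tt N19468 F241942) (tt N22122 (iv F246235)) (tt N22736 (iv F249131)) (tt N21714 (iv F243710)) (tt N19378 F241943) (tt N22738 (iv F249143)) (tt N19383 F241944) (tt N21890 (iv F244863)) (tt N22739 D55509) (tt N19377 (iv D53953)))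
theorem Q21185 : ∀ i, i < 21185 → P i := stepQ 21184 Q21184 (allL N21184 (tt N19469 F241945) (tt N22123 (iv F246240)) (tt N22737 (iv F249137)) (tt N19909 F241946) (tt N22739 (iv F249145)) (tt N21184 F241947) (tt N19384 F241948) (tt N21891 (iv F244869)) (tt N19378 (iv D53954)) (tt N21781 (iv F244170)))
theorem Q21186 : ∀ i, i < 21186 → P i := stepQ 21185 Q21185 (allL N21185 (tt N22505 (iv F248108)) (tt N19380 F241949) (tt N21786 (iv F244202)) (tt N22503 (iv F248099)) (tt N19379 (iv D53955)) (tt N21784 (iv F244189)) (tt N22734 (iv F249122)) (tt N19385 F241950) (tt N21805 (iv F244326)) (tt N22740 D55510))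
theorem Q21187 : ∀ i, i < 21187 → P i := stepQ 21186 Q21186 (allL N21186 (tt N22553 (iv F248331)) (tt N19381 F241951) (tt N21796 (iv F244260)) (tt N19410 F241952) (tt N22740 (iv F249148)) (tt N19393 F241953) (tt N22735 (iv F249128)) (tt N19386 F241954) (tt N22741 D55511) (tt N19379 (iv D53956)))
theorem Q21188 : ∀ i, i < 21188 → P i := stepQ 21187 Q21187 (allL N21187 (tt N19472 F241955) (tt N22503 (iv F248098)) (tt N19873 F241956) (tt N19380 (iv D53957)) (tt N19411 F241957) (tt N22742 D55512) (tt N19891 F241958) (tt N19387 F241959) (tt N21910 (iv F244990)) (tt N22743 D55513))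
theorem Q21189 : ∀ i, i < 21189 → P i := stepQ 21188 Q21188 (allL N21188 (tt N19473 F241960) (tt N21784 (iv F244187)) (tt N19382 F241961) (tt N22742 (iv F249155)) (tt N19394 F241962) (tt N19380 (iv D53958)) (tt N22184 (iv F246575)) (tt N19388 F241963) (tt N19776 F241964) (tt N22744 D55514))
theorem Q21190 : ∀ i, i < 21190 → P i := stepQ 21189 Q21189 (allL N21189 (tt N19474 F241965) (tt N22740 (iv F249147)) (tt N19383 F241966) (tt N22743 (iv F249160)) (tt N19381 F241967) (tt N22744 (iv F249167)) (tt N22736 (iv F249134)) (tt N19389 F241968) (tt N22745 D55515) (tt N19380 (iv D53959)))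
theorem Q21191 : ∀ i, i < 21191 → P i := stepQ 21190 Q21190 (allL N21190 (tt N19475 F241969) (tt N22741 (iv F249150)) (tt N19384 F241970) (tt N22746 D55516) (tt N22745 (iv F249171)) (tt N19396 F241971) (tt N22737 (iv F249139)) (tt N19390 F241972) (tt N19381 (iv D53960)) (tt N22710 (iv F249015)))
theorem Q21192 : ∀ i, i < 21192 → P i := stepQ 21191 Q21191 (allL N21191 (tt N19476 F241973) (tt N19724 F241974) (tt N22744 (iv F249165)) (tt N19626 F241975) (tt N19397 F241976) (tt N19383 F241977) (tt N22187 (iv F246595)) (tt N19391 F241978) (tt N22747 D55517) (tt N19382 (iv D53961)))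
theorem Q21193 : ∀ i, i < 21193 → P i := stepQ 21192 Q21192 (allL N21192 (tt N19477 F241979) (tt N22727 (iv F249089)) (tt N22745 (iv F249170)) (tt N22748 D55518) (tt N19384 F241980) (tt N22747 (iv F249181)) (tt N22739 (iv F249146)) (tt N19392 F241981) (tt N19383 (iv D53962)) (tt N22711 (iv F249021)))
theorem Q21194 : ∀ i, i < 21194 → P i := stepQ 21193 Q21193 (allL N21193 (tt N22495 (iv F248059)) (tt N19387 F241982) (tt N22251 (iv F246927)) (tt N19385 (iv D53963)) (tt N19416 F241983) (tt N21789 (iv F244219)) (tt N19866 F241984) (tt N22503 (iv F248101)) (tt N21916 (iv F245023)) (tt N22749 D55519))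
theorem Q21195 : ∀ i, i < 21195 → P i := stepQ 21194 Q21194 (allL N21194 (tt N22539 (iv F248267)) (tt N19389 F241985) (tt N21792 (iv F244235)) (tt N22749 (iv F249188)) (tt N19386 F241986) (tt N21790 (iv F244225)) (tt N19928 F241987) (tt N22740 (iv F249149)) (tt N22750 D55520) (tt N19385 (iv D53964)))
theorem Q21196 : ∀ i, i < 21196 → P i := stepQ 21195 Q21195 (allL N21195 (tt N22554 (iv F248338)) (tt N19390 F241988) (tt N21799 (iv F244279)) (tt N22751 D55521) (tt N22750 (iv F249192)) (tt N19399 F241989) (tt N19919 F241990) (tt N22741 (iv F249152)) (tt N19386 (iv D53965)) (tt N21829 (iv F244466)))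
theorem Q21197 : ∀ i, i < 21197 → P i := stepQ 21196 Q21196 (allL N21196 (tt N19484 F241991) (tt N21789 (iv F244217)) (tt N19863 F241992) (tt N19388 F241993) (tt N21196 F241994) (tt N19387 (iv D53966)) (tt N19860 F241995) (tt N22742 (iv F249157)) (tt N21919 (iv F245038)) (tt N22752 D55522))
theorem Q21198 : ∀ i, i < 21198 → P i := stepQ 21197 Q21197 (allL N21197 (tt N19486 F241996) (tt N22749 (iv F249187)) (tt N19874 F241997) (tt N19389 F241998) (tt N19419 F241999) (tt N22752 (iv F249202)) (tt N19870 F242000) (tt N22743 (iv F249163)) (tt N22753 D55523) (tt N19387 (iv D53967)))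
theorem Q21199 : ∀ i, i < 21199 → P i := stepQ 21198 Q21198 (allL N21198 (tt N19488 F242001) (tt N21790 (iv F244222)) (tt N19391 F242002) (tt N22752 (iv F249200)) (tt N19400 F242003) (tt N19389 F242004) (tt N22360 (iv F247399)) (tt N22744 (iv F249168)) (tt N22754 D55524) (tt N19388 (iv D53968)))
theorem Q21200 : ∀ i, i < 21200 → P i := stepQ 21199 Q21199 (allL N21199 (tt N19489 F242005) (tt N22750 (iv F249191)) (tt N19392 F242006) (tt N22755 D55525) (tt N19390 F242007) (tt N22754 (iv F249211)) (tt N21893 (iv F244880)) (tt N22745 (iv F249172)) (tt N19389 (iv D53969)) (tt N22730 (iv F249104)))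
theorem Q21201 : ∀ i, i < 21201 → P i := stepQ 21200 Q21200 (allL N21200 (tt N19490 F242008) (tt N22751 (iv F249194)) (tt N19917 F242009) (tt N19390 (iv D53970)) (tt N22756 D55526) (tt N19402 F242010) (tt N21894 (iv F244886)) (tt N22746 (iv F249176)) (tt N19421 F242011) (tt N22731 (iv F249109)))
theorem Q21202 : ∀ i, i < 21202 → P i := stepQ 21201 Q21201 (allL N21201 (tt N19493 F242012) (tt N19726 F242013) (tt N22754 (iv F249209)) (tt N22757 D55527) (tt N19403 F242014) (tt N19392 F242015) (tt N22362 (iv F247409)) (tt N22747 (iv F249182)) (tt N19391 (iv D53971)) (tt N22397 (iv F247591)))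
theorem Q21203 : ∀ i, i < 21203 → P i := stepQ 21202 Q21202 (allL N21202 (tt N19494 F242016) (tt N22728 (iv F249095)) (tt N22758 D55528) (tt N19392 (iv D53972)) (tt N19898 F242017) (tt N22757 (iv F249219)) (tt N21898 (iv F244911)) (tt N22748 (iv F249186)) (tt N22689 (iv F248920)) (tt N22732 (iv F249112)))
theorem Q21204 : ∀ i, i < 21204 → P i := stepQ 21203 Q21203 (allL N21203 (tt N22561 (iv F248368)) (tt N19396 F242018) (tt N21797 (iv F244266)) (tt N22759 D55529) (tt N21794 (iv F244247)) (tt N22741 (iv F249151)) (tt N21203 F242019) (tt N19399 F242020) (tt N19393 (iv D53973)) (tt N21823 (iv F244430)))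
theorem Q21205 : ∀ i, i < 21205 → P i := stepQ 21204 Q21204 (allL N21204 (tt N19500 F242021) (tt N21785 (iv F244194)) (tt N19397 F242022) (tt N21204 F242023) (tt N22744 (iv F249166)) (tt N19395 F242024) (tt N22185 (iv F246583)) (tt N19400 F242025) (tt N22760 D55530) (tt N19394 (iv D53974)))
theorem Q21206 : ∀ i, i < 21206 → P i := stepQ 21205 Q21205 (allL N21205 (tt N19501 F242026) (tt N21794 (iv F244245)) (tt N19398 F242027) (tt N22761 D55531) (tt N19396 F242028) (tt N22760 (iv F249228)) (tt N21205 F242029) (tt N19401 F242030) (tt N19395 (iv D53975)) (tt N19996 F242031))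
theorem Q21207 : ∀ i, i < 21207 → P i := stepQ 21206 Q21206 (allL N21206 (tt N19502 F242032) (tt N22759 (iv F249222)) (tt N19906 F242033) (tt N19396 (iv D53976)) (tt N22762 D55532) (tt N22746 (iv F249175)) (tt N21206 F242034) (tt N19402 F242035) (tt N19424 F242036) (tt N22733 (iv F249118)))
theorem Q21208 : ∀ i, i < 21208 → P i := stepQ 21207 Q21207 (allL N21207 (tt N19503 F242037) (tt N19725 F242038) (tt N22760 (iv F249227)) (tt N19767 F242039) (tt N22747 (iv F249180)) (tt N19398 F242040) (tt N22188 (iv F246600)) (tt N19403 F242041) (tt N19397 (iv D53977)) (tt N19779 F242042))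
theorem Q21209 : ∀ i, i < 21209 → P i := stepQ 21208 Q21208 (allL N21208 (tt N22011 (iv F245537)) (tt N19402 F242043) (tt N22646 (iv F248698)) (tt N19399 (iv D53978)) (tt N22763 D55533) (tt N22751 (iv F249195)) (tt N19404 F242044) (tt N22759 (iv F249224)) (tt N19426 F242045) (tt N21830 (iv F244471)))
theorem Q21210 : ∀ i, i < 21210 → P i := stepQ 21209 Q21209 (allL N21209 (tt N19513 F242046) (tt N21791 (iv F244228)) (tt N19403 F242047) (tt N22764 D55534) (tt N22754 (iv F249210)) (tt N19401 F242048) (tt N22361 (iv F247404)) (tt N22760 (iv F249229)) (tt N19400 (iv D53979)) (tt N21813 (iv F244375)))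
theorem Q21211 : ∀ i, i < 21211 → P i := stepQ 21210 Q21210 (allL N21210 (tt N19514 F242049) (tt N21798 (iv F244272)) (tt N19771 F242050) (tt N19401 (iv D53980)) (tt N22449 (iv F247836)) (tt N22764 (iv F249248)) (tt N19405 F242051) (tt N22761 (iv F249234)) (tt N21210 F242052) (tt N21828 (iv F244459)))
theorem Q21212 : ∀ i, i < 21212 → P i := stepQ 21211 Q21211 (allL N21211 (tt N19515 F242053) (tt N22763 (iv F249242)) (tt N19918 F242054) (tt N22449 (iv F247835)) (tt N19402 (iv D53981)) (tt N22765 D55535) (tt N19406 F242055) (tt N22762 (iv F249240)) (tt N19427 F242056) (tt N22481 (iv F247995)))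
theorem Q21213 : ∀ i, i < 21213 → P i := stepQ 21212 Q21212 (allL N21212 (tt N21836 (iv F244502)) (tt N19406 F242057) (tt N19923 F242058) (tt N21801 (iv F244292)) (tt N19404 (iv D53982)) (tt N19924 F242059) (tt N22763 (iv F249244)) (tt N21212 F242060) (tt N19428 F242061) (tt N21835 (iv F244501)))
theorem Q21214 : ∀ i, i < 21214 → P i := stepQ 21213 Q21213 (allL N21213 (tt N19939 F242062) (tt N19408 F242063) (tt N21213 F242064) (tt N22735 (iv F249126)) (tt N19937 F242065) (tt N21213 F242066) (tt N19410 F242067) (tt N19970 F242068) (tt N22766 D55536) (tt N19407 (iv D53983)))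
theorem Q21215 : ∀ i, i < 21215 → P i := stepQ 21214 Q21214 (allL N21214 (tt N19527 F242069) (tt N22766 (iv F249254)) (tt N19409 F242070) (tt N22767 D55537) (tt N19984 F242071) (tt N21214 F242072) (tt N19413 F242073) (tt N19979 F242074) (tt N19408 (iv D53984)) (tt N21214 F242075))
theorem Q21216 : ∀ i, i < 21216 → P i := stepQ 21215 Q21215 (allL N21215 (tt N22673 (iv F248830)) (tt N19413 F242076) (tt N21215 F242077) (tt N22768 D55538) (tt N22672 (iv F248825)) (tt N19423 F242078) (tt N22766 (iv F249258)) (tt N19418 F242079) (tt N19410 (iv D53985)) (tt N21215 F242080))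
theorem Q21217 : ∀ i, i < 21217 → P i := stepQ 21216 Q21216 (allL N21216 (tt N19530 F242081) (tt N22504 (iv F248103)) (tt N19908 F242082) (tt N19412 F242083) (tt N22743 (iv F249161)) (tt N21216 F242084) (tt N19915 F242085) (tt N19419 F242086) (tt N22769 D55539) (tt N19411 (iv D53986)))
theorem Q21218 : ∀ i, i < 21218 → P i := stepQ 21217 Q21217 (allL N21217 (tt N19531 F242087) (tt N22672 (iv F248823)) (tt N19414 F242088) (tt N22770 D55540) (tt N19413 F242089) (tt N21217 F242090) (tt N19984 F242091) (tt N19420 F242092) (tt N19412 (iv D53987)) (tt N21217 F242093))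
theorem Q21219 : ∀ i, i < 21219 → P i := stepQ 21218 Q21218 (allL N21218 (tt N19532 F242094) (tt N22768 (iv F249267)) (tt N19986 F242095) (tt N19413 (iv D53988)) (tt N22771 D55541) (tt N19424 F242096) (tt N22767 (iv F249264)) (tt N19421 F242097) (tt N22746 (iv F249177)) (tt N21218 F242098))
theorem Q21220 : ∀ i, i < 21220 → P i := stepQ 21219 Q21219 (allL N21219 (tt N19418 F242099) (tt N19533 F242100) (tt N21219 F242101) (tt N22023 (iv F245610)) (tt N22670 (iv F248813)) (tt N19425 F242102) (tt N19965 F242103) (tt N22673 (iv F248836)) (tt N19415 (iv D53989)) (tt N21219 F242104))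
theorem Q21221 : ∀ i, i < 21221 → P i := stepQ 21220 Q21220 (allL N21220 (tt N22496 (iv F248065)) (tt N19419 F242105) (tt N22252 (iv F246931)) (tt N19417 F242106) (tt N22749 (iv F249189)) (tt N21220 F242107) (tt N19903 F242108) (tt N22504 (iv F248107)) (tt N22772 D55542) (tt N19416 (iv D53990)))
theorem Q21222 : ∀ i, i < 21222 → P i := stepQ 21221 Q21221 (allL N21221 (tt N22670 (iv F248810)) (tt N19420 F242109) (tt N21221 F242110) (tt N22773 D55543) (tt N19418 F242111) (tt N21221 F242112) (tt N19983 F242113) (tt N22672 (iv F248828)) (tt N19417 (iv D53991)) (tt N21221 F242114))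
theorem Q21223 : ∀ i, i < 21223 → P i := stepQ 21222 Q21222 (allL N21222 (tt N22023 (iv F245608)) (tt N19421 F242115) (tt N22660 (iv F248761)) (tt N19418 (iv D53992)) (tt N22774 D55544) (tt N19426 F242116) (tt N19993 F242117) (tt N22768 (iv F249269)) (tt N22751 (iv F249197)) (tt N21222 F242118))
theorem Q21224 : ∀ i, i < 21224 → P i := stepQ 21223 Q21223 (allL N21223 (tt N19539 F242119) (tt N22772 (iv F249286)) (tt N19909 F242120) (tt N22775 D55545) (tt N22753 (iv F249206)) (tt N21223 F242121) (tt N19905 F242122) (tt N22769 (iv F249275)) (tt N19419 (iv D53993)) (tt N21921 (iv F245047)))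
theorem Q21225 : ∀ i, i < 21225 → P i := stepQ 21224 Q21224 (allL N21224 (tt N19540 F242123) (tt N22773 (iv F249289)) (tt N22767 (iv F249262)) (tt N19420 (iv D53994)) (tt N22776 D55546) (tt N21224 F242124) (tt N19986 F242125) (tt N22770 (iv F249280)) (tt N22775 (iv F249299)) (tt N21224 F242126))
theorem Q21226 : ∀ i, i < 21226 → P i := stepQ 21225 Q21225 (allL N21225 (tt N19541 F242127) (tt N22774 (iv F249293)) (tt N19992 F242128) (tt N22776 (iv F249301)) (tt N19421 (iv D53995)) (tt N22777 D55547) (tt N21908 (iv F244976)) (tt N22771 (iv F249284)) (tt N22756 (iv F249215)) (tt N21225 F242129))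
theorem Q21227 : ∀ i, i < 21227 → P i := stepQ 21226 Q21226 (allL N21226 (tt N19423 F242130) (tt N19542 F242131) (tt N21226 F242132) (tt N22019 (iv F245590)) (tt N21226 F242133) (tt N22673 (iv F248834)) (tt N21226 F242134) (tt N19425 F242135) (tt N19422 (iv D53996)) (tt N21226 F242136))
theorem Q21228 : ∀ i, i < 21228 → P i := stepQ 21227 Q21227 (allL N21227 (tt N22019 (iv F245588)) (tt N19424 F242137) (tt N22656 (iv F248740)) (tt N19423 (iv D53997)) (tt N22778 D55548) (tt N22768 (iv F249268)) (tt N21227 F242138) (tt N19426 F242139) (tt N22759 (iv F249225)) (tt N21227 F242140))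
theorem Q21229 : ∀ i, i < 21229 → P i := stepQ 21228 Q21228 (allL N21228 (tt N19544 F242141) (tt N22778 (iv F249309)) (tt N19972 F242142) (tt N21228 F242143) (tt N19424 (iv D53998)) (tt N22779 D55549) (tt N21228 F242144) (tt N19427 F242145) (tt N22762 (iv F249241)) (tt N21228 F242146))
theorem Q21230 : ∀ i, i < 21230 → P i := stepQ 21229 Q21229 (allL N21229 (tt N21842 (iv F244540)) (tt N19427 F242147) (tt N19995 F242148) (tt N21229 F242149) (tt N19426 (iv D53999)) (tt N22780 D55550) (tt N19428 F242150) (tt N22778 (iv F249313)) (tt N22763 (iv F249245)) (tt N21229 F242151))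
theorem Q21231 : ∀ i, i < 21231 → P i := stepQ 21230 Q21230 (allL N21230 (tt N19545 F242152) (tt N22780 (iv F249320)) (tt N19993 F242153) (tt N21230 F242154) (tt N22777 (iv F249306)) (tt N19427 (iv D54000)) (tt N22660 (iv F248764)) (tt N22779 (iv F249318)) (tt N22765 (iv F249252)) (tt N21230 F242155))
theorem Q21232 : ∀ i, i < 21232 → P i := stepQ 21231 Q21231 (allL N21231 (tt N19429 (iv D54001)) (tt N19511 F242156) (tt N19808 F242157) (tt N21231 F242158) (tt N22535 (iv F248250)) (tt N19519 F242159) (tt N21915 (iv F245017)) (tt N19507 F242160) (tt N19900 F242161) (tt N22781 D55551))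
theorem Q21233 : ∀ i, i < 21233 → P i := stepQ 21232 Q21232 (allL N21232 (tt N22535 (iv F248246)) (tt N19430 F242162) (tt N19809 F242163) (tt N22466 (iv F247925)) (tt N19429 (iv D54002)) (tt N19820 F242164) (tt N21916 (iv F245022)) (tt N19829 F242165) (tt N19866 F242166) (tt N22782 D55552))
theorem Q21234 : ∀ i, i < 21234 → P i := stepQ 21233 Q21233 (allL N21233 (tt N22781 (iv F249325)) (tt N19431 F242167) (tt N19810 F242168) (tt N21233 F242169) (tt N22782 (iv F249333)) (tt N19843 F242170) (tt N21917 (iv F245028)) (tt N19847 F242171) (tt N22783 D55553) (tt N19429 (iv D54003)))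
theorem Q21235 : ∀ i, i < 21235 → P i := stepQ 21234 Q21234 (allL N21234 (tt N21939 (iv F245144)) (tt N22466 (iv F247924)) (tt N19444 F242172) (tt N19430 (iv D54004)) (tt N21234 F242173) (tt N19822 F242174) (tt N21918 (iv F245032)) (tt N19832 F242175) (tt N21881 (iv F244803)) (tt N22784 D55554))
theorem Q21236 : ∀ i, i < 21236 → P i := stepQ 21235 Q21235 (allL N21235 (tt N21983 (iv F245401)) (tt N22782 (iv F249331)) (tt N19432 F242176) (tt N22784 (iv F249342)) (tt N19431 F242177) (tt N19823 F242178) (tt N21920 (iv F245042)) (tt N19836 F242179) (tt N22785 D55555) (tt N19430 (iv D54005)))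
theorem Q21237 : ∀ i, i < 21237 → P i := stepQ 21236 Q21236 (allL N21236 (tt N22035 (iv F245676)) (tt N22783 (iv F249336)) (tt N19433 F242180) (tt N22786 D55556) (tt N22785 (iv F249347)) (tt N19845 F242181) (tt N21921 (iv F245046)) (tt N19851 F242182) (tt N19431 (iv D54006)) (tt N19905 F242183))
theorem Q21238 : ∀ i, i < 21238 → P i := stepQ 21237 Q21237 (allL N21237 (tt N22712 (iv F249022)) (tt N19814 F242184) (tt N22785 (iv F249346)) (tt N22787 D55557) (tt N19433 F242185) (tt N19825 F242186) (tt N21923 (iv F245055)) (tt N19840 F242187) (tt N19432 (iv D54007)) (tt N19875 F242188))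
theorem Q21239 : ∀ i, i < 21239 → P i := stepQ 21238 Q21238 (allL N21238 (tt N21777 (iv F244143)) (tt N22681 (iv F248873)) (tt N19435 F242189) (tt N22788 D55558) (tt N19434 (iv D54008)) (tt N22512 (iv F248148)) (tt N19438 F242190) (tt N21815 (iv F244387)) (tt N19465 F242191) (tt N22789 D55559))
theorem Q21240 : ∀ i, i < 21240 → P i := stepQ 21239 Q21239 (allL N21239 (tt N21778 (iv F244148)) (tt N22679 (iv F248862)) (tt N19436 F242192) (tt N21239 F242193) (tt N22789 (iv F249364)) (tt N21239 F242194) (tt N19439 F242195) (tt N21848 (iv F244588)) (tt N22790 D55560) (tt N19434 (iv D54009)))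
theorem Q21241 : ∀ i, i < 21241 → P i := stepQ 21240 Q21240 (allL N21240 (tt N21780 (iv F244160)) (tt N19818 F242196) (tt N22789 (iv F249363)) (tt N19839 F242197) (tt N19436 F242198) (tt N22516 (iv F248162)) (tt N19440 F242199) (tt N21925 (iv F245066)) (tt N22791 D55561) (tt N19435 (iv D54010)))
theorem Q21242 : ∀ i, i < 21242 → P i := stepQ 21241 Q21241 (allL N21241 (tt N21781 (iv F244165)) (tt N19819 F242200) (tt N22790 (iv F249366)) (tt N21878 (iv F244781)) (tt N22791 (iv F249371)) (tt N21241 F242201) (tt N19441 F242202) (tt N21926 (iv F245070)) (tt N19436 (iv D54011)) (tt N19469 F242203))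
theorem Q21243 : ∀ i, i < 21243 → P i := stepQ 21242 Q21242 (allL N21242 (tt N22510 (iv F248133)) (tt N19438 F242204) (tt N19820 F242205) (tt N22792 D55562) (tt N19437 (iv D54012)) (tt N19809 F242206) (tt N22681 (iv F248875)) (tt N19442 F242207) (tt N19470 F242208) (tt N22793 D55563))
theorem Q21244 : ∀ i, i < 21244 → P i := stepQ 21243 Q21243 (allL N21243 (tt N22633 (iv F248651)) (tt N19439 F242209) (tt N19821 F242210) (tt N21243 F242211) (tt N22793 (iv F249380)) (tt N19451 F242212) (tt N22679 (iv F248865)) (tt N19443 F242213) (tt N22794 D55564) (tt N19437 (iv D54013)))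
theorem Q21245 : ∀ i, i < 21245 → P i := stepQ 21244 Q21244 (allL N21244 (tt N22682 (iv F248877)) (tt N22792 (iv F249374)) (tt N19832 F242214) (tt N19438 (iv D54014)) (tt N21244 F242215) (tt N19811 F242216) (tt N22788 (iv F249362)) (tt N19444 F242217) (tt N22795 D55565) (tt N22796 D55566))
theorem Q21246 : ∀ i, i < 21246 → P i := stepQ 21245 Q21245 (allL N21245 (tt N22709 (iv F249006)) (tt N22793 (iv F249378)) (tt N19440 F242218) (tt N22796 (iv F249394)) (tt N19439 F242219) (tt N19812 F242220) (tt N22789 (iv F249365)) (tt N19446 F242221) (tt N22797 D55567) (tt N19438 (iv D54015)))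
theorem Q21247 : ∀ i, i < 21247 → P i := stepQ 21246 Q21246 (allL N21246 (tt N22710 (iv F249011)) (tt N22794 (iv F249383)) (tt N19441 F242222) (tt N22798 D55568) (tt N22797 (iv F249399)) (tt N19452 F242223) (tt N22790 (iv F249368)) (tt N19447 F242224) (tt N19439 (iv D54016)) (tt N19475 F242225))
theorem Q21248 : ∀ i, i < 21248 → P i := stepQ 21247 Q21247 (allL N21247 (tt N22711 (iv F249016)) (tt N19825 F242226) (tt N22797 (iv F249398)) (tt N22799 D55569) (tt N19441 F242227) (tt N19814 F242228) (tt N22791 (iv F249372)) (tt N19450 F242229) (tt N19440 (iv D54017)) (tt N19477 F242230))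
theorem Q21249 : ∀ i, i < 21249 → P i := stepQ 21248 Q21248 (allL N21248 (tt N22596 (iv F248527)) (tt N19444 F242231) (tt N22521 (iv F248181)) (tt N19442 (iv D54018)) (tt N21248 F242232) (tt N22526 (iv F248209)) (tt N21935 (iv F245121)) (tt N22792 (iv F249377)) (tt N22567 (iv F248408)) (tt N22800 D55570))
theorem Q21250 : ∀ i, i < 21250 → P i := stepQ 21249 Q21249 (allL N21249 (tt N19882 F242233) (tt N19445 F242234) (tt N19829 F242235) (tt N22526 (iv F248207)) (tt N19453 F242236) (tt N19442 (iv D54019)) (tt N19877 F242237) (tt N19809 F242238) (tt N19481 F242239) (tt N22801 D55571))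
theorem Q21251 : ∀ i, i < 21251 → P i := stepQ 21250 Q21250 (allL N21250 (tt N22599 (iv F248539)) (tt N19446 F242240) (tt N19830 F242241) (tt N22800 (iv F249413)) (tt N19443 F242242) (tt N22801 (iv F249419)) (tt N21936 (iv F245130)) (tt N22793 (iv F249382)) (tt N22802 D55572) (tt N19442 (iv D54020)))
theorem Q21252 : ∀ i, i < 21252 → P i := stepQ 21251 Q21251 (allL N21251 (tt N22634 (iv F248658)) (tt N19447 F242243) (tt N19831 F242244) (tt N22803 D55573) (tt N22802 (iv F249424)) (tt N19455 F242245) (tt N21937 (iv F245135)) (tt N22794 (iv F249386)) (tt N19443 (iv D54021)) (tt N19483 F242246))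
theorem Q21253 : ∀ i, i < 21253 → P i := stepQ 21252 Q21252 (allL N21252 (tt N21811 (iv F244355)) (tt N22526 (iv F248205)) (tt N19822 F242247) (tt N19445 F242248) (tt N19933 (iv F242250)) (tt N19444 (iv D54022)) (tt N21965 (iv F245300)) (tt N19811 F242249) (tt N22463 (iv F247912)) (tt N22804 D55574))
theorem Q21254 : ∀ i, i < 21254 → P i := stepQ 21253 Q21253 (allL N21253 (tt N21918 (iv F245029)) (tt N22567 (iv F248403)) (tt N21881 (iv F244798)) (tt N19485 F242251) (tt N21253 F242252) (tt N22463 (iv F247909)) (tt N21939 (iv F245150)) (tt N22795 (iv F249392)) (tt N19444 (iv D54023)) (tt N22805 D55575))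
theorem Q21255 : ∀ i, i < 21255 → P i := stepQ 21254 Q21254 (allL N21254 (tt N22729 (iv F249098)) (tt N22800 (iv F249412)) (tt N22784 (iv F249341)) (tt N19446 F242253) (tt N21254 F242254) (tt N22804 (iv F249433)) (tt N21940 (iv F245154)) (tt N22796 (iv F249397)) (tt N22806 D55576) (tt N19444 (iv D54024)))
theorem Q21256 : ∀ i, i < 21256 → P i := stepQ 21255 Q21255 (allL N21255 (tt N21812 (iv F244362)) (tt N22801 (iv F249416)) (tt N19449 F242255) (tt N22804 (iv F249431)) (tt N19456 F242256) (tt N19446 F242257) (tt N22715 (iv F249043)) (tt N19812 F242258) (tt N22807 D55577) (tt N19445 (iv D54025)))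
theorem Q21257 : ∀ i, i < 21257 → P i := stepQ 21256 Q21256 (allL N21256 (tt N22730 (iv F249101)) (tt N22802 (iv F249422)) (tt N19450 F242259) (tt N22808 D55578) (tt N19447 F242260) (tt N22807 (iv F249440)) (tt N21942 (iv F245164)) (tt N22797 (iv F249401)) (tt N19446 (iv D54026)) (tt N19489 F242261))
theorem Q21258 : ∀ i, i < 21258 → P i := stepQ 21257 Q21257 (allL N21257 (tt N22731 (iv F249105)) (tt N22803 (iv F249426)) (tt N22640 (iv F248679)) (tt N19447 (iv D54027)) (tt N22809 D55579) (tt N19458 F242262) (tt N21943 (iv F245167)) (tt N22798 (iv F249404)) (tt N21257 F242263) (tt N19490 F242264))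
theorem Q21259 : ∀ i, i < 21259 → P i := stepQ 21258 Q21258 (allL N21258 (tt N19753 F242265) (tt N19839 F242266) (tt N22715 (iv F249040)) (tt N19818 F242267) (tt N19459 F242268) (tt N21945 (iv F245183)) (tt N19449 F242269) (tt N22493 (iv F248052)) (tt N22810 D55580) (tt N19448 (iv D54028)))
theorem Q21260 : ∀ i, i < 21260 → P i := stepQ 21259 Q21259 (allL N21259 (tt N22397 (iv F247585)) (tt N19840 F242270) (tt N22807 (iv F249438)) (tt N22811 D55581) (tt N19460 F242271) (tt N19450 F242272) (tt N22810 (iv F249449)) (tt N19814 F242273) (tt N19449 (iv D54029)) (tt N19493 F242274))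
theorem Q21261 : ∀ i, i < 21261 → P i := stepQ 21260 Q21260 (allL N21260 (tt N22732 (iv F249110)) (tt N19841 F242275) (tt N22812 D55582) (tt N19450 (iv D54030)) (tt N22713 (iv F249030)) (tt N22811 (iv F249452)) (tt N21947 (iv F245190)) (tt N22799 (iv F249409)) (tt N22787 (iv F249358)) (tt N19494 F242276))
theorem Q21262 : ∀ i, i < 21262 → P i := stepQ 21261 Q21261 (allL N21261 (tt N22647 (iv F248702)) (tt N19452 F242277) (tt N19844 F242278) (tt N22813 D55583) (tt N19997 F242279) (tt N22794 (iv F249385)) (tt N21261 F242280) (tt N19455 F242281) (tt N19451 (iv D54031)) (tt N19499 F242282))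
theorem Q21263 : ∀ i, i < 21263 → P i := stepQ 21262 Q21262 (allL N21262 (tt N22733 (iv F249113)) (tt N22813 (iv F249457)) (tt N22627 (iv F248630)) (tt N19452 (iv D54032)) (tt N22626 F248628) (tt N22798 (iv F249403)) (tt N21262 F242283) (tt N19458 F242284) (tt N21262 F242285) (tt N19502 F242286))
theorem Q21264 : ∀ i, i < 21264 → P i := stepQ 21263 Q21263 (allL N21263 (tt N19912 F242287) (tt N19456 F242288) (tt N19847 F242289) (tt N19932 F242290) (tt N22801 (iv F249418)) (tt N19454 F242291) (tt N19910 F242292) (tt N19810 F242293) (tt N22814 D55584) (tt N19453 (iv D54033)))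
theorem Q21265 : ∀ i, i < 21265 → P i := stepQ 21264 Q21264 (allL N21264 (tt N19922 F242294) (tt N19457 F242295) (tt N19848 F242296) (tt N22013 (iv F245553)) (tt N19455 F242297) (tt N22814 (iv F249466)) (tt N19461 F242298) (tt N19997 F242299) (tt N19454 (iv D54034)) (tt N19509 F242300))
theorem Q21266 : ∀ i, i < 21266 → P i := stepQ 21265 Q21265 (allL N21265 (tt N21959 (iv F245261)) (tt N19458 F242301) (tt N21888 (iv F244846)) (tt N19455 (iv D54035)) (tt N22563 (iv F248382)) (tt N22803 (iv F249427)) (tt N19462 F242302) (tt N22813 (iv F249460)) (tt N21265 F242303) (tt N19510 F242304))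
theorem Q21267 : ∀ i, i < 21267 → P i := stepQ 21266 Q21266 (allL N21266 (tt N21813 (iv F244369)) (tt N22814 (iv F249464)) (tt N19460 F242305) (tt N22408 (iv F247635)) (tt N22807 (iv F249439)) (tt N19457 F242306) (tt N22716 (iv F249048)) (tt N19813 F242307) (tt N19456 (iv D54036)) (tt N19513 F242308))
theorem Q21268 : ∀ i, i < 21268 → P i := stepQ 21267 Q21267 (allL N21267 (tt N19754 F242309) (tt N19854 F242310) (tt N22716 (iv F249046)) (tt N21857 (iv F244641)) (tt N22810 (iv F249448)) (tt N19464 F242311) (tt N19460 F242312) (tt N22494 (iv F248057)) (tt N19459 (iv D54037)) (tt N19517 F242313))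
theorem Q21269 : ∀ i, i < 21269 → P i := stepQ 21268 Q21268 (allL N21268 (tt N19763 F242314) (tt N19859 F242315) (tt N22722 (iv F249067)) (tt N21858 (iv F244648)) (tt N21960 (iv F245270)) (tt N22494 (iv F248055)) (tt N21268 F242316) (tt N19464 F242317) (tt N19463 (iv D54038)) (tt N19526 F242318))
theorem Q21270 : ∀ i, i < 21270 → P i := stepQ 21269 Q21269 (allL N21269 (tt N22603 (iv F248554)) (tt N22682 (iv F248878)) (tt N19467 F242319) (tt N21805 (iv F244323)) (tt N21269 F242320) (tt N19465 (iv D54039)) (tt N22254 (iv F246940)) (tt N21814 (iv F244382)) (tt N22512 (iv F248149)) (tt N22815 D55585))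
theorem Q21271 : ∀ i, i < 21271 → P i := stepQ 21270 Q21270 (allL N21270 (tt N22736 (iv F249130)) (tt N22667 (iv F248793)) (tt N19468 F242321) (tt N21806 (iv F244330)) (tt N19466 F242322) (tt N22815 (iv F249472)) (tt N19474 F242323) (tt N21816 (iv F244393)) (tt N22816 D55586) (tt N19465 (iv D54040)))
theorem Q21272 : ∀ i, i < 21272 → P i := stepQ 21271 Q21271 (allL N21271 (tt N22737 (iv F249136)) (tt N22665 (iv F248784)) (tt N19469 F242324) (tt N22817 D55587) (tt N22816 (iv F249474)) (tt N21271 F242325) (tt N19475 F242326) (tt N21849 (iv F244593)) (tt N19466 (iv D54041)) (tt N22790 (iv F249369)))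
theorem Q21273 : ∀ i, i < 21273 → P i := stepQ 21272 Q21272 (allL N21272 (tt N22738 (iv F249141)) (tt N19864 F242327) (tt N22815 (iv F249470)) (tt N22274 (iv F247031)) (tt N21272 F242328) (tt N19468 F242329) (tt N22257 (iv F246953)) (tt N21963 (iv F245290)) (tt N22818 D55588) (tt N19467 (iv D54042)))
theorem Q21274 : ∀ i, i < 21274 → P i := stepQ 21273 Q21273 (allL N21273 (tt N22739 (iv F249144)) (tt N19865 F242330) (tt N22816 (iv F249473)) (tt N22819 D55589) (tt N19469 F242331) (tt N22818 (iv F249482)) (tt N19477 F242332) (tt N21964 (iv F245294)) (tt N19468 (iv D54043)) (tt N22791 (iv F249373)))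
theorem Q21275 : ∀ i, i < 21275 → P i := stepQ 21274 Q21274 (allL N21274 (tt N22509 (iv F248126)) (tt N19473 F242333) (tt N19866 F242334) (tt N22432 (iv F247746)) (tt N19497 F242335) (tt N19470 (iv D54044)) (tt N22251 (iv F246928)) (tt N19481 F242336) (tt N19809 F242337) (tt N22820 D55590))
theorem Q21276 : ∀ i, i < 21276 → P i := stepQ 21275 Q21275 (allL N21275 (tt N22511 (iv F248140)) (tt N19474 F242338) (tt N19867 F242339) (tt N22433 (iv F247752)) (tt N19471 F242340) (tt N22820 (iv F249488)) (tt N22667 (iv F248796)) (tt N19482 F242341) (tt N22821 D55591) (tt N19470 (iv D54045)))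
theorem Q21277 : ∀ i, i < 21277 → P i := stepQ 21276 Q21276 (allL N21276 (tt N22675 (iv F248842)) (tt N19475 F242342) (tt N19868 F242343) (tt N22822 D55592) (tt N22821 (iv F249492)) (tt N19499 F242344) (tt N22665 (iv F248786)) (tt N19483 F242345) (tt N19471 (iv D54046)) (tt N22794 (iv F249387)))
theorem Q21278 : ∀ i, i < 21278 → P i := stepQ 21277 Q21277 (allL N21277 (tt N22742 (iv F249153)) (tt N22432 (iv F247744)) (tt N19647 F242346) (tt N19473 F242347) (tt N21277 F242348) (tt N19472 (iv D54047)) (tt N22253 (iv F246937)) (tt N19484 F242349) (tt N22823 D55593) (tt N22824 D55594))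
theorem Q21279 : ∀ i, i < 21279 → P i := stepQ 21278 Q21278 (allL N21278 (tt N21910 (iv F244986)) (tt N22184 (iv F246573)) (tt N21782 (iv F244173)) (tt N22795 (iv F249389)) (tt N19529 F242350) (tt N22823 (iv F249502)) (tt N21784 (iv F244190)) (tt N19485 F242351) (tt N19472 (iv D54048)) (tt N22825 D55595))
theorem Q21280 : ∀ i, i < 21280 → P i := stepQ 21279 Q21279 (allL N21279 (tt N22743 (iv F249158)) (tt N22433 (iv F247750)) (tt N21803 (iv F244307)) (tt N19474 F242352) (tt N19530 F242353) (tt N22824 (iv F249507)) (tt N21806 (iv F244332)) (tt N19486 F242354) (tt N22826 D55596) (tt N19472 (iv D54049)))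
theorem Q21281 : ∀ i, i < 21281 → P i := stepQ 21280 Q21280 (allL N21280 (tt N22744 (iv F249164)) (tt N22820 (iv F249485)) (tt N19476 F242355) (tt N22824 (iv F249505)) (tt N19500 F242356) (tt N19474 F242357) (tt N22255 (iv F246944)) (tt N19488 F242358) (tt N22827 D55597) (tt N19473 (iv D54050)))
theorem Q21282 : ∀ i, i < 21282 → P i := stepQ 21281 Q21281 (allL N21281 (tt N22745 (iv F249169)) (tt N22821 (iv F249490)) (tt N19477 F242359) (tt N22828 D55598) (tt N19475 F242360) (tt N22827 (iv F249515)) (tt N22816 (iv F249475)) (tt N19489 F242361) (tt N19474 (iv D54051)) (tt N22797 (iv F249402)))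
theorem Q21283 : ∀ i, i < 21283 → P i := stepQ 21282 Q21282 (allL N21282 (tt N22746 (iv F249173)) (tt N22822 (iv F249494)) (tt N22036 (iv F245683)) (tt N19475 (iv D54052)) (tt N22829 D55599) (tt N19502 F242362) (tt N22817 (iv F249478)) (tt N19490 F242363) (tt N19532 F242364) (tt N22798 (iv F249406)))
theorem Q21284 : ∀ i, i < 21284 → P i := stepQ 21283 Q21283 (allL N21283 (tt N22747 (iv F249178)) (tt N19875 F242365) (tt N22827 (iv F249513)) (tt N22830 D55600) (tt N19503 F242366) (tt N19477 F242367) (tt N22258 (iv F246956)) (tt N19493 F242368) (tt N19476 (iv D54053)) (tt N19814 F242369))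
theorem Q21285 : ∀ i, i < 21285 → P i := stepQ 21284 Q21284 (allL N21284 (tt N22748 (iv F249184)) (tt N19876 F242370) (tt N22831 D55601) (tt N19477 (iv D54054)) (tt N22714 (iv F249035)) (tt N22830 (iv F249522)) (tt N22819 (iv F249484)) (tt N19494 F242371) (tt N22693 (iv F248938)) (tt N22799 (iv F249411)))
theorem Q21286 : ∀ i, i < 21286 → P i := stepQ 21285 Q21285 (allL N21285 (tt N19481 F242372) (tt N19835 F242373) (tt N19877 F242374) (tt N22497 (iv F248074)) (tt N19504 F242375) (tt N19478 (iv D54055)) (tt N19829 F242376) (tt N22509 (iv F248131)) (tt N19882 F242377) (tt N22832 D55602))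
theorem Q21287 : ∀ i, i < 21287 → P i := stepQ 21286 Q21286 (allL N21286 (tt N19482 F242378) (tt N22539 (iv F248268)) (tt N19878 F242379) (tt N22498 (iv F248080)) (tt N19479 F242380) (tt N22832 (iv F249531)) (tt N21976 (iv F245363)) (tt N22511 (iv F248145)) (tt N22833 D55603) (tt N19478 (iv D54056)))
theorem Q21288 : ∀ i, i < 21288 → P i := stepQ 21287 Q21287 (allL N21287 (tt N19483 F242381) (tt N22554 (iv F248339)) (tt N19879 F242382) (tt N22009 (iv F245532)) (tt N22833 (iv F249535)) (tt N19506 F242383) (tt N21977 (iv F245368)) (tt N22675 (iv F248846)) (tt N19479 (iv D54057)) (tt N22634 (iv F248663)))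
theorem Q21289 : ∀ i, i < 21289 → P i := stepQ 21288 Q21288 (allL N21288 (tt N22497 (iv F248071)) (tt N19484 F242384) (tt N22429 (iv F247725)) (tt N19481 F242385) (tt N21288 F242386) (tt N19480 (iv D54058)) (tt N22582 (iv F248484)) (tt N22432 (iv F247748)) (tt N22581 F248478) (tt N22834 D55604))
theorem Q21290 : ∀ i, i < 21290 → P i := stepQ 21289 Q21289 (allL N21289 (tt N22246 (iv F246900)) (tt N19485 F242387) (tt N22182 (iv F246560)) (tt N22567 (iv F248405)) (tt N19534 F242388) (tt N22581 (iv F248477)) (tt N21978 (iv F245376)) (tt N22184 (iv F246576)) (tt N19480 (iv D54059)) (tt N22835 D55605))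
theorem Q21291 : ∀ i, i < 21291 → P i := stepQ 21290 Q21290 (allL N21290 (tt N22498 (iv F248078)) (tt N19486 F242389) (tt N22430 (iv F247731)) (tt N19482 F242390) (tt N19535 F242391) (tt N22834 (iv F249539)) (tt N21979 (iv F245383)) (tt N22433 (iv F247755)) (tt N22836 D55606) (tt N19480 (iv D54060)))
theorem Q21292 : ∀ i, i < 21292 → P i := stepQ 21291 Q21291 (allL N21291 (tt N19829 F242392) (tt N19487 F242393) (tt N19882 F242394) (tt N22582 (iv F248481)) (tt N19507 F242395) (tt N19826 F242396) (tt N19481 (iv D54061)) (tt N22535 (iv F248252)) (tt N19877 F242397) (tt N22837 D55607))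
theorem Q21293 : ∀ i, i < 21293 → P i := stepQ 21292 Q21292 (allL N21292 (tt N22832 (iv F249527)) (tt N19488 F242398) (tt N19883 F242399) (tt N22834 (iv F249537)) (tt N19508 F242400) (tt N19482 F242401) (tt N22837 (iv F249549)) (tt N22820 (iv F249489)) (tt N22838 D55608) (tt N19481 (iv D54062)))
theorem Q21294 : ∀ i, i < 21294 → P i := stepQ 21293 Q21293 (allL N21293 (tt N22833 (iv F249533)) (tt N19489 F242402) (tt N19884 F242403) (tt N22839 D55609) (tt N19483 F242404) (tt N22838 (iv F249553)) (tt N21981 (iv F245396)) (tt N22821 (iv F249493)) (tt N19482 (iv D54063)) (tt N22802 (iv F249425)))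
theorem Q21295 : ∀ i, i < 21295 → P i := stepQ 21294 Q21294 (allL N21294 (tt N22009 (iv F245531)) (tt N19490 F242405) (tt N21901 (iv F244926)) (tt N19483 (iv D54064)) (tt N22840 D55610) (tt N19510 F242406) (tt N21982 (iv F245399)) (tt N22822 (iv F249497)) (tt N19537 F242407) (tt N22803 (iv F249429)))
theorem Q21296 : ∀ i, i < 21296 → P i := stepQ 21295 Q21295 (allL N21295 (tt N19860 F242408) (tt N22582 (iv F248480)) (tt N19785 F242409) (tt N19487 F242410) (tt N21295 F242411) (tt N19783 F242412) (tt N19484 (iv D54065)) (tt N22450 (iv F247845)) (tt N22576 (iv F248452)) (tt N22841 D55611))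
theorem Q21297 : ∀ i, i < 21297 → P i := stepQ 21296 Q21296 (allL N21296 (tt N21919 (iv F245034)) (tt N22581 (iv F248474)) (tt N21876 (iv F244766)) (tt N22463 (iv F247907)) (tt N21296 F242413) (tt N19485 F242414) (tt N22576 (iv F248450)) (tt N22823 (iv F249503)) (tt N19484 (iv D54066)) (tt N22842 D55612))
theorem Q21298 : ∀ i, i < 21298 → P i := stepQ 21297 Q21297 (allL N21297 (tt N22752 (iv F249198)) (tt N22834 (iv F249536)) (tt N22696 (iv F248952)) (tt N19488 F242415) (tt N21297 F242416) (tt N19486 F242417) (tt N22841 (iv F249562)) (tt N22824 (iv F249508)) (tt N22843 D55613) (tt N19484 (iv D54067)))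
theorem Q21299 : ∀ i, i < 21299 → P i := stepQ 21298 Q21298 (allL N21298 (tt N21920 (iv F245039)) (tt N22835 (iv F249540)) (tt N21877 (iv F244774)) (tt N22805 (iv F249435)) (tt N19538 F242418) (tt N22842 (iv F249564)) (tt N21983 (iv F245405)) (tt N22825 (iv F249510)) (tt N22844 D55614) (tt N19485 (iv D54068)))
theorem Q21300 : ∀ i, i < 21300 → P i := stepQ 21299 Q21299 (allL N21299 (tt N22753 (iv F249204)) (tt N22836 (iv F249542)) (tt N22697 (iv F248960)) (tt N22845 D55615) (tt N19539 F242419) (tt N22843 (iv F249566)) (tt N21984 (iv F245411)) (tt N22826 (iv F249512)) (tt N19486 (iv D54069)) (tt N22844 (iv F249568)))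
theorem Q21301 : ∀ i, i < 21301 → P i := stepQ 21300 Q21300 (allL N21300 (tt N21978 (iv F245370)) (tt N22535 (iv F248247)) (tt N19491 F242420) (tt N22450 (iv F247843)) (tt N19511 F242421) (tt N21985 (iv F245418)) (tt N22246 (iv F246902)) (tt N19487 (iv D54070)) (tt N21975 F245357) (tt N22846 D55616))
theorem Q21302 : ∀ i, i < 21302 → P i := stepQ 21301 Q21301 (allL N21301 (tt N22360 (iv F247393)) (tt N22837 (iv F249545)) (tt N19492 F242422) (tt N22841 (iv F249559)) (tt N19512 F242423) (tt N21986 (iv F245426)) (tt N19488 F242424) (tt N22846 (iv F249572)) (tt N22847 D55617) (tt N19487 (iv D54071)))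
theorem Q21303 : ∀ i, i < 21303 → P i := stepQ 21302 Q21302 (allL N21302 (tt N22754 (iv F249208)) (tt N22838 (iv F249550)) (tt N19493 F242425) (tt N22848 D55618) (tt N19513 F242426) (tt N19489 F242427) (tt N22847 (iv F249575)) (tt N22827 (iv F249516)) (tt N19488 (iv D54072)) (tt N22807 (iv F249442)))
theorem Q21304 : ∀ i, i < 21304 → P i := stepQ 21303 Q21303 (allL N21303 (tt N22755 (iv F249212)) (tt N22839 (iv F249554)) (tt N22849 D55619) (tt N19489 (iv D54073)) (tt N22850 D55620) (tt N22848 (iv F249576)) (tt N21988 (iv F245433)) (tt N22828 (iv F249518)) (tt N22845 (iv F249569)) (tt N22808 (iv F249443)))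
theorem Q21305 : ∀ i, i < 21305 → P i := stepQ 21304 Q21304 (allL N21304 (tt N22756 (iv F249213)) (tt N22840 (iv F249555)) (tt N22720 (iv F249060)) (tt N22850 (iv F249578)) (tt N19490 (iv D54074)) (tt N22851 D55621) (tt N21989 (iv F245434)) (tt N22829 (iv F249519)) (tt N19541 F242428) (tt N22809 (iv F249445)))
theorem Q21306 : ∀ i, i < 21306 → P i := stepQ 21305 Q21305 (allL N21305 (tt N22358 (iv F247383)) (tt N19896 F242429) (tt N22846 (iv F249570)) (tt N22259 (iv F246959)) (tt N19516 F242430) (tt N21990 (iv F245438)) (tt N22249 (iv F246919)) (tt N19492 F242431) (tt N22852 D55622) (tt N19491 (iv D54075)))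
theorem Q21307 : ∀ i, i < 21307 → P i := stepQ 21306 Q21306 (allL N21306 (tt N22362 (iv F247406)) (tt N19897 F242432) (tt N22847 (iv F249573)) (tt N22853 D55623) (tt N19517 F242433) (tt N21991 (iv F245442)) (tt N19493 F242434) (tt N22852 (iv F249583)) (tt N19492 (iv D54076)) (tt N22810 (iv F249450)))
theorem Q21308 : ∀ i, i < 21308 → P i := stepQ 21307 Q21307 (allL N21307 (tt N22757 (iv F249216)) (tt N19898 F242435) (tt N22854 D55624) (tt N19493 (iv D54077)) (tt N22728 (iv F249096)) (tt N19494 F242436) (tt N22853 (iv F249585)) (tt N22830 (iv F249523)) (tt N22702 (iv F248981)) (tt N22811 (iv F249455)))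
theorem Q21309 : ∀ i, i < 21309 → P i := stepQ 21308 Q21308 (allL N21308 (tt N22758 (iv F249220)) (tt N22855 D55625) (tt N19494 (iv D54078)) (tt N22849 (iv F249577)) (tt N22721 (iv F249063)) (tt N22854 (iv F249586)) (tt N21993 (iv F245446)) (tt N22831 (iv F249526)) (tt N22703 (iv F248983)) (tt N22812 (iv F249456)))
theorem Q21310 : ∀ i, i < 21310 → P i := stepQ 21309 Q21309 (allL N21309 (tt N19497 F242437) (tt N19849 F242438) (tt N19900 F242439) (tt N21309 F242440) (tt N22509 (iv F248130)) (tt N19495 (iv D54079)) (tt N21909 (iv F244983)) (tt N19504 F242441) (tt N19808 F242442) (tt N22856 D55626))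
theorem Q21311 : ∀ i, i < 21311 → P i := stepQ 21310 Q21310 (allL N21310 (tt N19498 F242443) (tt N19856 F242444) (tt N19901 F242445) (tt N21310 F242446) (tt N19496 F242447) (tt N22856 (iv F249592)) (tt N21310 F242448) (tt N19505 F242449) (tt N22857 D55627) (tt N19495 (iv D54080)))
theorem Q21312 : ∀ i, i < 21312 → P i := stepQ 21311 Q21311 (allL N21311 (tt N19499 F242450) (tt N22561 (iv F248369)) (tt N19902 F242451) (tt N22000 (iv F245481)) (tt N22857 (iv F249597)) (tt N22675 (iv F248844)) (tt N21311 F242452) (tt N19506 F242453) (tt N19496 (iv D54081)) (tt N22647 (iv F248708)))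
theorem Q21313 : ∀ i, i < 21313 → P i := stepQ 21312 Q21312 (allL N21312 (tt N22856 (iv F249588)) (tt N19500 F242454) (tt N19903 F242455) (tt N21312 F242456) (tt N22820 (iv F249487)) (tt N19498 F242457) (tt N22252 (iv F246934)) (tt N19508 F242458) (tt N22858 D55628) (tt N19497 (iv D54082)))
theorem Q21314 : ∀ i, i < 21314 → P i := stepQ 21313 Q21313 (allL N21313 (tt N22857 (iv F249594)) (tt N19501 F242459) (tt N19904 F242460) (tt N22859 D55629) (tt N19499 F242461) (tt N22858 (iv F249603)) (tt N21313 F242462) (tt N19509 F242463) (tt N19498 (iv D54083)) (tt N19997 F242464))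
theorem Q21315 : ∀ i, i < 21315 → P i := stepQ 21314 Q21314 (allL N21314 (tt N22000 (iv F245480)) (tt N19502 F242465) (tt N19955 F242466) (tt N19499 (iv D54084)) (tt N22650 (iv F248716)) (tt N22822 (iv F249496)) (tt N21314 F242467) (tt N19510 F242468) (tt N19543 F242469) (tt N22813 (iv F249462)))
theorem Q21316 : ∀ i, i < 21316 → P i := stepQ 21315 Q21315 (allL N21315 (tt N22760 (iv F249226)) (tt N22858 (iv F249601)) (tt N19503 F242470) (tt N22860 D55630) (tt N22827 (iv F249514)) (tt N19501 F242471) (tt N22256 (iv F246947)) (tt N19513 F242472) (tt N19500 (iv D54085)) (tt N19813 F242473))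
theorem Q21317 : ∀ i, i < 21317 → P i := stepQ 21316 Q21316 (allL N21316 (tt N22761 (iv F249231)) (tt N22859 (iv F249606)) (tt N22388 (iv F247538)) (tt N19501 (iv D54086)) (tt N22552 (iv F248326)) (tt N22860 (iv F249611)) (tt N21316 F242474) (tt N19514 F242475) (tt N21316 F242476) (tt N19998 F242477))
theorem Q21318 : ∀ i, i < 21318 → P i := stepQ 21317 Q21317 (allL N21317 (tt N22762 (iv F249237)) (tt N22650 F248720) (tt N22548 F248311) (tt N22552 (iv F248325)) (tt N19502 (iv D54087)) (tt N22861 D55631) (tt N21317 F242478) (tt N19515 F242479) (tt N19544 F242480) (tt N22626 (iv F248627)))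
theorem Q21319 : ∀ i, i < 21319 → P i := stepQ 21318 Q21318 (allL N21318 (tt N19508 F242481) (tt N19850 F242482) (tt N19910 F242483) (tt N21318 F242484) (tt N22832 (iv F249530)) (tt N19505 F242485) (tt N19847 F242486) (tt N22856 (iv F249593)) (tt N22862 D55632) (tt N19504 (iv D54088)))
theorem Q21320 : ∀ i, i < 21320 → P i := stepQ 21319 Q21319 (allL N21319 (tt N19509 F242487) (tt N19857 F242488) (tt N19911 F242489) (tt N22863 D55633) (tt N19506 F242490) (tt N22862 (iv F249620)) (tt N19518 F242491) (tt N22857 (iv F249599)) (tt N19505 (iv D54089)) (tt N19922 F242492))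
theorem Q21321 : ∀ i, i < 21321 → P i := stepQ 21320 Q21320 (allL N21320 (tt N19847 F242493) (tt N19512 F242494) (tt N19912 F242495) (tt N21320 F242496) (tt N22837 (iv F249547)) (tt N19520 F242497) (tt N19508 F242498) (tt N22781 (iv F249330)) (tt N22864 D55634) (tt N19507 (iv D54090)))
theorem Q21322 : ∀ i, i < 21322 → P i := stepQ 21321 Q21321 (allL N21321 (tt N22862 (iv F249617)) (tt N19513 F242499) (tt N19913 F242500) (tt N22865 D55635) (tt N22838 (iv F249552)) (tt N19509 F242501) (tt N22864 (iv F249632)) (tt N22858 (iv F249604)) (tt N19508 (iv D54091)) (tt N22814 (iv F249469)))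
theorem Q21323 : ∀ i, i < 21323 → P i := stepQ 21322 Q21322 (allL N21322 (tt N22863 (iv F249623)) (tt N19514 F242502) (tt N22649 (iv F248712)) (tt N19509 (iv D54092)) (tt N22560 (iv F248364)) (tt N22865 (iv F249635)) (tt N19522 F242503) (tt N22859 (iv F249608)) (tt N21322 F242504) (tt N22013 (iv F245556)))
theorem Q21324 : ∀ i, i < 21324 → P i := stepQ 21323 Q21323 (allL N21323 (tt N22031 (iv F245655)) (tt N22781 (iv F249326)) (tt N19516 F242505) (tt N21323 F242506) (tt N22846 (iv F249571)) (tt N19523 F242507) (tt N22247 (iv F246909)) (tt N19512 F242508) (tt N22866 D55636) (tt N19511 (iv D54093)))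
theorem Q21325 : ∀ i, i < 21325 → P i := stepQ 21324 Q21324 (allL N21324 (tt N22361 (iv F247400)) (tt N22864 (iv F249629)) (tt N19517 F242509) (tt N22867 D55637) (tt N22847 (iv F249574)) (tt N19524 F242510) (tt N19513 F242511) (tt N22866 (iv F249639)) (tt N19512 (iv D54094)) (tt N22716 (iv F249049)))
theorem Q21326 : ∀ i, i < 21326 → P i := stepQ 21325 Q21325 (allL N21325 (tt N22764 (iv F249246)) (tt N22865 (iv F249634)) (tt N22389 (iv F247545)) (tt N19513 (iv D54095)) (tt N22868 D55638) (tt N19514 F242512) (tt N22867 (iv F249641)) (tt N22860 (iv F249612)) (tt N21325 F242513) (tt N22408 (iv F247639)))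
theorem Q21327 : ∀ i, i < 21327 → P i := stepQ 21326 Q21326 (allL N21326 (tt N22765 (iv F249250)) (tt N22642 F248689) (tt N22555 F248348) (tt N22558 (iv F248356)) (tt N22851 (iv F249579)) (tt N19515 (iv D54096)) (tt N22644 (iv F248693)) (tt N22861 (iv F249615)) (tt N19545 F242514) (tt N22638 (iv F248676)))
theorem Q21328 : ∀ i, i < 21328 → P i := stepQ 21327 Q21327 (allL N21327 (tt N22359 (iv F247387)) (tt N19920 F242515) (tt N22866 (iv F249637)) (tt N21865 (iv F244693)) (tt N22852 (iv F249582)) (tt N19526 F242516) (tt N22250 (iv F246923)) (tt N19517 F242517) (tt N19516 (iv D54097)) (tt N22494 (iv F248058)))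
theorem Q21329 : ∀ i, i < 21329 → P i := stepQ 21328 Q21328 (allL N21328 (tt N19522 F242518) (tt N19858 F242519) (tt N21835 (iv F244496)) (tt N19518 (iv D54098)) (tt N21834 F244493) (tt N19855 F242520) (tt N22863 (iv F249625)) (tt N21328 F242521) (tt N21328 F242522) (tt N19923 F242523))
theorem Q21330 : ∀ i, i < 21330 → P i := stepQ 21329 Q21329 (allL N21329 (tt N19843 F242524) (tt N19523 F242525) (tt N19921 F242526) (tt N21329 F242527) (tt N19842 F242528) (tt N22781 (iv F249329)) (tt N21329 F242529) (tt N19520 F242530) (tt N22869 D55639) (tt N19519 (iv D54099)))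
theorem Q21331 : ∀ i, i < 21331 → P i := stepQ 21330 Q21330 (allL N21330 (tt N19848 F242531) (tt N19524 F242532) (tt N19922 F242533) (tt N21955 (iv F245240)) (tt N19846 F242534) (tt N22864 (iv F249631)) (tt N19521 F242535) (tt N22869 (iv F249649)) (tt N19520 (iv D54100)) (tt N19911 F242536))
theorem Q21332 : ∀ i, i < 21332 → P i := stepQ 21331 Q21331 (allL N21331 (tt N22363 (iv F247411)) (tt N22869 (iv F249645)) (tt N19526 F242537) (tt N22870 D55640) (tt N22012 (iv F245547)) (tt N22866 (iv F249638)) (tt N21331 F242538) (tt N19524 F242539) (tt N19523 (iv D54101)) (tt N22722 (iv F249071)))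
theorem Q21333 : ∀ i, i < 21333 → P i := stepQ 21332 Q21332 (allL N21332 (tt N22364 (iv F247418)) (tt N21955 (iv F245239)) (tt N21872 (iv F244737)) (tt N19524 (iv D54102)) (tt N21953 (iv F245226)) (tt N22867 (iv F249640)) (tt N19525 F242540) (tt N22870 (iv F249652)) (tt N21332 F242541) (tt N22003 (iv F245506)))
theorem Q21334 : ∀ i, i < 21334 → P i := stepQ 21333 Q21333 (allL N21333 (tt N22767 (iv F249261)) (tt N22355 (iv F247373)) (tt N19540 F242542) (tt N19527 (iv D54103)) (tt N22871 D55641) (tt N21333 F242543) (tt N19532 F242544) (tt N21850 (iv F244598)) (tt N22817 (iv F249479)) (tt N21333 F242545))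
theorem Q21335 : ∀ i, i < 21335 → P i := stepQ 21334 Q21334 (allL N21334 (tt N22017 (iv F245577)) (tt N19532 F242546) (tt N19712 F242547) (tt N19528 (iv D54104)) (tt N22872 D55642) (tt N19543 F242548) (tt N22355 (iv F247376)) (tt N19537 F242549) (tt N22822 (iv F249498)) (tt N21334 F242550))
theorem Q21336 : ∀ i, i < 21336 → P i := stepQ 21335 Q21335 (allL N21335 (tt N21911 (iv F244991)) (tt N22185 (iv F246579)) (tt N21783 (iv F244181)) (tt N21335 F242551) (tt N22825 (iv F249509)) (tt N21335 F242552) (tt N21785 (iv F244198)) (tt N19538 F242553) (tt N22873 D55643) (tt N19529 (iv D54105)))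
theorem Q21337 : ∀ i, i < 21337 → P i := stepQ 21336 Q21336 (allL N21336 (tt N22769 (iv F249271)) (tt N22434 (iv F247757)) (tt N21804 (iv F244315)) (tt N22874 D55644) (tt N22826 (iv F249511)) (tt N21336 F242554) (tt N21807 (iv F244338)) (tt N19539 F242555) (tt N19530 (iv D54106)) (tt N22873 (iv F249663)))
theorem Q21338 : ∀ i, i < 21338 → P i := stepQ 21337 Q21337 (allL N21337 (tt N22770 (iv F249276)) (tt N22669 (iv F248804)) (tt N21850 (iv F244595)) (tt N19531 (iv D54107)) (tt N22875 D55645) (tt N21337 F242556) (tt N21843 (iv F244551)) (tt N19540 F242557) (tt N22874 (iv F249666)) (tt N21337 F242558))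
theorem Q21339 : ∀ i, i < 21339 → P i := stepQ 21338 Q21338 (allL N21338 (tt N22771 (iv F249282)) (tt N22872 (iv F249657)) (tt N22037 (iv F245689)) (tt N22875 (iv F249667)) (tt N19532 (iv D54108)) (tt N22876 D55646) (tt N22871 (iv F249655)) (tt N19541 F242559) (tt N22829 (iv F249520)) (tt N21338 F242560))
theorem Q21340 : ∀ i, i < 21340 → P i := stepQ 21339 Q21339 (allL N21339 (tt N22247 (iv F246905)) (tt N19538 F242561) (tt N22183 (iv F246567)) (tt N21339 F242562) (tt N22835 (iv F249541)) (tt N21339 F242563) (tt N22031 (iv F245660)) (tt N22185 (iv F246584)) (tt N22877 D55647) (tt N19534 (iv D54109)))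
theorem Q21341 : ∀ i, i < 21341 → P i := stepQ 21340 Q21340 (allL N21340 (tt N22499 (iv F248083)) (tt N19539 F242564) (tt N22431 (iv F247738)) (tt N22878 D55648) (tt N22836 (iv F249543)) (tt N21340 F242565) (tt N22032 (iv F245665)) (tt N22434 (iv F247761)) (tt N19535 (iv D54110)) (tt N22877 (iv F249675)))
theorem Q21342 : ∀ i, i < 21342 → P i := stepQ 21341 Q21341 (allL N21341 (tt N22671 (iv F248818)) (tt N19540 F242566) (tt N22351 (iv F247355)) (tt N19536 (iv D54111)) (tt N22879 D55649) (tt N21341 F242567) (tt N22033 (iv F245670)) (tt N22669 (iv F248808)) (tt N22878 (iv F249678)) (tt N21341 F242568))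
theorem Q21343 : ∀ i, i < 21343 → P i := stepQ 21342 Q21342 (allL N21342 (tt N22024 (iv F245614)) (tt N19541 F242569) (tt N21906 (iv F244959)) (tt N22879 (iv F249680)) (tt N19537 (iv D54112)) (tt N22659 (iv F248757)) (tt N22034 (iv F245674)) (tt N22872 (iv F249659)) (tt N22840 (iv F249556)) (tt N21342 F242570))
theorem Q21344 : ∀ i, i < 21344 → P i := stepQ 21343 Q21343 (allL N21343 (tt N21921 (iv F245043)) (tt N22877 (iv F249673)) (tt N21878 (iv F244780)) (tt N22880 D55650) (tt N22844 (iv F249567)) (tt N21343 F242571) (tt N22035 (iv F245679)) (tt N22873 (iv F249662)) (tt N19538 (iv D54113)) (tt N19539 F242572))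
theorem Q21345 : ∀ i, i < 21345 → P i := stepQ 21344 Q21344 (allL N21344 (tt N22775 (iv F249296)) (tt N22878 (iv F249676)) (tt N22817 (iv F249476)) (tt N19539 (iv D54114)) (tt N22881 D55651) (tt N21344 F242573) (tt N22036 (iv F245685)) (tt N22874 (iv F249665)) (tt N19540 F242574) (tt N22880 (iv F249684)))
theorem Q21346 : ∀ i, i < 21346 → P i := stepQ 21345 Q21345 (allL N21345 (tt N22776 (iv F249300)) (tt N22879 (iv F249679)) (tt N22871 (iv F249654)) (tt N19541 F242575) (tt N19540 (iv D54115)) (tt N22882 D55652) (tt N22037 (iv F245691)) (tt N22875 (iv F249668)) (tt N22881 (iv F249685)) (tt N21345 F242576))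
theorem Q21347 : ∀ i, i < 21347 → P i := stepQ 21346 Q21346 (allL N21346 (tt N22777 (iv F249304)) (tt N22659 (iv F248755)) (tt N22725 (iv F249080)) (tt N22882 (iv F249686)) (tt N19545 F242577) (tt N19541 (iv D54116)) (tt N22661 (iv F248767)) (tt N22876 (iv F249671)) (tt N22851 (iv F249580)) (tt N21346 F242578))
theorem Q21348 : ∀ i, i < 21348 → P i := stepQ 21347 Q21347 (allL N21347 (tt N22779 (iv F249315)) (tt N22657 F248750) (tt N22726 (iv F249084)) (tt N21347 F242579) (tt N22876 (iv F249670)) (tt N19544 (iv D54117)) (tt N22883 D55653) (tt N19545 F242580) (tt N22861 (iv F249616)) (tt N21347 F242581))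
theorem Q21349 : ∀ i, i < 21349 → P i := stepQ 21348 Q21348 (allL N21348 (tt N19553 F242582) (tt N22076 (iv F245956)) (tt N19557 F242583) (tt N19548 (iv D54118)) (tt N22884 D55654) (tt N22048 (iv F245767)) (tt N21711 (iv F243687)) (tt N19587 F242584) (tt N19550 F242585) (tt N22082 (iv F245990)))
theorem Q21350 : ∀ i, i < 21350 → P i := stepQ 21349 Q21349 (allL N21349 (tt N19575 F242586) (tt N19550 F242587) (tt N22072 (iv F245931)) (tt N19549 (iv D54119)) (tt N22071 F245928) (tt N19558 F242588) (tt N21712 (iv F243696)) (tt N19592 F242589) (tt N22076 (iv F245959)) (tt N21349 F242590))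
theorem Q21351 : ∀ i, i < 21351 → P i := stepQ 21350 Q21350 (allL N21350 (tt N19554 F242591) (tt N22071 (iv F245922)) (tt N19558 F242592) (tt N21350 F242593) (tt N19550 (iv D54120)) (tt N22072 (iv F245933)) (tt N21707 (iv F243655)) (tt N19593 F242594) (tt N22884 (iv F249695)) (tt N21350 F242595))
theorem Q21352 : ∀ i, i < 21352 → P i := stepQ 21351 Q21351 (allL N21351 (tt N22082 (iv F245984)) (tt N22073 (iv F245937)) (tt N19560 F242596) (tt N19551 (iv D54121)) (tt N22885 D55655) (tt N22051 (iv F245788)) (tt N22075 (iv F245951)) (tt N19600 F242597) (tt N21351 F242598) (tt N19553 F242599))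
theorem Q21353 : ∀ i, i < 21353 → P i := stepQ 21352 Q21352 (allL N21352 (tt N22075 (iv F245947)) (tt N22081 (iv F245980)) (tt N21708 (iv F243660)) (tt N19552 (iv D54122)) (tt N22886 D55656) (tt N22059 (iv F245845)) (tt N22082 (iv F245987)) (tt N19616 F242600) (tt N21352 F242601) (tt N21711 (iv F243690)))
theorem Q21354 : ∀ i, i < 21354 → P i := stepQ 21353 Q21353 (allL N21353 (tt N22884 (iv F249692)) (tt N22070 (iv F245916)) (tt N19570 F242602) (tt N22886 (iv F249700)) (tt N19553 (iv D54123)) (tt N22887 D55657) (tt N22083 (iv F245994)) (tt N19617 F242603) (tt N19554 F242604) (tt N22885 (iv F249699)))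
theorem Q21355 : ∀ i, i < 21355 → P i := stepQ 21354 Q21354 (allL N21354 (tt N22072 (iv F245929)) (tt N21707 (iv F243651)) (tt N19575 F242605) (tt N21354 F242606) (tt N21712 (iv F243694)) (tt N19554 (iv D54124)) (tt N22071 (iv F245925)) (tt N19623 F242607) (tt N22887 (iv F249705)) (tt N21354 F242608))
theorem Q21356 : ∀ i, i < 21356 → P i := stepQ 21355 Q21355 (allL N21355 (tt N19560 F242609) (tt N22074 (iv F245942)) (tt N22082 (iv F245986)) (tt N19555 (iv D54125)) (tt N22084 (iv F245998)) (tt N22064 (iv F245884)) (tt N21708 (iv F243662)) (tt N19630 F242610) (tt N21355 F242611) (tt N19557 F242612))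
theorem Q21357 : ∀ i, i < 21357 → P i := stepQ 21356 Q21356 (allL N21356 (tt N19570 F242613) (tt N22048 (iv F245764)) (tt N22884 (iv F249693)) (tt N21704 (iv F243628)) (tt N19557 (iv D54126)) (tt N22076 (iv F245957)) (tt N21706 (iv F243647)) (tt N19641 F242614) (tt N19558 F242615) (tt N22084 (iv F246002)))
theorem Q21358 : ∀ i, i < 21358 → P i := stepQ 21357 Q21357 (allL N21357 (tt N22059 (iv F245843)) (tt N19560 F242616) (tt N22684 (iv F248890)) (tt N19559 (iv D54127)) (tt N22080 (iv F245975)) (tt N22075 (iv F245950)) (tt N22683 (iv F248885)) (tt N19654 F242617) (tt N21357 F242618) (tt N19567 F242619))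
theorem Q21359 : ∀ i, i < 21359 → P i := stepQ 21358 Q21358 (allL N21358 (tt N22084 (iv F245997)) (tt N22080 (iv F245974)) (tt N22885 (iv F249696)) (tt N21705 F243642) (tt N19560 (iv D54128)) (tt N22068 (iv F245906)) (tt N22078 (iv F245967)) (tt N19655 F242620) (tt N21358 F242621) (tt N19570 F242622))
theorem Q21360 : ∀ i, i < 21360 → P i := stepQ 21359 Q21359 (allL N21359 (tt N21710 (iv F243675)) (tt N22049 (iv F245772)) (tt N19567 F242623) (tt N19561 (iv D54129)) (tt N22056 (iv F245822)) (tt N19564 F242624) (tt N22054 (iv F245809)) (tt N19698 F242625) (tt N19571 F242626) (tt N22684 (iv F248894)))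
theorem Q21361 : ∀ i, i < 21361 → P i := stepQ 21360 Q21360 (allL N21360 (tt N22684 (iv F248889)) (tt N22078 (iv F245964)) (tt N22059 (iv F245844)) (tt N19562 (iv D54130)) (tt N22683 (iv F248884)) (tt N21708 (iv F243661)) (tt N22080 (iv F245976)) (tt N21755 (iv F244005)) (tt N21360 F242627) (tt N21710 (iv F243683)))
theorem Q21362 : ∀ i, i < 21362 → P i := stepQ 21361 Q21361 (allL N21361 (tt N22056 (iv F245819)) (tt N19564 F242628) (tt N22054 (iv F245806)) (tt N19563 (iv D54131)) (tt N21710 (iv F243678)) (tt N22049 (iv F245775)) (tt N19567 F242629) (tt N21744 (iv F243925)) (tt N19572 F242630) (tt N22683 (iv F248888)))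
theorem Q21363 : ∀ i, i < 21363 → P i := stepQ 21362 Q21362 (allL N21362 (tt N19567 F242631) (tt N22055 (iv F245813)) (tt N21710 (iv F243677)) (tt N19565 (iv D54132)) (tt N22054 (iv F245807)) (tt N21711 (iv F243686)) (tt N22056 (iv F245824)) (tt N19695 F242632) (tt N19573 F242633) (tt N22059 (iv F245848)))
theorem Q21364 : ∀ i, i < 21364 → P i := stepQ 21363 Q21363 (allL N21363 (tt N22054 (iv F245804)) (tt N19570 F242634) (tt N22056 (iv F245821)) (tt N21709 (iv F243669)) (tt N19567 (iv D54133)) (tt N22057 (iv F245830)) (tt N21710 (iv F243680)) (tt N19699 F242635) (tt N19574 F242636) (tt N22080 (iv F245979)))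
theorem Q21365 : ∀ i, i < 21365 → P i := stepQ 21364 Q21364 (allL N21364 (tt N22076 (iv F245955)) (tt N22057 F245834) (tt N22887 (iv F249703)) (tt N22063 (iv F245877)) (tt N22087 (iv F246010)) (tt N19570 (iv D54134)) (tt N22067 (iv F245902)) (tt N19702 F242637) (tt N19575 F242638) (tt N22068 (iv F245909)))
theorem Q21366 : ∀ i, i < 21366 → P i := stepQ 21365 Q21365 (allL N21365 (tt N19596 F242639) (tt N19633 F242640) (tt N22305 (iv F247173)) (tt N19749 F242641) (tt N19577 F242642) (tt N19601 F242643) (tt N22098 (iv F246087)) (tt N19607 F242644) (tt N22888 D55658) (tt N19576 (iv D54135)))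
theorem Q21367 : ∀ i, i < 21367 → P i := stepQ 21366 Q21366 (allL N21366 (tt N19597 F242645) (tt N19634 F242646) (tt N22323 (iv F247236)) (tt N19627 F242647) (tt N22888 (iv F249708)) (tt N19578 F242648) (tt N22099 (iv F246092)) (tt N19612 F242649) (tt N19577 (iv D54136)) (tt N19584 F242650))
theorem Q21368 : ∀ i, i < 21368 → P i := stepQ 21367 Q21367 (allL N21367 (tt N19601 F242651) (tt N19626 F242652) (tt N22300 (iv F247143)) (tt N19724 F242653) (tt N19580 F242654) (tt N19596 F242655) (tt N22170 (iv F246496)) (tt N19583 F242656) (tt N22889 D55659) (tt N19579 (iv D54137)))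
theorem Q21369 : ∀ i, i < 21369 → P i := stepQ 21368 Q21368 (allL N21368 (tt N19602 F242657) (tt N19627 F242658) (tt N22301 (iv F247149)) (tt N19634 F242659) (tt N22889 (iv F249714)) (tt N19585 F242660) (tt N22171 (iv F246502)) (tt N19584 F242661) (tt N19580 (iv D54138)) (tt N19612 F242662))
theorem Q21370 : ∀ i, i < 21370 → P i := stepQ 21369 Q21369 (allL N21369 (tt N19605 F242663) (tt N22271 (iv F247018)) (tt N19583 F242664) (tt N22376 (iv F247480)) (tt N19582 F242665) (tt N22267 (iv F247002)) (tt N22110 (iv F246167)) (tt N22300 (iv F247147)) (tt N22890 D55660) (tt N19581 (iv D54139)))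
theorem Q21371 : ∀ i, i < 21371 → P i := stepQ 21370 Q21370 (allL N21370 (tt N19606 F242666) (tt N22281 (iv F247061)) (tt N19584 F242667) (tt N22891 D55661) (tt N22890 (iv F249720)) (tt N19586 F242668) (tt N22111 (iv F246172)) (tt N22301 (iv F247152)) (tt N19582 (iv D54140)) (tt N22323 (iv F247239)))
theorem Q21372 : ∀ i, i < 21372 → P i := stepQ 21371 Q21371 (allL N21371 (tt N19608 F242669) (tt N22688 (iv F248913)) (tt N22890 (iv F249719)) (tt N22892 D55662) (tt N19584 F242670) (tt N22687 (iv F248909)) (tt N22113 (iv F246184)) (tt N22889 (iv F249716)) (tt N19583 (iv D54141)) (tt N22888 (iv F249711)))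
theorem Q21373 : ∀ i, i < 21373 → P i := stepQ 21372 Q21372 (allL N21372 (tt N19611 F242671) (tt N22282 (iv F247066)) (tt N19638 F242672) (tt N19586 (iv D54142)) (tt N22893 D55663) (tt N22891 (iv F249723)) (tt N19587 F242673) (tt N21765 (iv F244066)) (tt N19591 F242674) (tt N22324 (iv F247246)))
theorem Q21374 : ∀ i, i < 21374 → P i := stepQ 21373 Q21373 (allL N21373 (tt N19617 F242675) (tt N22234 (iv F246829)) (tt N19641 F242676) (tt N22287 (iv F247085)) (tt N19587 (iv D54143)) (tt N22235 (iv F246839)) (tt N22893 (iv F249730)) (tt N22884 (iv F249694)) (tt N19593 F242677) (tt N22336 (iv F247283)))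
theorem Q21375 : ∀ i, i < 21375 → P i := stepQ 21374 Q21374 (allL N21374 (tt N19957 F242678) (tt N19589 F242679) (tt N21374 F242680) (tt N22894 D55664) (tt N21837 (iv F244513)) (tt N19590 F242681) (tt N19951 F242682) (tt N22238 (iv F246862)) (tt N19588 (iv D54144)) (tt N21374 F242683))
theorem Q21376 : ∀ i, i < 21376 → P i := stepQ 21375 Q21375 (allL N21375 (tt N19621 F242684) (tt N22894 (iv F249733)) (tt N19643 F242685) (tt N19589 (iv D54145)) (tt N22895 D55665) (tt N19591 F242686) (tt N22118 (iv F246216)) (tt N21771 (iv F244108)) (tt N22891 (iv F249724)) (tt N21375 F242687))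
theorem Q21377 : ∀ i, i < 21377 → P i := stepQ 21376 Q21376 (allL N21376 (tt N19719 F242688) (tt N19591 F242689) (tt N22244 (iv F246890)) (tt N19590 (iv D54146)) (tt N22243 F246887) (tt N22894 (iv F249734)) (tt N19592 F242690) (tt N21773 (iv F244120)) (tt N22282 (iv F247068)) (tt N21376 F242691))
theorem Q21378 : ∀ i, i < 21378 → P i := stepQ 21377 Q21377 (allL N21377 (tt N19622 F242692) (tt N22243 (iv F246882)) (tt N19644 F242693) (tt N21377 F242694) (tt N19591 (iv D54147)) (tt N22896 D55666) (tt N19593 F242695) (tt N21741 (iv F243901)) (tt N22893 (iv F249731)) (tt N21377 F242696))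
theorem Q21379 : ∀ i, i < 21379 → P i := stepQ 21378 Q21378 (allL N21378 (tt N22302 (iv F247154)) (tt N22261 (iv F246970)) (tt N22373 (iv F247466)) (tt N19594 (iv D54148)) (tt N21378 F242697) (tt N22299 (iv F247139)) (tt N22128 (iv F246272)) (tt N22266 (iv F246997)) (tt N22897 D55667) (tt N22898 D55668))
theorem Q21380 : ∀ i, i < 21380 → P i := stepQ 21379 Q21379 (allL N21379 (tt N22305 (iv F247171)) (tt N22262 (iv F246975)) (tt N19596 F242698) (tt N22898 (iv F249747)) (tt N19595 F242699) (tt N22300 (iv F247145)) (tt N22129 (iv F246277)) (tt N22267 (iv F247004)) (tt N22899 D55669) (tt N19594 (iv D54149)))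
theorem Q21381 : ∀ i, i < 21381 → P i := stepQ 21380 Q21380 (allL N21380 (tt N22323 (iv F247234)) (tt N22263 (iv F246979)) (tt N19597 F242700) (tt N22900 D55670) (tt N22899 (iv F249750)) (tt N19598 F242701) (tt N22130 (iv F246280)) (tt N22268 (iv F247010)) (tt N19595 (iv D54150)) (tt N19606 F242702))
theorem Q21382 : ∀ i, i < 21382 → P i := stepQ 21381 Q21381 (allL N21381 (tt N22888 (iv F249706)) (tt N22685 (iv F248896)) (tt N22899 (iv F249749)) (tt N22901 D55671) (tt N19597 F242703) (tt N22889 (iv F249715)) (tt N22133 (iv F246293)) (tt N22687 (iv F248910)) (tt N19596 (iv D54151)) (tt N19608 F242704))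
theorem Q21383 : ∀ i, i < 21383 → P i := stepQ 21382 Q21382 (allL N21382 (tt N22324 (iv F247240)) (tt N22277 (iv F247040)) (tt N19652 F242705) (tt N19598 (iv D54152)) (tt N22902 D55672) (tt N22900 (iv F249753)) (tt N19600 F242706) (tt N22280 (iv F247058)) (tt N21382 F242707) (tt N19611 F242708))
theorem Q21384 : ∀ i, i < 21384 → P i := stepQ 21383 Q21383 (allL N21383 (tt N22143 (iv F246345)) (tt N19600 F242709) (tt N22105 (iv F246131)) (tt N19599 (iv D54153)) (tt N22210 (iv F246723)) (tt N22139 (iv F246321)) (tt N22277 (iv F247041)) (tt N22073 (iv F245939)) (tt N21383 F242710) (tt N19615 F242711))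
theorem Q21385 : ∀ i, i < 21385 → P i := stepQ 21384 Q21384 (allL N21384 (tt N22336 (iv F247277)) (tt N22210 (iv F246721)) (tt N19655 F242712) (tt N21739 (iv F243885)) (tt N19600 (iv D54154)) (tt N22236 (iv F246845)) (tt N22902 (iv F249759)) (tt N22885 (iv F249697)) (tt N21384 F242713) (tt N19617 F242714))
theorem Q21386 : ∀ i, i < 21386 → P i := stepQ 21385 Q21385 (allL N21385 (tt N22889 (iv F249712)) (tt N21757 (iv F244015)) (tt N22306 (iv F247178)) (tt N22903 D55673) (tt N19602 F242715) (tt N22888 (iv F249709)) (tt N22695 (iv F248949)) (tt N19608 F242716) (tt N19601 (iv D54155)) (tt N22687 (iv F248911)))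
theorem Q21387 : ∀ i, i < 21387 → P i := stepQ 21386 Q21386 (allL N21386 (tt N22266 (iv F246991)) (tt N22291 (iv F247100)) (tt N19755 F242717) (tt N19604 F242718) (tt N21386 F242719) (tt N19603 (iv D54156)) (tt N22176 (iv F246532)) (tt N22302 (iv F247159)) (tt N22904 D55674) (tt N22905 D55675))
theorem Q21388 : ∀ i, i < 21388 → P i := stepQ 21387 Q21387 (allL N21387 (tt N22119 (iv F246219)) (tt N22292 (iv F247106)) (tt N19748 F242720) (tt N22897 (iv F249744)) (tt N19618 F242721) (tt N22904 (iv F249767)) (tt N19745 F242722) (tt N22303 (iv F247164)) (tt N19603 (iv D54157)) (tt N22906 D55676))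
theorem Q21389 : ∀ i, i < 21389 → P i := stepQ 21388 Q21388 (allL N21388 (tt N22376 (iv F247478)) (tt N22293 (iv F247111)) (tt N19756 F242723) (tt N19605 F242724) (tt N19619 F242725) (tt N22905 (iv F249772)) (tt N22149 (iv F246383)) (tt N22304 (iv F247170)) (tt N22907 D55677) (tt N19603 (iv D54158)))
theorem Q21390 : ∀ i, i < 21390 → P i := stepQ 21389 Q21389 (allL N21389 (tt N22267 (iv F246998)) (tt N22294 (iv F247116)) (tt N19607 F242726) (tt N22905 (iv F249770)) (tt N19609 F242727) (tt N19605 F242728) (tt N22177 (iv F246538)) (tt N22305 (iv F247176)) (tt N22908 D55678) (tt N19604 (iv D54159)))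
theorem Q21391 : ∀ i, i < 21391 → P i := stepQ 21390 Q21390 (allL N21390 (tt N22890 (iv F249718)) (tt N22295 (iv F247121)) (tt N19608 F242729) (tt N22909 D55679) (tt N19606 F242730) (tt N22908 (iv F249780)) (tt N22150 (iv F246387)) (tt N22306 (iv F247181)) (tt N19605 (iv D54160)) (tt N22899 (iv F249751)))
theorem Q21392 : ∀ i, i < 21392 → P i := stepQ 21391 Q21391 (allL N21391 (tt N22891 (iv F249721)) (tt N22296 (iv F247125)) (tt N19677 F242731) (tt N19606 (iv D54161)) (tt N22910 D55680) (tt N19611 F242732) (tt N22151 (iv F246390)) (tt N22307 (iv F247186)) (tt N19621 F242733) (tt N22900 (iv F249755)))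
theorem Q21393 : ∀ i, i < 21393 → P i := stepQ 21392 Q21392 (allL N21392 (tt N22687 (iv F248906)) (tt N19637 F242734) (tt N22908 (iv F249778)) (tt N22911 D55681) (tt N19612 F242735) (tt N19608 F242736) (tt N22179 (iv F246546)) (tt N22888 (iv F249710)) (tt N19607 (iv D54162)) (tt N22889 (iv F249717)))
theorem Q21394 : ∀ i, i < 21394 → P i := stepQ 21393 Q21393 (allL N21393 (tt N22892 (iv F249725)) (tt N22686 (iv F248902)) (tt N22912 D55682) (tt N19608 (iv D54163)) (tt N19681 F242737) (tt N22911 (iv F249784)) (tt N22154 (iv F246402)) (tt N22903 (iv F249763)) (tt N19760 F242738) (tt N22901 (iv F249757)))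
theorem Q21395 : ∀ i, i < 21395 → P i := stepQ 21394 Q21394 (allL N21394 (tt N22268 (iv F247005)) (tt N22320 (iv F247222)) (tt N19612 F242739) (tt N22913 D55683) (tt N22908 (iv F249779)) (tt N19610 F242740) (tt N22178 (iv F246542)) (tt N22323 (iv F247238)) (tt N19609 (iv D54164)) (tt N22301 (iv F247153)))
theorem Q21396 : ∀ i, i < 21396 → P i := stepQ 21395 Q21395 (allL N21395 (tt N22280 (iv F247054)) (tt N22321 (iv F247226)) (tt N21753 (iv F243989)) (tt N19610 (iv D54165)) (tt N22914 D55684) (tt N22913 (iv F249788)) (tt N19616 F242741) (tt N22324 (iv F247244)) (tt N21395 F242742) (tt N21765 (iv F244068)))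
theorem Q21397 : ∀ i, i < 21397 → P i := stepQ 21396 Q21396 (allL N21396 (tt N22893 (iv F249728)) (tt N22233 (iv F246823)) (tt N19691 F242743) (tt N22914 (iv F249790)) (tt N19611 (iv D54166)) (tt N22915 D55685) (tt N19617 F242744) (tt N22325 (iv F247250)) (tt N19622 F242745) (tt N22902 (iv F249761)))
theorem Q21398 : ∀ i, i < 21398 → P i := stepQ 21397 Q21397 (allL N21397 (tt N22208 (iv F246706)) (tt N19616 F242746) (tt N22237 (iv F246851)) (tt N19614 (iv D54167)) (tt N22236 F246848) (tt N22140 F246330) (tt N22321 (iv F247227)) (tt N22081 (iv F245982)) (tt N21397 F242747) (tt N21769 (iv F244096)))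
theorem Q21399 : ∀ i, i < 21399 → P i := stepQ 21398 Q21398 (allL N21398 (tt N22287 (iv F247082)) (tt N22236 (iv F246843)) (tt N21718 (iv F243738)) (tt N19617 F242748) (tt N19616 (iv D54168)) (tt N22210 (iv F246724)) (tt N22914 (iv F249791)) (tt N22886 (iv F249701)) (tt N21398 F242749) (tt N21739 (iv F243889)))
theorem Q21400 : ∀ i, i < 21400 → P i := stepQ 21399 Q21399 (allL N21399 (tt N22235 (iv F246835)) (tt N21739 (iv F243884)) (tt N19702 F242750) (tt N22210 (iv F246722)) (tt N21769 (iv F244093)) (tt N19617 (iv D54169)) (tt N22916 D55686) (tt N22887 (iv F249704)) (tt N19623 F242751) (tt N22236 (iv F246847)))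
theorem Q21401 : ∀ i, i < 21401 → P i := stepQ 21400 Q21400 (allL N21400 (tt N22120 (iv F246223)) (tt N22343 (iv F247311)) (tt N19766 F242752) (tt N21400 F242753) (tt N22906 (iv F249774)) (tt N21400 F242754) (tt N19764 F242755) (tt N22349 (iv F247348)) (tt N22917 D55687) (tt N19618 (iv D54170)))
theorem Q21402 : ∀ i, i < 21402 → P i := stepQ 21401 Q21401 (allL N21401 (tt N22377 (iv F247483)) (tt N22344 (iv F247317)) (tt N19775 F242756) (tt N22918 D55688) (tt N22907 (iv F249777)) (tt N21401 F242757) (tt N22166 (iv F246473)) (tt N22350 (iv F247353)) (tt N19619 (iv D54171)) (tt N22917 (iv F249800)))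
theorem Q21403 : ∀ i, i < 21403 → P i := stepQ 21402 Q21402 (allL N21402 (tt N22411 (iv F247647)) (tt N22345 (iv F247321)) (tt N22669 (iv F248805)) (tt N19620 (iv D54172)) (tt N22919 D55689) (tt N21402 F242758) (tt N22167 (iv F246479)) (tt N22351 (iv F247358)) (tt N22918 (iv F249802)) (tt N21402 F242759))
theorem Q21404 : ∀ i, i < 21404 → P i := stepQ 21403 Q21403 (allL N21403 (tt N22895 (iv F249737)) (tt N22346 (iv F247325)) (tt N19713 F242760) (tt N22919 (iv F249803)) (tt N19621 (iv D54173)) (tt N22920 D55690) (tt N22168 (iv F246483)) (tt N22352 (iv F247363)) (tt N22910 (iv F249782)) (tt N21403 F242761))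
theorem Q21405 : ∀ i, i < 21405 → P i := stepQ 21404 Q21404 (allL N21404 (tt N22896 (iv F249740)) (tt N22239 (iv F246865)) (tt N19718 F242762) (tt N21404 F242763) (tt N22920 (iv F249806)) (tt N19622 (iv D54174)) (tt N22921 D55691) (tt N22339 (iv F247297)) (tt N22915 (iv F249794)) (tt N21404 F242764))
theorem Q21406 : ∀ i, i < 21406 → P i := stepQ 21405 Q21405 (allL N21405 (tt N22244 (iv F246888)) (tt N21741 (iv F243897)) (tt N19719 F242765) (tt N21405 F242766) (tt N21773 (iv F244118)) (tt N22921 (iv F249810)) (tt N19623 (iv D54175)) (tt N22243 (iv F246885)) (tt N22916 (iv F249796)) (tt N21405 F242767))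
theorem Q21407 : ∀ i, i < 21407 → P i := stepQ 21406 Q21406 (allL N21406 (tt N19647 F242768) (tt N22248 (iv F246911)) (tt N22742 (iv F249154)) (tt N19624 (iv D54176)) (tt N21406 F242769) (tt N19873 F242770) (tt N22195 (iv F246639)) (tt N19863 F242771) (tt N21912 (iv F245002)) (tt N22922 D55692))
theorem Q21408 : ∀ i, i < 21408 → P i := stepQ 21407 Q21407 (allL N21407 (tt N19648 F242772) (tt N22264 (iv F246984)) (tt N19626 F242773) (tt N22922 (iv F249813)) (tt N19625 F242774) (tt N21747 (iv F243949)) (tt N22197 (iv F246653)) (tt N21749 (iv F243967)) (tt N22923 D55693) (tt N19624 (iv D54177)))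
theorem Q21409 : ∀ i, i < 21409 → P i := stepQ 21408 Q21408 (allL N21408 (tt N19649 F242775) (tt N22278 (iv F247045)) (tt N19627 F242776) (tt N22924 D55694) (tt N22923 (iv F249819)) (tt N19628 F242777) (tt N22198 (iv F246657)) (tt N21752 (iv F243985)) (tt N19625 (iv D54178)) (tt N19636 F242778))
theorem Q21410 : ∀ i, i < 21410 → P i := stepQ 21409 Q21409 (allL N21409 (tt N19650 F242779) (tt N22889 (iv F249713)) (tt N22923 (iv F249818)) (tt N22925 D55695) (tt N19627 F242780) (tt N22685 (iv F248898)) (tt N22200 (iv F246664)) (tt N22688 (iv F248916)) (tt N19626 (iv D54179)) (tt N19637 F242781))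
theorem Q21411 : ∀ i, i < 21411 → P i := stepQ 21410 Q21410 (allL N21410 (tt N19652 F242782) (tt N22279 (iv F247049)) (tt N22324 (iv F247242)) (tt N19628 (iv D54180)) (tt N22337 (iv F247285)) (tt N22924 (iv F249822)) (tt N19630 F242783) (tt N21753 (iv F243991)) (tt N21410 F242784) (tt N19638 F242785))
theorem Q21412 : ∀ i, i < 21412 → P i := stepQ 21411 Q21411 (allL N21411 (tt N22140 (iv F246324)) (tt N19630 F242786) (tt N22209 (iv F246715)) (tt N19629 (iv D54181)) (tt N22104 (iv F246125)) (tt N22208 (iv F246710)) (tt N22279 (iv F247050)) (tt N22074 (iv F245944)) (tt N21411 F242787) (tt N19640 F242788))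
theorem Q21413 : ∀ i, i < 21413 → P i := stepQ 21412 Q21412 (allL N21412 (tt N19659 F242789) (tt N22098 (iv F246084)) (tt N21759 (iv F244032)) (tt N19786 F242790) (tt N19632 F242791) (tt N22698 (iv F248967)) (tt N19633 F242792) (tt N22211 (iv F246731)) (tt N22926 D55696) (tt N19631 (iv D54182)))
theorem Q21414 : ∀ i, i < 21414 → P i := stepQ 21413 Q21413 (allL N21413 (tt N19660 F242793) (tt N22099 (iv F246089)) (tt N21763 (iv F244055)) (tt N22171 (iv F246500)) (tt N22926 (iv F249828)) (tt N21766 (iv F244074)) (tt N19634 F242794) (tt N22212 (iv F246734)) (tt N19632 (iv D54183)) (tt N22091 (iv F246039)))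
theorem Q21415 : ∀ i, i < 21415 → P i := stepQ 21414 Q21414 (allL N21414 (tt N19665 F242795) (tt N22888 (iv F249707)) (tt N21760 (iv F244039)) (tt N22927 D55697) (tt N19634 F242796) (tt N21757 (iv F244018)) (tt N22926 (iv F249829)) (tt N19637 F242797) (tt N19633 (iv D54184)) (tt N22688 (iv F248917)))
theorem Q21416 : ∀ i, i < 21416 → P i := stepQ 21415 Q21415 (allL N21415 (tt N19676 F242798) (tt N22297 (iv F247129)) (tt N19637 F242799) (tt N22928 D55698) (tt N19636 F242800) (tt N21756 (iv F244012)) (tt N22222 (iv F246781)) (tt N21760 (iv F244042)) (tt N19635 (iv D54185)) (tt N22923 (iv F249820)))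
theorem Q21417 : ∀ i, i < 21417 → P i := stepQ 21416 Q21416 (allL N21416 (tt N19677 F242801) (tt N22322 (iv F247230)) (tt N22891 (iv F249722)) (tt N19636 (iv D54186)) (tt N22929 D55699) (tt N19638 F242802) (tt N22223 (iv F246784)) (tt N21764 (iv F244061)) (tt N19643 F242803) (tt N22924 (iv F249824)))
theorem Q21418 : ∀ i, i < 21418 → P i := stepQ 21417 Q21417 (allL N21417 (tt N19681 F242804) (tt N22911 (iv F249783)) (tt N22930 D55700) (tt N19637 (iv D54187)) (tt N22892 (iv F249726)) (tt N22686 (iv F248904)) (tt N22225 (iv F246790)) (tt N22927 (iv F249831)) (tt N19801 F242805) (tt N22925 (iv F249826)))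
theorem Q21419 : ∀ i, i < 21419 → P i := stepQ 21418 Q21418 (allL N21418 (tt N19691 F242806) (tt N22114 (iv F246186)) (tt N22893 (iv F249729)) (tt N21728 (iv F243809)) (tt N19638 (iv D54188)) (tt N22931 D55701) (tt N19641 F242807) (tt N21736 (iv F243865)) (tt N19644 F242808) (tt N22337 (iv F247288)))
theorem Q21420 : ∀ i, i < 21420 → P i := stepQ 21419 Q21419 (allL N21419 (tt N19713 F242809) (tt N22338 (iv F247289)) (tt N22895 (iv F249738)) (tt N22018 (iv F245585)) (tt N19643 (iv D54189)) (tt N22932 D55702) (tt N22242 (iv F246879)) (tt N21772 (iv F244113)) (tt N22929 (iv F249835)) (tt N21419 F242810))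
theorem Q21421 : ∀ i, i < 21421 → P i := stepQ 21420 Q21420 (allL N21420 (tt N19718 F242811) (tt N22118 (iv F246213)) (tt N22896 (iv F249741)) (tt N19951 F242812) (tt N22932 (iv F249841)) (tt N19644 (iv D54190)) (tt N22894 (iv F249735)) (tt N21740 (iv F243894)) (tt N22931 (iv F249839)) (tt N21420 F242813))
theorem Q21422 : ∀ i, i < 21422 → P i := stepQ 21421 Q21421 (allL N21421 (tt N22177 (iv F246535)) (tt N19648 F242814) (tt N21742 (iv F243905)) (tt N22392 (iv F247565)) (tt N19646 F242815) (tt N22144 (iv F246356)) (tt N22267 (iv F247003)) (tt N22694 (iv F248945)) (tt N22933 D55703) (tt N19645 (iv D54191)))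
theorem Q21423 : ∀ i, i < 21423 → P i := stepQ 21422 Q21422 (allL N21422 (tt N22178 (iv F246539)) (tt N19649 F242816) (tt N21743 (iv F243913)) (tt N22934 D55704) (tt N22933 (iv F249844)) (tt N19651 F242817) (tt N22268 (iv F247009)) (tt N22704 (iv F248987)) (tt N19646 (iv D54192)) (tt N19671 F242818))
theorem Q21424 : ∀ i, i < 21424 → P i := stepQ 21423 Q21423 (allL N21423 (tt N21912 (iv F244997)) (tt N22380 (iv F247495)) (tt N22823 (iv F249499)) (tt N19672 F242819) (tt N21423 F242820) (tt N21782 F244178) (tt N22269 (iv F247014)) (tt N21876 (iv F244770)) (tt N19647 (iv D54193)) (tt N22935 D55705))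
theorem Q21425 : ∀ i, i < 21425 → P i := stepQ 21424 Q21424 (allL N21424 (tt N22922 (iv F249812)) (tt N22392 (iv F247564)) (tt N22824 (iv F249504)) (tt N19648 F242821) (tt N21424 F242822) (tt N21803 (iv F244310)) (tt N22270 (iv F247017)) (tt N22696 (iv F248957)) (tt N22936 D55706) (tt N19647 (iv D54194)))
theorem Q21426 : ∀ i, i < 21426 → P i := stepQ 21425 Q21425 (allL N21425 (tt N22923 (iv F249817)) (tt N22933 (iv F249843)) (tt N19650 F242823) (tt N22937 D55707) (tt N19649 F242824) (tt N22692 (iv F248932)) (tt N22272 (iv F247024)) (tt N22699 (iv F248972)) (tt N19648 (iv D54195)) (tt N19676 F242825))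
theorem Q21427 : ∀ i, i < 21427 → P i := stepQ 21426 Q21426 (allL N21426 (tt N22924 (iv F249821)) (tt N22934 (iv F249846)) (tt N22900 (iv F249752)) (tt N19649 (iv D54196)) (tt N22938 D55708) (tt N19652 F242826) (tt N22273 (iv F247027)) (tt N22707 (iv F248999)) (tt N21426 F242827) (tt N19677 F242828))
theorem Q21428 : ∀ i, i < 21428 → P i := stepQ 21427 Q21427 (allL N21427 (tt N22925 (iv F249825)) (tt N22690 (iv F248921)) (tt N22939 D55709) (tt N19650 (iv D54197)) (tt N22901 (iv F249756)) (tt N22693 (iv F248936)) (tt N22276 (iv F247038)) (tt N22702 (iv F248980)) (tt N22830 (iv F249524)) (tt N19681 F242829))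
theorem Q21429 : ∀ i, i < 21429 → P i := stepQ 21428 Q21428 (allL N21428 (tt N22181 (iv F246554)) (tt N19652 F242830) (tt N22708 (iv F249002)) (tt N19651 (iv D54198)) (tt N22940 D55710) (tt N22934 (iv F249847)) (tt N19654 F242831) (tt N22705 (iv F248991)) (tt N21428 F242832) (tt N19687 F242833))
theorem Q21430 : ∀ i, i < 21430 → P i := stepQ 21429 Q21429 (allL N21429 (tt N22337 (iv F247284)) (tt N22940 (iv F249857)) (tt N22902 (iv F249758)) (tt N21734 F243856) (tt N19652 (iv D54199)) (tt N22941 D55711) (tt N19655 F242834) (tt N22288 (iv F247091)) (tt N21429 F242835) (tt N19691 F242836))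
theorem Q21431 : ∀ i, i < 21431 → P i := stepQ 21430 Q21430 (allL N21430 (tt N22139 (iv F246317)) (tt N19655 F242837) (tt N22142 (iv F246340)) (tt N21738 F243882) (tt N19654 (iv D54200)) (tt N22143 (iv F246348)) (tt N22940 (iv F249858)) (tt N22080 (iv F245977)) (tt N21430 F242838) (tt N19699 F242839))
theorem Q21432 : ∀ i, i < 21432 → P i := stepQ 21431 Q21431 (allL N21431 (tt N21759 (iv F244030)) (tt N22112 (iv F246175)) (tt N19659 F242840) (tt N21896 (iv F244900)) (tt N19657 F242841) (tt N22090 (iv F246032)) (tt N19663 F242842) (tt N22147 (iv F246372)) (tt N22942 D55712) (tt N19656 (iv D54201)))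
theorem Q21433 : ∀ i, i < 21433 → P i := stepQ 21432 Q21432 (allL N21432 (tt N21763 (iv F244053)) (tt N22115 (iv F246193)) (tt N19660 F242843) (tt N22943 D55713) (tt N22942 (iv F249864)) (tt N21746 (iv F243940)) (tt N19664 F242844) (tt N22148 (iv F246377)) (tt N19657 (iv D54202)) (tt N22706 (iv F248997)))
theorem Q21434 : ∀ i, i < 21434 → P i := stepQ 21433 Q21433 (allL N21433 (tt N22698 (iv F248963)) (tt N22274 (iv F247030)) (tt N22090 (iv F246029)) (tt N19864 F242845) (tt N21751 (iv F243978)) (tt N19659 F242846) (tt N21749 (iv F243966)) (tt N22289 (iv F247096)) (tt N22944 D55714) (tt N19658 (iv D54203)))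
theorem Q21435 : ∀ i, i < 21435 → P i := stepQ 21434 Q21434 (allL N21434 (tt N22926 (iv F249827)) (tt N22691 (iv F248926)) (tt N22942 (iv F249863)) (tt N22945 D55715) (tt N19660 F242847) (tt N22944 (iv F249870)) (tt N19665 F242848) (tt N22290 (iv F247099)) (tt N19659 (iv D54204)) (tt N22701 (iv F248977)))
theorem Q21436 : ∀ i, i < 21436 → P i := stepQ 21435 Q21435 (allL N21435 (tt N22152 (iv F246392)) (tt N19663 F242849) (tt N22144 (iv F246353)) (tt N21869 (iv F244719)) (tt N19662 F242850) (tt N21742 (iv F243908)) (tt N22112 (iv F246180)) (tt N19670 F242851) (tt N22946 D55716) (tt N19661 (iv D54205)))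
theorem Q21437 : ∀ i, i < 21437 → P i := stepQ 21436 Q21436 (allL N21436 (tt N22157 (iv F246418)) (tt N19664 F242852) (tt N22145 (iv F246360)) (tt N22947 D55717) (tt N22946 (iv F249874)) (tt N19682 F242853) (tt N22115 (iv F246196)) (tt N19671 F242854) (tt N19662 (iv D54206)) (tt N22704 (iv F248988)))
theorem Q21438 : ∀ i, i < 21438 → P i := stepQ 21437 Q21437 (allL N21437 (tt N21760 (iv F244037)) (tt N22946 (iv F249873)) (tt N19665 F242855) (tt N22948 D55718) (tt N19664 F242856) (tt N21745 (iv F243931)) (tt N22942 (iv F249865)) (tt N19676 F242857) (tt N19663 (iv D54207)) (tt N22699 (iv F248973)))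
theorem Q21439 : ∀ i, i < 21439 → P i := stepQ 21438 Q21438 (allL N21438 (tt N21764 (iv F244058)) (tt N22947 (iv F249876)) (tt N22307 (iv F247183)) (tt N19664 (iv D54208)) (tt N22949 D55719) (tt N19683 F242858) (tt N22943 (iv F249868)) (tt N19677 F242859) (tt N19705 F242860) (tt N22707 (iv F249001)))
theorem Q21440 : ∀ i, i < 21440 → P i := stepQ 21439 Q21439 (allL N21439 (tt N22927 (iv F249830)) (tt N22693 (iv F248935)) (tt N22950 D55720) (tt N19665 (iv D54209)) (tt N22903 (iv F249762)) (tt N22690 (iv F248922)) (tt N22945 (iv F249871)) (tt N19681 F242861) (tt N19876 F242862) (tt N22702 (iv F248982)))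
theorem Q21441 : ∀ i, i < 21441 → P i := stepQ 21440 Q21440 (allL N21440 (tt N19670 F242863) (tt N22216 (iv F246752)) (tt N22170 (iv F246493)) (tt N22401 (iv F247612)) (tt N19667 F242864) (tt N22172 (iv F246508)) (tt N22300 (iv F247146)) (tt N22152 (iv F246398)) (tt N22951 D55721) (tt N19666 (iv D54210)))
theorem Q21442 : ∀ i, i < 21442 → P i := stepQ 21441 Q21441 (allL N21441 (tt N19671 F242865) (tt N22226 (iv F246793)) (tt N22171 (iv F246499)) (tt N22952 D55722) (tt N22951 (iv F249886)) (tt N19684 F242866) (tt N22301 (iv F247151)) (tt N22157 (iv F246422)) (tt N19667 (iv D54211)) (tt N22178 (iv F246543)))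
theorem Q21443 : ∀ i, i < 21443 → P i := stepQ 21442 Q21442 (allL N21442 (tt N22401 (iv F247610)) (tt N19673 F242867) (tt N22416 (iv F247669)) (tt N19670 F242868) (tt N19707 F242869) (tt N21864 (iv F244689)) (tt N22304 (iv F247169)) (tt N21869 (iv F244723)) (tt N22953 D55723) (tt N19668 (iv D54212)))
theorem Q21444 : ∀ i, i < 21444 → P i := stepQ 21443 Q21443 (allL N21443 (tt N22172 (iv F246504)) (tt N19675 F242870) (tt N22694 (iv F248941)) (tt N21864 (iv F244687)) (tt N19685 F242871) (tt N19670 F242872) (tt N22124 (iv F246247)) (tt N21742 (iv F243910)) (tt N22954 D55724) (tt N19669 (iv D54213)))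
theorem Q21445 : ∀ i, i < 21445 → P i := stepQ 21444 Q21444 (allL N21444 (tt N22951 (iv F249885)) (tt N19676 F242873) (tt N22695 (iv F248947)) (tt N22955 D55725) (tt N19671 F242874) (tt N22954 (iv F249894)) (tt N22306 (iv F247180)) (tt N22946 (iv F249875)) (tt N19670 (iv D54214)) (tt N22933 (iv F249845)))
theorem Q21446 : ∀ i, i < 21446 → P i := stepQ 21445 Q21445 (allL N21445 (tt N22952 (iv F249887)) (tt N19677 F242875) (tt N22943 (iv F249866)) (tt N19671 (iv D54215)) (tt N22956 D55726) (tt N19687 F242876) (tt N22307 (iv F247185)) (tt N22947 (iv F249878)) (tt N19709 F242877) (tt N22934 (iv F249849)))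
theorem Q21447 : ∀ i, i < 21447 → P i := stepQ 21446 Q21446 (allL N21446 (tt N21933 (iv F245107)) (tt N22421 (iv F247694)) (tt N19889 F242878) (tt N22935 (iv F249850)) (tt N19710 F242879) (tt N21879 (iv F244788)) (tt N22310 (iv F247197)) (tt N21884 (iv F244824)) (tt N22957 D55727) (tt N19672 (iv D54216)))
theorem Q21448 : ∀ i, i < 21448 → P i := stepQ 21447 Q21447 (allL N21447 (tt N21973 (iv F245342)) (tt N22953 (iv F249890)) (tt N19890 F242880) (tt N22958 D55728) (tt N19711 F242881) (tt N21892 (iv F244873)) (tt N22311 (iv F247200)) (tt N21897 (iv F244908)) (tt N19673 (iv D54217)) (tt N22957 (iv F249900)))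
theorem Q21449 : ∀ i, i < 21449 → P i := stepQ 21448 Q21448 (allL N21448 (tt N21723 (iv F243774)) (tt N22124 (iv F246245)) (tt N19679 F242882) (tt N21890 (iv F244860)) (tt N19688 F242883) (tt N22312 (iv F247203)) (tt N19675 F242884) (tt N21714 (iv F243713)) (tt N22959 D55729) (tt N19674 (iv D54218)))
theorem Q21450 : ∀ i, i < 21450 → P i := stepQ 21449 Q21449 (allL N21449 (tt N21756 (iv F244008)) (tt N22954 (iv F249892)) (tt N19680 F242885) (tt N22960 D55730) (tt N19689 F242886) (tt N19676 F242887) (tt N22959 (iv F249904)) (tt N21745 (iv F243933)) (tt N19675 (iv D54219)) (tt N22692 (iv F248934)))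
theorem Q21451 : ∀ i, i < 21451 → P i := stepQ 21450 Q21450 (allL N21450 (tt N22928 (iv F249833)) (tt N22955 (iv F249895)) (tt N22961 D55731) (tt N19676 (iv D54220)) (tt N22962 D55732) (tt N22960 (iv F249905)) (tt N22314 (iv F247208)) (tt N22948 (iv F249880)) (tt N22958 (iv F249901)) (tt N22937 (iv F249853)))
theorem Q21452 : ∀ i, i < 21452 → P i := stepQ 21451 Q21451 (allL N21451 (tt N22929 (iv F249834)) (tt N22956 (iv F249896)) (tt N22910 (iv F249781)) (tt N22962 (iv F249907)) (tt N19677 (iv D54221)) (tt N22963 D55733) (tt N22315 (iv F247209)) (tt N22949 (iv F249881)) (tt N19713 F242888) (tt N22938 (iv F249855)))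
theorem Q21453 : ∀ i, i < 21453 → P i := stepQ 21452 Q21452 (allL N21452 (tt N21720 (iv F243751)) (tt N22259 (iv F246958)) (tt N21714 (iv F243709)) (tt N19896 F242889) (tt N19692 F242890) (tt N22316 (iv F247213)) (tt N21747 (iv F243950)) (tt N19679 F242891) (tt N22964 D55734) (tt N19678 (iv D54222)))
theorem Q21454 : ∀ i, i < 21454 → P i := stepQ 21453 Q21453 (allL N21453 (tt N21726 (iv F243795)) (tt N22701 (iv F248974)) (tt N22959 (iv F249902)) (tt N22965 D55735) (tt N19693 F242892) (tt N22317 (iv F247216)) (tt N19680 F242893) (tt N22964 (iv F249911)) (tt N19679 (iv D54223)) (tt N22691 (iv F248929)))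
theorem Q21455 : ∀ i, i < 21455 → P i := stepQ 21454 Q21454 (allL N21454 (tt N22686 (iv F248901)) (tt N22702 (iv F248978)) (tt N22966 D55736) (tt N19680 (iv D54224)) (tt N22689 (iv F248919)) (tt N19681 F242894) (tt N22965 (iv F249912)) (tt N22690 (iv F248923)) (tt N19898 F242895) (tt N22693 (iv F248939)))
theorem Q21456 : ∀ i, i < 21456 → P i := stepQ 21455 Q21455 (allL N21455 (tt N22930 (iv F249836)) (tt N22967 D55737) (tt N19681 (iv D54225)) (tt N22961 (iv F249906)) (tt N22912 (iv F249786)) (tt N22966 (iv F249914)) (tt N22319 (iv F247220)) (tt N22950 (iv F249883)) (tt N19899 F242896) (tt N22939 (iv F249856)))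
theorem Q21457 : ∀ i, i < 21457 → P i := stepQ 21456 Q21456 (allL N21456 (tt N22161 (iv F246439)) (tt N19683 F242897) (tt N22155 (iv F246406)) (tt N19682 (iv D54226)) (tt N21768 (iv F244086)) (tt N22947 (iv F249877)) (tt N21744 (iv F243924)) (tt N19687 F242898) (tt N19714 F242899) (tt N22705 (iv F248993)))
theorem Q21458 : ∀ i, i < 21458 → P i := stepQ 21457 Q21457 (allL N21457 (tt N19687 F242900) (tt N22156 (iv F246412)) (tt N21768 (iv F244085)) (tt N19684 (iv D54227)) (tt N22155 (iv F246407)) (tt N22952 (iv F249888)) (tt N19695 F242901) (tt N22161 (iv F246443)) (tt N19715 F242902) (tt N22181 (iv F246557)))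
theorem Q21459 : ∀ i, i < 21459 → P i := stepQ 21458 Q21458 (allL N21458 (tt N22173 (iv F246510)) (tt N19689 F242903) (tt N22704 (iv F248985)) (tt N22260 (iv F246964)) (tt N22954 (iv F249893)) (tt N19686 F242904) (tt N22125 (iv F246252)) (tt N21743 (iv F243917)) (tt N19685 (iv D54228)) (tt N22145 (iv F246365)))
theorem Q21460 : ∀ i, i < 21460 → P i := stepQ 21459 Q21459 (allL N21459 (tt N21768 (iv F244083)) (tt N22116 (iv F246199)) (tt N19687 (iv D54229)) (tt N21746 (iv F243938)) (tt N22161 (iv F246441)) (tt N22943 (iv F249867)) (tt N19698 F242905) (tt N22155 (iv F246409)) (tt N19716 F242906) (tt N22708 (iv F249005)))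
theorem Q21461 : ∀ i, i < 21461 → P i := stepQ 21460 Q21460 (allL N21460 (tt N22155 (iv F246404)) (tt N19691 F242907) (tt N22161 F246445) (tt N21767 (iv F244079)) (tt N19687 (iv D54230)) (tt N22968 D55738) (tt N19699 F242908) (tt N21768 (iv F244088)) (tt N19717 F242909) (tt N22940 (iv F249860)))
theorem Q21462 : ∀ i, i < 21462 → P i := stepQ 21461 Q21461 (allL N21461 (tt N21724 (iv F243781)) (tt N22125 (iv F246249)) (tt N19693 F242910) (tt N21748 (iv F243955)) (tt N22959 (iv F249903)) (tt N19700 F242911) (tt N19689 F242912) (tt N21715 (iv F243720)) (tt N19688 (iv D54231)) (tt N21721 (iv F243765)))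
theorem Q21463 : ∀ i, i < 21463 → P i := stepQ 21462 Q21462 (allL N21462 (tt N21721 (iv F243758)) (tt N22260 (iv F246963)) (tt N21715 (iv F243716)) (tt N19689 (iv D54232)) (tt N22964 (iv F249910)) (tt N19690 F242913) (tt N21748 (iv F243957)) (tt N19693 F242914) (tt N19692 F242915) (tt N21724 (iv F243788)))
theorem Q21464 : ∀ i, i < 21464 → P i := stepQ 21463 Q21463 (allL N21463 (tt N22931 (iv F249838)) (tt N22968 (iv F249917)) (tt N22915 (iv F249793)) (tt N22331 (iv F247264)) (tt N22963 (iv F249908)) (tt N19691 (iv D54233)) (tt N22969 D55739) (tt N22332 (iv F247269)) (tt N19718 F242916) (tt N22941 (iv F249862)))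
theorem Q21465 : ∀ i, i < 21465 → P i := stepQ 21464 Q21464 (allL N21464 (tt N22282 (iv F247065)) (tt N22159 F246431) (tt N22916 (iv F249795)) (tt N22204 (iv F246690)) (tt N22335 (iv F247274)) (tt N22969 (iv F249919)) (tt N19702 (iv D54234)) (tt N22228 (iv F246805)) (tt N19719 F242917) (tt N22230 (iv F246813)))
theorem Q21466 : ∀ i, i < 21466 → P i := stepQ 21465 Q21465 (allL N21465 (tt N21770 (iv F244097)) (tt N22117 (iv F246206)) (tt N19709 F242918) (tt N19703 (iv D54235)) (tt N22970 D55740) (tt N19716 F242919) (tt N19705 F242920) (tt N22165 (iv F246468)) (tt N22943 (iv F249869)) (tt N21465 F242921))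
theorem Q21467 : ∀ i, i < 21467 → P i := stepQ 21466 Q21466 (allL N21466 (tt N22162 (iv F246446)) (tt N19705 F242922) (tt N22165 (iv F246465)) (tt N19704 (iv D54236)) (tt N22971 D55741) (tt N19714 F242923) (tt N22117 (iv F246209)) (tt N19709 F242924) (tt N22947 (iv F249879)) (tt N21466 F242925))
theorem Q21468 : ∀ i, i < 21468 → P i := stepQ 21467 Q21467 (allL N21467 (tt N21772 (iv F244110)) (tt N22971 (iv F249924)) (tt N22352 (iv F247361)) (tt N21906 (iv F244960)) (tt N19705 (iv D54237)) (tt N22340 (iv F247300)) (tt N22970 (iv F249922)) (tt N19713 F242926) (tt N22949 (iv F249882)) (tt N21467 F242927))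
theorem Q21469 : ∀ i, i < 21469 → P i := stepQ 21468 Q21468 (allL N21468 (tt N19709 F242928) (tt N22169 (iv F246486)) (tt N21770 (iv F244099)) (tt N19706 (iv D54238)) (tt N22972 D55742) (tt N19715 F242929) (tt N21771 (iv F244107)) (tt N22162 (iv F246451)) (tt N22952 (iv F249889)) (tt N21468 F242930))
theorem Q21470 : ∀ i, i < 21470 → P i := stepQ 21469 Q21469 (allL N21469 (tt N22406 (iv F247627)) (tt N19711 F242931) (tt N22417 (iv F247675)) (tt N22973 D55743) (tt N22953 (iv F249891)) (tt N19952 F242932) (tt N22350 (iv F247352)) (tt N21873 (iv F244747)) (tt N19707 (iv D54239)) (tt N22422 (iv F247702)))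
theorem Q21471 : ∀ i, i < 21471 → P i := stepQ 21470 Q21470 (allL N21470 (tt N22413 (iv F247656)) (tt N19712 F242933) (tt N22033 (iv F245668)) (tt N19708 (iv D54240)) (tt N22974 D55744) (tt N19953 F242934) (tt N22351 (iv F247357)) (tt N21875 (iv F244762)) (tt N22973 (iv F249931)) (tt N21470 F242935))
theorem Q21472 : ∀ i, i < 21472 → P i := stepQ 21471 Q21471 (allL N21471 (tt N22972 (iv F249927)) (tt N19713 F242936) (tt N22970 (iv F249921)) (tt N22974 (iv F249933)) (tt N19709 (iv D54241)) (tt N22975 D55745) (tt N22352 (iv F247362)) (tt N22971 (iv F249925)) (tt N22956 (iv F249897)) (tt N21471 F242937))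
theorem Q21473 : ∀ i, i < 21473 → P i := stepQ 21472 Q21472 (allL N21472 (tt N21951 (iv F245211)) (tt N22422 (iv F247698)) (tt N19927 F242938) (tt N22976 D55746) (tt N22957 (iv F249899)) (tt N19954 F242939) (tt N22353 (iv F247367)) (tt N21887 (iv F244842)) (tt N19710 (iv D54242)) (tt N19711 F242940))
theorem Q21474 : ∀ i, i < 21474 → P i := stepQ 21473 Q21473 (allL N21473 (tt N21999 (iv F245475)) (tt N22973 (iv F249929)) (tt N22822 (iv F249495)) (tt N19711 (iv D54243)) (tt N22977 D55747) (tt N19955 F242941) (tt N22354 (iv F247370)) (tt N21901 (iv F244928)) (tt N19712 F242942) (tt N22976 (iv F249940)))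
theorem Q21475 : ∀ i, i < 21475 → P i := stepQ 21474 Q21474 (allL N21474 (tt N22018 (iv F245583)) (tt N22974 (iv F249932)) (tt N22872 (iv F249658)) (tt N19713 F242943) (tt N19712 (iv D54244)) (tt N22658 (iv F248752)) (tt N22356 (iv F247379)) (tt N21906 (iv F244962)) (tt N22977 (iv F249941)) (tt N21474 F242944))
theorem Q21476 : ∀ i, i < 21476 → P i := stepQ 21475 Q21475 (allL N21475 (tt N22932 (iv F249840)) (tt N22975 (iv F249935)) (tt N22920 (iv F249805)) (tt N22658 (iv F248751)) (tt N19718 F242945) (tt N19713 (iv D54245)) (tt N22978 D55748) (tt N22340 (iv F247302)) (tt N22963 (iv F249909)) (tt N21475 F242946))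
theorem Q21477 : ∀ i, i < 21477 → P i := stepQ 21476 Q21476 (allL N21476 (tt N22165 (iv F246463)) (tt N19718 F242947) (tt N22162 (iv F246448)) (tt N19956 F242948) (tt N22975 (iv F249936)) (tt N19717 (iv D54246)) (tt N22163 (iv F246456)) (tt N21770 (iv F244102)) (tt N22968 (iv F249918)) (tt N21476 F242949))
theorem Q21478 : ∀ i, i < 21478 → P i := stepQ 21477 Q21477 (allL N21477 (tt N22894 (iv F249732)) (tt N22163 F246459) (tt N22921 (iv F249808)) (tt N19957 F242950) (tt N22978 (iv F249942)) (tt N19719 F242951) (tt N19718 (iv D54247)) (tt N22241 (iv F246876)) (tt N22969 (iv F249920)) (tt N21477 F242952))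
theorem Q21479 : ∀ i, i < 21479 → P i := stepQ 21478 Q21478 (allL N21478 (tt N19739 F242953) (tt N22186 (iv F246586)) (tt N22380 (iv F247496)) (tt N22131 (iv F246285)) (tt N21478 F242954) (tt N19722 (iv D54248)) (tt N22121 (iv F246232)) (tt N22176 (iv F246533)) (tt N21866 F244703) (tt N22979 D55749))
theorem Q21480 : ∀ i, i < 21480 → P i := stepQ 21479 Q21479 (allL N21479 (tt N19740 F242955) (tt N22187 (iv F246592)) (tt N22381 (iv F247502)) (tt N22170 (iv F246494)) (tt N19723 F242956) (tt N22979 (iv F249946)) (tt N19724 F242957) (tt N22365 (iv F247429)) (tt N22980 D55750) (tt N19722 (iv D54249)))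
theorem Q21481 : ∀ i, i < 21481 → P i := stepQ 21480 Q21480 (allL N21480 (tt N19741 F242958) (tt N22188 (iv F246597)) (tt N22382 (iv F247507)) (tt N19787 F242959) (tt N22980 (iv F249948)) (tt N21480 F242960) (tt N19725 F242961) (tt N22366 (iv F247435)) (tt N19723 (iv D54250)) (tt N22391 (iv F247563)))
theorem Q21482 : ∀ i, i < 21482 → P i := stepQ 21481 Q21481 (allL N21481 (tt N19750 F242962) (tt N22747 (iv F249179)) (tt N22384 (iv F247519)) (tt N22981 D55751) (tt N19725 F242963) (tt N22727 (iv F249091)) (tt N22980 (iv F249949)) (tt N19726 F242964) (tt N19724 (iv D54251)) (tt N22394 (iv F247578)))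
theorem Q21483 : ∀ i, i < 21483 → P i := stepQ 21482 Q21482 (allL N21482 (tt N19760 F242965) (tt N22757 (iv F249217)) (tt N22982 D55752) (tt N19726 (iv D54252)) (tt N19801 F242966) (tt N22728 (iv F249097)) (tt N22369 (iv F247449)) (tt N22981 (iv F249952)) (tt N22892 (iv F249727)) (tt N22400 (iv F247609)))
theorem Q21484 : ∀ i, i < 21484 → P i := stepQ 21483 Q21483 (allL N21483 (tt N22398 (iv F247592)) (tt N22711 (iv F249017)) (tt N22395 (iv F247579)) (tt N22983 D55753) (tt N19728 F242967) (tt N22394 (iv F247576)) (tt N22379 (iv F247493)) (tt N22399 (iv F247604)) (tt N19727 (iv D54253)) (tt N22727 (iv F249093)))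
theorem Q21485 : ∀ i, i < 21485 → P i := stepQ 21484 Q21484 (allL N21484 (tt N22390 (iv F247549)) (tt N21877 (iv F244773)) (tt N22365 (iv F247426)) (tt N21856 (iv F244634)) (tt N19730 F242968) (tt N22424 (iv F247708)) (tt N19731 F242969) (tt N22381 (iv F247505)) (tt N22984 D55754) (tt N19729 (iv D54254)))
theorem Q21486 : ∀ i, i < 21486 → P i := stepQ 21485 Q21485 (allL N21485 (tt N22391 (iv F247556)) (tt N21878 (iv F244779)) (tt N22366 (iv F247431)) (tt N19819 F242970) (tt N22984 (iv F249957)) (tt N21485 F242971) (tt N19732 F242972) (tt N22382 (iv F247511)) (tt N19730 (iv D54255)) (tt N19741 F242973))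
theorem Q21487 : ∀ i, i < 21487 → P i := stepQ 21486 Q21486 (allL N21486 (tt N22394 (iv F247572)) (tt N22712 (iv F249023)) (tt N22367 (iv F247438)) (tt N22985 D55755) (tt N19732 F242974) (tt N22398 (iv F247595)) (tt N22984 (iv F249958)) (tt N19734 F242975) (tt N19731 (iv D54256)) (tt N19750 F242976))
theorem Q21488 : ∀ i, i < 21488 → P i := stepQ 21487 Q21487 (allL N21487 (tt N22399 (iv F247599)) (tt N19782 F242977) (tt N22368 (iv F247443)) (tt N22986 D55756) (tt N19736 F242978) (tt N19734 F242979) (tt N22418 (iv F247683)) (tt N22398 (iv F247597)) (tt N19733 (iv D54257)) (tt N19759 F242980))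
theorem Q21489 : ∀ i, i < 21489 → P i := stepQ 21488 Q21488 (allL N21488 (tt N22400 (iv F247606)) (tt N22713 (iv F249029)) (tt N22987 D55757) (tt N19734 (iv D54258)) (tt N19841 F242981) (tt N22986 (iv F249964)) (tt N22386 (iv F247530)) (tt N22985 (iv F249961)) (tt N22983 (iv F249956)) (tt N19760 F242982))
theorem Q21490 : ∀ i, i < 21490 → P i := stepQ 21489 Q21489 (allL N21489 (tt N22380 (iv F247494)) (tt N22429 (iv F247724)) (tt N19739 F242983) (tt N21862 (iv F244678)) (tt N21489 F242984) (tt N19737 (iv D54259)) (tt N22904 (iv F249768)) (tt N21866 (iv F244702)) (tt N22176 (iv F246534)) (tt N22988 D55758))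
theorem Q21491 : ∀ i, i < 21491 → P i := stepQ 21490 Q21490 (allL N21490 (tt N22381 (iv F247501)) (tt N22430 (iv F247730)) (tt N19740 F242985) (tt N22416 (iv F247670)) (tt N19738 F242986) (tt N22988 (iv F249970)) (tt N19746 F242987) (tt N22390 (iv F247555)) (tt N22989 D55759) (tt N19737 (iv D54260)))
theorem Q21492 : ∀ i, i < 21492 → P i := stepQ 21491 Q21491 (allL N21491 (tt N22382 (iv F247506)) (tt N22431 (iv F247737)) (tt N19741 F242988) (tt N22439 (iv F247786)) (tt N22989 (iv F249972)) (tt N21491 F242989) (tt N19747 F242990) (tt N22391 (iv F247562)) (tt N19738 (iv D54261)) (tt N22366 (iv F247436)))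
theorem Q21493 : ∀ i, i < 21493 → P i := stepQ 21492 Q21492 (allL N21492 (tt N22121 (iv F246228)) (tt N19785 F242991) (tt N22904 (iv F249765)) (tt N22097 (iv F246078)) (tt N21492 F242992) (tt N19748 F242993) (tt N19739 (iv D54262)) (tt N22128 (iv F246273)) (tt N19755 F242994) (tt N22990 D55760))
theorem Q21494 : ∀ i, i < 21494 → P i := stepQ 21493 Q21493 (allL N21493 (tt N22979 (iv F249944)) (tt N22696 (iv F248951)) (tt N22988 (iv F249968)) (tt N22694 (iv F248942)) (tt N21493 F242995) (tt N19740 F242996) (tt N22990 (iv F249977)) (tt N22392 (iv F247568)) (tt N22991 D55761) (tt N19739 (iv D54263)))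
theorem Q21495 : ∀ i, i < 21495 → P i := stepQ 21494 Q21494 (allL N21494 (tt N22980 (iv F249947)) (tt N22697 (iv F248959)) (tt N22989 (iv F249971)) (tt N22992 D55762) (tt N19741 F242997) (tt N22991 (iv F249979)) (tt N19750 F242998) (tt N22393 (iv F247571)) (tt N19740 (iv D54264)) (tt N22984 (iv F249959)))
theorem Q21496 : ∀ i, i < 21496 → P i := stepQ 21495 Q21495 (allL N21495 (tt N21944 (iv F245170)) (tt N19745 F242999) (tt N19788 F243000) (tt N22437 (iv F247772)) (tt N19761 F243001) (tt N19742 (iv D54265)) (tt N22292 (iv F247109)) (tt N19752 F243002) (tt N21895 (iv F244896)) (tt N22993 D55763))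
theorem Q21497 : ∀ i, i < 21497 → P i := stepQ 21496 Q21496 (allL N21496 (tt N22493 (iv F248047)) (tt N19746 F243003) (tt N21979 (iv F245379)) (tt N22438 (iv F247779)) (tt N19743 F243004) (tt N22993 (iv F249985)) (tt N22430 (iv F247734)) (tt N19753 F243005) (tt N22994 D55764) (tt N19742 (iv D54266)))
theorem Q21498 : ∀ i, i < 21498 → P i := stepQ 21497 Q21497 (allL N21497 (tt N22494 (iv F248053)) (tt N19747 F243006) (tt N22032 (iv F245663)) (tt N22417 (iv F247676)) (tt N22994 (iv F249988)) (tt N19763 F243007) (tt N22431 (iv F247741)) (tt N19754 F243008) (tt N19743 (iv D54267)) (tt N22359 (iv F247392)))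
theorem Q21499 : ∀ i, i < 21499 → P i := stepQ 21498 Q21498 (allL N21498 (tt N22373 (iv F247465)) (tt N22437 (iv F247770)) (tt N22302 (iv F247156)) (tt N19745 F243009) (tt N21498 F243010) (tt N19744 (iv D54268)) (tt N22897 (iv F249746)) (tt N19755 F243011) (tt N22128 (iv F246274)) (tt N22995 D55765))
theorem Q21500 : ∀ i, i < 21500 → P i := stepQ 21499 Q21499 (allL N21499 (tt N22374 (iv F247470)) (tt N22438 (iv F247777)) (tt N22304 (iv F247166)) (tt N19746 F243012) (tt N19773 F243013) (tt N22995 (iv F249992)) (tt N22416 (iv F247672)) (tt N19756 F243014) (tt N22996 D55766) (tt N19744 (iv D54269)))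
theorem Q21501 : ∀ i, i < 21501 → P i := stepQ 21500 Q21500 (allL N21500 (tt N22383 (iv F247513)) (tt N22993 (iv F249982)) (tt N19749 F243015) (tt N22995 (iv F249990)) (tt N19764 F243016) (tt N19746 F243017) (tt N22906 (iv F249775)) (tt N19757 F243018) (tt N22997 D55767) (tt N19745 (iv D54270)))
theorem Q21502 : ∀ i, i < 21502 → P i := stepQ 21501 Q21501 (allL N21501 (tt N22384 (iv F247518)) (tt N22994 (iv F249987)) (tt N19750 F243019) (tt N22998 D55768) (tt N19747 F243020) (tt N22997 (iv F249998)) (tt N22989 (iv F249973)) (tt N19758 F243021) (tt N19746 (iv D54271)) (tt N22367 (iv F247441)))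
theorem Q21503 : ∀ i, i < 21503 → P i := stepQ 21502 Q21502 (allL N21502 (tt N22122 (iv F246234)) (tt N19786 F243022) (tt N22906 (iv F249773)) (tt N22098 (iv F246085)) (tt N19766 F243023) (tt N22990 (iv F249976)) (tt N19749 F243024) (tt N22419 (iv F247688)) (tt N22999 D55769) (tt N19748 (iv D54272)))
theorem Q21504 : ∀ i, i < 21504 → P i := stepQ 21503 Q21503 (allL N21503 (tt N22727 (iv F249088)) (tt N19792 F243025) (tt N22997 (iv F249996)) (tt N23000 D55770) (tt N19767 F243026) (tt N19750 F243027) (tt N22999 (iv F250003)) (tt N19759 F243028) (tt N19749 (iv D54273)) (tt N22398 (iv F247598)))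
theorem Q21505 : ∀ i, i < 21505 → P i := stepQ 21504 Q21504 (allL N21504 (tt N22981 (iv F249950)) (tt N22714 (iv F249034)) (tt N23001 D55771) (tt N19750 (iv D54274)) (tt N19876 F243029) (tt N23000 (iv F250006)) (tt N22992 (iv F249981)) (tt N19760 F243030) (tt N22903 (iv F249764)) (tt N22985 (iv F249962)))
theorem Q21506 : ∀ i, i < 21506 → P i := stepQ 21505 Q21505 (allL N21505 (tt N19817 F243031) (tt N19755 F243032) (tt N22576 (iv F248447)) (tt N19752 F243033) (tt N21505 F243034) (tt N19751 (iv D54275)) (tt N21876 (iv F244769)) (tt N22437 (iv F247774)) (tt N19785 F243035) (tt N23002 D55772))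
theorem Q21507 : ∀ i, i < 21507 → P i := stepQ 21506 Q21506 (allL N21506 (tt N19818 F243036) (tt N19756 F243037) (tt N22577 (iv F248455)) (tt N19753 F243038) (tt N19774 F243039) (tt N23002 (iv F250014)) (tt N19780 F243040) (tt N22438 (iv F247782)) (tt N23003 D55773) (tt N19751 (iv D54276)))
theorem Q21508 : ∀ i, i < 21508 → P i := stepQ 21507 Q21507 (allL N21507 (tt N21945 (iv F245178)) (tt N19757 F243041) (tt N19796 F243042) (tt N23002 (iv F250012)) (tt N19768 F243043) (tt N19753 F243044) (tt N21884 (iv F244823)) (tt N22993 (iv F249986)) (tt N23004 D55774) (tt N19752 (iv D54277)))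
theorem Q21509 : ∀ i, i < 21509 → P i := stepQ 21508 Q21508 (allL N21508 (tt N22810 (iv F249446)) (tt N19758 F243045) (tt N22717 (iv F249051)) (tt N23005 D55775) (tt N19754 F243046) (tt N23004 (iv F250023)) (tt N22397 (iv F247589)) (tt N22994 (iv F249989)) (tt N19753 (iv D54278)) (tt N22362 (iv F247410)))
theorem Q21510 : ∀ i, i < 21510 → P i := stepQ 21509 Q21509 (allL N21509 (tt N22378 (iv F247487)) (tt N23002 (iv F250011)) (tt N22905 (iv F249769)) (tt N19757 F243047) (tt N21509 F243048) (tt N19756 F243049) (tt N22424 (iv F247709)) (tt N22995 (iv F249993)) (tt N23006 D55776) (tt N19755 (iv D54279)))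
theorem Q21511 : ∀ i, i < 21511 → P i := stepQ 21510 Q21510 (allL N21510 (tt N22379 (iv F247491)) (tt N23003 (iv F250016)) (tt N22907 (iv F249776)) (tt N23007 D55777) (tt N19775 F243050) (tt N23006 (iv F250026)) (tt N22398 (iv F247596)) (tt N22996 (iv F249995)) (tt N19756 (iv D54280)) (tt N22999 (iv F250004)))
theorem Q21512 : ∀ i, i < 21512 → P i := stepQ 21511 Q21511 (allL N21511 (tt N22385 (iv F247523)) (tt N23004 (iv F250020)) (tt N19759 F243051) (tt N23008 D55778) (tt N19770 F243052) (tt N19758 F243053) (tt N22425 (iv F247712)) (tt N22997 (iv F249999)) (tt N19757 (iv D54281)) (tt N22368 (iv F247446)))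
theorem Q21513 : ∀ i, i < 21513 → P i := stepQ 21512 Q21512 (allL N21512 (tt N22386 (iv F247528)) (tt N23005 (iv F250024)) (tt N23009 D55779) (tt N19758 (iv D54282)) (tt N22444 (iv F247811)) (tt N23008 (iv F250028)) (tt N22400 (iv F247608)) (tt N22998 (iv F250000)) (tt N23007 (iv F250027)) (tt N22369 (iv F247450)))
theorem Q21514 : ∀ i, i < 21514 → P i := stepQ 21513 Q21513 (allL N21513 (tt N22728 (iv F249094)) (tt N19801 F243054) (tt N23010 D55780) (tt N19759 (iv D54283)) (tt N22757 (iv F249218)) (tt N19760 F243055) (tt N22427 (iv F247717)) (tt N23000 (iv F250007)) (tt N22911 (iv F249785)) (tt N22986 (iv F249965)))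
theorem Q21515 : ∀ i, i < 21515 → P i := stepQ 21514 Q21514 (allL N21514 (tt N22982 (iv F249953)) (tt N23011 D55781) (tt N19760 (iv D54284)) (tt N23009 (iv F250029)) (tt N19899 F243056) (tt N23010 (iv F250030)) (tt N22404 (iv F247622)) (tt N23001 (iv F250009)) (tt N22912 (iv F249787)) (tt N22987 (iv F249967)))
theorem Q21516 : ∀ i, i < 21516 → P i := stepQ 21515 Q21515 (allL N21515 (tt N21956 (iv F245244)) (tt N19764 F243057) (tt N19789 F243058) (tt N21515 F243059) (tt N22993 (iv F249984)) (tt N19762 F243060) (tt N22343 (iv F247315)) (tt N19768 F243061) (tt N23012 D55782) (tt N19761 (iv D54285)))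
theorem Q21517 : ∀ i, i < 21517 → P i := stepQ 21516 Q21516 (allL N21516 (tt N21960 (iv F245267)) (tt N19765 F243062) (tt N19803 F243063) (tt N23013 D55783) (tt N19763 F243064) (tt N23012 (iv F250034)) (tt N21516 F243065) (tt N19769 F243066) (tt N19762 (iv D54286)) (tt N21902 (iv F244936)))
theorem Q21518 : ∀ i, i < 21518 → P i := stepQ 21517 Q21517 (allL N21517 (tt N22387 (iv F247532)) (tt N23012 (iv F250032)) (tt N19767 F243067) (tt N23014 D55784) (tt N22997 (iv F249997)) (tt N19765 F243068) (tt N22917 (iv F249799)) (tt N19770 F243069) (tt N19764 (iv D54287)) (tt N22166 (iv F246475)))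
theorem Q21519 : ∀ i, i < 21519 → P i := stepQ 21518 Q21518 (allL N21518 (tt N22388 (iv F247537)) (tt N23013 (iv F250036)) (tt N22761 (iv F249232)) (tt N19765 (iv D54288)) (tt N22447 (iv F247825)) (tt N23014 (iv F250040)) (tt N21518 F243070) (tt N19771 F243071) (tt N21518 F243072) (tt N22370 (iv F247457)))
theorem Q21520 : ∀ i, i < 21520 → P i := stepQ 21519 Q21519 (allL N21519 (tt N22123 (iv F246239)) (tt N19787 F243073) (tt N22917 (iv F249797)) (tt N22188 (iv F246598)) (tt N22999 (iv F250002)) (tt N21519 F243074) (tt N19767 F243075) (tt N22420 (iv F247692)) (tt N19766 (iv D54289)) (tt N19775 F243076))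
theorem Q21521 : ∀ i, i < 21521 → P i := stepQ 21520 Q21520 (allL N21520 (tt N21957 (iv F245251)) (tt N19770 F243077) (tt N19797 F243078) (tt N23015 D55785) (tt N23004 (iv F250022)) (tt N19769 F243079) (tt N21887 (iv F244841)) (tt N23012 (iv F250035)) (tt N19768 (iv D54290)) (tt N21900 (iv F244924)))
theorem Q21522 : ∀ i, i < 21522 → P i := stepQ 21521 Q21521 (allL N21521 (tt N21961 (iv F245274)) (tt N19771 F243080) (tt N21953 (iv F245225)) (tt N19769 (iv D54291)) (tt N21872 (iv F244738)) (tt N23015 (iv F250044)) (tt N19772 F243081) (tt N23013 (iv F250038)) (tt N21521 F243082) (tt N21903 (iv F244943)))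
theorem Q21523 : ∀ i, i < 21523 → P i := stepQ 21522 Q21522 (allL N21522 (tt N22389 (iv F247544)) (tt N23015 (iv F250043)) (tt N22764 (iv F249247)) (tt N19770 (iv D54292)) (tt N23016 D55786) (tt N19771 F243083) (tt N22426 (iv F247714)) (tt N23014 (iv F250041)) (tt N21522 F243084) (tt N22371 (iv F247461)))
theorem Q21524 : ∀ i, i < 21524 → P i := stepQ 21523 Q21523 (allL N21523 (tt N22375 (iv F247474)) (tt N22439 (iv F247784)) (tt N22350 (iv F247350)) (tt N22431 (iv F247739)) (tt N22996 (iv F249994)) (tt N21523 F243085) (tt N22417 (iv F247678)) (tt N19775 F243086) (tt N19773 (iv D54293)) (tt N22420 (iv F247693)))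
theorem Q21525 : ∀ i, i < 21525 → P i := stepQ 21524 Q21524 (allL N21524 (tt N19819 F243087) (tt N19775 F243088) (tt N22570 (iv F248419)) (tt N22391 (iv F247559)) (tt N23003 (iv F250017)) (tt N21524 F243089) (tt N19781 F243090) (tt N22439 (iv F247789)) (tt N19774 (iv D54294)) (tt N19787 F243091))
theorem Q21526 : ∀ i, i < 21526 → P i := stepQ 21525 Q21525 (allL N21525 (tt N19812 F243092) (tt N21806 (iv F244328)) (tt N19778 F243093) (tt N22667 (iv F248795)) (tt N19777 F243094) (tt N22709 (iv F249009)) (tt N22433 (iv F247754)) (tt N21812 (iv F244368)) (tt N23017 D55787) (tt N19776 (iv D54295)))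
theorem Q21527 : ∀ i, i < 21527 → P i := stepQ 21526 Q21526 (allL N21526 (tt N19813 F243095) (tt N21807 (iv F244335)) (tt N19779 F243096) (tt N23018 D55788) (tt N23017 (iv F250049)) (tt N19996 F243097) (tt N22434 (iv F247760)) (tt N21813 (iv F244374)) (tt N19777 (iv D54296)) (tt N22760 (iv F249230)))
theorem Q21528 : ∀ i, i < 21528 → P i := stepQ 21527 Q21527 (allL N21527 (tt N19814 F243098) (tt N22394 (iv F247573)) (tt N23017 (iv F250048)) (tt N23019 D55789) (tt N19779 F243099) (tt N22711 (iv F249019)) (tt N22436 (iv F247768)) (tt N22397 (iv F247590)) (tt N19778 (iv D54297)) (tt N22747 (iv F249183)))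
theorem Q21529 : ∀ i, i < 21529 → P i := stepQ 21528 Q21528 (allL N21528 (tt N19825 F243100) (tt N22398 (iv F247593)) (tt N22590 (iv F248512)) (tt N23020 D55790) (tt N19781 F243101) (tt N22712 (iv F249025)) (tt N23003 (iv F250018)) (tt N19782 F243102) (tt N19780 (iv D54298)) (tt N19792 F243103))
theorem Q21530 : ∀ i, i < 21530 → P i := stepQ 21529 Q21529 (allL N21529 (tt N19841 F243104) (tt N22986 (iv F249963)) (tt N23021 D55791) (tt N19782 (iv D54299)) (tt N22400 (iv F247607)) (tt N22713 (iv F249031)) (tt N22444 (iv F247812)) (tt N23020 (iv F250056)) (tt N23019 (iv F250054)) (tt N19801 F243105))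
theorem Q21531 : ∀ i, i < 21531 → P i := stepQ 21530 Q21530 (allL N21530 (tt N19861 F243106) (tt N22584 (iv F248491)) (tt N19786 F243107) (tt N21986 (iv F245424)) (tt N19784 F243108) (tt N22841 (iv F249561)) (tt N19790 F243109) (tt N22451 (iv F247852)) (tt N23022 D55792) (tt N19783 (iv D54300)))
theorem Q21532 : ∀ i, i < 21532 → P i := stepQ 21531 Q21531 (allL N21531 (tt N19862 F243110) (tt N22663 (iv F248772)) (tt N19787 F243111) (tt N22520 (iv F248176)) (tt N23022 (iv F250062)) (tt N21531 F243112) (tt N19791 F243113) (tt N22452 (iv F247859)) (tt N19784 (iv D54301)) (tt N22570 (iv F248424)))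
theorem Q21533 : ∀ i, i < 21533 → P i := stepQ 21532 Q21532 (allL N21532 (tt N19864 F243114) (tt N22990 (iv F249974)) (tt N22841 (iv F249558)) (tt N22698 (iv F248965)) (tt N21532 F243115) (tt N19786 F243116) (tt N22696 (iv F248956)) (tt N22453 (iv F247864)) (tt N23023 D55793) (tt N19785 (iv D54302)))
theorem Q21534 : ∀ i, i < 21534 → P i := stepQ 21533 Q21533 (allL N21533 (tt N19865 F243117) (tt N22999 (iv F250001)) (tt N23022 (iv F250061)) (tt N23024 D55794) (tt N19787 F243118) (tt N23023 (iv F250066)) (tt N19792 F243119) (tt N22454 (iv F247868)) (tt N19786 (iv D54303)) (tt N23003 (iv F250019)))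
theorem Q21535 : ∀ i, i < 21535 → P i := stepQ 21534 Q21534 (allL N21534 (tt N22533 (iv F248236)) (tt N19790 F243120) (tt N22993 (iv F249983)) (tt N21980 (iv F245388)) (tt N19789 F243121) (tt N21979 (iv F245382)) (tt N22584 (iv F248494)) (tt N19796 F243122) (tt N23025 D55795) (tt N19788 (iv D54304)))
theorem Q21536 : ∀ i, i < 21536 → P i := stepQ 21535 Q21535 (allL N21535 (tt N22677 (iv F248849)) (tt N19791 F243123) (tt N23012 (iv F250033)) (tt N22525 (iv F248200)) (tt N23025 (iv F250070)) (tt N19803 F243124) (tt N22663 (iv F248774)) (tt N19797 F243125) (tt N19789 (iv D54305)) (tt N22580 (iv F248473)))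
theorem Q21537 : ∀ i, i < 21537 → P i := stepQ 21536 Q21536 (allL N21536 (tt N19871 F243126) (tt N23025 (iv F250069)) (tt N19792 F243127) (tt N23026 D55796) (tt N19791 F243128) (tt N21984 (iv F245410)) (tt N23022 (iv F250063)) (tt N19800 F243129) (tt N19790 (iv D54306)) (tt N22590 (iv F248515)))
theorem Q21538 : ∀ i, i < 21538 → P i := stepQ 21537 Q21537 (allL N21537 (tt N19876 F243130) (tt N23000 (iv F250005)) (tt N23027 D55797) (tt N19792 (iv D54307)) (tt N22981 (iv F249951)) (tt N22714 (iv F249036)) (tt N23024 (iv F250068)) (tt N19801 F243131) (tt N22927 (iv F249832)) (tt N23020 (iv F250057)))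
theorem Q21539 : ∀ i, i < 21539 → P i := stepQ 21538 Q21538 (allL N21538 (tt N19796 F243132) (tt N19878 F243133) (tt N21945 (iv F245180)) (tt N22524 (iv F248195)) (tt N19794 F243134) (tt N22715 (iv F249042)) (tt N21941 (iv F245160)) (tt N22533 (iv F248241)) (tt N23028 D55798) (tt N19793 (iv D54308)))
theorem Q21540 : ∀ i, i < 21540 → P i := stepQ 21539 Q21539 (allL N21539 (tt N19797 F243135) (tt N19879 F243136) (tt N21957 (iv F245253)) (tt N22002 (iv F245495)) (tt N23028 (iv F250078)) (tt N19804 F243137) (tt N21954 (iv F245235)) (tt N22677 (iv F248854)) (tt N19794 (iv D54309)) (tt N22005 (iv F245520)))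
theorem Q21541 : ∀ i, i < 21541 → P i := stepQ 21540 Q21540 (allL N21540 (tt N22524 (iv F248193)) (tt N19799 F243138) (tt N22578 (iv F248461)) (tt N19796 F243139) (tt N19805 F243140) (tt N21967 (iv F245314)) (tt N22464 (iv F247916)) (tt N21980 (iv F245392)) (tt N23029 D55799) (tt N19795 (iv D54310)))
theorem Q21542 : ∀ i, i < 21542 → P i := stepQ 21541 Q21541 (allL N21541 (tt N23028 (iv F250076)) (tt N19800 F243141) (tt N23004 (iv F250021)) (tt N23030 D55800) (tt N19797 F243142) (tt N22717 (iv F249053)) (tt N22465 (iv F247920)) (tt N23025 (iv F250071)) (tt N19796 (iv D54311)) (tt N22602 (iv F248553)))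
theorem Q21543 : ∀ i, i < 21543 → P i := stepQ 21542 Q21542 (allL N21542 (tt N19889 F243143) (tt N22574 (iv F248434)) (tt N21933 (iv F245109)) (tt N22680 (iv F248869)) (tt N19806 F243144) (tt N21930 (iv F245094)) (tt N22468 (iv F247937)) (tt N21941 (iv F245161)) (tt N23031 D55801) (tt N19798 (iv D54312)))
theorem Q21544 : ∀ i, i < 21544 → P i := stepQ 21543 Q21543 (allL N21543 (tt N19890 F243145) (tt N23029 (iv F250079)) (tt N21973 (iv F245344)) (tt N23032 D55802) (tt N19807 F243146) (tt N21969 (iv F245323)) (tt N22469 (iv F247941)) (tt N21987 (iv F245432)) (tt N19799 (iv D54313)) (tt N23031 (iv F250084)))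
theorem Q21545 : ∀ i, i < 21545 → P i := stepQ 21544 Q21544 (allL N21544 (tt N19894 F243147) (tt N23030 (iv F250081)) (tt N23033 D55803) (tt N19800 (iv D54314)) (tt N22541 (iv F248279)) (tt N22719 (iv F249058)) (tt N22471 (iv F247949)) (tt N23026 (iv F250073)) (tt N23032 (iv F250086)) (tt N22614 (iv F248589)))
theorem Q21546 : ∀ i, i < 21546 → P i := stepQ 21545 Q21545 (allL N21545 (tt N19899 F243148) (tt N23034 D55804) (tt N19801 (iv D54315)) (tt N23033 (iv F250088)) (tt N22982 (iv F249954)) (tt N22721 (iv F249064)) (tt N22473 (iv F247954)) (tt N23027 (iv F250075)) (tt N22930 (iv F249837)) (tt N23021 (iv F250059)))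
theorem Q21547 : ∀ i, i < 21547 → P i := stepQ 21546 Q21546 (allL N21546 (tt N19803 F243149) (tt N19902 F243150) (tt N21960 (iv F245269)) (tt N19966 F243151) (tt N22722 (iv F249068)) (tt N22677 (iv F248852)) (tt N21546 F243152) (tt N19804 F243153) (tt N19802 (iv D54316)) (tt N22012 (iv F245550)))
theorem Q21548 : ∀ i, i < 21548 → P i := stepQ 21547 Q21547 (allL N21547 (tt N22525 (iv F248198)) (tt N19807 F243154) (tt N22621 (iv F248604)) (tt N22677 (iv F248851)) (tt N23029 (iv F250080)) (tt N19966 F243155) (tt N22491 (iv F248037)) (tt N22002 (iv F245498)) (tt N19805 (iv D54317)) (tt N22575 (iv F248444)))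
theorem Q21549 : ∀ i, i < 21549 → P i := stepQ 21548 Q21548 (allL N21548 (tt N19927 F243156) (tt N22575 (iv F248440)) (tt N21951 (iv F245213)) (tt N22678 (iv F248856)) (tt N23031 (iv F250083)) (tt N19967 F243157) (tt N22492 (iv F248044)) (tt N21954 (iv F245236)) (tt N19806 (iv D54318)) (tt N19807 F243158))
theorem Q21550 : ∀ i, i < 21550 → P i := stepQ 21549 Q21549 (allL N21549 (tt N19809 F243159) (tt N19891 F243160) (tt N22535 (iv F248248)) (tt N22734 (iv F249121)) (tt N19808 (iv D54319)) (tt N22510 (iv F248137)) (tt N22503 (iv F248100)) (tt N19882 F243161) (tt N22509 F248132) (tt N23035 D55805))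
theorem Q21551 : ∀ i, i < 21551 → P i := stepQ 21550 Q21550 (allL N21550 (tt N19810 F243162) (tt N19915 F243163) (tt N22781 (iv F249327)) (tt N19937 F243164) (tt N23035 (iv F250091)) (tt N19921 F243165) (tt N22504 (iv F248106)) (tt N19912 F243166) (tt N23036 D55806) (tt N19808 (iv D54320)))
theorem Q21552 : ∀ i, i < 21552 → P i := stepQ 21551 Q21551 (allL N21551 (tt N22734 (iv F249119)) (tt N19811 F243167) (tt N22529 (iv F248224)) (tt N19809 (iv D54321)) (tt N19938 F243168) (tt N22792 (iv F249376)) (tt N22505 (iv F248111)) (tt N22526 (iv F248210)) (tt N22586 (iv F248502)) (tt N23037 D55807))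
theorem Q21553 : ∀ i, i < 21553 → P i := stepQ 21552 Q21552 (allL N21552 (tt N23035 (iv F250089)) (tt N19812 F243169) (tt N22782 (iv F249332)) (tt N23037 (iv F250098)) (tt N19810 F243170) (tt N22793 (iv F249381)) (tt N22507 (iv F248122)) (tt N22801 (iv F249421)) (tt N23038 D55808) (tt N19809 (iv D54322)))
theorem Q21554 : ∀ i, i < 21554 → P i := stepQ 21553 Q21553 (allL N21553 (tt N23036 (iv F250093)) (tt N19813 F243171) (tt N22783 (iv F249337)) (tt N23039 D55809) (tt N23038 (iv F250101)) (tt N19997 F243172) (tt N22508 (iv F248125)) (tt N22814 (iv F249468)) (tt N19810 (iv D54323)) (tt N22858 (iv F249605)))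
theorem Q21555 : ∀ i, i < 21555 → P i := stepQ 21554 Q21554 (allL N21554 (tt N22681 (iv F248872)) (tt N22586 (iv F248498)) (tt N19833 F243173) (tt N22823 (iv F249500)) (tt N19941 F243174) (tt N22795 (iv F249391)) (tt N22510 (iv F248138)) (tt N22463 (iv F247911)) (tt N19811 (iv D54324)) (tt N23040 D55810))
theorem Q21556 : ∀ i, i < 21556 → P i := stepQ 21555 Q21555 (allL N21555 (tt N22667 (iv F248792)) (tt N23037 (iv F250097)) (tt N19834 F243175) (tt N19812 F243176) (tt N19942 F243177) (tt N22796 (iv F249396)) (tt N22511 (iv F248144)) (tt N22804 (iv F249434)) (tt N23041 D55811) (tt N19811 (iv D54325)))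
theorem Q21557 : ∀ i, i < 21557 → P i := stepQ 21556 Q21556 (allL N21556 (tt N23017 (iv F250047)) (tt N23038 (iv F250100)) (tt N19814 F243178) (tt N23042 D55812) (tt N19813 F243179) (tt N22797 (iv F249400)) (tt N22514 (iv F248155)) (tt N22807 (iv F249441)) (tt N19812 (iv D54326)) (tt N22827 (iv F249517)))
theorem Q21558 : ∀ i, i < 21558 → P i := stepQ 21557 Q21557 (allL N21557 (tt N23018 (iv F250050)) (tt N23039 (iv F250102)) (tt N22405 (iv F247623)) (tt N19813 (iv D54327)) (tt N23043 D55813) (tt N19998 F243180) (tt N22515 (iv F248157)) (tt N22408 (iv F247637)) (tt N19944 F243181) (tt N22860 (iv F249614)))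
theorem Q21559 : ∀ i, i < 21559 → P i := stepQ 21558 Q21558 (allL N21558 (tt N23019 (iv F250053)) (tt N22787 (iv F249355)) (tt N23044 D55814) (tt N19814 (iv D54328)) (tt N22983 (iv F249955)) (tt N22799 (iv F249408)) (tt N22518 (iv F248166)) (tt N22811 (iv F249453)) (tt N19841 F243182) (tt N22830 (iv F249525)))
theorem Q21560 : ∀ i, i < 21560 → P i := stepQ 21559 Q21559 (allL N21559 (tt N22576 (iv F248445)) (tt N21929 (iv F245086)) (tt N19817 F243183) (tt N21927 (iv F245078)) (tt N21559 F243184) (tt N19815 (iv D54329)) (tt N21919 (iv F245037)) (tt N21935 (iv F245122)) (tt N19860 F243185) (tt N23045 D55815))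
theorem Q21561 : ∀ i, i < 21561 → P i := stepQ 21560 Q21560 (allL N21560 (tt N22577 (iv F248453)) (tt N22680 (iv F248868)) (tt N19818 F243186) (tt N22574 (iv F248435)) (tt N19816 F243187) (tt N23045 (iv F250113)) (tt N19823 F243188) (tt N22519 (iv F248173)) (tt N23046 D55816) (tt N19815 (iv D54330)))
theorem Q21562 : ∀ i, i < 21562 → P i := stepQ 21561 Q21561 (allL N21561 (tt N22570 (iv F248417)) (tt N22664 (iv F248778)) (tt N19819 F243189) (tt N22452 (iv F247856)) (tt N23046 (iv F250115)) (tt N21561 F243190) (tt N19824 F243191) (tt N22520 (iv F248179)) (tt N19816 (iv D54331)) (tt N19862 F243192))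
theorem Q21563 : ∀ i, i < 21563 → P i := stepQ 21562 Q21562 (allL N21562 (tt N23002 (iv F250010)) (tt N22516 (iv F248159)) (tt N23045 (iv F250111)) (tt N21945 (iv F245181)) (tt N21562 F243193) (tt N19818 F243194) (tt N21922 (iv F245052)) (tt N22522 (iv F248188)) (tt N23047 D55817) (tt N19817 (iv D54332)))
theorem Q21564 : ∀ i, i < 21564 → P i := stepQ 21563 Q21563 (allL N21563 (tt N23003 (iv F250015)) (tt N22791 (iv F249370)) (tt N23046 (iv F250114)) (tt N23048 D55818) (tt N19819 F243195) (tt N23047 (iv F250119)) (tt N19825 F243196) (tt N22523 (iv F248191)) (tt N19818 (iv D54333)) (tt N19865 F243197))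
theorem Q21565 : ∀ i, i < 21565 → P i := stepQ 21564 Q21564 (allL N21564 (tt N22537 (iv F248258)) (tt N19823 F243198) (tt N22793 (iv F249379)) (tt N22468 (iv F247935)) (tt N19821 F243199) (tt N22782 (iv F249334)) (tt N22680 (iv F248870)) (tt N19830 F243200) (tt N23049 D55819) (tt N19820 (iv D54334)))
theorem Q21566 : ∀ i, i < 21566 → P i := stepQ 21565 Q21565 (allL N21565 (tt N22678 (iv F248855)) (tt N19824 F243201) (tt N22794 (iv F249384)) (tt N19927 F243202) (tt N23049 (iv F250124)) (tt N19844 F243203) (tt N22664 (iv F248780)) (tt N19831 F243204) (tt N19821 (iv D54335)) (tt N19868 F243205))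
theorem Q21567 : ∀ i, i < 21567 → P i := stepQ 21566 Q21566 (allL N21566 (tt N22564 (iv F248386)) (tt N22468 (iv F247934)) (tt N22804 (iv F249430)) (tt N19823 F243206) (tt N19945 F243207) (tt N22784 (iv F249344)) (tt N22574 (iv F248437)) (tt N19834 F243208) (tt N23050 D55820) (tt N19822 (iv D54336)))
theorem Q21568 : ∀ i, i < 21568 → P i := stepQ 21567 Q21567 (allL N21567 (tt N22590 (iv F248511)) (tt N23049 (iv F250123)) (tt N19825 F243209) (tt N23051 D55821) (tt N19824 F243210) (tt N22785 (iv F249348)) (tt N23046 (iv F250116)) (tt N19837 F243211) (tt N19823 (iv D54337)) (tt N19871 F243212))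
theorem Q21569 : ∀ i, i < 21569 → P i := stepQ 21568 Q21568 (allL N21568 (tt N23020 (iv F250055)) (tt N22799 (iv F249407)) (tt N23052 D55822) (tt N19825 (iv D54338)) (tt N22985 (iv F249960)) (tt N22787 (iv F249356)) (tt N23048 (iv F250121)) (tt N19841 F243213) (tt N22811 (iv F249454)) (tt N19876 F243214))
theorem Q21570 : ∀ i, i < 21570 → P i := stepQ 21569 Q21569 (allL N21569 (tt N19830 F243215) (tt N21986 (iv F245422)) (tt N22599 (iv F248541)) (tt N22584 (iv F248492)) (tt N19827 F243216) (tt N22837 (iv F249548)) (tt N21980 (iv F245391)) (tt N22537 (iv F248262)) (tt N23053 D55823) (tt N19826 (iv D54339)))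
theorem Q21571 : ∀ i, i < 21571 → P i := stepQ 21570 Q21570 (allL N21570 (tt N19831 F243217) (tt N22005 (iv F245515)) (tt N22634 (iv F248660)) (tt N21954 (iv F245233)) (tt N23053 (iv F250134)) (tt N19846 F243218) (tt N22002 (iv F245497)) (tt N22678 (iv F248859)) (tt N19827 (iv D54340)) (tt N19879 F243219))
theorem Q21572 : ∀ i, i < 21572 → P i := stepQ 21571 Q21571 (allL N21571 (tt N22292 (iv F247105)) (tt N22529 (iv F248223)) (tt N19828 (iv D54341)) (tt N22521 (iv F248182)) (tt N19946 F243220) (tt N22500 (iv F248090)) (tt N21944 (iv F245176)) (tt N21932 F245106) (tt N21971 (iv F245335)) (tt N23054 D55824))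
theorem Q21573 : ∀ i, i < 21573 → P i := stepQ 21572 Q21572 (allL N21572 (tt N22582 (iv F248479)) (tt N19832 F243221) (tt N22500 (iv F248087)) (tt N19829 F243222) (tt N21572 F243223) (tt N19828 (iv D54342)) (tt N22497 (iv F248076)) (tt N22466 (iv F247928)) (tt N22455 (iv F247874)) (tt N23055 D55825))
theorem Q21574 : ∀ i, i < 21574 → P i := stepQ 21573 Q21573 (allL N21573 (tt N22584 (iv F248490)) (tt N19834 F243224) (tt N23054 (iv F250136)) (tt N19830 F243225) (tt N19947 F243226) (tt N23055 (iv F250141)) (tt N22533 (iv F248240)) (tt N22468 (iv F247938)) (tt N23056 D55826) (tt N19828 (iv D54343)))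
theorem Q21575 : ∀ i, i < 21575 → P i := stepQ 21574 Q21574 (allL N21574 (tt N22837 (iv F249544)) (tt N19836 F243227) (tt N22801 (iv F249417)) (tt N23055 (iv F250139)) (tt N19847 F243228) (tt N19830 F243229) (tt N22832 (iv F249532)) (tt N22782 (iv F249335)) (tt N23057 D55827) (tt N19829 (iv D54344)))
theorem Q21576 : ∀ i, i < 21576 → P i := stepQ 21575 Q21575 (allL N21575 (tt N23053 (iv F250133)) (tt N19837 F243230) (tt N22802 (iv F249423)) (tt N23058 D55828) (tt N19831 F243231) (tt N23057 (iv F250146)) (tt N22534 (iv F248244)) (tt N23049 (iv F250125)) (tt N19830 (iv D54345)) (tt N19884 F243232))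
theorem Q21577 : ∀ i, i < 21577 → P i := stepQ 21576 Q21576 (allL N21576 (tt N21789 (iv F244216)) (tt N22497 (iv F248072)) (tt N22788 (iv F249360)) (tt N19835 F243233) (tt N21576 F243234) (tt N22495 F248064) (tt N19832 (iv D54346)) (tt N22506 (iv F248119)) (tt N23059 D55829) (tt N23060 D55830))
theorem Q21578 : ∀ i, i < 21578 → P i := stepQ 21577 Q21577 (allL N21577 (tt N21929 (iv F245085)) (tt N22455 (iv F247870)) (tt N22795 (iv F249388)) (tt N19887 F243235) (tt N21577 F243236) (tt N19833 F243237) (tt N23059 (iv F250152)) (tt N21881 (iv F244802)) (tt N19832 (iv D54347)) (tt N23061 D55831))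
theorem Q21579 : ∀ i, i < 21579 → P i := stepQ 21578 Q21578 (allL N21578 (tt N22668 (iv F248798)) (tt N23055 (iv F250138)) (tt N22796 (iv F249393)) (tt N19836 F243238) (tt N21578 F243239) (tt N19834 F243240) (tt N23060 (iv F250155)) (tt N22784 (iv F249345)) (tt N23062 D55832) (tt N19832 (iv D54348)))
theorem Q21580 : ∀ i, i < 21580 → P i := stepQ 21579 Q21579 (allL N21579 (tt N22680 (iv F248867)) (tt N22456 (iv F247876)) (tt N23040 (iv F250105)) (tt N19889 F243241) (tt N19948 F243242) (tt N23061 (iv F250158)) (tt N22537 (iv F248261)) (tt N22464 (iv F247917)) (tt N23063 D55833) (tt N19833 (iv D54349)))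
theorem Q21581 : ∀ i, i < 21581 → P i := stepQ 21580 Q21580 (allL N21580 (tt N22666 (iv F248788)) (tt N23056 (iv F250142)) (tt N23041 (iv F250107)) (tt N23064 D55834) (tt N19949 F243243) (tt N23062 (iv F250160)) (tt N22538 (iv F248265)) (tt N23050 (iv F250128)) (tt N19834 (iv D54350)) (tt N23063 (iv F250162)))
theorem Q21582 : ∀ i, i < 21582 → P i := stepQ 21581 Q21581 (allL N21581 (tt N21784 (iv F244186)) (tt N22509 (iv F248127)) (tt N19838 F243244) (tt N22506 (iv F248117)) (tt N19849 F243245) (tt N22505 F248114) (tt N21910 (iv F244988)) (tt N19835 (iv D54351)) (tt N19891 F243246) (tt N23065 D55835))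
theorem Q21583 : ∀ i, i < 21583 → P i := stepQ 21582 Q21582 (allL N21582 (tt N21790 (iv F244221)) (tt N22832 (iv F249528)) (tt N19839 F243247) (tt N23060 (iv F250153)) (tt N19850 F243248) (tt N22539 (iv F248271)) (tt N19836 F243249) (tt N23065 (iv F250166)) (tt N23066 D55836) (tt N19835 (iv D54352)))
theorem Q21584 : ∀ i, i < 21584 → P i := stepQ 21583 Q21583 (allL N21583 (tt N22615 (iv F248590)) (tt N23057 (iv F250144)) (tt N19840 F243250) (tt N23067 D55837) (tt N19851 F243251) (tt N19837 F243252) (tt N23066 (iv F250169)) (tt N22785 (iv F249349)) (tt N19836 (iv D54353)) (tt N19893 F243253))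
theorem Q21585 : ∀ i, i < 21585 → P i := stepQ 21584 Q21584 (allL N21584 (tt N22614 (iv F248586)) (tt N23058 (iv F250148)) (tt N23068 D55838) (tt N19837 (iv D54354)) (tt N22471 (iv F247948)) (tt N23067 (iv F250171)) (tt N22541 (iv F248280)) (tt N23051 (iv F250129)) (tt N23064 (iv F250163)) (tt N19894 F243254))
theorem Q21586 : ∀ i, i < 21586 → P i := stepQ 21585 Q21585 (allL N21585 (tt N21787 (iv F244206)) (tt N22493 (iv F248048)) (tt N23065 (iv F250164)) (tt N21925 (iv F245063)) (tt N19853 F243255) (tt N22542 (iv F248283)) (tt N21913 (iv F245006)) (tt N19839 F243256) (tt N23069 D55839) (tt N19838 (iv D54355)))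
theorem Q21587 : ∀ i, i < 21587 → P i := stepQ 21586 Q21586 (allL N21586 (tt N21793 (iv F244239)) (tt N22810 (iv F249447)) (tt N23066 (iv F250167)) (tt N23070 D55840) (tt N19854 F243257) (tt N22543 (iv F248286)) (tt N19840 F243258) (tt N23069 (iv F250176)) (tt N19839 (iv D54356)) (tt N19897 F243259))
theorem Q21588 : ∀ i, i < 21588 → P i := stepQ 21587 Q21587 (allL N21587 (tt N22713 (iv F249028)) (tt N22811 (iv F249451)) (tt N23071 D55841) (tt N19840 (iv D54357)) (tt N22732 (iv F249111)) (tt N19841 F243260) (tt N23070 (iv F250178)) (tt N22787 (iv F249357)) (tt N22799 (iv F249410)) (tt N19898 F243261))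
theorem Q21589 : ∀ i, i < 21589 → P i := stepQ 21588 Q21588 (allL N21588 (tt N23021 (iv F250058)) (tt N23072 D55842) (tt N19841 (iv D54358)) (tt N23068 (iv F250173)) (tt N22987 (iv F249966)) (tt N23071 (iv F250180)) (tt N22545 (iv F248291)) (tt N23052 (iv F250131)) (tt N23044 (iv F250110)) (tt N19899 F243262))
theorem Q21590 : ∀ i, i < 21590 → P i := stepQ 21589 Q21589 (allL N21589 (tt N19844 F243263) (tt N22012 (iv F245544)) (tt N22647 (iv F248704)) (tt N19967 F243264) (tt N22869 (iv F249647)) (tt N22678 (iv F248857)) (tt N21589 F243265) (tt N19846 F243266) (tt N19842 (iv D54359)) (tt N19902 F243267))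
theorem Q21591 : ∀ i, i < 21591 → P i := stepQ 21590 Q21590 (allL N21590 (tt N22869 (iv F249644)) (tt N19845 F243268) (tt N19997 F243269) (tt N23073 D55843) (tt N19844 F243270) (tt N22783 (iv F249338)) (tt N21590 F243271) (tt N19848 F243272) (tt N19843 (iv D54360)) (tt N19904 F243273))
theorem Q21592 : ∀ i, i < 21592 → P i := stepQ 21591 Q21591 (allL N21591 (tt N22627 (iv F248629)) (tt N23073 (iv F250183)) (tt N22733 (iv F249114)) (tt N19845 (iv D54361)) (tt N22476 (iv F247969)) (tt N22786 (iv F249351)) (tt N21591 F243274) (tt N19852 F243275) (tt N21591 F243276) (tt N19906 F243277))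
theorem Q21593 : ∀ i, i < 21593 → P i := stepQ 21592 Q21592 (allL N21592 (tt N22864 (iv F249628)) (tt N19851 F243278) (tt N22814 (iv F249465)) (tt N23074 D55844) (tt N23057 (iv F250145)) (tt N19848 F243279) (tt N22862 (iv F249621)) (tt N22783 (iv F249339)) (tt N19847 (iv D54362)) (tt N19913 F243280))
theorem Q21594 : ∀ i, i < 21594 → P i := stepQ 21593 Q21593 (allL N21593 (tt N21955 (iv F245238)) (tt N19852 F243281) (tt N23075 D55845) (tt N19848 (iv D54363)) (tt N21886 (iv F244832)) (tt N23074 (iv F250190)) (tt N19855 F243282) (tt N23073 (iv F250186)) (tt N21593 F243283) (tt N19914 F243284))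
theorem Q21595 : ∀ i, i < 21595 → P i := stepQ 21594 Q21594 (allL N21594 (tt N21785 (iv F244193)) (tt N22856 (iv F249589)) (tt N19853 F243285) (tt N21594 F243286) (tt N23065 (iv F250165)) (tt N19856 F243287) (tt N21911 (iv F244995)) (tt N19850 F243288) (tt N23076 D55846) (tt N19849 (iv D54364)))
theorem Q21596 : ∀ i, i < 21596 → P i := stepQ 21595 Q21595 (allL N21595 (tt N21791 (iv F244227)) (tt N22862 (iv F249618)) (tt N19854 F243289) (tt N23077 D55847) (tt N23066 (iv F250168)) (tt N19857 F243290) (tt N19851 F243291) (tt N23076 (iv F250199)) (tt N19850 (iv D54365)) (tt N19916 F243292))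
theorem Q21597 : ∀ i, i < 21597 → P i := stepQ 21596 Q21596 (allL N21596 (tt N22640 (iv F248678)) (tt N23074 (iv F250189)) (tt N22731 (iv F249106)) (tt N19851 (iv D54366)) (tt N23078 D55848) (tt N19852 F243293) (tt N23077 (iv F250202)) (tt N22786 (iv F249352)) (tt N21596 F243294) (tt N19917 F243295))
theorem Q21598 : ∀ i, i < 21598 → P i := stepQ 21597 Q21597 (allL N21597 (tt N21788 (iv F244210)) (tt N22494 (iv F248054)) (tt N23076 (iv F250197)) (tt N21880 (iv F244792)) (tt N23069 (iv F250175)) (tt N19859 F243296) (tt N21914 (iv F245010)) (tt N19854 F243297) (tt N19853 (iv D54367)) (tt N19920 F243298))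
theorem Q21599 : ∀ i, i < 21599 → P i := stepQ 21598 Q21598 (allL N21598 (tt N21801 (iv F244289)) (tt N21834 (iv F244487)) (tt N19855 (iv D54368)) (tt N21836 (iv F244505)) (tt N19858 F243299) (tt N21835 (iv F244498)) (tt N23075 (iv F250194)) (tt N21598 F243300) (tt N21598 F243301) (tt N19924 F243302))
theorem Q21600 : ∀ i, i < 21600 → P i := stepQ 21599 Q21599 (allL N21599 (tt N21794 (iv F244244)) (tt N22857 (iv F249595)) (tt N19859 F243303) (tt N23079 D55849) (tt N22561 (iv F248371)) (tt N23076 (iv F250198)) (tt N21599 F243304) (tt N19857 F243305) (tt N19856 (iv D54369)) (tt N19925 F243306))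
theorem Q21601 : ∀ i, i < 21601 → P i := stepQ 21600 Q21600 (allL N21600 (tt N21798 (iv F244271)) (tt N22863 (iv F249624)) (tt N21886 (iv F244831)) (tt N19857 (iv D54370)) (tt N23075 (iv F250193)) (tt N23077 (iv F250201)) (tt N19858 F243307) (tt N23079 (iv F250209)) (tt N21600 F243308) (tt N19926 F243309))
theorem Q21602 : ∀ i, i < 21602 → P i := stepQ 21601 Q21601 (allL N21601 (tt N22841 (iv F249557)) (tt N22668 (iv F248799)) (tt N19864 F243310) (tt N22360 (iv F247396)) (tt N21601 F243311) (tt N19861 F243312) (tt N22752 (iv F249203)) (tt N22568 (iv F248412)) (tt N23080 D55850) (tt N19860 (iv D54371)))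
theorem Q21603 : ∀ i, i < 21603 → P i := stepQ 21602 Q21602 (allL N21602 (tt N23022 (iv F250060)) (tt N22666 (iv F248789)) (tt N19865 F243313) (tt N23081 D55851) (tt N19862 F243314) (tt N23080 (iv F250214)) (tt N19871 F243315) (tt N22569 (iv F248416)) (tt N19861 (iv D54372)) (tt N23046 (iv F250117)))
theorem Q21604 : ∀ i, i < 21604 → P i := stepQ 21603 Q21603 (allL N21603 (tt N22696 (iv F248950)) (tt N22257 (iv F246949)) (tt N22752 (iv F249199)) (tt N21749 (iv F243963)) (tt N21603 F243316) (tt N19874 F243317) (tt N19864 F243318) (tt N22922 (iv F249816)) (tt N23082 D55852) (tt N19863 (iv D54373)))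
theorem Q21605 : ∀ i, i < 21605 → P i := stepQ 21604 Q21604 (allL N21604 (tt N23023 (iv F250064)) (tt N22818 (iv F249480)) (tt N23080 (iv F250212)) (tt N23083 D55853) (tt N21604 F243319) (tt N19865 F243320) (tt N23082 (iv F250218)) (tt N22572 (iv F248430)) (tt N19864 (iv D54374)) (tt N23047 (iv F250120)))
theorem Q21606 : ∀ i, i < 21606 → P i := stepQ 21605 Q21605 (allL N21605 (tt N23024 (iv F250067)) (tt N22819 (iv F249483)) (tt N23084 D55854) (tt N19865 (iv D54375)) (tt N22992 (iv F249980)) (tt N23083 (iv F250219)) (tt N19876 F243321) (tt N22573 (iv F248432)) (tt N22945 (iv F249872)) (tt N23048 (iv F250122)))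
theorem Q21607 : ∀ i, i < 21607 → P i := stepQ 21606 Q21606 (allL N21606 (tt N22536 (iv F248253)) (tt N19870 F243322) (tt N22820 (iv F249486)) (tt N19928 F243323) (tt N19903 F243324) (tt N19867 F243325) (tt N22749 (iv F249190)) (tt N19883 F243326) (tt N23085 D55855) (tt N19866 (iv D54376)))
theorem Q21608 : ∀ i, i < 21608 → P i := stepQ 21607 Q21607 (allL N21607 (tt N22538 (iv F248263)) (tt N19871 F243327) (tt N22821 (iv F249491)) (tt N23086 D55856) (tt N19868 F243328) (tt N23085 (iv F250223)) (tt N22666 (iv F248790)) (tt N19884 F243329) (tt N19867 (iv D54377)) (tt N23049 (iv F250126)))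
theorem Q21609 : ∀ i, i < 21609 → P i := stepQ 21608 Q21608 (allL N21608 (tt N21987 (iv F245428)) (tt N19895 F243330) (tt N21897 (iv F244905)) (tt N23087 D55857) (tt N19885 F243331) (tt N21893 (iv F244879)) (tt N22602 (iv F248551)) (tt N19890 F243332) (tt N19869 (iv D54378)) (tt N22465 (iv F247922)))
theorem Q21610 : ∀ i, i < 21610 → P i := stepQ 21609 Q21609 (allL N21609 (tt N21984 (iv F245407)) (tt N23085 (iv F250221)) (tt N19875 F243333) (tt N23088 D55858) (tt N19905 F243334) (tt N19871 F243335) (tt N22753 (iv F249207)) (tt N19893 F243336) (tt N19870 (iv D54379)) (tt N22785 (iv F249350)))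
theorem Q21611 : ∀ i, i < 21611 → P i := stepQ 21610 Q21610 (allL N21610 (tt N23026 (iv F250072)) (tt N23086 (iv F250225)) (tt N23089 D55859) (tt N19871 (iv D54380)) (tt N23090 D55860) (tt N23088 (iv F250233)) (tt N23081 (iv F250215)) (tt N19894 F243337) (tt N23087 (iv F250232)) (tt N23051 (iv F250130)))
theorem Q21612 : ∀ i, i < 21612 → P i := stepQ 21611 Q21611 (allL N21611 (tt N22528 (iv F248218)) (tt N19890 F243338) (tt N22442 (iv F247801)) (tt N23090 (iv F250238)) (tt N19872 (iv D54381)) (tt N23091 D55861) (tt N22598 (iv F248538)) (tt N19895 F243339) (tt N19881 F243340) (tt N22459 (iv F247896)))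
theorem Q21613 : ∀ i, i < 21613 → P i := stepQ 21612 Q21612 (allL N21612 (tt N21803 (iv F244305)) (tt N22249 (iv F246916)) (tt N22743 (iv F249159)) (tt N21747 (iv F243947)) (tt N19908 F243341) (tt N22922 (iv F249815)) (tt N19896 F243342) (tt N19874 F243343) (tt N23092 D55862) (tt N19873 (iv D54382)))
theorem Q21614 : ∀ i, i < 21614 → P i := stepQ 21613 Q21613 (allL N21613 (tt N22697 (iv F248958)) (tt N22258 (iv F246954)) (tt N22753 (iv F249205)) (tt N23093 D55863) (tt N19909 F243344) (tt N23082 (iv F250217)) (tt N19875 F243345) (tt N23092 (iv F250247)) (tt N19874 (iv D54383)) (tt N21923 (iv F245056)))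
theorem Q21615 : ∀ i, i < 21615 → P i := stepQ 21614 Q21614 (allL N21614 (tt N22714 (iv F249033)) (tt N22830 (iv F249521)) (tt N23094 D55864) (tt N19875 (iv D54384)) (tt N22748 (iv F249185)) (tt N19876 F243346) (tt N23093 (iv F250248)) (tt N19898 F243347) (tt N22690 (iv F248924)) (tt N22787 (iv F249359)))
theorem Q21616 : ∀ i, i < 21616 → P i := stepQ 21615 Q21615 (allL N21615 (tt N23027 (iv F250074)) (tt N23095 D55865) (tt N19876 (iv D54385)) (tt N23089 (iv F250235)) (tt N23001 (iv F250008)) (tt N23094 (iv F250249)) (tt N23084 (iv F250220)) (tt N19899 F243348) (tt N22950 (iv F249884)) (tt N23052 (iv F250132)))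
theorem Q21617 : ∀ i, i < 21617 → P i := stepQ 21616 Q21616 (allL N21616 (tt N19883 F243349) (tt N22715 (iv F249039)) (tt N22832 (iv F249529)) (tt N22527 (iv F248214)) (tt N19910 F243350) (tt N19878 F243351) (tt N22801 (iv F249420)) (tt N22536 (iv F248257)) (tt N23096 D55866) (tt N19877 (iv D54386)))
theorem Q21618 : ∀ i, i < 21618 → P i := stepQ 21617 Q21617 (allL N21617 (tt N19884 F243352) (tt N23028 (iv F250077)) (tt N22833 (iv F249534)) (tt N23097 D55867) (tt N19879 F243353) (tt N23096 (iv F250254)) (tt N22595 (iv F248526)) (tt N22538 (iv F248266)) (tt N19878 (iv D54387)) (tt N23053 (iv F250135)))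
theorem Q21619 : ∀ i, i < 21619 → P i := stepQ 21618 Q21618 (allL N21618 (tt N22526 (iv F248204)) (tt N19886 F243354) (tt N22440 (iv F247792)) (tt N19882 F243355) (tt N19950 F243356) (tt N22596 (iv F248531)) (tt N19880 (iv D54388)) (tt N22734 (iv F249123)) (tt N22457 (iv F247884)) (tt N23098 D55868))
theorem Q21620 : ∀ i, i < 21620 → P i := stepQ 21619 Q21619 (allL N21619 (tt N22527 (iv F248212)) (tt N19888 F243357) (tt N22441 (iv F247796)) (tt N19883 F243358) (tt N19929 F243359) (tt N19881 F243360) (tt N23098 (iv F250259)) (tt N19928 F243361) (tt N23091 (iv F250244)) (tt N19880 (iv D54389)))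
theorem Q21621 : ∀ i, i < 21621 → P i := stepQ 21620 Q21620 (allL N21620 (tt N22801 (iv F249415)) (tt N19892 F243362) (tt N22837 (iv F249546)) (tt N23098 (iv F250257)) (tt N19912 F243363) (tt N22599 (iv F248543)) (tt N19883 F243364) (tt N23035 (iv F250092)) (tt N23099 D55869) (tt N19882 (iv D54390)))
theorem Q21622 : ∀ i, i < 21622 → P i := stepQ 21621 Q21621 (allL N21621 (tt N23096 (iv F250252)) (tt N19893 F243365) (tt N22838 (iv F249551)) (tt N23100 D55870) (tt N19913 F243366) (tt N19884 F243367) (tt N23099 (iv F250262)) (tt N23085 (iv F250224)) (tt N19883 (iv D54391)) (tt N23057 (iv F250147)))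
theorem Q21623 : ∀ i, i < 21623 → P i := stepQ 21622 Q21622 (allL N21622 (tt N23097 (iv F250255)) (tt N19894 F243368) (tt N23101 D55871) (tt N19884 (iv D54392)) (tt N23087 (iv F250230)) (tt N23100 (iv F250264)) (tt N22601 (iv F248549)) (tt N23086 (iv F250227)) (tt N23090 (iv F250240)) (tt N23058 (iv F250149)))
theorem Q21624 : ∀ i, i < 21624 → P i := stepQ 21623 Q21623 (allL N21623 (tt N21815 (iv F244383)) (tt N22457 (iv F247881)) (tt N21774 (iv F244124)) (tt N23059 (iv F250150)) (tt N19973 F243369) (tt N22604 (iv F248560)) (tt N19887 F243370) (tt N21777 (iv F244146)) (tt N19886 (iv D54393)) (tt N23102 D55872))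
theorem Q21625 : ∀ i, i < 21625 → P i := stepQ 21624 Q21624 (allL N21624 (tt N21816 (iv F244388)) (tt N23098 (iv F250256)) (tt N21890 (iv F244859)) (tt N19892 F243371) (tt N19974 F243372) (tt N22605 (iv F248564)) (tt N19888 F243373) (tt N22736 (iv F249135)) (tt N23103 D55873) (tt N19886 (iv D54394)))
theorem Q21626 : ∀ i, i < 21626 → P i := stepQ 21625 Q21625 (allL N21625 (tt N21930 (iv F245091)) (tt N22458 (iv F247886)) (tt N21879 (iv F244786)) (tt N23061 (iv F250156)) (tt N19975 F243374) (tt N19889 F243375) (tt N23102 (iv F250266)) (tt N21882 (iv F244810)) (tt N23104 D55874) (tt N19887 (iv D54395)))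
theorem Q21627 : ∀ i, i < 21627 → P i := stepQ 21626 Q21626 (allL N21626 (tt N21969 (iv F245320)) (tt N23091 (iv F250241)) (tt N21892 (iv F244871)) (tt N23105 D55875) (tt N19976 F243376) (tt N19890 F243377) (tt N23103 (iv F250268)) (tt N21893 (iv F244881)) (tt N19888 (iv D54396)) (tt N23104 (iv F250271)))
theorem Q21628 : ∀ i, i < 21628 → P i := stepQ 21627 Q21627 (allL N21627 (tt N23031 (iv F250082)) (tt N22459 (iv F247892)) (tt N22957 (iv F249898)) (tt N23106 D55876) (tt N19927 F243378) (tt N23104 (iv F250270)) (tt N22608 (iv F248571)) (tt N22465 (iv F247921)) (tt N19889 (iv D54397)) (tt N19890 F243379))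
theorem Q21629 : ∀ i, i < 21629 → P i := stepQ 21628 Q21628 (allL N21628 (tt N23032 (iv F250085)) (tt N23090 (iv F250237)) (tt N23107 D55877) (tt N19890 (iv D54398)) (tt N23086 (iv F250226)) (tt N23105 (iv F250272)) (tt N22609 (iv F248573)) (tt N23087 (iv F250231)) (tt N19894 F243380) (tt N23106 (iv F250274)))
theorem Q21630 : ∀ i, i < 21630 → P i := stepQ 21629 Q21629 (allL N21629 (tt N21806 (iv F244327)) (tt N23035 (iv F250090)) (tt N19896 F243381) (tt N22736 (iv F249132)) (tt N19915 F243382) (tt N22610 (iv F248577)) (tt N22743 (iv F249162)) (tt N19892 F243383) (tt N23108 D55878) (tt N19891 (iv D54399)))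
theorem Q21631 : ∀ i, i < 21631 → P i := stepQ 21630 Q21630 (allL N21630 (tt N21818 (iv F244400)) (tt N23099 (iv F250260)) (tt N19897 F243384) (tt N23109 D55879) (tt N19916 F243385) (tt N22611 (iv F248581)) (tt N19893 F243386) (tt N23108 (iv F250278)) (tt N19892 (iv D54400)) (tt N23066 (iv F250170)))
theorem Q21632 : ∀ i, i < 21632 → P i := stepQ 21631 Q21631 (allL N21631 (tt N22719 (iv F249057)) (tt N23100 (iv F250263)) (tt N23110 D55880) (tt N19893 (iv D54401)) (tt N23111 D55881) (tt N19894 F243387) (tt N23109 (iv F250279)) (tt N23088 (iv F250234)) (tt N23105 (iv F250273)) (tt N23067 (iv F250172)))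
theorem Q21633 : ∀ i, i < 21633 → P i := stepQ 21632 Q21632 (allL N21632 (tt N23033 (iv F250087)) (tt N23112 D55882) (tt N19894 (iv D54402)) (tt N19899 F243388) (tt N23113 D55883) (tt N23110 (iv F250281)) (tt N22613 (iv F248585)) (tt N23089 (iv F250236)) (tt N23107 (iv F250275)) (tt N23068 (iv F250174)))
theorem Q21634 : ∀ i, i < 21634 → P i := stepQ 21633 Q21633 (allL N21633 (tt N22541 (iv F248278)) (tt N23087 (iv F250229)) (tt N23113 (iv F250284)) (tt N19895 F243389) (tt N19894 (iv D54403)) (tt N23114 D55884) (tt N22614 (iv F248588)) (tt N23090 (iv F250239)) (tt N23086 (iv F250228)) (tt N22471 (iv F247950)))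
theorem Q21635 : ∀ i, i < 21635 → P i := stepQ 21634 Q21634 (allL N21634 (tt N22540 (iv F248273)) (tt N21893 (iv F244876)) (tt N22443 (iv F247806)) (tt N23114 (iv F250285)) (tt N19919 F243390) (tt N19895 (iv D54404)) (tt N22750 (iv F249193)) (tt N23091 (iv F250243)) (tt N19928 F243391) (tt N22470 (iv F247946)))
theorem Q21636 : ∀ i, i < 21636 → P i := stepQ 21635 Q21635 (allL N21635 (tt N21810 (iv F244351)) (tt N22852 (iv F249581)) (tt N23108 (iv F250276)) (tt N23115 D55885) (tt N19920 F243392) (tt N22616 (iv F248596)) (tt N23092 (iv F250246)) (tt N19897 F243393) (tt N19896 (iv D54405)) (tt N23069 (iv F250177)))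
theorem Q21637 : ∀ i, i < 21637 → P i := stepQ 21636 Q21636 (allL N21636 (tt N21821 (iv F244414)) (tt N22853 (iv F249584)) (tt N23116 D55886) (tt N19897 (iv D54406)) (tt N21898 (iv F244910)) (tt N22617 (iv F248598)) (tt N19898 F243394) (tt N23115 (iv F250286)) (tt N22965 (iv F249913)) (tt N23070 (iv F250179)))
theorem Q21638 : ∀ i, i < 21638 → P i := stepQ 21637 Q21637 (allL N21637 (tt N22721 (iv F249062)) (tt N23117 D55887) (tt N19898 (iv D54407)) (tt N23110 (iv F250280)) (tt N22758 (iv F249221)) (tt N19899 F243395) (tt N23116 (iv F250287)) (tt N23094 (iv F250250)) (tt N22966 (iv F249915)) (tt N23071 (iv F250181)))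
theorem Q21639 : ∀ i, i < 21639 → P i := stepQ 21638 Q21638 (allL N21638 (tt N23118 D55888) (tt N19899 (iv D54408)) (tt N22855 (iv F249587)) (tt N23112 (iv F250283)) (tt N23011 (iv F250031)) (tt N23117 (iv F250288)) (tt N22620 (iv F248602)) (tt N23095 (iv F250251)) (tt N22967 (iv F249916)) (tt N23072 (iv F250182)))
theorem Q21640 : ∀ i, i < 21640 → P i := stepQ 21639 Q21639 (allL N21639 (tt N19903 F243396) (tt N22029 (iv F245641)) (tt N22856 (iv F249590)) (tt N19968 F243397) (tt N22536 (iv F248255)) (tt N19901 F243398) (tt N22496 (iv F248069)) (tt N19910 F243399) (tt N23119 D55889) (tt N19900 (iv D54409)))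
theorem Q21641 : ∀ i, i < 21641 → P i := stepQ 21640 Q21640 (allL N21640 (tt N19904 F243400) (tt N22722 (iv F249066)) (tt N22857 (iv F249596)) (tt N21996 (iv F245459)) (tt N19902 F243401) (tt N23119 (iv F250290)) (tt N21640 F243402) (tt N19911 F243403) (tt N19901 (iv D54410)) (tt N22869 (iv F249650)))
theorem Q21642 : ∀ i, i < 21642 → P i := stepQ 21641 Q21641 (allL N21641 (tt N23119 (iv F250289)) (tt N19905 F243404) (tt N22858 (iv F249602)) (tt N23120 D55890) (tt N23085 (iv F250222)) (tt N19904 F243405) (tt N22772 (iv F249288)) (tt N19913 F243406) (tt N19903 (iv D54411)) (tt N22783 (iv F249340)))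
theorem Q21643 : ∀ i, i < 21643 → P i := stepQ 21642 Q21642 (allL N21642 (tt N21996 (iv F245458)) (tt N19906 F243407) (tt N23121 D55891) (tt N19904 (iv D54412)) (tt N19978 F243408) (tt N23120 (iv F250293)) (tt N21642 F243409) (tt N19914 F243410) (tt N19982 F243411) (tt N23073 (iv F250188)))
theorem Q21644 : ∀ i, i < 21644 → P i := stepQ 21643 Q21643 (allL N21643 (tt N22036 (iv F245682)) (tt N23120 (iv F250292)) (tt N22746 (iv F249174)) (tt N19905 (iv D54413)) (tt N23122 D55892) (tt N19906 F243412) (tt N22775 (iv F249298)) (tt N19917 F243413) (tt N19986 F243414) (tt N22786 (iv F249354)))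
theorem Q21645 : ∀ i, i < 21645 → P i := stepQ 21644 Q21644 (allL N21644 (tt N22548 (iv F248305)) (tt N19978 F243415) (tt N22762 (iv F249238)) (tt N19907 F243416) (tt N19906 (iv D54414)) (tt N23123 D55893) (tt N21644 F243417) (tt N19918 F243418) (tt N19972 F243419) (tt N22476 (iv F247973)))
theorem Q21646 : ∀ i, i < 21646 → P i := stepQ 21645 Q21645 (allL N21645 (tt N22547 (iv F248300)) (tt N19976 F243420) (tt N22446 (iv F247820)) (tt N23123 (iv F250303)) (tt N23091 (iv F250242)) (tt N19907 (iv D54415)) (tt N23124 D55894) (tt N19919 F243421) (tt N19929 F243422) (tt N22475 (iv F247966)))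
theorem Q21647 : ∀ i, i < 21647 → P i := stepQ 21646 Q21646 (allL N21646 (tt N21804 (iv F244313)) (tt N22250 (iv F246921)) (tt N22769 (iv F249272)) (tt N21891 (iv F244866)) (tt N23092 (iv F250245)) (tt N21646 F243423) (tt N19920 F243424) (tt N19909 F243425) (tt N19908 (iv D54416)) (tt N21914 (iv F245012)))
theorem Q21648 : ∀ i, i < 21648 → P i := stepQ 21647 Q21647 (allL N21647 (tt N19913 F243426) (tt N22716 (iv F249045)) (tt N22862 (iv F249619)) (tt N22006 (iv F245522)) (tt N23096 (iv F250253)) (tt N19911 F243427) (tt N22814 (iv F249467)) (tt N23119 (iv F250291)) (tt N19910 (iv D54417)) (tt N22864 (iv F249633)))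
theorem Q21649 : ∀ i, i < 21649 → P i := stepQ 21648 Q21648 (allL N21648 (tt N22814 (iv F249463)) (tt N19916 F243428) (tt N22864 (iv F249630)) (tt N23125 D55895) (tt N23099 (iv F250261)) (tt N19922 F243429) (tt N19913 F243430) (tt N23036 (iv F250096)) (tt N19912 (iv D54418)) (tt N22862 (iv F249622)))
theorem Q21650 : ∀ i, i < 21650 → P i := stepQ 21649 Q21649 (allL N21649 (tt N22006 (iv F245521)) (tt N19917 F243431) (tt N23126 D55896) (tt N19913 (iv D54419)) (tt N23127 D55897) (tt N19914 F243432) (tt N23125 (iv F250311)) (tt N23120 (iv F250294)) (tt N19989 F243433) (tt N23074 (iv F250192)))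
theorem Q21651 : ∀ i, i < 21651 → P i := stepQ 21650 Q21650 (allL N21650 (tt N21831 (iv F244472)) (tt N22646 (iv F248697)) (tt N19914 (iv D54420)) (tt N22649 (iv F248713)) (tt N19926 F243434) (tt N23126 (iv F250313)) (tt N19924 F243435) (tt N23121 (iv F250298)) (tt N19990 F243436) (tt N23075 (iv F250196)))
theorem Q21652 : ∀ i, i < 21652 → P i := stepQ 21651 Q21651 (allL N21651 (tt N21807 (iv F244334)) (tt N23036 (iv F250094)) (tt N19920 F243437) (tt N23128 D55898) (tt N23108 (iv F250277)) (tt N19925 F243438) (tt N22769 (iv F249274)) (tt N19916 F243439) (tt N19915 (iv D54421)) (tt N23076 (iv F250200)))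
theorem Q21653 : ∀ i, i < 21653 → P i := stepQ 21652 Q21652 (allL N21652 (tt N21819 (iv F244404)) (tt N23125 (iv F250309)) (tt N21894 (iv F244884)) (tt N19916 (iv D54422)) (tt N23129 D55899) (tt N19926 F243440) (tt N19917 F243441) (tt N23128 (iv F250319)) (tt N19991 F243442) (tt N23077 (iv F250204)))
theorem Q21654 : ∀ i, i < 21654 → P i := stepQ 21653 Q21653 (allL N21653 (tt N22720 (iv F249059)) (tt N23127 (iv F250315)) (tt N22756 (iv F249214)) (tt N23111 (iv F250282)) (tt N19917 (iv D54423)) (tt N23130 D55900) (tt N23129 (iv F250321)) (tt N23122 (iv F250300)) (tt N19992 F243443) (tt N23078 (iv F250206)))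
theorem Q21655 : ∀ i, i < 21655 → P i := stepQ 21654 Q21654 (allL N21654 (tt N22555 (iv F248344)) (tt N21894 (iv F244883)) (tt N22765 (iv F249251)) (tt N19919 F243444) (tt N23130 (iv F250323)) (tt N19918 (iv D54424)) (tt N22751 (iv F249196)) (tt N23123 (iv F250304)) (tt N19993 F243445) (tt N22480 (iv F247989)))
theorem Q21656 : ∀ i, i < 21656 → P i := stepQ 21655 Q21655 (allL N21655 (tt N19997 F243446) (tt N19925 F243447) (tt N22869 (iv F249646)) (tt N23131 D55901) (tt N22647 (iv F248705)) (tt N23036 (iv F250095)) (tt N21655 F243448) (tt N19922 F243449) (tt N19921 (iv D54425)) (tt N22857 (iv F249600)))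
theorem Q21657 : ∀ i, i < 21657 → P i := stepQ 21656 Q21656 (allL N21656 (tt N22013 (iv F245551)) (tt N19926 F243450) (tt N22763 (iv F249243)) (tt N19922 (iv D54426)) (tt N22646 (iv F248699)) (tt N23125 (iv F250310)) (tt N19923 F243451) (tt N23131 (iv F250328)) (tt N19995 F243452) (tt N22863 (iv F249627)))
theorem Q21658 : ∀ i, i < 21658 → P i := stepQ 21657 Q21657 (allL N21657 (tt N21824 (iv F244431)) (tt N23131 (iv F250326)) (tt N19978 F243453) (tt N19925 (iv D54427)) (tt N23121 (iv F250296)) (tt N23128 (iv F250318)) (tt N21657 F243454) (tt N19926 F243455) (tt N19981 F243456) (tt N23079 (iv F250211)))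
theorem Q21659 : ∀ i, i < 21659 → P i := stepQ 21658 Q21658 (allL N21658 (tt N22546 (iv F248293)) (tt N19974 F243457) (tt N22445 (iv F247815)) (tt N19970 F243458) (tt N23098 (iv F250258)) (tt N21658 F243459) (tt N19929 (iv D54428)) (tt N22735 (iv F249129)) (tt N23124 (iv F250308)) (tt N19950 F243460))
theorem Q21660 : ∀ i, i < 21660 → P i := stepQ 21659 Q21659 (allL N21659 (tt N19944 F243461) (tt N21843 (iv F244548)) (tt N22167 (iv F246477)) (tt N19930 (iv D54429)) (tt N23132 D55902) (tt N19999 F243462) (tt N22669 (iv F248807)) (tt N21847 (iv F244581)) (tt N23018 (iv F250052)) (tt N21659 F243463))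
theorem Q21661 : ∀ i, i < 21661 → P i := stepQ 21660 Q21660 (allL N21660 (tt N19970 F243464) (tt N19934 F243465) (tt N21660 F243466) (tt N22546 (iv F248296)) (tt N19932 F243467) (tt N21660 F243468) (tt N19969 F243469) (tt N19939 F243470) (tt N23133 D55903) (tt N19931 (iv D54430)))
theorem Q21662 : ∀ i, i < 21662 → P i := stepQ 21661 Q21661 (allL N21661 (tt N19988 F243471) (tt N19935 F243472) (tt N21661 F243473) (tt N22042 (iv F245716)) (tt N23133 (iv F250335)) (tt N19994 F243474) (tt N19987 F243475) (tt N19940 F243476) (tt N19932 (iv D54431)) (tt N21661 F243477))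
theorem Q21663 : ∀ i, i < 21663 → P i := stepQ 21662 Q21662 (allL N21662 (tt N21845 (iv F244561)) (tt N22546 (iv F248294)) (tt N19945 F243478) (tt N19934 F243479) (tt N22804 (iv F249432)) (tt N21662 F243480) (tt N21966 (iv F245308)) (tt N19942 F243481) (tt N23134 D55904) (tt N19933 (iv D54432)))
theorem Q21664 : ∀ i, i < 21664 → P i := stepQ 21663 Q21663 (allL N21663 (tt N21846 (iv F244568)) (tt N23133 (iv F250333)) (tt N19936 F243482) (tt N23135 D55905) (tt N19935 F243483) (tt N21663 F243484) (tt N22026 (iv F245629)) (tt N19943 F243485) (tt N19934 (iv D54433)) (tt N21663 F243486))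
theorem Q21665 : ∀ i, i < 21665 → P i := stepQ 21664 Q21664 (allL N21664 (tt N19940 F243487) (tt N19984 F243488) (tt N21664 F243489) (tt N23136 D55906) (tt N22766 (iv F249256)) (tt N19985 F243490) (tt N22672 (iv F248827)) (tt N19988 F243491) (tt N19937 (iv D54434)) (tt N21664 F243492))
theorem Q21666 : ∀ i, i < 21666 → P i := stepQ 21665 Q21665 (allL N21665 (tt N22735 (iv F249124)) (tt N19942 F243493) (tt N22549 (iv F248313)) (tt N19939 F243494) (tt N23037 (iv F250099)) (tt N21665 F243495) (tt N22553 (iv F248336)) (tt N22546 (iv F248299)) (tt N23137 D55907) (tt N19938 (iv D54435)))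
theorem Q21667 : ∀ i, i < 21667 → P i := stepQ 21666 Q21666 (allL N21666 (tt N22766 (iv F249253)) (tt N19943 F243496) (tt N21666 F243497) (tt N23138 D55908) (tt N19940 F243498) (tt N21666 F243499) (tt N22673 (iv F248835)) (tt N23133 (iv F250338)) (tt N19939 (iv D54436)) (tt N21666 F243500))
theorem Q21668 : ∀ i, i < 21668 → P i := stepQ 21667 Q21667 (allL N21667 (tt N23136 (iv F250346)) (tt N19944 F243501) (tt N23139 D55909) (tt N19940 (iv D54437)) (tt N23140 D55910) (tt N20000 F243502) (tt N22674 (iv F248840)) (tt N22042 F245719) (tt N23039 (iv F250104)) (tt N21667 F243503))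
theorem Q21669 : ∀ i, i < 21669 → P i := stepQ 21668 Q21668 (allL N21668 (tt N22679 (iv F248861)) (tt N22623 (iv F248611)) (tt N19948 F243504) (tt N21668 F243505) (tt N23040 (iv F250106)) (tt N21668 F243506) (tt N22633 (iv F248656)) (tt N22490 (iv F248033)) (tt N23141 D55911) (tt N19941 (iv D54438)))
theorem Q21670 : ∀ i, i < 21670 → P i := stepQ 21669 Q21669 (allL N21669 (tt N22665 (iv F248783)) (tt N23137 (iv F250351)) (tt N19949 F243507) (tt N23142 D55912) (tt N23041 (iv F250108)) (tt N21669 F243508) (tt N22675 (iv F248845)) (tt N23134 (iv F250342)) (tt N19942 (iv D54439)) (tt N23141 (iv F250363)))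
theorem Q21671 : ∀ i, i < 21671 → P i := stepQ 21670 Q21670 (allL N21670 (tt N22355 (iv F247372)) (tt N23138 (iv F250353)) (tt N22016 (iv F245573)) (tt N19943 (iv D54440)) (tt N23143 D55913) (tt N21670 F243509) (tt N22017 (iv F245580)) (tt N23135 (iv F250344)) (tt N23142 (iv F250365)) (tt N21670 F243510))
theorem Q21672 : ∀ i, i < 21672 → P i := stepQ 21671 Q21671 (allL N21671 (tt N23132 (iv F250330)) (tt N23140 (iv F250359)) (tt N22412 (iv F247652)) (tt N23143 (iv F250366)) (tt N19944 (iv D54441)) (tt N22655 (iv F248736)) (tt N22676 (iv F248847)) (tt N22415 (iv F247666)) (tt N23043 (iv F250109)) (tt N21671 F243511))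
theorem Q21673 : ∀ i, i < 21673 → P i := stepQ 21672 Q21672 (allL N21672 (tt N22565 (iv F248392)) (tt N22492 (iv F248041)) (tt N23134 (iv F250340)) (tt N22488 (iv F248018)) (tt N23050 (iv F250127)) (tt N21672 F243512) (tt N22575 (iv F248442)) (tt N19949 F243513) (tt N19945 (iv D54442)) (tt N22491 (iv F248039)))
theorem Q21674 : ∀ i, i < 21674 → P i := stepQ 21673 Q21673 (allL N21673 (tt N22343 (iv F247310)) (tt N22549 (iv F248312)) (tt N19947 F243514) (tt N21673 F243515) (tt N23054 (iv F250137)) (tt N21673 F243516) (tt N21956 (iv F245249)) (tt N21950 (iv F245210)) (tt N23144 D55914) (tt N19946 (iv D54443)))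
theorem Q21675 : ∀ i, i < 21675 → P i := stepQ 21674 Q21674 (allL N21674 (tt N22663 (iv F248771)) (tt N19949 F243517) (tt N23144 (iv F250368)) (tt N22491 (iv F248035)) (tt N23056 (iv F250143)) (tt N21674 F243518) (tt N22677 (iv F248853)) (tt N22492 (iv F248045)) (tt N19947 (iv D54444)) (tt N22488 (iv F248021)))
theorem Q21676 : ∀ i, i < 21676 → P i := stepQ 21675 Q21675 (allL N21675 (tt N22664 (iv F248777)) (tt N22488 (iv F248017)) (tt N23141 (iv F250361)) (tt N22492 (iv F248042)) (tt N23063 (iv F250161)) (tt N21675 F243519) (tt N22678 (iv F248858)) (tt N22491 (iv F248038)) (tt N19948 (iv D54445)) (tt N19949 F243520))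
theorem Q21677 : ∀ i, i < 21677 → P i := stepQ 21676 Q21676 (allL N21676 (tt N22410 (iv F247642)) (tt N19955 F243521) (tt N22723 (iv F249073)) (tt N19952 (iv D54446)) (tt N22014 (iv F245559)) (tt N22973 (iv F249930)) (tt N21676 F243522) (tt N21874 (iv F244754)) (tt N19953 F243523) (tt N22428 (iv F247722)))
theorem Q21678 : ∀ i, i < 21678 → P i := stepQ 21677 Q21677 (allL N21677 (tt N21952 (iv F245217)) (tt N22428 (iv F247718)) (tt N22813 (iv F249458)) (tt N19954 (iv D54447)) (tt N22562 (iv F248375)) (tt N22976 (iv F249938)) (tt N21677 F243524) (tt N21888 (iv F244849)) (tt N21677 F243525) (tt N19955 F243526))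
theorem Q21679 : ∀ i, i < 21679 → P i := stepQ 21678 Q21678 (allL N21678 (tt N19983 F243527) (tt N22030 (iv F245648)) (tt N21678 F243528) (tt N22040 (iv F245705)) (tt N19965 F243529) (tt N19963 (iv D54448)) (tt N22670 (iv F248815)) (tt N19987 F243530) (tt N19968 F243531) (tt N21678 F243532))
theorem Q21680 : ∀ i, i < 21680 → P i := stepQ 21679 Q21679 (allL N21679 (tt N19971 F243533) (tt N22026 (iv F245625)) (tt N21679 F243534) (tt N22726 (iv F249085)) (tt N19987 F243535) (tt N19964 (iv D54449)) (tt N23133 (iv F250337)) (tt N19965 F243536) (tt N19969 F243537) (tt N21679 F243538))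
theorem Q21681 : ∀ i, i < 21681 → P i := stepQ 21680 Q21680 (allL N21680 (tt N23133 (iv F250332)) (tt N19979 F243539) (tt N21680 F243540) (tt N23145 D55915) (tt N19988 F243541) (tt N21680 F243542) (tt N19971 F243543) (tt N22766 (iv F249259)) (tt N19970 (iv D54450)) (tt N21680 F243544))
theorem Q21682 : ∀ i, i < 21682 → P i := stepQ 21681 Q21681 (allL N21681 (tt N22726 (iv F249083)) (tt N19980 F243545) (tt N22779 (iv F249316)) (tt N19971 (iv D54451)) (tt N23146 D55916) (tt N19972 F243546) (tt N23145 (iv F250372)) (tt N19993 F243547) (tt N23123 (iv F250305)) (tt N21681 F243548))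
theorem Q21683 : ∀ i, i < 21683 → P i := stepQ 21682 Q21682 (allL N21682 (tt N21848 (iv F244583)) (tt N22474 (iv F247956)) (tt N21775 (iv F244131)) (tt N21682 F243549) (tt N23102 (iv F250265)) (tt N21682 F243550) (tt N19975 F243551) (tt N21778 (iv F244153)) (tt N23147 D55917) (tt N19973 (iv D54452)))
theorem Q21684 : ∀ i, i < 21684 → P i := stepQ 21683 Q21683 (allL N21683 (tt N21849 (iv F244589)) (tt N23124 (iv F250306)) (tt N21891 (iv F244865)) (tt N23148 D55918) (tt N23103 (iv F250267)) (tt N21683 F243552) (tt N19976 F243553) (tt N22737 (iv F249140)) (tt N19974 (iv D54453)) (tt N23147 (iv F250381)))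
theorem Q21685 : ∀ i, i < 21685 → P i := stepQ 21684 Q21684 (allL N21684 (tt N21931 (iv F245096)) (tt N22475 (iv F247962)) (tt N21880 (iv F244791)) (tt N23149 D55919) (tt N23104 (iv F250269)) (tt N19977 F243554) (tt N23147 (iv F250380)) (tt N21883 (iv F244816)) (tt N19975 (iv D54454)) (tt N19976 F243555))
theorem Q21686 : ∀ i, i < 21686 → P i := stepQ 21685 Q21685 (allL N21685 (tt N21970 (iv F245325)) (tt N23123 (iv F250302)) (tt N23128 (iv F250317)) (tt N19976 (iv D54455)) (tt N23150 D55920) (tt N19978 F243556) (tt N23148 (iv F250383)) (tt N21894 (iv F244887)) (tt N19980 F243557) (tt N23149 (iv F250387)))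
theorem Q21687 : ∀ i, i < 21687 → P i := stepQ 21686 Q21686 (allL N21686 (tt N21949 (iv F245199)) (tt N22476 (iv F247968)) (tt N23079 (iv F250207)) (tt N19977 (iv D54456)) (tt N23073 (iv F250184)) (tt N23149 (iv F250385)) (tt N21686 F243558) (tt N21886 (iv F244834)) (tt N21686 F243559) (tt N19978 F243560))
theorem Q21688 : ∀ i, i < 21688 → P i := stepQ 21687 Q21687 (allL N21687 (tt N21850 (iv F244594)) (tt N23145 (iv F250370)) (tt N22770 (iv F249277)) (tt N19979 (iv D54457)) (tt N23151 D55921) (tt N21687 F243561) (tt N19980 F243562) (tt N22767 (iv F249265)) (tt N23148 (iv F250384)) (tt N21687 F243563))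
theorem Q21689 : ∀ i, i < 21689 → P i := stepQ 21688 Q21688 (allL N21688 (tt N21843 (iv F244547)) (tt N23136 (iv F250347)) (tt N19980 (iv D54458)) (tt N19984 F243564) (tt N23152 D55922) (tt N19981 F243565) (tt N22770 (iv F249279)) (tt N19991 F243566) (tt N23128 (iv F250320)) (tt N21688 F243567))
theorem Q21690 : ∀ i, i < 21690 → P i := stepQ 21689 Q21689 (allL N21689 (tt N22028 (iv F245636)) (tt N23146 (iv F250374)) (tt N23152 (iv F250392)) (tt N19992 F243568) (tt N19980 (iv D54459)) (tt N23153 D55923) (tt N23151 (iv F250390)) (tt N21908 (iv F244977)) (tt N23150 (iv F250388)) (tt N21689 F243569))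
theorem Q21691 : ∀ i, i < 21691 → P i := stepQ 21690 Q21690 (allL N21690 (tt N20000 F243570) (tt N19981 (iv D54460)) (tt N22778 (iv F249310)) (tt N19985 F243571) (tt N22656 (iv F248742)) (tt N23136 (iv F250348)) (tt N21690 F243572) (tt N19995 F243573) (tt N23131 (iv F250329)) (tt N21690 F243574))
theorem Q21692 : ∀ i, i < 21692 → P i := stepQ 21691 Q21691 (allL N21691 (tt N21852 (iv F244604)) (tt N22656 (iv F248739)) (tt N19982 F243575) (tt N21691 F243576) (tt N19981 (iv D54461)) (tt N23154 D55924) (tt N21691 F243577) (tt N19990 F243578) (tt N23121 (iv F250299)) (tt N21691 F243579))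
theorem Q21693 : ∀ i, i < 21693 → P i := stepQ 21692 Q21692 (allL N21692 (tt N22040 (iv F245704)) (tt N19986 F243580) (tt N23154 (iv F250400)) (tt N19983 F243581) (tt N23153 (iv F250397)) (tt N19982 (iv D54462)) (tt N22773 (iv F249291)) (tt N19989 F243582) (tt N23120 (iv F250295)) (tt N21692 F243583))
theorem Q21694 : ∀ i, i < 21694 → P i := stepQ 21693 Q21693 (allL N21693 (tt N22037 (iv F245688)) (tt N23153 (iv F250395)) (tt N22771 (iv F249283)) (tt N21908 (iv F244974)) (tt N19986 (iv D54463)) (tt N23146 (iv F250376)) (tt N22776 (iv F249302)) (tt N19992 F243584) (tt N23122 (iv F250301)) (tt N21693 F243585))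
theorem Q21695 : ∀ i, i < 21695 → P i := stepQ 21694 Q21694 (allL N21694 (tt N22042 (iv F245714)) (tt N19991 F243586) (tt N22780 (iv F249321)) (tt N19988 (iv D54464)) (tt N23155 D55925) (tt N19995 F243587) (tt N19989 F243588) (tt N23136 (iv F250349)) (tt N23125 (iv F250312)) (tt N21694 F243589))
theorem Q21696 : ∀ i, i < 21696 → P i := stepQ 21695 Q21695 (allL N21695 (tt N21853 (iv F244611)) (tt N22660 (iv F248760)) (tt N19989 (iv D54465)) (tt N21695 F243590) (tt N23156 D55926) (tt N19990 F243591) (tt N22780 (iv F249323)) (tt N23154 (iv F250402)) (tt N23126 (iv F250314)) (tt N21695 F243592))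
theorem Q21697 : ∀ i, i < 21697 → P i := stepQ 21696 Q21696 (allL N21696 (tt N22038 (iv F245694)) (tt N19992 F243593) (tt N23156 (iv F250407)) (tt N23146 (iv F250375)) (tt N19989 (iv D54466)) (tt N21908 (iv F244975)) (tt N23155 (iv F250405)) (tt N23153 (iv F250398)) (tt N23127 (iv F250316)) (tt N21696 F243594))
theorem Q21698 : ∀ i, i < 21698 → P i := stepQ 21697 Q21697 (allL N21697 (tt N21851 (iv F244600)) (tt N23155 (iv F250404)) (tt N21908 (iv F244973)) (tt N23151 (iv F250389)) (tt N19991 (iv D54467)) (tt N23156 (iv F250408)) (tt N19992 F243595) (tt N23152 (iv F250393)) (tt N23129 (iv F250322)) (tt N21697 F243596))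
theorem Q21699 : ∀ i, i < 21699 → P i := stepQ 21698 Q21698 (allL N21698 (tt N22725 (iv F249079)) (tt N21908 (iv F244972)) (tt N22777 (iv F249305)) (tt N23153 (iv F250396)) (tt N19993 F243597) (tt N19992 (iv D54468)) (tt N22774 (iv F249294)) (tt N23146 (iv F250377)) (tt N23130 (iv F250324)) (tt N21698 F243598))
theorem Q21700 : ∀ i, i < 21700 → P i := stepQ 21699 Q21699 (allL N21699 (tt N19998 F243599) (tt N21824 (iv F244432)) (tt N22370 (iv F247452)) (tt N19996 (iv D54469)) (tt N22479 (iv F247982)) (tt N23018 (iv F250051)) (tt N21699 F243600) (tt N21828 (iv F244457)) (tt N19999 F243601) (tt N22761 (iv F249236)))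
theorem Q21701 : ∀ i, i < 21701 → P i := stepQ 21700 Q21700 (allL N21700 (tt N23131 (iv F250325)) (tt N19998 F243602) (tt N23157 D55927) (tt N19997 (iv D54470)) (tt N22632 (iv F248647)) (tt N23039 (iv F250103)) (tt N21700 F243603) (tt N22013 F245557) (tt N20000 F243604) (tt N22859 (iv F249610)))
theorem Q21702 : ∀ i, i < 21702 → P i := stepQ 21701 Q21701 (allL N21701 (tt N22778 (iv F249308)) (tt N21839 (iv F244524)) (tt N20000 (iv D54471)) (tt N21701 F243605) (tt N22019 (iv F245591)) (tt N23139 (iv F250357)) (tt N21701 F243606) (tt N21842 (iv F244545)) (tt N23157 (iv F250411)) (tt N21701 F243607))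
theorem Q21703 : ∀ i, i < 21703 → P i := stepQ 21702 Q21702 (allL N21702 (tt N20374 F243608) (tt N21702 F243609) (tt N20346 F243610) (tt N20373 F243611) (tt N20549 F243612) (tt N20004 F243613) (tt N20628 F243614) (tt N20003 F243615) (tt N20002 (iv D54472)) (tt N21702 F243616))
theorem Q21704 : ∀ i, i < 21704 → P i := stepQ 21703 Q21703 (allL N21703 (tt N20434 F243617) (tt N20392 F243618) (tt N20446 F243619) (tt N23158 D55928) (tt N20011 F243620) (tt N20413 F243621) (tt N20443 F243622) (tt N20031 F243623) (tt N20010 (iv D54473)) (tt N20016 F243624))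
theorem Q21705 : ∀ i, i < 21705 → P i := stepQ 21704 Q21704 (allL N21704 (tt N20446 F243625) (tt N20384 F243626) (tt N20434 F243627) (tt N21356 F243628) (tt N20013 F243629) (tt N20432 F243630) (tt N20016 F243631) (tt N20483 F243632) (tt N20012 (iv D54474)) (tt N20443 F243633))
theorem Q21706 : ∀ i, i < 21706 → P i := stepQ 21705 Q21705 (allL N21705 (tt N20443 F243634) (tt N20436 F243635) (tt N20016 F243636) (tt N21358 (iv F243642)) (tt N20015 F243637) (tt N20420 F243638) (tt N20434 F243639) (tt N20053 F243640) (tt N20014 (iv D54475)) (tt N20446 F243641))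
theorem Q21707 : ∀ i, i < 21707 → P i := stepQ 21706 Q21706 (allL N21706 (tt N20447 F243643) (tt N20398 F243644) (tt N23159 D55929) (tt N20016 (iv D54476)) (tt N20023 F243645) (tt N20422 F243646) (tt N21356 F243647) (tt N20054 F243648) (tt N20017 F243649) (tt N23158 (iv F250420)))
theorem Q21708 : ∀ i, i < 21708 → P i := stepQ 21707 Q21707 (allL N21707 (tt N20449 F243650) (tt N21354 F243651) (tt N20017 (iv D54477)) (tt N21707 F243652) (tt N20025 F243653) (tt N20424 F243654) (tt N21350 F243655) (tt N20058 F243656) (tt N23159 (iv F250428)) (tt N21707 F243657))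
theorem Q21709 : ∀ i, i < 21709 → P i := stepQ 21708 Q21708 (allL N21708 (tt N21104 F243658) (tt N20435 F243659) (tt N21352 F243660) (tt N20020 (iv D54478)) (tt N23158 (iv F250415)) (tt N21360 F243661) (tt N21355 F243662) (tt N20082 F243663) (tt N21708 F243664) (tt N20023 F243665))
theorem Q21710 : ∀ i, i < 21710 → P i := stepQ 21709 Q21709 (allL N21709 (tt N20395 F243666) (tt N20446 F243667) (tt N20414 F243668) (tt N21363 F243669) (tt N20427 F243670) (tt N20416 F243671) (tt N20022 F243672) (tt N20530 F243673) (tt N20021 (iv D54479)) (tt N20436 F243674))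
theorem Q21711 : ∀ i, i < 21711 → P i := stepQ 21710 Q21710 (allL N21710 (tt N21359 F243675) (tt N20447 F243676) (tt N21362 F243677) (tt N20022 (iv D54480)) (tt N21361 F243678) (tt N20023 F243679) (tt N21363 F243680) (tt N20098 F243681) (tt N20024 F243682) (tt N21360 F243683))
theorem Q21712 : ∀ i, i < 21712 → P i := stepQ 21711 Q21711 (allL N21711 (tt N20442 F243684) (tt N23160 D55930) (tt N20023 (iv D54481)) (tt N20440 F243685) (tt N23159 (iv F250424)) (tt N21362 F243686) (tt N21348 F243687) (tt N20099 F243688) (tt N20025 F243689) (tt N21352 F243690))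
theorem Q21713 : ∀ i, i < 21713 → P i := stepQ 21712 Q21712 (allL N21712 (tt N20425 F243691) (tt N20025 (iv D54482)) (tt N20450 F243692) (tt N20423 F243693) (tt N21354 F243694) (tt N20402 F243695) (tt N21349 F243696) (tt N20105 F243697) (tt N23160 (iv F250437)) (tt N21712 F243698))
theorem Q21714 : ∀ i, i < 21714 → P i := stepQ 21713 Q21713 (allL N21713 (tt N20658 F243699) (tt N20498 F243700) (tt N20699 F243701) (tt N21182 F243702) (tt N20028 F243703) (tt N20026 (iv D54483)) (tt N20576 F243704) (tt N20695 F243705) (tt N20036 F243706) (tt N23161 D55931))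
theorem Q21715 : ∀ i, i < 21715 → P i := stepQ 21714 Q21714 (allL N21714 (tt N21115 F243707) (tt N20499 F243708) (tt N21452 F243709) (tt N21183 F243710) (tt N20027 F243711) (tt N23161 (iv F250444)) (tt N21105 F243712) (tt N21448 F243713) (tt N23162 D55932) (tt N20026 (iv D54484)))
theorem Q21716 : ∀ i, i < 21716 → P i := stepQ 21715 Q21715 (allL N21715 (tt N21116 F243714) (tt N20500 F243715) (tt N21462 F243716) (tt N20075 F243717) (tt N23162 (iv F250450)) (tt N20030 F243718) (tt N21106 F243719) (tt N21461 F243720) (tt N20027 (iv D54485)) (tt N20038 F243721))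
theorem Q21717 : ∀ i, i < 21717 → P i := stepQ 21716 Q21716 (allL N21716 (tt N20668 F243722) (tt N20505 F243723) (tt N20716 F243724) (tt N21716 F243725) (tt N23161 (iv F250443)) (tt N20029 F243726) (tt N20585 F243727) (tt N20712 F243728) (tt N23163 D55933) (tt N20028 (iv D54486)))
theorem Q21718 : ∀ i, i < 21718 → P i := stepQ 21717 Q21717 (allL N21717 (tt N20674 F243729) (tt N20506 F243730) (tt N20727 F243731) (tt N23164 D55934) (tt N20030 F243732) (tt N23163 (iv F250457)) (tt N20031 F243733) (tt N20722 F243734) (tt N20029 (iv D54487)) (tt N20049 F243735))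
theorem Q21719 : ∀ i, i < 21719 → P i := stepQ 21718 Q21718 (allL N21718 (tt N20675 F243736) (tt N20512 F243737) (tt N21398 F243738) (tt N20031 (iv D54488)) (tt N20082 F243739) (tt N20590 F243740) (tt N23164 (iv F250465)) (tt N23158 (iv F250418)) (tt N21718 F243741) (tt N20054 F243742))
theorem Q21720 : ∀ i, i < 21720 → P i := stepQ 21719 Q21719 (allL N21719 (tt N20699 F243743) (tt N20474 F243744) (tt N20658 F243745) (tt N20134 F243746) (tt N20039 F243747) (tt N20032 (iv D54489)) (tt N20655 F243748) (tt N20036 F243749) (tt N20695 F243750) (tt N23165 D55935))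
theorem Q21721 : ∀ i, i < 21721 → P i := stepQ 21720 Q21720 (allL N21720 (tt N21452 F243751) (tt N20515 F243752) (tt N21115 F243753) (tt N20135 F243754) (tt N20033 F243755) (tt N23165 (iv F250474)) (tt N21117 F243756) (tt N20037 F243757) (tt N23166 D55936) (tt N20032 (iv D54490)))
theorem Q21722 : ∀ i, i < 21722 → P i := stepQ 21721 Q21721 (allL N21721 (tt N21462 F243758) (tt N20516 F243759) (tt N21116 F243760) (tt N20084 F243761) (tt N23166 (iv F250480)) (tt N20041 F243762) (tt N21118 F243763) (tt N20038 F243764) (tt N20033 (iv D54491)) (tt N21461 F243765))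
theorem Q21723 : ∀ i, i < 21723 → P i := stepQ 21722 Q21722 (allL N21722 (tt N20695 F243766) (tt N20677 F243767) (tt N20036 F243768) (tt N20288 F243769) (tt N20045 F243770) (tt N20034 (iv D54492)) (tt N20601 F243771) (tt N20658 F243772) (tt N20699 F243773) (tt N23167 D55937))
theorem Q21724 : ∀ i, i < 21724 → P i := stepQ 21723 Q21723 (allL N21723 (tt N21448 F243774) (tt N20678 F243775) (tt N20037 F243776) (tt N20289 F243777) (tt N20035 F243778) (tt N23167 (iv F250489)) (tt N20083 F243779) (tt N21115 F243780) (tt N23168 D55938) (tt N20034 (iv D54493)))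
theorem Q21725 : ∀ i, i < 21725 → P i := stepQ 21724 Q21724 (allL N21724 (tt N21461 F243781) (tt N20679 F243782) (tt N20038 F243783) (tt N21118 F243784) (tt N23168 (iv F250495)) (tt N20047 F243785) (tt N20084 F243786) (tt N21116 F243787) (tt N20035 (iv D54494)) (tt N21462 F243788))
theorem Q21726 : ∀ i, i < 21726 → P i := stepQ 21725 Q21725 (allL N21725 (tt N20700 F243789) (tt N20523 F243790) (tt N23167 (iv F250486)) (tt N20143 F243791) (tt N20048 F243792) (tt N20037 F243793) (tt N20604 F243794) (tt N23165 (iv F250476)) (tt N23169 D55939) (tt N20036 (iv D54495)))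
theorem Q21727 : ∀ i, i < 21727 → P i := stepQ 21726 Q21726 (allL N21726 (tt N21453 F243795) (tt N20524 F243796) (tt N23168 (iv F250494)) (tt N23170 D55940) (tt N20038 F243797) (tt N23169 (iv F250502)) (tt N21107 F243798) (tt N23166 (iv F250482)) (tt N20037 (iv D54496)) (tt N23162 (iv F250453)))
theorem Q21728 : ∀ i, i < 21728 → P i := stepQ 21727 Q21727 (allL N21727 (tt N20716 F243799) (tt N20475 F243800) (tt N20668 F243801) (tt N20055 F243802) (tt N23165 (iv F250473)) (tt N20040 F243803) (tt N20665 F243804) (tt N20048 F243805) (tt N23171 D55941) (tt N20039 (iv D54497)))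
theorem Q21729 : ∀ i, i < 21729 → P i := stepQ 21728 Q21728 (allL N21728 (tt N20727 F243806) (tt N20480 F243807) (tt N20674 F243808) (tt N21418 F243809) (tt N20041 F243810) (tt N23171 (iv F250513)) (tt N20483 F243811) (tt N20049 F243812) (tt N20040 (iv D54498)) (tt N20722 F243813))
theorem Q21730 : ∀ i, i < 21730 → P i := stepQ 21729 Q21729 (allL N21729 (tt N20044 F243814) (tt N20463 F243815) (tt N20096 F243816) (tt N20059 F243817) (tt N20502 F243818) (tt N20592 F243819) (tt N20050 F243820) (tt N20094 F243821) (tt N23172 D55942) (tt N20042 (iv D54499)))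
theorem Q21731 : ∀ i, i < 21731 → P i := stepQ 21730 Q21730 (allL N21730 (tt N20495 F243822) (tt N20045 F243823) (tt N20452 F243824) (tt N21730 F243825) (tt N20677 F243826) (tt N20043 (iv D54500)) (tt N20570 F243827) (tt N20077 F243828) (tt N20090 F243829) (tt N23173 D55943))
theorem Q21732 : ∀ i, i < 21732 → P i := stepQ 21731 Q21731 (allL N21731 (tt N20502 F243830) (tt N20046 F243831) (tt N20456 F243832) (tt N21731 F243833) (tt N20044 F243834) (tt N23173 (iv F250531)) (tt N20051 F243835) (tt N20080 F243836) (tt N23174 D55944) (tt N20043 (iv D54501)))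
theorem Q21733 : ∀ i, i < 21733 → P i := stepQ 21732 Q21732 (allL N21732 (tt N23172 (iv F250517)) (tt N20047 F243837) (tt N20525 F243838) (tt N21131 F243839) (tt N23174 (iv F250537)) (tt N20679 F243840) (tt N20052 F243841) (tt N21114 F243842) (tt N20044 (iv D54502)) (tt N21141 F243843))
theorem Q21734 : ∀ i, i < 21734 → P i := stepQ 21733 Q21733 (allL N21733 (tt N20712 F243844) (tt N23173 (iv F250527)) (tt N20048 F243845) (tt N21733 F243846) (tt N23167 (iv F250488)) (tt N20046 F243847) (tt N20611 F243848) (tt N20668 F243849) (tt N23175 D55945) (tt N20045 (iv D54503)))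
theorem Q21735 : ∀ i, i < 21735 → P i := stepQ 21734 Q21734 (allL N21734 (tt N20722 F243850) (tt N23174 (iv F250535)) (tt N20049 F243851) (tt N21429 (iv F243856)) (tt N20047 F243852) (tt N23175 (iv F250544)) (tt N20053 F243853) (tt N20674 F243854) (tt N20046 (iv D54504)) (tt N20727 F243855))
theorem Q21736 : ∀ i, i < 21736 → P i := stepQ 21735 Q21735 (allL N21735 (tt N20717 F243857) (tt N20528 F243858) (tt N23175 (iv F250543)) (tt N23176 D55946) (tt N23169 (iv F250501)) (tt N20049 F243859) (tt N20614 F243860) (tt N23171 (iv F250515)) (tt N20048 (iv D54505)) (tt N23163 (iv F250460)))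
theorem Q21737 : ∀ i, i < 21737 → P i := stepQ 21736 Q21736 (allL N21736 (tt N20728 F243861) (tt N20529 F243862) (tt N23177 D55947) (tt N20049 (iv D54506)) (tt N20093 F243863) (tt N23176 (iv F250551)) (tt N20054 F243864) (tt N21418 F243865) (tt N20057 F243866) (tt N23164 (iv F250468)))
theorem Q21738 : ∀ i, i < 21738 → P i := stepQ 21737 Q21737 (allL N21737 (tt N20052 F243867) (tt N20508 F243868) (tt N20530 F243869) (tt N20534 F243870) (tt N20507 F243871) (tt N20415 F243872) (tt N23172 (iv F250523)) (tt N20414 F243873) (tt N20050 (iv D54507)) (tt N20531 F243874))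
theorem Q21739 : ∀ i, i < 21739 → P i := stepQ 21738 Q21738 (allL N21738 (tt N20507 F243875) (tt N20053 F243876) (tt N20531 F243877) (tt N21430 (iv F243882)) (tt N20052 F243878) (tt N20617 F243879) (tt N23174 (iv F250538)) (tt N20436 F243880) (tt N20051 (iv D54508)) (tt N20530 F243881))
theorem Q21740 : ∀ i, i < 21740 → P i := stepQ 21739 Q21739 (allL N21739 (tt N20721 F243883) (tt N21399 F243884) (tt N20054 (iv D54509)) (tt N21384 F243885) (tt N20099 F243886) (tt N20621 F243887) (tt N23177 (iv F250559)) (tt N23159 (iv F250427)) (tt N20058 F243888) (tt N21398 F243889))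
theorem Q21741 : ∀ i, i < 21741 → P i := stepQ 21740 Q21740 (allL N21740 (tt N20730 F243890) (tt N20540 F243891) (tt N23178 D55948) (tt N20056 (iv D54510)) (tt N23179 D55949) (tt N20057 F243892) (tt N20624 F243893) (tt N21420 F243894) (tt N23176 (iv F250554)) (tt N21740 F243895))
theorem Q21742 : ∀ i, i < 21742 → P i := stepQ 21741 Q21741 (allL N21741 (tt N20734 F243896) (tt N21405 F243897) (tt N20057 (iv D54511)) (tt N21741 F243898) (tt N20103 F243899) (tt N23178 (iv F250566)) (tt N20058 F243900) (tt N21377 F243901) (tt N23177 (iv F250561)) (tt N21741 F243902))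
theorem Q21743 : ∀ i, i < 21743 → P i := stepQ 21742 Q21742 (allL N21742 (tt N20558 F243903) (tt N20066 F243904) (tt N21421 F243905) (tt N20194 F243906) (tt N20062 F243907) (tt N21435 F243908) (tt N21108 F243909) (tt N21443 F243910) (tt N23180 D55950) (tt N20061 (iv D54512)))
theorem Q21744 : ∀ i, i < 21744 → P i := stepQ 21743 Q21743 (allL N21743 (tt N20559 F243911) (tt N20067 F243912) (tt N21422 F243913) (tt N21137 F243914) (tt N23180 (iv F250580)) (tt N20063 F243915) (tt N21109 F243916) (tt N21458 F243917) (tt N20062 (iv D54513)) (tt N21122 F243918))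
theorem Q21745 : ∀ i, i < 21745 → P i := stepQ 21744 Q21744 (allL N21744 (tt N20537 F243919) (tt N20070 F243920) (tt N20532 F243921) (tt N20064 (iv D54514)) (tt N20098 F243922) (tt N20485 F243923) (tt N21456 F243924) (tt N21361 F243925) (tt N20065 F243926) (tt N21138 F243927))
theorem Q21746 : ∀ i, i < 21746 → P i := stepQ 21745 Q21745 (allL N21745 (tt N20089 F243928) (tt N23180 (iv F250578)) (tt N21113 F243929) (tt N23181 D55951) (tt N20067 F243930) (tt N21437 F243931) (tt N21111 F243932) (tt N21449 F243933) (tt N20066 (iv D54515)) (tt N21127 F243934))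
theorem Q21747 : ∀ i, i < 21747 → P i := stepQ 21746 Q21746 (allL N21746 (tt N20097 F243935) (tt N20482 F243936) (tt N21114 F243937) (tt N21459 F243938) (tt N20457 F243939) (tt N21432 F243940) (tt N20069 F243941) (tt N20525 F243942) (tt N20068 (iv D54516)) (tt N21139 F243943))
theorem Q21748 : ∀ i, i < 21748 → P i := stepQ 21747 Q21747 (allL N21747 (tt N21117 F243944) (tt N20650 F243945) (tt N21105 F243946) (tt N21612 F243947) (tt N20072 F243948) (tt N21407 F243949) (tt N21452 F243950) (tt N20074 F243951) (tt N23182 D55952) (tt N20071 (iv D54517)))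
theorem Q21749 : ∀ i, i < 21749 → P i := stepQ 21748 Q21748 (allL N21748 (tt N21118 F243952) (tt N20651 F243953) (tt N21106 F243954) (tt N21461 F243955) (tt N23182 (iv F250595)) (tt N20076 F243956) (tt N21462 F243957) (tt N20075 F243958) (tt N20072 (iv D54518)) (tt N20084 F243959))
theorem Q21750 : ∀ i, i < 21750 → P i := stepQ 21749 Q21749 (allL N21749 (tt N21126 F243960) (tt N20659 F243961) (tt N21110 F243962) (tt N21603 F243963) (tt N20078 F243964) (tt N20074 F243965) (tt N21433 F243966) (tt N21407 F243967) (tt N23183 D55953) (tt N20073 (iv D54519)))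
theorem Q21751 : ∀ i, i < 21751 → P i := stepQ 21750 Q21750 (allL N21750 (tt N21127 F243968) (tt N20660 F243969) (tt N21111 F243970) (tt N23184 D55954) (tt N20075 F243971) (tt N23183 (iv F250604)) (tt N21113 F243972) (tt N23182 (iv F250598)) (tt N20074 (iv D54520)) (tt N20089 F243973))
theorem Q21752 : ∀ i, i < 21752 → P i := stepQ 21751 Q21751 (allL N21751 (tt N21134 F243974) (tt N20668 F243975) (tt N20455 F243976) (tt N21751 F243977) (tt N21433 F243978) (tt N20080 F243979) (tt N20078 F243980) (tt N23173 (iv F250533)) (tt N23185 D55955) (tt N20077 (iv D54521)))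
theorem Q21753 : ∀ i, i < 21753 → P i := stepQ 21752 Q21752 (allL N21752 (tt N21135 F243981) (tt N20669 F243982) (tt N21112 F243983) (tt N23186 D55956) (tt N23183 (iv F250603)) (tt N20079 F243984) (tt N23185 (iv F250618)) (tt N21408 F243985) (tt N20078 (iv D54522)) (tt N20092 F243986))
theorem Q21754 : ∀ i, i < 21754 → P i := stepQ 21753 Q21753 (allL N21753 (tt N21136 F243987) (tt N20670 F243988) (tt N21395 F243989) (tt N20079 (iv D54523)) (tt N23164 (iv F250464)) (tt N23186 (iv F250623)) (tt N20082 F243990) (tt N21410 F243991) (tt N21753 F243992) (tt N20093 F243993))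
theorem Q21755 : ∀ i, i < 21755 → P i := stepQ 21754 Q21754 (allL N21754 (tt N21139 F243994) (tt N20674 F243995) (tt N20457 F243996) (tt N23187 D55957) (tt N21114 F243997) (tt N23185 (iv F250617)) (tt N20081 F243998) (tt N23174 (iv F250539)) (tt N20080 (iv D54524)) (tt N20097 F243999))
theorem Q21756 : ∀ i, i < 21756 → P i := stepQ 21755 Q21755 (allL N21755 (tt N21140 F244000) (tt N20675 F244001) (tt N20564 F244002) (tt N20081 (iv D54525)) (tt N21138 F244003) (tt N20082 F244004) (tt N23187 (iv F250631)) (tt N21360 F244005) (tt N21755 F244006) (tt N20098 F244007))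
theorem Q21757 : ∀ i, i < 21757 → P i := stepQ 21756 Q21756 (allL N21756 (tt N21449 F244008) (tt N20685 F244009) (tt N21107 F244010) (tt N23188 D55958) (tt N20084 F244011) (tt N21415 F244012) (tt N23168 (iv F250496)) (tt N20089 F244013) (tt N20083 (iv D54526)) (tt N23182 (iv F250599)))
theorem Q21758 : ∀ i, i < 21758 → P i := stepQ 21757 Q21757 (allL N21757 (tt N21113 F244014) (tt N21385 F244015) (tt N20089 F244016) (tt N23189 D55959) (tt N20086 F244017) (tt N21414 F244018) (tt N21127 F244019) (tt N21107 F244020) (tt N20085 (iv D54527)) (tt N21111 F244021))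
theorem Q21759 : ∀ i, i < 21759 → P i := stepQ 21758 Q21758 (allL N21758 (tt N20517 F244022) (tt N20699 F244023) (tt N20591 F244024) (tt N20311 F244025) (tt N20090 F244026) (tt N20645 F244027) (tt N20593 F244028) (tt N20087 (iv D54528)) (tt N20677 F244029) (tt N23190 D55960))
theorem Q21760 : ∀ i, i < 21760 → P i := stepQ 21759 Q21759 (allL N21759 (tt N21431 F244030) (tt N20700 F244031) (tt N21412 F244032) (tt N20312 F244033) (tt N20091 F244034) (tt N21128 F244035) (tt N20088 F244036) (tt N23190 (iv F250655)) (tt N23191 D55961) (tt N20087 (iv D54529)))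
theorem Q21761 : ∀ i, i < 21761 → P i := stepQ 21760 Q21760 (allL N21760 (tt N21437 F244037) (tt N20701 F244038) (tt N21414 F244039) (tt N23192 D55962) (tt N20092 F244040) (tt N20089 F244041) (tt N23191 (iv F250661)) (tt N21415 F244042) (tt N20088 (iv D54530)) (tt N23183 (iv F250607)))
theorem Q21762 : ∀ i, i < 21762 → P i := stepQ 21761 Q21761 (allL N21761 (tt N23181 (iv F250585)) (tt N20702 F244043) (tt N23193 D55963) (tt N20089 (iv D54531)) (tt N23170 (iv F250506)) (tt N23192 (iv F250665)) (tt N21130 F244044) (tt N23188 (iv F250638)) (tt N20314 F244045) (tt N23184 (iv F250612)))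
theorem Q21763 : ∀ i, i < 21763 → P i := stepQ 21762 Q21762 (allL N21762 (tt N20518 F244046) (tt N20716 F244047) (tt N20592 F244048) (tt N20100 F244049) (tt N23190 (iv F250652)) (tt N20096 F244050) (tt N20594 F244051) (tt N20091 F244052) (tt N23194 D55964) (tt N20090 (iv D54532)))
theorem Q21764 : ∀ i, i < 21764 → P i := stepQ 21763 Q21763 (allL N21763 (tt N21432 F244053) (tt N20717 F244054) (tt N21413 F244055) (tt N23195 D55965) (tt N23191 (iv F250659)) (tt N20097 F244056) (tt N20092 F244057) (tt N23194 (iv F250676)) (tt N20091 (iv D54533)) (tt N23185 (iv F250619)))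
theorem Q21765 : ∀ i, i < 21765 → P i := stepQ 21764 Q21764 (allL N21764 (tt N21438 F244058) (tt N20718 F244059) (tt N23196 D55966) (tt N20092 (iv D54534)) (tt N23197 D55967) (tt N20093 F244060) (tt N23195 (iv F250681)) (tt N21416 F244061) (tt N20102 F244062) (tt N23186 (iv F250626)))
theorem Q21766 : ∀ i, i < 21766 → P i := stepQ 21765 Q21765 (allL N21765 (tt N20711 F244063) (tt N23198 D55968) (tt N20093 (iv D54535)) (tt N20708 F244064) (tt N23177 (iv F250558)) (tt N23196 (iv F250686)) (tt N20099 F244065) (tt N21372 F244066) (tt N20103 F244067) (tt N21395 F244068))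
theorem Q21767 : ∀ i, i < 21767 → P i := stepQ 21766 Q21766 (allL N21766 (tt N21114 F244069) (tt N20467 F244070) (tt N20097 F244071) (tt N20552 F244072) (tt N21139 F244073) (tt N21413 F244074) (tt N20095 F244075) (tt N23172 (iv F250524)) (tt N20094 (iv D54536)) (tt N20457 F244076))
theorem Q21768 : ∀ i, i < 21768 → P i := stepQ 21767 Q21767 (allL N21767 (tt N20525 F244077) (tt N20727 F244078) (tt N23172 (iv F250519)) (tt N21460 F244079) (tt N21141 F244080) (tt N23194 (iv F250674)) (tt N20530 F244081) (tt N20097 F244082) (tt N20096 (iv D54537)) (tt N23174 (iv F250540)))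
theorem Q21769 : ∀ i, i < 21769 → P i := stepQ 21768 Q21768 (allL N21768 (tt N21459 F244083) (tt N20728 F244084) (tt N21457 F244085) (tt N20097 (iv D54538)) (tt N21456 F244086) (tt N23195 (iv F250680)) (tt N20098 F244087) (tt N21460 F244088) (tt N20104 F244089) (tt N23187 (iv F250634)))
theorem Q21770 : ∀ i, i < 21770 → P i := stepQ 21769 Q21769 (allL N21769 (tt N20618 F244090) (tt N20099 (iv D54539)) (tt N20726 F244091) (tt N20616 F244092) (tt N21399 F244093) (tt N20535 F244094) (tt N23198 (iv F250699)) (tt N23160 (iv F250436)) (tt N20105 F244095) (tt N21397 F244096))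
theorem Q21771 : ∀ i, i < 21771 → P i := stepQ 21770 Q21770 (allL N21770 (tt N21465 F244097) (tt N20730 F244098) (tt N21468 F244099) (tt N20101 (iv D54540)) (tt N23199 D55969) (tt N20104 F244100) (tt N20102 F244101) (tt N21476 F244102) (tt N23195 (iv F250683)) (tt N21770 F244103))
theorem Q21772 : ∀ i, i < 21772 → P i := stepQ 21771 Q21771 (allL N21771 (tt N20745 F244104) (tt N23200 D55970) (tt N20102 (iv D54541)) (tt N20741 F244105) (tt N23201 D55971) (tt N20103 F244106) (tt N21468 F244107) (tt N21375 F244108) (tt N23196 (iv F250689)) (tt N21771 F244109))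
theorem Q21773 : ∀ i, i < 21773 → P i := stepQ 21772 Q21772 (allL N21772 (tt N21467 F244110) (tt N20732 F244111) (tt N23201 (iv F250719)) (tt N20349 F244112) (tt N20102 (iv D54542)) (tt N23179 (iv F250573)) (tt N23199 (iv F250708)) (tt N21419 F244113) (tt N23197 (iv F250694)) (tt N21772 F244114))
theorem Q21774 : ∀ i, i < 21774 → P i := stepQ 21773 Q21773 (allL N21773 (tt N20632 F244115) (tt N20103 (iv D54543)) (tt N20733 F244116) (tt N20631 F244117) (tt N21405 F244118) (tt N23200 (iv F250714)) (tt N20105 F244119) (tt N21376 F244120) (tt N23198 (iv F250701)) (tt N21773 F244121))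
theorem Q21775 : ∀ i, i < 21775 → P i := stepQ 21774 Q21774 (allL N21774 (tt N20252 F244122) (tt N20775 F244123) (tt N21623 F244124) (tt N20114 F244125) (tt N20106 (iv D54544)) (tt N23202 D55972) (tt N20207 F244126) (tt N20109 F244127) (tt N20220 F244128) (tt N23203 D55973))
theorem Q21776 : ∀ i, i < 21776 → P i := stepQ 21775 Q21775 (allL N21775 (tt N20253 F244129) (tt N20776 F244130) (tt N21682 F244131) (tt N20107 F244132) (tt N23203 (iv F250735)) (tt N21775 F244133) (tt N20208 F244134) (tt N20110 F244135) (tt N23204 D55974) (tt N20106 (iv D54545)))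
theorem Q21777 : ∀ i, i < 21777 → P i := stepQ 21776 Q21776 (allL N21776 (tt N21029 F244136) (tt N20108 (iv D54546)) (tt N20148 F244137) (tt N21776 F244138) (tt N23205 D55975) (tt N21776 F244139) (tt N20145 F244140) (tt N20887 F244141) (tt N21179 F244142) (tt N23206 D55976))
theorem Q21778 : ∀ i, i < 21778 → P i := stepQ 21777 Q21777 (allL N21777 (tt N21238 F244143) (tt N23205 (iv F250747)) (tt N20109 F244144) (tt N23207 D55977) (tt N20108 (iv D54547)) (tt N23208 D55978) (tt N21143 F244145) (tt N21623 F244146) (tt N21180 F244147) (tt N23209 D55979))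
theorem Q21779 : ∀ i, i < 21779 → P i := stepQ 21778 Q21778 (allL N21778 (tt N21239 F244148) (tt N23206 (iv F250755)) (tt N20110 F244149) (tt N21778 F244150) (tt N23209 (iv F250779)) (tt N21778 F244151) (tt N21144 F244152) (tt N21682 F244153) (tt N23210 D55980) (tt N20108 (iv D54548)))
theorem Q21780 : ∀ i, i < 21780 → P i := stepQ 21779 Q21779 (allL N21779 (tt N20926 F244154) (tt N20779 F244155) (tt N23208 (iv F250771)) (tt N20118 F244156) (tt N21779 F244157) (tt N20109 (iv D54549)) (tt N20849 F244158) (tt N23202 (iv F250729)) (tt N21182 F244159) (tt N23211 D55981))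
theorem Q21781 : ∀ i, i < 21781 → P i := stepQ 21780 Q21780 (allL N21780 (tt N21240 F244160) (tt N20780 F244161) (tt N23209 (iv F250778)) (tt N20119 F244162) (tt N20110 F244163) (tt N23211 (iv F250792)) (tt N21145 F244164) (tt N23203 (iv F250737)) (tt N23212 D55982) (tt N20109 (iv D54550)))
theorem Q21782 : ∀ i, i < 21782 → P i := stepQ 21781 Q21781 (allL N21781 (tt N21241 F244165) (tt N20781 F244166) (tt N23210 (iv F250783)) (tt N20251 F244167) (tt N23212 (iv F250796)) (tt N21781 F244168) (tt N21146 F244169) (tt N23204 (iv F250744)) (tt N20110 (iv D54551)) (tt N21184 F244170))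
theorem Q21783 : ∀ i, i < 21783 → P i := stepQ 21782 Q21782 (allL N21782 (tt N20244 F244171) (tt N20782 F244172) (tt N21278 F244173) (tt N20207 F244174) (tt N20111 (iv D54552)) (tt N21423 (iv F244178)) (tt N20114 F244175) (tt N20205 F244176) (tt N20130 F244177) (tt N23213 D55983))
theorem Q21784 : ∀ i, i < 21784 → P i := stepQ 21783 Q21783 (allL N21783 (tt N20245 F244179) (tt N20783 F244180) (tt N21335 F244181) (tt N20112 F244182) (tt N23213 (iv F250803)) (tt N21783 F244183) (tt N20115 F244184) (tt N20206 F244185) (tt N23214 D55984) (tt N20111 (iv D54553)))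
theorem Q21785 : ∀ i, i < 21785 → P i := stepQ 21784 Q21784 (allL N21784 (tt N21581 F244186) (tt N21188 F244187) (tt N20114 F244188) (tt N23215 D55985) (tt N20113 (iv D54554)) (tt N21185 F244189) (tt N21278 F244190) (tt N20116 F244191) (tt N20132 F244192) (tt N23216 D55986))
theorem Q21786 : ∀ i, i < 21786 → P i := stepQ 21785 Q21785 (allL N21785 (tt N21594 F244193) (tt N21204 F244194) (tt N20115 F244195) (tt N21785 F244196) (tt N23216 (iv F250826)) (tt N20121 F244197) (tt N21335 F244198) (tt N20117 F244199) (tt N23217 D55987) (tt N20113 (iv D54555)))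
theorem Q21787 : ∀ i, i < 21787 → P i := stepQ 21786 Q21786 (allL N21786 (tt N20951 F244200) (tt N20784 F244201) (tt N21185 F244202) (tt N23202 (iv F250726)) (tt N20122 F244203) (tt N20114 (iv D54556)) (tt N23218 D55988) (tt N20118 F244204) (tt N20134 F244205) (tt N23219 D55989))
theorem Q21788 : ∀ i, i < 21788 → P i := stepQ 21787 Q21787 (allL N21787 (tt N21585 F244206) (tt N20785 F244207) (tt N23216 (iv F250825)) (tt N23203 (iv F250734)) (tt N20115 F244208) (tt N23219 (iv F250849)) (tt N23213 (iv F250805)) (tt N20119 F244209) (tt N23220 D55990) (tt N20114 (iv D54557)))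
theorem Q21789 : ∀ i, i < 21789 → P i := stepQ 21788 Q21788 (allL N21788 (tt N21597 F244210) (tt N20786 F244211) (tt N23217 (iv F250832)) (tt N20259 F244212) (tt N23220 (iv F250853)) (tt N20124 F244213) (tt N23214 (iv F250812)) (tt N20120 F244214) (tt N20115 (iv D54558)) (tt N20136 F244215))
theorem Q21790 : ∀ i, i < 21790 → P i := stepQ 21789 Q21789 (allL N21789 (tt N21576 F244216) (tt N21196 F244217) (tt N23207 (iv F250763)) (tt N20116 (iv D54559)) (tt N21789 F244218) (tt N21193 F244219) (tt N21101 F244220) (tt N23215 (iv F250821)) (tt N23221 D55991) (tt N23222 D55992))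
theorem Q21791 : ∀ i, i < 21791 → P i := stepQ 21790 Q21790 (allL N21790 (tt N21582 F244221) (tt N21198 F244222) (tt N20119 F244223) (tt N23222 (iv F250866)) (tt N20117 F244224) (tt N21194 F244225) (tt N21084 F244226) (tt N23216 (iv F250829)) (tt N23223 D55993) (tt N20116 (iv D54560)))
theorem Q21792 : ∀ i, i < 21792 → P i := stepQ 21791 Q21791 (allL N21791 (tt N21595 F244227) (tt N21209 F244228) (tt N20120 F244229) (tt N23224 D55994) (tt N23223 (iv F250873)) (tt N20125 F244230) (tt N21047 F244231) (tt N23217 (iv F250835)) (tt N20117 (iv D54561)) (tt N20142 F244232))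
theorem Q21793 : ∀ i, i < 21793 → P i := stepQ 21792 Q21792 (allL N21792 (tt N20952 F244233) (tt N20787 F244234) (tt N21194 F244235) (tt N23211 (iv F250790)) (tt N20126 F244236) (tt N20119 F244237) (tt N20857 F244238) (tt N23219 (iv F250850)) (tt N23225 D55995) (tt N20118 (iv D54562)))
theorem Q21794 : ∀ i, i < 21794 → P i := stepQ 21793 Q21793 (allL N21793 (tt N21586 F244239) (tt N20788 F244240) (tt N23223 (iv F250872)) (tt N23226 D55996) (tt N20120 F244241) (tt N23225 (iv F250888)) (tt N21149 F244242) (tt N23220 (iv F250854)) (tt N20119 (iv D54563)) (tt N20144 F244243))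
theorem Q21795 : ∀ i, i < 21795 → P i := stepQ 21794 Q21794 (allL N21794 (tt N21599 F244244) (tt N21205 F244245) (tt N20124 F244246) (tt N23227 D55997) (tt N21203 F244247) (tt N23217 (iv F250833)) (tt N21794 F244248) (tt N20125 F244249) (tt N20121 (iv D54564)) (tt N20147 F244250))
theorem Q21796 : ∀ i, i < 21796 → P i := stepQ 21795 Q21795 (allL N21795 (tt N20959 F244251) (tt N20490 F244252) (tt N21179 F244253) (tt N21795 F244254) (tt N23218 (iv F250841)) (tt N21795 F244255) (tt N20122 (iv D54565)) (tt N20859 F244256) (tt N20148 F244257) (tt N23228 D55998))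
theorem Q21797 : ∀ i, i < 21797 → P i := stepQ 21796 Q21796 (allL N21796 (tt N20967 F244258) (tt N20789 F244259) (tt N21186 F244260) (tt N21796 F244261) (tt N23219 (iv F250848)) (tt N20123 F244262) (tt N23228 (iv F250908)) (tt N20126 F244263) (tt N23229 D55999) (tt N20122 (iv D54566)))
theorem Q21798 : ∀ i, i < 21798 → P i := stepQ 21797 Q21797 (allL N21797 (tt N20973 F244264) (tt N20790 F244265) (tt N21203 F244266) (tt N23230 D56000) (tt N20124 F244267) (tt N23229 (iv F250913)) (tt N21797 F244268) (tt N20127 F244269) (tt N20123 (iv D54567)) (tt N20150 F244270))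
theorem Q21799 : ∀ i, i < 21799 → P i := stepQ 21798 Q21798 (allL N21798 (tt N21600 F244271) (tt N21210 F244272) (tt N20277 F244273) (tt N20125 (iv D54568)) (tt N23231 D56001) (tt N23224 (iv F250880)) (tt N20128 F244274) (tt N23227 (iv F250900)) (tt N21798 F244275) (tt N20154 F244276))
theorem Q21800 : ∀ i, i < 21800 → P i := stepQ 21799 Q21799 (allL N21799 (tt N20968 F244277) (tt N20791 F244278) (tt N21195 F244279) (tt N23232 D56002) (tt N23225 (iv F250887)) (tt N20127 F244280) (tt N20862 F244281) (tt N23229 (iv F250914)) (tt N20126 (iv D54569)) (tt N20155 F244282))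
theorem Q21801 : ∀ i, i < 21801 → P i := stepQ 21800 Q21800 (allL N21800 (tt N20974 F244283) (tt N20792 F244284) (tt N23233 D56003) (tt N20127 (iv D54570)) (tt N20281 F244285) (tt N23232 (iv F250932)) (tt N20129 F244286) (tt N23230 (iv F250920)) (tt N21800 F244287) (tt N20156 F244288))
theorem Q21802 : ∀ i, i < 21802 → P i := stepQ 21801 Q21801 (allL N21801 (tt N21598 F244289) (tt N20864 F244290) (tt N20283 F244291) (tt N21212 F244292) (tt N20128 (iv D54571)) (tt N21057 F244293) (tt N23231 (iv F250927)) (tt N21801 F244294) (tt N21801 F244295) (tt N20159 F244296))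
theorem Q21803 : ∀ i, i < 21803 → P i := stepQ 21802 Q21802 (allL N21802 (tt N20975 F244297) (tt N21057 F244298) (tt N20129 (iv D54572)) (tt N21060 F244299) (tt N20287 F244300) (tt N20864 F244301) (tt N23233 (iv F250940)) (tt N21802 F244302) (tt N21802 F244303) (tt N20160 F244304))
theorem Q21804 : ∀ i, i < 21804 → P i := stepQ 21803 Q21803 (allL N21803 (tt N21612 F244305) (tt N20796 F244306) (tt N21279 F244307) (tt N21117 F244308) (tt N20131 F244309) (tt N21424 F244310) (tt N20135 F244311) (tt N21124 F244312) (tt N23234 D56004) (tt N20130 (iv D54573)))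
theorem Q21805 : ∀ i, i < 21805 → P i := stepQ 21804 Q21804 (allL N21804 (tt N21646 F244313) (tt N20797 F244314) (tt N21336 F244315) (tt N20290 F244316) (tt N23234 (iv F250946)) (tt N21804 F244317) (tt N20136 F244318) (tt N21142 F244319) (tt N20131 (iv D54574)) (tt N23214 (iv F250814)))
theorem Q21806 : ∀ i, i < 21806 → P i := stepQ 21805 Q21805 (allL N21805 (tt N21016 F244320) (tt N21143 F244321) (tt N20134 F244322) (tt N21269 F244323) (tt N20145 F244324) (tt N20132 (iv D54575)) (tt N23205 (iv F250749)) (tt N20140 F244325) (tt N21185 F244326) (tt N23235 D56005))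
theorem Q21807 : ∀ i, i < 21807 → P i := stepQ 21806 Q21806 (allL N21806 (tt N21629 F244327) (tt N21525 F244328) (tt N20135 F244329) (tt N21270 F244330) (tt N20133 F244331) (tt N23235 (iv F250955)) (tt N21279 F244332) (tt N20141 F244333) (tt N23236 D56006) (tt N20132 (iv D54576)))
theorem Q21808 : ∀ i, i < 21808 → P i := stepQ 21807 Q21807 (allL N21807 (tt N21651 F244334) (tt N21526 F244335) (tt N20136 F244336) (tt N23237 D56007) (tt N23236 (iv F250960)) (tt N20147 F244337) (tt N21336 F244338) (tt N20142 F244339) (tt N20133 (iv D54577)) (tt N23217 (iv F250836)))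
theorem Q21809 : ∀ i, i < 21809 → P i := stepQ 21808 Q21808 (allL N21808 (tt N20999 F244340) (tt N20777 F244341) (tt N23205 (iv F250748)) (tt N20655 F244342) (tt N20148 F244343) (tt N20654 F244344) (tt N20134 (iv D54578)) (tt N20874 F244345) (tt N23218 (iv F250844)) (tt N23238 D56008))
theorem Q21810 : ∀ i, i < 21810 → P i := stepQ 21809 Q21809 (allL N21809 (tt N21021 F244346) (tt N20800 F244347) (tt N23235 (iv F250952)) (tt N23165 (iv F250472)) (tt N20149 F244348) (tt N20135 F244349) (tt N23238 (iv F250975)) (tt N20143 F244350) (tt N23239 D56009) (tt N20134 (iv D54579)))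
theorem Q21811 : ∀ i, i < 21811 → P i := stepQ 21810 Q21810 (allL N21810 (tt N21635 F244351) (tt N20801 F244352) (tt N23236 (iv F250959)) (tt N23240 D56010) (tt N20136 F244353) (tt N23239 (iv F250980)) (tt N23234 (iv F250948)) (tt N20144 F244354) (tt N20135 (iv D54580)) (tt N23220 (iv F250855)))
theorem Q21812 : ∀ i, i < 21812 → P i := stepQ 21811 Q21811 (allL N21811 (tt N21252 F244355) (tt N20139 F244356) (tt N20977 F244357) (tt N20137 (iv D54581)) (tt N20168 F244358) (tt N21173 F244359) (tt N20292 F244360) (tt N21100 F244361) (tt N23241 D56011) (tt N23242 D56012))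
theorem Q21813 : ∀ i, i < 21813 → P i := stepQ 21812 Q21812 (allL N21812 (tt N21255 F244362) (tt N20141 F244363) (tt N20802 F244364) (tt N23242 (iv F250997)) (tt N20138 F244365) (tt N21174 F244366) (tt N21153 F244367) (tt N21525 F244368) (tt N23243 D56013) (tt N20137 (iv D54582)))
theorem Q21814 : ∀ i, i < 21814 → P i := stepQ 21813 Q21813 (allL N21813 (tt N21266 F244369) (tt N20142 F244370) (tt N20803 F244371) (tt N23244 D56014) (tt N23243 (iv F251005)) (tt N20151 F244372) (tt N21154 F244373) (tt N21526 F244374) (tt N20138 (iv D54583)) (tt N21209 F244375))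
theorem Q21815 : ∀ i, i < 21815 → P i := stepQ 21814 Q21814 (allL N21814 (tt N21011 F244376) (tt N21173 F244377) (tt N20288 F244378) (tt N20140 F244379) (tt N21814 F244380) (tt N20139 (iv D54584)) (tt N20880 F244381) (tt N21269 F244382) (tt N23245 D56015) (tt N23246 D56016))
theorem Q21816 : ∀ i, i < 21816 → P i := stepQ 21815 Q21815 (allL N21815 (tt N21623 F244383) (tt N23241 (iv F250987)) (tt N20252 F244384) (tt N23221 (iv F250859)) (tt N20171 F244385) (tt N23245 (iv F251023)) (tt N20255 F244386) (tt N21238 F244387) (tt N20139 (iv D54585)) (tt N23247 D56017))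
theorem Q21817 : ∀ i, i < 21817 → P i := stepQ 21816 Q21816 (allL N21816 (tt N21624 F244388) (tt N23242 (iv F250995)) (tt N20289 F244389) (tt N20141 F244390) (tt N20172 F244391) (tt N23246 (iv F251031)) (tt N20294 F244392) (tt N21270 F244393) (tt N23248 D56018) (tt N20139 (iv D54586)))
theorem Q21818 : ∀ i, i < 21818 → P i := stepQ 21817 Q21817 (allL N21817 (tt N21017 F244394) (tt N21174 F244395) (tt N20143 F244396) (tt N23246 (iv F251029)) (tt N20152 F244397) (tt N20141 F244398) (tt N20883 F244399) (tt N23235 (iv F250956)) (tt N23249 D56019) (tt N20140 (iv D54587)))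
theorem Q21819 : ∀ i, i < 21819 → P i := stepQ 21818 Q21818 (allL N21818 (tt N21630 F244400) (tt N23243 (iv F251003)) (tt N20144 F244401) (tt N23250 D56020) (tt N20142 F244402) (tt N23249 (iv F251048)) (tt N21155 F244403) (tt N23236 (iv F250962)) (tt N20141 (iv D54588)) (tt N23223 (iv F250876)))
theorem Q21820 : ∀ i, i < 21820 → P i := stepQ 21819 Q21819 (allL N21819 (tt N21652 F244404) (tt N23244 (iv F251011)) (tt N20310 F244405) (tt N20142 (iv D54589)) (tt N23251 D56021) (tt N20154 F244406) (tt N21156 F244407) (tt N23237 (iv F250968)) (tt N20174 F244408) (tt N23224 (iv F250883)))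
theorem Q21821 : ∀ i, i < 21821 → P i := stepQ 21820 Q21820 (allL N21820 (tt N21022 F244409) (tt N20809 F244410) (tt N23249 (iv F251046)) (tt N23252 D56022) (tt N20155 F244411) (tt N20144 F244412) (tt N20885 F244413) (tt N23239 (iv F250981)) (tt N20143 (iv D54590)) (tt N23225 (iv F250890)))
theorem Q21822 : ∀ i, i < 21822 → P i := stepQ 21821 Q21821 (allL N21821 (tt N21636 F244414) (tt N20810 F244415) (tt N23253 D56023) (tt N20144 (iv D54591)) (tt N20314 F244416) (tt N23252 (iv F251059)) (tt N21157 F244417) (tt N23240 (iv F250985)) (tt N23170 (iv F250508)) (tt N23226 (iv F250895)))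
theorem Q21823 : ∀ i, i < 21823 → P i := stepQ 21822 Q21822 (allL N21822 (tt N21042 F244418) (tt N21144 F244419) (tt N20149 F244420) (tt N21822 F244421) (tt N23235 (iv F250954)) (tt N20146 F244422) (tt N23206 (iv F250759)) (tt N20152 F244423) (tt N23254 D56024) (tt N20145 (iv D54592)))
theorem Q21824 : ∀ i, i < 21824 → P i := stepQ 21823 Q21823 (allL N21823 (tt N21055 F244424) (tt N21177 F244425) (tt N20150 F244426) (tt N23255 D56025) (tt N20147 F244427) (tt N23254 (iv F251067)) (tt N21823 F244428) (tt N20153 F244429) (tt N20146 (iv D54593)) (tt N21203 F244430))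
theorem Q21825 : ∀ i, i < 21825 → P i := stepQ 21824 Q21824 (allL N21824 (tt N21657 F244431) (tt N21699 F244432) (tt N20317 F244433) (tt N20147 (iv D54594)) (tt N23256 D56026) (tt N23237 (iv F250966)) (tt N21824 F244434) (tt N20154 F244435) (tt N20175 F244436) (tt N23227 (iv F250902)))
theorem Q21826 : ∀ i, i < 21826 → P i := stepQ 21825 Q21825 (allL N21825 (tt N21034 F244437) (tt N20778 F244438) (tt N23206 (iv F250756)) (tt N20161 F244439) (tt N23238 (iv F250973)) (tt N21825 F244440) (tt N20149 F244441) (tt N20890 F244442) (tt N23257 D56027) (tt N20148 (iv D54595)))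
theorem Q21827 : ∀ i, i < 21827 → P i := stepQ 21826 Q21826 (allL N21826 (tt N21048 F244443) (tt N20811 F244444) (tt N23254 (iv F251066)) (tt N23258 D56028) (tt N23239 (iv F250979)) (tt N20150 F244445) (tt N23257 (iv F251085)) (tt N20155 F244446) (tt N20149 (iv D54596)) (tt N23229 (iv F250915)))
theorem Q21828 : ∀ i, i < 21828 → P i := stepQ 21827 Q21827 (allL N21827 (tt N21058 F244447) (tt N20812 F244448) (tt N23259 D56029) (tt N20150 (iv D54597)) (tt N20321 F244449) (tt N23258 (iv F251089)) (tt N21827 F244450) (tt N20156 F244451) (tt N20163 F244452) (tt N23230 (iv F250922)))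
theorem Q21829 : ∀ i, i < 21829 → P i := stepQ 21828 Q21828 (allL N21828 (tt N20817 F244453) (tt N20154 F244454) (tt N20772 F244455) (tt N20151 (iv D54598)) (tt N20896 (iv F244460)) (tt N23244 (iv F251013)) (tt N20157 F244456) (tt N21699 F244457) (tt N20176 F244458) (tt N21210 F244459))
theorem Q21830 : ∀ i, i < 21830 → P i := stepQ 21829 Q21829 (allL N21829 (tt N21043 F244461) (tt N21175 F244462) (tt N20155 F244463) (tt N23260 D56030) (tt N23249 (iv F251047)) (tt N20153 F244464) (tt N20893 F244465) (tt N23254 (iv F251068)) (tt N20152 (iv D54599)) (tt N21195 F244466))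
theorem Q21831 : ∀ i, i < 21831 → P i := stepQ 21830 Q21830 (allL N21830 (tt N21056 F244467) (tt N21178 F244468) (tt N23261 D56031) (tt N20153 (iv D54600)) (tt N23262 D56032) (tt N23260 (iv F251100)) (tt N20158 F244469) (tt N23255 (iv F251073)) (tt N21830 F244470) (tt N21208 F244471))
theorem Q21832 : ∀ i, i < 21832 → P i := stepQ 21831 Q21831 (allL N21831 (tt N21650 F244472) (tt N20896 F244473) (tt N20329 F244474) (tt N23262 (iv F251114)) (tt N20154 (iv D54601)) (tt N23263 D56033) (tt N20159 F244475) (tt N23256 (iv F251080)) (tt N20177 F244476) (tt N23231 (iv F250929)))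
theorem Q21833 : ∀ i, i < 21833 → P i := stepQ 21832 Q21832 (allL N21832 (tt N21049 F244477) (tt N20816 F244478) (tt N23264 D56034) (tt N20155 (iv D54602)) (tt N23265 D56035) (tt N20156 F244479) (tt N20895 F244480) (tt N23258 (iv F251090)) (tt N20164 F244481) (tt N23232 (iv F250935)))
theorem Q21834 : ∀ i, i < 21834 → P i := stepQ 21833 Q21833 (allL N21833 (tt N21059 F244482) (tt N23266 D56036) (tt N20156 (iv D54603)) (tt N23261 (iv F251106)) (tt N20333 F244483) (tt N23264 (iv F251123)) (tt N20160 F244484) (tt N23259 (iv F251096)) (tt N20165 F244485) (tt N23233 (iv F250942)))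
theorem Q21835 : ∀ i, i < 21835 → P i := stepQ 21834 Q21834 (allL N21834 (tt N20976 F244486) (tt N21598 F244487) (tt N20158 (iv D54604)) (tt N20160 F244488) (tt N21328 (iv F244493)) (tt N20897 F244489) (tt N23261 (iv F251107)) (tt N21834 F244490) (tt N21834 F244491) (tt N21060 F244492))
theorem Q21836 : ∀ i, i < 21836 → P i := stepQ 21835 Q21835 (allL N21835 (tt N21057 F244494) (tt N20897 F244495) (tt N21328 F244496) (tt N20159 F244497) (tt N20158 (iv D54605)) (tt N21598 F244498) (tt N23262 (iv F251115)) (tt N21835 F244499) (tt N21835 F244500) (tt N21212 F244501))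
theorem Q21837 : ∀ i, i < 21837 → P i := stepQ 21836 Q21836 (allL N21836 (tt N21212 F244502) (tt N20160 F244503) (tt N20338 F244504) (tt N21598 F244505) (tt N20341 F244506) (tt N20159 (iv D54606)) (tt N23266 (iv F251135)) (tt N21836 F244507) (tt N20166 F244508) (tt N21057 F244509))
theorem Q21838 : ∀ i, i < 21838 → P i := stepQ 21837 Q21837 (allL N21837 (tt N21061 F244510) (tt N20820 F244511) (tt N21837 F244512) (tt N23267 D56037) (tt N21374 F244513) (tt N21837 F244514) (tt N20162 F244515) (tt N20898 F244516) (tt N20161 (iv D54607)) (tt N21837 F244517))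
theorem Q21839 : ∀ i, i < 21839 → P i := stepQ 21838 Q21838 (allL N21838 (tt N21066 F244518) (tt N20821 F244519) (tt N23268 D56038) (tt N20162 (iv D54608)) (tt N23269 D56039) (tt N20163 F244520) (tt N23267 (iv F251142)) (tt N20164 F244521) (tt N23258 (iv F251091)) (tt N21838 F244522))
theorem Q21840 : ∀ i, i < 21840 → P i := stepQ 21839 Q21839 (allL N21839 (tt N21072 F244523) (tt N21701 F244524) (tt N20163 (iv D54609)) (tt N21839 F244525) (tt N20345 F244526) (tt N23268 (iv F251148)) (tt N21839 F244527) (tt N20165 F244528) (tt N23259 (iv F251097)) (tt N21839 F244529))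
theorem Q21841 : ∀ i, i < 21841 → P i := stepQ 21840 Q21840 (allL N21840 (tt N21067 F244530) (tt N23270 D56040) (tt N20164 (iv D54610)) (tt N21840 F244531) (tt N23271 D56041) (tt N20165 F244532) (tt N20901 F244533) (tt N23268 (iv F251149)) (tt N23264 (iv F251125)) (tt N21840 F244534))
theorem Q21842 : ∀ i, i < 21842 → P i := stepQ 21841 Q21841 (allL N21841 (tt N21068 F244535) (tt N20825 F244536) (tt N23271 (iv F251165)) (tt N23179 (iv F250572)) (tt N20164 (iv D54611)) (tt N20349 F244537) (tt N20902 F244538) (tt N23269 (iv F251155)) (tt N23265 (iv F251130)) (tt N21841 F244539))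
theorem Q21843 : ∀ i, i < 21843 → P i := stepQ 21842 Q21842 (allL N21842 (tt N21229 F244540) (tt N20165 (iv D54612)) (tt N20372 F244541) (tt N21842 F244542) (tt N20350 F244543) (tt N23270 (iv F251160)) (tt N20166 F244544) (tt N21701 F244545) (tt N23266 (iv F251137)) (tt N21842 F244546))
theorem Q21844 : ∀ i, i < 21844 → P i := stepQ 21843 Q21843 (allL N21843 (tt N21688 F244547) (tt N21659 F244548) (tt N20355 F244549) (tt N20167 (iv D54613)) (tt N23272 D56042) (tt N20175 F244550) (tt N21337 F244551) (tt N20174 F244552) (tt N23237 (iv F250969)) (tt N21843 F244553))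
theorem Q21845 : ∀ i, i < 21845 → P i := stepQ 21844 Q21844 (allL N21844 (tt N20907 F244554) (tt N20171 F244555) (tt N20905 F244556) (tt N21844 F244557) (tt N23241 (iv F250990)) (tt N21844 F244558) (tt N20254 F244559) (tt N21098 F244560) (tt N20168 (iv D54614)) (tt N23273 D56043))
theorem Q21846 : ∀ i, i < 21846 → P i := stepQ 21845 Q21845 (allL N21845 (tt N21662 F244561) (tt N20172 F244562) (tt N20978 F244563) (tt N20169 F244564) (tt N23242 (iv F250998)) (tt N21845 F244565) (tt N20293 F244566) (tt N21082 F244567) (tt N23274 D56044) (tt N20168 (iv D54615)))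
theorem Q21847 : ∀ i, i < 21847 → P i := stepQ 21846 Q21846 (allL N21846 (tt N21663 F244568) (tt N20173 F244569) (tt N20178 F244570) (tt N23275 D56045) (tt N20170 F244571) (tt N21846 F244572) (tt N20354 F244573) (tt N20750 F244574) (tt N20169 (iv D54616)) (tt N21846 F244575))
theorem Q21848 : ∀ i, i < 21848 → P i := stepQ 21847 Q21847 (allL N21847 (tt N20824 F244576) (tt N20174 F244577) (tt N20774 F244578) (tt N20170 (iv D54617)) (tt N23276 D56046) (tt N20176 F244579) (tt N21164 F244580) (tt N21659 F244581) (tt N23244 (iv F251016)) (tt N21847 F244582))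
theorem Q21849 : ∀ i, i < 21849 → P i := stepQ 21848 Q21848 (allL N21848 (tt N21682 F244583) (tt N23273 (iv F251177)) (tt N20253 F244584) (tt N21848 F244585) (tt N23247 (iv F251036)) (tt N21848 F244586) (tt N20256 F244587) (tt N21239 F244588) (tt N23277 D56047) (tt N20171 (iv D54618)))
theorem Q21850 : ∀ i, i < 21850 → P i := stepQ 21849 Q21849 (allL N21849 (tt N21683 F244589) (tt N23274 (iv F251184)) (tt N20290 F244590) (tt N23278 D56048) (tt N23248 (iv F251041)) (tt N21849 F244591) (tt N20295 F244592) (tt N21271 F244593) (tt N20172 (iv D54619)) (tt N23277 (iv F251208)))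
theorem Q21851 : ∀ i, i < 21851 → P i := stepQ 21850 Q21850 (allL N21850 (tt N21687 F244594) (tt N23275 (iv F251190)) (tt N21337 F244595) (tt N20173 (iv D54620)) (tt N23279 D56049) (tt N21850 F244596) (tt N20355 F244597) (tt N21333 F244598) (tt N23278 (iv F251214)) (tt N21850 F244599))
theorem Q21852 : ∀ i, i < 21852 → P i := stepQ 21851 Q21851 (allL N21851 (tt N21697 F244600) (tt N23276 (iv F251197)) (tt N20366 F244601) (tt N23279 (iv F251217)) (tt N20174 (iv D54621)) (tt N23280 D56050) (tt N21165 F244602) (tt N23272 (iv F251174)) (tt N23251 (iv F251056)) (tt N21851 F244603))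
theorem Q21853 : ∀ i, i < 21853 → P i := stepQ 21852 Q21852 (allL N21852 (tt N21691 F244604) (tt N20900 F244605) (tt N20369 F244606) (tt N21852 F244607) (tt N20175 (iv D54622)) (tt N23281 D56051) (tt N21852 F244608) (tt N20177 F244609) (tt N23256 (iv F251081)) (tt N21852 F244610))
theorem Q21854 : ∀ i, i < 21854 → P i := stepQ 21853 Q21853 (allL N21853 (tt N21695 F244611) (tt N20901 F244612) (tt N20371 F244613) (tt N21853 F244614) (tt N23280 (iv F251224)) (tt N20177 (iv D54623)) (tt N23270 (iv F251161)) (tt N23281 (iv F251230)) (tt N23263 (iv F251121)) (tt N21853 F244615))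
theorem Q21855 : ∀ i, i < 21855 → P i := stepQ 21854 Q21854 (allL N21854 (tt N20828 F244616) (tt N20207 F244617) (tt N20807 F244618) (tt N20782 F244619) (tt N20180 (iv D54624)) (tt N20835 F244620) (tt N20775 F244621) (tt N20182 F244622) (tt N20189 F244623) (tt N23282 D56052))
theorem Q21856 : ∀ i, i < 21856 → P i := stepQ 21855 Q21855 (allL N21855 (tt N20829 F244624) (tt N20208 F244625) (tt N20814 F244626) (tt N20181 F244627) (tt N23282 (iv F251236)) (tt N20184 F244628) (tt N20776 F244629) (tt N20183 F244630) (tt N23283 D56053) (tt N20180 (iv D54625)))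
theorem Q21857 : ∀ i, i < 21857 → P i := stepQ 21856 Q21856 (allL N21856 (tt N20830 F244631) (tt N20212 F244632) (tt N20808 F244633) (tt N21484 F244634) (tt N20183 F244635) (tt N20840 F244636) (tt N20805 F244637) (tt N23282 (iv F251239)) (tt N23284 D56054) (tt N20182 (iv D54626)))
theorem Q21858 : ∀ i, i < 21858 → P i := stepQ 21857 Q21857 (allL N21857 (tt N20831 F244638) (tt N20213 F244639) (tt N20815 F244640) (tt N21267 F244641) (tt N23284 (iv F251251)) (tt N20185 F244642) (tt N20813 F244643) (tt N23283 (iv F251246)) (tt N20183 (iv D54627)) (tt N20195 F244644))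
theorem Q21859 : ∀ i, i < 21859 → P i := stepQ 21858 Q21858 (allL N21858 (tt N20832 F244645) (tt N20214 F244646) (tt N20818 F244647) (tt N21268 F244648) (tt N20843 F244649) (tt N23283 (iv F251244)) (tt N21858 F244650) (tt N20185 F244651) (tt N20184 (iv D54628)) (tt N20197 F244652))
theorem Q21860 : ∀ i, i < 21860 → P i := stepQ 21859 Q21859 (allL N21859 (tt N20742 F244653) (tt N20859 F244654) (tt N20186 (iv D54629)) (tt N21859 F244655) (tt N23285 D56055) (tt N21859 F244656) (tt N20188 F244657) (tt N20490 F244658) (tt N20739 F244659) (tt N23286 D56056))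
theorem Q21861 : ∀ i, i < 21861 → P i := stepQ 21860 Q21860 (allL N21860 (tt N20833 F244660) (tt N20220 F244661) (tt N23285 (iv F251257)) (tt N20493 F244662) (tt N20186 (iv D54630)) (tt N23287 D56057) (tt N20189 F244663) (tt N20491 F244664) (tt N20775 F244665) (tt N23288 D56058))
theorem Q21862 : ∀ i, i < 21862 → P i := stepQ 21861 Q21861 (allL N21861 (tt N20834 F244666) (tt N20221 F244667) (tt N23286 (iv F251265)) (tt N20187 F244668) (tt N23288 (iv F251281)) (tt N21861 F244669) (tt N20190 F244670) (tt N20492 F244671) (tt N23289 D56059) (tt N20186 (iv D54631)))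
theorem Q21863 : ∀ i, i < 21863 → P i := stepQ 21862 Q21862 (allL N21862 (tt N20835 F244672) (tt N20854 F244673) (tt N20189 F244674) (tt N21489 F244678) (tt N20188 (iv D54632)) (tt N20828 F244675) (tt N23285 (iv F251258)) (tt N20191 F244676) (tt N20807 F244677) (tt N23290 D56060))
theorem Q21864 : ∀ i, i < 21864 → P i := stepQ 21863 Q21863 (allL N21863 (tt N20836 F244679) (tt N20860 F244680) (tt N20190 F244681) (tt N21863 F244682) (tt N23290 (iv F251295)) (tt N20196 F244683) (tt N23286 (iv F251268)) (tt N20192 F244684) (tt N23291 D56061) (tt N20188 (iv D54633)))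
theorem Q21865 : ∀ i, i < 21865 → P i := stepQ 21864 Q21864 (allL N21864 (tt N20837 F244685) (tt N20222 F244686) (tt N23290 (iv F251293)) (tt N21443 F244687) (tt N20190 F244688) (tt N21442 F244689) (tt N23288 (iv F251282)) (tt N20194 F244690) (tt N23292 D56062) (tt N20189 (iv D54634)))
theorem Q21866 : ∀ i, i < 21866 → P i := stepQ 21865 Q21865 (allL N21865 (tt N20838 F244691) (tt N20223 F244692) (tt N23291 (iv F251300)) (tt N21327 F244693) (tt N23292 (iv F251306)) (tt N20197 F244694) (tt N23289 (iv F251288)) (tt N20195 F244695) (tt N20190 (iv D54635)) (tt N23283 (iv F251247)))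
theorem Q21867 : ∀ i, i < 21867 → P i := stepQ 21866 Q21866 (allL N21866 (tt N20839 F244696) (tt N20849 F244697) (tt N20795 F244698) (tt N20191 (iv D54636)) (tt N21866 F244699) (tt N20793 F244700) (tt N20779 F244701) (tt N21489 F244702) (tt N21478 (iv F244703)) (tt N23293 D56063))
theorem Q21868 : ∀ i, i < 21868 → P i := stepQ 21867 Q21867 (allL N21867 (tt N20840 F244704) (tt N20857 F244705) (tt N20194 F244706) (tt N23293 (iv F251312)) (tt N20192 F244707) (tt N20830 F244708) (tt N20787 F244709) (tt N23290 (iv F251297)) (tt N23294 D56064) (tt N20191 (iv D54637)))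
theorem Q21869 : ∀ i, i < 21869 → P i := stepQ 21868 Q21868 (allL N21868 (tt N20841 F244710) (tt N20862 F244711) (tt N20195 F244712) (tt N23295 D56065) (tt N23294 (iv F251320)) (tt N20198 F244713) (tt N20791 F244714) (tt N23291 (iv F251302)) (tt N20192 (iv D54638)) (tt N20815 F244715))
theorem Q21870 : ∀ i, i < 21870 → P i := stepQ 21869 Q21869 (allL N21869 (tt N20808 F244716) (tt N20227 F244717) (tt N20830 F244718) (tt N21435 F244719) (tt N20199 F244720) (tt N20194 F244721) (tt N20768 F244722) (tt N21442 F244723) (tt N23296 D56066) (tt N20193 (iv D54639)))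
theorem Q21871 : ∀ i, i < 21871 → P i := stepQ 21870 Q21870 (allL N21870 (tt N20842 F244724) (tt N20228 F244725) (tt N23294 (iv F251319)) (tt N23297 D56067) (tt N20195 F244726) (tt N23296 (iv F251335)) (tt N21172 F244727) (tt N23292 (iv F251308)) (tt N20194 (iv D54640)) (tt N23284 (iv F251254)))
theorem Q21872 : ∀ i, i < 21872 → P i := stepQ 21871 Q21871 (allL N21871 (tt N20843 F244728) (tt N20861 F244729) (tt N20197 F244730) (tt N23298 D56068) (tt N20832 F244731) (tt N23291 (iv F251301)) (tt N21871 F244732) (tt N20198 F244733) (tt N20196 (iv D54641)) (tt N20818 F244734))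
theorem Q21873 : ∀ i, i < 21873 → P i := stepQ 21872 Q21872 (allL N21872 (tt N20844 F244735) (tt N20863 F244736) (tt N21332 F244737) (tt N20198 (iv D54642)) (tt N21521 F244738) (tt N23295 (iv F251327)) (tt N20201 F244739) (tt N23298 (iv F251348)) (tt N21872 F244740) (tt N20819 F244741))
theorem Q21874 : ∀ i, i < 21874 → P i := stepQ 21873 Q21873 (allL N21873 (tt N20815 F244742) (tt N20232 F244743) (tt N20831 F244744) (tt N23299 D56069) (tt N23296 (iv F251334)) (tt N20200 F244745) (tt N20771 F244746) (tt N21469 F244747) (tt N20199 (iv D54643)) (tt N20841 F244748))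
theorem Q21875 : ∀ i, i < 21875 → P i := stepQ 21874 Q21874 (allL N21874 (tt N20819 F244749) (tt N20233 F244750) (tt N21162 F244751) (tt N20200 (iv D54644)) (tt N20340 F244752) (tt N23299 (iv F251354)) (tt N20202 F244753) (tt N21676 F244754) (tt N20204 F244755) (tt N20844 F244756))
theorem Q21876 : ∀ i, i < 21876 → P i := stepQ 21875 Q21875 (allL N21875 (tt N20823 F244757) (tt N20239 F244758) (tt N21164 F244759) (tt N20203 (iv D54645)) (tt N23300 D56070) (tt N20204 F244760) (tt N20774 F244761) (tt N21470 F244762) (tt N23299 (iv F251357)) (tt N21875 F244763))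
theorem Q21877 : ∀ i, i < 21877 → P i := stepQ 21876 Q21876 (allL N21876 (tt N20249 F244764) (tt N20839 F244765) (tt N21296 F244766) (tt N20211 F244767) (tt N21876 F244768) (tt N20205 (iv D54646)) (tt N21505 F244769) (tt N21423 F244770) (tt N21123 F244771) (tt N23301 D56071))
theorem Q21878 : ∀ i, i < 21878 → P i := stepQ 21877 Q21877 (allL N21877 (tt N20250 F244772) (tt N21484 F244773) (tt N21298 F244774) (tt N20212 F244775) (tt N20206 F244776) (tt N23301 (iv F251372)) (tt N21147 F244777) (tt N23213 (iv F250806)) (tt N23302 D56072) (tt N20205 (iv D54647)))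
theorem Q21879 : ∀ i, i < 21879 → P i := stepQ 21878 Q21878 (allL N21878 (tt N20251 F244778) (tt N21485 F244779) (tt N21343 F244780) (tt N21241 F244781) (tt N23302 (iv F251378)) (tt N21878 F244782) (tt N21148 F244783) (tt N23214 (iv F250813)) (tt N20206 (iv D54648)) (tt N21142 F244784))
theorem Q21880 : ∀ i, i < 21880 → P i := stepQ 21879 Q21879 (allL N21879 (tt N20258 F244785) (tt N23282 (iv F251233)) (tt N21625 F244786) (tt N23213 (iv F250802)) (tt N20208 F244787) (tt N21446 F244788) (tt N23203 (iv F250736)) (tt N20212 F244789) (tt N23303 D56073) (tt N20207 (iv D54649)))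
theorem Q21881 : ∀ i, i < 21881 → P i := stepQ 21880 Q21880 (allL N21880 (tt N20259 F244790) (tt N23283 (iv F251241)) (tt N21684 F244791) (tt N21597 F244792) (tt N23303 (iv F251383)) (tt N20214 F244793) (tt N23204 (iv F250743)) (tt N20213 F244794) (tt N20208 (iv D54650)) (tt N20223 F244795))
theorem Q21882 : ∀ i, i < 21882 → P i := stepQ 21881 Q21881 (allL N21881 (tt N20262 F244796) (tt N20880 F244797) (tt N21253 F244798) (tt N20209 (iv D54651)) (tt N21881 F244799) (tt N20877 F244800) (tt N21173 F244801) (tt N21577 F244802) (tt N21234 F244803) (tt N23304 D56074))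
theorem Q21883 : ∀ i, i < 21883 → P i := stepQ 21882 Q21882 (allL N21882 (tt N20264 F244804) (tt N20883 F244805) (tt N20212 F244806) (tt N23304 (iv F251390)) (tt N20210 F244807) (tt N20878 F244808) (tt N21174 F244809) (tt N21625 F244810) (tt N23305 D56075) (tt N20209 (iv D54652)))
theorem Q21884 : ∀ i, i < 21884 → P i := stepQ 21883 Q21883 (allL N21883 (tt N20265 F244811) (tt N20893 F244812) (tt N20213 F244813) (tt N23306 D56076) (tt N23305 (iv F251398)) (tt N20215 F244814) (tt N21175 F244815) (tt N21684 F244816) (tt N20210 (iv D54653)) (tt N20225 F244817))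
theorem Q21885 : ∀ i, i < 21885 → P i := stepQ 21884 Q21884 (allL N21884 (tt N20267 F244818) (tt N20840 F244819) (tt N20878 F244820) (tt N23301 (iv F251370)) (tt N20216 F244821) (tt N20212 F244822) (tt N21507 F244823) (tt N21446 F244824) (tt N23307 D56077) (tt N20211 (iv D54654)))
theorem Q21886 : ∀ i, i < 21886 → P i := stepQ 21885 Q21885 (allL N21885 (tt N20268 F244825) (tt N23284 (iv F251249)) (tt N23305 (iv F251397)) (tt N23308 D56078) (tt N20213 F244826) (tt N23307 (iv F251415)) (tt N21176 F244827) (tt N23303 (iv F251385)) (tt N20212 (iv D54655)) (tt N20228 F244828))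
theorem Q21887 : ∀ i, i < 21887 → P i := stepQ 21886 Q21886 (allL N21886 (tt N20277 F244829) (tt N20894 F244830) (tt N21600 F244831) (tt N20215 (iv D54656)) (tt N21593 F244832) (tt N23306 (iv F251406)) (tt N20218 F244833) (tt N21686 F244834) (tt N21886 F244835) (tt N20229 F244836))
theorem Q21888 : ∀ i, i < 21888 → P i := stepQ 21887 Q21887 (allL N21887 (tt N20280 F244837) (tt N20841 F244838) (tt N20879 F244839) (tt N23309 D56079) (tt N23307 (iv F251414)) (tt N20217 F244840) (tt N21520 F244841) (tt N21472 F244842) (tt N20216 (iv D54657)) (tt N20232 F244843))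
theorem Q21889 : ∀ i, i < 21889 → P i := stepQ 21888 Q21888 (allL N21888 (tt N20281 F244844) (tt N20844 F244845) (tt N21265 F244846) (tt N20217 (iv D54658)) (tt N20974 F244847) (tt N23309 (iv F251426)) (tt N20219 F244848) (tt N21677 F244849) (tt N21888 F244850) (tt N20233 F244851))
theorem Q21890 : ∀ i, i < 21890 → P i := stepQ 21889 Q21889 (allL N21889 (tt N20288 F244852) (tt N23287 (iv F251271)) (tt N21011 F244853) (tt N20695 F244854) (tt N21889 F244855) (tt N20220 (iv D54659)) (tt N20692 F244856) (tt N21182 F244857) (tt N23202 (iv F250730)) (tt N23310 D56080))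
theorem Q21891 : ∀ i, i < 21891 → P i := stepQ 21890 Q21890 (allL N21890 (tt N20289 F244858) (tt N23288 (iv F251279)) (tt N21624 F244859) (tt N21448 F244860) (tt N20221 F244861) (tt N23310 (iv F251435)) (tt N20222 F244862) (tt N21183 F244863) (tt N23311 D56081) (tt N20220 (iv D54660)))
theorem Q21892 : ∀ i, i < 21892 → P i := stepQ 21891 Q21891 (allL N21891 (tt N20290 F244864) (tt N23289 (iv F251285)) (tt N21683 F244865) (tt N21646 F244866) (tt N23311 (iv F251440)) (tt N21891 F244867) (tt N20223 F244868) (tt N21184 F244869) (tt N20221 (iv D54661)) (tt N23204 (iv F250745)))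
theorem Q21893 : ∀ i, i < 21893 → P i := stepQ 21892 Q21892 (allL N21892 (tt N20298 F244870) (tt N23292 (iv F251305)) (tt N21626 F244871) (tt N23312 D56082) (tt N20223 F244872) (tt N21447 F244873) (tt N23311 (iv F251441)) (tt N20228 F244874) (tt N20222 (iv D54662)) (tt N23303 (iv F251386)))
theorem Q21894 : ∀ i, i < 21894 → P i := stepQ 21893 Q21893 (allL N21893 (tt N20309 F244875) (tt N21634 F244876) (tt N20228 F244877) (tt N23313 D56083) (tt N20225 F244878) (tt N21608 F244879) (tt N21199 F244880) (tt N21626 F244881) (tt N20224 (iv D54663)) (tt N23305 (iv F251402)))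
theorem Q21895 : ∀ i, i < 21895 → P i := stepQ 21894 Q21894 (allL N21894 (tt N20310 F244882) (tt N21654 F244883) (tt N21652 F244884) (tt N20225 (iv D54664)) (tt N23314 D56084) (tt N20229 F244885) (tt N21200 F244886) (tt N21685 F244887) (tt N20242 F244888) (tt N23306 (iv F251410)))
theorem Q21896 : ∀ i, i < 21896 → P i := stepQ 21895 Q21895 (allL N21895 (tt N20311 F244889) (tt N20519 F244890) (tt N20979 F244891) (tt N20517 F244892) (tt N20230 F244893) (tt N20754 F244894) (tt N20680 F244895) (tt N20226 (iv D54665)) (tt N21495 F244896) (tt N23315 D56085))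
theorem Q21897 : ∀ i, i < 21897 → P i := stepQ 21896 Q21896 (allL N21896 (tt N20312 F244897) (tt N20768 F244898) (tt N21079 F244899) (tt N21431 F244900) (tt N20231 F244901) (tt N20758 F244902) (tt N20227 F244903) (tt N23315 (iv F251468)) (tt N23316 D56086) (tt N20226 (iv D54666)))
theorem Q21898 : ∀ i, i < 21898 → P i := stepQ 21897 Q21897 (allL N21897 (tt N20313 F244904) (tt N23296 (iv F251332)) (tt N21608 F244905) (tt N23317 D56087) (tt N20232 F244906) (tt N20228 F244907) (tt N23316 (iv F251474)) (tt N21447 F244908) (tt N20227 (iv D54667)) (tt N23307 (iv F251418)))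
theorem Q21899 : ∀ i, i < 21899 → P i := stepQ 21898 Q21898 (allL N21898 (tt N20314 F244909) (tt N23297 (iv F251340)) (tt N23318 D56088) (tt N20228 (iv D54668)) (tt N21636 F244910) (tt N23317 (iv F251477)) (tt N21202 F244911) (tt N23312 (iv F251446)) (tt N23181 (iv F250590)) (tt N23308 (iv F251422)))
theorem Q21900 : ∀ i, i < 21900 → P i := stepQ 21899 Q21899 (allL N21899 (tt N20330 F244912) (tt N20544 F244913) (tt N21073 F244914) (tt N20237 F244915) (tt N23315 (iv F251465)) (tt N20234 F244916) (tt N20736 F244917) (tt N20231 F244918) (tt N23319 D56089) (tt N20230 (iv D54669)))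
theorem Q21901 : ∀ i, i < 21901 → P i := stepQ 21900 Q21900 (allL N21900 (tt N20331 F244919) (tt N20771 F244920) (tt N21010 F244921) (tt N23320 D56090) (tt N23316 (iv F251472)) (tt N20235 F244922) (tt N20232 F244923) (tt N23319 (iv F251488)) (tt N20231 (iv D54670)) (tt N21520 F244924))
theorem Q21902 : ∀ i, i < 21902 → P i := stepQ 21901 Q21901 (allL N21901 (tt N20332 F244925) (tt N23299 (iv F251352)) (tt N21294 F244926) (tt N20232 (iv D54671)) (tt N23321 D56091) (tt N20233 F244927) (tt N23320 (iv F251494)) (tt N21473 F244928) (tt N20239 F244929) (tt N23309 (iv F251430)))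
theorem Q21903 : ∀ i, i < 21903 → P i := stepQ 21902 Q21902 (allL N21902 (tt N20339 F244930) (tt N20770 F244931) (tt N21028 F244932) (tt N23322 D56092) (tt N20761 F244933) (tt N23319 (iv F251486)) (tt N21902 F244934) (tt N20235 F244935) (tt N20234 (iv D54672)) (tt N21516 F244936))
theorem Q21904 : ∀ i, i < 21904 → P i := stepQ 21903 Q21903 (allL N21903 (tt N20340 F244937) (tt N20772 F244938) (tt N20325 F244939) (tt N20235 (iv D54673)) (tt N20819 F244940) (tt N23320 (iv F251493)) (tt N20236 F244941) (tt N23322 (iv F251507)) (tt N20241 F244942) (tt N21521 F244943))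
theorem Q21905 : ∀ i, i < 21905 → P i := stepQ 21904 Q21904 (allL N21904 (tt N20346 F244944) (tt N20545 F244945) (tt N20374 F244946) (tt N23323 D56093) (tt N20543 F244947) (tt N20240 F244948) (tt N20737 F244949) (tt N20238 F244950) (tt N20237 (iv D54674)) (tt N21904 F244951))
theorem Q21906 : ∀ i, i < 21906 → P i := stepQ 21905 Q21905 (allL N21905 (tt N20347 F244952) (tt N20774 F244953) (tt N20362 F244954) (tt N20238 (iv D54675)) (tt N23324 D56094) (tt N20241 F244955) (tt N20239 F244956) (tt N23323 (iv F251515)) (tt N23320 (iv F251495)) (tt N21905 F244957))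
theorem Q21907 : ∀ i, i < 21907 → P i := stepQ 21906 Q21906 (allL N21906 (tt N20349 F244958) (tt N23300 (iv F251360)) (tt N21342 F244959) (tt N21467 F244960) (tt N20239 (iv D54676)) (tt N21068 F244961) (tt N23324 (iv F251522)) (tt N21474 F244962) (tt N23321 (iv F251501)) (tt N21906 F244963))
theorem Q21908 : ∀ i, i < 21908 → P i := stepQ 21907 Q21907 (allL N21907 (tt N20351 F244964) (tt N20773 F244965) (tt N20368 F244966) (tt N20240 (iv D54677)) (tt N20826 F244967) (tt N23323 (iv F251513)) (tt N21907 F244968) (tt N20241 F244969) (tt N23322 (iv F251508)) (tt N21907 F244970))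
theorem Q21909 : ∀ i, i < 21909 → P i := stepQ 21908 Q21908 (allL N21908 (tt N20366 F244971) (tt N21698 F244972) (tt N21697 F244973) (tt N21693 F244974) (tt N20242 (iv D54678)) (tt N21696 F244975) (tt N21225 F244976) (tt N21689 F244977) (tt N23314 (iv F251460)) (tt N21908 F244978))
theorem Q21910 : ∀ i, i < 21910 → P i := stepQ 21909 Q21909 (allL N21909 (tt N20639 F244979) (tt N20243 (iv D54679)) (tt N20913 F244980) (tt N21909 F244981) (tt N23325 D56095) (tt N21909 F244982) (tt N21309 F244983) (tt N20246 F244984) (tt N20919 F244985) (tt N23326 D56096))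
theorem Q21911 : ∀ i, i < 21911 → P i := stepQ 21910 Q21910 (allL N21910 (tt N21278 F244986) (tt N23325 (iv F251525)) (tt N20244 F244987) (tt N23327 D56097) (tt N20243 (iv D54680)) (tt N23328 D56098) (tt N21581 F244988) (tt N20247 F244989) (tt N21187 F244990) (tt N23329 D56099))
theorem Q21912 : ∀ i, i < 21912 → P i := stepQ 21911 Q21911 (allL N21911 (tt N21335 F244991) (tt N23326 (iv F251533)) (tt N20245 F244992) (tt N21911 F244993) (tt N23329 (iv F251557)) (tt N21911 F244994) (tt N21594 F244995) (tt N20248 F244996) (tt N23330 D56100) (tt N20243 (iv D54681)))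
theorem Q21913 : ∀ i, i < 21913 → P i := stepQ 21912 Q21912 (allL N21912 (tt N21423 F244997) (tt N20916 F244998) (tt N23328 (iv F251549)) (tt N20257 F244999) (tt N21912 F245000) (tt N20244 (iv D54682)) (tt N23331 D56101) (tt N20249 F245001) (tt N21406 F245002) (tt N23332 D56102))
theorem Q21914 : ∀ i, i < 21914 → P i := stepQ 21913 Q21913 (allL N21913 (tt N23213 (iv F250799)) (tt N20917 F245003) (tt N23329 (iv F251556)) (tt N20258 F245004) (tt N20245 F245005) (tt N23332 (iv F251578)) (tt N21585 F245006) (tt N20250 F245007) (tt N23333 D56103) (tt N20244 (iv D54683)))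
theorem Q21915 : ∀ i, i < 21915 → P i := stepQ 21914 Q21914 (allL N21914 (tt N23214 (iv F250807)) (tt N20918 F245008) (tt N23330 (iv F251561)) (tt N23204 (iv F250741)) (tt N23333 (iv F251581)) (tt N21914 F245009) (tt N21597 F245010) (tt N20251 F245011) (tt N20245 (iv D54684)) (tt N21646 F245012))
theorem Q21916 : ∀ i, i < 21916 → P i := stepQ 21915 Q21915 (allL N21915 (tt N20246 (iv D54685)) (tt N20636 F245013) (tt N20919 F245014) (tt N21915 F245015) (tt N23334 D56104) (tt N21915 F245016) (tt N21231 F245017) (tt N20639 F245018) (tt N20913 F245019) (tt N23335 D56105))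
theorem Q21917 : ∀ i, i < 21917 → P i := stepQ 21916 Q21916 (allL N21916 (tt N23334 (iv F251585)) (tt N20247 F245020) (tt N20920 F245021) (tt N23245 (iv F251021)) (tt N20246 (iv D54686)) (tt N23221 (iv F250861)) (tt N21232 F245022) (tt N23325 (iv F251528)) (tt N21193 F245023) (tt N23336 D56106))
theorem Q21918 : ∀ i, i < 21918 → P i := stepQ 21917 Q21917 (allL N21917 (tt N23335 (iv F251593)) (tt N20248 F245024) (tt N20921 F245025) (tt N21917 F245026) (tt N23336 (iv F251602)) (tt N21917 F245027) (tt N21233 F245028) (tt N23326 (iv F251538)) (tt N23337 D56107) (tt N20246 (iv D54687)))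
theorem Q21919 : ∀ i, i < 21919 → P i := stepQ 21918 Q21918 (allL N21918 (tt N21253 F245029) (tt N23245 (iv F251019)) (tt N20262 F245030) (tt N20247 (iv D54688)) (tt N21918 F245031) (tt N23241 (iv F250991)) (tt N21234 F245032) (tt N23327 (iv F251544)) (tt N21173 F245033) (tt N23338 D56108))
theorem Q21920 : ∀ i, i < 21920 → P i := stepQ 21919 Q21919 (allL N21919 (tt N21296 F245034) (tt N23221 (iv F250857)) (tt N20249 F245035) (tt N23241 (iv F250989)) (tt N21919 F245036) (tt N20247 (iv D54689)) (tt N21559 F245037) (tt N23328 (iv F251553)) (tt N21196 F245038) (tt N23339 D56109))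
theorem Q21921 : ∀ i, i < 21921 → P i := stepQ 21920 Q21920 (allL N21920 (tt N21298 F245039) (tt N23336 (iv F251600)) (tt N20250 F245040) (tt N23338 (iv F251611)) (tt N20248 F245041) (tt N23339 (iv F251617)) (tt N21235 F245042) (tt N23329 (iv F251559)) (tt N23340 D56110) (tt N20247 (iv D54690)))
theorem Q21922 : ∀ i, i < 21922 → P i := stepQ 21921 Q21921 (allL N21921 (tt N21343 F245043) (tt N23337 (iv F251604)) (tt N20251 F245044) (tt N23341 D56111) (tt N23340 (iv F251621)) (tt N21921 F245045) (tt N21236 F245046) (tt N23330 (iv F251564)) (tt N20248 (iv D54691)) (tt N21223 F245047))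
theorem Q21923 : ∀ i, i < 21923 → P i := stepQ 21922 Q21922 (allL N21922 (tt N23301 (iv F251367)) (tt N20927 F245048) (tt N23339 (iv F251615)) (tt N20267 F245049) (tt N21922 F245050) (tt N20250 F245051) (tt N21562 F245052) (tt N23332 (iv F251579)) (tt N23342 D56112) (tt N20249 (iv D54692)))
theorem Q21924 : ∀ i, i < 21924 → P i := stepQ 21923 Q21923 (allL N21923 (tt N23302 (iv F251375)) (tt N20928 F245053) (tt N23340 (iv F251620)) (tt N23343 D56113) (tt N20251 F245054) (tt N23342 (iv F251631)) (tt N21237 F245055) (tt N23333 (iv F251583)) (tt N20250 (iv D54693)) (tt N21613 F245056))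
theorem Q21925 : ∀ i, i < 21925 → P i := stepQ 21924 Q21924 (allL N21924 (tt N23202 (iv F250723)) (tt N20931 F245057) (tt N23245 (iv F251020)) (tt N20951 F245058) (tt N21924 F245059) (tt N20252 (iv D54694)) (tt N23344 D56114) (tt N20926 F245060) (tt N20288 F245061) (tt N23345 D56115))
theorem Q21926 : ∀ i, i < 21926 → P i := stepQ 21925 Q21925 (allL N21925 (tt N23203 (iv F250731)) (tt N20932 F245062) (tt N23247 (iv F251035)) (tt N21585 F245063) (tt N20253 F245064) (tt N23345 (iv F251649)) (tt N20258 F245065) (tt N21240 F245066) (tt N23346 D56116) (tt N20252 (iv D54695)))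
theorem Q21927 : ∀ i, i < 21927 → P i := stepQ 21926 Q21926 (allL N21926 (tt N23204 (iv F250738)) (tt N20933 F245067) (tt N23277 (iv F251204)) (tt N23214 (iv F250810)) (tt N23346 (iv F251652)) (tt N21926 F245068) (tt N20259 F245069) (tt N21241 F245070) (tt N20253 (iv D54696)) (tt N20290 F245071))
theorem Q21928 : ∀ i, i < 21928 → P i := stepQ 21927 Q21927 (allL N21927 (tt N20989 F245072) (tt N20255 F245073) (tt N20934 F245074) (tt N21559 F245078) (tt N20254 (iv D54697)) (tt N20986 F245075) (tt N23241 (iv F250992)) (tt N20260 F245076) (tt N20292 F245077) (tt N23347 D56117))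
theorem Q21929 : ∀ i, i < 21929 → P i := stepQ 21928 Q21928 (allL N21928 (tt N21026 F245079) (tt N20256 F245080) (tt N20935 F245081) (tt N21928 F245082) (tt N23347 (iv F251660)) (tt N20269 F245083) (tt N23273 (iv F251181)) (tt N20261 F245084) (tt N23348 D56118) (tt N20254 (iv D54698)))
theorem Q21930 : ∀ i, i < 21930 → P i := stepQ 21929 Q21929 (allL N21929 (tt N21577 F245085) (tt N21559 F245086) (tt N23327 (iv F251541)) (tt N20255 (iv D54699)) (tt N21929 F245087) (tt N21099 F245088) (tt N23221 (iv F250862)) (tt N20262 F245089) (tt N21101 F245090) (tt N23349 D56119))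
theorem Q21931 : ∀ i, i < 21931 → P i := stepQ 21930 Q21930 (allL N21930 (tt N21625 F245091) (tt N23347 (iv F251657)) (tt N20258 F245092) (tt N23349 (iv F251671)) (tt N20256 F245093) (tt N21542 F245094) (tt N23247 (iv F251037)) (tt N20264 F245095) (tt N23350 D56120) (tt N20255 (iv D54700)))
theorem Q21932 : ∀ i, i < 21932 → P i := stepQ 21931 Q21931 (allL N21931 (tt N21684 F245096) (tt N23348 (iv F251664)) (tt N20259 F245097) (tt N23351 D56121) (tt N23350 (iv F251677)) (tt N20270 F245098) (tt N23277 (iv F251206)) (tt N20265 F245099) (tt N20256 (iv D54701)) (tt N20295 F245100))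
theorem Q21933 : ∀ i, i < 21933 → P i := stepQ 21932 Q21932 (allL N21932 (tt N20693 F245101) (tt N20939 F245102) (tt N20881 F245103) (tt N23331 (iv F251569)) (tt N20271 F245104) (tt N23344 (iv F251643)) (tt N20257 (iv D54702)) (tt N21571 (iv F245106)) (tt N20296 F245105) (tt N23352 D56122))
theorem Q21934 : ∀ i, i < 21934 → P i := stepQ 21933 Q21933 (allL N21933 (tt N21446 F245107) (tt N20940 F245108) (tt N21542 F245109) (tt N23332 (iv F251576)) (tt N20272 F245110) (tt N20258 F245111) (tt N23352 (iv F251690)) (tt N20267 F245112) (tt N23353 D56123) (tt N20257 (iv D54703)))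
theorem Q21935 : ∀ i, i < 21935 → P i := stepQ 21934 Q21934 (allL N21934 (tt N23303 (iv F251381)) (tt N20941 F245113) (tt N23350 (iv F251676)) (tt N23354 D56124) (tt N20259 F245114) (tt N23353 (iv F251696)) (tt N23346 (iv F251653)) (tt N20268 F245115) (tt N20258 (iv D54704)) (tt N20298 F245116))
theorem Q21936 : ∀ i, i < 21936 → P i := stepQ 21935 Q21935 (allL N21935 (tt N21005 F245117) (tt N20262 F245118) (tt N20931 (iv F245123)) (tt N20260 (iv D54705)) (tt N21935 F245119) (tt N20929 F245120) (tt N21248 F245121) (tt N21559 F245122) (tt N20980 (iv F245124)) (tt N23355 D56125))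
theorem Q21937 : ∀ i, i < 21937 → P i := stepQ 21936 Q21936 (allL N21936 (tt N21008 F245125) (tt N20264 F245126) (tt N20943 F245127) (tt N23355 (iv F251705)) (tt N20261 F245128) (tt N21003 F245129) (tt N21250 F245130) (tt N23347 (iv F251662)) (tt N23356 D56126) (tt N20260 (iv D54706)))
theorem Q21938 : ∀ i, i < 21938 → P i := stepQ 21937 Q21937 (allL N21937 (tt N21040 F245131) (tt N20265 F245132) (tt N20944 F245133) (tt N23357 D56127) (tt N23356 (iv F251713)) (tt N20274 F245134) (tt N21251 F245135) (tt N23348 (iv F251667)) (tt N20261 (iv D54707)) (tt N20304 F245136))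
theorem Q21939 : ∀ i, i < 21939 → P i := stepQ 21938 Q21938 (allL N21938 (tt N20877 F245137) (tt N20929 F245138) (tt N23241 (iv F250988)) (tt N20263 F245139) (tt N20905 (iv F245141)) (tt N20262 (iv D54708)) (tt N20934 (iv F245142)) (tt N21099 F245140) (tt N20977 (iv F245143)) (tt N23358 D56128))
theorem Q21940 : ∀ i, i < 21940 → P i := stepQ 21939 Q21939 (allL N21939 (tt N21234 F245144) (tt N20980 F245145) (tt N21173 F245146) (tt N20305 F245147) (tt N21939 F245148) (tt N20977 F245149) (tt N21253 F245150) (tt N21101 F245151) (tt N20262 (iv D54709)) (tt N23359 D56129))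
theorem Q21941 : ∀ i, i < 21941 → P i := stepQ 21940 Q21940 (allL N21940 (tt N23304 (iv F251387)) (tt N23355 (iv F251703)) (tt N23338 (iv F251610)) (tt N20264 F245152) (tt N21940 F245153) (tt N23358 (iv F251728)) (tt N21254 F245154) (tt N23349 (iv F251674)) (tt N23360 D56130) (tt N20262 (iv D54710)))
theorem Q21942 : ∀ i, i < 21942 → P i := stepQ 21941 Q21941 (allL N21941 (tt N20878 F245155) (tt N21003 F245156) (tt N20267 F245157) (tt N23358 (iv F251726)) (tt N20275 F245158) (tt N20264 F245159) (tt N21538 F245160) (tt N21542 F245161) (tt N23361 D56131) (tt N20263 (iv D54711)))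
theorem Q21943 : ∀ i, i < 21943 → P i := stepQ 21942 Q21942 (allL N21942 (tt N23305 (iv F251395)) (tt N23356 (iv F251711)) (tt N20268 F245162) (tt N23362 D56132) (tt N20265 F245163) (tt N23361 (iv F251745)) (tt N21256 F245164) (tt N23350 (iv F251679)) (tt N20264 (iv D54712)) (tt N20309 F245165))
theorem Q21944 : ∀ i, i < 21944 → P i := stepQ 21943 Q21943 (allL N21943 (tt N23306 (iv F251403)) (tt N23357 (iv F251718)) (tt N23224 (iv F250879)) (tt N20265 (iv D54713)) (tt N23363 D56133) (tt N20277 F245166) (tt N21257 F245167) (tt N23351 (iv F251683)) (tt N21943 F245168) (tt N20310 F245169))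
theorem Q21945 : ∀ i, i < 21945 → P i := stepQ 21944 Q21944 (allL N21944 (tt N21495 F245170) (tt N20951 F245171) (tt N20942 F245172) (tt N20931 F245173) (tt N20278 F245174) (tt N20911 F245175) (tt N21571 F245176) (tt N20266 (iv D54714)) (tt N20311 F245177) (tt N23364 D56134))
theorem Q21946 : ∀ i, i < 21946 → P i := stepQ 21945 Q21945 (allL N21945 (tt N21507 F245178) (tt N20952 F245179) (tt N21538 F245180) (tt N21562 F245181) (tt N20279 F245182) (tt N21258 F245183) (tt N20267 F245184) (tt N23364 (iv F251761)) (tt N23365 D56135) (tt N20266 (iv D54715)))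
theorem Q21947 : ∀ i, i < 21947 → P i := stepQ 21946 Q21946 (allL N21946 (tt N23307 (iv F251411)) (tt N20953 F245185) (tt N23361 (iv F251743)) (tt N23366 D56136) (tt N20280 F245186) (tt N20268 F245187) (tt N23365 (iv F251767)) (tt N23353 (iv F251697)) (tt N20267 (iv D54716)) (tt N20313 F245188))
theorem Q21948 : ∀ i, i < 21948 → P i := stepQ 21947 Q21947 (allL N21947 (tt N23308 (iv F251419)) (tt N20954 F245189) (tt N23367 D56137) (tt N20268 (iv D54717)) (tt N23226 (iv F250893)) (tt N23366 (iv F251770)) (tt N21260 F245190) (tt N23354 (iv F251700)) (tt N23343 (iv F251636)) (tt N20314 F245191))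
theorem Q21949 : ∀ i, i < 21949 → P i := stepQ 21948 Q21948 (allL N21948 (tt N21027 F245192) (tt N20270 F245193) (tt N20955 F245194) (tt N23368 D56138) (tt N21025 F245195) (tt N23348 (iv F251666)) (tt N21948 F245196) (tt N20274 F245197) (tt N20269 (iv D54718)) (tt N20316 F245198))
theorem Q21950 : ∀ i, i < 21950 → P i := stepQ 21949 Q21949 (allL N21949 (tt N21686 F245199) (tt N23368 (iv F251775)) (tt N23227 (iv F250898)) (tt N20270 (iv D54719)) (tt N23369 D56139) (tt N23351 (iv F251682)) (tt N21949 F245200) (tt N20277 F245201) (tt N21949 F245202) (tt N20317 F245203))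
theorem Q21951 : ∀ i, i < 21951 → P i := stepQ 21950 Q21950 (allL N21950 (tt N20746 F245204) (tt N20960 F245205) (tt N20909 F245206) (tt N21950 F245207) (tt N23352 (iv F251689)) (tt N21950 F245208) (tt N20272 F245209) (tt N21673 F245210) (tt N23370 D56140) (tt N20271 (iv D54720)))
theorem Q21952 : ∀ i, i < 21952 → P i := stepQ 21951 Q21951 (allL N21951 (tt N21472 F245211) (tt N20961 F245212) (tt N21548 F245213) (tt N23371 D56141) (tt N23353 (iv F251695)) (tt N20273 F245214) (tt N23370 (iv F251793)) (tt N20280 F245215) (tt N20272 (iv D54721)) (tt N20320 F245216))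
theorem Q21953 : ∀ i, i < 21953 → P i := stepQ 21952 Q21952 (allL N21952 (tt N21677 F245217) (tt N20962 F245218) (tt N23372 D56142) (tt N20273 (iv D54722)) (tt N23230 (iv F250918)) (tt N23371 (iv F251798)) (tt N21952 F245219) (tt N20281 F245220) (tt N21952 F245221) (tt N20321 F245222))
theorem Q21954 : ∀ i, i < 21954 → P i := stepQ 21953 Q21953 (allL N21953 (tt N21041 F245223) (tt N20277 F245224) (tt N21521 F245225) (tt N20274 (iv D54723)) (tt N21332 F245226) (tt N23357 (iv F251720)) (tt N20282 F245227) (tt N23368 (iv F251779)) (tt N21953 F245228) (tt N20325 F245229))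
theorem Q21955 : ∀ i, i < 21955 → P i := stepQ 21954 Q21954 (allL N21954 (tt N20879 F245230) (tt N21004 F245231) (tt N20280 F245232) (tt N21570 F245233) (tt N23361 (iv F251744)) (tt N20276 F245234) (tt N21539 F245235) (tt N21548 F245236) (tt N20275 (iv D54724)) (tt N20328 F245237))
theorem Q21956 : ∀ i, i < 21956 → P i := stepQ 21955 Q21955 (allL N21955 (tt N21593 F245238) (tt N21332 F245239) (tt N23231 (iv F250925)) (tt N21330 F245240) (tt N20277 (iv D54725)) (tt N23373 D56143) (tt N20283 F245241) (tt N23369 (iv F251786)) (tt N21955 F245242) (tt N20329 F245243))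
theorem Q21957 : ∀ i, i < 21957 → P i := stepQ 21956 Q21956 (allL N21956 (tt N21515 F245244) (tt N20967 F245245) (tt N21094 F245246) (tt N21956 F245247) (tt N23364 (iv F251758)) (tt N20284 F245248) (tt N21673 F245249) (tt N20279 F245250) (tt N23374 D56144) (tt N20278 (iv D54726)))
theorem Q21958 : ∀ i, i < 21958 → P i := stepQ 21957 Q21957 (allL N21957 (tt N21520 F245251) (tt N20968 F245252) (tt N21539 F245253) (tt N23375 D56145) (tt N23365 (iv F251765)) (tt N20285 F245254) (tt N20280 F245255) (tt N23374 (iv F251820)) (tt N20279 (iv D54727)) (tt N20331 F245256))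
theorem Q21959 : ∀ i, i < 21959 → P i := stepQ 21958 Q21958 (allL N21958 (tt N23309 (iv F251423)) (tt N20969 F245257) (tt N23376 D56146) (tt N20280 (iv D54728)) (tt N23377 D56147) (tt N20281 F245258) (tt N23375 (iv F251826)) (tt N23371 (iv F251799)) (tt N21958 F245259) (tt N20332 F245260))
theorem Q21960 : ∀ i, i < 21960 → P i := stepQ 21959 Q21959 (allL N21959 (tt N21265 F245261) (tt N21056 (iv F245266)) (tt N20281 (iv D54729)) (tt N21054 F245262) (tt N23233 (iv F250939)) (tt N23376 (iv F251831)) (tt N20287 F245263) (tt N23372 (iv F251805)) (tt N21959 F245264) (tt N20333 F245265))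
theorem Q21961 : ∀ i, i < 21961 → P i := stepQ 21960 Q21960 (allL N21960 (tt N21516 F245267) (tt N20973 F245268) (tt N21546 F245269) (tt N23378 D56148) (tt N21268 F245270) (tt N23374 (iv F251818)) (tt N21960 F245271) (tt N20285 F245272) (tt N20284 (iv D54730)) (tt N20339 F245273))
theorem Q21962 : ∀ i, i < 21962 → P i := stepQ 21961 Q21961 (allL N21961 (tt N21521 F245274) (tt N20974 F245275) (tt N21041 F245276) (tt N20285 (iv D54731)) (tt N20844 F245277) (tt N23375 (iv F251825)) (tt N20286 F245278) (tt N23378 (iv F251844)) (tt N21961 F245279) (tt N20340 F245280))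
theorem Q21963 : ∀ i, i < 21963 → P i := stepQ 21962 Q21962 (allL N21962 (tt N20692 F245281) (tt N20983 F245282) (tt N20880 F245283) (tt N20601 F245284) (tt N21962 F245285) (tt N20296 F245286) (tt N20288 (iv D54732)) (tt N23379 D56149) (tt N23344 (iv F251645)) (tt N23380 D56150))
theorem Q21964 : ∀ i, i < 21964 → P i := stepQ 21963 Q21963 (allL N21963 (tt N23310 (iv F251431)) (tt N20984 F245287) (tt N23246 (iv F251028)) (tt N23167 (iv F250487)) (tt N21963 F245288) (tt N20289 F245289) (tt N23380 (iv F251861)) (tt N21272 F245290) (tt N23381 D56151) (tt N20288 (iv D54733)))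
theorem Q21965 : ∀ i, i < 21965 → P i := stepQ 21964 Q21964 (allL N21964 (tt N23311 (iv F251438)) (tt N20985 F245291) (tt N23248 (iv F251040)) (tt N23382 D56152) (tt N20290 F245292) (tt N23381 (iv F251864)) (tt N20298 F245293) (tt N21273 F245294) (tt N20289 (iv D54734)) (tt N23346 (iv F251655)))
theorem Q21966 : ∀ i, i < 21966 → P i := stepQ 21965 Q21965 (allL N21965 (tt N20292 F245295) (tt N20936 F245296) (tt N20986 F245297) (tt N21151 F245298) (tt N20291 (iv D54735)) (tt N20934 F245299) (tt N21252 F245300) (tt N20299 F245301) (tt N20989 F245302) (tt N23383 D56153))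
theorem Q21967 : ∀ i, i < 21967 → P i := stepQ 21966 Q21966 (allL N21966 (tt N20293 F245303) (tt N20957 F245304) (tt N20987 F245305) (tt N20353 F245306) (tt N23383 (iv F251873)) (tt N20315 F245307) (tt N21662 F245308) (tt N20300 F245309) (tt N23384 D56154) (tt N20291 (iv D54736)))
theorem Q21968 : ∀ i, i < 21968 → P i := stepQ 21967 Q21967 (allL N21967 (tt N23383 (iv F251869)) (tt N20294 F245310) (tt N20990 F245311) (tt N21153 F245312) (tt N20293 F245313) (tt N21540 F245314) (tt N23242 (iv F251000)) (tt N20303 F245315) (tt N23385 D56155) (tt N20292 (iv D54737)))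
theorem Q21969 : ∀ i, i < 21969 → P i := stepQ 21968 Q21968 (allL N21968 (tt N23384 (iv F251877)) (tt N20295 F245316) (tt N20991 F245317) (tt N23386 D56156) (tt N23385 (iv F251886)) (tt N20316 F245318) (tt N23274 (iv F251187)) (tt N20304 F245319) (tt N20293 (iv D54738)) (tt N23348 (iv F251668)))
theorem Q21970 : ∀ i, i < 21970 → P i := stepQ 21969 Q21969 (allL N21969 (tt N21626 F245320) (tt N23385 (iv F251884)) (tt N20298 F245321) (tt N23387 D56157) (tt N20295 F245322) (tt N21543 F245323) (tt N23248 (iv F251042)) (tt N20309 F245324) (tt N20294 (iv D54739)) (tt N23350 (iv F251680)))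
theorem Q21971 : ∀ i, i < 21971 → P i := stepQ 21970 Q21970 (allL N21970 (tt N21685 F245325) (tt N23386 (iv F251889)) (tt N23237 (iv F250965)) (tt N20295 (iv D54740)) (tt N23388 D56158) (tt N20317 F245326) (tt N23278 (iv F251212)) (tt N20310 F245327) (tt N20355 F245328) (tt N23351 (iv F251685)))
theorem Q21972 : ∀ i, i < 21972 → P i := stepQ 21971 Q21971 (allL N21971 (tt N20680 F245329) (tt N20999 F245330) (tt N20870 F245331) (tt N20593 F245332) (tt N20318 F245333) (tt N23379 (iv F251852)) (tt N20311 F245334) (tt N20296 (iv D54741)) (tt N21571 F245335) (tt N23389 D56159))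
theorem Q21973 : ∀ i, i < 21973 → P i := stepQ 21972 Q21972 (allL N21972 (tt N20694 F245336) (tt N21000 F245337) (tt N20882 F245338) (tt N20602 F245339) (tt N20319 F245340) (tt N23380 (iv F251860)) (tt N20297 F245341) (tt N23389 (iv F251906)) (tt N23390 D56160) (tt N20296 (iv D54742)))
theorem Q21974 : ∀ i, i < 21974 → P i := stepQ 21973 Q21973 (allL N21973 (tt N21447 F245342) (tt N21001 F245343) (tt N21543 F245344) (tt N23391 D56161) (tt N20320 F245345) (tt N20298 F245346) (tt N23390 (iv F251911)) (tt N20313 F245347) (tt N20297 (iv D54743)) (tt N23353 (iv F251698)))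
theorem Q21975 : ∀ i, i < 21975 → P i := stepQ 21974 Q21974 (allL N21974 (tt N23312 (iv F251443)) (tt N21002 F245348) (tt N23392 D56162) (tt N20298 (iv D54744)) (tt N23240 (iv F250984)) (tt N23391 (iv F251914)) (tt N23382 (iv F251867)) (tt N20314 F245349) (tt N23188 (iv F250639)) (tt N23354 (iv F251701)))
theorem Q21976 : ∀ i, i < 21976 → P i := stepQ 21975 Q21975 (allL N21975 (tt N20301 F245350) (tt N20945 F245351) (tt N20911 F245352) (tt N20299 (iv D54745)) (tt N20356 F245353) (tt N20942 F245354) (tt N20914 F245355) (tt N21151 F245356) (tt N21300 (iv F245357)) (tt N23393 D56163))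
theorem Q21977 : ∀ i, i < 21977 → P i := stepQ 21976 Q21976 (allL N21976 (tt N20303 F245358) (tt N20949 F245359) (tt N21003 F245360) (tt N23393 (iv F251921)) (tt N20300 F245361) (tt N20943 F245362) (tt N21286 F245363) (tt N23383 (iv F251876)) (tt N23394 D56164) (tt N20299 (iv D54746)))
theorem Q21978 : ∀ i, i < 21978 → P i := stepQ 21977 Q21977 (allL N21977 (tt N20304 F245364) (tt N20965 F245365) (tt N21004 F245366) (tt N23395 D56165) (tt N23394 (iv F251929)) (tt N20322 F245367) (tt N21287 F245368) (tt N23384 (iv F251882)) (tt N20300 (iv D54747)) (tt N21040 F245369))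
theorem Q21979 : ∀ i, i < 21979 → P i := stepQ 21978 Q21978 (allL N21978 (tt N21300 F245370) (tt N20305 F245371) (tt N20754 F245372) (tt N20980 F245373) (tt N20359 F245374) (tt N20979 F245375) (tt N21289 F245376) (tt N20756 F245377) (tt N20301 (iv D54748)) (tt N23396 D56166))
theorem Q21980 : ∀ i, i < 21980 → P i := stepQ 21979 Q21979 (allL N21979 (tt N23393 (iv F251918)) (tt N20306 F245378) (tt N21496 F245379) (tt N20303 F245380) (tt N20360 F245381) (tt N21534 F245382) (tt N21290 F245383) (tt N21153 F245384) (tt N23397 D56167) (tt N20301 (iv D54749)))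
theorem Q21981 : ∀ i, i < 21981 → P i := stepQ 21980 Q21980 (allL N21980 (tt N20943 F245385) (tt N20308 F245386) (tt N21008 F245387) (tt N21534 F245388) (tt N20323 F245389) (tt N20303 F245390) (tt N21569 F245391) (tt N21540 F245392) (tt N23398 D56168) (tt N20302 (iv D54750)))
theorem Q21982 : ∀ i, i < 21982 → P i := stepQ 21981 Q21981 (allL N21981 (tt N23394 (iv F251926)) (tt N20309 F245393) (tt N21009 F245394) (tt N23399 D56169) (tt N20304 F245395) (tt N23398 (iv F251958)) (tt N21293 F245396) (tt N23385 (iv F251888)) (tt N20303 (iv D54751)) (tt N23356 (iv F251716)))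
theorem Q21983 : ∀ i, i < 21983 → P i := stepQ 21982 Q21982 (allL N21982 (tt N23395 (iv F251933)) (tt N20310 F245397) (tt N23320 (iv F251492)) (tt N20304 (iv D54752)) (tt N23400 D56170) (tt N20325 F245398) (tt N21294 F245399) (tt N23386 (iv F251891)) (tt N20362 F245400) (tt N23357 (iv F251723)))
theorem Q21984 : ∀ i, i < 21984 → P i := stepQ 21983 Q21983 (allL N21983 (tt N21235 F245401) (tt N23396 (iv F251941)) (tt N21147 F245402) (tt N23359 (iv F251734)) (tt N20363 F245403) (tt N21077 F245404) (tt N21298 F245405) (tt N21084 F245406) (tt N23401 D56171) (tt N20305 (iv D54753)))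
theorem Q21985 : ∀ i, i < 21985 → P i := stepQ 21984 Q21984 (allL N21984 (tt N21609 F245407) (tt N23397 (iv F251948)) (tt N21150 F245408) (tt N23402 D56172) (tt N20364 F245409) (tt N21536 F245410) (tt N21299 F245411) (tt N21155 F245412) (tt N20306 (iv D54754)) (tt N23401 (iv F251973)))
theorem Q21986 : ∀ i, i < 21986 → P i := stepQ 21985 Q21985 (allL N21985 (tt N20979 F245413) (tt N20946 F245414) (tt N20311 F245415) (tt N20865 F245416) (tt N20326 F245417) (tt N21300 F245418) (tt N20870 F245419) (tt N20307 (iv D54755)) (tt N20942 F245420) (tt N23403 D56173))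
theorem Q21987 : ∀ i, i < 21987 → P i := stepQ 21986 Q21986 (allL N21986 (tt N21079 F245421) (tt N21569 F245422) (tt N20312 F245423) (tt N21530 F245424) (tt N20327 F245425) (tt N21301 F245426) (tt N20308 F245427) (tt N23403 (iv F251986)) (tt N23404 D56174) (tt N20307 (iv D54756)))
theorem Q21988 : ∀ i, i < 21988 → P i := stepQ 21987 Q21987 (allL N21987 (tt N21608 F245428) (tt N23398 (iv F251955)) (tt N20313 F245429) (tt N23405 D56175) (tt N20328 F245430) (tt N20309 F245431) (tt N23404 (iv F251992)) (tt N21543 F245432) (tt N20308 (iv D54757)) (tt N23361 (iv F251748)))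
theorem Q21989 : ∀ i, i < 21989 → P i := stepQ 21988 Q21988 (allL N21988 (tt N23313 (iv F251448)) (tt N23399 (iv F251962)) (tt N23406 D56176) (tt N20309 (iv D54758)) (tt N23407 D56177) (tt N23405 (iv F251996)) (tt N21303 F245433) (tt N23387 (iv F251895)) (tt N23402 (iv F251978)) (tt N23362 (iv F251750)))
theorem Q21990 : ∀ i, i < 21990 → P i := stepQ 21989 Q21989 (allL N21989 (tt N23314 (iv F251454)) (tt N23400 (iv F251964)) (tt N23251 (iv F251054)) (tt N23407 (iv F252001)) (tt N20310 (iv D54759)) (tt N23408 D56178) (tt N21304 F245434) (tt N23388 (iv F251898)) (tt N20366 F245435) (tt N23363 (iv F251753)))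
theorem Q21991 : ∀ i, i < 21991 → P i := stepQ 21990 Q21990 (allL N21990 (tt N23315 (iv F251461)) (tt N21021 F245436) (tt N23403 (iv F251981)) (tt N23190 (iv F250651)) (tt N20330 F245437) (tt N21305 F245438) (tt N23389 (iv F251905)) (tt N20312 F245439) (tt N23409 D56179) (tt N20311 (iv D54760)))
theorem Q21992 : ∀ i, i < 21992 → P i := stepQ 21991 Q21991 (allL N21991 (tt N23316 (iv F251469)) (tt N21022 F245440) (tt N23404 (iv F251989)) (tt N23410 D56180) (tt N20331 F245441) (tt N21306 F245442) (tt N20313 F245443) (tt N23409 (iv F252009)) (tt N20312 (iv D54761)) (tt N23365 (iv F251768)))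
theorem Q21993 : ∀ i, i < 21993 → P i := stepQ 21992 Q21992 (allL N21992 (tt N23317 (iv F251476)) (tt N21023 F245444) (tt N23411 D56181) (tt N20313 (iv D54762)) (tt N23412 D56182) (tt N20314 F245445) (tt N23410 (iv F252012)) (tt N23391 (iv F251915)) (tt N23192 (iv F250667)) (tt N23366 (iv F251771)))
theorem Q21994 : ∀ i, i < 21994 → P i := stepQ 21993 Q21993 (allL N21993 (tt N23318 (iv F251480)) (tt N23413 D56183) (tt N20314 (iv D54763)) (tt N23406 (iv F251999)) (tt N23253 (iv F251062)) (tt N23411 (iv F252013)) (tt N21308 F245446) (tt N23392 (iv F251917)) (tt N23193 (iv F250669)) (tt N23367 (iv F251773)))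
theorem Q21995 : ∀ i, i < 21995 → P i := stepQ 21994 Q21994 (allL N21994 (tt N20316 F245447) (tt N20958 F245448) (tt N21025 F245449) (tt N23414 D56184) (tt N20955 F245450) (tt N23384 (iv F251880)) (tt N21994 F245451) (tt N20322 F245452) (tt N20315 (iv D54764)) (tt N21027 F245453))
theorem Q21996 : ∀ i, i < 21996 → P i := stepQ 21995 Q21995 (allL N21995 (tt N23414 (iv F252018)) (tt N20317 F245454) (tt N23322 (iv F251504)) (tt N20316 (iv D54765)) (tt N23415 D56185) (tt N23386 (iv F251890)) (tt N21995 F245455) (tt N20325 F245456) (tt N20368 F245457) (tt N23368 (iv F251781)))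
theorem Q21997 : ∀ i, i < 21997 → P i := stepQ 21996 Q21996 (allL N21996 (tt N21642 F245458) (tt N23415 (iv F252027)) (tt N23256 (iv F251078)) (tt N21640 F245459) (tt N20317 (iv D54766)) (tt N23416 D56186) (tt N21996 F245460) (tt N20329 F245461) (tt N20369 F245462) (tt N23369 (iv F251788)))
theorem Q21998 : ∀ i, i < 21998 → P i := stepQ 21997 Q21997 (allL N21997 (tt N20736 F245463) (tt N21034 F245464) (tt N20904 F245465) (tt N20342 F245466) (tt N23389 (iv F251904)) (tt N21997 F245467) (tt N20330 F245468) (tt N20319 F245469) (tt N23417 D56187) (tt N20318 (iv D54767)))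
theorem Q21999 : ∀ i, i < 21999 → P i := stepQ 21998 Q21998 (allL N21998 (tt N20747 F245470) (tt N21035 F245471) (tt N20910 F245472) (tt N23418 D56188) (tt N23390 (iv F251910)) (tt N21998 F245473) (tt N20320 F245474) (tt N23417 (iv F252043)) (tt N20319 (iv D54768)) (tt N23370 (iv F251795)))
theorem Q22000 : ∀ i, i < 22000 → P i := stepQ 21999 Q21999 (allL N21999 (tt N21473 F245475) (tt N21036 F245476) (tt N23419 D56189) (tt N20320 (iv D54769)) (tt N23420 D56190) (tt N20321 F245477) (tt N23418 (iv F252049)) (tt N20332 F245478) (tt N20344 F245479) (tt N23371 (iv F251801)))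
theorem Q22001 : ∀ i, i < 22001 → P i := stepQ 22000 Q22000 (allL N22000 (tt N21314 F245480) (tt N23421 D56191) (tt N20321 (iv D54770)) (tt N21311 F245481) (tt N23259 (iv F251094)) (tt N23419 (iv F252053)) (tt N22000 F245482) (tt N20333 F245483) (tt N20345 F245484) (tt N23372 (iv F251807)))
theorem Q22002 : ∀ i, i < 22002 → P i := stepQ 22001 Q22001 (allL N22001 (tt N20325 F245485) (tt N20966 F245486) (tt N20340 F245487) (tt N20322 (iv D54771)) (tt N21162 F245488) (tt N23395 (iv F251936)) (tt N20334 F245489) (tt N23414 (iv F252023)) (tt N20352 F245490) (tt N21041 F245491))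
theorem Q22003 : ∀ i, i < 22003 → P i := stepQ 22002 Q22002 (allL N22002 (tt N20944 F245492) (tt N20328 F245493) (tt N21040 F245494) (tt N21539 F245495) (tt N23398 (iv F251957)) (tt N20324 F245496) (tt N21570 F245497) (tt N21547 F245498) (tt N20323 (iv D54772)) (tt N21004 F245499))
theorem Q22004 : ∀ i, i < 22004 → P i := stepQ 22003 Q22003 (allL N22003 (tt N21162 F245500) (tt N20329 F245501) (tt N20819 F245502) (tt N21161 F245503) (tt N20325 (iv D54773)) (tt N23422 D56192) (tt N20335 F245504) (tt N23415 (iv F252031)) (tt N20370 F245505) (tt N21332 F245506))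
theorem Q22005 : ∀ i, i < 22005 → P i := stepQ 22004 Q22004 (allL N22004 (tt N21073 F245507) (tt N21095 F245508) (tt N20330 F245509) (tt N20903 F245510) (tt N23403 (iv F251983)) (tt N20336 F245511) (tt N20904 F245512) (tt N20327 F245513) (tt N23423 D56193) (tt N20326 (iv D54774)))
theorem Q22006 : ∀ i, i < 22006 → P i := stepQ 22005 Q22005 (allL N22005 (tt N21010 F245514) (tt N21570 F245515) (tt N20331 F245516) (tt N21004 F245517) (tt N23404 (iv F251990)) (tt N20337 F245518) (tt N20328 F245519) (tt N23423 (iv F252082)) (tt N20327 (iv D54775)) (tt N21539 F245520))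
theorem Q22007 : ∀ i, i < 22007 → P i := stepQ 22006 Q22006 (allL N22006 (tt N21649 F245521) (tt N23422 (iv F252070)) (tt N23263 (iv F251120)) (tt N21647 F245522) (tt N23408 (iv F252004)) (tt N20329 (iv D54776)) (tt N23424 D56194) (tt N23416 (iv F252036)) (tt N20371 F245523) (tt N23373 (iv F251814)))
theorem Q22008 : ∀ i, i < 22008 → P i := stepQ 22007 Q22007 (allL N22007 (tt N23319 (iv F251483)) (tt N21048 F245524) (tt N23423 (iv F252078)) (tt N23425 D56195) (tt N23409 (iv F252007)) (tt N20339 F245525) (tt N23417 (iv F252042)) (tt N20331 F245526) (tt N20330 (iv D54777)) (tt N23374 (iv F251821)))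
theorem Q22009 : ∀ i, i < 22009 → P i := stepQ 22008 Q22008 (allL N22008 (tt N23320 (iv F251490)) (tt N21049 F245527) (tt N23395 (iv F251935)) (tt N20331 (iv D54778)) (tt N23426 D56196) (tt N20340 F245528) (tt N20332 F245529) (tt N23425 (iv F252093)) (tt N20347 F245530) (tt N23375 (iv F251828)))
theorem Q22010 : ∀ i, i < 22010 → P i := stepQ 22009 Q22009 (allL N22009 (tt N21294 F245531) (tt N23427 D56197) (tt N20332 (iv D54779)) (tt N21287 F245532) (tt N23428 D56198) (tt N20333 F245533) (tt N23395 (iv F251937)) (tt N23419 (iv F252055)) (tt N20348 F245534) (tt N23376 (iv F251834)))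
theorem Q22011 : ∀ i, i < 22011 → P i := stepQ 22010 Q22010 (allL N22010 (tt N23321 (iv F251497)) (tt N21051 F245535) (tt N23428 (iv F252106)) (tt N23412 (iv F252015)) (tt N20332 (iv D54780)) (tt N23265 (iv F251128)) (tt N23426 (iv F252096)) (tt N23420 (iv F252059)) (tt N20349 F245536) (tt N23377 (iv F251838)))
theorem Q22012 : ∀ i, i < 22012 → P i := stepQ 22011 Q22011 (allL N22011 (tt N21208 F245537) (tt N20333 (iv D54781)) (tt N21052 F245538) (tt N20972 F245539) (tt N23266 (iv F251134)) (tt N23427 (iv F252101)) (tt N20341 F245540) (tt N23421 (iv F252066)) (tt N20350 F245541) (tt N21056 F245542))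
theorem Q22013 : ∀ i, i < 22013 → P i := stepQ 22012 Q22012 (allL N22012 (tt N21028 F245543) (tt N21589 F245544) (tt N20339 F245545) (tt N21025 F245546) (tt N21331 F245547) (tt N23423 (iv F252080)) (tt N22012 F245548) (tt N20337 F245549) (tt N20336 (iv D54782)) (tt N21546 F245550))
theorem Q22014 : ∀ i, i < 22014 → P i := stepQ 22013 Q22013 (allL N22013 (tt N21656 F245551) (tt N20817 F245552) (tt N23266 (iv F251132)) (tt N21264 F245553) (tt N21052 F245554) (tt N23424 (iv F252087)) (tt N20338 (iv D54783)) (tt N21700 (iv F245557)) (tt N20372 F245555) (tt N21322 F245556))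
theorem Q22015 : ∀ i, i < 22015 → P i := stepQ 22014 Q22014 (allL N22014 (tt N23322 (iv F251502)) (tt N21058 F245558) (tt N23414 (iv F252020)) (tt N20339 (iv D54784)) (tt N21676 F245559) (tt N23425 (iv F252092)) (tt N22014 F245560) (tt N20340 F245561) (tt N20351 F245562) (tt N23378 (iv F251846)))
theorem Q22016 : ∀ i, i < 22016 → P i := stepQ 22015 Q22015 (allL N22015 (tt N20737 F245563) (tt N21061 F245564) (tt N20628 F245565) (tt N23429 D56199) (tt N20627 F245566) (tt N22015 F245567) (tt N20346 F245568) (tt N20343 F245569) (tt N20342 (iv D54785)) (tt N22015 F245570))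
theorem Q22017 : ∀ i, i < 22017 → P i := stepQ 22016 Q22016 (allL N22016 (tt N20748 F245571) (tt N21062 F245572) (tt N21670 F245573) (tt N20343 (iv D54786)) (tt N23430 D56200) (tt N22016 F245574) (tt N20344 F245575) (tt N23429 (iv F252113)) (tt N23418 (iv F252050)) (tt N22016 F245576))
theorem Q22018 : ∀ i, i < 22018 → P i := stepQ 22017 Q22017 (allL N22017 (tt N21334 F245577) (tt N23431 D56201) (tt N20344 (iv D54787)) (tt N21092 F245578) (tt N23432 D56202) (tt N20345 F245579) (tt N21670 F245580) (tt N20348 F245581) (tt N23419 (iv F252056)) (tt N22017 F245582))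
theorem Q22019 : ∀ i, i < 22019 → P i := stepQ 22018 Q22018 (allL N22018 (tt N21474 F245583) (tt N21064 F245584) (tt N23432 (iv F252129)) (tt N21419 F245585) (tt N20344 (iv D54788)) (tt N23269 (iv F251154)) (tt N23430 (iv F252119)) (tt N20349 F245586) (tt N23420 (iv F252060)) (tt N22018 F245587))
theorem Q22020 : ∀ i, i < 22020 → P i := stepQ 22019 Q22019 (allL N22019 (tt N21227 F245588) (tt N20345 (iv D54789)) (tt N21065 F245589) (tt N21226 F245590) (tt N21701 F245591) (tt N23431 (iv F252124)) (tt N22019 F245592) (tt N20350 F245593) (tt N23421 (iv F252067)) (tt N22019 F245594))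
theorem Q22021 : ∀ i, i < 22021 → P i := stepQ 22020 Q22020 (allL N22020 (tt N23323 (iv F251510)) (tt N21066 F245595) (tt N23433 D56203) (tt N20346 (iv D54790)) (tt N23434 D56204) (tt N20351 F245596) (tt N23429 (iv F252112)) (tt N20347 F245597) (tt N23425 (iv F252094)) (tt N22020 F245598))
theorem Q22022 : ∀ i, i < 22022 → P i := stepQ 22021 Q22021 (allL N22021 (tt N20362 F245599) (tt N21169 F245600) (tt N20347 (iv D54791)) (tt N20358 F245601) (tt N23435 D56205) (tt N20352 F245602) (tt N20348 F245603) (tt N23433 (iv F252139)) (tt N23395 (iv F251938)) (tt N22021 F245604))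
theorem Q22023 : ∀ i, i < 22023 → P i := stepQ 22022 Q22022 (allL N22022 (tt N23324 (iv F251517)) (tt N21068 F245605) (tt N23435 (iv F252148)) (tt N23199 (iv F250706)) (tt N20347 (iv D54792)) (tt N23300 (iv F251363)) (tt N20349 F245606) (tt N23434 (iv F252144)) (tt N23426 (iv F252097)) (tt N22022 F245607))
theorem Q22024 : ∀ i, i < 22024 → P i := stepQ 22023 Q22023 (allL N22023 (tt N21222 F245608) (tt N20348 (iv D54793)) (tt N21069 F245609) (tt N21219 F245610) (tt N23436 D56206) (tt N20350 F245611) (tt N21169 F245612) (tt N23431 (iv F252126)) (tt N23427 (iv F252103)) (tt N22023 F245613))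
theorem Q22025 : ∀ i, i < 22025 → P i := stepQ 22024 Q22024 (allL N22024 (tt N21342 F245614) (tt N23436 (iv F252153)) (tt N20349 F245615) (tt N23437 D56207) (tt N20348 (iv D54794)) (tt N23271 (iv F251166)) (tt N23435 (iv F252150)) (tt N23432 (iv F252132)) (tt N23428 (iv F252107)) (tt N22024 F245616))
theorem Q22026 : ∀ i, i < 22026 → P i := stepQ 22025 Q22025 (allL N22025 (tt N20368 F245617) (tt N21168 F245618) (tt N20351 (iv D54795)) (tt N20367 F245619) (tt N21167 F245620) (tt N23433 (iv F252137)) (tt N22025 F245621) (tt N20352 F245622) (tt N23414 (iv F252024)) (tt N22025 F245623))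
theorem Q22027 : ∀ i, i < 22027 → P i := stepQ 22026 Q22026 (allL N22026 (tt N20354 F245624) (tt N21679 F245625) (tt N20373 F245626) (tt N23433 (iv F252136)) (tt N21163 F245627) (tt N20367 F245628) (tt N21663 F245629) (tt N20358 F245630) (tt N20353 (iv D54796)) (tt N22026 F245631))
theorem Q22028 : ∀ i, i < 22028 → P i := stepQ 22027 Q22027 (allL N22027 (tt N23433 (iv F252134)) (tt N20355 F245632) (tt N23323 (iv F251512)) (tt N20354 (iv D54797)) (tt N23438 D56208) (tt N20368 F245633) (tt N23275 (iv F251193)) (tt N20362 F245634) (tt N23386 (iv F251892)) (tt N22027 F245635))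
theorem Q22029 : ∀ i, i < 22029 → P i := stepQ 22028 Q22028 (allL N22028 (tt N21689 F245636) (tt N23438 (iv F252161)) (tt N23272 (iv F251171)) (tt N21165 F245637) (tt N20355 (iv D54798)) (tt N23439 D56209) (tt N23279 (iv F251218)) (tt N20366 F245638) (tt N23388 (iv F251899)) (tt N22028 F245639))
theorem Q22030 : ∀ i, i < 22030 → P i := stepQ 22029 Q22029 (allL N22029 (tt N20360 F245640) (tt N21639 F245641) (tt N20912 F245642) (tt N20357 F245643) (tt N23393 (iv F251922)) (tt N21158 F245644) (tt N20915 F245645) (tt N21152 F245646) (tt N23440 D56210) (tt N20356 (iv D54799)))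
theorem Q22031 : ∀ i, i < 22031 → P i := stepQ 22030 Q22030 (allL N22030 (tt N20361 F245647) (tt N21678 F245648) (tt N20375 F245649) (tt N23441 D56211) (tt N20358 F245650) (tt N21166 F245651) (tt N21087 F245652) (tt N21163 F245653) (tt N20357 (iv D54800)) (tt N22030 F245654))
theorem Q22032 : ∀ i, i < 22032 → P i := stepQ 22031 Q22031 (allL N22031 (tt N21323 F245655) (tt N20363 F245656) (tt N20755 F245657) (tt N22031 F245658) (tt N23396 (iv F251944)) (tt N20760 F245659) (tt N21339 F245660) (tt N20757 F245661) (tt N23442 D56212) (tt N20359 (iv D54801)))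
theorem Q22033 : ∀ i, i < 22033 → P i := stepQ 22032 Q22032 (allL N22032 (tt N23440 (iv F252170)) (tt N20364 F245662) (tt N21497 F245663) (tt N23443 D56213) (tt N23397 (iv F251950)) (tt N21159 F245664) (tt N21340 F245665) (tt N21154 F245666) (tt N20360 (iv D54802)) (tt N23442 (iv F252190)))
theorem Q22034 : ∀ i, i < 22034 → P i := stepQ 22033 Q22033 (allL N22033 (tt N23441 (iv F252177)) (tt N20365 F245667) (tt N21470 F245668) (tt N20361 (iv D54803)) (tt N23444 D56214) (tt N21167 F245669) (tt N21341 F245670) (tt N21164 F245671) (tt N23443 (iv F252196)) (tt N22033 F245672))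
theorem Q22035 : ∀ i, i < 22035 → P i := stepQ 22034 Q22034 (allL N22034 (tt N23435 (iv F252146)) (tt N20366 F245673) (tt N23324 (iv F251519)) (tt N23444 (iv F252199)) (tt N20362 (iv D54804)) (tt N23445 D56215) (tt N21342 F245674) (tt N23438 (iv F252163)) (tt N23400 (iv F251966)) (tt N22034 F245675))
theorem Q22036 : ∀ i, i < 22036 → P i := stepQ 22035 Q22035 (allL N22035 (tt N21236 F245676) (tt N23442 (iv F252185)) (tt N21148 F245677) (tt N23446 D56216) (tt N23401 (iv F251969)) (tt N21033 F245678) (tt N21343 F245679) (tt N21047 F245680) (tt N20363 (iv D54805)) (tt N20364 F245681))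
theorem Q22037 : ∀ i, i < 22037 → P i := stepQ 22036 Q22036 (allL N22036 (tt N21643 F245682) (tt N23443 (iv F252191)) (tt N21282 F245683) (tt N20364 (iv D54806)) (tt N23447 D56217) (tt N21160 F245684) (tt N21344 F245685) (tt N21156 F245686) (tt N20365 F245687) (tt N23446 (iv F252215)))
theorem Q22038 : ∀ i, i < 22038 → P i := stepQ 22037 Q22037 (allL N22037 (tt N21693 F245688) (tt N23444 (iv F252197)) (tt N21338 F245689) (tt N20366 F245690) (tt N20365 (iv D54807)) (tt N23448 D56218) (tt N21345 F245691) (tt N21165 F245692) (tt N23447 (iv F252220)) (tt N22037 F245693))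
theorem Q22039 : ∀ i, i < 22039 → P i := stepQ 22038 Q22038 (allL N22038 (tt N21696 F245694) (tt N23445 (iv F252204)) (tt N23280 (iv F251223)) (tt N23448 (iv F252223)) (tt N20371 F245695) (tt N20366 (iv D54808)) (tt N23449 D56219) (tt N23439 (iv F252168)) (tt N23408 (iv F252005)) (tt N22038 F245696))
theorem Q22040 : ∀ i, i < 22040 → P i := stepQ 22039 Q22039 (allL N22039 (tt N21167 F245697) (tt N20369 F245698) (tt N20826 F245699) (tt N21166 F245700) (tt N20368 (iv D54809)) (tt N23441 (iv F252180)) (tt N22039 F245701) (tt N20370 F245702) (tt N23415 (iv F252032)) (tt N22039 F245703))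
theorem Q22041 : ∀ i, i < 22041 → P i := stepQ 22040 Q22040 (allL N22040 (tt N21692 F245704) (tt N23441 (iv F252178)) (tt N23281 (iv F251228)) (tt N21678 F245705) (tt N23439 (iv F252167)) (tt N20369 (iv D54810)) (tt N23450 D56220) (tt N20371 F245706) (tt N23416 (iv F252037)) (tt N22040 F245707))
theorem Q22042 : ∀ i, i < 22042 → P i := stepQ 22041 Q22041 (allL N22041 (tt N21164 F245708) (tt N20371 F245709) (tt N20823 F245710) (tt N21163 F245711) (tt N23445 (iv F252206)) (tt N20370 (iv D54811)) (tt N20824 F245712) (tt N23441 (iv F252182)) (tt N23422 (iv F252074)) (tt N22041 F245713))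
theorem Q22043 : ∀ i, i < 22043 → P i := stepQ 22042 Q22042 (allL N22042 (tt N21694 F245714) (tt N20824 F245715) (tt N23270 (iv F251158)) (tt N21661 F245716) (tt N23449 (iv F252229)) (tt N20372 F245717) (tt N20371 (iv D54812)) (tt N21667 (iv F245719)) (tt N23424 (iv F252088)) (tt N22042 F245718))
theorem Q22044 : ∀ i, i < 22044 → P i := stepQ 22043 Q22043 (allL N22043 (tt N20427 F245720) (tt N20383 F245721) (tt N20436 F245722) (tt N20404 F245723) (tt N20395 F245724) (tt N20409 F245725) (tt N20377 F245726) (tt N20531 F245727) (tt N20376 (iv D54813)) (tt N20414 F245728))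
theorem Q22045 : ∀ i, i < 22045 → P i := stepQ 22044 Q22044 (allL N22044 (tt N20388 F245729) (tt N20414 F245730) (tt N20392 F245731) (tt N20409 F245732) (tt N20390 F245733) (tt N20404 F245734) (tt N20381 F245735) (tt N20508 F245736) (tt N20378 (iv D54814)) (tt N20383 F245737))
theorem Q22046 : ∀ i, i < 22046 → P i := stepQ 22045 Q22045 (allL N22045 (tt N20390 F245738) (tt N20443 F245739) (tt N20381 F245740) (tt N23451 D56221) (tt N20388 F245741) (tt N20441 F245742) (tt N20392 F245743) (tt N20468 F245744) (tt N20379 (iv D54815)) (tt N20384 F245745))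
theorem Q22047 : ∀ i, i < 22047 → P i := stepQ 22046 Q22046 (allL N22046 (tt N20392 F245746) (tt N21103 F245747) (tt N20388 F245748) (tt N23452 D56222) (tt N20381 F245749) (tt N21102 F245750) (tt N20390 F245751) (tt N20469 F245752) (tt N20380 (iv D54816)) (tt N20385 F245753))
theorem Q22048 : ∀ i, i < 22048 → P i := stepQ 22047 Q22047 (allL N22047 (tt N20393 F245754) (tt N20409 F245755) (tt N20397 F245756) (tt N20414 F245757) (tt N20406 F245758) (tt N20383 F245759) (tt N20403 F245760) (tt N20534 F245761) (tt N20382 (iv D54817)) (tt N20404 F245762))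
theorem Q22049 : ∀ i, i < 22049 → P i := stepQ 22048 Q22048 (allL N22048 (tt N20396 F245763) (tt N21356 F245764) (tt N20421 F245765) (tt N20384 (iv D54818)) (tt N20439 F245766) (tt N21348 F245767) (tt N20398 F245768) (tt N20484 F245769) (tt N20387 F245770) (tt N23451 (iv F252247)))
theorem Q22050 : ∀ i, i < 22050 → P i := stepQ 22049 Q22049 (allL N22049 (tt N20398 F245771) (tt N21359 F245772) (tt N20438 F245773) (tt N20385 (iv D54819)) (tt N20422 F245774) (tt N21361 F245775) (tt N20396 F245776) (tt N20485 F245777) (tt N20386 F245778) (tt N23452 (iv F252256)))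
theorem Q22051 : ∀ i, i < 22051 → P i := stepQ 22050 Q22050 (allL N22050 (tt N20436 F245779) (tt N20390 F245780) (tt N20427 F245781) (tt N23453 D56223) (tt N20414 F245782) (tt N20429 F245783) (tt N21103 F245784) (tt N20507 F245785) (tt N20389 (iv D54820)) (tt N20395 F245786))
theorem Q22052 : ∀ i, i < 22052 → P i := stepQ 22051 Q22051 (allL N22051 (tt N23451 (iv F252239)) (tt N23453 (iv F252258)) (tt N20433 F245787) (tt N20390 (iv D54821)) (tt N23454 D56224) (tt N21351 F245788) (tt N23452 (iv F252253)) (tt N20509 F245789) (tt N22051 F245790) (tt N20396 F245791))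
theorem Q22053 : ∀ i, i < 22053 → P i := stepQ 22052 Q22052 (allL N22052 (tt N21102 F245792) (tt N20413 F245793) (tt N20404 F245794) (tt N23455 D56225) (tt N20403 F245795) (tt N20392 F245796) (tt N20406 F245797) (tt N20511 F245798) (tt N20391 (iv D54822)) (tt N20397 F245799))
theorem Q22054 : ∀ i, i < 22054 → P i := stepQ 22053 Q22053 (allL N22053 (tt N23452 (iv F252248)) (tt N23158 (iv F250413)) (tt N23456 D56226) (tt N20392 (iv D54823)) (tt N20435 F245800) (tt N23455 (iv F252279)) (tt N23451 (iv F252244)) (tt N20512 F245801) (tt N22053 F245802) (tt N20398 F245803))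
theorem Q22055 : ∀ i, i < 22055 → P i := stepQ 22054 Q22054 (allL N22054 (tt N21363 F245804) (tt N20396 F245805) (tt N21361 F245806) (tt N20395 (iv D54824)) (tt N21362 F245807) (tt N20438 F245808) (tt N21359 F245809) (tt N20532 F245810) (tt N20401 F245811) (tt N23453 (iv F252265)))
theorem Q22056 : ∀ i, i < 22056 → P i := stepQ 22055 Q22055 (allL N22055 (tt N20439 F245812) (tt N21362 F245813) (tt N20445 F245814) (tt N20418 F245815) (tt N20396 (iv D54825)) (tt N23160 (iv F250434)) (tt N20422 F245816) (tt N20535 F245817) (tt N20402 F245818) (tt N23454 (iv F252273)))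
theorem Q22057 : ∀ i, i < 22057 → P i := stepQ 22056 Q22056 (allL N22056 (tt N21361 F245819) (tt N20422 F245820) (tt N21363 F245821) (tt N20397 (iv D54826)) (tt N21359 F245822) (tt N20398 F245823) (tt N21362 F245824) (tt N20537 F245825) (tt N20399 F245826) (tt N23455 (iv F252283)))
theorem Q22058 : ∀ i, i < 22058 → P i := stepQ 22057 Q22057 (allL N22057 (tt N20438 F245827) (tt N21364 (iv F245834)) (tt N20398 (iv D54827)) (tt N20416 F245828) (tt N20448 F245829) (tt N21363 F245830) (tt N20421 F245831) (tt N20538 F245832) (tt N20400 F245833) (tt N23456 (iv F252291)))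
theorem Q22059 : ∀ i, i < 22059 → P i := stepQ 22058 Q22058 (allL N22058 (tt N20430 F245835) (tt N20406 F245836) (tt N20419 F245837) (tt N23454 (iv F252269)) (tt N20409 F245838) (tt N20437 F245839) (tt N20413 F245840) (tt N20563 F245841) (tt N20405 (iv D54828)) (tt N20418 F245842))
theorem Q22060 : ∀ i, i < 22060 → P i := stepQ 22059 Q22059 (allL N22059 (tt N21357 F245843) (tt N23454 (iv F252267)) (tt N21360 F245844) (tt N20406 (iv D54829)) (tt N23453 (iv F252260)) (tt N21352 F245845) (tt N23455 (iv F252280)) (tt N20564 F245846) (tt N22059 F245847) (tt N21362 F245848))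
theorem Q22061 : ∀ i, i < 22061 → P i := stepQ 22060 Q22060 (allL N22060 (tt N20428 F245849) (tt N20534 F245850) (tt N20617 F245851) (tt N20508 F245852) (tt N20563 F245853) (tt N20531 F245854) (tt N20580 F245855) (tt N20409 F245856) (tt N20407 (iv D54830)) (tt N20415 F245857))
theorem Q22062 : ∀ i, i < 22062 → P i := stepQ 22061 Q22061 (allL N22061 (tt N20429 F245858) (tt N20420 F245859) (tt N20409 F245860) (tt N23456 (iv F252285)) (tt N20419 F245861) (tt N20436 F245862) (tt N20412 F245863) (tt N20617 F245864) (tt N20408 (iv D54831)) (tt N20416 F245865))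
theorem Q22063 : ∀ i, i < 22063 → P i := stepQ 22062 Q22062 (allL N22062 (tt N20437 F245866) (tt N20412 F245867) (tt N20418 F245868) (tt N23457 D56227) (tt N20416 F245869) (tt N20430 F245870) (tt N20420 F245871) (tt N20587 F245872) (tt N20410 (iv D54832)) (tt N20419 F245873))
theorem Q22064 : ∀ i, i < 22064 → P i := stepQ 22063 Q22063 (allL N22063 (tt N20432 F245874) (tt N20416 F245875) (tt N20413 F245876) (tt N21364 F245877) (tt N20412 F245878) (tt N20446 F245879) (tt N20419 F245880) (tt N20588 F245881) (tt N20411 (iv D54833)) (tt N20420 F245882))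
theorem Q22065 : ∀ i, i < 22065 → P i := stepQ 22064 Q22064 (allL N22064 (tt N20433 F245883) (tt N23457 (iv F252294)) (tt N23451 (iv F252241)) (tt N20412 (iv D54834)) (tt N23458 D56228) (tt N21355 F245884) (tt N23456 (iv F252288)) (tt N20589 F245885) (tt N22064 F245886) (tt N20421 F245887))
theorem Q22066 : ∀ i, i < 22066 → P i := stepQ 22065 Q22065 (allL N22065 (tt N20435 F245888) (tt N23455 (iv F252276)) (tt N23459 D56229) (tt N20413 (iv D54835)) (tt N23452 (iv F252251)) (tt N23158 (iv F250416)) (tt N23454 (iv F252270)) (tt N20590 F245889) (tt N22065 F245890) (tt N20422 F245891))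
theorem Q22067 : ∀ i, i < 22067 → P i := stepQ 22066 Q22066 (allL N22066 (tt N20419 F245892) (tt N20440 F245893) (tt N20430 F245894) (tt N23160 (iv F250432)) (tt N20429 F245895) (tt N20418 F245896) (tt N20432 F245897) (tt N20616 F245898) (tt N20417 (iv D54836)) (tt N20437 F245899))
theorem Q22068 : ∀ i, i < 22068 → P i := stepQ 22067 Q22067 (allL N22067 (tt N23160 (iv F250430)) (tt N20421 F245900) (tt N23460 D56230) (tt N20419 (iv D54837)) (tt N23461 D56231) (tt N20439 F245901) (tt N21364 F245902) (tt N20618 F245903) (tt N20425 F245904) (tt N23457 (iv F252301)))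
theorem Q22069 : ∀ i, i < 22069 → P i := stepQ 22068 Q22068 (allL N22068 (tt N20444 F245905) (tt N23456 F252292) (tt N23462 D56232) (tt N20420 (iv D54838)) (tt N23463 D56233) (tt N21358 F245906) (tt N23457 (iv F252298)) (tt N20619 F245907) (tt N22068 F245908) (tt N21364 F245909))
theorem Q22070 : ∀ i, i < 22070 → P i := stepQ 22069 Q22069 (allL N22069 (tt N20445 F245910) (tt N23461 (iv F252330)) (tt N20439 F245911) (tt N23463 (iv F252350)) (tt N20421 (iv D54839)) (tt N23460 (iv F252323)) (tt N20448 F245912) (tt N20620 F245913) (tt N20426 F245914) (tt N23458 (iv F252310)))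
theorem Q22071 : ∀ i, i < 22071 → P i := stepQ 22070 Q22070 (allL N22070 (tt N20448 F245915) (tt N21353 F245916) (tt N20422 (iv D54840)) (tt N23462 (iv F252340)) (tt N20438 F245917) (tt N23159 (iv F250425)) (tt N20445 F245918) (tt N20621 F245919) (tt N20424 F245920) (tt N23459 (iv F252319)))
theorem Q22072 : ∀ i, i < 22072 → P i := stepQ 22071 Q22071 (allL N22071 (tt N20450 F245921) (tt N21350 F245922) (tt N20425 (iv D54841)) (tt N22071 F245923) (tt N21349 (iv F245928)) (tt N20426 F245924) (tt N21354 F245925) (tt N20634 F245926) (tt N23460 (iv F252326)) (tt N22071 F245927))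
theorem Q22073 : ∀ i, i < 22073 → P i := stepQ 22072 Q22072 (allL N22072 (tt N21354 F245929) (tt N20426 F245930) (tt N21349 F245931) (tt N22072 F245932) (tt N20425 (iv D54842)) (tt N21350 F245933) (tt N20450 F245934) (tt N20635 F245935) (tt N23461 (iv F252336)) (tt N22072 F245936))
theorem Q22074 : ∀ i, i < 22074 → P i := stepQ 22073 Q22073 (allL N22073 (tt N23456 (iv F252284)) (tt N21351 F245937) (tt N23452 (iv F252250)) (tt N20429 (iv D54843)) (tt N23459 (iv F252314)) (tt N23453 (iv F252261)) (tt N20433 F245938) (tt N21383 F245939) (tt N22073 F245940) (tt N20438 F245941))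
theorem Q22075 : ∀ i, i < 22075 → P i := stepQ 22074 Q22074 (allL N22074 (tt N23454 (iv F252266)) (tt N21355 F245942) (tt N23458 (iv F252304)) (tt N20430 (iv D54844)) (tt N23451 (iv F252242)) (tt N23457 (iv F252297)) (tt N20435 F245943) (tt N21411 F245944) (tt N22074 F245945) (tt N20439 F245946))
theorem Q22076 : ∀ i, i < 22076 → P i := stepQ 22075 Q22075 (allL N22075 (tt N21352 F245947) (tt N20433 F245948) (tt N21104 F245949) (tt N20431 (iv D54845)) (tt N23464 D56234) (tt N21357 F245950) (tt N21351 F245951) (tt N20671 F245952) (tt N22075 F245953) (tt N20442 F245954))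
theorem Q22077 : ∀ i, i < 22077 → P i := stepQ 22076 Q22076 (allL N22076 (tt N21364 F245955) (tt N21348 F245956) (tt N23461 (iv F252331)) (tt N20432 (iv D54846)) (tt N23460 F252328) (tt N21356 F245957) (tt N23160 (iv F250435)) (tt N20672 F245958) (tt N21349 F245959) (tt N20444 F245960))
theorem Q22078 : ∀ i, i < 22078 → P i := stepQ 22077 Q22077 (allL N22077 (tt N23458 (iv F252302)) (tt N23464 (iv F252357)) (tt N23454 (iv F252268)) (tt N23460 (iv F252322)) (tt N20433 (iv D54847)) (tt N23463 (iv F252351)) (tt N23459 (iv F252316)) (tt N20673 F245961) (tt N22077 F245962) (tt N20445 F245963))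
theorem Q22079 : ∀ i, i < 22079 → P i := stepQ 22078 Q22078 (allL N22078 (tt N23158 (iv F250412)) (tt N21360 F245964) (tt N23464 (iv F252358)) (tt N20434 (iv D54848)) (tt N21104 F245965) (tt N20435 F245966) (tt N21358 F245967) (tt N20675 F245968) (tt N22078 F245969) (tt N20447 F245970))
theorem Q22080 : ∀ i, i < 22080 → P i := stepQ 22079 Q22079 (allL N22079 (tt N23459 (iv F252311)) (tt N23463 (iv F252348)) (tt N20435 (iv D54849)) (tt N23461 (iv F252332)) (tt N23456 (iv F252286)) (tt N23464 (iv F252360)) (tt N23458 (iv F252307)) (tt N20676 F245971) (tt N22079 F245972) (tt N20448 F245973))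
theorem Q22081 : ∀ i, i < 22081 → P i := stepQ 22080 Q22080 (allL N22080 (tt N23453 (iv F252257)) (tt N21358 F245974) (tt N23455 (iv F252277)) (tt N20436 (iv D54850)) (tt N21357 F245975) (tt N23456 (iv F252287)) (tt N21360 F245976) (tt N21430 F245977) (tt N22080 F245978) (tt N21363 F245979))
theorem Q22082 : ∀ i, i < 22082 → P i := stepQ 22081 Q22081 (allL N22081 (tt N23457 (iv F252293)) (tt N21352 F245980) (tt N23463 (iv F252349)) (tt N20437 (iv D54851)) (tt N23462 F252346) (tt N23454 F252274) (tt N20444 F245981) (tt N21397 F245982) (tt N22081 F245983) (tt N23160 (iv F250438)))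
theorem Q22083 : ∀ i, i < 22083 → P i := stepQ 22082 Q22082 (allL N22082 (tt N21351 F245984) (tt N20444 F245985) (tt N21355 F245986) (tt N20441 (iv D54852)) (tt N23465 D56235) (tt N23451 (iv F252243)) (tt N21352 F245987) (tt N20720 F245988) (tt N22082 F245989) (tt N21348 F245990))
theorem Q22084 : ∀ i, i < 22084 → P i := stepQ 22083 Q22083 (allL N22083 (tt N23159 (iv F250421)) (tt N20445 F245991) (tt N20447 F245992) (tt N23465 (iv F252368)) (tt N20442 (iv D54853)) (tt N20448 F245993) (tt N21353 F245994) (tt N20721 F245995) (tt N20449 F245996) (tt N23464 (iv F252364)))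
theorem Q22085 : ∀ i, i < 22085 → P i := stepQ 22084 Q22084 (allL N22084 (tt N21358 F245997) (tt N23451 (iv F252240)) (tt N23465 (iv F252367)) (tt N20443 (iv D54854)) (tt N21355 F245998) (tt N20444 F245999) (tt N23158 (iv F250417)) (tt N20723 F246000) (tt N22084 F246001) (tt N21356 F246002))
theorem Q22086 : ∀ i, i < 22086 → P i := stepQ 22085 Q22085 (allL N22085 (tt N23462 (iv F252338)) (tt N23458 (iv F252303)) (tt N20444 (iv D54855)) (tt N20448 F246003) (tt N23457 (iv F252296)) (tt N23465 (iv F252369)) (tt N23463 (iv F252352)) (tt N20724 F246004) (tt N22085 F246005) (tt N23461 (iv F252337)))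
theorem Q22087 : ∀ i, i < 22087 → P i := stepQ 22086 Q22086 (allL N22086 (tt N23463 (iv F252347)) (tt N23465 (iv F252366)) (tt N23457 (iv F252295)) (tt N20445 F246006) (tt N20444 (iv D54856)) (tt N23458 (iv F252306)) (tt N23462 (iv F252342)) (tt N20725 F246007) (tt N22086 F246008) (tt N23460 (iv F252327)))
theorem Q22088 : ∀ i, i < 22088 → P i := stepQ 22087 Q22087 (allL N22087 (tt N23460 (iv F252320)) (tt N20448 F246009) (tt N23160 (iv F250431)) (tt N23458 (iv F252305)) (tt N21364 F246010) (tt N20445 (iv D54857)) (tt N23461 (iv F252334)) (tt N20726 F246011) (tt N20450 F246012) (tt N23463 (iv F252355)))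
theorem Q22089 : ∀ i, i < 22089 → P i := stepQ 22088 Q22088 (allL N22088 (tt N20645 F246013) (tt N20472 F246014) (tt N20677 F246015) (tt N20754 F246016) (tt N20452 (iv D54858)) (tt N20517 F246017) (tt N20571 F246018) (tt N20454 F246019) (tt N20591 F246020) (tt N23466 D56236))
theorem Q22090 : ∀ i, i < 22090 → P i := stepQ 22089 Q22089 (allL N22089 (tt N20646 F246021) (tt N20473 F246022) (tt N23173 (iv F250528)) (tt N20453 F246023) (tt N23466 (iv F252378)) (tt N20456 F246024) (tt N20572 F246025) (tt N20455 F246026) (tt N23467 D56237) (tt N20452 (iv D54859)))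
theorem Q22091 : ∀ i, i < 22091 → P i := stepQ 22090 Q22090 (allL N22090 (tt N21128 F246027) (tt N20477 F246028) (tt N21433 F246029) (tt N20758 F246030) (tt N20455 F246031) (tt N21431 F246032) (tt N21110 F246033) (tt N23466 (iv F252381)) (tt N23468 D56238) (tt N20454 (iv D54860)))
theorem Q22092 : ∀ i, i < 22092 → P i := stepQ 22091 Q22091 (allL N22091 (tt N21137 F246034) (tt N20478 F246035) (tt N23185 (iv F250615)) (tt N20559 F246036) (tt N23468 (iv F252392)) (tt N20457 F246037) (tt N21112 F246038) (tt N23467 (iv F252387)) (tt N20455 (iv D54861)) (tt N21413 F246039))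
theorem Q22093 : ∀ i, i < 22093 → P i := stepQ 22092 Q22092 (allL N22092 (tt N21141 F246040) (tt N20479 F246041) (tt N23174 (iv F250536)) (tt N20560 F246042) (tt N20525 F246043) (tt N23467 (iv F252385)) (tt N20531 F246044) (tt N20457 F246045) (tt N20456 (iv D54862)) (tt N23172 (iv F250525)))
theorem Q22094 : ∀ i, i < 22094 → P i := stepQ 22093 Q22093 (allL N22093 (tt N20493 F246046) (tt N20591 F246047) (tt N20498 F246048) (tt N20833 F246049) (tt N20458 (iv D54863)) (tt N20496 F246050) (tt N20553 F246051) (tt N20461 F246052) (tt N20472 F246053) (tt N23469 D56239))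
theorem Q22095 : ∀ i, i < 22095 → P i := stepQ 22094 Q22094 (allL N22094 (tt N20494 F246054) (tt N20592 F246055) (tt N20505 F246056) (tt N20459 F246057) (tt N23469 (iv F252400)) (tt N20463 F246058) (tt N20554 F246059) (tt N20462 F246060) (tt N23470 D56240) (tt N20458 (iv D54864)))
theorem Q22096 : ∀ i, i < 22096 → P i := stepQ 22095 Q22095 (allL N22095 (tt N20496 F246061) (tt N20695 F246062) (tt N20461 F246063) (tt N23287 (iv F251273)) (tt N20460 (iv D54865)) (tt N20493 F246064) (tt N20689 F246065) (tt N20498 F246066) (tt N20474 F246067) (tt N23471 D56241))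
theorem Q22097 : ∀ i, i < 22097 → P i := stepQ 22096 Q22096 (allL N22096 (tt N20497 F246068) (tt N20712 F246069) (tt N20462 F246070) (tt N22096 F246071) (tt N23471 (iv F252415)) (tt N20464 F246072) (tt N20709 F246073) (tt N20505 F246074) (tt N23472 D56242) (tt N20460 (iv D54866)))
theorem Q22098 : ∀ i, i < 22098 → P i := stepQ 22097 Q22097 (allL N22097 (tt N20498 F246075) (tt N21125 F246076) (tt N20493 F246077) (tt N21492 F246078) (tt N20465 F246079) (tt N20461 (iv D54867)) (tt N21120 F246080) (tt N20496 F246081) (tt N20476 F246082) (tt N23473 D56243))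
theorem Q22099 : ∀ i, i < 22099 → P i := stepQ 22098 Q22098 (allL N22098 (tt N20499 F246083) (tt N21412 F246084) (tt N23471 (iv F252414)) (tt N21502 F246085) (tt N20462 F246086) (tt N23473 (iv F252431)) (tt N21365 F246087) (tt N23469 (iv F252403)) (tt N23474 D56244) (tt N20461 (iv D54868)))
theorem Q22100 : ∀ i, i < 22100 → P i := stepQ 22099 Q22099 (allL N22099 (tt N20500 F246088) (tt N21413 F246089) (tt N23472 (iv F252421)) (tt N20578 F246090) (tt N23474 (iv F252436)) (tt N20467 F246091) (tt N21366 F246092) (tt N23470 (iv F252410)) (tt N20462 (iv D54869)) (tt N20478 F246093))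
theorem Q22101 : ∀ i, i < 22101 → P i := stepQ 22100 Q22100 (allL N22100 (tt N20501 F246094) (tt N23172 (iv F250518)) (tt N20506 F246095) (tt N20580 F246096) (tt N20503 F246097) (tt N23470 (iv F252408)) (tt N20508 F246098) (tt N20467 F246099) (tt N20463 (iv D54870)) (tt N20479 F246100))
theorem Q22102 : ∀ i, i < 22102 → P i := stepQ 22101 Q22101 (allL N22101 (tt N20503 F246101) (tt N20722 F246102) (tt N20467 F246103) (tt N23475 D56245) (tt N20501 F246104) (tt N23472 (iv F252422)) (tt N20468 F246105) (tt N20506 F246106) (tt N20464 (iv D54871)) (tt N20480 F246107))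
theorem Q22103 : ∀ i, i < 22103 → P i := stepQ 22102 Q22102 (allL N22102 (tt N20505 F246108) (tt N21134 F246109) (tt N20494 F246110) (tt N22102 F246111) (tt N23473 (iv F252430)) (tt N20466 F246112) (tt N21132 F246113) (tt N20497 F246114) (tt N23476 D56246) (tt N20465 (iv D54872)))
theorem Q22104 : ∀ i, i < 22104 → P i := stepQ 22103 Q22103 (allL N22103 (tt N20506 F246115) (tt N21139 F246116) (tt N20501 F246117) (tt N23477 D56247) (tt N20467 F246118) (tt N23476 (iv F252450)) (tt N20469 F246119) (tt N20503 F246120) (tt N20466 (iv D54873)) (tt N20482 F246121))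
theorem Q22105 : ∀ i, i < 22105 → P i := stepQ 22104 Q22104 (allL N22104 (tt N20509 F246122) (tt N20723 F246123) (tt N20589 F246124) (tt N20468 (iv D54874)) (tt N21411 F246125) (tt N20720 F246126) (tt N23475 (iv F252443)) (tt N23451 (iv F252245)) (tt N22104 F246127) (tt N20484 F246128))
theorem Q22106 : ∀ i, i < 22106 → P i := stepQ 22105 Q22105 (allL N22105 (tt N20512 F246129) (tt N21140 F246130) (tt N21383 F246131) (tt N20469 (iv D54875)) (tt N20590 F246132) (tt N21138 F246133) (tt N23477 (iv F252458)) (tt N23452 (iv F252254)) (tt N22105 F246134) (tt N20485 F246135))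
theorem Q22107 : ∀ i, i < 22107 → P i := stepQ 22106 Q22106 (allL N22106 (tt N20513 F246136) (tt N20571 F246137) (tt N20522 F246138) (tt N20764 F246139) (tt N20470 (iv D54876)) (tt N20556 F246140) (tt N20472 F246141) (tt N20550 F246142) (tt N20553 F246143) (tt N23478 D56248))
theorem Q22108 : ∀ i, i < 22108 → P i := stepQ 22107 Q22107 (allL N22107 (tt N20514 F246144) (tt N20572 F246145) (tt N20527 F246146) (tt N20471 F246147) (tt N23478 (iv F252466)) (tt N20533 F246148) (tt N20473 F246149) (tt N20551 F246150) (tt N23479 D56249) (tt N20470 (iv D54877)))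
theorem Q22109 : ∀ i, i < 22109 → P i := stepQ 22108 Q22108 (allL N22108 (tt N20515 F246151) (tt N23466 (iv F252375)) (tt N20523 F246152) (tt N20766 F246153) (tt N20473 F246154) (tt N20520 F246155) (tt N23478 (iv F252468)) (tt N20477 F246156) (tt N23480 D56250) (tt N20472 (iv D54878)))
theorem Q22110 : ∀ i, i < 22110 → P i := stepQ 22109 Q22109 (allL N22109 (tt N20516 F246157) (tt N23467 (iv F252383)) (tt N20528 F246158) (tt N20597 F246159) (tt N23480 (iv F252480)) (tt N20479 F246160) (tt N23479 (iv F252475)) (tt N20478 F246161) (tt N20473 (iv D54879)) (tt N23470 (iv F252411)))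
theorem Q22111 : ∀ i, i < 22111 → P i := stepQ 22110 Q22110 (allL N22110 (tt N20520 F246162) (tt N23165 (iv F250470)) (tt N20477 F246163) (tt N20800 F246164) (tt N20475 F246165) (tt N20515 F246166) (tt N21369 F246167) (tt N20523 F246168) (tt N23481 D56251) (tt N20474 (iv D54880)))
theorem Q22112 : ∀ i, i < 22112 → P i := stepQ 22111 Q22111 (allL N22111 (tt N20521 F246169) (tt N23171 (iv F250510)) (tt N20478 F246170) (tt N23482 D56252) (tt N23481 (iv F252485)) (tt N20480 F246171) (tt N21370 F246172) (tt N20528 F246173) (tt N20475 (iv D54881)) (tt N23472 (iv F252425)))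
theorem Q22113 : ∀ i, i < 22113 → P i := stepQ 22112 Q22112 (allL N22112 (tt N20523 F246174) (tt N21431 F246175) (tt N20515 F246176) (tt N20768 F246177) (tt N20481 F246178) (tt N20477 F246179) (tt N21435 F246180) (tt N20520 F246181) (tt N23483 D56253) (tt N20476 (iv D54882)))
theorem Q22114 : ∀ i, i < 22114 → P i := stepQ 22113 Q22113 (allL N22113 (tt N20524 F246182) (tt N23468 (iv F252390)) (tt N23481 (iv F252484)) (tt N23484 D56254) (tt N20478 F246183) (tt N23483 (iv F252500)) (tt N21371 F246184) (tt N23480 (iv F252482)) (tt N20477 (iv D54883)) (tt N23474 (iv F252438)))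
theorem Q22115 : ∀ i, i < 22115 → P i := stepQ 22114 Q22114 (allL N22114 (tt N20526 F246185) (tt N21418 F246186) (tt N20613 F246187) (tt N20480 (iv D54884)) (tt N20707 F246188) (tt N23482 (iv F252492)) (tt N20484 F246189) (tt N20529 F246190) (tt N20489 F246191) (tt N23475 (iv F252446)))
theorem Q22116 : ∀ i, i < 22116 → P i := stepQ 22115 Q22115 (allL N22115 (tt N20528 F246192) (tt N21432 F246193) (tt N20516 F246194) (tt N23485 D56255) (tt N23483 (iv F252499)) (tt N20482 F246195) (tt N21436 F246196) (tt N20521 F246197) (tt N20481 (iv D54885)) (tt N23476 (iv F252453)))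
theorem Q22117 : ∀ i, i < 22117 → P i := stepQ 22116 Q22116 (allL N22116 (tt N20529 F246198) (tt N21459 F246199) (tt N20705 F246200) (tt N20482 (iv D54886)) (tt N20615 F246201) (tt N23485 (iv F252510)) (tt N20485 F246202) (tt N20526 F246203) (tt N20487 F246204) (tt N23477 (iv F252461)))
theorem Q22118 : ∀ i, i < 22118 → P i := stepQ 22117 Q22117 (allL N22117 (tt N20540 F246205) (tt N21465 F246206) (tt N20738 F246207) (tt N20486 (iv D54887)) (tt N23486 D56256) (tt N20487 F246208) (tt N21466 F246209) (tt N20546 F246210) (tt N23485 (iv F252513)) (tt N22117 F246211))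
theorem Q22119 : ∀ i, i < 22119 → P i := stepQ 22118 Q22118 (allL N22118 (tt N20546 F246212) (tt N21420 F246213) (tt N20630 F246214) (tt N20488 (iv D54888)) (tt N23487 D56257) (tt N20489 F246215) (tt N21375 F246216) (tt N20540 F246217) (tt N23482 (iv F252495)) (tt N22118 F246218))
theorem Q22120 : ∀ i, i < 22120 → P i := stepQ 22119 Q22119 (allL N22119 (tt N21387 F246219) (tt N23218 (iv F250838)) (tt N20491 F246220) (tt N23488 D56258) (tt N20490 (iv D54889)) (tt N23489 D56259) (tt N20784 F246221) (tt N23285 (iv F251259)) (tt N20777 F246222) (tt N23490 D56260))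
theorem Q22121 : ∀ i, i < 22121 → P i := stepQ 22120 Q22120 (allL N22120 (tt N21400 F246223) (tt N23228 (iv F250904)) (tt N20492 F246224) (tt N22120 F246225) (tt N23490 (iv F252548)) (tt N22120 F246226) (tt N20789 F246227) (tt N23286 (iv F251269)) (tt N23491 D56261) (tt N20490 (iv D54890)))
theorem Q22122 : ∀ i, i < 22122 → P i := stepQ 22121 Q22121 (allL N22121 (tt N21492 F246228) (tt N21182 F246229) (tt N23489 (iv F252540)) (tt N20498 F246230) (tt N22121 F246231) (tt N20491 (iv D54891)) (tt N21478 F246232) (tt N23287 (iv F251276)) (tt N20779 F246233) (tt N23492 D56262))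
theorem Q22123 : ∀ i, i < 22123 → P i := stepQ 22122 Q22122 (allL N22122 (tt N21502 F246234) (tt N21183 F246235) (tt N23490 (iv F252547)) (tt N20499 F246236) (tt N20492 F246237) (tt N23492 (iv F252559)) (tt N21170 F246238) (tt N23288 (iv F251283)) (tt N23493 D56263) (tt N20491 (iv D54892)))
theorem Q22124 : ∀ i, i < 22124 → P i := stepQ 22123 Q22123 (allL N22123 (tt N21519 F246239) (tt N21184 F246240) (tt N23491 (iv F252551)) (tt N20644 F246241) (tt N23493 (iv F252563)) (tt N22123 F246242) (tt N21171 F246243) (tt N23289 (iv F251289)) (tt N20492 (iv D54893)) (tt N20781 F246244))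
theorem Q22125 : ∀ i, i < 22125 → P i := stepQ 22124 Q22124 (allL N22124 (tt N23469 (iv F252396)) (tt N21448 F246245) (tt N23473 (iv F252428)) (tt N23288 (iv F251280)) (tt N20494 F246246) (tt N23471 (iv F252416)) (tt N21443 F246247) (tt N20499 F246248) (tt N23494 D56264) (tt N20493 (iv D54894)))
theorem Q22126 : ∀ i, i < 22126 → P i := stepQ 22125 Q22125 (allL N22125 (tt N23470 (iv F252404)) (tt N21461 F246249) (tt N23476 (iv F252449)) (tt N20651 F246250) (tt N23494 (iv F252567)) (tt N20501 F246251) (tt N21458 F246252) (tt N20500 F246253) (tt N20494 (iv D54895)) (tt N20516 F246254))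
theorem Q22127 : ∀ i, i < 22127 → P i := stepQ 22126 Q22126 (allL N22126 (tt N20677 F246255) (tt N20496 F246256) (tt N20645 F246257) (tt N20867 (iv F246262)) (tt N20495 (iv D54896)) (tt N20591 F246258) (tt N20647 F246259) (tt N21125 F246260) (tt N20517 F246261) (tt N23495 D56265))
theorem Q22128 : ∀ i, i < 22128 → P i := stepQ 22127 Q22127 (allL N22127 (tt N23173 (iv F250526)) (tt N20497 F246263) (tt N20646 F246264) (tt N22127 F246265) (tt N23495 (iv F252575)) (tt N20502 F246266) (tt N20648 F246267) (tt N21134 F246268) (tt N23496 D56266) (tt N20495 (iv D54897)))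
theorem Q22129 : ∀ i, i < 22129 → P i := stepQ 22128 Q22128 (allL N22128 (tt N23287 (iv F251270)) (tt N20867 F246269) (tt N23488 (iv F252532)) (tt N20496 (iv D54898)) (tt N22128 F246270) (tt N20833 F246271) (tt N21378 F246272) (tt N21492 F246273) (tt N21498 F246274) (tt N23497 D56267))
theorem Q22130 : ∀ i, i < 22130 → P i := stepQ 22129 Q22129 (allL N22129 (tt N23471 (iv F252412)) (tt N23495 (iv F252572)) (tt N20499 F246275) (tt N23497 (iv F252586)) (tt N20497 F246276) (tt N23469 (iv F252401)) (tt N21379 F246277) (tt N23473 (iv F252433)) (tt N23498 D56268) (tt N20496 (iv D54899)))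
theorem Q22131 : ∀ i, i < 22131 → P i := stepQ 22130 Q22130 (allL N22130 (tt N23472 (iv F252419)) (tt N23496 (iv F252579)) (tt N20500 F246278) (tt N23499 D56269) (tt N23498 (iv F252592)) (tt N20503 F246279) (tt N21380 F246280) (tt N23476 (iv F252452)) (tt N20497 (iv D54900)) (tt N20521 F246281))
theorem Q22132 : ∀ i, i < 22132 → P i := stepQ 22131 Q22131 (allL N22131 (tt N21120 F246282) (tt N20576 F246283) (tt N20553 F246284) (tt N21478 F246285) (tt N20504 F246286) (tt N20550 F246287) (tt N20498 (iv D54901)) (tt N20556 F246288) (tt N20522 F246289) (tt N23500 D56270))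
theorem Q22133 : ∀ i, i < 22133 → P i := stepQ 22132 Q22132 (allL N22132 (tt N23473 (iv F252426)) (tt N23161 (iv F250440)) (tt N23469 (iv F252398)) (tt N23492 (iv F252557)) (tt N20505 F246290) (tt N20499 F246291) (tt N23500 (iv F252606)) (tt N23471 (iv F252418)) (tt N23501 D56271) (tt N20498 (iv D54902)))
theorem Q22134 : ∀ i, i < 22134 → P i := stepQ 22133 Q22133 (allL N22133 (tt N23474 (iv F252434)) (tt N23162 (iv F250448)) (tt N23498 (iv F252591)) (tt N23502 D56272) (tt N20500 F246292) (tt N23501 (iv F252609)) (tt N21381 F246293) (tt N23494 (iv F252569)) (tt N20499 (iv D54903)) (tt N20524 F246294))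
theorem Q22135 : ∀ i, i < 22135 → P i := stepQ 22134 Q22134 (allL N22134 (tt N23174 (iv F250534)) (tt N20503 F246295) (tt N21141 F246296) (tt N23503 D56273) (tt N23172 (iv F250521)) (tt N23496 (iv F252581)) (tt N20507 F246297) (tt N21139 F246298) (tt N20502 (iv D54904)) (tt N20525 F246299))
theorem Q22136 : ∀ i, i < 22136 → P i := stepQ 22135 Q22135 (allL N22135 (tt N23475 (iv F252439)) (tt N23503 (iv F252615)) (tt N20667 F246300) (tt N20503 (iv D54905)) (tt N23504 D56274) (tt N23499 (iv F252596)) (tt N20509 F246301) (tt N23477 (iv F252459)) (tt N22135 F246302) (tt N20526 F246303))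
theorem Q22137 : ∀ i, i < 22137 → P i := stepQ 22136 Q22136 (allL N22136 (tt N21132 F246304) (tt N20585 F246305) (tt N20554 F246306) (tt N22136 F246307) (tt N23500 (iv F252604)) (tt N20510 F246308) (tt N20505 F246309) (tt N20557 F246310) (tt N23505 D56275) (tt N20504 (iv D54906)))
theorem Q22138 : ∀ i, i < 22138 → P i := stepQ 22137 Q22137 (allL N22137 (tt N23476 (iv F252447)) (tt N23163 (iv F250455)) (tt N23470 (iv F252406)) (tt N23506 D56276) (tt N23501 (iv F252608)) (tt N20506 F246311) (tt N23505 (iv F252634)) (tt N23472 (iv F252424)) (tt N20505 (iv D54907)) (tt N20528 F246312))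
theorem Q22139 : ∀ i, i < 22139 → P i := stepQ 22138 Q22138 (allL N22138 (tt N23477 (iv F252454)) (tt N23164 (iv F250462)) (tt N23507 D56277) (tt N20506 (iv D54908)) (tt N20670 F246313) (tt N23506 (iv F252637)) (tt N20512 F246314) (tt N23475 (iv F252444)) (tt N22138 F246315) (tt N20529 F246316))
theorem Q22140 : ∀ i, i < 22140 → P i := stepQ 22139 Q22139 (allL N22139 (tt N21430 F246317) (tt N20509 F246318) (tt N21138 F246319) (tt N20507 (iv D54909)) (tt N20564 F246320) (tt N21383 F246321) (tt N23503 (iv F252618)) (tt N23453 (iv F252263)) (tt N22139 F246322) (tt N20532 F246323))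
theorem Q22141 : ∀ i, i < 22141 → P i := stepQ 22140 Q22140 (allL N22140 (tt N21411 F246324) (tt N20564 F246325) (tt N20673 F246326) (tt N20563 F246327) (tt N20509 (iv D54910)) (tt N21397 (iv F246330)) (tt N23504 (iv F252626)) (tt N23454 (iv F252271)) (tt N22140 F246328) (tt N20535 F246329))
theorem Q22142 : ∀ i, i < 22142 → P i := stepQ 22141 Q22141 (allL N22141 (tt N21133 F246331) (tt N20586 F246332) (tt N20560 F246333) (tt N23508 D56278) (tt N20552 F246334) (tt N23505 (iv F252633)) (tt N20511 F246335) (tt N20562 F246336) (tt N20510 (iv D54911)) (tt N20536 F246337))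
theorem Q22143 : ∀ i, i < 22143 → P i := stepQ 22142 Q22142 (allL N22142 (tt N21138 F246338) (tt N20590 F246339) (tt N21430 F246340) (tt N20511 (iv D54912)) (tt N21140 F246341) (tt N20512 F246342) (tt N23508 (iv F252652)) (tt N23455 (iv F252281)) (tt N22142 F246343) (tt N20537 F246344))
theorem Q22144 : ∀ i, i < 22144 → P i := stepQ 22143 Q22143 (allL N22143 (tt N21383 F246345) (tt N20619 (iv F246351)) (tt N20512 (iv D54913)) (tt N20617 F246346) (tt N20676 F246347) (tt N21430 F246348) (tt N23507 (iv F252643)) (tt N23456 (iv F252289)) (tt N22143 F246349) (tt N20538 F246350))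
theorem Q22145 : ∀ i, i < 22145 → P i := stepQ 22144 Q22144 (allL N22144 (tt N23478 (iv F252462)) (tt N21117 F246352) (tt N21435 F246353) (tt N20796 F246354) (tt N20514 F246355) (tt N21421 F246356) (tt N20515 F246357) (tt N21121 F246358) (tt N23509 D56279) (tt N20513 (iv D54914)))
theorem Q22146 : ∀ i, i < 22146 → P i := stepQ 22145 Q22145 (allL N22145 (tt N23479 (iv F252470)) (tt N21118 F246359) (tt N21436 F246360) (tt N20679 F246361) (tt N23509 (iv F252658)) (tt N21131 F246362) (tt N20516 F246363) (tt N21122 F246364) (tt N20514 (iv D54915)) (tt N21458 F246365))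
theorem Q22147 : ∀ i, i < 22147 → P i := stepQ 22146 Q22146 (allL N22146 (tt N23480 (iv F252478)) (tt N23166 (iv F250478)) (tt N23483 (iv F252498)) (tt N23510 D56280) (tt N20516 F246366) (tt N23481 (iv F252486)) (tt N23509 (iv F252660)) (tt N20524 F246367) (tt N20515 (iv D54916)) (tt N23494 (iv F252570)))
theorem Q22148 : ∀ i, i < 22148 → P i := stepQ 22147 Q22147 (allL N22147 (tt N23190 (iv F250648)) (tt N20520 F246368) (tt N20678 F246369) (tt N23315 (iv F251464)) (tt N20518 F246370) (tt N23466 (iv F252379)) (tt N20682 F246371) (tt N21431 F246372) (tt N23511 D56281) (tt N20517 (iv D54917)))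
theorem Q22149 : ∀ i, i < 22149 → P i := stepQ 22148 Q22148 (allL N22148 (tt N23194 (iv F250670)) (tt N20521 F246373) (tt N20679 F246374) (tt N23512 D56282) (tt N23511 (iv F252668)) (tt N20525 F246375) (tt N20683 F246376) (tt N21432 F246377) (tt N20518 (iv D54918)) (tt N23496 (iv F252584)))
theorem Q22150 : ∀ i, i < 22150 → P i := stepQ 22149 Q22149 (allL N22149 (tt N20800 F246378) (tt N23315 (iv F251462)) (tt N20804 F246379) (tt N20520 F246380) (tt N20544 F246381) (tt N20766 F246382) (tt N21388 F246383) (tt N20768 F246384) (tt N23513 D56283) (tt N20519 (iv D54919)))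
theorem Q22151 : ∀ i, i < 22151 → P i := stepQ 22150 Q22150 (allL N22150 (tt N23481 (iv F252483)) (tt N23511 (iv F252666)) (tt N20524 F246385) (tt N23514 D56284) (tt N20521 F246386) (tt N23480 (iv F252481)) (tt N21390 F246387) (tt N23483 (iv F252502)) (tt N20520 (iv D54920)) (tt N23498 (iv F252594)))
theorem Q22152 : ∀ i, i < 22152 → P i := stepQ 22151 Q22151 (allL N22151 (tt N23482 (iv F252489)) (tt N23512 (iv F252672)) (tt N20698 F246388) (tt N20521 (iv D54921)) (tt N23515 D56285) (tt N20526 F246389) (tt N21391 F246390) (tt N23485 (iv F252512)) (tt N20546 F246391) (tt N23499 (iv F252599)))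
theorem Q22153 : ∀ i, i < 22153 → P i := stepQ 22152 Q22152 (allL N22152 (tt N21435 F246392) (tt N20604 F246393) (tt N23478 (iv F252464)) (tt N20808 F246394) (tt N20527 F246395) (tt N20558 F246396) (tt N20523 F246397) (tt N21440 F246398) (tt N23516 D56286) (tt N20522 (iv D54922)))
theorem Q22154 : ∀ i, i < 22154 → P i := stepQ 22153 Q22153 (allL N22153 (tt N23483 (iv F252496)) (tt N23169 (iv F250500)) (tt N23480 (iv F252479)) (tt N23517 D56287) (tt N20528 F246399) (tt N20524 F246400) (tt N23516 (iv F252693)) (tt N23481 (iv F252488)) (tt N20523 (iv D54923)) (tt N23501 (iv F252610)))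
theorem Q22155 : ∀ i, i < 22155 → P i := stepQ 22154 Q22154 (allL N22154 (tt N23484 (iv F252503)) (tt N23170 (iv F250505)) (tt N23518 D56288) (tt N20524 (iv D54924)) (tt N20702 F246401) (tt N23517 (iv F252695)) (tt N21393 F246402) (tt N23510 (iv F252664)) (tt N20810 F246403) (tt N23502 (iv F252613)))
theorem Q22156 : ∀ i, i < 22156 → P i := stepQ 22155 Q22155 (allL N22155 (tt N21460 F246404) (tt N20526 F246405) (tt N21456 F246406) (tt N20525 (iv D54925)) (tt N21457 F246407) (tt N23512 (iv F252674)) (tt N20532 F246408) (tt N21459 F246409) (tt N20547 F246410) (tt N23503 (iv F252621)))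
theorem Q22157 : ∀ i, i < 22157 → P i := stepQ 22156 Q22156 (allL N22156 (tt N20707 F246411) (tt N21457 F246412) (tt N20715 F246413) (tt N20608 F246414) (tt N20526 (iv D54926)) (tt N23519 D56289) (tt N20535 F246415) (tt N20615 F246416) (tt N20548 F246417) (tt N23504 (iv F252629)))
theorem Q22158 : ∀ i, i < 22158 → P i := stepQ 22157 Q22157 (allL N22157 (tt N21436 F246418) (tt N20614 F246419) (tt N23479 (iv F252472)) (tt N23520 D56290) (tt N23516 (iv F252691)) (tt N20536 F246420) (tt N20528 F246421) (tt N21441 F246422) (tt N20527 (iv D54927)) (tt N23505 (iv F252636)))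
theorem Q22159 : ∀ i, i < 22159 → P i := stepQ 22158 Q22158 (allL N22158 (tt N23485 (iv F252507)) (tt N23176 (iv F250550)) (tt N23521 D56291) (tt N20528 (iv D54928)) (tt N23522 D56292) (tt N20529 F246423) (tt N23520 (iv F252710)) (tt N23482 (iv F252494)) (tt N20540 F246424) (tt N23506 (iv F252639)))
theorem Q22160 : ∀ i, i < 22160 → P i := stepQ 22159 Q22159 (allL N22159 (tt N20705 F246425) (tt N21464 (iv F246431)) (tt N20529 (iv D54929)) (tt N20606 F246426) (tt N20719 F246427) (tt N23521 (iv F252715)) (tt N20538 F246428) (tt N20613 F246429) (tt N20541 F246430) (tt N23507 (iv F252646)))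
theorem Q22161 : ∀ i, i < 22161 → P i := stepQ 22160 Q22160 (allL N22160 (tt N21131 F246432) (tt N20580 F246433) (tt N20536 F246434) (tt N23172 (iv F250520)) (tt N20562 F246435) (tt N23479 (iv F252474)) (tt N20534 F246436) (tt N20552 F246437) (tt N20533 (iv D54930)) (tt N20560 F246438))
theorem Q22162 : ∀ i, i < 22162 → P i := stepQ 22161 Q22161 (allL N22161 (tt N21456 F246439) (tt N20615 F246440) (tt N21460 (iv F246445)) (tt N20536 (iv D54931)) (tt N21459 F246441) (tt N23520 (iv F252709)) (tt N20537 F246442) (tt N21457 F246443) (tt N20542 F246444) (tt N23508 (iv F252655)))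
theorem Q22163 : ∀ i, i < 22163 → P i := stepQ 22162 Q22162 (allL N22162 (tt N21466 F246446) (tt N20624 F246447) (tt N21476 F246448) (tt N20539 (iv D54932)) (tt N23523 D56293) (tt N20542 F246449) (tt N20540 F246450) (tt N21468 F246451) (tt N23520 (iv F252712)) (tt N22162 F246452))
theorem Q22164 : ∀ i, i < 22164 → P i := stepQ 22163 Q22163 (allL N22163 (tt N20738 F246453) (tt N21477 (iv F246459)) (tt N20540 (iv D54933)) (tt N20627 F246454) (tt N23524 D56294) (tt N20541 F246455) (tt N21476 F246456) (tt N20630 F246457) (tt N23521 (iv F252718)) (tt N22163 F246458))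
theorem Q22165 : ∀ i, i < 22165 → P i := stepQ 22164 Q22164 (allL N22164 (tt N23486 (iv F252514)) (tt N23179 (iv F250571)) (tt N23524 (iv F252732)) (tt N20825 F246460) (tt N20540 (iv D54934)) (tt N20732 F246461) (tt N23523 (iv F252727)) (tt N23487 (iv F252528)) (tt N23522 (iv F252721)) (tt N22164 F246462))
theorem Q22166 : ∀ i, i < 22166 → P i := stepQ 22165 Q22165 (allL N22165 (tt N21476 F246463) (tt N20546 F246464) (tt N21466 F246465) (tt N20543 (iv D54935)) (tt N23525 D56295) (tt N20547 F246466) (tt N20738 F246467) (tt N21465 F246468) (tt N23512 (iv F252677)) (tt N22165 F246469))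
theorem Q22167 : ∀ i, i < 22167 → P i := stepQ 22166 Q22166 (allL N22166 (tt N20811 F246470) (tt N23319 (iv F251484)) (tt N20827 F246471) (tt N23526 D56296) (tt N23513 (iv F252680)) (tt N20770 F246472) (tt N21401 F246473) (tt N20771 F246474) (tt N20544 (iv D54936)) (tt N21517 F246475))
theorem Q22168 : ∀ i, i < 22168 → P i := stepQ 22167 Q22167 (allL N22167 (tt N20821 F246476) (tt N23323 (iv F251511)) (tt N21659 F246477) (tt N20545 (iv D54937)) (tt N23527 D56297) (tt N20773 F246478) (tt N21402 F246479) (tt N20774 F246480) (tt N23526 (iv F252749)) (tt N22167 F246481))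
theorem Q22169 : ∀ i, i < 22169 → P i := stepQ 22168 Q22168 (allL N22168 (tt N23487 (iv F252522)) (tt N23525 (iv F252738)) (tt N20749 F246482) (tt N23527 (iv F252753)) (tt N20546 (iv D54938)) (tt N23528 D56298) (tt N21403 F246483) (tt N23486 (iv F252520)) (tt N23515 (iv F252688)) (tt N22168 F246484))
theorem Q22170 : ∀ i, i < 22170 → P i := stepQ 22169 Q22169 (allL N22169 (tt N20729 F246485) (tt N21468 F246486) (tt N20751 F246487) (tt N20623 F246488) (tt N23528 (iv F252762)) (tt N20548 (iv D54939)) (tt N23200 (iv F250715)) (tt N20624 F246489) (tt N23519 (iv F252705)) (tt N22169 F246490))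
theorem Q22171 : ∀ i, i < 22171 → P i := stepQ 22170 Q22170 (allL N22170 (tt N21121 F246491) (tt N20577 F246492) (tt N21440 F246493) (tt N21479 F246494) (tt N20551 F246495) (tt N23500 (iv F252605)) (tt N21367 F246496) (tt N23478 (iv F252469)) (tt N23529 D56299) (tt N20550 (iv D54940)))
theorem Q22172 : ∀ i, i < 22172 → P i := stepQ 22171 Q22171 (allL N22171 (tt N21122 F246497) (tt N20578 F246498) (tt N21441 F246499) (tt N21413 F246500) (tt N23529 (iv F252768)) (tt N20552 F246501) (tt N21368 F246502) (tt N23479 (iv F252476)) (tt N20551 (iv D54941)) (tt N20559 F246503))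
theorem Q22173 : ∀ i, i < 22173 → P i := stepQ 22172 Q22172 (allL N22172 (tt N21443 F246504) (tt N20596 F246505) (tt N23500 (iv F252602)) (tt N20837 F246506) (tt N20554 F246507) (tt N21440 F246508) (tt N23469 (iv F252402)) (tt N20558 F246509) (tt N23530 D56300) (tt N20553 (iv D54942)))
theorem Q22174 : ∀ i, i < 22174 → P i := stepQ 22173 Q22173 (allL N22173 (tt N21458 F246510) (tt N20597 F246511) (tt N23505 (iv F252632)) (tt N23467 (iv F252384)) (tt N23530 (iv F252773)) (tt N20560 F246512) (tt N23470 (iv F252409)) (tt N20559 F246513) (tt N20554 (iv D54943)) (tt N23479 (iv F252477)))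
theorem Q22175 : ∀ i, i < 22175 → P i := stepQ 22174 Q22174 (allL N22174 (tt N20649 F246514) (tt N20556 F246515) (tt N20599 F246516) (tt N23531 D56301) (tt N20555 (iv D54944)) (tt N20571 F246517) (tt N20681 F246518) (tt N20576 F246519) (tt N20595 F246520) (tt N23532 D56302))
theorem Q22176 : ∀ i, i < 22176 → P i := stepQ 22175 Q22175 (allL N22175 (tt N20662 F246521) (tt N20557 F246522) (tt N20600 F246523) (tt N22175 F246524) (tt N23532 (iv F252787)) (tt N20561 F246525) (tt N20703 F246526) (tt N20585 F246527) (tt N23533 D56303) (tt N20555 (iv D54945)))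
theorem Q22177 : ∀ i, i < 22177 → P i := stepQ 22176 Q22176 (allL N22176 (tt N20795 F246528) (tt N23531 (iv F252777)) (tt N20839 F246529) (tt N20556 (iv D54946)) (tt N22176 F246530) (tt N20764 F246531) (tt N21386 F246532) (tt N21478 F246533) (tt N21489 F246534) (tt N23534 D56304))
theorem Q22178 : ∀ i, i < 22178 → P i := stepQ 22177 Q22177 (allL N22177 (tt N21421 F246535) (tt N23532 (iv F252785)) (tt N20558 F246536) (tt N23534 (iv F252800)) (tt N20557 F246537) (tt N23478 (iv F252467)) (tt N21389 F246538) (tt N23500 (iv F252607)) (tt N23535 D56305) (tt N20556 (iv D54947)))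
theorem Q22179 : ∀ i, i < 22179 → P i := stepQ 22178 Q22178 (allL N22178 (tt N21422 F246539) (tt N23533 (iv F252792)) (tt N20559 F246540) (tt N23536 D56306) (tt N23535 (iv F252807)) (tt N20562 F246541) (tt N21394 F246542) (tt N23505 (iv F252635)) (tt N20557 (iv D54948)) (tt N21441 F246543))
theorem Q22180 : ∀ i, i < 22180 → P i := stepQ 22179 Q22179 (allL N22179 (tt N23180 (iv F250577)) (tt N20605 F246544) (tt N23535 (iv F252806)) (tt N23537 D56307) (tt N20559 F246545) (tt N23516 (iv F252692)) (tt N21392 F246546) (tt N23530 (iv F252775)) (tt N20558 (iv D54949)) (tt N23529 (iv F252770)))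
theorem Q22181 : ∀ i, i < 22181 → P i := stepQ 22180 Q22180 (allL N22180 (tt N20663 F246547) (tt N20562 F246548) (tt N20610 F246549) (tt N23504 (iv F252625)) (tt N20580 F246550) (tt N23533 (iv F252794)) (tt N20563 F246551) (tt N20586 F246552) (tt N20561 (iv D54950)) (tt N20608 F246553))
theorem Q22182 : ∀ i, i < 22182 → P i := stepQ 22181 Q22181 (allL N22181 (tt N21428 F246554) (tt N23504 (iv F252623)) (tt N23187 (iv F250629)) (tt N20562 (iv D54951)) (tt N23503 (iv F252617)) (tt N23536 (iv F252811)) (tt N20564 F246555) (tt N23508 (iv F252653)) (tt N22181 F246556) (tt N21457 F246557))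
theorem Q22183 : ∀ i, i < 22183 → P i := stepQ 22182 Q22182 (allL N22182 (tt N20637 F246558) (tt N20764 F246559) (tt N21289 F246560) (tt N20571 F246561) (tt N20565 (iv D54952)) (tt N23531 (iv F252780)) (tt N20754 F246562) (tt N20568 F246563) (tt N20845 F246564) (tt N23538 D56308))
theorem Q22184 : ∀ i, i < 22184 → P i := stepQ 22183 Q22183 (allL N22183 (tt N20638 F246565) (tt N20765 F246566) (tt N21339 F246567) (tt N20566 F246568) (tt N23538 (iv F252822)) (tt N22183 F246569) (tt N20755 F246570) (tt N20569 F246571) (tt N23539 D56309) (tt N20565 (iv D54953)))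
theorem Q22185 : ∀ i, i < 22185 → P i := stepQ 22184 Q22184 (allL N22184 (tt N20640 F246572) (tt N21278 F246573) (tt N20568 F246574) (tt N23540 D56310) (tt N20567 (iv D54954)) (tt N23541 D56311) (tt N21188 F246575) (tt N21289 F246576) (tt N20847 F246577) (tt N23542 D56312))
theorem Q22186 : ∀ i, i < 22186 → P i := stepQ 22185 Q22185 (allL N22185 (tt N20641 F246578) (tt N21335 F246579) (tt N20569 F246580) (tt N22185 F246581) (tt N23542 (iv F252852)) (tt N22185 F246582) (tt N21204 F246583) (tt N21339 F246584) (tt N23543 D56313) (tt N20567 (iv D54955)))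
theorem Q22187 : ∀ i, i < 22187 → P i := stepQ 22186 Q22186 (allL N22186 (tt N20642 F246585) (tt N21478 F246586) (tt N23541 (iv F252843)) (tt N20576 F246587) (tt N22186 F246588) (tt N20568 (iv D54956)) (tt N21182 F246589) (tt N23531 (iv F252782)) (tt N20849 F246590) (tt N23544 D56314))
theorem Q22188 : ∀ i, i < 22188 → P i := stepQ 22187 Q22187 (allL N22187 (tt N20643 F246591) (tt N21479 F246592) (tt N23542 (iv F252851)) (tt N20577 F246593) (tt N20569 F246594) (tt N23544 (iv F252866)) (tt N21191 F246595) (tt N23538 (iv F252824)) (tt N23545 D56315) (tt N20568 (iv D54957)))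
theorem Q22189 : ∀ i, i < 22189 → P i := stepQ 22188 Q22188 (allL N22188 (tt N20644 F246596) (tt N21480 F246597) (tt N23543 (iv F252857)) (tt N21519 F246598) (tt N23545 (iv F252870)) (tt N22188 F246599) (tt N21207 F246600) (tt N23539 (iv F252831)) (tt N20569 (iv D54958)) (tt N20851 F246601))
theorem Q22190 : ∀ i, i < 22190 → P i := stepQ 22189 Q22189 (allL N22189 (tt N20647 F246602) (tt N20601 F246603) (tt N20571 F246604) (tt N20983 (iv F246609)) (tt N20570 (iv D54959)) (tt N20599 F246605) (tt N20677 F246606) (tt N20574 F246607) (tt N20593 F246608) (tt N23546 D56316))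
theorem Q22191 : ∀ i, i < 22191 → P i := stepQ 22190 Q22190 (allL N22190 (tt N20648 F246610) (tt N20611 F246611) (tt N20572 F246612) (tt N22190 F246613) (tt N23546 (iv F252877)) (tt N20579 F246614) (tt N23173 (iv F250532)) (tt N20575 F246615) (tt N23547 D56317) (tt N20570 (iv D54960)))
theorem Q22192 : ∀ i, i < 22192 → P i := stepQ 22191 Q22191 (allL N22191 (tt N20650 F246616) (tt N23478 (iv F252463)) (tt N23546 (iv F252875)) (tt N23538 (iv F252821)) (tt N20572 F246617) (tt N23532 (iv F252788)) (tt N23466 (iv F252380)) (tt N20577 F246618) (tt N23548 D56318) (tt N20571 (iv D54961)))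
theorem Q22193 : ∀ i, i < 22193 → P i := stepQ 22192 Q22192 (allL N22192 (tt N20651 F246619) (tt N23479 (iv F252471)) (tt N23547 (iv F252883)) (tt N23470 (iv F252407)) (tt N23548 (iv F252888)) (tt N20580 F246620) (tt N23467 (iv F252386)) (tt N20578 F246621) (tt N20572 (iv D54962)) (tt N20597 F246622))
theorem Q22194 : ∀ i, i < 22194 → P i := stepQ 22193 Q22193 (allL N22193 (tt N20681 F246623) (tt N20574 F246624) (tt N20595 F246625) (tt N23379 (iv F251850)) (tt N20573 (iv D54963)) (tt N20593 F246626) (tt N20649 F246627) (tt N20601 F246628) (tt N20599 F246629) (tt N23549 D56319))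
theorem Q22195 : ∀ i, i < 22195 → P i := stepQ 22194 Q22194 (allL N22194 (tt N20703 F246630) (tt N20575 F246631) (tt N20607 F246632) (tt N22194 F246633) (tt N23549 (iv F252894)) (tt N20581 F246634) (tt N20662 F246635) (tt N20611 F246636) (tt N23550 D56320) (tt N20573 (iv D54964)))
theorem Q22196 : ∀ i, i < 22196 → P i := stepQ 22195 Q22195 (allL N22195 (tt N20654 F246637) (tt N23379 (iv F251848)) (tt N23540 (iv F252835)) (tt N20574 (iv D54965)) (tt N22195 F246638) (tt N20999 (iv F246641)) (tt N21406 F246639) (tt N20983 F246640) (tt N23331 (iv F251573)) (tt N23551 D56321))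
theorem Q22197 : ∀ i, i < 22197 → P i := stepQ 22196 Q22196 (allL N22196 (tt N20655 F246642) (tt N20593 F246643) (tt N20576 F246644) (tt N20999 F246645) (tt N20582 F246646) (tt N20574 (iv D54966)) (tt N20699 F246647) (tt N20599 F246648) (tt N20601 F246649) (tt N23552 D56322))
theorem Q22198 : ∀ i, i < 22198 → P i := stepQ 22197 Q22197 (allL N22197 (tt N20656 F246650) (tt N23549 (iv F252892)) (tt N20577 F246651) (tt N23551 (iv F252906)) (tt N20575 F246652) (tt N23552 (iv F252916)) (tt N21407 F246653) (tt N23546 (iv F252880)) (tt N23553 D56323) (tt N20574 (iv D54967)))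
theorem Q22199 : ∀ i, i < 22199 → P i := stepQ 22198 Q22198 (allL N22198 (tt N20657 F246654) (tt N23550 (iv F252899)) (tt N20578 F246655) (tt N23554 D56324) (tt N23553 (iv F252921)) (tt N20584 F246656) (tt N21408 F246657) (tt N23547 (iv F252885)) (tt N20575 (iv D54968)) (tt N20603 F246658))
theorem Q22200 : ∀ i, i < 22200 → P i := stepQ 22199 Q22199 (allL N22199 (tt N20659 F246659) (tt N23500 (iv F252601)) (tt N23552 (iv F252913)) (tt N23544 (iv F252864)) (tt N20585 F246660) (tt N20577 F246661) (tt N23161 (iv F250445)) (tt N23532 (iv F252790)) (tt N23555 D56325) (tt N20576 (iv D54969)))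
theorem Q22201 : ∀ i, i < 22201 → P i := stepQ 22200 Q22200 (allL N22200 (tt N20660 F246662) (tt N23529 (iv F252766)) (tt N23553 (iv F252920)) (tt N23556 D56326) (tt N20578 F246663) (tt N23555 (iv F252931)) (tt N21409 F246664) (tt N23548 (iv F252889)) (tt N20577 (iv D54970)) (tt N20605 F246665))
theorem Q22202 : ∀ i, i < 22202 → P i := stepQ 22201 Q22201 (allL N22201 (tt N20661 F246666) (tt N20612 F246667) (tt N20580 F246668) (tt N23507 (iv F252641)) (tt N20610 F246669) (tt N23547 (iv F252884)) (tt N20617 F246670) (tt N20584 F246671) (tt N20579 (iv D54971)) (tt N20606 F246672))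
theorem Q22203 : ∀ i, i < 22203 → P i := stepQ 22202 Q22202 (allL N22202 (tt N20704 F246673) (tt N20584 F246674) (tt N20608 F246675) (tt N23557 D56327) (tt N20606 F246676) (tt N23550 (iv F252901)) (tt N20587 F246677) (tt N20612 F246678) (tt N20581 (iv D54972)) (tt N20610 F246679))
theorem Q22204 : ∀ i, i < 22204 → P i := stepQ 22203 Q22203 (allL N22203 (tt N20665 F246680) (tt N20594 F246681) (tt N20585 F246682) (tt N20626 F246683) (tt N23552 (iv F252915)) (tt N20583 F246684) (tt N20716 F246685) (tt N20600 F246686) (tt N23558 D56328) (tt N20582 (iv D54973)))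
theorem Q22205 : ∀ i, i < 22205 → P i := stepQ 22204 Q22204 (allL N22204 (tt N20666 F246687) (tt N20606 F246688) (tt N20586 F246689) (tt N21464 F246690) (tt N20584 F246691) (tt N23558 (iv F252948)) (tt N20588 F246692) (tt N20610 F246693) (tt N20583 (iv D54974)) (tt N20612 F246694))
theorem Q22206 : ∀ i, i < 22206 → P i := stepQ 22205 Q22205 (allL N22205 (tt N20667 F246695) (tt N23557 (iv F252937)) (tt N23475 (iv F252441)) (tt N20584 (iv D54975)) (tt N23559 D56329) (tt N23554 (iv F252925)) (tt N20589 F246696) (tt N23507 (iv F252644)) (tt N22205 F246697) (tt N20613 F246698))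
theorem Q22207 : ∀ i, i < 22207 → P i := stepQ 22206 Q22206 (allL N22206 (tt N20669 F246699) (tt N23505 (iv F252631)) (tt N23558 (iv F252946)) (tt N23560 D56330) (tt N23555 (iv F252930)) (tt N20586 F246700) (tt N23163 (iv F250458)) (tt N23533 (iv F252796)) (tt N20585 (iv D54976)) (tt N20614 F246701))
theorem Q22208 : ∀ i, i < 22208 → P i := stepQ 22207 Q22207 (allL N22207 (tt N20670 F246702) (tt N23508 (iv F252649)) (tt N23561 D56331) (tt N20586 (iv D54977)) (tt N23477 (iv F252457)) (tt N23560 (iv F252961)) (tt N20590 F246703) (tt N23504 (iv F252627)) (tt N22207 F246704) (tt N20615 F246705))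
theorem Q22209 : ∀ i, i < 22209 → P i := stepQ 22208 Q22208 (allL N22208 (tt N21397 F246706) (tt N20589 F246707) (tt N20725 F246708) (tt N20587 (iv D54978)) (tt N20724 F246709) (tt N21411 F246710) (tt N23557 (iv F252940)) (tt N23457 (iv F252299)) (tt N22208 F246711) (tt N20618 F246712))
theorem Q22210 : ∀ i, i < 22210 → P i := stepQ 22209 Q22209 (allL N22209 (tt N20673 F246713) (tt N20724 F246714) (tt N21411 F246715) (tt N20726 F246716) (tt N20589 (iv D54979)) (tt N20725 F246717) (tt N23559 (iv F252956)) (tt N23458 (iv F252308)) (tt N22209 F246718) (tt N20620 F246719))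
theorem Q22211 : ∀ i, i < 22211 → P i := stepQ 22210 Q22210 (allL N22210 (tt N20676 F246720) (tt N21384 F246721) (tt N20590 (iv D54980)) (tt N21399 F246722) (tt N21383 F246723) (tt N21398 F246724) (tt N23561 (iv F252968)) (tt N23459 (iv F252317)) (tt N22210 F246725) (tt N20621 F246726))
theorem Q22212 : ∀ i, i < 22212 → P i := stepQ 22211 Q22211 (allL N22211 (tt N20678 F246727) (tt N23469 (iv F252397)) (tt N23190 (iv F250650)) (tt N20868 F246728) (tt N20592 F246729) (tt N23495 (iv F252576)) (tt N20596 F246730) (tt N21412 F246731) (tt N23562 D56332) (tt N20591 (iv D54981)))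
theorem Q22213 : ∀ i, i < 22213 → P i := stepQ 22212 Q22212 (allL N22212 (tt N20679 F246732) (tt N23470 (iv F252405)) (tt N23194 (iv F250672)) (tt N23479 (iv F252473)) (tt N23562 (iv F252973)) (tt N23172 (iv F250522)) (tt N20597 F246733) (tt N21413 F246734) (tt N20592 (iv D54982)) (tt N23467 (iv F252388)))
theorem Q22214 : ∀ i, i < 22214 → P i := stepQ 22213 Q22213 (allL N22213 (tt N20682 F246735) (tt N23552 (iv F252912)) (tt N20596 F246736) (tt N23389 (iv F251903)) (tt N20594 F246737) (tt N23549 (iv F252895)) (tt N23190 (iv F250654)) (tt N20602 F246738) (tt N23563 D56333) (tt N20593 (iv D54983)))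
theorem Q22215 : ∀ i, i < 22215 → P i := stepQ 22214 Q22214 (allL N22214 (tt N20683 F246739) (tt N23558 (iv F252945)) (tt N20597 F246740) (tt N23521 (iv F252714)) (tt N23563 (iv F252978)) (tt N20606 F246741) (tt N23194 (iv F250675)) (tt N20603 F246742) (tt N20594 (iv D54984)) (tt N23547 (iv F252886)))
theorem Q22216 : ∀ i, i < 22216 → P i := stepQ 22215 Q22215 (allL N22215 (tt N20599 F246743) (tt N20686 F246744) (tt N20649 F246745) (tt N20874 F246746) (tt N20598 F246747) (tt N20647 F246748) (tt N20595 (iv D54985)) (tt N20655 F246749) (tt N20681 F246750) (tt N23564 D56334))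
theorem Q22217 : ∀ i, i < 22217 → P i := stepQ 22216 Q22216 (allL N22216 (tt N20684 F246751) (tt N21440 F246752) (tt N23549 (iv F252893)) (tt N20875 F246753) (tt N20607 F246754) (tt N20596 F246755) (tt N23564 (iv F252986)) (tt N20604 F246756) (tt N23565 D56335) (tt N20595 (iv D54986)))
theorem Q22218 : ∀ i, i < 22218 → P i := stepQ 22217 Q22217 (allL N22217 (tt N20685 F246757) (tt N23530 (iv F252772)) (tt N23563 (iv F252977)) (tt N23566 D56336) (tt N20597 F246758) (tt N23565 (iv F252991)) (tt N23562 (iv F252974)) (tt N20605 F246759) (tt N20596 (iv D54987)) (tt N23548 (iv F252890)))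
theorem Q22219 : ∀ i, i < 22219 → P i := stepQ 22218 Q22218 (allL N22218 (tt N20600 F246760) (tt N20687 F246761) (tt N20662 F246762) (tt N20622 F246763) (tt N23564 (iv F252984)) (tt N20609 F246764) (tt N20607 F246765) (tt N20665 F246766) (tt N23567 D56337) (tt N20598 (iv D54988)))
theorem Q22220 : ∀ i, i < 22220 → P i := stepQ 22219 Q22219 (allL N22219 (tt N23564 (iv F252980)) (tt N20602 F246767) (tt N23532 (iv F252786)) (tt N21000 F246768) (tt N20600 F246769) (tt N23546 (iv F252878)) (tt N20684 F246770) (tt N23552 (iv F252918)) (tt N23568 D56338) (tt N20599 (iv D54989)))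
theorem Q22221 : ∀ i, i < 22221 → P i := stepQ 22220 Q22220 (allL N22220 (tt N23567 (iv F252996)) (tt N20603 F246771) (tt N23533 (iv F252793)) (tt N23569 D56339) (tt N23568 (iv F253004)) (tt N20610 F246772) (tt N20706 F246773) (tt N23558 (iv F252950)) (tt N20600 (iv D54990)) (tt N23550 (iv F252904)))
theorem Q22222 : ∀ i, i < 22222 → P i := stepQ 22221 Q22221 (allL N22221 (tt N20696 F246774) (tt N23546 (iv F252874)) (tt N20604 F246775) (tt N23380 (iv F251858)) (tt N20611 F246776) (tt N20602 F246777) (tt N23167 (iv F250490)) (tt N23549 (iv F252897)) (tt N23570 D56340) (tt N20601 (iv D54991)))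
theorem Q22223 : ∀ i, i < 22223 → P i := stepQ 22222 Q22222 (allL N22222 (tt N20697 F246778) (tt N23568 (iv F253003)) (tt N20605 F246779) (tt N23571 D56341) (tt N20603 F246780) (tt N23570 (iv F253014)) (tt N21415 F246781) (tt N23563 (iv F252979)) (tt N20602 (iv D54992)) (tt N23553 (iv F252923)))
theorem Q22224 : ∀ i, i < 22224 → P i := stepQ 22223 Q22223 (allL N22223 (tt N20698 F246782) (tt N23569 (iv F253006)) (tt N23482 (iv F252491)) (tt N20603 (iv D54993)) (tt N23572 D56342) (tt N20613 F246783) (tt N21416 F246784) (tt N23521 (iv F252717)) (tt N20630 F246785) (tt N23554 (iv F252928)))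
theorem Q22225 : ∀ i, i < 22225 → P i := stepQ 22224 Q22224 (allL N22224 (tt N20701 F246786) (tt N23516 (iv F252690)) (tt N23570 (iv F253012)) (tt N23573 D56343) (tt N20614 F246787) (tt N20605 F246788) (tt N23169 (iv F250503)) (tt N23565 (iv F252992)) (tt N20604 (iv D54994)) (tt N23555 (iv F252932)))
theorem Q22226 : ∀ i, i < 22226 → P i := stepQ 22225 Q22225 (allL N22225 (tt N20702 F246789) (tt N23537 (iv F252815)) (tt N23574 D56344) (tt N20605 (iv D54995)) (tt N23484 (iv F252504)) (tt N23573 (iv F253021)) (tt N21417 F246790) (tt N23566 (iv F252994)) (tt N20886 F246791) (tt N23556 (iv F252935)))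
theorem Q22227 : ∀ i, i < 22227 → P i := stepQ 22226 Q22226 (allL N22226 (tt N20706 F246792) (tt N21441 F246793) (tt N23550 (iv F252900)) (tt N23519 (iv F252703)) (tt N23565 (iv F252990)) (tt N20608 F246794) (tt N23567 (iv F253000)) (tt N20614 F246795) (tt N20607 (iv D54996)) (tt N23533 (iv F252797)))
theorem Q22228 : ∀ i, i < 22228 → P i := stepQ 22227 Q22227 (allL N22227 (tt N20610 F246796) (tt N20708 F246797) (tt N20663 F246798) (tt N23198 (iv F250697)) (tt N20661 F246799) (tt N23567 (iv F252999)) (tt N20616 F246800) (tt N20666 F246801) (tt N20609 (iv D54997)) (tt N20704 F246802))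
theorem Q22229 : ∀ i, i < 22229 → P i := stepQ 22228 Q22228 (allL N22228 (tt N23198 (iv F250695)) (tt N20613 F246803) (tt N23575 D56345) (tt N20610 (iv D54998)) (tt N23576 D56346) (tt N23569 (iv F253007)) (tt N20618 F246804) (tt N21464 F246805) (tt N20632 F246806) (tt N23557 (iv F252943)))
theorem Q22230 : ∀ i, i < 22230 → P i := stepQ 22229 Q22229 (allL N22229 (tt N20713 F246807) (tt N23547 (iv F252882)) (tt N20614 F246808) (tt N23577 D56347) (tt N23570 (iv F253013)) (tt N20612 F246809) (tt N23175 (iv F250545)) (tt N23550 (iv F252903)) (tt N20611 (iv D54999)) (tt N23558 (iv F252951)))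
theorem Q22231 : ∀ i, i < 22231 → P i := stepQ 22230 Q22230 (allL N22230 (tt N20714 F246810) (tt N23507 F252647) (tt N23578 D56348) (tt N20612 (iv D55000)) (tt N23579 D56349) (tt N23577 (iv F253043)) (tt N20619 F246811) (tt N23557 (iv F252941)) (tt N22230 F246812) (tt N21464 F246813))
theorem Q22232 : ∀ i, i < 22232 → P i := stepQ 22231 Q22231 (allL N22231 (tt N20715 F246814) (tt N23576 (iv F253035)) (tt N20707 F246815) (tt N23579 (iv F253058)) (tt N20613 (iv D55001)) (tt N23580 D56350) (tt N20620 F246816) (tt N20719 F246817) (tt N20633 F246818) (tt N23559 (iv F252959)))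
theorem Q22233 : ∀ i, i < 22233 → P i := stepQ 22232 Q22232 (allL N22232 (tt N20718 F246819) (tt N23520 (iv F252707)) (tt N23581 D56351) (tt N20614 (iv D55002)) (tt N23582 D56352) (tt N20615 F246820) (tt N23176 (iv F250552)) (tt N23519 (iv F252704)) (tt N20624 F246821) (tt N23560 (iv F252963)))
theorem Q22234 : ∀ i, i < 22234 → P i := stepQ 22233 Q22233 (allL N22233 (tt N20719 F246822) (tt N21396 F246823) (tt N20615 (iv D55003)) (tt N23578 (iv F253049)) (tt N20705 F246824) (tt N23581 (iv F253069)) (tt N20621 F246825) (tt N20715 F246826) (tt N20625 F246827) (tt N23561 (iv F252971)))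
theorem Q22235 : ∀ i, i < 22235 → P i := stepQ 22234 Q22234 (allL N22234 (tt N20726 F246828) (tt N21373 F246829) (tt N20618 (iv D55004)) (tt N20673 F246830) (tt N20672 (iv F246834)) (tt N20620 F246831) (tt N23575 (iv F253029)) (tt N23460 (iv F252325)) (tt N20634 F246832) (tt N20725 F246833))
theorem Q22236 : ∀ i, i < 22236 → P i := stepQ 22235 Q22235 (allL N22235 (tt N21399 F246835) (tt N20620 F246836) (tt N20672 F246837) (tt N20676 F246838) (tt N20618 (iv D55005)) (tt N21373 F246839) (tt N23576 (iv F253038)) (tt N23461 (iv F252335)) (tt N20635 F246840) (tt N20724 F246841))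
theorem Q22237 : ∀ i, i < 22237 → P i := stepQ 22236 Q22236 (allL N22236 (tt N20724 F246842) (tt N21398 F246843) (tt N20619 (iv D55006)) (tt N20621 F246844) (tt N21397 (iv F246848)) (tt N21384 F246845) (tt N23578 (iv F253050)) (tt N23462 (iv F252343)) (tt N22236 F246846) (tt N21399 F246847))
theorem Q22238 : ∀ i, i < 22238 → P i := stepQ 22237 Q22237 (allL N22237 (tt N20725 F246849) (tt N20676 F246850) (tt N21397 F246851) (tt N20620 F246852) (tt N20619 (iv D55007)) (tt N20673 F246853) (tt N23579 (iv F253059)) (tt N23463 (iv F252353)) (tt N22237 F246854) (tt N20726 F246855))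
theorem Q22239 : ∀ i, i < 22239 → P i := stepQ 22238 Q22238 (allL N22238 (tt N20629 F246856) (tt N20741 F246857) (tt N22238 F246858) (tt N23200 (iv F250713)) (tt N20898 F246859) (tt N20631 F246860) (tt N20623 F246861) (tt N21374 F246862) (tt N20622 (iv D55008)) (tt N22238 F246863))
theorem Q22240 : ∀ i, i < 22240 → P i := stepQ 22239 Q22239 (allL N22239 (tt N20731 F246864) (tt N21404 F246865) (tt N20624 (iv D55009)) (tt N22239 F246866) (tt N23583 D56353) (tt N20625 F246867) (tt N23178 (iv F250567)) (tt N20751 F246868) (tt N23581 (iv F253071)) (tt N22239 F246869))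
theorem Q22241 : ∀ i, i < 22241 → P i := stepQ 22240 Q22240 (allL N22240 (tt N20732 F246870) (tt N23523 (iv F252723)) (tt N23583 (iv F253076)) (tt N20902 F246871) (tt N20624 (iv D55010)) (tt N23486 (iv F252518)) (tt N23179 (iv F250574)) (tt N23528 (iv F252763)) (tt N23582 (iv F253073)) (tt N22240 F246872))
theorem Q22242 : ∀ i, i < 22242 → P i := stepQ 22241 Q22241 (allL N22241 (tt N23200 (iv F250711)) (tt N20630 F246873) (tt N23584 D56354) (tt N20629 (iv D55011)) (tt N23585 D56355) (tt N20632 F246874) (tt N20729 F246875) (tt N21477 F246876) (tt N23569 (iv F253010)) (tt N22241 F246877))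
theorem Q22243 : ∀ i, i < 22243 → P i := stepQ 22242 Q22242 (allL N22242 (tt N20749 F246878) (tt N23585 (iv F253087)) (tt N23487 (iv F252524)) (tt N23430 (iv F252118)) (tt N20630 (iv D55012)) (tt N23586 D56356) (tt N21419 F246879) (tt N23524 (iv F252735)) (tt N23572 (iv F253019)) (tt N22242 F246880))
theorem Q22244 : ∀ i, i < 22244 → P i := stepQ 22243 Q22243 (allL N22243 (tt N20733 F246881) (tt N21377 F246882) (tt N20632 (iv D55013)) (tt N22243 F246883) (tt N21376 (iv F246887)) (tt N23584 (iv F253083)) (tt N20634 F246884) (tt N21405 F246885) (tt N23575 (iv F253031)) (tt N22243 F246886))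
theorem Q22245 : ∀ i, i < 22245 → P i := stepQ 22244 Q22244 (allL N22244 (tt N21405 F246888) (tt N20633 F246889) (tt N21376 F246890) (tt N22244 F246891) (tt N20632 (iv D55014)) (tt N23587 D56357) (tt N20635 F246892) (tt N20733 F246893) (tt N23576 (iv F253040)) (tt N22244 F246894))
theorem Q22246 : ∀ i, i < 22246 → P i := stepQ 22245 Q22245 (allL N22245 (tt N20751 F246895) (tt N23587 (iv F253098)) (tt N20729 F246896) (tt N22245 F246897) (tt N23586 (iv F253094)) (tt N20633 (iv D55015)) (tt N23584 (iv F253084)) (tt N20731 F246898) (tt N23580 (iv F253066)) (tt N22245 F246899))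
theorem Q22247 : ∀ i, i < 22247 → P i := stepQ 22246 Q22246 (allL N22246 (tt N21289 F246900) (tt N23334 (iv F251586)) (tt N20637 F246901) (tt N23588 D56358) (tt N20636 (iv D55016)) (tt N23589 D56359) (tt N21300 F246902) (tt N20640 F246903) (tt N20914 F246904) (tt N23590 D56360))
theorem Q22248 : ∀ i, i < 22248 → P i := stepQ 22247 Q22247 (allL N22247 (tt N21339 F246905) (tt N23335 (iv F251594)) (tt N20638 F246906) (tt N22247 F246907) (tt N23590 (iv F253122)) (tt N22247 F246908) (tt N21323 F246909) (tt N20641 F246910) (tt N23591 D56361) (tt N20636 (iv D55017)))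
theorem Q22249 : ∀ i, i < 22249 → P i := stepQ 22248 Q22248 (allL N22248 (tt N23531 (iv F252776)) (tt N21406 F246911) (tt N23589 (iv F253114)) (tt N20649 F246912) (tt N22248 F246913) (tt N20637 (iv D55018)) (tt N23379 (iv F251853)) (tt N20642 F246914) (tt N20916 F246915) (tt N23592 D56362))
theorem Q22250 : ∀ i, i < 22250 → P i := stepQ 22249 Q22249 (allL N22249 (tt N23538 (iv F252818)) (tt N21612 F246916) (tt N23590 (iv F253121)) (tt N20650 F246917) (tt N20638 F246918) (tt N23592 (iv F253134)) (tt N21305 F246919) (tt N20643 F246920) (tt N23593 D56363) (tt N20637 (iv D55019)))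
theorem Q22251 : ∀ i, i < 22251 → P i := stepQ 22250 Q22250 (allL N22250 (tt N23539 (iv F252825)) (tt N21646 F246921) (tt N23591 (iv F253126)) (tt N23289 (iv F251286)) (tt N23593 (iv F253137)) (tt N22250 F246922) (tt N21327 F246923) (tt N20644 F246924) (tt N20638 (iv D55020)) (tt N20918 F246925))
theorem Q22252 : ∀ i, i < 22252 → P i := stepQ 22251 Q22251 (allL N22251 (tt N23325 (iv F251524)) (tt N20640 F246926) (tt N21193 F246927) (tt N23208 (iv F250772)) (tt N20639 (iv D55021)) (tt N23207 F250768) (tt N21274 F246928) (tt N23334 (iv F251589)) (tt N20920 F246929) (tt N23594 D56364))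
theorem Q22253 : ∀ i, i < 22253 → P i := stepQ 22252 Q22252 (allL N22252 (tt N23326 (iv F251532)) (tt N20641 F246930) (tt N21220 F246931) (tt N22252 F246932) (tt N23594 (iv F253143)) (tt N22252 F246933) (tt N21312 F246934) (tt N23335 (iv F251599)) (tt N23595 D56365) (tt N20639 (iv D55022)))
theorem Q22254 : ∀ i, i < 22254 → P i := stepQ 22253 Q22253 (allL N22253 (tt N23540 (iv F252833)) (tt N23208 (iv F250770)) (tt N20654 F246935) (tt N20640 (iv D55023)) (tt N22253 F246936) (tt N23205 F250753) (tt N21277 F246937) (tt N23588 (iv F253109)) (tt N23596 D56366) (tt N23597 D56367))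
theorem Q22255 : ∀ i, i < 22255 → P i := stepQ 22254 Q22254 (allL N22254 (tt N23541 (iv F252841)) (tt N23207 (iv F250762)) (tt N20642 F246938) (tt N23205 (iv F250752)) (tt N22254 F246939) (tt N20640 (iv D55024)) (tt N21269 F246940) (tt N23589 (iv F253118)) (tt N20923 F246941) (tt N23598 D56368))
theorem Q22256 : ∀ i, i < 22256 → P i := stepQ 22255 Q22255 (allL N22255 (tt N23542 (iv F252849)) (tt N23594 (iv F253141)) (tt N20643 F246942) (tt N23597 (iv F253159)) (tt N20641 F246943) (tt N23598 (iv F253164)) (tt N21280 F246944) (tt N23590 (iv F253124)) (tt N23599 D56369) (tt N20640 (iv D55025)))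
theorem Q22257 : ∀ i, i < 22257 → P i := stepQ 22256 Q22256 (allL N22256 (tt N23543 (iv F252855)) (tt N23595 (iv F253145)) (tt N20644 F246945) (tt N23600 D56370) (tt N23599 (iv F253167)) (tt N22256 F246946) (tt N21315 F246947) (tt N23591 (iv F253129)) (tt N20641 (iv D55026)) (tt N20925 F246948))
theorem Q22258 : ∀ i, i < 22258 → P i := stepQ 22257 Q22257 (allL N22257 (tt N23544 (iv F252862)) (tt N21603 F246949) (tt N23598 (iv F253162)) (tt N20659 F246950) (tt N22257 F246951) (tt N20643 F246952) (tt N21272 F246953) (tt N23592 (iv F253135)) (tt N23601 D56371) (tt N20642 (iv D55027)))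
theorem Q22259 : ∀ i, i < 22259 → P i := stepQ 22258 Q22258 (allL N22258 (tt N23545 (iv F252868)) (tt N21613 F246954) (tt N23599 (iv F253166)) (tt N23602 D56372) (tt N20644 F246955) (tt N23601 (iv F253176)) (tt N21283 F246956) (tt N23593 (iv F253139)) (tt N20643 (iv D55028)) (tt N20928 F246957))
theorem Q22260 : ∀ i, i < 22260 → P i := stepQ 22259 Q22259 (allL N22259 (tt N23466 (iv F252374)) (tt N21452 F246958) (tt N23495 (iv F252573)) (tt N21305 F246959) (tt N20646 F246960) (tt N23190 (iv F250653)) (tt N20650 F246961) (tt N21128 F246962) (tt N23603 D56373) (tt N20645 (iv D55029)))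
theorem Q22261 : ∀ i, i < 22261 → P i := stepQ 22260 Q22260 (allL N22260 (tt N23467 (iv F252382)) (tt N21462 F246963) (tt N23496 (iv F252580)) (tt N21458 F246964) (tt N23603 (iv F253184)) (tt N21141 F246965) (tt N20651 F246966) (tt N21137 F246967) (tt N20646 (iv D55030)) (tt N20679 F246968))
theorem Q22262 : ∀ i, i < 22262 → P i := stepQ 22261 Q22261 (allL N22261 (tt N20983 F246969) (tt N21378 F246970) (tt N23588 (iv F253106)) (tt N20647 (iv D55031)) (tt N22261 F246971) (tt N20874 F246972) (tt N20867 F246973) (tt N20654 F246974) (tt N23604 D56374) (tt N23605 D56375))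
theorem Q22263 : ∀ i, i < 22263 → P i := stepQ 22262 Q22262 (allL N22262 (tt N23546 (iv F252873)) (tt N21379 F246975) (tt N20650 F246976) (tt N23605 (iv F253198)) (tt N20648 F246977) (tt N23564 (iv F252985)) (tt N23495 (iv F252577)) (tt N20656 F246978) (tt N23606 D56376) (tt N20647 (iv D55032)))
theorem Q22264 : ∀ i, i < 22264 → P i := stepQ 22263 Q22263 (allL N22263 (tt N23547 (iv F252881)) (tt N21380 F246979) (tt N20651 F246980) (tt N23607 D56377) (tt N23606 (iv F253205)) (tt N20661 F246981) (tt N23496 (iv F252582)) (tt N20657 F246982) (tt N20648 (iv D55033)) (tt N20683 F246983))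
theorem Q22265 : ∀ i, i < 22265 → P i := stepQ 22264 Q22264 (allL N22264 (tt N23532 (iv F252784)) (tt N21407 F246984) (tt N23564 (iv F252982)) (tt N23592 (iv F253132)) (tt N20662 F246985) (tt N20650 F246986) (tt N23549 (iv F252896)) (tt N20659 F246987) (tt N23608 D56378) (tt N20649 (iv D55034)))
theorem Q22266 : ∀ i, i < 22266 → P i := stepQ 22265 Q22265 (allL N22265 (tt N23548 (iv F252887)) (tt N23182 (iv F250593)) (tt N23606 (iv F253204)) (tt N23609 D56379) (tt N20651 F246988) (tt N23608 (iv F253215)) (tt N23603 (iv F253185)) (tt N20660 F246989) (tt N20650 (iv D55035)) (tt N20685 F246990))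
theorem Q22267 : ∀ i, i < 22267 → P i := stepQ 22266 Q22266 (allL N22266 (tt N21386 F246991) (tt N20654 F246992) (tt N20779 F246993) (tt N20652 (iv D55036)) (tt N22266 F246994) (tt N20777 F246995) (tt N20795 F246996) (tt N21378 F246997) (tt N23489 (iv F252545)) (tt N23610 D56380))
theorem Q22268 : ∀ i, i < 22268 → P i := stepQ 22267 Q22267 (allL N22267 (tt N21389 F246998) (tt N20656 F246999) (tt N21108 F247000) (tt N23610 (iv F253223)) (tt N20653 F247001) (tt N21369 F247002) (tt N21421 F247003) (tt N21379 F247004) (tt N23611 D56381) (tt N20652 (iv D55037)))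
theorem Q22269 : ∀ i, i < 22269 → P i := stepQ 22268 Q22268 (allL N22268 (tt N21394 F247005) (tt N20657 F247006) (tt N21109 F247007) (tt N23612 D56382) (tt N23611 (iv F253231)) (tt N20664 F247008) (tt N21422 F247009) (tt N21380 F247010) (tt N20653 (iv D55038)) (tt N20691 F247011))
theorem Q22270 : ∀ i, i < 22270 → P i := stepQ 22269 Q22269 (allL N22269 (tt N23331 (iv F251566)) (tt N23489 (iv F252539)) (tt N23596 (iv F253152)) (tt N20693 F247012) (tt N22269 F247013) (tt N23218 (iv F250842)) (tt N21423 F247014) (tt N23604 (iv F253195)) (tt N20654 (iv D55039)) (tt N23613 D56383))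
theorem Q22271 : ∀ i, i < 22271 → P i := stepQ 22270 Q22270 (allL N22270 (tt N23551 (iv F252905)) (tt N23610 (iv F253221)) (tt N23597 (iv F253158)) (tt N20656 F247015) (tt N22270 F247016) (tt N23238 (iv F250974)) (tt N21424 F247017) (tt N23605 (iv F253202)) (tt N23614 D56384) (tt N20654 (iv D55040)))
theorem Q22272 : ∀ i, i < 22272 → P i := stepQ 22271 Q22271 (allL N22271 (tt N23552 (iv F252911)) (tt N21369 F247018) (tt N20659 F247019) (tt N23238 (iv F250972)) (tt N20665 F247020) (tt N20656 F247021) (tt N23165 (iv F250475)) (tt N23564 (iv F252987)) (tt N23615 D56385) (tt N20655 (iv D55041)))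
theorem Q22273 : ∀ i, i < 22273 → P i := stepQ 22272 Q22272 (allL N22272 (tt N23553 (iv F252919)) (tt N23611 (iv F253229)) (tt N20660 F247022) (tt N23616 D56386) (tt N20657 F247023) (tt N23615 (iv F253252)) (tt N21425 F247024) (tt N23606 (iv F253206)) (tt N20656 (iv D55042)) (tt N20697 F247025))
theorem Q22274 : ∀ i, i < 22274 → P i := stepQ 22273 Q22273 (allL N22273 (tt N23554 (iv F252924)) (tt N23612 (iv F253237)) (tt N23499 (iv F252595)) (tt N20657 (iv D55043)) (tt N23617 D56387) (tt N20667 F247026) (tt N21426 F247027) (tt N23607 (iv F253210)) (tt N22273 F247028) (tt N20698 F247029))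
theorem Q22275 : ∀ i, i < 22275 → P i := stepQ 22274 Q22274 (allL N22274 (tt N23161 (iv F250439)) (tt N21433 F247030) (tt N23165 (iv F250471)) (tt N21272 F247031) (tt N20668 F247032) (tt N21115 F247033) (tt N20659 F247034) (tt N23167 (iv F250491)) (tt N23618 D56388) (tt N20658 (iv D55044)))
theorem Q22276 : ∀ i, i < 22276 → P i := stepQ 22275 Q22275 (allL N22275 (tt N23555 (iv F252929)) (tt N23183 (iv F250601)) (tt N23615 (iv F253250)) (tt N23619 D56389) (tt N20669 F247035) (tt N20660 F247036) (tt N23618 (iv F253262)) (tt N23608 (iv F253216)) (tt N20659 (iv D55045)) (tt N20701 F247037))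
theorem Q22277 : ∀ i, i < 22277 → P i := stepQ 22276 Q22276 (allL N22276 (tt N23556 (iv F252933)) (tt N23184 (iv F250609)) (tt N23620 D56390) (tt N20660 (iv D55046)) (tt N23502 (iv F252611)) (tt N23619 (iv F253264)) (tt N21427 F247038) (tt N23609 (iv F253218)) (tt N23602 (iv F253181)) (tt N20702 F247039))
theorem Q22278 : ∀ i, i < 22278 → P i := stepQ 22277 Q22277 (allL N22277 (tt N23507 (iv F252640)) (tt N21382 F247040) (tt N23477 (iv F252456)) (tt N20661 (iv D55047)) (tt N23561 (iv F252967)) (tt N23607 (iv F253209)) (tt N21383 F247041) (tt N20667 F247042) (tt N22277 F247043) (tt N20705 F247044))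
theorem Q22279 : ∀ i, i < 22279 → P i := stepQ 22278 Q22278 (allL N22278 (tt N23533 (iv F252791)) (tt N21408 F247045) (tt N23567 (iv F252998)) (tt N23621 D56391) (tt N23608 (iv F253214)) (tt N20663 F247046) (tt N23550 (iv F252902)) (tt N20669 F247047) (tt N20662 (iv D55048)) (tt N20706 F247048))
theorem Q22280 : ∀ i, i < 22280 → P i := stepQ 22279 Q22279 (allL N22279 (tt N23504 (iv F252622)) (tt N21410 F247049) (tt N23559 (iv F252954)) (tt N20663 (iv D55049)) (tt N23475 (iv F252442)) (tt N23621 (iv F253269)) (tt N21411 F247050) (tt N20670 F247051) (tt N22279 F247052) (tt N20707 F247053))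
theorem Q22281 : ∀ i, i < 22281 → P i := stepQ 22280 Q22280 (allL N22280 (tt N21395 F247054) (tt N20667 F247055) (tt N21136 F247056) (tt N20664 (iv D55050)) (tt N23622 D56392) (tt N23612 (iv F253239)) (tt N20671 F247057) (tt N21382 F247058) (tt N22280 F247059) (tt N20711 F247060))
theorem Q22282 : ∀ i, i < 22282 → P i := stepQ 22281 Q22281 (allL N22281 (tt N23558 (iv F252944)) (tt N21370 F247061) (tt N20669 F247062) (tt N23623 D56393) (tt N23615 (iv F253251)) (tt N20666 F247063) (tt N23171 (iv F250514)) (tt N23567 (iv F253001)) (tt N20665 (iv D55051)) (tt N20713 F247064))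
theorem Q22283 : ∀ i, i < 22283 → P i := stepQ 22282 Q22282 (allL N22282 (tt N21464 F247065) (tt N21372 F247066) (tt N23576 (iv F253036)) (tt N20666 (iv D55052)) (tt N23575 F253033) (tt N23623 (iv F253283)) (tt N20672 F247067) (tt N23198 (iv F250700)) (tt N21376 F247068) (tt N20714 F247069))
theorem Q22284 : ∀ i, i < 22284 → P i := stepQ 22283 Q22283 (allL N22283 (tt N23559 (iv F252952)) (tt N23622 (iv F253274)) (tt N23504 (iv F252624)) (tt N23575 (iv F253028)) (tt N20667 (iv D55053)) (tt N23624 D56394) (tt N20673 F247070) (tt N23561 (iv F252969)) (tt N22283 F247071) (tt N20715 F247072))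
theorem Q22285 : ∀ i, i < 22285 → P i := stepQ 22284 Q22284 (allL N22284 (tt N23163 (iv F250454)) (tt N23185 (iv F250614)) (tt N23171 (iv F250511)) (tt N23625 D56395) (tt N23618 (iv F253260)) (tt N20674 F247073) (tt N20669 F247074) (tt N23175 (iv F250546)) (tt N20668 (iv D55054)) (tt N20717 F247075))
theorem Q22286 : ∀ i, i < 22286 → P i := stepQ 22285 Q22285 (allL N22285 (tt N23560 (iv F252960)) (tt N23186 (iv F250621)) (tt N23626 D56396) (tt N20669 (iv D55055)) (tt N23627 D56397) (tt N20670 F247076) (tt N23625 (iv F253290)) (tt N23621 (iv F253270)) (tt N22285 F247077) (tt N20718 F247078))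
theorem Q22287 : ∀ i, i < 22287 → P i := stepQ 22286 Q22286 (allL N22286 (tt N23561 (iv F252964)) (tt N23579 (iv F253056)) (tt N20670 (iv D55056)) (tt N23576 (iv F253037)) (tt N23507 (iv F252642)) (tt N23626 (iv F253294)) (tt N20676 F247079) (tt N23559 (iv F252957)) (tt N22286 F247080) (tt N20719 F247081))
theorem Q22288 : ∀ i, i < 22288 → P i := stepQ 22287 Q22287 (allL N22287 (tt N21398 F247082) (tt N20673 F247083) (tt N20675 F247084) (tt N21373 F247085) (tt N20671 (iv D55057)) (tt N20676 F247086) (tt N23622 (iv F253277)) (tt N23464 (iv F252362)) (tt N22287 F247087) (tt N20721 F247088))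
theorem Q22289 : ∀ i, i < 22289 → P i := stepQ 22288 Q22288 (allL N22288 (tt N23164 (iv F250461)) (tt N23187 (iv F250628)) (tt N23622 (iv F253275)) (tt N20674 (iv D55058)) (tt N21136 F247089) (tt N23625 (iv F253289)) (tt N20675 F247090) (tt N21429 F247091) (tt N22288 F247092) (tt N20728 F247093))
theorem Q22290 : ∀ i, i < 22290 → P i := stepQ 22289 Q22289 (allL N22289 (tt N23495 (iv F252571)) (tt N23167 (iv F250485)) (tt N23466 (iv F252376)) (tt N20984 F247094) (tt N23173 (iv F250530)) (tt N20678 F247095) (tt N23546 (iv F252879)) (tt N21433 F247096) (tt N23628 D56398) (tt N20677 (iv D55059)))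
theorem Q22291 : ∀ i, i < 22291 → P i := stepQ 22290 Q22290 (allL N22290 (tt N23562 (iv F252972)) (tt N23168 (iv F250493)) (tt N23511 (iv F252667)) (tt N23629 D56399) (tt N20679 F247097) (tt N23628 (iv F253299)) (tt N20685 F247098) (tt N21434 F247099) (tt N20678 (iv D55060)) (tt N23603 (iv F253187)))
theorem Q22292 : ∀ i, i < 22292 → P i := stepQ 22291 Q22291 (allL N22291 (tt N23379 (iv F251847)) (tt N21386 F247100) (tt N20992 F247101) (tt N20681 F247102) (tt N22291 F247103) (tt N20680 (iv D55061)) (tt N23531 (iv F252781)) (tt N20692 F247104) (tt N23630 D56400) (tt N23631 D56401))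
theorem Q22293 : ∀ i, i < 22293 → P i := stepQ 22292 Q22292 (allL N22292 (tt N21571 F247105) (tt N21387 F247106) (tt N20993 F247107) (tt N23604 (iv F253191)) (tt N20735 F247108) (tt N23630 (iv F253309)) (tt N21495 F247109) (tt N20693 F247110) (tt N20680 (iv D55062)) (tt N23632 D56402))
theorem Q22294 : ∀ i, i < 22294 → P i := stepQ 22293 Q22293 (allL N22293 (tt N23389 (iv F251900)) (tt N21388 F247111) (tt N20994 F247112) (tt N20682 F247113) (tt N20736 F247114) (tt N23631 (iv F253316)) (tt N23315 (iv F251467)) (tt N20694 F247115) (tt N23633 D56403) (tt N20680 (iv D55063)))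
theorem Q22295 : ∀ i, i < 22295 → P i := stepQ 22294 Q22294 (allL N22294 (tt N23549 (iv F252891)) (tt N21389 F247116) (tt N20684 F247117) (tt N23631 (iv F253314)) (tt N20703 F247118) (tt N20682 F247119) (tt N23532 (iv F252789)) (tt N20696 F247120) (tt N23634 D56404) (tt N20681 (iv D55064)))
theorem Q22296 : ∀ i, i < 22296 → P i := stepQ 22295 Q22295 (allL N22295 (tt N23563 (iv F252976)) (tt N21390 F247121) (tt N20685 F247122) (tt N23635 D56405) (tt N20683 F247123) (tt N23634 (iv F253331)) (tt N23511 (iv F252669)) (tt N20697 F247124) (tt N20682 (iv D55065)) (tt N23606 (iv F253207)))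
theorem Q22297 : ∀ i, i < 22297 → P i := stepQ 22296 Q22296 (allL N22296 (tt N23521 (iv F252713)) (tt N21391 F247125) (tt N23485 (iv F252509)) (tt N20683 (iv D55066)) (tt N23636 D56406) (tt N20705 F247126) (tt N23512 (iv F252675)) (tt N20698 F247127) (tt N20738 F247128) (tt N23607 (iv F253212)))
theorem Q22298 : ∀ i, i < 22298 → P i := stepQ 22297 Q22297 (allL N22297 (tt N23565 (iv F252988)) (tt N21415 F247129) (tt N23634 (iv F253329)) (tt N23637 D56407) (tt N20706 F247130) (tt N20685 F247131) (tt N23568 (iv F253005)) (tt N20701 F247132) (tt N20684 (iv D55067)) (tt N23608 (iv F253217)))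
theorem Q22299 : ∀ i, i < 22299 → P i := stepQ 22298 Q22298 (allL N22298 (tt N23566 (iv F252993)) (tt N23188 (iv F250636)) (tt N23638 D56408) (tt N20685 (iv D55068)) (tt N23510 (iv F252663)) (tt N23637 (iv F253339)) (tt N23629 (iv F253301)) (tt N20702 F247133) (tt N21002 F247134) (tt N23609 (iv F253219)))
theorem Q22300 : ∀ i, i < 22300 → P i := stepQ 22299 Q22299 (allL N22299 (tt N20688 F247135) (tt N20874 F247136) (tt N20775 F247137) (tt N20686 (iv D55069)) (tt N20739 F247138) (tt N21378 F247139) (tt N20807 F247140) (tt N20777 F247141) (tt N23285 (iv F251260)) (tt N23639 D56409))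
theorem Q22301 : ∀ i, i < 22301 → P i := stepQ 22300 Q22300 (allL N22300 (tt N20690 F247142) (tt N23564 (iv F252981)) (tt N21367 F247143) (tt N23639 (iv F253347)) (tt N20687 F247144) (tt N21379 F247145) (tt N21440 F247146) (tt N21369 F247147) (tt N23640 D56410) (tt N20686 (iv D55070)))
theorem Q22302 : ∀ i, i < 22302 → P i := stepQ 22301 Q22301 (allL N22301 (tt N20691 F247148) (tt N23567 (iv F252997)) (tt N21368 F247149) (tt N23196 (iv F250685)) (tt N23640 (iv F253354)) (tt N20708 F247150) (tt N21441 F247151) (tt N21370 F247152) (tt N20687 (iv D55071)) (tt N21394 F247153))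
theorem Q22303 : ∀ i, i < 22303 → P i := stepQ 22302 Q22302 (allL N22302 (tt N21378 F247154) (tt N20692 F247155) (tt N21498 F247156) (tt N20689 F247157) (tt N22302 F247158) (tt N20688 (iv D55072)) (tt N23287 (iv F251275)) (tt N21386 F247159) (tt N23488 (iv F252536)) (tt N23641 D56411))
theorem Q22304 : ∀ i, i < 22304 → P i := stepQ 22303 Q22303 (allL N22303 (tt N23285 (iv F251255)) (tt N20693 F247160) (tt N20833 F247161) (tt N23489 (iv F252541)) (tt N20742 F247162) (tt N23488 F252537) (tt N20835 F247163) (tt N21387 F247164) (tt N20688 (iv D55073)) (tt N23642 D56412))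
theorem Q22305 : ∀ i, i < 22305 → P i := stepQ 22304 Q22304 (allL N22304 (tt N23639 (iv F253344)) (tt N20694 F247165) (tt N21499 F247166) (tt N20690 F247167) (tt N20743 F247168) (tt N23641 (iv F253364)) (tt N21442 F247169) (tt N21388 F247170) (tt N23643 D56413) (tt N20688 (iv D55074)))
theorem Q22306 : ∀ i, i < 22306 → P i := stepQ 22305 Q22305 (allL N22305 (tt N21379 F247171) (tt N20696 F247172) (tt N21365 F247173) (tt N23641 (iv F253362)) (tt N20709 F247174) (tt N20690 F247175) (tt N23471 (iv F252417)) (tt N21389 F247176) (tt N23644 D56414) (tt N20689 (iv D55075)))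
theorem Q22307 : ∀ i, i < 22307 → P i := stepQ 22306 Q22306 (allL N22306 (tt N23640 (iv F253352)) (tt N20697 F247177) (tt N21385 F247178) (tt N23645 D56415) (tt N20691 F247179) (tt N23644 (iv F253380)) (tt N21444 F247180) (tt N21390 F247181) (tt N20690 (iv D55076)) (tt N23611 (iv F253235)))
theorem Q22308 : ∀ i, i < 22308 → P i := stepQ 22307 Q22307 (allL N22307 (tt N23196 (iv F250684)) (tt N20698 F247182) (tt N21438 F247183) (tt N20691 (iv D55077)) (tt N23646 D56416) (tt N20711 F247184) (tt N21445 F247185) (tt N21391 F247186) (tt N20745 F247187) (tt N23612 (iv F253243)))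
theorem Q22309 : ∀ i, i < 22309 → P i := stepQ 22308 Q22308 (allL N22308 (tt N23344 (iv F251638)) (tt N23488 (iv F252531)) (tt N21012 F247188) (tt N23218 (iv F250840)) (tt N22308 F247189) (tt N20693 F247190) (tt N23202 (iv F250728)) (tt N23630 (iv F253311)) (tt N20692 (iv D55078)) (tt N23647 D56417))
theorem Q22310 : ∀ i, i < 22310 → P i := stepQ 22309 Q22309 (allL N22309 (tt N23380 (iv F251855)) (tt N23641 (iv F253360)) (tt N21013 F247191) (tt N20696 F247192) (tt N22309 F247193) (tt N20694 F247194) (tt N23310 (iv F251436)) (tt N23631 (iv F253317)) (tt N23648 D56418) (tt N20692 (iv D55079)))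
theorem Q22311 : ∀ i, i < 22311 → P i := stepQ 22310 Q22310 (allL N22310 (tt N23352 (iv F251686)) (tt N23642 (iv F253366)) (tt N21014 F247195) (tt N23613 (iv F253244)) (tt N20746 F247196) (tt N23647 (iv F253393)) (tt N21446 F247197) (tt N23632 (iv F253323)) (tt N23649 D56419) (tt N20693 (iv D55080)))
theorem Q22312 : ∀ i, i < 22312 → P i := stepQ 22311 Q22311 (allL N22311 (tt N23390 (iv F251907)) (tt N23643 (iv F253371)) (tt N21015 F247198) (tt N23650 D56420) (tt N20747 F247199) (tt N23648 (iv F253396)) (tt N21447 F247200) (tt N23633 (iv F253327)) (tt N20694 (iv D55081)) (tt N23649 (iv F253400)))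
theorem Q22313 : ∀ i, i < 22313 → P i := stepQ 22312 Q22312 (allL N22312 (tt N23167 (iv F250484)) (tt N23471 (iv F252413)) (tt N20700 F247201) (tt N23310 (iv F251433)) (tt N20712 F247202) (tt N21448 F247203) (tt N20696 F247204) (tt N23161 (iv F250446)) (tt N23651 D56421) (tt N20695 (iv D55082)))
theorem Q22314 : ∀ i, i < 22314 → P i := stepQ 22313 Q22313 (allL N22313 (tt N23570 (iv F253011)) (tt N23644 (iv F253377)) (tt N20701 F247205) (tt N23652 D56422) (tt N20713 F247206) (tt N20697 F247207) (tt N23651 (iv F253406)) (tt N23634 (iv F253332)) (tt N20696 (iv D55083)) (tt N23615 (iv F253253)))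
theorem Q22315 : ∀ i, i < 22315 → P i := stepQ 22314 Q22314 (allL N22314 (tt N23571 (iv F253015)) (tt N23645 (iv F253383)) (tt N23653 D56423) (tt N20697 (iv D55084)) (tt N23654 D56424) (tt N23652 (iv F253407)) (tt N21450 F247208) (tt N23635 (iv F253334)) (tt N23650 (iv F253402)) (tt N23616 (iv F253255)))
theorem Q22316 : ∀ i, i < 22316 → P i := stepQ 22315 Q22315 (allL N22315 (tt N23572 (iv F253017)) (tt N23646 (iv F253386)) (tt N23515 (iv F252686)) (tt N23654 (iv F253410)) (tt N20698 (iv D55085)) (tt N23655 D56425) (tt N21451 F247209) (tt N23636 (iv F253336)) (tt N20749 F247210) (tt N23617 (iv F253258)))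
theorem Q22317 : ∀ i, i < 22317 → P i := stepQ 22316 Q22316 (allL N22316 (tt N23165 (iv F250469)) (tt N23190 (iv F250649)) (tt N23161 (iv F250441)) (tt N21021 F247211) (tt N20716 F247212) (tt N21452 F247213) (tt N23552 (iv F252917)) (tt N20700 F247214) (tt N23656 D56426) (tt N20699 (iv D55086)))
theorem Q22318 : ∀ i, i < 22318 → P i := stepQ 22317 Q22317 (allL N22317 (tt N23169 (iv F250499)) (tt N23191 (iv F250657)) (tt N23651 (iv F253403)) (tt N23657 D56427) (tt N20717 F247215) (tt N21453 F247216) (tt N20701 F247217) (tt N23656 (iv F253416)) (tt N20700 (iv D55087)) (tt N23618 (iv F253263)))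
theorem Q22319 : ∀ i, i < 22319 → P i := stepQ 22318 Q22318 (allL N22318 (tt N23573 (iv F253020)) (tt N23192 (iv F250664)) (tt N23658 D56428) (tt N20701 (iv D55088)) (tt N23659 D56429) (tt N20702 F247218) (tt N23657 (iv F253418)) (tt N23637 (iv F253340)) (tt N21023 F247219) (tt N23619 (iv F253265)))
theorem Q22320 : ∀ i, i < 22320 → P i := stepQ 22319 Q22319 (allL N22319 (tt N23574 (iv F253023)) (tt N23660 D56430) (tt N20702 (iv D55089)) (tt N23653 (iv F253408)) (tt N23518 (iv F252697)) (tt N23658 (iv F253420)) (tt N21455 F247220) (tt N23638 (iv F253342)) (tt N21024 F247221) (tt N23620 (iv F253267)))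
theorem Q22321 : ∀ i, i < 22321 → P i := stepQ 22320 Q22320 (allL N22320 (tt N23550 (iv F252898)) (tt N21394 F247222) (tt N20706 F247223) (tt N23661 D56431) (tt N23634 (iv F253330)) (tt N20704 F247224) (tt N23533 (iv F252795)) (tt N20713 F247225) (tt N20703 (iv D55090)) (tt N23567 (iv F253002)))
theorem Q22322 : ∀ i, i < 22322 → P i := stepQ 22321 Q22321 (allL N22321 (tt N23557 (iv F252936)) (tt N21395 F247226) (tt N23579 (iv F253057)) (tt N20704 (iv D55091)) (tt N23578 F253054) (tt N23661 (iv F253427)) (tt N21397 F247227) (tt N20714 F247228) (tt N22321 F247229) (tt N23198 (iv F250702)))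
theorem Q22323 : ∀ i, i < 22323 → P i := stepQ 22322 Q22322 (allL N22322 (tt N23519 (iv F252700)) (tt N21416 F247230) (tt N23580 (iv F253064)) (tt N20706 (iv D55092)) (tt N23662 D56432) (tt N20707 F247231) (tt N23569 (iv F253008)) (tt N20718 F247232) (tt N20729 F247233) (tt N23621 (iv F253272)))
theorem Q22324 : ∀ i, i < 22324 → P i := stepQ 22323 Q22323 (allL N22323 (tt N21380 F247234) (tt N20713 F247235) (tt N21366 F247236) (tt N23663 D56433) (tt N23644 (iv F253379)) (tt N20710 F247237) (tt N23472 (iv F252423)) (tt N21394 F247238) (tt N20709 (iv D55093)) (tt N21370 F247239))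
theorem Q22325 : ∀ i, i < 22325 → P i := stepQ 22324 Q22324 (allL N22324 (tt N21382 F247240) (tt N20714 F247241) (tt N21410 F247242) (tt N20710 (iv D55094)) (tt N23664 D56434) (tt N23663 (iv F253436)) (tt N20720 F247243) (tt N21395 F247244) (tt N22324 F247245) (tt N21372 F247246))
theorem Q22326 : ∀ i, i < 22326 → P i := stepQ 22325 Q22325 (allL N22325 (tt N23177 (iv F250555)) (tt N20715 F247247) (tt N20728 F247248) (tt N23664 (iv F253443)) (tt N20711 (iv D55095)) (tt N23665 D56435) (tt N20721 F247249) (tt N21396 F247250) (tt N20734 F247251) (tt N23622 (iv F253280)))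
theorem Q22327 : ∀ i, i < 22327 → P i := stepQ 22326 Q22326 (allL N22326 (tt N23175 (iv F250542)) (tt N23472 (iv F252420)) (tt N20717 F247252) (tt N23666 D56436) (tt N23651 (iv F253404)) (tt N20722 F247253) (tt N20713 F247254) (tt N23163 (iv F250459)) (tt N20712 (iv D55096)) (tt N23171 (iv F250516)))
theorem Q22328 : ∀ i, i < 22328 → P i := stepQ 22327 Q22327 (allL N22327 (tt N23577 (iv F253042)) (tt N23663 (iv F253434)) (tt N23667 D56437) (tt N20713 (iv D55097)) (tt N23668 D56438) (tt N20714 F247255) (tt N23666 (iv F253455)) (tt N23661 (iv F253428)) (tt N22327 F247256) (tt N23623 (iv F253286)))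
theorem Q22329 : ∀ i, i < 22329 → P i := stepQ 22328 Q22328 (allL N22328 (tt N23578 (iv F253047)) (tt N23559 (iv F252953)) (tt N20714 (iv D55098)) (tt N20719 F247257) (tt N23557 (iv F252939)) (tt N23667 (iv F253459)) (tt N20724 F247258) (tt N23579 (iv F253060)) (tt N22328 F247259) (tt N23576 (iv F253041)))
theorem Q22330 : ∀ i, i < 22330 → P i := stepQ 22329 Q22329 (allL N22329 (tt N23579 (iv F253055)) (tt N23664 (iv F253441)) (tt N23557 (iv F252938)) (tt N20715 F247260) (tt N20714 (iv D55099)) (tt N23669 D56439) (tt N20725 F247261) (tt N23578 (iv F253051)) (tt N22329 F247262) (tt N23575 (iv F253032)))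
theorem Q22331 : ∀ i, i < 22331 → P i := stepQ 22330 Q22330 (allL N22330 (tt N23580 (iv F253063)) (tt N23665 (iv F253448)) (tt N23519 (iv F252702)) (tt N23669 (iv F253462)) (tt N23655 (iv F253412)) (tt N20715 (iv D55100)) (tt N23670 D56440) (tt N23581 (iv F253070)) (tt N20751 F247263) (tt N23624 (iv F253288)))
theorem Q22332 : ∀ i, i < 22332 → P i := stepQ 22331 Q22331 (allL N22331 (tt N23171 (iv F250509)) (tt N23194 (iv F250671)) (tt N23163 (iv F250456)) (tt N21463 F247264) (tt N23656 (iv F253414)) (tt N20727 F247265) (tt N23558 (iv F252949)) (tt N20717 F247266) (tt N20716 (iv D55101)) (tt N23175 (iv F250547)))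
theorem Q22333 : ∀ i, i < 22333 → P i := stepQ 22332 Q22332 (allL N22332 (tt N23176 (iv F250549)) (tt N23195 (iv F250678)) (tt N23665 (iv F253449)) (tt N20717 (iv D55102)) (tt N23671 D56441) (tt N20728 F247267) (tt N20718 F247268) (tt N21463 F247269) (tt N20730 F247270) (tt N23625 (iv F253293)))
theorem Q22334 : ∀ i, i < 22334 → P i := stepQ 22333 Q22333 (allL N22333 (tt N23581 (iv F253067)) (tt N23670 (iv F253464)) (tt N20718 (iv D55103)) (tt N23667 (iv F253458)) (tt N23672 D56442) (tt N20719 F247271) (tt N23665 (iv F253450)) (tt N23580 (iv F253065)) (tt N20731 F247272) (tt N23626 (iv F253296)))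
theorem Q22335 : ∀ i, i < 22335 → P i := stepQ 22334 Q22334 (allL N22334 (tt N23582 (iv F253072)) (tt N23197 (iv F250692)) (tt N23672 (iv F253471)) (tt N23659 (iv F253422)) (tt N20718 (iv D55104)) (tt N23522 (iv F252720)) (tt N23671 (iv F253468)) (tt N23662 (iv F253431)) (tt N20732 F247273) (tt N23627 (iv F253298)))
theorem Q22336 : ∀ i, i < 22336 → P i := stepQ 22335 Q22335 (allL N22335 (tt N23575 (iv F253026)) (tt N20719 (iv D55105)) (tt N23198 (iv F250696)) (tt N23559 (iv F252955)) (tt N21464 F247274) (tt N23670 (iv F253465)) (tt N20726 F247275) (tt N23576 (iv F253039)) (tt N20733 F247276) (tt N23579 (iv F253062)))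
theorem Q22337 : ∀ i, i < 22337 → P i := stepQ 22336 Q22336 (allL N22336 (tt N21384 F247277) (tt N20725 F247278) (tt N20723 F247279) (tt N20721 F247280) (tt N20720 (iv D55106)) (tt N20724 F247281) (tt N23664 (iv F253444)) (tt N23465 (iv F252371)) (tt N22336 F247282) (tt N21373 F247283))
theorem Q22338 : ∀ i, i < 22338 → P i := stepQ 22337 Q22337 (allL N22337 (tt N21429 F247284) (tt N23475 (iv F252440)) (tt N23664 (iv F253442)) (tt N20722 (iv D55107)) (tt N21410 F247285) (tt N23666 (iv F253454)) (tt N20723 F247286) (tt N23164 (iv F250466)) (tt N22337 F247287) (tt N21418 F247288))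
theorem Q22339 : ∀ i, i < 22339 → P i := stepQ 22338 Q22338 (allL N22338 (tt N23528 (iv F252758)) (tt N21419 F247289) (tt N23586 (iv F253093)) (tt N21064 F247290) (tt N20729 (iv D55108)) (tt N23487 (iv F252526)) (tt N23585 (iv F253089)) (tt N20732 F247291) (tt N23662 (iv F253432)) (tt N22338 F247292))
theorem Q22340 : ∀ i, i < 22340 → P i := stepQ 22339 Q22339 (allL N22339 (tt N23178 (iv F250563)) (tt N20751 F247293) (tt N20730 (iv D55109)) (tt N22339 F247294) (tt N23673 D56443) (tt N20734 F247295) (tt N20731 F247296) (tt N21404 F247297) (tt N23665 (iv F253452)) (tt N22339 F247298))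
theorem Q22341 : ∀ i, i < 22341 → P i := stepQ 22340 Q22340 (allL N22340 (tt N23179 (iv F250570)) (tt N23199 (iv F250704)) (tt N23673 (iv F253474)) (tt N21068 F247299) (tt N20730 (iv D55110)) (tt N21467 F247300) (tt N20732 F247301) (tt N21475 F247302) (tt N23671 (iv F253470)) (tt N22340 F247303))
theorem Q22342 : ∀ i, i < 22342 → P i := stepQ 22341 Q22341 (allL N22341 (tt N23584 (iv F253080)) (tt N20731 (iv D55111)) (tt N23200 (iv F250712)) (tt N22341 F247304) (tt N23674 D56444) (tt N20733 F247305) (tt N20751 F247306) (tt N23587 (iv F253102)) (tt N23670 (iv F253466)) (tt N22341 F247307))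
theorem Q22343 : ∀ i, i < 22343 → P i := stepQ 22342 Q22342 (allL N22342 (tt N23583 (iv F253074)) (tt N23674 (iv F253479)) (tt N20732 F247308) (tt N23675 D56445) (tt N20731 (iv D55112)) (tt N23524 (iv F252733)) (tt N23673 (iv F253476)) (tt N23586 (iv F253095)) (tt N23672 (iv F253472)) (tt N22342 F247309))
theorem Q22344 : ∀ i, i < 22344 → P i := stepQ 22343 Q22343 (allL N22343 (tt N21673 F247310) (tt N21400 F247311) (tt N21075 F247312) (tt N22343 F247313) (tt N23632 (iv F253321)) (tt N22343 F247314) (tt N21515 F247315) (tt N20746 F247316) (tt N23676 D56446) (tt N20735 (iv D55113)))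
theorem Q22345 : ∀ i, i < 22345 → P i := stepQ 22344 Q22344 (allL N22344 (tt N23417 (iv F252038)) (tt N21401 F247317) (tt N21076 F247318) (tt N23677 D56447) (tt N23633 (iv F253326)) (tt N22344 F247319) (tt N23319 (iv F251487)) (tt N20747 F247320) (tt N20736 (iv D55114)) (tt N23676 (iv F253492)))
theorem Q22346 : ∀ i, i < 22346 → P i := stepQ 22345 Q22345 (allL N22345 (tt N23429 (iv F252108)) (tt N21402 F247321) (tt N23275 (iv F251191)) (tt N20737 (iv D55115)) (tt N23678 D56448) (tt N22345 F247322) (tt N23323 (iv F251514)) (tt N20748 F247323) (tt N23677 (iv F253496)) (tt N22345 F247324))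
theorem Q22347 : ∀ i, i < 22347 → P i := stepQ 22346 Q22346 (allL N22346 (tt N23524 (iv F252730)) (tt N21403 F247325) (tt N23486 (iv F252516)) (tt N23678 (iv F253498)) (tt N20738 (iv D55116)) (tt N23583 (iv F253077)) (tt N23525 (iv F252741)) (tt N20749 F247326) (tt N23636 (iv F253337)) (tt N22346 F247327))
theorem Q22348 : ∀ i, i < 22348 → P i := stepQ 22347 Q22347 (allL N22347 (tt N20743 F247328) (tt N20890 F247329) (tt N20776 F247330) (tt N20740 F247331) (tt N23639 (iv F253348)) (tt N22347 F247332) (tt N20814 F247333) (tt N20778 F247334) (tt N23679 D56449) (tt N20739 (iv D55117)))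
theorem Q22349 : ∀ i, i < 22349 → P i := stepQ 22348 Q22348 (allL N22348 (tt N20744 F247335) (tt N20898 F247336) (tt N20752 F247337) (tt N23680 D56450) (tt N20741 F247338) (tt N22348 F247339) (tt N20822 F247340) (tt N20820 F247341) (tt N20740 (iv D55118)) (tt N22348 F247342))
theorem Q22350 : ∀ i, i < 22350 → P i := stepQ 22349 Q22349 (allL N22349 (tt N23286 (iv F251263)) (tt N20746 F247343) (tt N20834 F247344) (tt N22349 F247345) (tt N23642 (iv F253368)) (tt N22349 F247346) (tt N20836 F247347) (tt N21400 F247348) (tt N23681 D56451) (tt N20742 (iv D55119)))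
theorem Q22351 : ∀ i, i < 22351 → P i := stepQ 22350 Q22350 (allL N22350 (tt N23679 (iv F253501)) (tt N20747 F247349) (tt N21523 F247350) (tt N23682 D56452) (tt N23643 (iv F253373)) (tt N22350 F247351) (tt N21469 F247352) (tt N21401 F247353) (tt N20743 (iv D55120)) (tt N23681 (iv F253519)))
theorem Q22352 : ∀ i, i < 22352 → P i := stepQ 22351 Q22351 (allL N22351 (tt N23680 (iv F253507)) (tt N20748 F247354) (tt N21341 F247355) (tt N20744 (iv D55121)) (tt N23683 D56453) (tt N22351 F247356) (tt N21470 F247357) (tt N21402 F247358) (tt N23682 (iv F253525)) (tt N22351 F247359))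
theorem Q22353 : ∀ i, i < 22353 → P i := stepQ 22352 Q22352 (allL N22352 (tt N23201 (iv F250718)) (tt N20749 F247360) (tt N21467 F247361) (tt N23683 (iv F253528)) (tt N20745 (iv D55122)) (tt N23673 (iv F253475)) (tt N21471 F247362) (tt N21403 F247363) (tt N23646 (iv F253390)) (tt N22352 F247364))
theorem Q22354 : ∀ i, i < 22354 → P i := stepQ 22353 Q22353 (allL N22353 (tt N23370 (iv F251789)) (tt N23681 (iv F253514)) (tt N21080 F247365) (tt N23684 D56454) (tt N23649 (iv F253398)) (tt N22353 F247366) (tt N21472 F247367) (tt N23676 (iv F253491)) (tt N20746 (iv D55123)) (tt N20747 F247368))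
theorem Q22355 : ∀ i, i < 22355 → P i := stepQ 22354 Q22354 (allL N22354 (tt N23418 (iv F252045)) (tt N23682 (iv F253520)) (tt N23685 D56455) (tt N20747 (iv D55124)) (tt N23686 D56456) (tt N22354 F247369) (tt N21473 F247370) (tt N23677 (iv F253495)) (tt N20748 F247371) (tt N23684 (iv F253535)))
theorem Q22356 : ∀ i, i < 22356 → P i := stepQ 22355 Q22355 (allL N22355 (tt N21670 F247372) (tt N21333 F247373) (tt N20748 (iv D55125)) (tt N20750 F247374) (tt N23687 D56457) (tt N22355 F247375) (tt N21334 F247376) (tt N23275 (iv F251194)) (tt N23685 (iv F253541)) (tt N22355 F247377))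
theorem Q22357 : ∀ i, i < 22357 → P i := stepQ 22356 Q22356 (allL N22356 (tt N23430 (iv F252115)) (tt N23683 (iv F253526)) (tt N23687 (iv F253546)) (tt N20749 F247378) (tt N20748 (iv D55126)) (tt N23688 D56458) (tt N21474 F247379) (tt N23678 (iv F253499)) (tt N23686 (iv F253543)) (tt N22356 F247380))
theorem Q22358 : ∀ i, i < 22358 → P i := stepQ 22357 Q22357 (allL N22357 (tt N23586 (iv F253092)) (tt N23673 (iv F253473)) (tt N23528 (iv F252760)) (tt N23688 (iv F253550)) (tt N20751 F247381) (tt N20749 (iv D55127)) (tt N23674 (iv F253481)) (tt N23583 (iv F253078)) (tt N23655 (iv F253413)) (tt N22357 F247382))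
theorem Q22359 : ∀ i, i < 22359 → P i := stepQ 22358 Q22358 (allL N22358 (tt N21305 F247383) (tt N20766 F247384) (tt N23396 (iv F251942)) (tt N23466 (iv F252377)) (tt N20755 F247385) (tt N23315 (iv F251466)) (tt N23538 (iv F252823)) (tt N20758 F247386) (tt N23689 D56459) (tt N20754 (iv D55128)))
theorem Q22360 : ∀ i, i < 22360 → P i := stepQ 22359 Q22359 (allL N22359 (tt N21327 F247387) (tt N20767 F247388) (tt N23442 (iv F252186)) (tt N20838 F247389) (tt N23689 (iv F253555)) (tt N20761 F247390) (tt N23539 (iv F252830)) (tt N20759 F247391) (tt N20755 (iv D55129)) (tt N21497 F247392))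
theorem Q22361 : ∀ i, i < 22361 → P i := stepQ 22360 Q22360 (allL N22360 (tt N21301 F247393) (tt N21084 F247394) (tt N20758 F247395) (tt N21601 F247396) (tt N20757 F247397) (tt N21079 F247398) (tt N21198 F247399) (tt N23396 (iv F251947)) (tt N23690 D56460) (tt N20756 (iv D55130)))
theorem Q22362 : ∀ i, i < 22362 → P i := stepQ 22361 Q22361 (allL N22361 (tt N21324 F247400) (tt N21047 F247401) (tt N20759 F247402) (tt N23691 D56461) (tt N23690 (iv F253561)) (tt N20762 F247403) (tt N21209 F247404) (tt N23442 (iv F252189)) (tt N20757 (iv D55131)) (tt N21154 F247405))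
theorem Q22363 : ∀ i, i < 22363 → P i := stepQ 22362 Q22362 (allL N22362 (tt N21306 F247406) (tt N20769 F247407) (tt N23690 (iv F253560)) (tt N23692 D56462) (tt N20759 F247408) (tt N23316 (iv F251473)) (tt N21201 F247409) (tt N23689 (iv F253556)) (tt N20758 (iv D55132)) (tt N21508 F247410))
theorem Q22364 : ∀ i, i < 22364 → P i := stepQ 22363 Q22363 (allL N22363 (tt N21331 F247411) (tt N21033 F247412) (tt N20761 F247413) (tt N23693 D56463) (tt N21028 F247414) (tt N23442 (iv F252187)) (tt N22363 F247415) (tt N20762 F247416) (tt N20760 (iv D55133)) (tt N21159 F247417))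
theorem Q22365 : ∀ i, i < 22365 → P i := stepQ 22364 Q22364 (allL N22364 (tt N21332 F247418) (tt N21046 F247419) (tt N20844 F247420) (tt N20762 (iv D55134)) (tt N21041 F247421) (tt N23691 (iv F253568)) (tt N20763 F247422) (tt N23693 (iv F253582)) (tt N22364 F247423) (tt N21162 F247424))
theorem Q22366 : ∀ i, i < 22366 → P i := stepQ 22365 Q22365 (allL N22365 (tt N20796 F247425) (tt N23538 (iv F252819)) (tt N21484 F247426) (tt N23478 (iv F252465)) (tt N20765 F247427) (tt N23534 (iv F252802)) (tt N20766 F247428) (tt N21479 F247429) (tt N23694 D56464) (tt N20764 (iv D55135)))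
theorem Q22367 : ∀ i, i < 22367 → P i := stepQ 22366 Q22366 (allL N22366 (tt N20797 F247430) (tt N23539 (iv F252826)) (tt N21485 F247431) (tt N20869 F247432) (tt N23694 (iv F253587)) (tt N22366 F247433) (tt N20767 F247434) (tt N21480 F247435) (tt N20765 (iv D55136)) (tt N21491 F247436))
theorem Q22368 : ∀ i, i < 22368 → P i := stepQ 22367 Q22367 (allL N22367 (tt N20801 F247437) (tt N23689 (iv F253554)) (tt N21486 F247438) (tt N23695 D56465) (tt N20767 F247439) (tt N23513 (iv F252681)) (tt N23694 (iv F253588)) (tt N20769 F247440) (tt N20766 (iv D55137)) (tt N21501 F247441))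
theorem Q22369 : ∀ i, i < 22369 → P i := stepQ 22368 Q22368 (allL N22368 (tt N20809 F247442) (tt N23316 (iv F251470)) (tt N21487 F247443) (tt N23696 D56466) (tt N20771 F247444) (tt N20769 F247445) (tt N23296 (iv F251336)) (tt N23513 (iv F252683)) (tt N20768 (iv D55138)) (tt N21511 F247446))
theorem Q22370 : ∀ i, i < 22370 → P i := stepQ 22369 Q22369 (allL N22369 (tt N20810 F247447) (tt N23692 (iv F253573)) (tt N23697 D56467) (tt N20769 (iv D55139)) (tt N20886 F247448) (tt N23696 (iv F253596)) (tt N21482 F247449) (tt N23695 (iv F253593)) (tt N23484 (iv F252506)) (tt N21512 F247450))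
theorem Q22371 : ∀ i, i < 22371 → P i := stepQ 22370 Q22370 (allL N22370 (tt N20812 F247451) (tt N23322 (iv F251503)) (tt N21699 F247452) (tt N20770 (iv D55140)) (tt N20892 F247453) (tt N23526 (iv F252746)) (tt N22370 F247454) (tt N20772 F247455) (tt N20773 F247456) (tt N21518 F247457))
theorem Q22372 : ∀ i, i < 22372 → P i := stepQ 22371 Q22371 (allL N22371 (tt N20816 F247458) (tt N23320 (iv F251491)) (tt N23244 (iv F251012)) (tt N20771 (iv D55141)) (tt N23698 D56468) (tt N20772 F247459) (tt N23299 (iv F251355)) (tt N23526 (iv F252748)) (tt N20774 F247460) (tt N21522 F247461))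
theorem Q22373 : ∀ i, i < 22373 → P i := stepQ 22372 Q22372 (allL N22372 (tt N20825 F247462) (tt N23324 (iv F251518)) (tt N23276 (iv F251198)) (tt N23486 (iv F252517)) (tt N20774 (iv D55142)) (tt N20902 F247463) (tt N23300 (iv F251364)) (tt N23527 (iv F252756)) (tt N23698 (iv F253605)) (tt N22372 F247464))
theorem Q22374 : ∀ i, i < 22374 → P i := stepQ 22373 Q22373 (allL N22373 (tt N21498 F247465) (tt N23202 (iv F250724)) (tt N21378 F247466) (tt N20784 F247467) (tt N22373 F247468) (tt N20775 (iv D55143)) (tt N23488 (iv F252534)) (tt N20779 F247469) (tt N23287 (iv F251277)) (tt N23699 D56469))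
theorem Q22375 : ∀ i, i < 22375 → P i := stepQ 22374 Q22374 (allL N22374 (tt N21499 F247470) (tt N23203 (iv F250732)) (tt N23639 (iv F253346)) (tt N20785 F247471) (tt N20776 F247472) (tt N23699 (iv F253611)) (tt N23282 (iv F251238)) (tt N20780 F247473) (tt N23700 D56470) (tt N20775 (iv D55144)))
theorem Q22376 : ∀ i, i < 22376 → P i := stepQ 22375 Q22375 (allL N22375 (tt N21523 F247474) (tt N23204 (iv F250739)) (tt N23679 (iv F253503)) (tt N20918 F247475) (tt N23700 (iv F253614)) (tt N22375 F247476) (tt N23283 (iv F251245)) (tt N20781 F247477) (tt N20776 (iv D55145)) (tt N23289 (iv F251290)))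
theorem Q22377 : ∀ i, i < 22377 → P i := stepQ 22376 Q22376 (allL N22376 (tt N21388 F247478) (tt N23238 (iv F250971)) (tt N20780 F247479) (tt N21369 F247480) (tt N20778 F247481) (tt N23610 (iv F253225)) (tt N20800 F247482) (tt N23639 (iv F253351)) (tt N23701 D56471) (tt N20777 (iv D55146)))
theorem Q22378 : ∀ i, i < 22378 → P i := stepQ 22377 Q22377 (allL N22377 (tt N21401 F247483) (tt N23257 (iv F251083)) (tt N20781 F247484) (tt N23702 D56472) (tt N23701 (iv F253618)) (tt N22377 F247485) (tt N20811 F247486) (tt N23679 (iv F253506)) (tt N20778 (iv D55147)) (tt N23491 (iv F252554)))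
theorem Q22379 : ∀ i, i < 22379 → P i := stepQ 22378 Q22378 (allL N22378 (tt N21509 F247487) (tt N23211 (iv F250789)) (tt N23610 (iv F253222)) (tt N20787 F247488) (tt N22378 F247489) (tt N20780 F247490) (tt N23293 (iv F251315)) (tt N23699 (iv F253612)) (tt N23703 D56473) (tt N20779 (iv D55148)))
theorem Q22380 : ∀ i, i < 22380 → P i := stepQ 22379 Q22379 (allL N22379 (tt N21510 F247491) (tt N23212 (iv F250795)) (tt N23701 (iv F253617)) (tt N23704 D56474) (tt N20781 F247492) (tt N23703 (iv F253627)) (tt N21483 F247493) (tt N23700 (iv F253615)) (tt N20780 (iv D55149)) (tt N23493 (iv F252565)))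
theorem Q22381 : ∀ i, i < 22381 → P i := stepQ 22380 Q22380 (allL N22380 (tt N21489 F247494) (tt N21423 F247495) (tt N21478 F247496) (tt N20835 F247497) (tt N22380 F247498) (tt N20782 (iv D55150)) (tt N23489 (iv F252543)) (tt N20839 F247499) (tt N20795 F247500) (tt N23705 D56475))
theorem Q22382 : ∀ i, i < 22382 → P i := stepQ 22381 Q22381 (allL N22381 (tt N21490 F247501) (tt N23213 (iv F250800)) (tt N21479 F247502) (tt N23282 (iv F251235)) (tt N20783 F247503) (tt N23705 (iv F253637)) (tt N20785 F247504) (tt N21484 F247505) (tt N23706 D56476) (tt N20782 (iv D55151)))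
theorem Q22383 : ∀ i, i < 22383 → P i := stepQ 22382 Q22382 (allL N22382 (tt N21491 F247506) (tt N23214 (iv F250808)) (tt N21480 F247507) (tt N20933 F247508) (tt N23706 (iv F253641)) (tt N22382 F247509) (tt N20786 F247510) (tt N21485 F247511) (tt N20783 (iv D55152)) (tt N20797 F247512))
theorem Q22384 : ∀ i, i < 22384 → P i := stepQ 22383 Q22383 (allL N22383 (tt N21500 F247513) (tt N23219 (iv F250846)) (tt N21170 F247514) (tt N23699 (iv F253609)) (tt N20789 F247515) (tt N20785 F247516) (tt N23490 (iv F252549)) (tt N20787 F247517) (tt N23707 D56477) (tt N20784 (iv D55153)))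
theorem Q22385 : ∀ i, i < 22385 → P i := stepQ 22384 Q22384 (allL N22384 (tt N21501 F247518) (tt N23220 (iv F250852)) (tt N21481 F247519) (tt N23708 D56478) (tt N20786 F247520) (tt N23707 (iv F253648)) (tt N23706 (iv F253642)) (tt N20788 F247521) (tt N20785 (iv D55154)) (tt N20801 F247522))
theorem Q22386 : ∀ i, i < 22386 → P i := stepQ 22385 Q22385 (allL N22385 (tt N21511 F247523) (tt N23225 (iv F250885)) (tt N21172 F247524) (tt N23709 D56479) (tt N20791 F247525) (tt N20788 F247526) (tt N23294 (iv F251322)) (tt N23707 (iv F253649)) (tt N20787 (iv D55155)) (tt N20809 F247527))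
theorem Q22387 : ∀ i, i < 22387 → P i := stepQ 22386 Q22386 (allL N22386 (tt N21512 F247528) (tt N23226 (iv F250892)) (tt N23710 D56480) (tt N20788 (iv D55156)) (tt N20954 F247529) (tt N23709 (iv F253656)) (tt N21488 F247530) (tt N23708 (iv F253653)) (tt N23704 (iv F253631)) (tt N20810 F247531))
theorem Q22388 : ∀ i, i < 22388 → P i := stepQ 22387 Q22387 (allL N22387 (tt N21517 F247532) (tt N23229 (iv F250911)) (tt N21171 F247533) (tt N23711 D56481) (tt N23707 (iv F253647)) (tt N20790 F247534) (tt N23491 (iv F252553)) (tt N20791 F247535) (tt N20789 (iv D55157)) (tt N20811 F247536))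
theorem Q22389 : ∀ i, i < 22389 → P i := stepQ 22388 Q22388 (allL N22388 (tt N21518 F247537) (tt N23230 (iv F250917)) (tt N21316 F247538) (tt N20790 (iv D55158)) (tt N20962 F247539) (tt N23711 (iv F253665)) (tt N22388 F247540) (tt N20792 F247541) (tt N22388 F247542) (tt N20812 F247543))
theorem Q22390 : ∀ i, i < 22390 → P i := stepQ 22389 Q22389 (allL N22389 (tt N21522 F247544) (tt N23232 (iv F250931)) (tt N21325 F247545) (tt N20791 (iv D55159)) (tt N23712 D56482) (tt N20792 F247546) (tt N23295 (iv F251328)) (tt N23711 (iv F253666)) (tt N22389 F247547) (tt N20816 F247548))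
theorem Q22391 : ∀ i, i < 22391 → P i := stepQ 22390 Q22390 (allL N22390 (tt N21484 F247549) (tt N20850 F247550) (tt N20796 F247551) (tt N20830 F247552) (tt N20794 F247553) (tt N23293 (iv F251314)) (tt N20798 F247554) (tt N21490 F247555) (tt N23713 D56483) (tt N20793 (iv D55160)))
theorem Q22392 : ∀ i, i < 22392 → P i := stepQ 22391 Q22391 (allL N22391 (tt N21485 F247556) (tt N20851 F247557) (tt N20797 F247558) (tt N21524 F247559) (tt N23713 (iv F253677)) (tt N22391 F247560) (tt N20799 F247561) (tt N21491 F247562) (tt N20794 (iv D55161)) (tt N21480 F247563))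
theorem Q22393 : ∀ i, i < 22393 → P i := stepQ 22392 Q22392 (allL N22392 (tt N23534 (iv F252798)) (tt N21424 F247564) (tt N23293 (iv F251311)) (tt N21421 F247565) (tt N22392 F247566) (tt N20796 F247567) (tt N23610 (iv F253226)) (tt N21493 F247568) (tt N23714 D56484) (tt N20795 (iv D55162)))
theorem Q22394 : ∀ i, i < 22394 → P i := stepQ 22393 Q22393 (allL N22393 (tt N23694 (iv F253585)) (tt N23234 (iv F250944)) (tt N23713 (iv F253676)) (tt N23715 D56485) (tt N20797 F247569) (tt N23714 (iv F253683)) (tt N20801 F247570) (tt N21494 F247571) (tt N20796 (iv D55163)) (tt N23706 (iv F253644)))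
theorem Q22395 : ∀ i, i < 22395 → P i := stepQ 22394 Q22394 (allL N22394 (tt N21486 F247572) (tt N21527 F247573) (tt N20801 F247574) (tt N23716 D56486) (tt N20799 F247575) (tt N21483 F247576) (tt N23713 (iv F253678)) (tt N20806 F247577) (tt N20798 (iv D55164)) (tt N21481 F247578))
theorem Q22396 : ∀ i, i < 22396 → P i := stepQ 22395 Q22395 (allL N22395 (tt N23513 (iv F252678)) (tt N23239 (iv F250978)) (tt N21483 F247579) (tt N23717 D56487) (tt N20811 F247580) (tt N20801 F247581) (tt N23701 (iv F253619)) (tt N20809 F247582) (tt N20800 (iv D55165)) (tt N23707 (iv F253650)))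
theorem Q22397 : ∀ i, i < 22397 → P i := stepQ 22396 Q22396 (allL N22396 (tt N23695 (iv F253591)) (tt N23240 (iv F250983)) (tt N23718 D56488) (tt N20801 (iv D55166)) (tt N21002 F247583) (tt N23717 (iv F253695)) (tt N23715 (iv F253686)) (tt N20810 F247584) (tt N23510 (iv F252665)) (tt N23708 (iv F253654)))
theorem Q22398 : ∀ i, i < 22398 → P i := stepQ 22397 Q22397 (allL N22397 (tt N21259 F247585) (tt N20806 F247586) (tt N23243 (iv F251004)) (tt N23719 D56489) (tt N20803 F247587) (tt N21176 F247588) (tt N21508 F247589) (tt N21527 F247590) (tt N20802 (iv D55167)) (tt N21201 F247591))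
theorem Q22399 : ∀ i, i < 22399 → P i := stepQ 22398 Q22398 (allL N22398 (tt N21483 F247592) (tt N21528 F247593) (tt N23513 (iv F252679)) (tt N23720 D56490) (tt N20827 F247594) (tt N21486 F247595) (tt N21510 F247596) (tt N21487 F247597) (tt N20804 (iv D55168)) (tt N21503 F247598))
theorem Q22400 : ∀ i, i < 22400 → P i := stepQ 22399 Q22399 (allL N22399 (tt N21487 F247599) (tt N21176 F247600) (tt N20809 F247601) (tt N23721 D56491) (tt N20813 F247602) (tt N20806 F247603) (tt N23284 (iv F251253)) (tt N21483 F247604) (tt N20805 (iv D55169)) (tt N21172 F247605))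
theorem Q22401 : ∀ i, i < 22401 → P i := stepQ 22400 Q22400 (allL N22400 (tt N21488 F247606) (tt N23719 (iv F253700)) (tt N23722 D56492) (tt N20806 (iv D55170)) (tt N21529 F247607) (tt N23721 (iv F253718)) (tt N21512 F247608) (tt N23716 (iv F253692)) (tt N23720 (iv F253713)) (tt N21482 F247609))
theorem Q22402 : ∀ i, i < 22402 → P i := stepQ 22401 Q22401 (allL N22401 (tt N21442 F247610) (tt N20875 F247611) (tt N23282 (iv F251234)) (tt N21440 F247612) (tt N20814 F247613) (tt N20837 F247614) (tt N23639 (iv F253350)) (tt N20808 F247615) (tt N23723 D56493) (tt N20807 (iv D55171)))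
theorem Q22403 : ∀ i, i < 22403 → P i := stepQ 22402 Q22402 (allL N22402 (tt N23296 (iv F251331)) (tt N20885 F247616) (tt N23284 (iv F251250)) (tt N23724 D56494) (tt N20815 F247617) (tt N20842 F247618) (tt N20809 F247619) (tt N23723 (iv F253731)) (tt N20808 (iv D55172)) (tt N23294 (iv F251323)))
theorem Q22404 : ∀ i, i < 22404 → P i := stepQ 22403 Q22403 (allL N22403 (tt N23696 (iv F253595)) (tt N23252 (iv F251058)) (tt N23725 D56495) (tt N20809 (iv D55173)) (tt N23726 D56496) (tt N20810 F247620) (tt N23724 (iv F253734)) (tt N23717 (iv F253696)) (tt N23517 (iv F252696)) (tt N23709 (iv F253657)))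
theorem Q22405 : ∀ i, i < 22405 → P i := stepQ 22404 Q22404 (allL N22404 (tt N23697 (iv F253598)) (tt N23727 D56497) (tt N20810 (iv D55174)) (tt N23722 (iv F253723)) (tt N21024 F247621) (tt N23725 (iv F253735)) (tt N21514 F247622) (tt N23718 (iv F253698)) (tt N23518 (iv F252699)) (tt N23710 (iv F253662)))
theorem Q22406 : ∀ i, i < 22406 → P i := stepQ 22405 Q22405 (allL N22405 (tt N23526 (iv F252744)) (tt N23258 (iv F251088)) (tt N21557 F247623) (tt N20811 (iv D55175)) (tt N23728 D56498) (tt N20812 F247624) (tt N23702 (iv F253623)) (tt N20816 F247625) (tt N20821 F247626) (tt N23711 (iv F253668)))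
theorem Q22407 : ∀ i, i < 22407 → P i := stepQ 22406 Q22406 (allL N22406 (tt N21469 F247627) (tt N20891 F247628) (tt N23283 (iv F251242)) (tt N23729 D56499) (tt N23723 (iv F253729)) (tt N20818 F247629) (tt N23679 (iv F253505)) (tt N20815 F247630) (tt N20814 (iv D55176)) (tt N23291 (iv F251303)))
theorem Q22408 : ∀ i, i < 22408 → P i := stepQ 22407 Q22407 (allL N22407 (tt N23299 (iv F251351)) (tt N20895 F247631) (tt N23422 (iv F252071)) (tt N20815 (iv D55177)) (tt N23730 D56500) (tt N20819 F247632) (tt N20816 F247633) (tt N23729 (iv F253747)) (tt N20823 F247634) (tt N23295 (iv F251330)))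
theorem Q22409 : ∀ i, i < 22409 → P i := stepQ 22408 Q22408 (allL N22408 (tt N23244 (iv F251010)) (tt N23424 (iv F252085)) (tt N20816 (iv D55178)) (tt N21266 F247635) (tt N23731 D56501) (tt N20817 F247636) (tt N23422 (iv F252073)) (tt N21557 F247637) (tt N20824 F247638) (tt N21325 F247639))
theorem Q22410 : ∀ i, i < 22410 → P i := stepQ 22409 Q22409 (allL N22409 (tt N23698 (iv F253603)) (tt N23265 (iv F251127)) (tt N23731 (iv F253752)) (tt N23726 (iv F253736)) (tt N20816 (iv D55179)) (tt N21051 F247640) (tt N23730 (iv F253750)) (tt N23728 (iv F253742)) (tt N20825 F247641) (tt N23712 (iv F253673)))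
theorem Q22411 : ∀ i, i < 22411 → P i := stepQ 22410 Q22410 (allL N22410 (tt N21676 F247642) (tt N20892 F247643) (tt N23415 (iv F252028)) (tt N20818 (iv D55180)) (tt N23322 (iv F251505)) (tt N23729 (iv F253746)) (tt N22410 F247644) (tt N20819 F247645) (tt N20826 F247646) (tt N23298 (iv F251350)))
theorem Q22412 : ∀ i, i < 22412 → P i := stepQ 22411 Q22411 (allL N22411 (tt N21402 F247647) (tt N23267 (iv F251140)) (tt N21093 F247648) (tt N20820 (iv D55181)) (tt N23732 D56502) (tt N22411 F247649) (tt N20821 F247650) (tt N23680 (iv F253512)) (tt N23702 (iv F253624)) (tt N22411 F247651))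
theorem Q22413 : ∀ i, i < 22413 → P i := stepQ 22412 Q22412 (allL N22412 (tt N23527 (iv F252751)) (tt N23269 (iv F251152)) (tt N21671 F247652) (tt N23487 (iv F252525)) (tt N20821 (iv D55182)) (tt N21064 F247653) (tt N23732 (iv F253760)) (tt N20825 F247654) (tt N23728 (iv F253743)) (tt N22412 F247655))
theorem Q22414 : ∀ i, i < 22414 → P i := stepQ 22413 Q22413 (allL N22413 (tt N21470 F247656) (tt N20899 F247657) (tt N23441 (iv F252179)) (tt N20822 (iv D55183)) (tt N23733 D56503) (tt N20826 F247658) (tt N23680 (iv F253511)) (tt N20823 F247659) (tt N23729 (iv F253748)) (tt N22413 F247660))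
theorem Q22415 : ∀ i, i < 22415 → P i := stepQ 22414 Q22414 (allL N22414 (tt N23300 (iv F251359)) (tt N20902 F247661) (tt N23445 (iv F252205)) (tt N23523 (iv F252725)) (tt N20823 (iv D55184)) (tt N23324 (iv F251521)) (tt N20825 F247662) (tt N23733 (iv F253765)) (tt N23730 (iv F253751)) (tt N22414 F247663))
theorem Q22416 : ∀ i, i < 22416 → P i := stepQ 22415 Q22415 (allL N22415 (tt N23276 (iv F251196)) (tt N23449 (iv F252228)) (tt N20825 F247664) (tt N23734 D56504) (tt N20824 (iv D55185)) (tt N21070 F247665) (tt N23445 (iv F252207)) (tt N21671 F247666) (tt N23731 (iv F253755)) (tt N22415 F247667))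
theorem Q22417 : ∀ i, i < 22417 → P i := stepQ 22416 Q22416 (allL N22416 (tt N23282 (iv F251232)) (tt N20855 F247668) (tt N21442 F247669) (tt N21490 F247670) (tt N20829 F247671) (tt N23290 (iv F251296)) (tt N21499 F247672) (tt N20830 F247673) (tt N23735 D56505) (tt N20828 (iv D55186)))
theorem Q22418 : ∀ i, i < 22418 → P i := stepQ 22417 Q22417 (allL N22417 (tt N23283 (iv F251240)) (tt N20856 F247674) (tt N21469 F247675) (tt N21497 F247676) (tt N23735 (iv F253773)) (tt N20832 F247677) (tt N21523 F247678) (tt N20831 F247679) (tt N20829 (iv D55187)) (tt N20838 F247680))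
theorem Q22419 : ∀ i, i < 22419 → P i := stepQ 22418 Q22418 (allL N22418 (tt N23284 (iv F251248)) (tt N20858 F247681) (tt N23296 (iv F251333)) (tt N23736 D56506) (tt N20831 F247682) (tt N23294 (iv F251321)) (tt N21487 F247683) (tt N23735 (iv F253775)) (tt N20830 (iv D55188)) (tt N20842 F247684))
theorem Q22420 : ∀ i, i < 22420 → P i := stepQ 22419 Q22419 (allL N22419 (tt N23288 (iv F251278)) (tt N20868 F247685) (tt N23642 (iv F253367)) (tt N23469 (iv F252399)) (tt N20834 F247686) (tt N23497 (iv F252588)) (tt N20837 F247687) (tt N21502 F247688) (tt N23737 D56507) (tt N20833 (iv D55189)))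
theorem Q22421 : ∀ i, i < 22421 → P i := stepQ 22420 Q22420 (allL N22420 (tt N23289 (iv F251284)) (tt N20869 F247689) (tt N23681 (iv F253515)) (tt N23539 (iv F252828)) (tt N23737 (iv F253782)) (tt N22420 F247690) (tt N20838 F247691) (tt N21519 F247692) (tt N20834 (iv D55190)) (tt N21523 F247693))
theorem Q22422 : ∀ i, i < 22422 → P i := stepQ 22421 Q22421 (allL N22421 (tt N23290 (iv F251291)) (tt N21446 F247694) (tt N20837 F247695) (tt N23705 (iv F253635)) (tt N20836 F247696) (tt N23282 (iv F251237)) (tt N23642 (iv F253369)) (tt N20840 F247697) (tt N23738 D56508) (tt N20835 (iv D55191)))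
theorem Q22423 : ∀ i, i < 22423 → P i := stepQ 22422 Q22422 (allL N22422 (tt N23291 (iv F251298)) (tt N21472 F247698) (tt N20838 F247699) (tt N23739 D56509) (tt N23738 (iv F253788)) (tt N20843 F247700) (tt N23681 (iv F253517)) (tt N20841 F247701) (tt N20836 (iv D55192)) (tt N21469 F247702))
theorem Q22424 : ∀ i, i < 22424 → P i := stepQ 22423 Q22423 (allL N22423 (tt N23292 (iv F251304)) (tt N20876 F247703) (tt N23738 (iv F253787)) (tt N23740 D56510) (tt N20838 F247704) (tt N23723 (iv F253730)) (tt N23737 (iv F253783)) (tt N20842 F247705) (tt N20837 (iv D55193)) (tt N23735 (iv F253776)))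
theorem Q22425 : ∀ i, i < 22425 → P i := stepQ 22424 Q22424 (allL N22424 (tt N23293 (iv F251309)) (tt N23301 (iv F251368)) (tt N23534 (iv F252799)) (tt N20840 F247706) (tt N22424 F247707) (tt N21484 F247708) (tt N21509 F247709) (tt N23705 (iv F253638)) (tt N23741 D56511) (tt N20839 (iv D55194)))
theorem Q22426 : ∀ i, i < 22426 → P i := stepQ 22425 Q22425 (allL N22425 (tt N23294 (iv F251317)) (tt N23307 (iv F251412)) (tt N20842 F247710) (tt N23742 D56512) (tt N20841 F247711) (tt N23284 (iv F251252)) (tt N21511 F247712) (tt N23738 (iv F253789)) (tt N20840 (iv D55195)) (tt N23296 (iv F251338)))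
theorem Q22427 : ∀ i, i < 22427 → P i := stepQ 22426 Q22426 (allL N22426 (tt N23295 (iv F251324)) (tt N23309 (iv F251424)) (tt N23691 (iv F253567)) (tt N20841 (iv D55196)) (tt N23743 D56513) (tt N20844 F247713) (tt N21522 F247714) (tt N23739 (iv F253793)) (tt N22426 F247715) (tt N23299 (iv F251358)))
theorem Q22428 : ∀ i, i < 22428 → P i := stepQ 22427 Q22427 (allL N22427 (tt N23297 (iv F251339)) (tt N20886 F247716) (tt N23744 D56514) (tt N20842 (iv D55197)) (tt N23692 (iv F253574)) (tt N23724 (iv F253733)) (tt N21513 F247717) (tt N23740 (iv F253797)) (tt N23537 (iv F252817)) (tt N23736 (iv F253780)))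
theorem Q22429 : ∀ i, i < 22429 → P i := stepQ 22428 Q22428 (allL N22428 (tt N23298 (iv F251343)) (tt N21677 F247718) (tt N23693 (iv F253579)) (tt N20843 (iv D55198)) (tt N23378 (iv F251842)) (tt N23739 (iv F253792)) (tt N22428 F247719) (tt N20844 F247720) (tt N22428 F247721) (tt N21676 F247722))
theorem Q22430 : ∀ i, i < 22430 → P i := stepQ 22429 Q22429 (allL N22429 (tt N20916 F247723) (tt N21489 F247724) (tt N21288 F247725) (tt N20854 F247726) (tt N22429 F247727) (tt N20845 (iv D55199)) (tt N23630 (iv F253310)) (tt N20849 F247728) (tt N23531 (iv F252783)) (tt N23745 D56515))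
theorem Q22431 : ∀ i, i < 22431 → P i := stepQ 22430 Q22430 (allL N22430 (tt N20917 F247729) (tt N21490 F247730) (tt N21290 F247731) (tt N20855 F247732) (tt N20846 F247733) (tt N23745 (iv F253811)) (tt N21496 F247734) (tt N20850 F247735) (tt N23746 D56516) (tt N20845 (iv D55200)))
theorem Q22432 : ∀ i, i < 22432 → P i := stepQ 22431 Q22431 (allL N22431 (tt N20918 F247736) (tt N21491 F247737) (tt N21340 F247738) (tt N21523 F247739) (tt N23746 (iv F253816)) (tt N22431 F247740) (tt N21497 F247741) (tt N20851 F247742) (tt N20846 (iv D55201)) (tt N23539 (iv F252832)))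
theorem Q22433 : ∀ i, i < 22433 → P i := stepQ 22432 Q22432 (allL N22432 (tt N20923 F247743) (tt N21277 F247744) (tt N20849 F247745) (tt N21274 F247746) (tt N22432 F247747) (tt N20847 (iv D55202)) (tt N23208 (iv F250774)) (tt N21288 F247748) (tt N23541 (iv F252848)) (tt N23747 D56517))
theorem Q22434 : ∀ i, i < 22434 → P i := stepQ 22433 Q22433 (allL N22433 (tt N20924 F247749) (tt N21279 F247750) (tt N20850 F247751) (tt N21275 F247752) (tt N20848 F247753) (tt N23747 (iv F253824)) (tt N21525 F247754) (tt N21290 F247755) (tt N23748 D56518) (tt N20847 (iv D55203)))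
theorem Q22435 : ∀ i, i < 22435 → P i := stepQ 22434 Q22434 (allL N22434 (tt N20925 F247756) (tt N21336 F247757) (tt N20851 F247758) (tt N23749 D56519) (tt N23748 (iv F253829)) (tt N22434 F247759) (tt N21526 F247760) (tt N21340 F247761) (tt N20848 (iv D55204)) (tt N23543 (iv F252861)))
theorem Q22436 : ∀ i, i < 22436 → P i := stepQ 22435 Q22435 (allL N22435 (tt N20927 F247762) (tt N23293 (iv F251310)) (tt N23747 (iv F253821)) (tt N20857 F247763) (tt N22435 F247764) (tt N20850 F247765) (tt N23211 (iv F250793)) (tt N23745 (iv F253812)) (tt N23750 D56520) (tt N20849 (iv D55205)))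
theorem Q22437 : ∀ i, i < 22437 → P i := stepQ 22436 Q22436 (allL N22436 (tt N20928 F247766) (tt N23713 (iv F253675)) (tt N23748 (iv F253828)) (tt N23751 D56521) (tt N20851 F247767) (tt N23750 (iv F253841)) (tt N21527 F247768) (tt N23746 (iv F253818)) (tt N20850 (iv D55206)) (tt N23545 (iv F252872)))
theorem Q22438 : ∀ i, i < 22438 → P i := stepQ 22437 Q22437 (allL N22437 (tt N20931 F247769) (tt N21498 F247770) (tt N21005 F247771) (tt N21495 F247772) (tt N22437 F247773) (tt N20852 (iv D55207)) (tt N23604 (iv F253194)) (tt N21505 F247774) (tt N20867 F247775) (tt N23752 D56522))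
theorem Q22439 : ∀ i, i < 22439 → P i := stepQ 22438 Q22438 (allL N22438 (tt N20932 F247776) (tt N21499 F247777) (tt N21006 F247778) (tt N21496 F247779) (tt N20853 F247780) (tt N23752 (iv F253851)) (tt N20855 F247781) (tt N21506 F247782) (tt N23753 D56523) (tt N20852 (iv D55208)))
theorem Q22440 : ∀ i, i < 22440 → P i := stepQ 22439 Q22439 (allL N22439 (tt N20933 F247783) (tt N21523 F247784) (tt N21078 F247785) (tt N21491 F247786) (tt N23753 (iv F253856)) (tt N22439 F247787) (tt N20856 F247788) (tt N21524 F247789) (tt N20853 (iv D55209)) (tt N20869 F247790))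
theorem Q22441 : ∀ i, i < 22441 → P i := stepQ 22440 Q22440 (allL N22440 (tt N20939 F247791) (tt N23285 (iv F251256)) (tt N21618 F247792) (tt N23630 (iv F253307)) (tt N20859 F247793) (tt N23604 (iv F253193)) (tt N20854 (iv D55210)) (tt N23218 (iv F250843)) (tt N20874 F247794) (tt N23754 D56524))
theorem Q22442 : ∀ i, i < 22442 → P i := stepQ 22441 Q22441 (allL N22441 (tt N20940 F247795) (tt N23290 (iv F251292)) (tt N21619 F247796) (tt N23745 (iv F253809)) (tt N20860 F247797) (tt N20855 F247798) (tt N23754 (iv F253863)) (tt N20857 F247799) (tt N23755 D56525) (tt N20854 (iv D55211)))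
theorem Q22443 : ∀ i, i < 22443 → P i := stepQ 22442 Q22442 (allL N22442 (tt N20941 F247800) (tt N23735 (iv F253771)) (tt N21611 F247801) (tt N23756 D56526) (tt N20856 F247802) (tt N23755 (iv F253867)) (tt N23753 (iv F253857)) (tt N20858 F247803) (tt N20855 (iv D55212)) (tt N20876 F247804))
theorem Q22444 : ∀ i, i < 22444 → P i := stepQ 22443 Q22443 (allL N22443 (tt N20953 F247805) (tt N23294 (iv F251318)) (tt N21634 F247806) (tt N23757 D56527) (tt N20862 F247807) (tt N20858 F247808) (tt N23225 (iv F250889)) (tt N23755 (iv F253868)) (tt N20857 (iv D55213)) (tt N20885 F247809))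
theorem Q22445 : ∀ i, i < 22445 → P i := stepQ 22444 Q22444 (allL N22444 (tt N20954 F247810) (tt N23736 (iv F253777)) (tt N23758 D56528) (tt N20858 (iv D55214)) (tt N21512 F247811) (tt N23757 (iv F253875)) (tt N21529 F247812) (tt N23756 (iv F253872)) (tt N23751 (iv F253845)) (tt N20886 F247813))
theorem Q22446 : ∀ i, i < 22446 → P i := stepQ 22445 Q22445 (allL N22445 (tt N20960 F247814) (tt N23286 (iv F251264)) (tt N21658 F247815) (tt N22445 F247816) (tt N23754 (iv F253862)) (tt N22445 F247817) (tt N20860 F247818) (tt N23228 (iv F250909)) (tt N23759 D56529) (tt N20859 (iv D55215)))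
theorem Q22447 : ∀ i, i < 22447 → P i := stepQ 22446 Q22446 (allL N22446 (tt N20961 F247819) (tt N23291 (iv F251299)) (tt N21645 F247820) (tt N23760 D56530) (tt N23755 (iv F253866)) (tt N20861 F247821) (tt N23759 (iv F253885)) (tt N20862 F247822) (tt N20860 (iv D55216)) (tt N20891 F247823))
theorem Q22448 : ∀ i, i < 22448 → P i := stepQ 22447 Q22447 (allL N22447 (tt N20962 F247824) (tt N23298 (iv F251344)) (tt N23761 D56531) (tt N20861 (iv D55217)) (tt N21518 F247825) (tt N23760 (iv F253888)) (tt N22447 F247826) (tt N20863 F247827) (tt N22447 F247828) (tt N20892 F247829))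
theorem Q22449 : ∀ i, i < 22449 → P i := stepQ 22448 Q22448 (allL N22448 (tt N20969 F247830) (tt N23295 (iv F251325)) (tt N23762 D56532) (tt N20862 (iv D55218)) (tt N23763 D56533) (tt N20863 F247831) (tt N23232 (iv F250933)) (tt N23760 (iv F253889)) (tt N22448 F247832) (tt N20895 F247833))
theorem Q22450 : ∀ i, i < 22450 → P i := stepQ 22449 Q22449 (allL N22449 (tt N20970 F247834) (tt N23231 (iv F250924)) (tt N20863 (iv D55219)) (tt N21211 F247835) (tt N21210 F247836) (tt N23762 (iv F253901)) (tt N20864 F247837) (tt N23761 (iv F253896)) (tt N22449 F247838) (tt N20896 F247839))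
theorem Q22451 : ∀ i, i < 22451 → P i := stepQ 22450 Q22450 (allL N22450 (tt N20980 F247840) (tt N21012 F247841) (tt N20867 F247842) (tt N21300 F247843) (tt N22450 F247844) (tt N20865 (iv D55220)) (tt N23588 (iv F253108)) (tt N21295 F247845) (tt N21005 F247846) (tt N23764 D56534))
theorem Q22452 : ∀ i, i < 22452 → P i := stepQ 22451 Q22451 (allL N22451 (tt N20981 F247847) (tt N21014 F247848) (tt N20868 F247849) (tt N23403 (iv F251982)) (tt N20866 F247850) (tt N23764 (iv F253913)) (tt N20872 F247851) (tt N21530 F247852) (tt N23765 D56535) (tt N20865 (iv D55221)))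
theorem Q22453 : ∀ i, i < 22453 → P i := stepQ 22452 Q22452 (allL N22452 (tt N20982 F247853) (tt N21080 F247854) (tt N20869 F247855) (tt N21561 F247856) (tt N23765 (iv F253918)) (tt N22452 F247857) (tt N20873 F247858) (tt N21531 F247859) (tt N20866 (iv D55222)) (tt N21078 F247860))
theorem Q22454 : ∀ i, i < 22454 → P i := stepQ 22453 Q22453 (allL N22453 (tt N20984 F247861) (tt N23497 (iv F252585)) (tt N23764 (iv F253910)) (tt N23495 (iv F252574)) (tt N22453 F247862) (tt N20868 F247863) (tt N23605 (iv F253201)) (tt N21532 F247864) (tt N23766 D56536) (tt N20867 (iv D55223)))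
theorem Q22455 : ∀ i, i < 22455 → P i := stepQ 22454 Q22454 (allL N22454 (tt N20985 F247865) (tt N23737 (iv F253781)) (tt N23765 (iv F253917)) (tt N23767 D56537) (tt N20869 F247866) (tt N23766 (iv F253924)) (tt N20876 F247867) (tt N21533 F247868) (tt N20868 (iv D55224)) (tt N23753 (iv F253859)))
theorem Q22456 : ∀ i, i < 22456 → P i := stepQ 22455 Q22455 (allL N22455 (tt N20992 F247869) (tt N21577 F247870) (tt N23379 (iv F251849)) (tt N20871 F247871) (tt N22455 F247872) (tt N20870 (iv D55225)) (tt N23589 (iv F253117)) (tt N20880 F247873) (tt N21572 F247874) (tt N23768 D56538))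
theorem Q22457 : ∀ i, i < 22457 → P i := stepQ 22456 Q22456 (allL N22456 (tt N20994 F247875) (tt N21579 F247876) (tt N23389 (iv F251902)) (tt N20872 F247877) (tt N20904 F247878) (tt N23768 (iv F253933)) (tt N23403 (iv F251985)) (tt N20882 F247879) (tt N23769 D56539) (tt N20870 (iv D55226)))
theorem Q22458 : ∀ i, i < 22458 → P i := stepQ 22457 Q22457 (allL N22457 (tt N20995 F247880) (tt N21623 F247881) (tt N20874 F247882) (tt N23589 (iv F253115)) (tt N20887 F247883) (tt N23588 F253111) (tt N20871 (iv D55227)) (tt N23205 (iv F250750)) (tt N21618 F247884) (tt N23770 D56540))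
theorem Q22459 : ∀ i, i < 22459 → P i := stepQ 22458 Q22458 (allL N22458 (tt N20996 F247885) (tt N21625 F247886) (tt N20875 F247887) (tt N23768 (iv F253931)) (tt N20888 F247888) (tt N20872 F247889) (tt N23770 (iv F253944)) (tt N20883 F247890) (tt N23771 D56541) (tt N20871 (iv D55228)))
theorem Q22460 : ∀ i, i < 22460 → P i := stepQ 22459 Q22459 (allL N22459 (tt N20997 F247891) (tt N21627 F247892) (tt N20876 F247893) (tt N23772 D56542) (tt N20873 F247894) (tt N23771 (iv F253949)) (tt N23765 (iv F253919)) (tt N20884 F247895) (tt N20872 (iv D55229)) (tt N21611 F247896))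
theorem Q22461 : ∀ i, i < 22461 → P i := stepQ 22460 Q22460 (allL N22460 (tt N21000 F247897) (tt N23639 (iv F253345)) (tt N23770 (iv F253942)) (tt N23564 (iv F252983)) (tt N20890 F247898) (tt N23605 (iv F253200)) (tt N20875 F247899) (tt N23238 (iv F250976)) (tt N23773 D56543) (tt N20874 (iv D55230)))
theorem Q22462 : ∀ i, i < 22462 → P i := stepQ 22461 Q22461 (allL N22461 (tt N21001 F247900) (tt N23723 (iv F253728)) (tt N23771 (iv F253947)) (tt N23774 D56544) (tt N20891 F247901) (tt N20876 F247902) (tt N23773 (iv F253959)) (tt N20885 F247903) (tt N20875 (iv D55231)) (tt N23755 (iv F253869)))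
theorem Q22463 : ∀ i, i < 22463 → P i := stepQ 22462 Q22462 (allL N22462 (tt N21002 F247904) (tt N23740 (iv F253796)) (tt N23775 D56545) (tt N20876 (iv D55232)) (tt N23695 (iv F253592)) (tt N23774 (iv F253961)) (tt N23767 (iv F253927)) (tt N20886 F247905) (tt N23566 (iv F252995)) (tt N23756 (iv F253873)))
theorem Q22464 : ∀ i, i < 22464 → P i := stepQ 22463 Q22463 (allL N22463 (tt N23241 (iv F250986)) (tt N20995 F247906) (tt N20877 (iv D55233)) (tt N21296 F247907) (tt N20907 F247908) (tt N21253 F247909) (tt N20989 F247910) (tt N21554 F247911) (tt N21252 F247912) (tt N23776 D56546))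
theorem Q22465 : ∀ i, i < 22465 → P i := stepQ 22464 Q22464 (allL N22464 (tt N23358 (iv F251724)) (tt N20882 F247913) (tt N23776 (iv F253966)) (tt N20878 F247914) (tt N20908 F247915) (tt N23304 (iv F251392)) (tt N21540 F247916) (tt N21579 F247917) (tt N23777 D56547) (tt N20877 (iv D55234)))
theorem Q22466 : ∀ i, i < 22466 → P i := stepQ 22465 Q22465 (allL N22465 (tt N23361 (iv F251741)) (tt N20884 F247918) (tt N23307 (iv F251413)) (tt N23778 D56548) (tt N20879 F247919) (tt N23305 (iv F251399)) (tt N21541 F247920) (tt N21627 F247921) (tt N20878 (iv D55235)) (tt N21608 F247922))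
theorem Q22467 : ∀ i, i < 22467 → P i := stepQ 22466 Q22466 (allL N22466 (tt N21012 F247923) (tt N21234 F247924) (tt N23344 (iv F251640)) (tt N21232 F247925) (tt N22466 F247926) (tt N20881 F247927) (tt N23245 (iv F251024)) (tt N21572 F247928) (tt N20880 (iv D55236)) (tt N23779 D56549))
theorem Q22468 : ∀ i, i < 22468 → P i := stepQ 22467 Q22467 (allL N22467 (tt N21013 F247929) (tt N23304 (iv F251388)) (tt N23380 (iv F251857)) (tt N20883 F247930) (tt N22467 F247931) (tt N20882 F247932) (tt N23246 (iv F251032)) (tt N23768 (iv F253934)) (tt N23780 D56550) (tt N20880 (iv D55237)))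
theorem Q22469 : ∀ i, i < 22469 → P i := stepQ 22468 Q22468 (allL N22468 (tt N21014 F247933) (tt N21566 F247934) (tt N23352 (iv F251688)) (tt N21564 F247935) (tt N20909 F247936) (tt N23779 (iv F253986)) (tt N21542 F247937) (tt N21573 F247938) (tt N23781 D56551) (tt N20881 (iv D55238)))
theorem Q22470 : ∀ i, i < 22470 → P i := stepQ 22469 Q22469 (allL N22469 (tt N21015 F247939) (tt N23777 (iv F253972)) (tt N23390 (iv F251909)) (tt N23782 D56552) (tt N20910 F247940) (tt N23780 (iv F253990)) (tt N21543 F247941) (tt N23769 (iv F253938)) (tt N20882 (iv D55239)) (tt N23781 (iv F253996)))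
theorem Q22471 : ∀ i, i < 22471 → P i := stepQ 22470 Q22470 (allL N22470 (tt N21018 F247942) (tt N23305 (iv F251396)) (tt N20885 F247943) (tt N23783 D56553) (tt N20893 F247944) (tt N20884 F247945) (tt N23249 (iv F251049)) (tt N23771 (iv F253950)) (tt N20883 (iv D55240)) (tt N21634 F247946))
theorem Q22472 : ∀ i, i < 22472 → P i := stepQ 22471 Q22471 (allL N22471 (tt N21019 F247947) (tt N23778 (iv F253977)) (tt N23784 D56554) (tt N20884 (iv D55241)) (tt N21584 F247948) (tt N23783 (iv F254002)) (tt N21544 F247949) (tt N23772 (iv F253955)) (tt N23782 (iv F254000)) (tt N21633 F247950))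
theorem Q22473 : ∀ i, i < 22473 → P i := stepQ 22472 Q22472 (allL N22472 (tt N21023 F247951) (tt N23724 (iv F253732)) (tt N23785 D56555) (tt N20885 (iv D55242)) (tt N23786 D56556) (tt N20886 F247952) (tt N23252 (iv F251060)) (tt N23774 (iv F253962)) (tt N23573 (iv F253022)) (tt N23757 (iv F253876)))
theorem Q22474 : ∀ i, i < 22474 → P i := stepQ 22473 Q22473 (allL N22473 (tt N21024 F247953) (tt N23787 D56557) (tt N20886 (iv D55243)) (tt N23784 (iv F254005)) (tt N23697 (iv F253600)) (tt N23785 (iv F254010)) (tt N21545 F247954) (tt N23775 (iv F253964)) (tt N23574 (iv F253025)) (tt N23758 (iv F253881)))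
theorem Q22475 : ∀ i, i < 22475 → P i := stepQ 22474 Q22474 (allL N22474 (tt N21030 F247955) (tt N21682 F247956) (tt N20890 F247957) (tt N22474 F247958) (tt N23770 (iv F253943)) (tt N22474 F247959) (tt N20888 F247960) (tt N23206 (iv F250760)) (tt N23788 D56558) (tt N20887 (iv D55244)))
theorem Q22476 : ∀ i, i < 22476 → P i := stepQ 22475 Q22475 (allL N22475 (tt N21031 F247961) (tt N21684 F247962) (tt N20891 F247963) (tt N23789 D56559) (tt N23771 (iv F253948)) (tt N20889 F247964) (tt N23788 (iv F254018)) (tt N20893 F247965) (tt N20888 (iv D55245)) (tt N21645 F247966))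
theorem Q22477 : ∀ i, i < 22477 → P i := stepQ 22476 Q22476 (allL N22476 (tt N21032 F247967) (tt N21686 F247968) (tt N23790 D56560) (tt N20889 (iv D55246)) (tt N21591 F247969) (tt N23789 (iv F254022)) (tt N22476 F247970) (tt N20894 F247971) (tt N22476 F247972) (tt N21644 F247973))
theorem Q22478 : ∀ i, i < 22478 → P i := stepQ 22477 Q22477 (allL N22477 (tt N21035 F247974) (tt N23679 (iv F253502)) (tt N23788 (iv F254016)) (tt N23791 D56561) (tt N23773 (iv F253958)) (tt N22477 F247975) (tt N20891 F247976) (tt N23257 (iv F251086)) (tt N20890 (iv D55247)) (tt N23759 (iv F253886)))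
theorem Q22479 : ∀ i, i < 22479 → P i := stepQ 22478 Q22478 (allL N22478 (tt N21036 F247977) (tt N23729 (iv F253745)) (tt N23792 D56562) (tt N20891 (iv D55248)) (tt N23793 D56563) (tt N20892 F247978) (tt N23791 (iv F254035)) (tt N20895 F247979) (tt N20899 F247980) (tt N23760 (iv F253891)))
theorem Q22480 : ∀ i, i < 22480 → P i := stepQ 22479 Q22479 (allL N22479 (tt N21037 F247981) (tt N23256 (iv F251077)) (tt N20892 (iv D55249)) (tt N23790 (iv F254027)) (tt N21699 F247982) (tt N23792 (iv F254038)) (tt N22479 F247983) (tt N20896 F247984) (tt N20900 F247985) (tt N23761 (iv F253898)))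
theorem Q22481 : ∀ i, i < 22481 → P i := stepQ 22480 Q22480 (allL N22480 (tt N21044 F247986) (tt N23306 (iv F251404)) (tt N23794 D56564) (tt N20893 (iv D55250)) (tt N23795 D56565) (tt N20894 F247987) (tt N23260 (iv F251101)) (tt N23789 (iv F254023)) (tt N22480 F247988) (tt N21654 F247989))
theorem Q22482 : ∀ i, i < 22482 → P i := stepQ 22481 Q22481 (allL N22481 (tt N21045 F247990) (tt N23262 (iv F251112)) (tt N20894 (iv D55251)) (tt N20896 F247991) (tt N21178 F247992) (tt N23794 (iv F254046)) (tt N20897 F247993) (tt N23790 (iv F254030)) (tt N22481 F247994) (tt N21211 F247995))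
theorem Q22483 : ∀ i, i < 22483 → P i := stepQ 22482 Q22482 (allL N22482 (tt N21050 F247996) (tt N23263 (iv F251119)) (tt N20895 (iv D55252)) (tt N23794 (iv F254045)) (tt N23796 D56566) (tt N20896 F247997) (tt N23264 (iv F251124)) (tt N23792 (iv F254039)) (tt N20901 F247998) (tt N23762 (iv F253903)))
theorem Q22484 : ∀ i, i < 22484 → P i := stepQ 22483 Q22483 (allL N22483 (tt N21051 F247999) (tt N23730 (iv F253749)) (tt N23796 (iv F254054)) (tt N23786 (iv F254012)) (tt N20895 (iv D55253)) (tt N23698 (iv F253604)) (tt N23265 (iv F251129)) (tt N23793 (iv F254042)) (tt N20902 F248000) (tt N23763 (iv F253907)))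
theorem Q22485 : ∀ i, i < 22485 → P i := stepQ 22484 Q22484 (allL N22484 (tt N21062 F248001) (tt N23680 (iv F253508)) (tt N23797 D56567) (tt N20898 (iv D55254)) (tt N23798 D56568) (tt N22484 F248002) (tt N20899 F248003) (tt N23267 (iv F251143)) (tt N23791 (iv F254036)) (tt N22484 F248004))
theorem Q22486 : ∀ i, i < 22486 → P i := stepQ 22485 Q22485 (allL N22485 (tt N21063 F248005) (tt N23281 (iv F251227)) (tt N20899 (iv D55255)) (tt N22485 F248006) (tt N23799 D56569) (tt N20900 F248007) (tt N23797 (iv F254059)) (tt N20901 F248008) (tt N23792 (iv F254040)) (tt N22485 F248009))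
theorem Q22487 : ∀ i, i < 22487 → P i := stepQ 22486 Q22486 (allL N22486 (tt N21064 F248010) (tt N23733 (iv F253763)) (tt N23799 (iv F254065)) (tt N23528 (iv F252761)) (tt N20899 (iv D55256)) (tt N23527 (iv F252754)) (tt N23798 (iv F254062)) (tt N20902 F248011) (tt N23793 (iv F254043)) (tt N22486 F248012))
theorem Q22488 : ∀ i, i < 22488 → P i := stepQ 22487 Q22487 (allL N22487 (tt N21070 F248013) (tt N23280 (iv F251222)) (tt N20902 F248014) (tt N23800 D56570) (tt N20901 (iv D55257)) (tt N23276 (iv F251199)) (tt N23271 (iv F251167)) (tt N23799 (iv F254067)) (tt N23796 (iv F254055)) (tt N22487 F248015))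
theorem Q22489 : ∀ i, i < 22489 → P i := stepQ 22488 Q22488 (allL N22488 (tt N21076 F248016) (tt N21675 F248017) (tt N23417 (iv F252040)) (tt N21672 F248018) (tt N23769 (iv F253937)) (tt N22488 F248019) (tt N23423 (iv F252081)) (tt N20910 F248020) (tt N20904 (iv D55258)) (tt N21674 F248021))
theorem Q22490 : ∀ i, i < 22490 → P i := stepQ 22489 Q22489 (allL N22489 (tt N20908 F248022) (tt N20930 F248023) (tt N23273 (iv F251178)) (tt N20906 F248024) (tt N23358 (iv F251727)) (tt N22489 F248025) (tt N20935 F248026) (tt N21097 F248027) (tt N23801 D56571) (tt N20905 (iv D55259)))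
theorem Q22491 : ∀ i, i < 22491 → P i := stepQ 22490 Q22490 (allL N22490 (tt N23273 (iv F251176)) (tt N21030 F248028) (tt N20908 F248029) (tt N22490 F248030) (tt N23776 (iv F253968)) (tt N22490 F248031) (tt N21026 F248032) (tt N21668 F248033) (tt N23802 D56572) (tt N20907 (iv D55260)))
theorem Q22492 : ∀ i, i < 22492 → P i := stepQ 22491 Q22491 (allL N22491 (tt N23801 (iv F254072)) (tt N20910 F248034) (tt N23802 (iv F254080)) (tt N21674 F248035) (tt N23777 (iv F253973)) (tt N22491 F248036) (tt N21547 F248037) (tt N21675 F248038) (tt N20908 (iv D55261)) (tt N21672 F248039))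
theorem Q22493 : ∀ i, i < 22493 → P i := stepQ 22492 Q22492 (allL N22492 (tt N21080 F248040) (tt N21672 F248041) (tt N23370 (iv F251791)) (tt N21675 F248042) (tt N23781 (iv F253993)) (tt N22492 F248043) (tt N21548 F248044) (tt N21674 F248045) (tt N20909 (iv D55262)) (tt N20910 F248046))
theorem Q22494 : ∀ i, i < 22494 → P i := stepQ 22493 Q22493 (allL N22493 (tt N21496 F248047) (tt N21585 F248048) (tt N23393 (iv F251920)) (tt N20932 F248049) (tt N20912 F248050) (tt N23364 (iv F251759)) (tt N20917 F248051) (tt N21258 F248052) (tt N23803 D56573) (tt N20911 (iv D55263)))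
theorem Q22495 : ∀ i, i < 22495 → P i := stepQ 22494 Q22494 (allL N22494 (tt N21497 F248053) (tt N21597 F248054) (tt N23440 (iv F252172)) (tt N23283 (iv F251243)) (tt N23803 (iv F254087)) (tt N21268 F248055) (tt N20918 F248056) (tt N21267 F248057) (tt N20912 (iv D55264)) (tt N21327 F248058))
theorem Q22496 : ∀ i, i < 22496 → P i := stepQ 22495 Q22495 (allL N22495 (tt N21193 F248059) (tt N20914 F248060) (tt N23325 (iv F251526)) (tt N20948 F248061) (tt N20913 (iv D55265)) (tt N21576 (iv F248064)) (tt N20945 F248062) (tt N20920 F248063) (tt N23334 (iv F251590)) (tt N23804 D56574))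
theorem Q22497 : ∀ i, i < 22497 → P i := stepQ 22496 Q22496 (allL N22496 (tt N21220 F248065) (tt N20915 F248066) (tt N23326 (iv F251534)) (tt N21086 F248067) (tt N23804 (iv F254094)) (tt N22496 F248068) (tt N21639 F248069) (tt N20921 F248070) (tt N23805 D56575) (tt N20913 (iv D55266)))
theorem Q22498 : ∀ i, i < 22498 → P i := stepQ 22497 Q22497 (allL N22497 (tt N21288 F248071) (tt N21576 F248072) (tt N20916 F248073) (tt N21285 F248074) (tt N22497 F248075) (tt N20914 (iv D55267)) (tt N21572 F248076) (tt N20923 F248077) (tt N23589 (iv F253119)) (tt N23806 D56576))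
theorem Q22499 : ∀ i, i < 22499 → P i := stepQ 22498 Q22498 (allL N22498 (tt N21290 F248078) (tt N23804 (iv F254092)) (tt N20917 F248079) (tt N21286 F248080) (tt N20915 F248081) (tt N23806 (iv F254108)) (tt N23393 (iv F251924)) (tt N20924 F248082) (tt N23807 D56577) (tt N20914 (iv D55268)))
theorem Q22500 : ∀ i, i < 22500 → P i := stepQ 22499 Q22499 (allL N22499 (tt N21340 F248083) (tt N23805 (iv F254099)) (tt N20918 F248084) (tt N23808 D56578) (tt N23807 (iv F254113)) (tt N22499 F248085) (tt N23440 (iv F252174)) (tt N20925 F248086) (tt N20915 (iv D55269)) (tt N23591 (iv F253130)))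
theorem Q22501 : ∀ i, i < 22501 → P i := stepQ 22500 Q22500 (allL N22500 (tt N23630 (iv F253304)) (tt N23331 (iv F251567)) (tt N21572 F248087) (tt N20939 F248088) (tt N22500 F248089) (tt N21571 F248090) (tt N20916 (iv D55270)) (tt N23344 (iv F251644)) (tt N23379 (iv F251854)) (tt N23809 D56579))
theorem Q22502 : ∀ i, i < 22502 → P i := stepQ 22501 Q22501 (allL N22501 (tt N23745 (iv F253806)) (tt N23332 (iv F251575)) (tt N23806 (iv F254105)) (tt N20940 F248091) (tt N22501 F248092) (tt N20917 F248093) (tt N23809 (iv F254123)) (tt N20927 F248094) (tt N23810 D56580) (tt N20916 (iv D55271)))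
theorem Q22503 : ∀ i, i < 22503 → P i := stepQ 22502 Q22502 (allL N22502 (tt N23746 (iv F253813)) (tt N23333 (iv F251580)) (tt N23807 (iv F254112)) (tt N23811 D56581) (tt N20918 F248095) (tt N23810 (iv F254125)) (tt N23803 (iv F254088)) (tt N20928 F248096) (tt N20917 (iv D55272)) (tt N23593 (iv F253140)))
theorem Q22504 : ∀ i, i < 22504 → P i := stepQ 22503 Q22503 (allL N22503 (tt N20920 F248097) (tt N21187 F248098) (tt N23334 (iv F251587)) (tt N21185 F248099) (tt N20919 (iv D55273)) (tt N23215 (iv F250819)) (tt N21549 F248100) (tt N21193 F248101) (tt N23325 (iv F251529)) (tt N23812 D56582))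
theorem Q22505 : ∀ i, i < 22505 → P i := stepQ 22504 Q22504 (allL N22504 (tt N20921 F248102) (tt N21216 F248103) (tt N23335 (iv F251595)) (tt N21088 F248104) (tt N23812 (iv F254132)) (tt N22504 F248105) (tt N21550 F248106) (tt N21220 F248107) (tt N23813 D56583) (tt N20919 (iv D55274)))
theorem Q22506 : ∀ i, i < 22506 → P i := stepQ 22505 Q22505 (allL N22505 (tt N21185 F248108) (tt N20922 F248109) (tt N20951 F248113) (tt N20920 (iv D55275)) (tt N20963 F248110) (tt N21581 (iv F248114)) (tt N21551 F248111) (tt N20948 F248112) (tt N21016 (iv F248115)) (tt N23814 D56584))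
theorem Q22507 : ∀ i, i < 22507 → P i := stepQ 22506 Q22506 (allL N22506 (tt N23215 (iv F250815)) (tt N20923 F248116) (tt N23221 (iv F250858)) (tt N21581 F248117) (tt N22506 F248118) (tt N20920 (iv D55276)) (tt N23327 (iv F251543)) (tt N21576 F248119) (tt N23207 (iv F250767)) (tt N23815 D56585))
theorem Q22508 : ∀ i, i < 22508 → P i := stepQ 22507 Q22507 (allL N22507 (tt N23812 (iv F254129)) (tt N20924 F248120) (tt N23336 (iv F251601)) (tt N23814 (iv F254143)) (tt N20921 F248121) (tt N23815 (iv F254151)) (tt N21552 F248122) (tt N23804 (iv F254097)) (tt N23816 D56586) (tt N20920 (iv D55277)))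
theorem Q22509 : ∀ i, i < 22509 → P i := stepQ 22508 Q22508 (allL N22508 (tt N23813 (iv F254135)) (tt N20925 F248123) (tt N23337 (iv F251605)) (tt N23817 D56587) (tt N23816 (iv F254154)) (tt N22508 F248124) (tt N21553 F248125) (tt N23805 (iv F254102)) (tt N20921 (iv D55278)) (tt N23595 (iv F253149)))
theorem Q22510 : ∀ i, i < 22510 → P i := stepQ 22509 Q22509 (allL N22509 (tt N21274 F248126) (tt N21581 F248127) (tt N20945 F248128) (tt N20923 F248129) (tt N21309 F248130) (tt N20922 (iv D55279)) (tt N23325 (iv F251527)) (tt N21285 F248131) (tt N21549 (iv F248132)) (tt N23818 D56588))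
theorem Q22511 : ∀ i, i < 22511 → P i := stepQ 22510 Q22510 (allL N22510 (tt N21242 F248133) (tt N21016 F248134) (tt N20946 F248135) (tt N23596 (iv F253153)) (tt N21038 F248136) (tt N21549 F248137) (tt N21554 F248138) (tt N21007 F248139) (tt N20922 (iv D55280)) (tt N23819 D56589))
theorem Q22512 : ∀ i, i < 22512 → P i := stepQ 22511 Q22511 (allL N22511 (tt N21275 F248140) (tt N23814 (iv F254141)) (tt N20947 F248141) (tt N20924 F248142) (tt N21091 F248143) (tt N23818 (iv F254165)) (tt N21555 F248144) (tt N21286 F248145) (tt N23820 D56590) (tt N20922 (iv D55281)))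
theorem Q22513 : ∀ i, i < 22513 → P i := stepQ 22512 Q22512 (allL N22512 (tt N23208 (iv F250769)) (tt N23327 (iv F251540)) (tt N20926 F248146) (tt N23325 (iv F251530)) (tt N22512 F248147) (tt N21238 F248148) (tt N20923 (iv D55282)) (tt N23245 (iv F251025)) (tt N21269 F248149) (tt N23821 D56591))
theorem Q22514 : ∀ i, i < 22514 → P i := stepQ 22513 Q22513 (allL N22513 (tt N23747 (iv F253819)) (tt N23815 (iv F254148)) (tt N20927 F248150) (tt N23818 (iv F254163)) (tt N22513 F248151) (tt N20924 F248152) (tt N23821 (iv F254182)) (tt N23806 (iv F254110)) (tt N23822 D56592) (tt N20923 (iv D55283)))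
theorem Q22515 : ∀ i, i < 22515 → P i := stepQ 22514 Q22514 (allL N22514 (tt N23748 (iv F253826)) (tt N23816 (iv F254153)) (tt N20928 F248153) (tt N23823 D56593) (tt N20925 F248154) (tt N23822 (iv F254185)) (tt N21556 F248155) (tt N23807 (iv F254114)) (tt N20924 (iv D55284)) (tt N23599 (iv F253169)))
theorem Q22516 : ∀ i, i < 22516 → P i := stepQ 22515 Q22515 (allL N22515 (tt N23749 (iv F253832)) (tt N23817 (iv F254156)) (tt N23702 (iv F253621)) (tt N20925 (iv D55285)) (tt N23824 D56594) (tt N22515 F248156) (tt N21557 F248157) (tt N23808 (iv F254117)) (tt N21093 F248158) (tt N23600 (iv F253173)))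
theorem Q22517 : ∀ i, i < 22517 → P i := stepQ 22516 Q22516 (allL N22516 (tt N23211 (iv F250788)) (tt N21562 F248159) (tt N23821 (iv F254179)) (tt N20952 F248160) (tt N22516 F248161) (tt N21240 F248162) (tt N20927 F248163) (tt N23345 (iv F251650)) (tt N23825 D56595) (tt N20926 (iv D55286)))
theorem Q22518 : ∀ i, i < 22518 → P i := stepQ 22517 Q22517 (allL N22517 (tt N23750 (iv F253839)) (tt N23342 (iv F251629)) (tt N23822 (iv F254183)) (tt N23826 D56596) (tt N22517 F248164) (tt N20928 F248165) (tt N23825 (iv F254192)) (tt N23810 (iv F254126)) (tt N20927 (iv D55287)) (tt N23601 (iv F253178)))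
theorem Q22519 : ∀ i, i < 22519 → P i := stepQ 22518 Q22518 (allL N22518 (tt N23751 (iv F253842)) (tt N23343 (iv F251634)) (tt N23827 D56597) (tt N20928 (iv D55288)) (tt N23704 (iv F253629)) (tt N23826 (iv F254194)) (tt N21558 F248166) (tt N23811 (iv F254127)) (tt N20954 F248167) (tt N23602 (iv F253182)))
theorem Q22520 : ∀ i, i < 22520 → P i := stepQ 22519 Q22519 (allL N22519 (tt N21006 F248168) (tt N23358 (iv F251725)) (tt N20932 F248169) (tt N21003 F248170) (tt N20930 F248171) (tt N23355 (iv F251707)) (tt N20937 F248172) (tt N21560 F248173) (tt N23828 D56598) (tt N20929 (iv D55289)))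
theorem Q22521 : ∀ i, i < 22521 → P i := stepQ 22520 Q22520 (allL N22520 (tt N21078 F248174) (tt N23801 (iv F254073)) (tt N20933 F248175) (tt N21531 F248176) (tt N23828 (iv F254200)) (tt N22520 F248177) (tt N20938 F248178) (tt N21561 F248179) (tt N20930 (iv D55290)) (tt N20982 F248180))
theorem Q22522 : ∀ i, i < 22522 → P i := stepQ 22521 Q22521 (allL N22521 (tt N23604 (iv F253188)) (tt N23344 (iv F251639)) (tt N21248 F248181) (tt N21571 F248182) (tt N22521 F248183) (tt N20939 F248184) (tt N20931 (iv D55291)) (tt N23331 (iv F251572)) (tt N20983 F248185) (tt N23829 D56599))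
theorem Q22523 : ∀ i, i < 22523 → P i := stepQ 22522 Q22522 (allL N22522 (tt N23752 (iv F253846)) (tt N23345 (iv F251646)) (tt N23355 (iv F251704)) (tt N23364 (iv F251757)) (tt N22522 F248186) (tt N20932 F248187) (tt N23829 (iv F254208)) (tt N21562 F248188) (tt N23830 D56600) (tt N20931 (iv D55292)))
theorem Q22524 : ∀ i, i < 22524 → P i := stepQ 22523 Q22523 (allL N22523 (tt N23753 (iv F253853)) (tt N23346 (iv F251651)) (tt N23828 (iv F254199)) (tt N23831 D56601) (tt N20933 F248189) (tt N23830 (iv F254210)) (tt N20941 F248190) (tt N21563 F248191) (tt N20932 (iv D55293)) (tt N20985 F248192))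
theorem Q22525 : ∀ i, i < 22525 → P i := stepQ 22524 Q22524 (allL N22524 (tt N21540 F248193) (tt N20937 F248194) (tt N23347 (iv F251658)) (tt N21538 F248195) (tt N20935 F248196) (tt N23383 (iv F251874)) (tt N23358 (iv F251729)) (tt N20943 F248197) (tt N23832 D56602) (tt N20934 (iv D55294)))
theorem Q22526 : ∀ i, i < 22526 → P i := stepQ 22525 Q22525 (allL N22525 (tt N21547 F248198) (tt N20938 F248199) (tt N23348 (iv F251665)) (tt N21535 F248200) (tt N23832 (iv F254218)) (tt N20955 F248201) (tt N23801 (iv F254076)) (tt N20944 F248202) (tt N20935 (iv D55295)) (tt N20991 F248203))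
theorem Q22527 : ∀ i, i < 22527 → P i := stepQ 22526 Q22526 (allL N22526 (tt N21618 F248204) (tt N21252 F248205) (tt N20939 F248206) (tt N21249 F248207) (tt N20956 F248208) (tt N21248 F248209) (tt N20936 (iv D55296)) (tt N21551 F248210) (tt N20995 F248211) (tt N23833 D56603))
theorem Q22528 : ∀ i, i < 22528 → P i := stepQ 22527 Q22527 (allL N22527 (tt N21619 F248212) (tt N23383 (iv F251870)) (tt N20940 F248213) (tt N21616 F248214) (tt N20957 F248215) (tt N20937 F248216) (tt N23833 (iv F254227)) (tt N20949 F248217) (tt N23834 D56604) (tt N20936 (iv D55297)))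
theorem Q22529 : ∀ i, i < 22529 → P i := stepQ 22528 Q22528 (allL N22528 (tt N21611 F248218) (tt N23832 (iv F254217)) (tt N20941 F248219) (tt N23835 D56605) (tt N20938 F248220) (tt N23834 (iv F254232)) (tt N23828 (iv F254201)) (tt N20950 F248221) (tt N20937 (iv D55298)) (tt N20997 F248222))
theorem Q22530 : ∀ i, i < 22530 → P i := stepQ 22529 Q22529 (allL N22529 (tt N23218 (iv F250837)) (tt N21571 F248223) (tt N21551 F248224) (tt N23344 (iv F251641)) (tt N20959 F248225) (tt N23331 (iv F251571)) (tt N20951 F248226) (tt N20939 (iv D55299)) (tt N20999 F248227) (tt N23836 D56606))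
theorem Q22531 : ∀ i, i < 22531 → P i := stepQ 22530 Q22530 (allL N22530 (tt N23754 (iv F253860)) (tt N23352 (iv F251687)) (tt N23833 (iv F254223)) (tt N23809 (iv F254120)) (tt N20960 F248228) (tt N23829 (iv F254207)) (tt N20940 F248229) (tt N23836 (iv F254244)) (tt N23837 D56607) (tt N20939 (iv D55300)))
theorem Q22532 : ∀ i, i < 22532 → P i := stepQ 22531 Q22531 (allL N22531 (tt N23755 (iv F253864)) (tt N23353 (iv F251693)) (tt N23834 (iv F254230)) (tt N23838 D56608) (tt N20961 F248230) (tt N20941 F248231) (tt N23837 (iv F254246)) (tt N20953 F248232) (tt N20940 (iv D55301)) (tt N21001 F248233))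
theorem Q22533 : ∀ i, i < 22533 → P i := stepQ 22532 Q22532 (allL N22532 (tt N23756 (iv F253870)) (tt N23354 (iv F251699)) (tt N23839 D56609) (tt N20941 (iv D55302)) (tt N23708 (iv F253652)) (tt N23838 (iv F254248)) (tt N23831 (iv F254213)) (tt N20954 F248234) (tt N23811 (iv F254128)) (tt N21002 F248235))
theorem Q22534 : ∀ i, i < 22534 → P i := stepQ 22533 Q22533 (allL N22533 (tt N21534 F248236) (tt N20947 F248237) (tt N23364 (iv F251756)) (tt N20943 F248238) (tt N21094 F248239) (tt N23393 (iv F251923)) (tt N21573 F248240) (tt N21538 F248241) (tt N23840 D56610) (tt N20942 (iv D55303)))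
theorem Q22535 : ∀ i, i < 22535 → P i := stepQ 22534 Q22534 (allL N22534 (tt N23398 (iv F251954)) (tt N20950 F248242) (tt N23356 (iv F251712)) (tt N23841 D56611) (tt N20944 F248243) (tt N23394 (iv F251930)) (tt N21575 F248244) (tt N23832 (iv F254219)) (tt N20943 (iv D55304)) (tt N21009 F248245))
theorem Q22536 : ∀ i, i < 22536 → P i := stepQ 22535 Q22535 (allL N22535 (tt N21232 F248246) (tt N21300 F248247) (tt N21549 F248248) (tt N21012 F248249) (tt N21231 F248250) (tt N20946 F248251) (tt N23334 (iv F251588)) (tt N21291 F248252) (tt N20945 (iv D55305)) (tt N23842 D56612))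
theorem Q22537 : ∀ i, i < 22537 → P i := stepQ 22536 Q22536 (allL N22536 (tt N21606 F248253) (tt N23393 (iv F251919)) (tt N23818 (iv F254162)) (tt N20949 F248254) (tt N21639 F248255) (tt N20947 F248256) (tt N23804 (iv F254096)) (tt N21616 F248257) (tt N23843 D56613) (tt N20945 (iv D55306)))
theorem Q22538 : ∀ i, i < 22538 → P i := stepQ 22537 Q22537 (allL N22537 (tt N21564 F248258) (tt N23403 (iv F251980)) (tt N23819 (iv F254169)) (tt N21014 F248259) (tt N21095 F248260) (tt N23842 (iv F254267)) (tt N21579 F248261) (tt N21569 F248262) (tt N23844 D56614) (tt N20946 (iv D55307)))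
theorem Q22539 : ∀ i, i < 22539 → P i := stepQ 22538 Q22538 (allL N22538 (tt N21607 F248263) (tt N23840 (iv F254254)) (tt N23820 (iv F254175)) (tt N23845 D56615) (tt N21096 F248264) (tt N23843 (iv F254271)) (tt N21580 F248265) (tt N21617 F248266) (tt N20947 (iv D55308)) (tt N23844 (iv F254277)))
theorem Q22540 : ∀ i, i < 22540 → P i := stepQ 22539 Q22539 (allL N22539 (tt N21194 F248267) (tt N21286 F248268) (tt N20952 F248269) (tt N23804 (iv F254093)) (tt N20964 F248270) (tt N21582 F248271) (tt N20949 F248272) (tt N23814 (iv F254147)) (tt N23846 D56616) (tt N20948 (iv D55309)))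
theorem Q22541 : ∀ i, i < 22541 → P i := stepQ 22540 Q22540 (allL N22540 (tt N21634 F248273) (tt N23394 (iv F251927)) (tt N20953 F248274) (tt N23847 D56617) (tt N20965 F248275) (tt N20950 F248276) (tt N23846 (iv F254288)) (tt N23834 (iv F254233)) (tt N20949 (iv D55310)) (tt N21018 F248277))
theorem Q22542 : ∀ i, i < 22542 → P i := stepQ 22541 Q22541 (allL N22541 (tt N21633 F248278) (tt N23841 (iv F254258)) (tt N23848 D56618) (tt N20950 (iv D55311)) (tt N21544 F248279) (tt N23847 (iv F254291)) (tt N21584 F248280) (tt N23835 (iv F254237)) (tt N23845 (iv F254282)) (tt N21019 F248281))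
theorem Q22543 : ∀ i, i < 22543 → P i := stepQ 22542 Q22542 (allL N22542 (tt N23219 (iv F250845)) (tt N23364 (iv F251755)) (tt N23814 (iv F254142)) (tt N23345 (iv F251647)) (tt N20967 F248282) (tt N21585 F248283) (tt N23836 (iv F254243)) (tt N20952 F248284) (tt N23849 D56619) (tt N20951 (iv D55312)))
theorem Q22544 : ∀ i, i < 22544 → P i := stepQ 22543 Q22543 (allL N22543 (tt N23225 (iv F250884)) (tt N23365 (iv F251763)) (tt N23846 (iv F254285)) (tt N23850 D56620) (tt N20968 F248285) (tt N21586 F248286) (tt N20953 F248287) (tt N23849 (iv F254300)) (tt N20952 (iv D55313)) (tt N21022 F248288))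
theorem Q22545 : ∀ i, i < 22545 → P i := stepQ 22544 Q22544 (allL N22544 (tt N23757 (iv F253874)) (tt N23366 (iv F251769)) (tt N23851 D56621) (tt N20953 (iv D55314)) (tt N23852 D56622) (tt N20954 F248289) (tt N23850 (iv F254303)) (tt N23838 (iv F254249)) (tt N23826 (iv F254195)) (tt N21023 F248290))
theorem Q22546 : ∀ i, i < 22546 → P i := stepQ 22545 Q22545 (allL N22545 (tt N23758 (iv F253877)) (tt N23853 D56623) (tt N20954 (iv D55315)) (tt N23848 (iv F254294)) (tt N23710 (iv F253660)) (tt N23851 (iv F254305)) (tt N21588 F248291) (tt N23839 (iv F254251)) (tt N23827 (iv F254197)) (tt N21024 F248292))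
theorem Q22547 : ∀ i, i < 22547 → P i := stepQ 22546 Q22546 (allL N22546 (tt N21658 F248293) (tt N21662 F248294) (tt N20960 F248295) (tt N21660 F248296) (tt N23833 (iv F254225)) (tt N22546 F248297) (tt N20957 F248298) (tt N21665 F248299) (tt N23854 D56624) (tt N20956 (iv D55316)))
theorem Q22548 : ∀ i, i < 22548 → P i := stepQ 22547 Q22547 (allL N22547 (tt N21645 F248300) (tt N23384 (iv F251878)) (tt N20961 F248301) (tt N23855 D56625) (tt N23834 (iv F254231)) (tt N20958 F248302) (tt N23854 (iv F254315)) (tt N20965 F248303) (tt N20957 (iv D55317)) (tt N21031 F248304))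
theorem Q22549 : ∀ i, i < 22549 → P i := stepQ 22548 Q22548 (allL N22548 (tt N21644 F248305) (tt N23414 (iv F252019)) (tt N21317 (iv F248311)) (tt N20958 (iv D55318)) (tt N21160 F248306) (tt N23855 (iv F254319)) (tt N22548 F248307) (tt N20966 F248308) (tt N21168 F248309) (tt N21032 F248310))
theorem Q22550 : ∀ i, i < 22550 → P i := stepQ 22549 Q22549 (allL N22549 (tt N23228 (iv F250903)) (tt N21673 F248312) (tt N21665 F248313) (tt N22549 F248314) (tt N23836 (iv F254242)) (tt N22549 F248315) (tt N20967 F248316) (tt N20960 F248317) (tt N23856 D56626) (tt N20959 (iv D55319)))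
theorem Q22551 : ∀ i, i < 22551 → P i := stepQ 22550 Q22550 (allL N22550 (tt N23759 (iv F253882)) (tt N23370 (iv F251790)) (tt N23854 (iv F254313)) (tt N23857 D56627) (tt N23837 (iv F254245)) (tt N22550 F248318) (tt N20961 F248319) (tt N23856 (iv F254328)) (tt N20960 (iv D55320)) (tt N21035 F248320))
theorem Q22552 : ∀ i, i < 22552 → P i := stepQ 22551 Q22551 (allL N22551 (tt N23760 (iv F253887)) (tt N23371 (iv F251797)) (tt N23858 D56628) (tt N20961 (iv D55321)) (tt N23859 D56629) (tt N20962 F248321) (tt N23857 (iv F254331)) (tt N20969 F248322) (tt N22551 F248323) (tt N21036 F248324))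
theorem Q22553 : ∀ i, i < 22553 → P i := stepQ 22552 Q22552 (allL N22552 (tt N23761 (iv F253892)) (tt N23860 D56630) (tt N20962 (iv D55322)) (tt N21317 F248325) (tt N21316 F248326) (tt N23858 (iv F254335)) (tt N22552 F248327) (tt N20970 F248328) (tt N22552 F248329) (tt N21037 F248330))
theorem Q22554 : ∀ i, i < 22554 → P i := stepQ 22553 Q22553 (allL N22553 (tt N21186 F248331) (tt N21091 F248332) (tt N20967 F248333) (tt N21089 F248334) (tt N23814 (iv F254144)) (tt N20971 F248335) (tt N21665 F248336) (tt N20964 F248337) (tt N23861 D56631) (tt N20963 (iv D55323)))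
theorem Q22555 : ∀ i, i < 22555 → P i := stepQ 22554 Q22554 (allL N22554 (tt N21195 F248338) (tt N21287 F248339) (tt N20968 F248340) (tt N23427 (iv F252100)) (tt N23846 (iv F254286)) (tt N20972 F248341) (tt N20965 F248342) (tt N23861 (iv F254354)) (tt N20964 (iv D55324)) (tt N21043 F248343))
theorem Q22556 : ∀ i, i < 22556 → P i := stepQ 22555 Q22555 (allL N22555 (tt N21654 F248344) (tt N23395 (iv F251934)) (tt N21326 (iv F248348)) (tt N20965 (iv D55325)) (tt N23862 D56632) (tt N20966 F248345) (tt N23427 (iv F252102)) (tt N23855 (iv F254320)) (tt N21169 F248346) (tt N21044 F248347))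
theorem Q22557 : ∀ i, i < 22557 → P i := stepQ 22556 Q22556 (allL N22556 (tt N23229 (iv F250910)) (tt N23374 (iv F251816)) (tt N23861 (iv F254351)) (tt N23863 D56633) (tt N23849 (iv F254298)) (tt N20973 F248349) (tt N23856 (iv F254327)) (tt N20968 F248350) (tt N20967 (iv D55326)) (tt N21048 F248351))
theorem Q22558 : ∀ i, i < 22558 → P i := stepQ 22557 Q22557 (allL N22557 (tt N23232 (iv F250930)) (tt N23375 (iv F251823)) (tt N23864 D56634) (tt N20968 (iv D55327)) (tt N23865 D56635) (tt N20974 F248352) (tt N20969 F248353) (tt N23863 (iv F254362)) (tt N22557 F248354) (tt N21049 F248355))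
theorem Q22559 : ∀ i, i < 22559 → P i := stepQ 22558 Q22558 (allL N22558 (tt N23762 (iv F253899)) (tt N23866 D56636) (tt N20969 (iv D55328)) (tt N21326 F248356) (tt N23867 D56637) (tt N20970 F248357) (tt N23864 (iv F254368)) (tt N23858 (iv F254336)) (tt N22558 F248358) (tt N21050 F248359))
theorem Q22560 : ∀ i, i < 22560 → P i := stepQ 22559 Q22559 (allL N22559 (tt N23763 (iv F253904)) (tt N23377 (iv F251836)) (tt N23867 (iv F254380)) (tt N23852 (iv F254307)) (tt N20969 (iv D55329)) (tt N23712 (iv F253671)) (tt N23865 (iv F254371)) (tt N23859 (iv F254339)) (tt N22559 F248360) (tt N21051 F248361))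
theorem Q22561 : ∀ i, i < 22561 → P i := stepQ 22560 Q22560 (allL N22560 (tt N23261 (iv F251104)) (tt N20970 (iv D55330)) (tt N21056 F248362) (tt N21059 F248363) (tt N21322 F248364) (tt N23866 (iv F254376)) (tt N20976 F248365) (tt N23860 (iv F254346)) (tt N22560 F248366) (tt N21052 F248367))
theorem Q22562 : ∀ i, i < 22562 → P i := stepQ 22561 Q22561 (allL N22561 (tt N21203 F248368) (tt N21311 F248369) (tt N20973 F248370) (tt N23421 (iv F252063)) (tt N21599 F248371) (tt N23861 (iv F254352)) (tt N22561 F248372) (tt N20972 F248373) (tt N20971 (iv D55331)) (tt N21055 F248374))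
theorem Q22563 : ∀ i, i < 22563 → P i := stepQ 22562 Q22562 (allL N22562 (tt N23230 (iv F250916)) (tt N23378 (iv F251840)) (tt N23868 D56638) (tt N20973 (iv D55332)) (tt N21677 F248375) (tt N23863 (iv F254361)) (tt N22562 F248376) (tt N20974 F248377) (tt N22562 F248378) (tt N21058 F248379))
theorem Q22564 : ∀ i, i < 22564 → P i := stepQ 22563 Q22563 (allL N22563 (tt N23233 (iv F250936)) (tt N21045 F248380) (tt N20974 (iv D55333)) (tt N21052 F248381) (tt N21265 F248382) (tt N23864 (iv F254367)) (tt N20975 F248383) (tt N23868 (iv F254388)) (tt N22563 F248384) (tt N21059 F248385))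
theorem Q22565 : ∀ i, i < 22565 → P i := stepQ 22564 Q22564 (allL N22564 (tt N21566 F248386) (tt N20981 F248387) (tt N23242 (iv F250996)) (tt N21077 F248388) (tt N20978 F248389) (tt N23359 (iv F251736)) (tt N20990 F248390) (tt N21083 F248391) (tt N23869 D56639) (tt N20977 (iv D55334)))
theorem Q22566 : ∀ i, i < 22566 → P i := stepQ 22565 Q22565 (allL N22565 (tt N21672 F248392) (tt N20982 F248393) (tt N23274 (iv F251185)) (tt N21076 F248394) (tt N23869 (iv F254393)) (tt N22565 F248395) (tt N20991 F248396) (tt N21081 F248397) (tt N20978 (iv D55335)) (tt N23801 (iv F254078)))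
theorem Q22567 : ∀ i, i < 22567 → P i := stepQ 22566 Q22566 (allL N22566 (tt N23403 (iv F251979)) (tt N21077 F248398) (tt N23315 (iv F251463)) (tt N20981 F248399) (tt N21073 F248400) (tt N23396 (iv F251945)) (tt N20994 F248401) (tt N21079 F248402) (tt N23870 D56640) (tt N20979 (iv D55336)))
theorem Q22568 : ∀ i, i < 22568 → P i := stepQ 22567 Q22567 (allL N22567 (tt N23588 (iv F253104)) (tt N21253 F248403) (tt N20983 F248404) (tt N21289 F248405) (tt N22567 F248406) (tt N20995 F248407) (tt N20980 (iv D55337)) (tt N23540 (iv F252838)) (tt N21248 F248408) (tt N23871 D56641))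
theorem Q22569 : ∀ i, i < 22569 → P i := stepQ 22568 Q22568 (allL N22568 (tt N23764 (iv F253908)) (tt N23359 (iv F251732)) (tt N20984 F248409) (tt N23396 (iv F251943)) (tt N22568 F248410) (tt N20981 F248411) (tt N23871 (iv F254406)) (tt N21601 F248412) (tt N23872 D56642) (tt N20980 (iv D55338)))
theorem Q22570 : ∀ i, i < 22570 → P i := stepQ 22569 Q22569 (allL N22569 (tt N23765 (iv F253915)) (tt N23869 (iv F254392)) (tt N20985 F248413) (tt N23873 D56643) (tt N20982 F248414) (tt N23872 (iv F254409)) (tt N20997 F248415) (tt N21602 F248416) (tt N20981 (iv D55339)) (tt N23828 (iv F254203)))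
theorem Q22571 : ∀ i, i < 22571 → P i := stepQ 22570 Q22570 (allL N22570 (tt N21561 F248417) (tt N21076 F248418) (tt N21524 F248419) (tt N20982 (iv D55340)) (tt N23874 D56644) (tt N22570 F248420) (tt N20998 F248421) (tt N21078 F248422) (tt N21074 F248423) (tt N21531 F248424))
theorem Q22572 : ∀ i, i < 22572 → P i := stepQ 22571 Q22571 (allL N22571 (tt N23605 (iv F253196)) (tt N23380 (iv F251856)) (tt N23871 (iv F254402)) (tt N23546 (iv F252876)) (tt N22571 F248425) (tt N21000 F248426) (tt N20984 F248427) (tt N23551 (iv F252910)) (tt N23875 D56645) (tt N20983 (iv D55341)))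
theorem Q22573 : ∀ i, i < 22573 → P i := stepQ 22572 Q22572 (allL N22572 (tt N23766 (iv F253922)) (tt N23381 (iv F251862)) (tt N23872 (iv F254407)) (tt N23876 D56646) (tt N22572 F248428) (tt N20985 F248429) (tt N23875 (iv F254422)) (tt N21604 F248430) (tt N20984 (iv D55342)) (tt N23830 (iv F254212)))
theorem Q22574 : ∀ i, i < 22574 → P i := stepQ 22573 Q22573 (allL N22573 (tt N23767 (iv F253926)) (tt N23382 (iv F251866)) (tt N23877 D56647) (tt N20985 (iv D55343)) (tt N23715 (iv F253685)) (tt N23876 (iv F254423)) (tt N21002 F248431) (tt N21605 F248432) (tt N23629 (iv F253303)) (tt N23831 (iv F254215)))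
theorem Q22575 : ∀ i, i < 22575 → P i := stepQ 22574 Q22574 (allL N22574 (tt N20990 F248433) (tt N21542 F248434) (tt N23383 (iv F251871)) (tt N21560 F248435) (tt N20987 F248436) (tt N23347 (iv F251661)) (tt N21566 F248437) (tt N21003 F248438) (tt N23878 D56648) (tt N20986 (iv D55344)))
theorem Q22576 : ∀ i, i < 22576 → P i := stepQ 22575 Q22575 (allL N22575 (tt N20991 F248439) (tt N21548 F248440) (tt N23384 (iv F251879)) (tt N23423 (iv F252079)) (tt N23878 (iv F254429)) (tt N21025 F248441) (tt N21672 F248442) (tt N21004 F248443) (tt N20987 (iv D55345)) (tt N21547 F248444))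
theorem Q22577 : ∀ i, i < 22577 → P i := stepQ 22576 Q22576 (allL N22576 (tt N21559 F248445) (tt N20992 F248446) (tt N21505 F248447) (tt N20989 F248448) (tt N22576 F248449) (tt N20988 (iv D55346)) (tt N21296 F248450) (tt N21005 F248451) (tt N21295 F248452) (tt N23879 D56649))
theorem Q22578 : ∀ i, i < 22578 → P i := stepQ 22577 Q22577 (allL N22577 (tt N21560 F248453) (tt N20994 F248454) (tt N21506 F248455) (tt N20990 F248456) (tt N21074 F248457) (tt N23879 (iv F254438)) (tt N21077 F248458) (tt N21006 F248459) (tt N23874 (iv F254418)) (tt N20988 (iv D55347)))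
theorem Q22579 : ∀ i, i < 22579 → P i := stepQ 22578 Q22578 (allL N22578 (tt N23347 (iv F251656)) (tt N20996 F248460) (tt N21540 F248461) (tt N23879 (iv F254436)) (tt N21026 F248462) (tt N20990 F248463) (tt N23776 (iv F253970)) (tt N21008 F248464) (tt N23880 D56650) (tt N20989 (iv D55348)))
theorem Q22580 : ∀ i, i < 22580 → P i := stepQ 22579 Q22579 (allL N22579 (tt N23878 (iv F254427)) (tt N20997 F248465) (tt N23385 (iv F251885)) (tt N23881 D56651) (tt N20991 F248466) (tt N23880 (iv F254444)) (tt N23869 (iv F254394)) (tt N21009 F248467) (tt N20990 (iv D55349)) (tt N23832 (iv F254220)))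
theorem Q22581 : ∀ i, i < 22581 → P i := stepQ 22580 Q22580 (allL N22580 (tt N23423 (iv F252076)) (tt N20998 F248468) (tt N23319 (iv F251485)) (tt N20991 (iv D55350)) (tt N23870 (iv F254397)) (tt N21028 F248469) (tt N21076 F248470) (tt N21010 F248471) (tt N21073 F248472) (tt N21535 F248473))
theorem Q22582 : ∀ i, i < 22582 → P i := stepQ 22581 Q22581 (allL N22581 (tt N23589 (iv F253112)) (tt N21296 F248474) (tt N23531 (iv F252778)) (tt N20995 F248475) (tt N22581 F248476) (tt N21289 F248477) (tt N20992 (iv D55351)) (tt N23541 (iv F252847)) (tt N21288 (iv F248478)) (tt N23882 D56652))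
theorem Q22583 : ∀ i, i < 22583 → P i := stepQ 22582 Q22582 (allL N22582 (tt N21572 F248479) (tt N21295 F248480) (tt N23630 (iv F253306)) (tt N21291 F248481) (tt N22582 F248482) (tt N20993 F248483) (tt N21288 F248484) (tt N21012 F248485) (tt N20992 (iv D55352)) (tt N23883 D56653))
theorem Q22584 : ∀ i, i < 22584 → P i := stepQ 22583 Q22583 (allL N22583 (tt N23768 (iv F253929)) (tt N23879 (iv F254434)) (tt N23631 (iv F253313)) (tt N20996 F248486) (tt N22583 F248487) (tt N20994 F248488) (tt N23882 (iv F254452)) (tt N21013 F248489) (tt N23884 D56654) (tt N20992 (iv D55353)))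
theorem Q22585 : ∀ i, i < 22585 → P i := stepQ 22584 Q22584 (allL N22584 (tt N21573 F248490) (tt N21530 F248491) (tt N23632 (iv F253320)) (tt N21569 F248492) (tt N21075 F248493) (tt N23883 (iv F254457)) (tt N21534 F248494) (tt N21014 F248495) (tt N23885 D56655) (tt N20993 (iv D55354)))
theorem Q22586 : ∀ i, i < 22586 → P i := stepQ 22585 Q22585 (allL N22585 (tt N23769 (iv F253935)) (tt N23874 (iv F254414)) (tt N23633 (iv F253325)) (tt N23886 D56656) (tt N21076 F248496) (tt N23884 (iv F254461)) (tt N23870 (iv F254398)) (tt N21015 F248497) (tt N20994 (iv D55355)) (tt N23885 (iv F254468)))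
theorem Q22587 : ∀ i, i < 22587 → P i := stepQ 22586 Q22586 (allL N22586 (tt N23205 (iv F250746)) (tt N21554 F248498) (tt N20999 F248499) (tt N23541 (iv F252844)) (tt N21029 F248500) (tt N23540 (iv F252840)) (tt N21016 F248501) (tt N20995 (iv D55356)) (tt N21551 F248502) (tt N23887 D56657))
theorem Q22588 : ∀ i, i < 22588 → P i := stepQ 22587 Q22587 (allL N22587 (tt N23770 (iv F253940)) (tt N23776 (iv F253965)) (tt N21000 F248503) (tt N23882 (iv F254449)) (tt N21030 F248504) (tt N23871 (iv F254405)) (tt N20996 F248505) (tt N23887 (iv F254475)) (tt N23888 D56658) (tt N20995 (iv D55357)))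
theorem Q22589 : ∀ i, i < 22589 → P i := stepQ 22588 Q22588 (allL N22588 (tt N23771 (iv F253945)) (tt N23880 (iv F254441)) (tt N21001 F248506) (tt N23889 D56659) (tt N21031 F248507) (tt N20997 F248508) (tt N23888 (iv F254478)) (tt N21018 F248509) (tt N20996 (iv D55358)) (tt N23834 (iv F254234)))
theorem Q22590 : ∀ i, i < 22590 → P i := stepQ 22589 Q22589 (allL N22589 (tt N23772 (iv F253952)) (tt N23881 (iv F254446)) (tt N23890 D56660) (tt N20997 (iv D55359)) (tt N23891 D56661) (tt N23889 (iv F254479)) (tt N23873 (iv F254411)) (tt N21019 F248510) (tt N23886 (iv F254470)) (tt N23835 (iv F254239)))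
theorem Q22591 : ∀ i, i < 22591 → P i := stepQ 22590 Q22590 (allL N22590 (tt N21567 F248511) (tt N23870 (iv F254396)) (tt N21528 F248512) (tt N23891 (iv F254484)) (tt N20998 (iv D55360)) (tt N23401 (iv F251970)) (tt N23874 (iv F254416)) (tt N21020 F248513) (tt N21077 F248514) (tt N21536 F248515))
theorem Q22592 : ∀ i, i < 22592 → P i := stepQ 22591 Q22591 (allL N22591 (tt N23238 (iv F250970)) (tt N23389 (iv F251901)) (tt N23887 (iv F254472)) (tt N23552 (iv F252914)) (tt N21034 F248516) (tt N23551 (iv F252908)) (tt N21021 F248517) (tt N21000 F248518) (tt N23892 D56662) (tt N20999 (iv D55361)))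
theorem Q22593 : ∀ i, i < 22593 → P i := stepQ 22592 Q22592 (allL N22592 (tt N23773 (iv F253957)) (tt N23390 (iv F251908)) (tt N23888 (iv F254476)) (tt N23893 D56663) (tt N21035 F248519) (tt N23875 (iv F254421)) (tt N21001 F248520) (tt N23892 (iv F254489)) (tt N21000 (iv D55362)) (tt N23837 (iv F254247)))
theorem Q22594 : ∀ i, i < 22594 → P i := stepQ 22593 Q22593 (allL N22593 (tt N23774 (iv F253960)) (tt N23391 (iv F251913)) (tt N23894 D56664) (tt N21001 (iv D55363)) (tt N23895 D56665) (tt N21002 F248521) (tt N23893 (iv F254490)) (tt N21023 F248522) (tt N23637 (iv F253341)) (tt N23838 (iv F254250)))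
theorem Q22595 : ∀ i, i < 22595 → P i := stepQ 22594 Q22594 (allL N22594 (tt N23775 (iv F253963)) (tt N23896 D56666) (tt N21002 (iv D55364)) (tt N23890 (iv F254481)) (tt N23718 (iv F253697)) (tt N23894 (iv F254491)) (tt N23877 (iv F254425)) (tt N21024 F248523) (tt N23638 (iv F253343)) (tt N23839 (iv F254252)))
theorem Q22596 : ∀ i, i < 22596 → P i := stepQ 22595 Q22595 (allL N22595 (tt N21009 F248524) (tt N23361 (iv F251742)) (tt N23394 (iv F251928)) (tt N23897 D56667) (tt N21004 F248525) (tt N23356 (iv F251714)) (tt N21617 F248526) (tt N23878 (iv F254431)) (tt N21003 (iv D55365)) (tt N23398 (iv F251961)))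
theorem Q22597 : ∀ i, i < 22597 → P i := stepQ 22596 Q22596 (allL N22596 (tt N21248 F248527) (tt N21011 F248528) (tt N23604 (iv F253190)) (tt N21007 F248529) (tt N22596 F248530) (tt N21618 F248531) (tt N21005 (iv D55366)) (tt N23596 (iv F253157)) (tt N23588 (iv F253110)) (tt N23898 D56668))
theorem Q22598 : ∀ i, i < 22598 → P i := stepQ 22597 Q22597 (allL N22597 (tt N23355 (iv F251702)) (tt N21013 F248532) (tt N23752 (iv F253848)) (tt N21008 F248533) (tt N22597 F248534) (tt N21006 F248535) (tt N23898 (iv F254503)) (tt N23879 (iv F254440)) (tt N23899 D56669) (tt N21005 (iv D55367)))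
theorem Q22599 : ∀ i, i < 22599 → P i := stepQ 22598 Q22598 (allL N22598 (tt N23828 (iv F254198)) (tt N21015 F248536) (tt N23753 (iv F253855)) (tt N23900 D56670) (tt N21078 F248537) (tt N23899 (iv F254506)) (tt N21611 F248538) (tt N23874 (iv F254417)) (tt N21006 (iv D55368)) (tt N23765 (iv F253921)))
theorem Q22600 : ∀ i, i < 22600 → P i := stepQ 22599 Q22599 (allL N22599 (tt N21250 F248539) (tt N21017 F248540) (tt N21569 F248541) (tt N23898 (iv F254500)) (tt N21039 F248542) (tt N21620 F248543) (tt N21008 F248544) (tt N23819 (iv F254173)) (tt N23901 D56671) (tt N21007 (iv D55369)))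
theorem Q22601 : ∀ i, i < 22601 → P i := stepQ 22600 Q22600 (allL N22600 (tt N23356 (iv F251710)) (tt N21018 F248545) (tt N23398 (iv F251956)) (tt N23902 D56672) (tt N21040 F248546) (tt N21009 F248547) (tt N23901 (iv F254516)) (tt N23880 (iv F254445)) (tt N21008 (iv D55370)) (tt N23394 (iv F251932)))
theorem Q22602 : ∀ i, i < 22602 → P i := stepQ 22601 Q22601 (allL N22601 (tt N23897 (iv F254496)) (tt N21019 F248548) (tt N23903 D56673) (tt N21009 (iv D55371)) (tt N23904 D56674) (tt N23902 (iv F254519)) (tt N21622 F248549) (tt N23881 (iv F254447)) (tt N23900 (iv F254510)) (tt N23841 (iv F254261)))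
theorem Q22603 : ∀ i, i < 22603 → P i := stepQ 22602 Q22602 (allL N22602 (tt N23404 (iv F251987)) (tt N21020 F248550) (tt N23316 (iv F251471)) (tt N23904 (iv F254522)) (tt N21010 (iv D55372)) (tt N23690 (iv F253562)) (tt N21608 F248551) (tt N23870 (iv F254399)) (tt N21079 F248552) (tt N21541 F248553))
theorem Q22604 : ∀ i, i < 22604 → P i := stepQ 22603 Q22603 (allL N22603 (tt N21269 F248554) (tt N23596 (iv F253151)) (tt N21182 F248555) (tt N21016 F248556) (tt N22603 F248557) (tt N21180 F248558) (tt N23541 (iv F252846)) (tt N21011 (iv D55373)) (tt N23208 (iv F250776)) (tt N23905 D56675))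
theorem Q22605 : ∀ i, i < 22605 → P i := stepQ 22604 Q22604 (allL N22604 (tt N23245 (iv F251018)) (tt N23588 (iv F253105)) (tt N23202 (iv F250725)) (tt N23334 (iv F251591)) (tt N22604 F248559) (tt N21623 F248560) (tt N21012 F248561) (tt N23208 (iv F250775)) (tt N21011 (iv D55374)) (tt N23906 D56676))
theorem Q22606 : ∀ i, i < 22606 → P i := stepQ 22605 Q22605 (allL N22605 (tt N23246 (iv F251026)) (tt N23898 (iv F254499)) (tt N23310 (iv F251432)) (tt N21017 F248562) (tt N22605 F248563) (tt N21624 F248564) (tt N21013 F248565) (tt N23905 (iv F254531)) (tt N23907 D56677) (tt N21011 (iv D55375)))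
theorem Q22607 : ∀ i, i < 22607 → P i := stepQ 22606 Q22606 (allL N22606 (tt N23779 (iv F253982)) (tt N23764 (iv F253909)) (tt N23647 (iv F253391)) (tt N23842 (iv F254265)) (tt N22606 F248566) (tt N21014 F248567) (tt N23906 (iv F254534)) (tt N23883 (iv F254459)) (tt N23908 D56678) (tt N21012 (iv D55376)))
theorem Q22608 : ∀ i, i < 22608 → P i := stepQ 22607 Q22607 (allL N22607 (tt N23780 (iv F253988)) (tt N23899 (iv F254504)) (tt N23648 (iv F253394)) (tt N23909 D56679) (tt N22607 F248568) (tt N21015 F248569) (tt N23907 (iv F254537)) (tt N23884 (iv F254462)) (tt N21013 (iv D55377)) (tt N23908 (iv F254540)))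
theorem Q22609 : ∀ i, i < 22609 → P i := stepQ 22608 Q22608 (allL N22608 (tt N23781 (iv F253991)) (tt N23765 (iv F253916)) (tt N23649 (iv F253397)) (tt N23910 D56680) (tt N21080 F248570) (tt N23908 (iv F254539)) (tt N21627 F248571) (tt N23885 (iv F254467)) (tt N21014 (iv D55378)) (tt N21015 F248572))
theorem Q22610 : ∀ i, i < 22610 → P i := stepQ 22609 Q22609 (allL N22609 (tt N23782 (iv F253997)) (tt N23900 (iv F254507)) (tt N23911 D56681) (tt N21015 (iv D55379)) (tt N23912 D56682) (tt N23909 (iv F254541)) (tt N21628 F248573) (tt N23886 (iv F254469)) (tt N21019 F248574) (tt N23910 (iv F254544)))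
theorem Q22611 : ∀ i, i < 22611 → P i := stepQ 22610 Q22610 (allL N22610 (tt N23235 (iv F250950)) (tt N23819 (iv F254168)) (tt N21021 F248575) (tt N23905 (iv F254528)) (tt N21042 F248576) (tt N21629 F248577) (tt N23887 (iv F254474)) (tt N21017 F248578) (tt N23913 D56683) (tt N21016 (iv D55380)))
theorem Q22612 : ∀ i, i < 22612 → P i := stepQ 22611 Q22611 (allL N22611 (tt N23249 (iv F251044)) (tt N23901 (iv F254512)) (tt N21022 F248579) (tt N23914 D56684) (tt N21043 F248580) (tt N21630 F248581) (tt N21018 F248582) (tt N23913 (iv F254555)) (tt N21017 (iv D55381)) (tt N23846 (iv F254289)))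
theorem Q22613 : ∀ i, i < 22613 → P i := stepQ 22612 Q22612 (allL N22612 (tt N23783 (iv F254001)) (tt N23902 (iv F254518)) (tt N23915 D56685) (tt N21018 (iv D55382)) (tt N23916 D56686) (tt N21019 F248583) (tt N23914 (iv F254557)) (tt N23889 (iv F254480)) (tt N23909 (iv F254542)) (tt N23847 (iv F254292)))
theorem Q22614 : ∀ i, i < 22614 → P i := stepQ 22613 Q22613 (allL N22613 (tt N23784 (iv F254004)) (tt N23917 D56687) (tt N21019 (iv D55383)) (tt N21024 F248584) (tt N23918 D56688) (tt N23915 (iv F254559)) (tt N21632 F248585) (tt N23890 (iv F254482)) (tt N23911 (iv F254546)) (tt N23848 (iv F254297)))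
theorem Q22615 : ∀ i, i < 22615 → P i := stepQ 22614 Q22614 (allL N22614 (tt N21584 F248586) (tt N23904 (iv F254521)) (tt N23918 (iv F254564)) (tt N21020 F248587) (tt N21019 (iv D55384)) (tt N23919 D56689) (tt N21633 F248588) (tt N23891 (iv F254485)) (tt N23912 (iv F254551)) (tt N21544 F248589))
theorem Q22616 : ∀ i, i < 22616 → P i := stepQ 22615 Q22615 (allL N22615 (tt N21583 F248590) (tt N23690 (iv F253559)) (tt N21149 F248591) (tt N23919 (iv F254569)) (tt N21047 F248592) (tt N21020 (iv D55385)) (tt N23223 (iv F250875)) (tt N23401 (iv F251972)) (tt N21084 F248593) (tt N21155 F248594))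
theorem Q22617 : ∀ i, i < 22617 → P i := stepQ 22616 Q22616 (allL N22616 (tt N23239 (iv F250977)) (tt N23409 (iv F252006)) (tt N23913 (iv F254552)) (tt N23920 D56690) (tt N21048 F248595) (tt N21635 F248596) (tt N23892 (iv F254488)) (tt N21022 F248597) (tt N21021 (iv D55386)) (tt N23849 (iv F254301)))
theorem Q22618 : ∀ i, i < 22618 → P i := stepQ 22617 Q22617 (allL N22617 (tt N23252 (iv F251057)) (tt N23410 (iv F252010)) (tt N23921 D56691) (tt N21022 (iv D55387)) (tt N23922 D56692) (tt N21636 F248598) (tt N21023 F248599) (tt N23920 (iv F254572)) (tt N23657 (iv F253419)) (tt N23850 (iv F254304)))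
theorem Q22619 : ∀ i, i < 22619 → P i := stepQ 22618 Q22618 (allL N22618 (tt N23785 (iv F254009)) (tt N23923 D56693) (tt N21023 (iv D55388)) (tt N23915 (iv F254558)) (tt N23924 D56694) (tt N21024 F248600) (tt N23921 (iv F254574)) (tt N23894 (iv F254492)) (tt N23658 (iv F253421)) (tt N23851 (iv F254306)))
theorem Q22620 : ∀ i, i < 22620 → P i := stepQ 22619 Q22619 (allL N22619 (tt N23786 (iv F254011)) (tt N23412 (iv F252014)) (tt N23924 (iv F254578)) (tt N21051 F248601) (tt N21023 (iv D55389)) (tt N23726 (iv F253737)) (tt N23922 (iv F254576)) (tt N23895 (iv F254494)) (tt N23659 (iv F253423)) (tt N23852 (iv F254308)))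
theorem Q22621 : ∀ i, i < 22621 → P i := stepQ 22620 Q22620 (allL N22620 (tt N23925 D56695) (tt N21024 (iv D55390)) (tt N23413 (iv F252016)) (tt N23917 (iv F254561)) (tt N23727 (iv F253738)) (tt N23923 (iv F254577)) (tt N21638 F248602) (tt N23896 (iv F254495)) (tt N23660 (iv F253425)) (tt N23853 (iv F254310)))
theorem Q22622 : ∀ i, i < 22622 → P i := stepQ 22621 Q22621 (allL N22621 (tt N23348 (iv F251663)) (tt N21031 F248603) (tt N21547 F248604) (tt N23926 D56696) (tt N23880 (iv F254443)) (tt N21027 F248605) (tt N23802 (iv F254082)) (tt N21040 F248606) (tt N21026 (iv D55391)) (tt N23384 (iv F251883)))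
theorem Q22623 : ∀ i, i < 22623 → P i := stepQ 22622 Q22622 (allL N22622 (tt N23368 (iv F251774)) (tt N21032 F248607) (tt N23378 (iv F251841)) (tt N21027 (iv D55392)) (tt N23693 (iv F253580)) (tt N23926 (iv F254581)) (tt N22622 F248608) (tt N21041 F248609) (tt N22622 F248610) (tt N23414 (iv F252025)))
theorem Q22624 : ∀ i, i < 22624 → P i := stepQ 22623 Q22623 (allL N22623 (tt N23206 (iv F250754)) (tt N21668 F248611) (tt N21034 F248612) (tt N22623 F248613) (tt N23887 (iv F254473)) (tt N22623 F248614) (tt N21042 F248615) (tt N21030 F248616) (tt N23927 D56697) (tt N21029 (iv D55393)))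
theorem Q22625 : ∀ i, i < 22625 → P i := stepQ 22624 Q22624 (allL N22624 (tt N23788 (iv F254014)) (tt N23802 (iv F254079)) (tt N21035 F248617) (tt N23928 D56698) (tt N23888 (iv F254477)) (tt N22624 F248618) (tt N21031 F248619) (tt N23927 (iv F254588)) (tt N21030 (iv D55394)) (tt N23854 (iv F254317)))
theorem Q22626 : ∀ i, i < 22626 → P i := stepQ 22625 Q22625 (allL N22625 (tt N23789 (iv F254020)) (tt N23926 (iv F254580)) (tt N23929 D56699) (tt N21031 (iv D55395)) (tt N23930 D56700) (tt N21032 F248620) (tt N23928 (iv F254591)) (tt N21044 F248621) (tt N22625 F248622) (tt N23855 (iv F254322)))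
theorem Q22627 : ∀ i, i < 22627 → P i := stepQ 22626 Q22626 (allL N22626 (tt N23790 (iv F254026)) (tt N23868 (iv F254384)) (tt N21032 (iv D55396)) (tt N21037 F248623) (tt N21262 (iv F248628)) (tt N23929 (iv F254594)) (tt N22626 F248624) (tt N21045 F248625) (tt N22626 F248626) (tt N21317 F248627))
theorem Q22628 : ∀ i, i < 22628 → P i := stepQ 22627 Q22627 (allL N22627 (tt N21591 F248629) (tt N23693 (iv F253578)) (tt N21262 F248630) (tt N21033 F248631) (tt N21032 (iv D55397)) (tt N23446 (iv F252211)) (tt N22627 F248632) (tt N21046 F248633) (tt N22627 F248634) (tt N21160 F248635))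
theorem Q22629 : ∀ i, i < 22629 → P i := stepQ 22628 Q22628 (allL N22628 (tt N23257 (iv F251082)) (tt N23417 (iv F252039)) (tt N23927 (iv F254585)) (tt N23931 D56701) (tt N23892 (iv F254487)) (tt N22628 F248636) (tt N21048 F248637) (tt N21035 F248638) (tt N21034 (iv D55398)) (tt N23856 (iv F254329)))
theorem Q22630 : ∀ i, i < 22630 → P i := stepQ 22629 Q22629 (allL N22629 (tt N23791 (iv F254033)) (tt N23418 (iv F252046)) (tt N23932 D56702) (tt N21035 (iv D55399)) (tt N23933 D56703) (tt N22629 F248639) (tt N21036 F248640) (tt N23931 (iv F254602)) (tt N21062 F248641) (tt N23857 (iv F254333)))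
theorem Q22631 : ∀ i, i < 22631 → P i := stepQ 22630 Q22630 (allL N22630 (tt N23792 (iv F254037)) (tt N23934 D56704) (tt N21036 (iv D55400)) (tt N23929 (iv F254593)) (tt N23935 D56705) (tt N21037 F248642) (tt N23932 (iv F254605)) (tt N21050 F248643) (tt N21063 F248644) (tt N23858 (iv F254338)))
theorem Q22632 : ∀ i, i < 22632 → P i := stepQ 22631 Q22631 (allL N22631 (tt N23793 (iv F254041)) (tt N23420 (iv F252058)) (tt N23935 (iv F254612)) (tt N23895 (iv F254493)) (tt N21036 (iv D55401)) (tt N23728 (iv F253741)) (tt N23933 (iv F254607)) (tt N21051 F248645) (tt N21064 F248646) (tt N23859 (iv F254341)))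
theorem Q22633 : ∀ i, i < 22633 → P i := stepQ 22632 Q22632 (allL N22632 (tt N23936 D56706) (tt N21037 (iv D55402)) (tt N23421 (iv F252062)) (tt N23868 (iv F254385)) (tt N21700 F248647) (tt N23934 (iv F254609)) (tt N22632 F248648) (tt N21052 F248649) (tt N21065 F248650) (tt N23860 (iv F254348)))
theorem Q22634 : ∀ i, i < 22634 → P i := stepQ 22633 Q22633 (allL N22633 (tt N21243 F248651) (tt N21042 F248652) (tt N21095 F248653) (tt N22633 F248654) (tt N23819 (iv F254170)) (tt N21053 F248655) (tt N21668 F248656) (tt N21039 F248657) (tt N23937 D56707) (tt N21038 (iv D55403)))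
theorem Q22635 : ∀ i, i < 22635 → P i := stepQ 22634 Q22634 (allL N22634 (tt N21251 F248658) (tt N21043 F248659) (tt N21570 F248660) (tt N23376 (iv F251830)) (tt N23901 (iv F254514)) (tt N21054 F248661) (tt N21040 F248662) (tt N23937 (iv F254627)) (tt N21039 (iv D55404)) (tt N21287 F248663))
theorem Q22636 : ∀ i, i < 22636 → P i := stepQ 22635 Q22635 (allL N22635 (tt N23357 (iv F251717)) (tt N21044 F248664) (tt N23375 (iv F251824)) (tt N21040 (iv D55405)) (tt N23938 D56708) (tt N21041 F248665) (tt N23376 (iv F251832)) (tt N23926 (iv F254582)) (tt N22635 F248666) (tt N23395 (iv F251939)))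
theorem Q22637 : ∀ i, i < 22637 → P i := stepQ 22636 Q22636 (allL N22636 (tt N23254 (iv F251064)) (tt N23937 (iv F254623)) (tt N21048 F248667) (tt N23939 D56709) (tt N23913 (iv F254553)) (tt N21055 F248668) (tt N23927 (iv F254587)) (tt N21043 F248669) (tt N21042 (iv D55406)) (tt N23861 (iv F254355)))
theorem Q22638 : ∀ i, i < 22638 → P i := stepQ 22637 Q22637 (allL N22637 (tt N23260 (iv F251098)) (tt N23376 F251835) (tt N23866 (iv F254374)) (tt N21043 (iv D55407)) (tt N23940 D56710) (tt N21056 F248670) (tt N21044 F248671) (tt N23939 (iv F254632)) (tt N22637 F248672) (tt N23427 (iv F252104)))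
theorem Q22639 : ∀ i, i < 22639 → P i := stepQ 22638 Q22638 (allL N22638 (tt N23794 (iv F254044)) (tt N23864 (iv F254365)) (tt N21044 (iv D55408)) (tt N21050 F248673) (tt N23941 D56711) (tt N21045 F248674) (tt N23866 (iv F254377)) (tt N23929 (iv F254595)) (tt N22638 F248675) (tt N21326 F248676))
theorem Q22640 : ∀ i, i < 22640 → P i := stepQ 22639 Q22639 (allL N22639 (tt N23795 (iv F254049)) (tt N23938 (iv F254629)) (tt N23941 (iv F254636)) (tt N23916 (iv F254560)) (tt N21044 (iv D55409)) (tt N23942 D56712) (tt N23940 (iv F254634)) (tt N23930 (iv F254598)) (tt N22639 F248677) (tt N23862 (iv F254360)))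
theorem Q22641 : ∀ i, i < 22641 → P i := stepQ 22640 Q22640 (allL N22640 (tt N21596 F248678) (tt N23691 (iv F253566)) (tt N21257 F248679) (tt N21047 F248680) (tt N23942 (iv F254642)) (tt N21046 (iv D55410)) (tt N23224 (iv F250881)) (tt N23446 (iv F252213)) (tt N22640 F248681) (tt N21156 F248682))
theorem Q22642 : ∀ i, i < 22642 → P i := stepQ 22641 Q22641 (allL N22641 (tt N23258 (iv F251087)) (tt N23425 (iv F252091)) (tt N23943 D56713) (tt N21048 (iv D55411)) (tt N23944 D56714) (tt N21058 F248683) (tt N23931 (iv F254601)) (tt N21049 F248684) (tt N21066 F248685) (tt N23863 (iv F254364)))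
theorem Q22643 : ∀ i, i < 22643 → P i := stepQ 22642 Q22642 (allL N22642 (tt N23264 (iv F251122)) (tt N21326 (iv F248689)) (tt N21049 (iv D55412)) (tt N23866 (iv F254375)) (tt N23945 D56715) (tt N21059 F248686) (tt N21050 F248687) (tt N23943 (iv F254646)) (tt N21067 F248688) (tt N23864 (iv F254370)))
theorem Q22644 : ∀ i, i < 22644 → P i := stepQ 22643 Q22643 (allL N22643 (tt N23265 (iv F251126)) (tt N23426 (iv F252095)) (tt N23945 (iv F254653)) (tt N23922 (iv F254575)) (tt N21049 (iv D55413)) (tt N23321 (iv F251499)) (tt N21051 F248690) (tt N23944 (iv F254650)) (tt N21068 F248691) (tt N23865 (iv F254373)))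
theorem Q22645 : ∀ i, i < 22645 → P i := stepQ 22644 Q22644 (allL N22644 (tt N23946 D56716) (tt N21050 (iv D55414)) (tt N23427 (iv F252099)) (tt N23864 (iv F254366)) (tt N23947 D56717) (tt N21052 F248692) (tt N21326 F248693) (tt N23934 (iv F254610)) (tt N21069 F248694) (tt N23866 (iv F254379)))
theorem Q22646 : ∀ i, i < 22646 → P i := stepQ 22645 Q22645 (allL N22645 (tt N23796 (iv F254053)) (tt N23947 (iv F254662)) (tt N21051 F248695) (tt N23948 D56718) (tt N21050 (iv D55415)) (tt N23731 (iv F253753)) (tt N23945 (iv F254655)) (tt N23935 (iv F254614)) (tt N21070 F248696) (tt N23867 (iv F254383)))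
theorem Q22647 : ∀ i, i < 22647 → P i := stepQ 22646 Q22646 (allL N22646 (tt N21052 (iv D55416)) (tt N21650 F248697) (tt N21208 F248698) (tt N23233 (iv F250938)) (tt N21656 F248699) (tt N23946 (iv F254659)) (tt N21060 F248700) (tt N23936 (iv F254620)) (tt N21071 F248701) (tt N23261 (iv F251109)))
theorem Q22648 : ∀ i, i < 22648 → P i := stepQ 22647 Q22647 (allL N22647 (tt N21261 F248702) (tt N21055 F248703) (tt N21589 F248704) (tt N23372 (iv F251803)) (tt N21655 F248705) (tt N23937 (iv F254625)) (tt N22647 F248706) (tt N21054 F248707) (tt N21053 (iv D55417)) (tt N21311 F248708))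
theorem Q22649 : ∀ i, i < 22649 → P i := stepQ 22648 Q22648 (allL N22648 (tt N23255 (iv F251070)) (tt N23372 F251808) (tt N23860 (iv F254342)) (tt N21055 (iv D55418)) (tt N23949 D56719) (tt N23939 (iv F254631)) (tt N22648 F248709) (tt N21056 F248710) (tt N22648 F248711) (tt N23421 (iv F252068)))
theorem Q22650 : ∀ i, i < 22650 → P i := stepQ 22649 Q22649 (allL N22649 (tt N23262 (iv F251111)) (tt N23233 (iv F250937)) (tt N21322 F248712) (tt N21650 F248713) (tt N21056 (iv D55419)) (tt N23950 D56720) (tt N21057 F248714) (tt N23949 (iv F254668)) (tt N22649 F248715) (tt N23266 (iv F251138)))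
theorem Q22651 : ∀ i, i < 22651 → P i := stepQ 22650 Q22650 (allL N22650 (tt N23259 (iv F251092)) (tt N21317 (iv F248720)) (tt N21058 (iv D55420)) (tt N23860 (iv F254343)) (tt N21314 F248716) (tt N23943 (iv F254645)) (tt N22650 F248717) (tt N21059 F248718) (tt N21072 F248719) (tt N23868 (iv F254390)))
theorem Q22652 : ∀ i, i < 22652 → P i := stepQ 22651 Q22651 (allL N22651 (tt N23267 (iv F251139)) (tt N23429 (iv F252109)) (tt N23951 D56721) (tt N21061 (iv D55421)) (tt N23952 D56722) (tt N22651 F248721) (tt N21066 F248722) (tt N21062 F248723) (tt N23931 (iv F254603)) (tt N22651 F248724))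
theorem Q22653 : ∀ i, i < 22653 → P i := stepQ 22652 Q22652 (allL N22652 (tt N23797 (iv F254056)) (tt N23953 D56723) (tt N21062 (iv D55422)) (tt N22652 F248725) (tt N23954 D56724) (tt N22652 F248726) (tt N21063 F248727) (tt N23951 (iv F254677)) (tt N23932 (iv F254606)) (tt N22652 F248728))
theorem Q22654 : ∀ i, i < 22654 → P i := stepQ 22653 Q22653 (allL N22653 (tt N23798 (iv F254061)) (tt N23430 (iv F252116)) (tt N23954 (iv F254690)) (tt N23585 (iv F253088)) (tt N21062 (iv D55423)) (tt N23955 D56725) (tt N21064 F248729) (tt N23952 (iv F254682)) (tt N23933 (iv F254608)) (tt N22653 F248730))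
theorem Q22655 : ∀ i, i < 22655 → P i := stepQ 22654 Q22654 (allL N22654 (tt N23956 D56726) (tt N21063 (iv D55424)) (tt N23431 (iv F252122)) (tt N22654 F248731) (tt N23957 D56727) (tt N21065 F248732) (tt N23953 (iv F254687)) (tt N21069 F248733) (tt N23934 (iv F254611)) (tt N22654 F248734))
theorem Q22656 : ∀ i, i < 22656 → P i := stepQ 22655 Q22655 (allL N22655 (tt N23799 (iv F254064)) (tt N23957 (iv F254701)) (tt N21064 F248735) (tt N23958 D56728) (tt N21063 (iv D55425)) (tt N21671 F248736) (tt N23954 (iv F254691)) (tt N21070 F248737) (tt N23935 (iv F254615)) (tt N22655 F248738))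
theorem Q22657 : ∀ i, i < 22657 → P i := stepQ 22656 Q22656 (allL N22656 (tt N21065 (iv D55426)) (tt N21691 F248739) (tt N21227 F248740) (tt N22656 F248741) (tt N21690 F248742) (tt N23956 (iv F254698)) (tt N22656 F248743) (tt N21071 F248744) (tt N23936 (iv F254621)) (tt N22656 F248745))
theorem Q22658 : ∀ i, i < 22658 → P i := stepQ 22657 Q22657 (allL N22657 (tt N23268 (iv F251145)) (tt N21347 (iv F248750)) (tt N21066 (iv D55427)) (tt N22657 F248746) (tt N23959 D56729) (tt N21072 F248747) (tt N23951 (iv F254676)) (tt N21067 F248748) (tt N23943 (iv F254647)) (tt N22657 F248749))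
theorem Q22659 : ∀ i, i < 22659 → P i := stepQ 22658 Q22658 (allL N22658 (tt N23269 (iv F251151)) (tt N23434 (iv F252141)) (tt N23959 (iv F254710)) (tt N21475 F248751) (tt N21066 (iv D55428)) (tt N21474 F248752) (tt N23952 (iv F254681)) (tt N21068 F248753) (tt N23944 (iv F254651)) (tt N22658 F248754))
theorem Q22660 : ∀ i, i < 22660 → P i := stepQ 22659 Q22659 (allL N22659 (tt N23271 (iv F251164)) (tt N21346 F248755) (tt N21068 F248756) (tt N23960 D56730) (tt N21067 (iv D55429)) (tt N21342 F248757) (tt N21070 F248758) (tt N23959 (iv F254712)) (tt N23945 (iv F254656)) (tt N22659 F248759))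
theorem Q22661 : ∀ i, i < 22661 → P i := stepQ 22660 Q22660 (allL N22660 (tt N21069 (iv D55430)) (tt N21695 F248760) (tt N21222 F248761) (tt N22660 F248762) (tt N23961 D56731) (tt N21071 F248763) (tt N21230 F248764) (tt N23956 (iv F254699)) (tt N23946 (iv F254661)) (tt N22660 F248765))
theorem Q22662 : ∀ i, i < 22662 → P i := stepQ 22661 Q22661 (allL N22661 (tt N23961 (iv F254719)) (tt N21070 F248766) (tt N23436 (iv F252154)) (tt N23962 D56732) (tt N21069 (iv D55431)) (tt N23449 (iv F252230)) (tt N21346 F248767) (tt N23957 (iv F254703)) (tt N23947 (iv F254664)) (tt N22661 F248768))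
theorem Q22663 : ∀ i, i < 22663 → P i := stepQ 22662 Q22662 (allL N22662 (tt N23800 (iv F254069)) (tt N23962 (iv F254725)) (tt N23675 (iv F253483)) (tt N21070 (iv D55432)) (tt N22662 F248769) (tt N23734 (iv F253768)) (tt N23960 (iv F254717)) (tt N23958 (iv F254707)) (tt N23963 D56733) (tt N22662 F248770))
theorem Q22664 : ∀ i, i < 22664 → P i := stepQ 22663 Q22663 (allL N22663 (tt N21674 F248771) (tt N21531 F248772) (tt N23676 (iv F253488)) (tt N23801 (iv F254074)) (tt N23885 (iv F254465)) (tt N22663 F248773) (tt N21535 F248774) (tt N21080 F248775) (tt N21075 (iv D55433)) (tt N21076 F248776))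
theorem Q22665 : ∀ i, i < 22665 → P i := stepQ 22664 Q22664 (allL N22664 (tt N21675 F248777) (tt N21561 F248778) (tt N23964 D56734) (tt N21080 (iv D55434)) (tt N23965 D56735) (tt N22664 F248779) (tt N21565 F248780) (tt N23801 (iv F254077)) (tt N21097 F248781) (tt N21081 F248782))
theorem Q22666 : ∀ i, i < 22666 → P i := stepQ 22665 Q22665 (allL N22665 (tt N21669 F248783) (tt N21271 F248784) (tt N21081 (iv D55435)) (tt N23685 (iv F253538)) (tt N23966 D56736) (tt N22665 F248785) (tt N21276 F248786) (tt N23274 (iv F251188)) (tt N21082 F248787) (tt N23964 (iv F254735)))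
theorem Q22667 : ∀ i, i < 22667 → P i := stepQ 22666 Q22666 (allL N22666 (tt N21580 F248788) (tt N21602 F248789) (tt N23966 (iv F254743)) (tt N23912 (iv F254549)) (tt N21081 (iv D55436)) (tt N23967 D56737) (tt N21607 F248790) (tt N23869 (iv F254395)) (tt N21083 F248791) (tt N23965 (iv F254740)))
theorem Q22668 : ∀ i, i < 22668 → P i := stepQ 22667 Q22667 (allL N22667 (tt N21555 F248792) (tt N21270 F248793) (tt N21083 F248794) (tt N21525 F248795) (tt N21082 (iv D55437)) (tt N23968 D56738) (tt N21275 F248796) (tt N23242 (iv F251001)) (tt N23966 (iv F254745)) (tt N21100 F248797))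
theorem Q22669 : ∀ i, i < 22669 → P i := stepQ 22668 Q22668 (allL N22668 (tt N21578 F248798) (tt N21601 F248799) (tt N23968 (iv F254752)) (tt N21084 F248800) (tt N22668 F248801) (tt N21083 (iv D55438)) (tt N23222 (iv F250869)) (tt N23359 (iv F251738)) (tt N23967 (iv F254749)) (tt N21101 F248802))
theorem Q22670 : ∀ i, i < 22670 → P i := stepQ 22669 Q22669 (allL N22669 (tt N21093 F248803) (tt N21337 F248804) (tt N21402 F248805) (tt N21085 (iv D55439)) (tt N23969 D56739) (tt N22669 F248806) (tt N21659 F248807) (tt N21341 F248808) (tt N23749 (iv F253838)) (tt N22669 F248809))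
theorem Q22671 : ∀ i, i < 22671 → P i := stepQ 22670 Q22670 (allL N22670 (tt N21221 F248810) (tt N21087 F248811) (tt N22670 F248812) (tt N23450 (iv F252235)) (tt N21219 F248813) (tt N22670 F248814) (tt N21678 F248815) (tt N21090 F248816) (tt N21086 (iv D55440)) (tt N22670 F248817))
theorem Q22672 : ∀ i, i < 22672 → P i := stepQ 22671 Q22671 (allL N22671 (tt N21341 F248818) (tt N23450 (iv F252234)) (tt N23680 (iv F253509)) (tt N21087 (iv D55441)) (tt N23437 (iv F252158)) (tt N22671 F248819) (tt N23441 (iv F252181)) (tt N21093 F248820) (tt N23808 (iv F254118)) (tt N22671 F248821))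
theorem Q22673 : ∀ i, i < 22673 → P i := stepQ 22672 Q22672 (allL N22672 (tt N21090 F248822) (tt N21217 F248823) (tt N22672 F248824) (tt N23970 D56740) (tt N21215 F248825) (tt N22672 F248826) (tt N21664 F248827) (tt N21221 F248828) (tt N21088 (iv D55442)) (tt N22672 F248829))
theorem Q22674 : ∀ i, i < 22674 → P i := stepQ 22673 Q22673 (allL N22673 (tt N21215 F248830) (tt N21092 F248831) (tt N22673 F248832) (tt N23431 (iv F252123)) (tt N21090 F248833) (tt N21226 F248834) (tt N21666 F248835) (tt N21219 F248836) (tt N21089 (iv D55443)) (tt N22673 F248837))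
theorem Q22675 : ∀ i, i < 22675 → P i := stepQ 22674 Q22674 (allL N22674 (tt N23970 (iv F254764)) (tt N21093 F248838) (tt N23971 D56741) (tt N21090 (iv D55444)) (tt N23972 D56742) (tt N22674 F248839) (tt N21667 F248840) (tt N23450 (iv F252237)) (tt N23817 (iv F254159)) (tt N22674 F248841))
theorem Q22676 : ∀ i, i < 22676 → P i := stepQ 22675 Q22675 (allL N22675 (tt N21276 F248842) (tt N23861 (iv F254350)) (tt N21096 F248843) (tt N23419 (iv F252052)) (tt N23820 (iv F254176)) (tt N21311 F248844) (tt N21669 F248845) (tt N21287 F248846) (tt N21091 (iv D55445)) (tt N23937 (iv F254628)))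
theorem Q22677 : ∀ i, i < 22677 → P i := stepQ 22676 Q22676 (allL N22676 (tt N23969 (iv F254757)) (tt N23972 (iv F254774)) (tt N23732 (iv F253758)) (tt N23432 (iv F252130)) (tt N21093 (iv D55446)) (tt N23973 D56743) (tt N21671 F248847) (tt N23437 (iv F252159)) (tt N23824 (iv F254188)) (tt N22676 F248848))
theorem Q22678 : ∀ i, i < 22678 → P i := stepQ 22677 Q22677 (allL N22677 (tt N21535 F248849) (tt N21096 F248850) (tt N23374 (iv F251817)) (tt N21547 F248851) (tt N23840 (iv F254255)) (tt N21546 F248852) (tt N21674 F248853) (tt N21539 F248854) (tt N21094 (iv D55447)) (tt N23423 (iv F252083)))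
theorem Q22679 : ∀ i, i < 22679 → P i := stepQ 22678 Q22678 (allL N22678 (tt N21565 F248855) (tt N23423 (iv F252077)) (tt N23937 (iv F254624)) (tt N21548 F248856) (tt N23844 (iv F254274)) (tt N21589 F248857) (tt N21675 F248858) (tt N21570 F248859) (tt N21095 (iv D55448)) (tt N21096 F248860))
theorem Q22680 : ∀ i, i < 22680 → P i := stepQ 22679 Q22679 (allL N22679 (tt N21668 F248861) (tt N21239 F248862) (tt N21097 (iv D55449)) (tt N22679 F248863) (tt N23974 D56744) (tt N22679 F248864) (tt N21243 F248865) (tt N23273 (iv F251182)) (tt N23964 (iv F254734)) (tt N21098 F248866))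
theorem Q22681 : ∀ i, i < 22681 → P i := stepQ 22680 Q22680 (allL N22680 (tt N21579 F248867) (tt N21560 F248868) (tt N23974 (iv F254781)) (tt N21542 F248869) (tt N21097 (iv D55450)) (tt N23349 (iv F251673)) (tt N21564 F248870) (tt N23358 (iv F251730)) (tt N23965 (iv F254739)) (tt N21099 F248871))
theorem Q22682 : ∀ i, i < 22682 → P i := stepQ 22681 Q22681 (allL N22681 (tt N21554 F248872) (tt N21238 F248873) (tt N21099 F248874) (tt N23328 (iv F251550)) (tt N21098 (iv D55451)) (tt N23327 F251546) (tt N21242 F248875) (tt N23241 (iv F250993)) (tt N21100 F248876) (tt N23974 (iv F254783)))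
theorem Q22683 : ∀ i, i < 22683 → P i := stepQ 22682 Q22682 (allL N22682 (tt N21244 F248877) (tt N21269 F248878) (tt N21101 F248879) (tt N21143 F248880) (tt N22682 F248881) (tt N21100 (iv D55452)) (tt N23207 (iv F250765)) (tt N21173 F248882) (tt N23327 (iv F251545)) (tt N23968 (iv F254756)))
theorem Q22684 : ∀ i, i < 22684 → P i := stepQ 22683 Q22683 (allL N22683 (tt N23455 (iv F252275)) (tt N21104 F248883) (tt N23453 (iv F252259)) (tt N21102 (iv D55453)) (tt N21360 F248884) (tt N23452 (iv F252252)) (tt N21357 F248885) (tt N21138 F248886) (tt N22683 F248887) (tt N21361 F248888))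
theorem Q22685 : ∀ i, i < 22685 → P i := stepQ 22684 Q22684 (allL N22684 (tt N21360 F248889) (tt N23452 (iv F252249)) (tt N21357 F248890) (tt N21103 (iv D55454)) (tt N23455 (iv F252278)) (tt N21104 F248891) (tt N23453 (iv F252262)) (tt N21140 F248892) (tt N22684 F248893) (tt N21359 F248894))
theorem Q22686 : ∀ i, i < 22686 → P i := stepQ 22685 Q22685 (allL N22685 (tt N21119 F248895) (tt N21381 F248896) (tt N23182 (iv F250594)) (tt N23975 D56745) (tt N21106 F248897) (tt N21409 F248898) (tt N23162 (iv F250451)) (tt N21111 F248899) (tt N21105 (iv D55455)) (tt N21107 F248900))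
theorem Q22687 : ∀ i, i < 22687 → P i := stepQ 22686 Q22686 (allL N22686 (tt N21454 F248901) (tt N21393 F248902) (tt N23976 D56746) (tt N21107 (iv D55456)) (tt N21130 F248903) (tt N21417 F248904) (tt N23170 (iv F250507)) (tt N23189 (iv F250645)) (tt N21157 F248905) (tt N23975 (iv F254790)))
theorem Q22688 : ∀ i, i < 22688 → P i := stepQ 22687 Q22687 (allL N22687 (tt N21392 F248906) (tt N21111 F248907) (tt N23611 (iv F253230)) (tt N23977 D56747) (tt N21109 F248908) (tt N21371 F248909) (tt N23180 (iv F250582)) (tt N21381 F248910) (tt N21108 (iv D55457)) (tt N21385 F248911))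
theorem Q22689 : ∀ i, i < 22689 → P i := stepQ 22688 Q22688 (allL N22688 (tt N21129 F248912) (tt N21371 F248913) (tt N23183 (iv F250602)) (tt N23978 D56748) (tt N21112 F248914) (tt N21111 F248915) (tt N23468 (iv F252394)) (tt N21409 F248916) (tt N21110 (iv D55458)) (tt N21414 F248917))
theorem Q22690 : ∀ i, i < 22690 → P i := stepQ 22689 Q22689 (allL N22689 (tt N21130 F248918) (tt N23977 (iv F254796)) (tt N23979 D56749) (tt N21111 (iv D55459)) (tt N21454 F248919) (tt N23978 (iv F254805)) (tt N23181 (iv F250588)) (tt N23975 (iv F254788)) (tt N21202 F248920) (tt N23189 (iv F250647)))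
theorem Q22691 : ∀ i, i < 22691 → P i := stepQ 22690 Q22690 (allL N22690 (tt N23189 (iv F250640)) (tt N21427 F248921) (tt N23980 D56750) (tt N21113 (iv D55460)) (tt N23975 (iv F254786)) (tt N21439 F248922) (tt N23184 (iv F250610)) (tt N21454 F248923) (tt N21614 F248924) (tt N21130 F248925))
theorem Q22692 : ∀ i, i < 22692 → P i := stepQ 22691 Q22691 (allL N22691 (tt N23162 (iv F250447)) (tt N21434 F248926) (tt N23166 (iv F250479)) (tt N23981 D56751) (tt N21116 F248927) (tt N23618 (iv F253261)) (tt N21119 F248928) (tt N23168 (iv F250497)) (tt N21115 (iv D55461)) (tt N21453 F248929))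
theorem Q22693 : ∀ i, i < 22693 → P i := stepQ 22692 Q22692 (allL N22692 (tt N23182 (iv F250592)) (tt N23509 (iv F252656)) (tt N21119 F248930) (tt N23982 D56752) (tt N21118 F248931) (tt N21425 F248932) (tt N23166 (iv F250481)) (tt N21127 F248933) (tt N21117 (iv D55462)) (tt N21449 F248934))
theorem Q22694 : ∀ i, i < 22694 → P i := stepQ 22693 Q22693 (allL N22693 (tt N23975 (iv F254784)) (tt N21439 F248935) (tt N23983 D56753) (tt N21119 (iv D55463)) (tt N23189 (iv F250642)) (tt N21427 F248936) (tt N23981 (iv F254818)) (tt N21130 F248937) (tt N21284 F248938) (tt N21454 F248939))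
theorem Q22695 : ∀ i, i < 22695 → P i := stepQ 22694 Q22694 (allL N22694 (tt N23500 (iv F252600)) (tt N21126 F248940) (tt N21443 F248941) (tt N21493 F248942) (tt N21132 F248943) (tt N21121 F248944) (tt N23473 (iv F252432)) (tt N21421 F248945) (tt N23984 D56754) (tt N21120 (iv D55464)))
theorem Q22696 : ∀ i, i < 22696 → P i := stepQ 22695 Q22695 (allL N22695 (tt N23529 (iv F252765)) (tt N21127 F248946) (tt N21444 F248947) (tt N23985 D56755) (tt N21122 F248948) (tt N23984 (iv F254831)) (tt N21385 F248949) (tt N23509 (iv F252661)) (tt N21121 (iv D55465)) (tt N23180 (iv F250584)))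
theorem Q22697 : ∀ i, i < 22697 → P i := stepQ 22696 Q22696 (allL N22696 (tt N21603 F248950) (tt N21493 F248951) (tt N21297 F248952) (tt N21126 F248953) (tt N22696 F248954) (tt N21124 F248955) (tt N21532 F248956) (tt N21424 F248957) (tt N23986 D56756) (tt N21123 (iv D55466)))
theorem Q22698 : ∀ i, i < 22698 → P i := stepQ 22697 Q22697 (allL N22697 (tt N21613 F248958) (tt N21494 F248959) (tt N21299 F248960) (tt N23987 D56757) (tt N21142 F248961) (tt N23986 (iv F254842)) (tt N21150 F248962) (tt N23234 (iv F250949)) (tt N21124 (iv D55467)) (tt N23302 (iv F251380)))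
theorem Q22699 : ∀ i, i < 22699 → P i := stepQ 22698 Q22698 (allL N22698 (tt N21433 F248963) (tt N23473 (iv F252427)) (tt N21128 F248964) (tt N21532 F248965) (tt N21134 F248966) (tt N21412 F248967) (tt N21126 F248968) (tt N23495 (iv F252578)) (tt N23988 D56758) (tt N21125 (iv D55468)))
theorem Q22700 : ∀ i, i < 22700 → P i := stepQ 22699 Q22699 (allL N22699 (tt N23183 (iv F250600)) (tt N23984 (iv F254828)) (tt N21129 F248969) (tt N23989 D56759) (tt N21135 F248970) (tt N21127 F248971) (tt N23988 (iv F254854)) (tt N21425 F248972) (tt N21126 (iv D55469)) (tt N21437 F248973))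
theorem Q22701 : ∀ i, i < 22701 → P i := stepQ 22700 Q22700 (allL N22700 (tt N23184 (iv F250608)) (tt N23985 (iv F254834)) (tt N23990 D56760) (tt N21127 (iv D55470)) (tt N23981 (iv F254817)) (tt N23989 (iv F254856)) (tt N23189 (iv F250644)) (tt N23982 (iv F254822)) (tt N23987 (iv F254849)) (tt N23181 (iv F250591)))
theorem Q22702 : ∀ i, i < 22702 → P i := stepQ 22701 Q22701 (allL N22701 (tt N23468 (iv F252389)) (tt N21453 F248974) (tt N23988 (iv F254851)) (tt N23991 D56761) (tt N21137 F248975) (tt N23191 (iv F250660)) (tt N21129 F248976) (tt N23603 (iv F253186)) (tt N21128 (iv D55471)) (tt N21434 F248977))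
theorem Q22703 : ∀ i, i < 22703 → P i := stepQ 22702 Q22702 (allL N22702 (tt N23978 (iv F254802)) (tt N21454 F248978) (tt N23992 D56762) (tt N21129 (iv D55472)) (tt N23977 (iv F254797)) (tt N21130 F248979) (tt N23991 (iv F254861)) (tt N21427 F248980) (tt N21307 F248981) (tt N21439 F248982))
theorem Q22704 : ∀ i, i < 22704 → P i := stepQ 22703 Q22703 (allL N22703 (tt N23979 (iv F254809)) (tt N23993 D56763) (tt N21130 (iv D55473)) (tt N23990 (iv F254859)) (tt N23976 (iv F254792)) (tt N23992 (iv F254864)) (tt N23193 (iv F250668)) (tt N23983 (iv F254825)) (tt N21308 F248983) (tt N23980 (iv F254815)))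
theorem Q22705 : ∀ i, i < 22705 → P i := stepQ 22704 Q22704 (allL N22704 (tt N23505 (iv F252630)) (tt N21135 F248984) (tt N21458 F248985) (tt N23994 D56764) (tt N23984 (iv F254830)) (tt N21133 F248986) (tt N23476 (iv F252451)) (tt N21422 F248987) (tt N21132 (iv D55474)) (tt N21436 F248988))
theorem Q22706 : ∀ i, i < 22706 → P i := stepQ 22705 Q22705 (allL N22705 (tt N23508 (iv F252648)) (tt N21136 F248989) (tt N23503 (iv F252616)) (tt N21133 (iv D55475)) (tt N23187 (iv F250630)) (tt N23994 (iv F254871)) (tt N21138 F248990) (tt N21428 F248991) (tt N22705 F248992) (tt N21456 F248993))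
theorem Q22707 : ∀ i, i < 22707 → P i := stepQ 22706 Q22706 (allL N22706 (tt N23185 (iv F250613)) (tt N23476 (iv F252448)) (tt N21137 F248994) (tt N23995 D56765) (tt N23988 (iv F254852)) (tt N21139 F248995) (tt N21135 F248996) (tt N23496 (iv F252583)) (tt N21134 (iv D55476)) (tt N21432 F248997))
theorem Q22708 : ∀ i, i < 22708 → P i := stepQ 22707 Q22707 (allL N22707 (tt N23186 (iv F250620)) (tt N23994 (iv F254870)) (tt N23612 (iv F253238)) (tt N21135 (iv D55477)) (tt N23996 D56766) (tt N21136 F248998) (tt N23995 (iv F254877)) (tt N21426 F248999) (tt N22707 F249000) (tt N21438 F249001))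
theorem Q22709 : ∀ i, i < 22709 → P i := stepQ 22708 Q22708 (allL N22708 (tt N23187 (iv F250627)) (tt N23477 (iv F252455)) (tt N21428 F249002) (tt N21139 (iv D55478)) (tt N23508 (iv F252651)) (tt N23995 (iv F254876)) (tt N21140 F249003) (tt N23503 (iv F252619)) (tt N22708 F249004) (tt N21459 F249005))
theorem Q22710 : ∀ i, i < 22710 → P i := stepQ 22709 Q22709 (allL N22709 (tt N21245 F249006) (tt N23235 (iv F250951)) (tt N21145 F249007) (tt N23968 (iv F254753)) (tt N21144 F249008) (tt N21525 F249009) (tt N23209 (iv F250780)) (tt N21174 F249010) (tt N23997 D56767) (tt N21143 (iv D55479)))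
theorem Q22711 : ∀ i, i < 22711 → P i := stepQ 22710 Q22710 (allL N22710 (tt N21246 F249011) (tt N23254 (iv F251065)) (tt N21146 F249012) (tt N23998 D56768) (tt N23997 (iv F254885)) (tt N21177 F249013) (tt N23210 (iv F250785)) (tt N21175 F249014) (tt N21144 (iv D55480)) (tt N21190 F249015))
theorem Q22712 : ∀ i, i < 22712 → P i := stepQ 22711 Q22711 (allL N22711 (tt N21247 F249016) (tt N21483 F249017) (tt N23997 (iv F254884)) (tt N23999 D56769) (tt N21146 F249018) (tt N21527 F249019) (tt N23212 (iv F250797)) (tt N21176 F249020) (tt N21145 (iv D55481)) (tt N21192 F249021))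
theorem Q22713 : ∀ i, i < 22713 → P i := stepQ 22712 Q22712 (allL N22712 (tt N21237 F249022) (tt N21486 F249023) (tt N23401 (iv F251968)) (tt N24000 D56770) (tt N21148 F249024) (tt N21528 F249025) (tt N23302 (iv F251379)) (tt N21149 F249026) (tt N21147 (iv D55482)) (tt N21150 F249027))
theorem Q22714 : ∀ i, i < 22714 → P i := stepQ 22713 Q22713 (allL N22713 (tt N21587 F249028) (tt N21488 F249029) (tt N24001 D56771) (tt N21149 (iv D55483)) (tt N21260 F249030) (tt N21529 F249031) (tt N23226 (iv F250894)) (tt N24000 (iv F254906)) (tt N23999 (iv F254900)) (tt N21157 F249032))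
theorem Q22715 : ∀ i, i < 22715 → P i := stepQ 22714 Q22714 (allL N22714 (tt N21614 F249033) (tt N21504 F249034) (tt N24002 D56772) (tt N21150 (iv D55484)) (tt N21284 F249035) (tt N21537 F249036) (tt N23987 (iv F254848)) (tt N21157 F249037) (tt N23189 (iv F250646)) (tt N24000 (iv F254908)))
theorem Q22716 : ∀ i, i < 22716 → P i := stepQ 22715 Q22715 (allL N22715 (tt N21153 F249038) (tt N21616 F249039) (tt N21258 F249040) (tt N23383 (iv F251872)) (tt N21152 F249041) (tt N21538 F249042) (tt N21255 F249043) (tt N23393 (iv F251925)) (tt N24003 D56773) (tt N21151 (iv D55485)))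
theorem Q22717 : ∀ i, i < 22717 → P i := stepQ 22716 Q22716 (allL N22716 (tt N21154 F249044) (tt N21647 F249045) (tt N21267 F249046) (tt N23422 (iv F252072)) (tt N24003 (iv F254920)) (tt N21161 F249047) (tt N21266 F249048) (tt N23440 (iv F252175)) (tt N21152 (iv D55486)) (tt N21324 F249049))
theorem Q22718 : ∀ i, i < 22718 → P i := stepQ 22717 Q22717 (allL N22717 (tt N24003 (iv F254917)) (tt N21155 F249050) (tt N21508 F249051) (tt N24004 D56774) (tt N21154 F249052) (tt N21541 F249053) (tt N23243 (iv F251007)) (tt N23397 (iv F251953)) (tt N21153 (iv D55487)) (tt N23690 (iv F253564)))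
theorem Q22719 : ∀ i, i < 22719 → P i := stepQ 22718 Q22718 (allL N22718 (tt N23422 (iv F252069)) (tt N21156 F249054) (tt N23299 (iv F251353)) (tt N21154 (iv D55488)) (tt N24005 D56775) (tt N21162 F249055) (tt N23244 (iv F251014)) (tt N23443 (iv F252195)) (tt N21164 F249056) (tt N23691 (iv F253571)))
theorem Q22720 : ∀ i, i < 22720 → P i := stepQ 22719 Q22719 (allL N22719 (tt N21631 F249057) (tt N24004 (iv F254924)) (tt N24006 D56776) (tt N21155 (iv D55489)) (tt N24007 D56777) (tt N21544 F249058) (tt N23250 (iv F251052)) (tt N23402 (iv F251977)) (tt N23387 (iv F251896)) (tt N23919 (iv F254570)))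
theorem Q22721 : ∀ i, i < 22721 → P i := stepQ 22720 Q22720 (allL N22720 (tt N21653 F249059) (tt N24005 (iv F254926)) (tt N21304 F249060) (tt N24007 (iv F254932)) (tt N21156 (iv D55490)) (tt N23862 (iv F254358)) (tt N23251 (iv F251055)) (tt N23447 (iv F252219)) (tt N21165 F249061) (tt N23942 (iv F254644)))
theorem Q22722 : ∀ i, i < 22722 → P i := stepQ 22721 Q22721 (allL N22721 (tt N21637 F249062) (tt N24008 D56778) (tt N21157 (iv D55491)) (tt N24006 (iv F254929)) (tt N21308 F249063) (tt N21545 F249064) (tt N23253 (iv F251063)) (tt N24002 (iv F254916)) (tt N23976 (iv F254794)) (tt N24001 (iv F254912)))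
theorem Q22723 : ∀ i, i < 22723 → P i := stepQ 22722 Q22722 (allL N22722 (tt N21159 F249065) (tt N21640 F249066) (tt N21268 F249067) (tt N23415 (iv F252029)) (tt N21546 F249068) (tt N23440 (iv F252173)) (tt N22722 F249069) (tt N21161 F249070) (tt N21158 (iv D55492)) (tt N21331 F249071))
theorem Q22724 : ∀ i, i < 22724 → P i := stepQ 22723 Q22723 (allL N22723 (tt N23415 (iv F252026)) (tt N21160 F249072) (tt N21676 F249073) (tt N21159 (iv D55493)) (tt N23414 (iv F252021)) (tt N23443 (iv F252193)) (tt N22723 F249074) (tt N21162 F249075) (tt N21167 F249076) (tt N23693 (iv F253584)))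
theorem Q22725 : ∀ i, i < 22725 → P i := stepQ 22724 Q22724 (allL N22724 (tt N23445 (iv F252203)) (tt N21165 F249077) (tt N23300 (iv F251361)) (tt N23438 (iv F252162)) (tt N21164 (iv D55494)) (tt N23435 (iv F252149)) (tt N23276 (iv F251200)) (tt N23444 (iv F252201)) (tt N24005 (iv F254927)) (tt N22724 F249078))
theorem Q22726 : ∀ i, i < 22726 → P i := stepQ 22725 Q22725 (allL N22725 (tt N21698 F249079) (tt N23435 (iv F252147)) (tt N21346 F249080) (tt N23439 (iv F252166)) (tt N21169 F249081) (tt N21165 (iv D55495)) (tt N23436 (iv F252155)) (tt N23448 (iv F252225)) (tt N23862 (iv F254359)) (tt N22725 F249082))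
theorem Q22727 : ∀ i, i < 22727 → P i := stepQ 22726 Q22726 (allL N22726 (tt N21681 F249083) (tt N23433 (iv F252135)) (tt N21347 F249084) (tt N21679 F249085) (tt N23448 (iv F252224)) (tt N21168 (iv D55496)) (tt N24009 D56779) (tt N21169 F249086) (tt N23855 (iv F254321)) (tt N22726 F249087))
theorem Q22728 : ∀ i, i < 22728 → P i := stepQ 22727 Q22727 (allL N22727 (tt N21503 F249088) (tt N21192 F249089) (tt N23707 (iv F253646)) (tt N24010 D56780) (tt N21171 F249090) (tt N21481 F249091) (tt N23493 (iv F252564)) (tt N21172 F249092) (tt N21170 (iv D55497)) (tt N21483 F249093))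
theorem Q22729 : ∀ i, i < 22729 → P i := stepQ 22728 Q22728 (allL N22728 (tt N21513 F249094) (tt N21202 F249095) (tt N24011 D56781) (tt N21172 (iv D55498)) (tt N21307 F249096) (tt N21482 F249097) (tt N23297 (iv F251342)) (tt N24010 (iv F254947)) (tt N23977 (iv F254800)) (tt N23721 (iv F253721)))
theorem Q22730 : ∀ i, i < 22730 → P i := stepQ 22729 Q22729 (allL N22729 (tt N21254 F249098) (tt N23246 (iv F251027)) (tt N23359 (iv F251733)) (tt N21174 F249099) (tt N22729 F249100) (tt N23242 (iv F250999)) (tt N23304 (iv F251393)) (tt N23968 (iv F254755)) (tt N24012 D56782) (tt N21173 (iv D55499)))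
theorem Q22731 : ∀ i, i < 22731 → P i := stepQ 22730 Q22730 (allL N22730 (tt N21256 F249101) (tt N23249 (iv F251045)) (tt N21176 F249102) (tt N24013 D56783) (tt N21175 F249103) (tt N23243 (iv F251006)) (tt N23305 (iv F251400)) (tt N23997 (iv F254887)) (tt N21174 (iv D55500)) (tt N21199 F249104))
theorem Q22732 : ∀ i, i < 22732 → P i := stepQ 22731 Q22731 (allL N22731 (tt N21257 F249105) (tt N23260 (iv F251099)) (tt N21596 F249106) (tt N21175 (iv D55501)) (tt N24014 D56784) (tt N21178 F249107) (tt N23306 (iv F251407)) (tt N23998 (iv F254892)) (tt N22731 F249108) (tt N21200 F249109))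
theorem Q22733 : ∀ i, i < 22733 → P i := stepQ 22732 Q22732 (allL N22732 (tt N21260 F249110) (tt N23721 (iv F253716)) (tt N24015 D56785) (tt N21176 (iv D55502)) (tt N21587 F249111) (tt N23719 (iv F253702)) (tt N23308 (iv F251421)) (tt N23999 (iv F254899)) (tt N24000 (iv F254907)) (tt N21202 F249112))
theorem Q22734 : ∀ i, i < 22734 → P i := stepQ 22733 Q22733 (allL N22733 (tt N21262 F249113) (tt N23255 (iv F251071)) (tt N21591 F249114) (tt N21177 (iv D55503)) (tt N23790 (iv F254028)) (tt N23998 (iv F254891)) (tt N22733 F249115) (tt N21178 F249116) (tt N22733 F249117) (tt N21206 F249118))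
theorem Q22735 : ∀ i, i < 22735 → P i := stepQ 22734 Q22734 (allL N22734 (tt N21551 F249119) (tt N21180 F249120) (tt N23218 (iv F250839)) (tt N21549 F249121) (tt N21179 (iv D55504)) (tt N23596 (iv F253155)) (tt N21185 F249122) (tt N21618 F249123) (tt N23205 (iv F250751)) (tt N24016 D56786))
theorem Q22736 : ∀ i, i < 22736 → P i := stepQ 22735 Q22735 (allL N22735 (tt N21665 F249124) (tt N21181 F249125) (tt N23228 (iv F250905)) (tt N21213 F249126) (tt N24016 (iv F254967)) (tt N22735 F249127) (tt N21186 F249128) (tt N21658 F249129) (tt N24017 D56787) (tt N21179 (iv D55505)))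
theorem Q22737 : ∀ i, i < 22737 → P i := stepQ 22736 Q22736 (allL N22736 (tt N21270 F249130) (tt N24016 (iv F254965)) (tt N21183 F249131) (tt N21629 F249132) (tt N21181 F249133) (tt N23905 (iv F254530)) (tt N21189 F249134) (tt N21624 F249135) (tt N24018 D56788) (tt N21180 (iv D55506)))
theorem Q22738 : ∀ i, i < 22738 → P i := stepQ 22737 Q22737 (allL N22737 (tt N21271 F249136) (tt N24017 (iv F254971)) (tt N21184 F249137) (tt N24019 D56789) (tt N24018 (iv F254977)) (tt N22737 F249138) (tt N21190 F249139) (tt N21683 F249140) (tt N21181 (iv D55507)) (tt N23210 (iv F250787)))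
theorem Q22739 : ∀ i, i < 22739 → P i := stepQ 22738 Q22738 (allL N22738 (tt N21272 F249141) (tt N23492 (iv F252556)) (tt N23905 (iv F254527)) (tt N23161 (iv F250442)) (tt N22738 F249142) (tt N21183 F249143) (tt N23544 (iv F252867)) (tt N23310 (iv F251437)) (tt N24020 D56790) (tt N21182 (iv D55508)))
theorem Q22740 : ∀ i, i < 22740 → P i := stepQ 22739 Q22739 (allL N22739 (tt N21273 F249144) (tt N23493 (iv F252562)) (tt N24018 (iv F254976)) (tt N24021 D56791) (tt N21184 F249145) (tt N24020 (iv F254988)) (tt N21192 F249146) (tt N23311 (iv F251442)) (tt N21183 (iv D55509)) (tt N23212 (iv F250798)))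
theorem Q22741 : ∀ i, i < 22741 → P i := stepQ 22740 Q22740 (allL N22740 (tt N23814 (iv F254140)) (tt N21189 F249147) (tt N23219 (iv F250847)) (tt N23812 (iv F254131)) (tt N21186 F249148) (tt N23216 (iv F250827)) (tt N24016 (iv F254968)) (tt N21194 F249149) (tt N24022 D56792) (tt N21185 (iv D55510)))
theorem Q22742 : ∀ i, i < 22742 → P i := stepQ 22741 Q22741 (allL N22741 (tt N23861 (iv F254349)) (tt N21190 F249150) (tt N23229 (iv F250912)) (tt N24023 D56793) (tt N24022 (iv F254993)) (tt N21203 F249151) (tt N24017 (iv F254973)) (tt N21195 F249152) (tt N21186 (iv D55511)) (tt N23254 (iv F251069)))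
theorem Q22743 : ∀ i, i < 22743 → P i := stepQ 22742 Q22742 (allL N22742 (tt N21277 F249153) (tt N23215 (iv F250816)) (tt N21406 F249154) (tt N21188 F249155) (tt N22742 F249156) (tt N21187 (iv D55512)) (tt N23540 (iv F252837)) (tt N21196 F249157) (tt N23328 (iv F251554)) (tt N24024 D56794))
theorem Q22744 : ∀ i, i < 22744 → P i := stepQ 22743 Q22743 (allL N22743 (tt N21279 F249158) (tt N23812 (iv F254130)) (tt N21612 F249159) (tt N21189 F249160) (tt N21216 F249161) (tt N24024 (iv F255003)) (tt N21629 F249162) (tt N21197 F249163) (tt N24025 D56795) (tt N21187 (iv D55513)))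
theorem Q22745 : ∀ i, i < 22745 → P i := stepQ 22744 Q22744 (allL N22744 (tt N21280 F249164) (tt N23216 (iv F250824)) (tt N21191 F249165) (tt N24024 (iv F255001)) (tt N21204 F249166) (tt N21189 F249167) (tt N23542 (iv F252853)) (tt N21198 F249168) (tt N24026 D56796) (tt N21188 (iv D55514)))
theorem Q22746 : ∀ i, i < 22746 → P i := stepQ 22745 Q22745 (allL N22745 (tt N21281 F249169) (tt N24022 (iv F254992)) (tt N21192 F249170) (tt N24027 D56797) (tt N21190 F249171) (tt N24026 (iv F255013)) (tt N24018 (iv F254978)) (tt N21199 F249172) (tt N21189 (iv D55515)) (tt N23997 (iv F254888)))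
theorem Q22747 : ∀ i, i < 22747 → P i := stepQ 22746 Q22746 (allL N22746 (tt N21282 F249173) (tt N24023 (iv F254995)) (tt N21643 F249174) (tt N21190 (iv D55516)) (tt N24028 D56798) (tt N21206 F249175) (tt N24019 (iv F254983)) (tt N21200 F249176) (tt N21218 F249177) (tt N23998 (iv F254894)))
theorem Q22748 : ∀ i, i < 22748 → P i := stepQ 22747 Q22747 (allL N22747 (tt N21283 F249178) (tt N21481 F249179) (tt N24026 (iv F255011)) (tt N24029 D56799) (tt N21207 F249180) (tt N21192 F249181) (tt N23545 (iv F252871)) (tt N21201 F249182) (tt N21191 (iv D55517)) (tt N21527 F249183))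
theorem Q22749 : ∀ i, i < 22749 → P i := stepQ 22748 Q22748 (allL N22748 (tt N21284 F249184) (tt N24010 (iv F254944)) (tt N24030 D56800) (tt N21192 (iv D55518)) (tt N21614 F249185) (tt N24029 (iv F255025)) (tt N24021 (iv F254991)) (tt N21202 F249186) (tt N23975 (iv F254789)) (tt N23999 (iv F254901)))
theorem Q22750 : ∀ i, i < 22750 → P i := stepQ 22749 Q22749 (allL N22749 (tt N23804 (iv F254091)) (tt N21197 F249187) (tt N23594 (iv F253142)) (tt N21194 F249188) (tt N21220 F249189) (tt N23222 (iv F250868)) (tt N21606 F249190) (tt N23812 (iv F254134)) (tt N24031 D56801) (tt N21193 (iv D55519)))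
theorem Q22751 : ∀ i, i < 22751 → P i := stepQ 22750 Q22750 (allL N22750 (tt N23846 (iv F254283)) (tt N21199 F249191) (tt N23225 (iv F250886)) (tt N24032 D56802) (tt N21195 F249192) (tt N23223 (iv F250874)) (tt N21634 F249193) (tt N24022 (iv F254994)) (tt N21194 (iv D55520)) (tt N23249 (iv F251050)))
theorem Q22752 : ∀ i, i < 22752 → P i := stepQ 22751 Q22751 (allL N22751 (tt N23427 (iv F252098)) (tt N21200 F249194) (tt N23946 (iv F254658)) (tt N21195 (iv D55521)) (tt N24033 D56803) (tt N21208 F249195) (tt N21654 F249196) (tt N24023 (iv F254997)) (tt N21222 F249197) (tt N23260 (iv F251103)))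
theorem Q22753 : ∀ i, i < 22753 → P i := stepQ 22752 Q22752 (allL N22752 (tt N21297 F249198) (tt N23222 (iv F250865)) (tt N21603 F249199) (tt N21198 F249200) (tt N22752 F249201) (tt N21197 F249202) (tt N21601 F249203) (tt N24024 (iv F255004)) (tt N24034 D56804) (tt N21196 (iv D55522)))
theorem Q22754 : ∀ i, i < 22754 → P i := stepQ 22753 Q22753 (allL N22753 (tt N21299 F249204) (tt N24031 (iv F255032)) (tt N21613 F249205) (tt N24035 D56805) (tt N21223 F249206) (tt N24034 (iv F255043)) (tt N21609 F249207) (tt N24025 (iv F255009)) (tt N21197 (iv D55523)) (tt N23340 (iv F251623)))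
theorem Q22755 : ∀ i, i < 22755 → P i := stepQ 22754 Q22754 (allL N22754 (tt N21302 F249208) (tt N23223 (iv F250871)) (tt N21201 F249209) (tt N24036 D56806) (tt N21209 F249210) (tt N21199 F249211) (tt N23690 (iv F253563)) (tt N24026 (iv F255014)) (tt N21198 (iv D55524)) (tt N23243 (iv F251009)))
theorem Q22756 : ∀ i, i < 22756 → P i := stepQ 22755 Q22755 (allL N22755 (tt N21303 F249212) (tt N24032 (iv F255035)) (tt N24037 D56807) (tt N21199 (iv D55525)) (tt N24038 D56808) (tt N24036 (iv F255049)) (tt N23313 (iv F251451)) (tt N24027 (iv F255017)) (tt N24035 (iv F255047)) (tt N24013 (iv F254956)))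
theorem Q22757 : ∀ i, i < 22757 → P i := stepQ 22756 Q22756 (allL N22756 (tt N21304 F249213) (tt N24033 (iv F255037)) (tt N21653 F249214) (tt N24038 (iv F255053)) (tt N21200 (iv D55526)) (tt N24039 D56809) (tt N23314 (iv F251458)) (tt N24028 (iv F255020)) (tt N21225 F249215) (tt N24014 (iv F254960)))
theorem Q22758 : ∀ i, i < 22758 → P i := stepQ 22757 Q22757 (allL N22757 (tt N21307 F249216) (tt N21482 F249217) (tt N24040 D56810) (tt N21201 (iv D55527)) (tt N21513 F249218) (tt N21202 F249219) (tt N23692 (iv F253575)) (tt N24029 (iv F255026)) (tt N23978 (iv F254807)) (tt N23719 (iv F253706)))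
theorem Q22759 : ∀ i, i < 22759 → P i := stepQ 22758 Q22758 (allL N22758 (tt N21308 F249220) (tt N24041 D56811) (tt N21202 (iv D55528)) (tt N24037 (iv F255051)) (tt N21637 F249221) (tt N24040 (iv F255060)) (tt N23318 (iv F251482)) (tt N24030 (iv F255031)) (tt N23979 (iv F254811)) (tt N24015 (iv F254963)))
theorem Q22760 : ∀ i, i < 22760 → P i := stepQ 22759 Q22759 (allL N22759 (tt N23421 (iv F252061)) (tt N21206 F249222) (tt N23936 (iv F254617)) (tt N21203 (iv D55529)) (tt N24042 D56812) (tt N24023 (iv F254996)) (tt N22759 F249223) (tt N21208 F249224) (tt N21227 F249225) (tt N23255 (iv F251075)))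
theorem Q22761 : ∀ i, i < 22761 → P i := stepQ 22760 Q22760 (allL N22760 (tt N21315 F249226) (tt N23217 (iv F250831)) (tt N21207 F249227) (tt N24043 D56813) (tt N24026 (iv F255012)) (tt N21205 F249228) (tt N23543 (iv F252859)) (tt N21209 F249229) (tt N21204 (iv D55530)) (tt N21526 F249230))
theorem Q22762 : ∀ i, i < 22762 → P i := stepQ 22761 Q22761 (allL N22761 (tt N21316 F249231) (tt N23227 (iv F250897)) (tt N21518 F249232) (tt N21205 (iv D55531)) (tt N23761 (iv F253894)) (tt N24043 (iv F255070)) (tt N22761 F249233) (tt N21210 F249234) (tt N22761 F249235) (tt N21699 F249236))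
theorem Q22763 : ∀ i, i < 22763 → P i := stepQ 22762 Q22762 (allL N22762 (tt N21317 F249237) (tt N24042 (iv F255063)) (tt N21644 F249238) (tt N23761 (iv F253893)) (tt N21206 (iv D55532)) (tt N24044 D56814) (tt N22762 F249239) (tt N21211 F249240) (tt N21228 F249241) (tt N23790 (iv F254032)))
theorem Q22764 : ∀ i, i < 22764 → P i := stepQ 22763 Q22763 (allL N22763 (tt N23266 (iv F251131)) (tt N21211 F249242) (tt N21656 F249243) (tt N23231 (iv F250926)) (tt N21208 (iv D55533)) (tt N24045 D56815) (tt N21212 F249244) (tt N24042 (iv F255066)) (tt N21229 F249245) (tt N23262 (iv F251117)))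
theorem Q22765 : ∀ i, i < 22765 → P i := stepQ 22764 Q22764 (allL N22764 (tt N21325 F249246) (tt N23224 (iv F250878)) (tt N21522 F249247) (tt N21209 (iv D55534)) (tt N24046 D56816) (tt N21210 F249248) (tt N23691 (iv F253569)) (tt N24043 (iv F255071)) (tt N22764 F249249) (tt N23244 (iv F251017)))
theorem Q22766 : ∀ i, i < 22766 → P i := stepQ 22765 Q22765 (allL N22765 (tt N21326 F249250) (tt N24045 (iv F255078)) (tt N21654 F249251) (tt N23762 (iv F253900)) (tt N24039 (iv F255056)) (tt N21211 (iv D55535)) (tt N23946 (iv F254660)) (tt N24044 (iv F255076)) (tt N21230 F249252) (tt N23794 (iv F254048)))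
theorem Q22767 : ∀ i, i < 22767 → P i := stepQ 22766 Q22766 (allL N22766 (tt N21666 F249253) (tt N21214 F249254) (tt N22766 F249255) (tt N24047 D56817) (tt N21664 F249256) (tt N22766 F249257) (tt N21215 F249258) (tt N21680 F249259) (tt N21213 (iv D55536)) (tt N22766 F249260))
theorem Q22768 : ∀ i, i < 22768 → P i := stepQ 22767 Q22767 (allL N22767 (tt N21333 F249261) (tt N24047 (iv F255086)) (tt N21224 F249262) (tt N21214 (iv D55537)) (tt N24048 D56818) (tt N22767 F249263) (tt N21218 F249264) (tt N21687 F249265) (tt N24019 (iv F254985)) (tt N22767 F249266))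
theorem Q22769 : ∀ i, i < 22769 → P i := stepQ 22768 Q22768 (allL N22768 (tt N23431 (iv F252121)) (tt N21218 F249267) (tt N23956 (iv F254696)) (tt N21215 (iv D55538)) (tt N24049 D56819) (tt N21227 F249268) (tt N24047 (iv F255088)) (tt N21222 F249269) (tt N24023 (iv F254998)) (tt N22768 F249270))
theorem Q22770 : ∀ i, i < 22770 → P i := stepQ 22769 Q22769 (allL N22769 (tt N21336 F249271) (tt N23813 (iv F254136)) (tt N21646 F249272) (tt N24050 D56820) (tt N24025 (iv F255007)) (tt N22769 F249273) (tt N21651 F249274) (tt N21223 F249275) (tt N21216 (iv D55539)) (tt N23330 (iv F251565)))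
theorem Q22771 : ∀ i, i < 22771 → P i := stepQ 22770 Q22770 (allL N22770 (tt N21337 F249276) (tt N23970 (iv F254765)) (tt N21687 F249277) (tt N21217 (iv D55540)) (tt N24051 D56821) (tt N22770 F249278) (tt N21688 F249279) (tt N21224 F249280) (tt N24050 (iv F255105)) (tt N22770 F249281))
theorem Q22772 : ∀ i, i < 22772 → P i := stepQ 22771 Q22771 (allL N22771 (tt N21338 F249282) (tt N24049 (iv F255097)) (tt N21693 F249283) (tt N24051 (iv F255108)) (tt N21218 (iv D55541)) (tt N24052 D56822) (tt N24048 (iv F255094)) (tt N21225 F249284) (tt N24028 (iv F255021)) (tt N22771 F249285))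
theorem Q22773 : ∀ i, i < 22773 → P i := stepQ 22772 Q22772 (allL N22772 (tt N23805 (iv F254098)) (tt N21223 F249286) (tt N23595 (iv F253146)) (tt N24053 D56823) (tt N24031 (iv F255033)) (tt N22772 F249287) (tt N21641 F249288) (tt N23813 (iv F254139)) (tt N21220 (iv D55542)) (tt N23337 (iv F251608)))
theorem Q22774 : ∀ i, i < 22774 → P i := stepQ 22773 Q22773 (allL N22773 (tt N23450 (iv F252233)) (tt N21224 F249289) (tt N24054 D56824) (tt N21221 (iv D55543)) (tt N24055 D56825) (tt N22773 F249290) (tt N21692 F249291) (tt N23970 (iv F254768)) (tt N24053 (iv F255120)) (tt N22773 F249292))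
theorem Q22775 : ∀ i, i < 22775 → P i := stepQ 22774 Q22774 (allL N22774 (tt N23436 (iv F252152)) (tt N21225 F249293) (tt N23961 (iv F254721)) (tt N24055 (iv F255126)) (tt N21222 (iv D55544)) (tt N24056 D56826) (tt N21698 F249294) (tt N24049 (iv F255098)) (tt N24033 (iv F255039)) (tt N22774 F249295))
theorem Q22776 : ∀ i, i < 22776 → P i := stepQ 22775 Q22775 (allL N22775 (tt N21344 F249296) (tt N24053 (iv F255117)) (tt N24019 (iv F254981)) (tt N21223 (iv D55545)) (tt N24057 D56827) (tt N22775 F249297) (tt N21643 F249298) (tt N24050 (iv F255104)) (tt N21224 F249299) (tt N23341 (iv F251628)))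
theorem Q22777 : ∀ i, i < 22777 → P i := stepQ 22776 Q22776 (allL N22776 (tt N21345 F249300) (tt N24055 (iv F255125)) (tt N24048 (iv F255092)) (tt N21225 F249301) (tt N21224 (iv D55546)) (tt N24058 D56828) (tt N21693 F249302) (tt N24051 (iv F255110)) (tt N24057 (iv F255136)) (tt N22776 F249303))
theorem Q22778 : ∀ i, i < 22778 → P i := stepQ 22777 Q22777 (allL N22777 (tt N21346 F249304) (tt N24056 (iv F255129)) (tt N21698 F249305) (tt N24058 (iv F255138)) (tt N21230 F249306) (tt N21225 (iv D55547)) (tt N23961 (iv F254723)) (tt N24052 (iv F255115)) (tt N24039 (iv F255057)) (tt N22777 F249307))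
theorem Q22779 : ∀ i, i < 22779 → P i := stepQ 22778 Q22778 (allL N22778 (tt N21701 F249308) (tt N21228 F249309) (tt N21690 F249310) (tt N22778 F249311) (tt N21227 (iv D55548)) (tt N24059 D56829) (tt N22778 F249312) (tt N21229 F249313) (tt N24042 (iv F255067)) (tt N22778 F249314))
theorem Q22780 : ∀ i, i < 22780 → P i := stepQ 22779 Q22779 (allL N22779 (tt N21347 F249315) (tt N24059 (iv F255142)) (tt N21681 F249316) (tt N22779 F249317) (tt N24052 (iv F255114)) (tt N21228 (iv D55549)) (tt N24060 D56830) (tt N21230 F249318) (tt N24044 (iv F255077)) (tt N22779 F249319))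
theorem Q22781 : ∀ i, i < 22781 → P i := stepQ 22780 Q22780 (allL N22780 (tt N23270 (iv F251157)) (tt N21230 F249320) (tt N21694 F249321) (tt N22780 F249322) (tt N24056 (iv F255131)) (tt N21229 (iv D55550)) (tt N21695 F249323) (tt N24059 (iv F255145)) (tt N24045 (iv F255081)) (tt N22780 F249324))
theorem Q22782 : ∀ i, i < 22782 → P i := stepQ 22781 Q22781 (allL N22781 (tt N21233 F249325) (tt N21323 F249326) (tt N21550 F249327) (tt N22781 F249328) (tt N23842 (iv F254266)) (tt N21329 F249329) (tt N23335 (iv F251598)) (tt N21320 F249330) (tt N24061 D56831) (tt N21231 (iv D55551)))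
theorem Q22783 : ∀ i, i < 22783 → P i := stepQ 22782 Q22782 (allL N22782 (tt N23842 (iv F254262)) (tt N21235 F249331) (tt N21552 F249332) (tt N23779 (iv F253984)) (tt N21233 F249333) (tt N21564 F249334) (tt N23336 (iv F251603)) (tt N21574 F249335) (tt N24062 D56832) (tt N21232 (iv D55552)))
theorem Q22784 : ∀ i, i < 22784 → P i := stepQ 22783 Q22783 (allL N22783 (tt N24061 (iv F255152)) (tt N21236 F249336) (tt N21553 F249337) (tt N24063 D56833) (tt N24062 (iv F255160)) (tt N21590 F249338) (tt N23337 (iv F251607)) (tt N21592 F249339) (tt N21233 (iv D55553)) (tt N21641 F249340))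
theorem Q22785 : ∀ i, i < 22785 → P i := stepQ 22784 Q22784 (allL N22784 (tt N23359 (iv F251731)) (tt N23779 (iv F253983)) (tt N21254 F249341) (tt N21235 F249342) (tt N22784 F249343) (tt N21566 F249344) (tt N23338 (iv F251613)) (tt N21578 F249345) (tt N24064 D56834) (tt N21234 (iv D55554)))
theorem Q22786 : ∀ i, i < 22786 → P i := stepQ 22785 Q22785 (allL N22785 (tt N23401 (iv F251967)) (tt N24062 (iv F255158)) (tt N21237 F249346) (tt N24065 D56835) (tt N21236 F249347) (tt N21567 F249348) (tt N23340 (iv F251622)) (tt N21583 F249349) (tt N21235 (iv D55555)) (tt N21609 F249350))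
theorem Q22787 : ∀ i, i < 22787 → P i := stepQ 22786 Q22786 (allL N22786 (tt N23446 (iv F252209)) (tt N24063 (iv F255164)) (tt N23998 (iv F254890)) (tt N21236 (iv D55556)) (tt N24066 D56836) (tt N21591 F249351) (tt N23341 (iv F251626)) (tt N21596 F249352) (tt N22786 F249353) (tt N21643 F249354))
theorem Q22788 : ∀ i, i < 22788 → P i := stepQ 22787 Q22787 (allL N22787 (tt N24000 (iv F254902)) (tt N21558 F249355) (tt N24067 D56837) (tt N21237 (iv D55557)) (tt N23999 (iv F254897)) (tt N21568 F249356) (tt N23343 (iv F251635)) (tt N21587 F249357) (tt N21260 F249358) (tt N21614 F249359))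
theorem Q22789 : ∀ i, i < 22789 → P i := stepQ 22788 Q22788 (allL N22788 (tt N23207 (iv F250761)) (tt N23328 (iv F251548)) (tt N21576 F249360) (tt N21238 (iv D55558)) (tt N22788 F249361) (tt N23325 F251531) (tt N21244 F249362) (tt N23221 (iv F250863)) (tt N23215 (iv F250822)) (tt N24068 D56838))
theorem Q22790 : ∀ i, i < 22790 → P i := stepQ 22789 Q22789 (allL N22789 (tt N23209 (iv F250777)) (tt N23974 (iv F254780)) (tt N21240 F249363) (tt N24068 (iv F255184)) (tt N21239 F249364) (tt N23821 (iv F254181)) (tt N21245 F249365) (tt N23247 (iv F251038)) (tt N24069 D56839) (tt N21238 (iv D55559)))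
theorem Q22791 : ∀ i, i < 22791 → P i := stepQ 22790 Q22790 (allL N22790 (tt N23210 (iv F250782)) (tt N23964 (iv F254731)) (tt N21241 F249366) (tt N24070 D56840) (tt N24069 (iv F255188)) (tt N22790 F249367) (tt N21246 F249368) (tt N23277 (iv F251207)) (tt N21239 (iv D55560)) (tt N21271 F249369))
theorem Q22792 : ∀ i, i < 22792 → P i := stepQ 22791 Q22791 (allL N22791 (tt N23212 (iv F250794)) (tt N21563 F249370) (tt N24069 (iv F255187)) (tt N24071 D56841) (tt N21241 F249371) (tt N23825 (iv F254191)) (tt N21247 F249372) (tt N23346 (iv F251654)) (tt N21240 (iv D55561)) (tt N21273 F249373))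
theorem Q22793 : ∀ i, i < 22793 → P i := stepQ 22792 Q22792 (allL N22792 (tt N23596 (iv F253150)) (tt N21244 F249374) (tt N23331 (iv F251568)) (tt N21242 (iv D55562)) (tt N22792 F249375) (tt N21551 F249376) (tt N23328 (iv F251552)) (tt N21248 F249377) (tt N23540 (iv F252839)) (tt N24072 D56842))
theorem Q22794 : ∀ i, i < 22794 → P i := stepQ 22793 Q22793 (allL N22793 (tt N23819 (iv F254167)) (tt N21245 F249378) (tt N21564 F249379) (tt N24072 (iv F255201)) (tt N21243 F249380) (tt N21552 F249381) (tt N23974 (iv F254782)) (tt N21250 F249382) (tt N24073 D56843) (tt N21242 (iv D55563)))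
theorem Q22795 : ∀ i, i < 22795 → P i := stepQ 22794 Q22794 (allL N22794 (tt N23937 (iv F254622)) (tt N21246 F249383) (tt N21565 F249384) (tt N24074 D56844) (tt N24073 (iv F255207)) (tt N21261 F249385) (tt N23964 (iv F254733)) (tt N21251 F249386) (tt N21243 (iv D55564)) (tt N21276 F249387))
theorem Q22796 : ∀ i, i < 22796 → P i := stepQ 22795 Q22795 (allL N22795 (tt N23327 (iv F251539)) (tt N23540 (iv F252834)) (tt N21577 F249388) (tt N21278 F249389) (tt N22795 F249390) (tt N21554 F249391) (tt N23215 (iv F250820)) (tt N21253 F249392) (tt N21244 (iv D55565)) (tt N24075 D56845))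
theorem Q22797 : ∀ i, i < 22797 → P i := stepQ 22796 Q22796 (allL N22796 (tt N23968 (iv F254750)) (tt N24072 (iv F255200)) (tt N21578 F249393) (tt N21245 F249394) (tt N22796 F249395) (tt N21555 F249396) (tt N24068 (iv F255186)) (tt N21254 F249397) (tt N24076 D56846) (tt N21244 (iv D55566)))
theorem Q22798 : ∀ i, i < 22798 → P i := stepQ 22797 Q22797 (allL N22797 (tt N23997 (iv F254883)) (tt N24073 (iv F255205)) (tt N21247 F249398) (tt N24077 D56847) (tt N21246 F249399) (tt N21556 F249400) (tt N24069 (iv F255189)) (tt N21256 F249401) (tt N21245 (iv D55567)) (tt N21281 F249402))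
theorem Q22799 : ∀ i, i < 22799 → P i := stepQ 22798 Q22798 (allL N22798 (tt N23998 (iv F254889)) (tt N24074 (iv F255211)) (tt N23446 (iv F252210)) (tt N21246 (iv D55568)) (tt N24078 D56848) (tt N21262 F249403) (tt N24070 (iv F255193)) (tt N21257 F249404) (tt N22798 F249405) (tt N21282 F249406))
theorem Q22800 : ∀ i, i < 22800 → P i := stepQ 22799 Q22799 (allL N22799 (tt N23999 (iv F254895)) (tt N21568 F249407) (tt N24079 D56849) (tt N21247 (iv D55569)) (tt N24000 (iv F254904)) (tt N21558 F249408) (tt N24071 (iv F255197)) (tt N21260 F249409) (tt N21587 F249410) (tt N21284 F249411))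
theorem Q22801 : ∀ i, i < 22801 → P i := stepQ 22800 Q22800 (allL N22800 (tt N23898 (iv F254498)) (tt N21254 F249412) (tt N23829 (iv F254204)) (tt N21250 F249413) (tt N22800 F249414) (tt N23833 (iv F254226)) (tt N23355 (iv F251708)) (tt N24072 (iv F255204)) (tt N24080 D56850) (tt N21248 (iv D55570)))
theorem Q22802 : ∀ i, i < 22802 → P i := stepQ 22801 Q22801 (allL N22801 (tt N21620 F249415) (tt N21255 F249416) (tt N21574 F249417) (tt N23833 (iv F254224)) (tt N21263 F249418) (tt N21250 F249419) (tt N21616 F249420) (tt N21552 F249421) (tt N24081 D56851) (tt N21249 (iv D55571)))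
theorem Q22803 : ∀ i, i < 22803 → P i := stepQ 22802 Q22802 (allL N22802 (tt N23901 (iv F254511)) (tt N21256 F249422) (tt N21575 F249423) (tt N24082 D56852) (tt N21251 F249424) (tt N24081 (iv F255242)) (tt N23356 (iv F251715)) (tt N24073 (iv F255209)) (tt N21250 (iv D55572)) (tt N21293 F249425))
theorem Q22804 : ∀ i, i < 22804 → P i := stepQ 22803 Q22803 (allL N22803 (tt N23376 (iv F251829)) (tt N21257 F249426) (tt N23309 (iv F251425)) (tt N21251 (iv D55573)) (tt N24083 D56853) (tt N21265 F249427) (tt N23357 (iv F251721)) (tt N24074 (iv F255214)) (tt N22803 F249428) (tt N21294 F249429))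
theorem Q22805 : ∀ i, i < 22805 → P i := stepQ 22804 Q22804 (allL N22804 (tt N23242 (iv F250994)) (tt N23833 (iv F254222)) (tt N21566 F249430) (tt N21255 F249431) (tt N21662 F249432) (tt N21254 F249433) (tt N23383 (iv F251875)) (tt N21555 F249434) (tt N24084 D56854) (tt N21252 (iv D55574)))
theorem Q22806 : ∀ i, i < 22806 → P i := stepQ 22805 Q22805 (allL N22805 (tt N23338 (iv F251609)) (tt N23871 (iv F254401)) (tt N23304 (iv F251389)) (tt N21298 F249435) (tt N22805 F249436) (tt N23776 (iv F253969)) (tt N23359 (iv F251737)) (tt N24075 (iv F255221)) (tt N24085 D56855) (tt N21253 (iv D55575)))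
theorem Q22807 : ∀ i, i < 22807 → P i := stepQ 22806 Q22806 (allL N22806 (tt N24012 (iv F254953)) (tt N24080 (iv F255236)) (tt N24064 (iv F255169)) (tt N24086 D56856) (tt N22806 F249437) (tt N24084 (iv F255253)) (tt N23360 (iv F251740)) (tt N24076 (iv F255225)) (tt N21254 (iv D55576)) (tt N24085 (iv F255256)))
theorem Q22808 : ∀ i, i < 22808 → P i := stepQ 22807 Q22807 (allL N22807 (tt N23243 (iv F251002)) (tt N24081 (iv F255239)) (tt N21259 F249438) (tt N24087 D56857) (tt N21266 F249439) (tt N21256 F249440) (tt N24003 (iv F254922)) (tt N21556 F249441) (tt N21255 (iv D55577)) (tt N21302 F249442))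
theorem Q22809 : ∀ i, i < 22809 → P i := stepQ 22808 Q22808 (allL N22808 (tt N24013 (iv F254955)) (tt N24082 (iv F255246)) (tt N24088 D56858) (tt N21256 (iv D55578)) (tt N24089 D56859) (tt N24087 (iv F255258)) (tt N23362 (iv F251749)) (tt N24077 (iv F255227)) (tt N24086 (iv F255257)) (tt N21303 F249443))
theorem Q22810 : ∀ i, i < 22810 → P i := stepQ 22809 Q22809 (allL N22809 (tt N24014 (iv F254957)) (tt N24083 (iv F255248)) (tt N23942 (iv F254641)) (tt N24089 (iv F255263)) (tt N21257 (iv D55579)) (tt N23941 (iv F254637)) (tt N23363 (iv F251751)) (tt N24078 (iv F255229)) (tt N22809 F249444) (tt N21304 F249445))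
theorem Q22811 : ∀ i, i < 22811 → P i := stepQ 22810 Q22810 (allL N22810 (tt N21508 F249446) (tt N21586 F249447) (tt N24003 (iv F254919)) (tt N24090 D56860) (tt N21267 F249448) (tt N23365 (iv F251766)) (tt N21259 F249449) (tt N23803 (iv F254089)) (tt N21258 (iv D55580)) (tt N21306 F249450))
theorem Q22812 : ∀ i, i < 22812 → P i := stepQ 22811 Q22811 (allL N22811 (tt N23719 (iv F253699)) (tt N21587 F249451) (tt N24091 D56861) (tt N21259 (iv D55581)) (tt N23721 (iv F253717)) (tt N21260 F249452) (tt N24090 (iv F255267)) (tt N21558 F249453) (tt N21568 F249454) (tt N21307 F249455))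
theorem Q22813 : ∀ i, i < 22813 → P i := stepQ 22812 Q22812 (allL N22812 (tt N24015 (iv F254961)) (tt N24092 D56862) (tt N21260 (iv D55582)) (tt N24088 (iv F255261)) (tt N24001 (iv F254910)) (tt N24091 (iv F255270)) (tt N23367 (iv F251772)) (tt N24079 (iv F255233)) (tt N24067 (iv F255181)) (tt N21308 F249456))
theorem Q22814 : ∀ i, i < 22814 → P i := stepQ 22813 Q22813 (allL N22813 (tt N23372 (iv F251802)) (tt N21262 F249457) (tt N21677 F249458) (tt N21261 (iv D55583)) (tt N23868 (iv F254386)) (tt N24074 (iv F255213)) (tt N22813 F249459) (tt N21265 F249460) (tt N22813 F249461) (tt N21314 F249462))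
theorem Q22815 : ∀ i, i < 22815 → P i := stepQ 22814 Q22814 (allL N22814 (tt N21648 F249463) (tt N21266 F249464) (tt N21592 F249465) (tt N23424 (iv F252086)) (tt N24081 (iv F255241)) (tt N21264 F249466) (tt N21647 F249467) (tt N21553 F249468) (tt N21263 (iv D55584)) (tt N21321 F249469))
theorem Q22816 : ∀ i, i < 22816 → P i := stepQ 22815 Q22815 (allL N22815 (tt N23905 (iv F254526)) (tt N23968 (iv F254751)) (tt N21272 F249470) (tt N23235 (iv F250953)) (tt N22815 F249471) (tt N21270 F249472) (tt N23598 (iv F253165)) (tt N23246 (iv F251033)) (tt N24093 D56863) (tt N21269 (iv D55585)))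
theorem Q22817 : ∀ i, i < 22817 → P i := stepQ 22816 Q22816 (allL N22816 (tt N24018 (iv F254975)) (tt N23966 (iv F254742)) (tt N21273 F249473) (tt N24094 D56864) (tt N21271 F249474) (tt N24093 (iv F255278)) (tt N21281 F249475) (tt N23248 (iv F251043)) (tt N21270 (iv D55586)) (tt N24069 (iv F255190)))
theorem Q22818 : ∀ i, i < 22818 → P i := stepQ 22817 Q22817 (allL N22817 (tt N24019 (iv F254980)) (tt N23685 (iv F253537)) (tt N21344 F249476) (tt N21271 (iv D55587)) (tt N24095 D56865) (tt N22817 F249477) (tt N21282 F249478) (tt N23278 (iv F251213)) (tt N21333 F249479) (tt N24070 (iv F255195)))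
theorem Q22819 : ∀ i, i < 22819 → P i := stepQ 22818 Q22818 (allL N22818 (tt N24020 (iv F254986)) (tt N21604 F249480) (tt N24093 (iv F255276)) (tt N24096 D56866) (tt N22818 F249481) (tt N21273 F249482) (tt N23601 (iv F253177)) (tt N23381 (iv F251865)) (tt N21272 (iv D55588)) (tt N23825 (iv F254193)))
theorem Q22820 : ∀ i, i < 22820 → P i := stepQ 22819 Q22819 (allL N22819 (tt N24021 (iv F254989)) (tt N21605 F249483) (tt N24097 D56867) (tt N21273 (iv D55589)) (tt N23987 (iv F254847)) (tt N24096 (iv F255284)) (tt N21284 F249484) (tt N23382 (iv F251868)) (tt N23981 (iv F254819)) (tt N24071 (iv F255199)))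
theorem Q22821 : ∀ i, i < 22821 → P i := stepQ 22820 Q22820 (allL N22820 (tt N23818 (iv F254160)) (tt N21280 F249485) (tt N21606 F249486) (tt N23747 (iv F253822)) (tt N21312 F249487) (tt N21275 F249488) (tt N23594 (iv F253144)) (tt N21292 F249489) (tt N24098 D56868) (tt N21274 (iv D55590)))
theorem Q22822 : ∀ i, i < 22822 → P i := stepQ 22821 Q22821 (allL N22821 (tt N23820 (iv F254174)) (tt N21281 F249490) (tt N21607 F249491) (tt N24099 D56869) (tt N21276 F249492) (tt N24098 (iv F255289)) (tt N23966 (iv F254744)) (tt N21293 F249493) (tt N21275 (iv D55591)) (tt N24073 (iv F255210)))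
theorem Q22823 : ∀ i, i < 22823 → P i := stepQ 22822 Q22822 (allL N22822 (tt N23419 (iv F252051)) (tt N21282 F249494) (tt N21473 F249495) (tt N21276 (iv D55592)) (tt N24100 D56870) (tt N21314 F249496) (tt N23685 (iv F253540)) (tt N21294 F249497) (tt N21334 F249498) (tt N24074 (iv F255216)))
theorem Q22824 : ∀ i, i < 22824 → P i := stepQ 22823 Q22823 (allL N22823 (tt N23328 (iv F251547)) (tt N23541 (iv F252842)) (tt N21423 F249499) (tt N21554 F249500) (tt N22823 F249501) (tt N21278 F249502) (tt N23596 (iv F253156)) (tt N21296 F249503) (tt N21277 (iv D55593)) (tt N24101 D56871))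
theorem Q22825 : ∀ i, i < 22825 → P i := stepQ 22824 Q22824 (allL N22824 (tt N24024 (iv F254999)) (tt N23747 (iv F253820)) (tt N21424 F249504) (tt N21280 F249505) (tt N22824 F249506) (tt N21279 F249507) (tt N23597 (iv F253161)) (tt N21297 F249508) (tt N24102 D56872) (tt N21277 (iv D55594)))
theorem Q22826 : ∀ i, i < 22826 → P i := stepQ 22825 Q22825 (allL N22825 (tt N23329 (iv F251555)) (tt N23542 (iv F252850)) (tt N23213 (iv F250801)) (tt N24075 (iv F255218)) (tt N21335 F249509) (tt N24101 (iv F255301)) (tt N23216 (iv F250828)) (tt N21298 F249510) (tt N24103 D56873) (tt N21278 (iv D55595)))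
theorem Q22827 : ∀ i, i < 22827 → P i := stepQ 22826 Q22826 (allL N22826 (tt N24025 (iv F255005)) (tt N23748 (iv F253827)) (tt N23234 (iv F250945)) (tt N24104 D56874) (tt N21336 F249511) (tt N24102 (iv F255305)) (tt N23236 (iv F250961)) (tt N21299 F249512) (tt N21279 (iv D55596)) (tt N24103 (iv F255309)))
theorem Q22828 : ∀ i, i < 22828 → P i := stepQ 22827 Q22827 (allL N22827 (tt N24026 (iv F255010)) (tt N24098 (iv F255286)) (tt N21283 F249513) (tt N24105 D56875) (tt N21315 F249514) (tt N21281 F249515) (tt N23599 (iv F253168)) (tt N21302 F249516) (tt N21280 (iv D55597)) (tt N21556 F249517))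
theorem Q22829 : ∀ i, i < 22829 → P i := stepQ 22828 Q22828 (allL N22828 (tt N24027 (iv F255016)) (tt N24099 (iv F255292)) (tt N24106 D56876) (tt N21281 (iv D55598)) (tt N24107 D56877) (tt N24105 (iv F255312)) (tt N24094 (iv F255279)) (tt N21303 F249518) (tt N24104 (iv F255311)) (tt N24077 (iv F255228)))
theorem Q22830 : ∀ i, i < 22830 → P i := stepQ 22829 Q22829 (allL N22829 (tt N24028 (iv F255018)) (tt N24100 (iv F255294)) (tt N23447 (iv F252217)) (tt N24107 (iv F255317)) (tt N21282 (iv D55599)) (tt N24108 D56878) (tt N24095 (iv F255281)) (tt N21304 F249519) (tt N21338 F249520) (tt N24078 (iv F255231)))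
theorem Q22831 : ∀ i, i < 22831 → P i := stepQ 22830 Q22830 (allL N22830 (tt N24029 (iv F255022)) (tt N21614 F249521) (tt N24109 D56879) (tt N21283 (iv D55600)) (tt N24010 (iv F254945)) (tt N21284 F249522) (tt N23602 (iv F253180)) (tt N21307 F249523) (tt N21427 F249524) (tt N21558 F249525))
theorem Q22832 : ∀ i, i < 22832 → P i := stepQ 22831 Q22831 (allL N22831 (tt N24030 (iv F255029)) (tt N24110 D56880) (tt N21284 (iv D55601)) (tt N24106 (iv F255315)) (tt N24002 (iv F254914)) (tt N24109 (iv F255322)) (tt N24097 (iv F255285)) (tt N21308 F249526) (tt N23983 (iv F254826)) (tt N24079 (iv F255235)))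
theorem Q22833 : ∀ i, i < 22833 → P i := stepQ 22832 Q22832 (allL N22832 (tt N21292 F249527) (tt N21582 F249528) (tt N21616 F249529) (tt N23806 (iv F254106)) (tt N21318 F249530) (tt N21286 F249531) (tt N21574 F249532) (tt N23818 (iv F254166)) (tt N24111 D56881) (tt N21285 (iv D55602)))
theorem Q22834 : ∀ i, i < 22834 → P i := stepQ 22833 Q22833 (allL N22833 (tt N21293 F249533) (tt N23846 (iv F254284)) (tt N21617 F249534) (tt N24112 D56882) (tt N21287 F249535) (tt N24111 (iv F255332)) (tt N23394 (iv F251931)) (tt N23820 (iv F254178)) (tt N21286 (iv D55603)) (tt N23901 (iv F254517)))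
theorem Q22835 : ∀ i, i < 22835 → P i := stepQ 22834 Q22834 (allL N22834 (tt N23806 (iv F254103)) (tt N21297 F249536) (tt N23745 (iv F253808)) (tt N21292 F249537) (tt N22834 F249538) (tt N21290 F249539) (tt N23883 (iv F254458)) (tt N23747 (iv F253825)) (tt N24113 D56883) (tt N21288 (iv D55604)))
theorem Q22836 : ∀ i, i < 22836 → P i := stepQ 22835 Q22835 (allL N22835 (tt N23590 (iv F253120)) (tt N21298 F249540) (tt N23538 (iv F252820)) (tt N23871 (iv F254403)) (tt N21339 F249541) (tt N23882 (iv F254451)) (tt N23396 (iv F251946)) (tt N23542 (iv F252854)) (tt N24114 D56884) (tt N21289 (iv D55605)))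
theorem Q22837 : ∀ i, i < 22837 → P i := stepQ 22836 Q22836 (allL N22836 (tt N23807 (iv F254111)) (tt N21299 F249542) (tt N23746 (iv F253815)) (tt N24115 D56885) (tt N21340 F249543) (tt N24113 (iv F255338)) (tt N23397 (iv F251952)) (tt N23748 (iv F253831)) (tt N21290 (iv D55606)) (tt N24114 (iv F255341)))
theorem Q22838 : ∀ i, i < 22838 → P i := stepQ 22837 Q22837 (allL N22837 (tt N21574 F249544) (tt N21301 F249545) (tt N21620 F249546) (tt N23883 (iv F254455)) (tt N21320 F249547) (tt N21569 F249548) (tt N21292 F249549) (tt N23842 (iv F254268)) (tt N24116 D56886) (tt N21291 (iv D55607)))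
theorem Q22839 : ∀ i, i < 22839 → P i := stepQ 22838 Q22838 (allL N22838 (tt N24111 (iv F255328)) (tt N21302 F249550) (tt N21621 F249551) (tt N24117 D56887) (tt N21321 F249552) (tt N21293 F249553) (tt N24116 (iv F255349)) (tt N24098 (iv F255290)) (tt N21292 (iv D55608)) (tt N24081 (iv F255245)))
theorem Q22840 : ∀ i, i < 22840 → P i := stepQ 22839 Q22839 (allL N22839 (tt N24112 (iv F255335)) (tt N21303 F249554) (tt N24118 D56888) (tt N21293 (iv D55609)) (tt N24119 D56889) (tt N24117 (iv F255352)) (tt N23399 (iv F251963)) (tt N24099 (iv F255293)) (tt N24115 (iv F255343)) (tt N24082 (iv F255247)))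
theorem Q22841 : ∀ i, i < 22841 → P i := stepQ 22840 Q22840 (allL N22840 (tt N23428 (iv F252105)) (tt N21304 F249555) (tt N23321 (iv F251498)) (tt N24119 (iv F255355)) (tt N21294 (iv D55610)) (tt N23945 (iv F254654)) (tt N23400 (iv F251965)) (tt N24100 (iv F255296)) (tt N21342 F249556) (tt N24083 (iv F255250)))
theorem Q22842 : ∀ i, i < 22842 → P i := stepQ 22841 Q22841 (allL N22841 (tt N21601 F249557) (tt N23883 (iv F254454)) (tt N21532 F249558) (tt N21301 F249559) (tt N22841 F249560) (tt N21530 F249561) (tt N21297 F249562) (tt N23764 (iv F253914)) (tt N24120 D56890) (tt N21295 (iv D55611)))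
theorem Q22843 : ∀ i, i < 22843 → P i := stepQ 22842 Q22842 (allL N22842 (tt N23339 (iv F251614)) (tt N23882 (iv F254448)) (tt N23301 (iv F251369)) (tt N23776 (iv F253967)) (tt N22842 F249563) (tt N21298 F249564) (tt N23879 (iv F254439)) (tt N24101 (iv F255302)) (tt N24121 D56891) (tt N21296 (iv D55612)))
theorem Q22844 : ∀ i, i < 22844 → P i := stepQ 22843 Q22843 (allL N22843 (tt N24034 (iv F255040)) (tt N24113 (iv F255336)) (tt N23986 (iv F254840)) (tt N24122 D56892) (tt N22843 F249565) (tt N21299 F249566) (tt N24120 (iv F255360)) (tt N24102 (iv F255306)) (tt N21297 (iv D55613)) (tt N24121 (iv F255363)))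
theorem Q22845 : ∀ i, i < 22845 → P i := stepQ 22844 Q22844 (allL N22844 (tt N23340 (iv F251619)) (tt N24114 (iv F255339)) (tt N23302 (iv F251377)) (tt N24123 D56893) (tt N21343 F249567) (tt N24121 (iv F255362)) (tt N23401 (iv F251971)) (tt N24103 (iv F255308)) (tt N21298 (iv D55614)) (tt N21299 F249568))
theorem Q22846 : ∀ i, i < 22846 → P i := stepQ 22845 Q22845 (allL N22845 (tt N24035 (iv F255045)) (tt N24115 (iv F255342)) (tt N24124 D56894) (tt N21299 (iv D55615)) (tt N24125 D56895) (tt N24122 (iv F255364)) (tt N23402 (iv F251976)) (tt N24104 (iv F255310)) (tt N21303 F249569) (tt N24123 (iv F255366)))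
theorem Q22847 : ∀ i, i < 22847 → P i := stepQ 22846 Q22846 (allL N22846 (tt N23396 (iv F251940)) (tt N23842 (iv F254263)) (tt N21305 F249570) (tt N23764 (iv F253911)) (tt N21323 F249571) (tt N23403 (iv F251984)) (tt N23590 (iv F253123)) (tt N21301 F249572) (tt N24126 D56896) (tt N21300 (iv D55616)))
theorem Q22848 : ∀ i, i < 22848 → P i := stepQ 22847 Q22847 (allL N22847 (tt N23690 (iv F253558)) (tt N24116 (iv F255345)) (tt N21306 F249573) (tt N24127 D56897) (tt N21324 F249574) (tt N23404 (iv F251991)) (tt N21302 F249575) (tt N24126 (iv F255372)) (tt N21301 (iv D55617)) (tt N24003 (iv F254923)))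
theorem Q22849 : ∀ i, i < 22849 → P i := stepQ 22848 Q22848 (allL N22848 (tt N24036 (iv F255048)) (tt N24117 (iv F255351)) (tt N24128 D56898) (tt N21302 (iv D55618)) (tt N24129 D56899) (tt N21303 F249576) (tt N24127 (iv F255373)) (tt N24105 (iv F255313)) (tt N24122 (iv F255365)) (tt N24087 (iv F255260)))
theorem Q22850 : ∀ i, i < 22850 → P i := stepQ 22849 Q22849 (allL N22849 (tt N24037 (iv F255050)) (tt N24130 D56900) (tt N21303 (iv D55619)) (tt N21308 F249577) (tt N24131 D56901) (tt N24128 (iv F255375)) (tt N23406 (iv F252000)) (tt N24106 (iv F255316)) (tt N24124 (iv F255367)) (tt N24088 (iv F255262)))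
theorem Q22851 : ∀ i, i < 22851 → P i := stepQ 22850 Q22850 (allL N22850 (tt N24038 (iv F255052)) (tt N24119 (iv F255354)) (tt N24131 (iv F255378)) (tt N21304 F249578) (tt N21303 (iv D55620)) (tt N24132 D56902) (tt N23407 (iv F252002)) (tt N24107 (iv F255318)) (tt N24125 (iv F255369)) (tt N24089 (iv F255264)))
theorem Q22852 : ∀ i, i < 22852 → P i := stepQ 22851 Q22851 (allL N22851 (tt N24039 (iv F255054)) (tt N23945 (iv F254652)) (tt N23862 (iv F254357)) (tt N24132 (iv F255379)) (tt N21326 F249579) (tt N21304 (iv D55621)) (tt N23947 (iv F254663)) (tt N24108 (iv F255320)) (tt N21346 F249580) (tt N23941 (iv F254639)))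
theorem Q22853 : ∀ i, i < 22853 → P i := stepQ 22852 Q22852 (allL N22852 (tt N23689 (iv F253553)) (tt N21635 F249581) (tt N24126 (iv F255370)) (tt N24133 D56903) (tt N21327 F249582) (tt N23409 (iv F252008)) (tt N23593 (iv F253138)) (tt N21306 F249583) (tt N21305 (iv D55622)) (tt N23803 (iv F254090)))
theorem Q22854 : ∀ i, i < 22854 → P i := stepQ 22853 Q22853 (allL N22853 (tt N23692 (iv F253572)) (tt N21636 F249584) (tt N24134 D56904) (tt N21306 (iv D55623)) (tt N23297 (iv F251341)) (tt N23410 (iv F252011)) (tt N21307 F249585) (tt N24133 (iv F255381)) (tt N23991 (iv F254862)) (tt N24090 (iv F255269)))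
theorem Q22855 : ∀ i, i < 22855 → P i := stepQ 22854 Q22854 (allL N22854 (tt N24040 (iv F255058)) (tt N24135 D56905) (tt N21307 (iv D55624)) (tt N24128 (iv F255374)) (tt N24011 (iv F254951)) (tt N21308 F249586) (tt N24134 (iv F255382)) (tt N24109 (iv F255323)) (tt N23992 (iv F254866)) (tt N24091 (iv F255273)))
theorem Q22856 : ∀ i, i < 22856 → P i := stepQ 22855 Q22855 (allL N22855 (tt N24136 D56906) (tt N21308 (iv D55625)) (tt N21638 F249587) (tt N24130 (iv F255377)) (tt N24008 (iv F254934)) (tt N24135 (iv F255384)) (tt N23413 (iv F252017)) (tt N24110 (iv F255327)) (tt N23993 (iv F254869)) (tt N24092 (iv F255275)))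
theorem Q22857 : ∀ i, i < 22857 → P i := stepQ 22856 Q22856 (allL N22856 (tt N21312 F249588) (tt N21594 F249589) (tt N21639 F249590) (tt N22856 F249591) (tt N23818 (iv F254164)) (tt N21310 F249592) (tt N23326 (iv F251537)) (tt N21318 F249593) (tt N24137 D56907) (tt N21309 (iv D55626)))
theorem Q22858 : ∀ i, i < 22858 → P i := stepQ 22857 Q22857 (allL N22857 (tt N21313 F249594) (tt N21599 F249595) (tt N21640 F249596) (tt N24138 D56908) (tt N21311 F249597) (tt N24137 (iv F255389)) (tt N22857 F249598) (tt N21319 F249599) (tt N21310 (iv D55627)) (tt N21655 F249600))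
theorem Q22859 : ∀ i, i < 22859 → P i := stepQ 22858 Q22858 (allL N22858 (tt N24137 (iv F255386)) (tt N21315 F249601) (tt N21641 F249602) (tt N24139 D56909) (tt N24098 (iv F255288)) (tt N21313 F249603) (tt N23595 (iv F253148)) (tt N21321 F249604) (tt N21312 (iv D55628)) (tt N21553 F249605))
theorem Q22860 : ∀ i, i < 22860 → P i := stepQ 22859 Q22859 (allL N22859 (tt N24138 (iv F255392)) (tt N21316 F249606) (tt N23949 (iv F254665)) (tt N21313 (iv D55629)) (tt N23860 (iv F254344)) (tt N24139 (iv F255399)) (tt N22859 F249607) (tt N21322 F249608) (tt N22859 F249609) (tt N21700 F249610))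
theorem Q22861 : ∀ i, i < 22861 → P i := stepQ 22860 Q22860 (allL N22860 (tt N24043 (iv F255068)) (tt N24139 (iv F255398)) (tt N23711 (iv F253664)) (tt N21315 (iv D55630)) (tt N24140 D56910) (tt N21316 F249611) (tt N23600 (iv F253171)) (tt N21325 F249612) (tt N22860 F249613) (tt N21557 F249614))
theorem Q22862 : ∀ i, i < 22862 → P i := stepQ 22861 Q22861 (allL N22861 (tt N24044 (iv F255074)) (tt N23943 F254648) (tt N23855 F254323) (tt N23858 (iv F254334)) (tt N24108 (iv F255319)) (tt N21317 (iv D55631)) (tt N24141 D56911) (tt N21326 F249615) (tt N21347 F249616) (tt N23929 (iv F254597)))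
theorem Q22863 : ∀ i, i < 22863 → P i := stepQ 22862 Q22862 (allL N22862 (tt N21321 F249617) (tt N21595 F249618) (tt N21647 F249619) (tt N24142 D56912) (tt N24111 (iv F255331)) (tt N21319 F249620) (tt N21592 F249621) (tt N24137 (iv F255390)) (tt N21318 (iv D55632)) (tt N21648 F249622))
theorem Q22864 : ∀ i, i < 22864 → P i := stepQ 22863 Q22863 (allL N22863 (tt N21322 F249623) (tt N21600 F249624) (tt N23262 (iv F251113)) (tt N21319 (iv D55633)) (tt N23261 F251110) (tt N24142 (iv F255410)) (tt N21328 F249625) (tt N24138 (iv F255395)) (tt N22863 F249626) (tt N21656 F249627))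
theorem Q22865 : ∀ i, i < 22865 → P i := stepQ 22864 Q22864 (allL N22864 (tt N21592 F249628) (tt N21324 F249629) (tt N21648 F249630) (tt N23373 (iv F251811)) (tt N24116 (iv F255347)) (tt N21330 F249631) (tt N21321 F249632) (tt N24061 (iv F255156)) (tt N21320 (iv D55634)) (tt N21647 F249633))
theorem Q22866 : ∀ i, i < 22866 → P i := stepQ 22865 Q22865 (allL N22865 (tt N24142 (iv F255408)) (tt N21325 F249634) (tt N23950 (iv F254671)) (tt N21321 (iv D55635)) (tt N24143 D56913) (tt N21322 F249635) (tt N23373 (iv F251812)) (tt N24139 (iv F255400)) (tt N22865 F249636) (tt N23424 (iv F252089)))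
theorem Q22867 : ∀ i, i < 22867 → P i := stepQ 22866 Q22866 (allL N22866 (tt N23442 (iv F252184)) (tt N24061 (iv F255153)) (tt N21327 F249637) (tt N24144 D56914) (tt N24126 (iv F255371)) (tt N21331 F249638) (tt N23591 (iv F253128)) (tt N21324 F249639) (tt N21323 (iv D55636)) (tt N23440 (iv F252176)))
theorem Q22868 : ∀ i, i < 22868 → P i := stepQ 22867 Q22867 (allL N22867 (tt N23691 (iv F253565)) (tt N23373 (iv F251810)) (tt N23295 (iv F251326)) (tt N21324 (iv D55637)) (tt N24145 D56915) (tt N21332 F249640) (tt N21325 F249641) (tt N24144 (iv F255417)) (tt N22867 F249642) (tt N23422 (iv F252075)))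
theorem Q22869 : ∀ i, i < 22869 → P i := stepQ 22868 Q22868 (allL N22868 (tt N24046 (iv F255082)) (tt N24143 (iv F255414)) (tt N23712 (iv F253670)) (tt N24129 (iv F255376)) (tt N21325 (iv D55638)) (tt N23867 (iv F254381)) (tt N24145 (iv F255419)) (tt N24140 (iv F255403)) (tt N22868 F249643) (tt N23731 (iv F253756)))
theorem Q22870 : ∀ i, i < 22870 → P i := stepQ 22869 Q22869 (allL N22869 (tt N21590 F249644) (tt N21331 F249645) (tt N21655 F249646) (tt N23369 (iv F251784)) (tt N21589 F249647) (tt N24061 (iv F255155)) (tt N22869 F249648) (tt N21330 F249649) (tt N21329 (iv D55639)) (tt N21640 F249650))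
theorem Q22871 : ∀ i, i < 22871 → P i := stepQ 22870 Q22870 (allL N22870 (tt N23693 (iv F253577)) (tt N23369 (iv F251783)) (tt N23298 (iv F251345)) (tt N21331 (iv D55640)) (tt N23368 (iv F251777)) (tt N24144 (iv F255416)) (tt N22870 F249651) (tt N21332 F249652) (tt N22870 F249653) (tt N23415 (iv F252033)))
theorem Q22872 : ∀ i, i < 22872 → P i := stepQ 22871 Q22871 (allL N22871 (tt N24048 (iv F255091)) (tt N23687 (iv F253545)) (tt N21345 F249654) (tt N23272 (iv F251172)) (tt N21333 (iv D55641)) (tt N24146 D56916) (tt N21338 F249655) (tt N23279 (iv F251219)) (tt N24095 (iv F255282)) (tt N22871 F249656))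
theorem Q22873 : ∀ i, i < 22873 → P i := stepQ 22872 Q22872 (allL N22872 (tt N23432 (iv F252128)) (tt N21338 F249657) (tt N21474 F249658) (tt N23969 (iv F254760)) (tt N21334 (iv D55642)) (tt N23959 (iv F254711)) (tt N23687 (iv F253548)) (tt N21342 F249659) (tt N24100 (iv F255297)) (tt N22872 F249660))
theorem Q22874 : ∀ i, i < 22874 → P i := stepQ 22873 Q22873 (allL N22873 (tt N23330 (iv F251560)) (tt N23543 (iv F252856)) (tt N23214 (iv F250809)) (tt N24147 D56917) (tt N24103 (iv F255307)) (tt N22873 F249661) (tt N23217 (iv F250834)) (tt N21343 F249662) (tt N21335 (iv D55643)) (tt N21336 F249663))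
theorem Q22875 : ∀ i, i < 22875 → P i := stepQ 22874 Q22874 (allL N22874 (tt N24050 (iv F255100)) (tt N23749 (iv F253833)) (tt N23278 (iv F251210)) (tt N21336 (iv D55644)) (tt N24148 D56918) (tt N22874 F249664) (tt N23237 (iv F250967)) (tt N21344 F249665) (tt N21337 F249666) (tt N24147 (iv F255427)))
theorem Q22876 : ∀ i, i < 22876 → P i := stepQ 22875 Q22875 (allL N22875 (tt N24051 (iv F255106)) (tt N23969 (iv F254758)) (tt N23279 (iv F251216)) (tt N21338 F249667) (tt N21337 (iv D55645)) (tt N24149 D56919) (tt N23272 (iv F251173)) (tt N21345 F249668) (tt N24148 (iv F255429)) (tt N22875 F249669))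
theorem Q22877 : ∀ i, i < 22877 → P i := stepQ 22876 Q22876 (allL N22876 (tt N24052 (iv F255112)) (tt N23959 (iv F254709)) (tt N23448 (iv F252222)) (tt N24149 (iv F255430)) (tt N21347 F249670) (tt N21338 (iv D55646)) (tt N24150 D56920) (tt N21346 F249671) (tt N24108 (iv F255321)) (tt N22876 F249672))
theorem Q22878 : ∀ i, i < 22878 → P i := stepQ 22877 Q22877 (allL N22877 (tt N23591 (iv F253125)) (tt N21343 F249673) (tt N23539 (iv F252827)) (tt N24151 D56921) (tt N24114 (iv F255340)) (tt N22877 F249674) (tt N23442 (iv F252188)) (tt N23543 (iv F252860)) (tt N21339 (iv D55647)) (tt N21340 F249675))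
theorem Q22879 : ∀ i, i < 22879 → P i := stepQ 22878 Q22878 (allL N22878 (tt N23808 (iv F254115)) (tt N21344 F249676) (tt N23682 (iv F253521)) (tt N21340 (iv D55648)) (tt N24152 D56922) (tt N22878 F249677) (tt N23443 (iv F252194)) (tt N23749 (iv F253837)) (tt N21341 F249678) (tt N24151 (iv F255439)))
theorem Q22880 : ∀ i, i < 22880 → P i := stepQ 22879 Q22879 (allL N22879 (tt N23437 (iv F252157)) (tt N21345 F249679) (tt N23683 (iv F253527)) (tt N21342 F249680) (tt N21341 (iv D55649)) (tt N23960 (iv F254716)) (tt N23444 (iv F252200)) (tt N23969 (iv F254762)) (tt N24152 (iv F255441)) (tt N22879 F249681))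
theorem Q22881 : ∀ i, i < 22881 → P i := stepQ 22880 Q22880 (allL N22880 (tt N23341 (iv F251624)) (tt N24151 (iv F255436)) (tt N24070 (iv F255191)) (tt N21343 (iv D55650)) (tt N24153 D56923) (tt N22880 F249682) (tt N23446 (iv F252212)) (tt N24147 (iv F255425)) (tt N22880 F249683) (tt N21344 F249684))
theorem Q22882 : ∀ i, i < 22882 → P i := stepQ 22881 Q22881 (allL N22881 (tt N24057 (iv F255134)) (tt N24152 (iv F255440)) (tt N24095 (iv F255280)) (tt N24125 (iv F255368)) (tt N21344 (iv D55651)) (tt N24154 D56924) (tt N23447 (iv F252218)) (tt N24148 (iv F255428)) (tt N21345 F249685) (tt N24153 (iv F255443)))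
theorem Q22883 : ∀ i, i < 22883 → P i := stepQ 22882 Q22882 (allL N22882 (tt N24058 (iv F255137)) (tt N23960 (iv F254714)) (tt N24146 (iv F255421)) (tt N21346 F249686) (tt N22882 F249687) (tt N21345 (iv D55652)) (tt N23962 (iv F254727)) (tt N24149 (iv F255432)) (tt N24154 (iv F255445)) (tt N22882 F249688))
theorem Q22884 : ∀ i, i < 22884 → P i := stepQ 22883 Q22883 (allL N22883 (tt N24060 (iv F255147)) (tt N23951 F254679) (tt N24009 (iv F254938)) (tt N22883 F249689) (tt N24150 (iv F255434)) (tt N22883 F249690) (tt N21347 (iv D55653)) (tt N23953 (iv F254688)) (tt N24141 (iv F255407)) (tt N22883 F249691))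
theorem Q22885 : ∀ i, i < 22885 → P i := stepQ 22884 Q22884 (allL N22884 (tt N21353 F249692) (tt N23460 (iv F252321)) (tt N21356 F249693) (tt N23464 (iv F252359)) (tt N21348 (iv D55654)) (tt N23461 (iv F252333)) (tt N23159 (iv F250426)) (tt N21373 F249694) (tt N21350 F249695) (tt N23465 (iv F252373)))
theorem Q22886 : ∀ i, i < 22886 → P i := stepQ 22885 Q22885 (allL N22885 (tt N23465 (iv F252365)) (tt N23459 (iv F252312)) (tt N21358 F249696) (tt N23159 (iv F250423)) (tt N21351 (iv D55655)) (tt N23462 (iv F252341)) (tt N23464 (iv F252361)) (tt N21384 F249697) (tt N22885 F249698) (tt N21353 F249699))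
theorem Q22887 : ∀ i, i < 22887 → P i := stepQ 22886 Q22886 (allL N22886 (tt N23464 (iv F252356)) (tt N23462 (iv F252339)) (tt N23158 (iv F250414)) (tt N21353 F249700) (tt N21352 (iv D55656)) (tt N23459 (iv F252315)) (tt N23465 (iv F252370)) (tt N21398 F249701) (tt N22886 F249702) (tt N23159 (iv F250429)))
theorem Q22888 : ∀ i, i < 22888 → P i := stepQ 22887 Q22887 (allL N22887 (tt N23461 (iv F252329)) (tt N23159 (iv F250422)) (tt N21364 F249703) (tt N23459 (iv F252313)) (tt N23160 (iv F250433)) (tt N21353 (iv D55657)) (tt N23460 (iv F252324)) (tt N21399 F249704) (tt N21354 F249705) (tt N23462 (iv F252345)))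
theorem Q22889 : ∀ i, i < 22889 → P i := stepQ 22888 Q22888 (allL N22888 (tt N21381 F249706) (tt N21414 F249707) (tt N23644 (iv F253378)) (tt N24155 D56925) (tt N21366 F249708) (tt N21385 F249709) (tt N23474 (iv F252437)) (tt N21392 F249710) (tt N21365 (iv D55658)) (tt N21371 F249711))
theorem Q22890 : ∀ i, i < 22890 → P i := stepQ 22889 Q22889 (allL N22889 (tt N21385 F249712) (tt N21409 F249713) (tt N23640 (iv F253353)) (tt N24156 D56926) (tt N21368 F249714) (tt N21381 F249715) (tt N23529 (iv F252769)) (tt N21371 F249716) (tt N21367 (iv D55659)) (tt N21392 F249717))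
theorem Q22891 : ∀ i, i < 22891 → P i := stepQ 22890 Q22890 (allL N22890 (tt N21390 F249718) (tt N23615 (iv F253249)) (tt N21371 F249719) (tt N24157 D56927) (tt N21370 F249720) (tt N23611 (iv F253232)) (tt N23481 (iv F252487)) (tt N23640 (iv F253357)) (tt N21369 (iv D55660)) (tt N23644 (iv F253382)))
theorem Q22892 : ∀ i, i < 22892 → P i := stepQ 22891 Q22891 (allL N22891 (tt N21391 F249721) (tt N23623 (iv F253282)) (tt N21416 F249722) (tt N21370 (iv D55661)) (tt N24158 D56928) (tt N21372 F249723) (tt N23482 (iv F252493)) (tt N23196 (iv F250688)) (tt N21375 F249724) (tt N23663 (iv F253439)))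
theorem Q22893 : ∀ i, i < 22893 → P i := stepQ 22892 Q22892 (allL N22892 (tt N21393 F249725) (tt N23978 (iv F254803)) (tt N24159 D56929) (tt N21371 (iv D55662)) (tt N21417 F249726) (tt N23977 (iv F254798)) (tt N23484 (iv F252505)) (tt N24156 (iv F255457)) (tt N21482 F249727) (tt N24155 (iv F255452)))
theorem Q22894 : ∀ i, i < 22894 → P i := stepQ 22893 Q22893 (allL N22893 (tt N21396 F249728) (tt N23575 (iv F253027)) (tt N21418 F249729) (tt N23622 (iv F253276)) (tt N21372 (iv D55663)) (tt N24160 D56930) (tt N21373 F249730) (tt N23177 (iv F250560)) (tt N21377 F249731) (tt N23664 (iv F253447)))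
theorem Q22895 : ∀ i, i < 22895 → P i := stepQ 22894 Q22894 (allL N22894 (tt N21477 F249732) (tt N21375 F249733) (tt N23587 (iv F253099)) (tt N21374 (iv D55664)) (tt N24161 D56931) (tt N21376 F249734) (tt N21420 F249735) (tt N23200 (iv F250716)) (tt N23623 (iv F253285)) (tt N22894 F249736))
theorem Q22896 : ∀ i, i < 22896 → P i := stepQ 22895 Q22895 (allL N22895 (tt N21403 F249737) (tt N24161 (iv F255471)) (tt N21419 F249738) (tt N23732 (iv F253759)) (tt N21375 (iv D55665)) (tt N24162 D56932) (tt N23487 (iv F252527)) (tt N23201 (iv F250721)) (tt N24158 (iv F255463)) (tt N22895 F249739))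
theorem Q22897 : ∀ i, i < 22897 → P i := stepQ 22896 Q22896 (allL N22896 (tt N21404 F249740) (tt N23584 (iv F253081)) (tt N21420 F249741) (tt N22896 F249742) (tt N24162 (iv F255476)) (tt N21377 (iv D55666)) (tt N23587 (iv F253101)) (tt N23178 (iv F250568)) (tt N24160 (iv F255469)) (tt N22896 F249743))
theorem Q22898 : ∀ i, i < 22898 → P i := stepQ 22897 Q22897 (allL N22897 (tt N23488 (iv F252530)) (tt N23604 (iv F253189)) (tt N23287 (iv F251272)) (tt N21387 F249744) (tt N22897 F249745) (tt N23285 F251262) (tt N21498 F249746) (tt N23489 (iv F252544)) (tt N21378 (iv D55667)) (tt N24163 D56933))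
theorem Q22899 : ∀ i, i < 22899 → P i := stepQ 22898 Q22898 (allL N22898 (tt N23641 (iv F253359)) (tt N23605 (iv F253197)) (tt N23699 (iv F253608)) (tt N21379 F249747) (tt N22898 F249748) (tt N23639 (iv F253349)) (tt N23497 (iv F252589)) (tt N23610 (iv F253227)) (tt N24164 D56934) (tt N21378 (iv D55668)))
theorem Q22900 : ∀ i, i < 22900 → P i := stepQ 22899 Q22899 (allL N22899 (tt N23644 (iv F253376)) (tt N23606 (iv F253203)) (tt N21381 F249749) (tt N24165 D56935) (tt N21380 F249750) (tt N23640 (iv F253355)) (tt N23498 (iv F252593)) (tt N23611 (iv F253234)) (tt N21379 (iv D55669)) (tt N21390 F249751))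
theorem Q22901 : ∀ i, i < 22901 → P i := stepQ 22900 Q22900 (allL N22900 (tt N23663 (iv F253433)) (tt N23607 (iv F253208)) (tt N21426 F249752) (tt N21380 (iv D55670)) (tt N24166 D56936) (tt N21382 F249753) (tt N23499 (iv F252597)) (tt N23612 (iv F253241)) (tt N22900 F249754) (tt N21391 F249755))
theorem Q22902 : ∀ i, i < 22902 → P i := stepQ 22901 Q22901 (allL N22901 (tt N24155 (iv F255446)) (tt N23975 (iv F254785)) (tt N24167 D56937) (tt N21381 (iv D55671)) (tt N21427 F249756) (tt N24156 (iv F255456)) (tt N23502 (iv F252612)) (tt N23977 (iv F254799)) (tt N24010 (iv F254948)) (tt N21393 F249757))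
theorem Q22903 : ∀ i, i < 22903 → P i := stepQ 22902 Q22902 (allL N22902 (tt N23664 (iv F253440)) (tt N23561 (iv F252965)) (tt N21429 F249758) (tt N23177 (iv F250557)) (tt N21382 (iv D55672)) (tt N24168 D56938) (tt N21384 F249759) (tt N23622 (iv F253278)) (tt N22902 F249760) (tt N21396 F249761))
theorem Q22904 : ∀ i, i < 22904 → P i := stepQ 22903 Q22903 (allL N22903 (tt N24156 (iv F255453)) (tt N23189 (iv F250641)) (tt N24169 D56939) (tt N21385 (iv D55673)) (tt N21439 F249762) (tt N24155 (iv F255449)) (tt N23985 (iv F254836)) (tt N21393 F249763) (tt N21504 F249764) (tt N23977 (iv F254801)))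
theorem Q22905 : ∀ i, i < 22905 → P i := stepQ 22904 Q22904 (allL N22904 (tt N23489 (iv F252538)) (tt N23630 (iv F253305)) (tt N21492 F249765) (tt N23285 (iv F251261)) (tt N22904 F249766) (tt N21387 F249767) (tt N21489 F249768) (tt N23488 (iv F252535)) (tt N21386 (iv D55674)) (tt N24170 D56940))
theorem Q22906 : ∀ i, i < 22906 → P i := stepQ 22905 Q22905 (allL N22905 (tt N23610 (iv F253220)) (tt N23631 (iv F253312)) (tt N21509 F249769) (tt N21389 F249770) (tt N22905 F249771) (tt N21388 F249772) (tt N23534 (iv F252803)) (tt N23641 (iv F253365)) (tt N24171 D56941) (tt N21386 (iv D55675)))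
theorem Q22907 : ∀ i, i < 22907 → P i := stepQ 22906 Q22906 (allL N22906 (tt N23490 (iv F252546)) (tt N23632 (iv F253319)) (tt N21502 F249773) (tt N24163 (iv F255478)) (tt N21400 F249774) (tt N24170 (iv F255496)) (tt N21500 F249775) (tt N23642 (iv F253370)) (tt N24172 D56942) (tt N21387 (iv D55676)))
theorem Q22908 : ∀ i, i < 22908 → P i := stepQ 22907 Q22907 (allL N22907 (tt N23701 (iv F253616)) (tt N23633 (iv F253324)) (tt N21510 F249776) (tt N24173 D56943) (tt N21401 F249777) (tt N24171 (iv F255500)) (tt N23513 (iv F252682)) (tt N23643 (iv F253375)) (tt N21388 (iv D55677)) (tt N24172 (iv F255504)))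
theorem Q22909 : ∀ i, i < 22909 → P i := stepQ 22908 Q22908 (allL N22908 (tt N23611 (iv F253228)) (tt N23634 (iv F253328)) (tt N21392 F249778) (tt N24174 D56944) (tt N21394 F249779) (tt N21390 F249780) (tt N23535 (iv F252808)) (tt N23644 (iv F253381)) (tt N21389 (iv D55678)) (tt N23640 (iv F253358)))
theorem Q22910 : ∀ i, i < 22910 → P i := stepQ 22909 Q22909 (allL N22909 (tt N24157 (iv F255460)) (tt N23635 (iv F253333)) (tt N24175 D56945) (tt N21390 (iv D55679)) (tt N24176 D56946) (tt N24174 (iv F255506)) (tt N23514 (iv F252685)) (tt N23645 (iv F253385)) (tt N24173 (iv F255505)) (tt N24165 (iv F255482)))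
theorem Q22911 : ∀ i, i < 22911 → P i := stepQ 22910 Q22910 (allL N22910 (tt N24158 (iv F255461)) (tt N23636 (iv F253335)) (tt N21451 F249781) (tt N24176 (iv F255508)) (tt N21391 (iv D55680)) (tt N24177 D56947) (tt N23515 (iv F252687)) (tt N23646 (iv F253389)) (tt N21403 F249782) (tt N24166 (iv F255485)))
theorem Q22912 : ∀ i, i < 22912 → P i := stepQ 22911 Q22911 (allL N22911 (tt N23977 (iv F254795)) (tt N21417 F249783) (tt N24178 D56948) (tt N21392 (iv D55681)) (tt N23978 (iv F254804)) (tt N21393 F249784) (tt N23537 (iv F252816)) (tt N24155 (iv F255450)) (tt N21513 F249785) (tt N24156 (iv F255459)))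
theorem Q22913 : ∀ i, i < 22913 → P i := stepQ 22912 Q22912 (allL N22912 (tt N24159 (iv F255464)) (tt N24179 D56949) (tt N21393 (iv D55682)) (tt N24175 (iv F255507)) (tt N21455 F249786) (tt N24178 (iv F255512)) (tt N23518 (iv F252698)) (tt N24169 (iv F255492)) (tt N21514 F249787) (tt N24167 (iv F255487)))
theorem Q22914 : ∀ i, i < 22914 → P i := stepQ 22913 Q22913 (allL N22913 (tt N23612 (iv F253236)) (tt N23661 (iv F253426)) (tt N23186 (iv F250622)) (tt N21394 (iv D55683)) (tt N24180 D56950) (tt N21395 F249788) (tt N23536 (iv F252812)) (tt N23663 (iv F253437)) (tt N22913 F249789) (tt N23196 (iv F250690)))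
theorem Q22915 : ∀ i, i < 22915 → P i := stepQ 22914 Q22914 (allL N22914 (tt N23622 (iv F253273)) (tt N23578 (iv F253048)) (tt N23164 (iv F250463)) (tt N21396 F249790) (tt N21395 (iv D55684)) (tt N24181 D56951) (tt N21398 F249791) (tt N23664 (iv F253445)) (tt N22914 F249792) (tt N23177 (iv F250562)))
theorem Q22916 : ∀ i, i < 22916 → P i := stepQ 22915 Q22915 (allL N22915 (tt N24160 (iv F255467)) (tt N23581 (iv F253068)) (tt N21463 F249793) (tt N24181 (iv F255517)) (tt N24177 (iv F255510)) (tt N21396 (iv D55685)) (tt N24182 D56952) (tt N23665 (iv F253451)) (tt N21404 F249794) (tt N24168 (iv F255490)))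
theorem Q22917 : ∀ i, i < 22917 → P i := stepQ 22916 Q22916 (allL N22916 (tt N23576 (iv F253034)) (tt N23177 (iv F250556)) (tt N21464 F249795) (tt N23561 (iv F252966)) (tt N23198 (iv F250698)) (tt N24182 (iv F255520)) (tt N21399 (iv D55686)) (tt N23575 (iv F253030)) (tt N21405 F249796) (tt N23578 (iv F253053)))
theorem Q22918 : ∀ i, i < 22918 → P i := stepQ 22917 Q22917 (allL N22917 (tt N23491 (iv F252550)) (tt N23676 (iv F253487)) (tt N21519 F249797) (tt N24183 D56953) (tt N24172 (iv F255502)) (tt N22917 F249798) (tt N21517 F249799) (tt N23681 (iv F253518)) (tt N21400 (iv D55687)) (tt N21401 F249800))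
theorem Q22919 : ∀ i, i < 22919 → P i := stepQ 22918 Q22918 (allL N22918 (tt N23702 (iv F253620)) (tt N23677 (iv F253493)) (tt N23749 (iv F253834)) (tt N21401 (iv D55688)) (tt N24184 D56954) (tt N22918 F249801) (tt N23526 (iv F252747)) (tt N23682 (iv F253524)) (tt N21402 F249802) (tt N24183 (iv F255525)))
theorem Q22920 : ∀ i, i < 22920 → P i := stepQ 22919 Q22919 (allL N22919 (tt N23732 (iv F253757)) (tt N23678 (iv F253497)) (tt N23969 (iv F254759)) (tt N21403 F249803) (tt N21402 (iv D55689)) (tt N24185 D56955) (tt N23527 (iv F252755)) (tt N23683 (iv F253530)) (tt N24184 (iv F255526)) (tt N22919 F249804))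
theorem Q22921 : ∀ i, i < 22921 → P i := stepQ 22920 Q22920 (allL N22920 (tt N24162 (iv F255474)) (tt N23583 (iv F253075)) (tt N21475 F249805) (tt N24185 (iv F255527)) (tt N21404 F249806) (tt N21403 (iv D55690)) (tt N24186 D56956) (tt N23673 (iv F253477)) (tt N24177 (iv F255511)) (tt N22920 F249807))
theorem Q22922 : ∀ i, i < 22922 → P i := stepQ 22921 Q22921 (allL N22921 (tt N23587 (iv F253097)) (tt N23178 (iv F250564)) (tt N21477 F249808) (tt N22921 F249809) (tt N24186 (iv F255531)) (tt N21405 F249810) (tt N21404 (iv D55691)) (tt N23584 (iv F253085)) (tt N24182 (iv F255521)) (tt N22921 F249811))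
theorem Q22923 : ∀ i, i < 22923 → P i := stepQ 22922 Q22922 (allL N22922 (tt N21424 F249812) (tt N23592 (iv F253131)) (tt N24024 (iv F255000)) (tt N21407 F249813) (tt N22922 F249814) (tt N21612 F249815) (tt N23551 (iv F252909)) (tt N21603 F249816) (tt N24187 D56957) (tt N21406 (iv D55692)))
theorem Q22924 : ∀ i, i < 22924 → P i := stepQ 22923 Q22923 (allL N22923 (tt N21425 F249817) (tt N23608 (iv F253213)) (tt N21409 F249818) (tt N24188 D56958) (tt N21408 F249819) (tt N23182 (iv F250596)) (tt N23553 (iv F252922)) (tt N23183 (iv F250606)) (tt N21407 (iv D55693)) (tt N21415 F249820))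
theorem Q22925 : ∀ i, i < 22925 → P i := stepQ 22924 Q22924 (allL N22924 (tt N21426 F249821) (tt N23621 (iv F253268)) (tt N23663 (iv F253435)) (tt N21408 (iv D55694)) (tt N24189 D56959) (tt N21410 F249822) (tt N23554 (iv F252926)) (tt N23186 (iv F250624)) (tt N22924 F249823) (tt N21416 F249824))
theorem Q22926 : ∀ i, i < 22926 → P i := stepQ 22925 Q22925 (allL N22925 (tt N21427 F249825) (tt N24156 (iv F255454)) (tt N24190 D56960) (tt N21409 (iv D55695)) (tt N24155 (iv F255448)) (tt N23975 (iv F254787)) (tt N23556 (iv F252934)) (tt N23978 (iv F254806)) (tt N24029 (iv F255027)) (tt N21417 F249826))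
theorem Q22927 : ∀ i, i < 22927 → P i := stepQ 22926 Q22926 (allL N22926 (tt N21434 F249827) (tt N23474 (iv F252435)) (tt N23191 (iv F250658)) (tt N24191 D56961) (tt N21413 F249828) (tt N23988 (iv F254853)) (tt N21414 F249829) (tt N23562 (iv F252975)) (tt N21412 (iv D55696)) (tt N23468 (iv F252395)))
theorem Q22928 : ∀ i, i < 22928 → P i := stepQ 22927 Q22927 (allL N22927 (tt N21439 F249830) (tt N24155 (iv F255447)) (tt N24192 D56962) (tt N21414 (iv D55697)) (tt N24156 (iv F255455)) (tt N23189 (iv F250643)) (tt N24191 (iv F255545)) (tt N21417 F249831) (tt N21537 F249832) (tt N23978 (iv F254808)))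
theorem Q22929 : ∀ i, i < 22929 → P i := stepQ 22928 Q22928 (allL N22928 (tt N21450 F249833) (tt N23637 (iv F253338)) (tt N24193 D56963) (tt N21415 (iv D55698)) (tt N24194 D56964) (tt N23188 (iv F250637)) (tt N23571 (iv F253016)) (tt N23192 (iv F250666)) (tt N23391 (iv F251916)) (tt N24188 (iv F255538)))
theorem Q22930 : ∀ i, i < 22930 → P i := stepQ 22929 Q22929 (allL N22929 (tt N21451 F249834) (tt N23662 (iv F253430)) (tt N24158 (iv F255462)) (tt N24194 (iv F255553)) (tt N21416 (iv D55699)) (tt N24195 D56965) (tt N23572 (iv F253018)) (tt N23197 (iv F250693)) (tt N21419 F249835) (tt N24189 (iv F255541)))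
theorem Q22931 : ∀ i, i < 22931 → P i := stepQ 22930 Q22930 (allL N22930 (tt N21455 F249836) (tt N24196 D56966) (tt N21417 (iv D55700)) (tt N24193 (iv F255551)) (tt N24159 (iv F255465)) (tt N23976 (iv F254793)) (tt N23574 (iv F253024)) (tt N24192 (iv F255548)) (tt N21545 F249837) (tt N24190 (iv F255543)))
theorem Q22932 : ∀ i, i < 22932 → P i := stepQ 22931 Q22931 (allL N22931 (tt N21463 F249838) (tt N23482 (iv F252490)) (tt N24160 (iv F255468)) (tt N23171 (iv F250512)) (tt N24195 (iv F255555)) (tt N21418 (iv D55701)) (tt N23623 (iv F253284)) (tt N23176 (iv F250553)) (tt N21420 F249839) (tt N23666 (iv F253457)))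
theorem Q22933 : ∀ i, i < 22933 → P i := stepQ 22932 Q22932 (allL N22932 (tt N21475 F249840) (tt N23487 (iv F252523)) (tt N24162 (iv F255475)) (tt N23269 (iv F251153)) (tt N21420 F249841) (tt N21419 (iv D55702)) (tt N24161 (iv F255472)) (tt N23179 (iv F250575)) (tt N24195 (iv F255556)) (tt N22932 F249842))
theorem Q22934 : ∀ i, i < 22934 → P i := stepQ 22933 Q22933 (allL N22933 (tt N23535 (iv F252805)) (tt N21425 F249843) (tt N23180 (iv F250579)) (tt N24197 D56967) (tt N21422 F249844) (tt N23509 (iv F252659)) (tt N23611 (iv F253233)) (tt N23984 (iv F254832)) (tt N21421 (iv D55703)) (tt N21444 F249845))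
theorem Q22935 : ∀ i, i < 22935 → P i := stepQ 22934 Q22934 (allL N22934 (tt N23536 (iv F252810)) (tt N21426 F249846) (tt N23995 (iv F254875)) (tt N21422 (iv D55704)) (tt N24198 D56968) (tt N21428 F249847) (tt N23612 (iv F253240)) (tt N23994 (iv F254872)) (tt N22934 F249848) (tt N21445 F249849))
theorem Q22936 : ∀ i, i < 22936 → P i := stepQ 22935 Q22935 (allL N22935 (tt N23332 (iv F251574)) (tt N23705 (iv F253633)) (tt N24101 (iv F255298)) (tt N21446 F249850) (tt N22935 F249851) (tt N23213 (iv F250804)) (tt N23613 (iv F253246)) (tt N23301 (iv F251374)) (tt N24199 D56969) (tt N21423 (iv D55705)))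
theorem Q22937 : ∀ i, i < 22937 → P i := stepQ 22936 Q22936 (allL N22936 (tt N24187 (iv F255533)) (tt N23714 (iv F253681)) (tt N24102 (iv F255303)) (tt N24200 D56970) (tt N22936 F249852) (tt N23234 (iv F250947)) (tt N23614 (iv F253248)) (tt N23986 (iv F254844)) (tt N21424 (iv D55706)) (tt N24199 (iv F255564)))
theorem Q22938 : ∀ i, i < 22938 → P i := stepQ 22937 Q22937 (allL N22937 (tt N24188 (iv F255537)) (tt N24197 (iv F255558)) (tt N24201 D56971) (tt N21425 (iv D55707)) (tt N24202 D56972) (tt N23982 (iv F254821)) (tt N23616 (iv F253254)) (tt N23989 (iv F254857)) (tt N24200 (iv F255565)) (tt N21450 F249853))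
theorem Q22939 : ∀ i, i < 22939 → P i := stepQ 22938 Q22938 (allL N22938 (tt N24189 (iv F255539)) (tt N24198 (iv F255560)) (tt N24166 (iv F255483)) (tt N24202 (iv F255568)) (tt N21426 (iv D55708)) (tt N24203 D56973) (tt N23617 (iv F253256)) (tt N23996 (iv F254880)) (tt N22938 F249854) (tt N21451 F249855))
theorem Q22940 : ∀ i, i < 22940 → P i := stepQ 22939 Q22939 (allL N22939 (tt N24190 (iv F255542)) (tt N24204 D56974) (tt N21427 (iv D55709)) (tt N24201 (iv F255566)) (tt N24167 (iv F255486)) (tt N23983 (iv F254824)) (tt N23620 (iv F253266)) (tt N23992 (iv F254865)) (tt N24109 (iv F255324)) (tt N21455 F249856))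
theorem Q22941 : ∀ i, i < 22941 → P i := stepQ 22940 Q22940 (allL N22940 (tt N23503 (iv F252614)) (tt N21429 F249857) (tt N23508 (iv F252650)) (tt N23174 F250541) (tt N21428 (iv D55710)) (tt N24205 D56975) (tt N21430 F249858) (tt N23187 (iv F250632)) (tt N22940 F249859) (tt N21460 F249860))
theorem Q22942 : ∀ i, i < 22942 → P i := stepQ 22941 Q22941 (allL N22941 (tt N23666 (iv F253453)) (tt N24205 (iv F255574)) (tt N24168 (iv F255488)) (tt N23175 F250548) (tt N24203 (iv F255570)) (tt N21429 (iv D55711)) (tt N23577 (iv F253044)) (tt N23625 (iv F253291)) (tt N22941 F249861) (tt N21463 F249862))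
theorem Q22943 : ∀ i, i < 22943 → P i := stepQ 22942 Q22942 (allL N22942 (tt N23191 (iv F250656)) (tt N23483 (iv F252497)) (tt N21434 F249863) (tt N24206 D56976) (tt N21432 F249864) (tt N23468 (iv F252393)) (tt N21437 F249865) (tt N23511 (iv F252670)) (tt N21431 (iv D55712)) (tt N23988 (iv F254855)))
theorem Q22944 : ∀ i, i < 22944 → P i := stepQ 22943 Q22943 (allL N22943 (tt N23195 (iv F250677)) (tt N23485 (iv F252508)) (tt N21445 F249866) (tt N21432 (iv D55713)) (tt N24207 D56977) (tt N21459 F249867) (tt N21438 F249868) (tt N23512 (iv F252676)) (tt N21465 F249869) (tt N23995 (iv F254879)))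
theorem Q22945 : ∀ i, i < 22945 → P i := stepQ 22944 Q22944 (allL N22944 (tt N23988 (iv F254850)) (tt N23618 (iv F253259)) (tt N23468 (iv F252391)) (tt N24208 D56978) (tt N23185 (iv F250616)) (tt N21434 F249870) (tt N23183 (iv F250605)) (tt N23628 (iv F253300)) (tt N21433 (iv D55714)) (tt N23191 (iv F250662)))
theorem Q22946 : ∀ i, i < 22946 → P i := stepQ 22945 Q22945 (allL N22945 (tt N24191 (iv F255544)) (tt N23981 (iv F254816)) (tt N24209 D56979) (tt N21434 (iv D55715)) (tt N23985 (iv F254835)) (tt N24208 (iv F255581)) (tt N21439 F249871) (tt N23629 (iv F253302)) (tt N21605 F249872) (tt N23991 (iv F254863)))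
theorem Q22947 : ∀ i, i < 22947 → P i := stepQ 22946 Q22946 (allL N22946 (tt N23516 (iv F252689)) (tt N21437 F249873) (tt N23509 (iv F252657)) (tt N24210 D56980) (tt N21436 F249874) (tt N23180 (iv F250581)) (tt N23483 (iv F252501)) (tt N21444 F249875) (tt N21435 (iv D55716)) (tt N23984 (iv F254833)))
theorem Q22948 : ∀ i, i < 22948 → P i := stepQ 22947 Q22947 (allL N22947 (tt N23520 (iv F252706)) (tt N21438 F249876) (tt N23512 (iv F252673)) (tt N21436 (iv D55717)) (tt N24211 D56981) (tt N21456 F249877) (tt N23485 (iv F252511)) (tt N21445 F249878) (tt N21466 F249879) (tt N23994 (iv F254874)))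
theorem Q22949 : ∀ i, i < 22949 → P i := stepQ 22948 Q22948 (allL N22948 (tt N23192 (iv F250663)) (tt N24210 (iv F255585)) (tt N24212 D56982) (tt N21437 (iv D55718)) (tt N24213 D56983) (tt N23181 (iv F250587)) (tt N24206 (iv F255577)) (tt N21450 F249880) (tt N23317 (iv F251479)) (tt N23989 (iv F254858)))
theorem Q22950 : ∀ i, i < 22950 → P i := stepQ 22949 Q22949 (allL N22949 (tt N23197 (iv F250691)) (tt N24211 (iv F255587)) (tt N23646 (iv F253387)) (tt N24213 (iv F255592)) (tt N21438 (iv D55719)) (tt N23671 (iv F253467)) (tt N24207 (iv F255579)) (tt N21451 F249881) (tt N21467 F249882) (tt N23996 (iv F254882)))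
theorem Q22951 : ∀ i, i < 22951 → P i := stepQ 22950 Q22950 (allL N22950 (tt N24192 (iv F255547)) (tt N24214 D56984) (tt N21439 (iv D55720)) (tt N24212 (iv F255590)) (tt N24169 (iv F255491)) (tt N23980 (iv F254812)) (tt N24209 (iv F255583)) (tt N21455 F249883) (tt N21615 F249884) (tt N23992 (iv F254867)))
theorem Q22952 : ∀ i, i < 22952 → P i := stepQ 22951 Q22951 (allL N22951 (tt N21444 F249885) (tt N23565 (iv F252989)) (tt N23529 (iv F252767)) (tt N24215 D56985) (tt N21441 F249886) (tt N23530 (iv F252774)) (tt N23640 (iv F253356)) (tt N23516 (iv F252694)) (tt N21440 (iv D55721)) (tt N23535 (iv F252809)))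
theorem Q22953 : ∀ i, i < 22953 → P i := stepQ 22952 Q22952 (allL N22952 (tt N21445 F249887) (tt N23519 (iv F252701)) (tt N23195 (iv F250679)) (tt N21441 (iv D55722)) (tt N24216 D56986) (tt N21457 F249888) (tt N23196 (iv F250687)) (tt N23520 (iv F252711)) (tt N21468 F249889) (tt N23536 (iv F252814)))
theorem Q22954 : ∀ i, i < 22954 → P i := stepQ 22953 Q22953 (allL N22953 (tt N23723 (iv F253727)) (tt N21447 F249890) (tt N23735 (iv F253772)) (tt N24217 D56987) (tt N21469 F249891) (tt N23292 (iv F251307)) (tt N23643 (iv F253374)) (tt N23296 (iv F251337)) (tt N21442 (iv D55723)) (tt N23738 (iv F253790)))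
theorem Q22955 : ∀ i, i < 22955 → P i := stepQ 22954 Q22954 (allL N22954 (tt N23530 (iv F252771)) (tt N21449 F249892) (tt N23984 (iv F254829)) (tt N24218 D56988) (tt N21458 F249893) (tt N21444 F249894) (tt N23494 (iv F252568)) (tt N23180 (iv F250583)) (tt N21443 (iv D55724)) (tt N23509 (iv F252662)))
theorem Q22956 : ∀ i, i < 22956 → P i := stepQ 22955 Q22955 (allL N22955 (tt N24215 (iv F255596)) (tt N21450 F249895) (tt N24219 D56989) (tt N21444 (iv D55725)) (tt N24220 D56990) (tt N24218 (iv F255602)) (tt N23645 (iv F253384)) (tt N24210 (iv F255586)) (tt N24217 (iv F255600)) (tt N24197 (iv F255559)))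
theorem Q22957 : ∀ i, i < 22957 → P i := stepQ 22956 Q22956 (allL N22956 (tt N24216 (iv F255597)) (tt N21451 F249896) (tt N24207 (iv F255578)) (tt N24220 (iv F255604)) (tt N21445 (iv D55726)) (tt N24221 D56991) (tt N23646 (iv F253388)) (tt N24211 (iv F255588)) (tt N21471 F249897) (tt N24198 (iv F255562)))
theorem Q22958 : ∀ i, i < 22958 → P i := stepQ 22957 Q22957 (allL N22957 (tt N23353 (iv F251692)) (tt N23738 (iv F253786)) (tt N21627 F249898) (tt N24222 D56992) (tt N21472 F249899) (tt N23303 (iv F251384)) (tt N23649 (iv F253399)) (tt N23307 (iv F251417)) (tt N21446 (iv D55727)) (tt N21447 F249900))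
theorem Q22959 : ∀ i, i < 22959 → P i := stepQ 22958 Q22958 (allL N22958 (tt N23391 (iv F251912)) (tt N24217 (iv F255599)) (tt N24223 D56993) (tt N21447 (iv D55728)) (tt N24224 D56994) (tt N23312 (iv F251445)) (tt N23650 (iv F253401)) (tt N23317 (iv F251478)) (tt N21450 F249901) (tt N24222 (iv F255608)))
theorem Q22960 : ∀ i, i < 22960 → P i := stepQ 22959 Q22959 (allL N22959 (tt N23168 (iv F250492)) (tt N23494 (iv F252566)) (tt N21453 F249902) (tt N24225 D56995) (tt N21461 F249903) (tt N23651 (iv F253405)) (tt N21449 F249904) (tt N23162 (iv F250452)) (tt N21448 (iv D55729)) (tt N23166 (iv F250483)))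
theorem Q22961 : ∀ i, i < 22961 → P i := stepQ 22960 Q22960 (allL N22960 (tt N23188 (iv F250635)) (tt N24218 (iv F255601)) (tt N24226 D56996) (tt N21449 (iv D55730)) (tt N24227 D56997) (tt N21450 F249905) (tt N24225 (iv F255613)) (tt N23181 (iv F250589)) (tt N23312 (iv F251447)) (tt N23982 (iv F254823)))
theorem Q22962 : ∀ i, i < 22962 → P i := stepQ 22961 Q22961 (allL N22961 (tt N24193 (iv F255550)) (tt N24228 D56998) (tt N21450 (iv D55731)) (tt N21455 F249906) (tt N24229 D56999) (tt N24226 (iv F255615)) (tt N23653 (iv F253409)) (tt N24212 (iv F255591)) (tt N24223 (iv F255610)) (tt N24201 (iv F255567)))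
theorem Q22963 : ∀ i, i < 22963 → P i := stepQ 22962 Q22962 (allL N22962 (tt N24194 (iv F255552)) (tt N24220 (iv F255603)) (tt N24229 (iv F255620)) (tt N21451 F249907) (tt N21450 (iv D55732)) (tt N24230 D57000) (tt N23654 (iv F253411)) (tt N24213 (iv F255593)) (tt N24224 (iv F255612)) (tt N24202 (iv F255569)))
theorem Q22964 : ∀ i, i < 22964 → P i := stepQ 22963 Q22963 (allL N22963 (tt N24195 (iv F255554)) (tt N24221 (iv F255605)) (tt N24177 (iv F255509)) (tt N24230 (iv F255621)) (tt N21463 F249908) (tt N21451 (iv D55733)) (tt N24231 D57001) (tt N23671 (iv F253469)) (tt N21475 F249909) (tt N24203 (iv F255572)))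
theorem Q22965 : ∀ i, i < 22965 → P i := stepQ 22964 Q22964 (allL N22964 (tt N23166 (iv F250477)) (tt N23603 (iv F253183)) (tt N23162 (iv F250449)) (tt N24227 (iv F255616)) (tt N21462 F249910) (tt N23656 (iv F253415)) (tt N23182 (iv F250597)) (tt N21453 F249911) (tt N21452 (iv D55734)) (tt N23168 (iv F250498)))
theorem Q22966 : ∀ i, i < 22966 → P i := stepQ 22965 Q22965 (allL N22965 (tt N23170 (iv F250504)) (tt N23991 (iv F254860)) (tt N24232 D57002) (tt N21453 (iv D55735)) (tt N23181 (iv F250586)) (tt N23657 (iv F253417)) (tt N21454 F249912) (tt N24227 (iv F255617)) (tt N21636 F249913) (tt N23981 (iv F254820)))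
theorem Q22967 : ∀ i, i < 22967 → P i := stepQ 22966 Q22966 (allL N22966 (tt N23976 (iv F254791)) (tt N24233 D57003) (tt N21454 (iv D55736)) (tt N24226 (iv F255614)) (tt N23979 (iv F254810)) (tt N21455 F249914) (tt N24232 (iv F255624)) (tt N23980 (iv F254813)) (tt N21637 F249915) (tt N23983 (iv F254827)))
theorem Q22968 : ∀ i, i < 22968 → P i := stepQ 22967 Q22967 (allL N22967 (tt N24234 D57004) (tt N21455 (iv D55737)) (tt N23993 (iv F254868)) (tt N24228 (iv F255619)) (tt N24179 (iv F255514)) (tt N24233 (iv F255626)) (tt N23660 (iv F253424)) (tt N24214 (iv F255594)) (tt N21638 F249916) (tt N24204 (iv F255573)))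
theorem Q22969 : ∀ i, i < 22969 → P i := stepQ 22968 Q22968 (allL N22968 (tt N23512 (iv F252671)) (tt N21463 F249917) (tt N23520 (iv F252708)) (tt N23194 (iv F250673)) (tt N24221 (iv F255606)) (tt N21460 (iv D55738)) (tt N23521 (iv F252716)) (tt N23195 (iv F250682)) (tt N21476 F249918) (tt N24205 (iv F255576)))
theorem Q22970 : ∀ i, i < 22970 → P i := stepQ 22969 Q22969 (allL N22969 (tt N23623 (iv F253281)) (tt N23521 F252719) (tt N24182 (iv F255519)) (tt N23558 (iv F252947)) (tt N24231 (iv F255622)) (tt N21464 F249919) (tt N21463 (iv D55739)) (tt N23569 (iv F253009)) (tt N21477 F249920) (tt N23577 (iv F253046)))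
theorem Q22971 : ∀ i, i < 22971 → P i := stepQ 22970 Q22970 (allL N22970 (tt N23199 (iv F250703)) (tt N23486 (iv F252515)) (tt N21471 F249921) (tt N23324 (iv F251520)) (tt N21465 (iv D55740)) (tt N23523 (iv F252726)) (tt N21467 F249922) (tt N23525 (iv F252742)) (tt N24207 (iv F255580)) (tt N22970 F249923))
theorem Q22972 : ∀ i, i < 22972 → P i := stepQ 22971 Q22971 (allL N22971 (tt N23523 (iv F252722)) (tt N21467 F249924) (tt N23525 (iv F252739)) (tt N23300 (iv F251362)) (tt N21466 (iv D55741)) (tt N23199 (iv F250707)) (tt N23486 (iv F252519)) (tt N21471 F249925) (tt N24211 (iv F255589)) (tt N22971 F249926))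
theorem Q22973 : ∀ i, i < 22973 → P i := stepQ 22972 Q22972 (allL N22972 (tt N21471 F249927) (tt N23528 (iv F252759)) (tt N23199 (iv F250705)) (tt N23733 (iv F253764)) (tt N21468 (iv D55742)) (tt N23525 (iv F252740)) (tt N23201 (iv F250720)) (tt N23523 (iv F252728)) (tt N24216 (iv F255598)) (tt N22972 F249928))
theorem Q22974 : ∀ i, i < 22974 → P i := stepQ 22973 Q22973 (allL N22973 (tt N23729 (iv F253744)) (tt N21473 F249929) (tt N23443 (iv F252192)) (tt N21469 (iv D55743)) (tt N24235 D57005) (tt N21676 F249930) (tt N23682 (iv F253523)) (tt N23299 (iv F251356)) (tt N21470 F249931) (tt N23739 (iv F253795)))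
theorem Q22975 : ∀ i, i < 22975 → P i := stepQ 22974 Q22974 (allL N22974 (tt N23733 (iv F253762)) (tt N21474 F249932) (tt N23444 (iv F252198)) (tt N21471 F249933) (tt N21470 (iv D55744)) (tt N23434 (iv F252143)) (tt N23683 (iv F253529)) (tt N23300 (iv F251365)) (tt N24235 (iv F255630)) (tt N22974 F249934))
theorem Q22976 : ∀ i, i < 22976 → P i := stepQ 22975 Q22975 (allL N22975 (tt N23525 (iv F252737)) (tt N21475 F249935) (tt N23523 (iv F252724)) (tt N23434 (iv F252142)) (tt N21476 F249936) (tt N21471 (iv D55745)) (tt N23524 (iv F252734)) (tt N23199 (iv F250709)) (tt N24221 (iv F255607)) (tt N22975 F249937))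
theorem Q22977 : ∀ i, i < 22977 → P i := stepQ 22976 Q22976 (allL N22976 (tt N23371 (iv F251796)) (tt N23739 (iv F253791)) (tt N24074 (iv F255212)) (tt N21472 (iv D55746)) (tt N24236 D57006) (tt N21677 F249938) (tt N23684 (iv F253533)) (tt N23309 (iv F251428)) (tt N22976 F249939) (tt N21473 F249940))
theorem Q22978 : ∀ i, i < 22978 → P i := stepQ 22977 Q22977 (allL N22977 (tt N23420 (iv F252057)) (tt N24235 (iv F255629)) (tt N24100 (iv F255295)) (tt N24224 (iv F255611)) (tt N21473 (iv D55747)) (tt N23944 (iv F254649)) (tt N23686 (iv F253542)) (tt N23321 (iv F251500)) (tt N21474 F249941) (tt N24236 (iv F255632)))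
theorem Q22979 : ∀ i, i < 22979 → P i := stepQ 22978 Q22978 (allL N22978 (tt N24161 (iv F255470)) (tt N23524 (iv F252731)) (tt N24186 (iv F255530)) (tt N23952 (iv F254680)) (tt N21477 F249942) (tt N23674 (iv F253480)) (tt N21475 (iv D55748)) (tt N23585 (iv F253090)) (tt N24231 (iv F255623)) (tt N22978 F249943))
theorem Q22980 : ∀ i, i < 22980 → P i := stepQ 22979 Q22979 (allL N22979 (tt N21493 F249944) (tt N23544 (iv F252863)) (tt N23705 (iv F253634)) (tt N23500 (iv F252603)) (tt N22979 F249945) (tt N21479 F249946) (tt N23492 (iv F252560)) (tt N23534 (iv F252804)) (tt N24237 D57007) (tt N21478 (iv D55749)))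
theorem Q22981 : ∀ i, i < 22981 → P i := stepQ 22980 Q22980 (allL N22980 (tt N21494 F249947) (tt N23545 (iv F252869)) (tt N23706 (iv F253640)) (tt N24238 D57008) (tt N21480 F249948) (tt N24237 (iv F255635)) (tt N21481 F249949) (tt N23694 (iv F253589)) (tt N21479 (iv D55750)) (tt N23713 (iv F253680)))
theorem Q22982 : ∀ i, i < 22982 → P i := stepQ 22981 Q22981 (allL N22981 (tt N21504 F249950) (tt N24029 (iv F255023)) (tt N24239 D57009) (tt N21481 (iv D55751)) (tt N21537 F249951) (tt N24010 (iv F254946)) (tt N24238 (iv F255638)) (tt N21482 F249952) (tt N24156 (iv F255458)) (tt N23716 (iv F253694)))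
theorem Q22983 : ∀ i, i < 22983 → P i := stepQ 22982 Q22982 (allL N22982 (tt N21514 F249953) (tt N24240 D57010) (tt N21482 (iv D55752)) (tt N23710 (iv F253659)) (tt N21545 F249954) (tt N24011 (iv F254952)) (tt N23697 (iv F253601)) (tt N24239 (iv F255641)) (tt N24159 (iv F255466)) (tt N23722 (iv F253726)))
theorem Q22984 : ∀ i, i < 22984 → P i := stepQ 22983 Q22983 (allL N22983 (tt N23720 (iv F253707)) (tt N23999 (iv F254896)) (tt N24241 D57011) (tt N21483 (iv D55753)) (tt N21558 F249955) (tt N23716 (iv F253691)) (tt N23704 (iv F253630)) (tt N23721 (iv F253719)) (tt N21488 F249956) (tt N24010 (iv F254949)))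
theorem Q22985 : ∀ i, i < 22985 → P i := stepQ 22984 Q22984 (allL N22984 (tt N23713 (iv F253674)) (tt N23302 (iv F251376)) (tt N23694 (iv F253586)) (tt N24242 D57012) (tt N21485 F249957) (tt N23741 (iv F253799)) (tt N21486 F249958) (tt N23706 (iv F253643)) (tt N21484 (iv D55754)) (tt N21494 F249959))
theorem Q22986 : ∀ i, i < 22986 → P i := stepQ 22985 Q22985 (allL N22985 (tt N23716 (iv F253688)) (tt N24000 (iv F254903)) (tt N24243 D57013) (tt N21486 (iv D55755)) (tt N21568 F249960) (tt N23720 (iv F253710)) (tt N24242 (iv F255646)) (tt N21488 F249961) (tt N23721 (iv F253720)) (tt N21504 F249962))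
theorem Q22987 : ∀ i, i < 22987 → P i := stepQ 22986 Q22986 (allL N22986 (tt N23721 (iv F253715)) (tt N21529 F249963) (tt N24244 D57014) (tt N21487 (iv D55756)) (tt N23719 (iv F253701)) (tt N21488 F249964) (tt N23736 (iv F253779)) (tt N23720 (iv F253712)) (tt N23716 (iv F253693)) (tt N21513 F249965))
theorem Q22988 : ∀ i, i < 22988 → P i := stepQ 22987 Q22987 (allL N22987 (tt N23722 (iv F253722)) (tt N24245 D57015) (tt N21488 (iv D55757)) (tt N23697 (iv F253599)) (tt N21588 F249966) (tt N24244 (iv F255651)) (tt N23710 (iv F253661)) (tt N24243 (iv F255649)) (tt N24241 (iv F255644)) (tt N21514 F249967))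
theorem Q22989 : ∀ i, i < 22989 → P i := stepQ 22988 Q22988 (allL N22988 (tt N23705 (iv F253632)) (tt N23745 (iv F253807)) (tt N21493 F249968) (tt N23290 (iv F251294)) (tt N22988 F249969) (tt N21490 F249970) (tt N24170 (iv F255497)) (tt N23293 (iv F251316)) (tt N24246 D57016) (tt N21489 (iv D55758)))
theorem Q22990 : ∀ i, i < 22990 → P i := stepQ 22989 Q22989 (allL N22989 (tt N23706 (iv F253639)) (tt N23746 (iv F253814)) (tt N21494 F249971) (tt N24247 D57017) (tt N21491 F249972) (tt N24246 (iv F255657)) (tt N21501 F249973) (tt N23713 (iv F253679)) (tt N21490 (iv D55759)) (tt N23694 (iv F253590)))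
theorem Q22991 : ∀ i, i < 22991 → P i := stepQ 22990 Q22990 (allL N22990 (tt N23492 (iv F252555)) (tt N21532 F249974) (tt N24170 (iv F255494)) (tt N23473 (iv F252429)) (tt N22990 F249975) (tt N21502 F249976) (tt N21493 F249977) (tt N23497 (iv F252590)) (tt N24248 D57018) (tt N21492 (iv D55760)))
theorem Q22992 : ∀ i, i < 22992 → P i := stepQ 22991 Q22991 (allL N22991 (tt N24237 (iv F255633)) (tt N23986 (iv F254839)) (tt N24246 (iv F255655)) (tt N24249 D57019) (tt N22991 F249978) (tt N21494 F249979) (tt N24248 (iv F255662)) (tt N23714 (iv F253684)) (tt N21493 (iv D55761)) (tt N23741 (iv F253801)))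
theorem Q22993 : ∀ i, i < 22993 → P i := stepQ 22992 Q22992 (allL N22992 (tt N24238 (iv F255636)) (tt N23987 (iv F254846)) (tt N24250 D57020) (tt N21494 (iv D55762)) (tt N21605 F249980) (tt N24249 (iv F255664)) (tt N21504 F249981) (tt N23715 (iv F253687)) (tt N23985 (iv F254837)) (tt N24242 (iv F255647)))
theorem Q22994 : ∀ i, i < 22994 → P i := stepQ 22993 Q22993 (allL N22993 (tt N23364 (iv F251754)) (tt N21500 F249982) (tt N21534 F249983) (tt N23752 (iv F253849)) (tt N21515 F249984) (tt N21496 F249985) (tt N23632 (iv F253322)) (tt N21507 F249986) (tt N24251 D57021) (tt N21495 (iv D55763)))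
theorem Q22995 : ∀ i, i < 22995 → P i := stepQ 22994 Q22994 (allL N22994 (tt N23803 (iv F254085)) (tt N21501 F249987) (tt N23397 (iv F251949)) (tt N24252 D57022) (tt N21497 F249988) (tt N24251 (iv F255670)) (tt N23746 (iv F253817)) (tt N21508 F249989) (tt N21496 (iv D55764)) (tt N23689 (iv F253557)))
theorem Q22996 : ∀ i, i < 22996 → P i := stepQ 22995 Q22995 (allL N22995 (tt N23699 (iv F253607)) (tt N23752 (iv F253847)) (tt N23641 (iv F253361)) (tt N21500 F249990) (tt N22995 F249991) (tt N21499 F249992) (tt N24163 (iv F255480)) (tt N21509 F249993) (tt N24253 D57023) (tt N21498 (iv D55765)))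
theorem Q22997 : ∀ i, i < 22997 → P i := stepQ 22996 Q22996 (allL N22996 (tt N23700 (iv F253613)) (tt N23753 (iv F253854)) (tt N23643 (iv F253372)) (tt N24254 D57024) (tt N21523 F249994) (tt N24253 (iv F255675)) (tt N23735 (iv F253774)) (tt N21510 F249995) (tt N21499 (iv D55766)) (tt N23737 (iv F253785)))
theorem Q22998 : ∀ i, i < 22998 → P i := stepQ 22997 Q22997 (allL N22997 (tt N23707 (iv F253645)) (tt N24251 (iv F255667)) (tt N21503 F249996) (tt N24255 D57025) (tt N21517 F249997) (tt N21501 F249998) (tt N24172 (iv F255503)) (tt N21511 F249999) (tt N21500 (iv D55767)) (tt N23513 (iv F252684)))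
theorem Q22999 : ∀ i, i < 22999 → P i := stepQ 22998 Q22998 (allL N22998 (tt N23708 (iv F253651)) (tt N24252 (iv F255672)) (tt N24256 D57026) (tt N21501 (iv D55768)) (tt N23756 (iv F253871)) (tt N24255 (iv F255679)) (tt N24247 (iv F255658)) (tt N21512 F250000) (tt N24254 (iv F255678)) (tt N23695 (iv F253594)))
theorem Q23000 : ∀ i, i < 23000 → P i := stepQ 22999 Q22999 (allL N22999 (tt N23493 (iv F252561)) (tt N21533 F250001) (tt N24172 (iv F255501)) (tt N24257 D57027) (tt N21519 F250002) (tt N24248 (iv F255661)) (tt N21503 F250003) (tt N23737 (iv F253784)) (tt N21502 (iv D55769)) (tt N21510 F250004))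
theorem Q23001 : ∀ i, i < 23001 → P i := stepQ 23000 Q23000 (allL N23000 (tt N24010 (iv F254943)) (tt N21537 F250005) (tt N24258 D57028) (tt N21503 (iv D55770)) (tt N24029 (iv F255024)) (tt N21504 F250006) (tt N24257 (iv F255684)) (tt N21513 F250007) (tt N24155 (iv F255451)) (tt N23720 (iv F253714)))
theorem Q23002 : ∀ i, i < 23002 → P i := stepQ 23001 Q23001 (allL N23001 (tt N24239 (iv F255639)) (tt N24259 D57029) (tt N21504 (iv D55771)) (tt N24256 (iv F255681)) (tt N21615 F250008) (tt N24258 (iv F255686)) (tt N24250 (iv F255666)) (tt N21514 F250009) (tt N24169 (iv F255493)) (tt N24243 (iv F255650)))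
theorem Q23003 : ∀ i, i < 23003 → P i := stepQ 23002 Q23002 (allL N23002 (tt N21562 F250010) (tt N21509 F250011) (tt N23879 (iv F254435)) (tt N21507 F250012) (tt N23002 F250013) (tt N21506 F250014) (tt N23301 (iv F251373)) (tt N23752 (iv F253852)) (tt N24260 D57030) (tt N21505 (iv D55772)))
theorem Q23004 : ∀ i, i < 23004 → P i := stepQ 23003 Q23003 (allL N23003 (tt N21563 F250015) (tt N21510 F250016) (tt N23874 (iv F254415)) (tt N24261 D57031) (tt N21524 F250017) (tt N24260 (iv F255693)) (tt N21528 F250018) (tt N23753 (iv F253858)) (tt N21506 (iv D55773)) (tt N21533 F250019))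
theorem Q23005 : ∀ i, i < 23005 → P i := stepQ 23004 Q23004 (allL N23004 (tt N23365 (iv F251762)) (tt N21511 F250020) (tt N21541 F250021) (tt N24262 D57032) (tt N21520 F250022) (tt N21508 F250023) (tt N23307 (iv F251416)) (tt N24251 (iv F255671)) (tt N21507 (iv D55774)) (tt N23316 (iv F251475)))
theorem Q23006 : ∀ i, i < 23006 → P i := stepQ 23005 Q23005 (allL N23005 (tt N24090 (iv F255265)) (tt N21512 F250024) (tt N24263 D57033) (tt N21508 (iv D55775)) (tt N23736 (iv F253778)) (tt N24262 (iv F255701)) (tt N23719 (iv F253703)) (tt N24252 (iv F255673)) (tt N24261 (iv F255698)) (tt N23692 (iv F253576)))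
theorem Q23007 : ∀ i, i < 23007 → P i := stepQ 23006 Q23006 (allL N23006 (tt N23703 (iv F253625)) (tt N24260 (iv F255691)) (tt N24171 (iv F255498)) (tt N24264 D57034) (tt N23006 F250025) (tt N21510 F250026) (tt N23741 (iv F253800)) (tt N24253 (iv F255676)) (tt N21509 (iv D55776)) (tt N24248 (iv F255663)))
theorem Q23008 : ∀ i, i < 23008 → P i := stepQ 23007 Q23007 (allL N23007 (tt N23704 (iv F253628)) (tt N24261 (iv F255696)) (tt N24265 D57035) (tt N21510 (iv D55777)) (tt N23751 (iv F253843)) (tt N24264 (iv F255702)) (tt N23720 (iv F253711)) (tt N24254 (iv F255677)) (tt N21512 F250027) (tt N24257 (iv F255685)))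
theorem Q23009 : ∀ i, i < 23009 → P i := stepQ 23008 Q23008 (allL N23008 (tt N23709 (iv F253655)) (tt N24262 (iv F255700)) (tt N24266 D57036) (tt N21511 (iv D55778)) (tt N24267 D57037) (tt N21512 F250028) (tt N23742 (iv F253802)) (tt N24255 (iv F255680)) (tt N24264 (iv F255703)) (tt N23696 (iv F253597)))
theorem Q23010 : ∀ i, i < 23010 → P i := stepQ 23009 Q23009 (allL N23009 (tt N23710 (iv F253658)) (tt N24268 D57038) (tt N21512 (iv D55779)) (tt N21514 F250029) (tt N23758 (iv F253879)) (tt N24266 (iv F255706)) (tt N23722 (iv F253725)) (tt N24256 (iv F255682)) (tt N24265 (iv F255704)) (tt N23697 (iv F253602)))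
theorem Q23011 : ∀ i, i < 23011 → P i := stepQ 23010 Q23010 (allL N23010 (tt N24011 (iv F254950)) (tt N24269 D57039) (tt N21513 (iv D55780)) (tt N24266 (iv F255705)) (tt N24040 (iv F255059)) (tt N21514 F250030) (tt N23744 (iv F253805)) (tt N24258 (iv F255687)) (tt N24178 (iv F255513)) (tt N24244 (iv F255652)))
theorem Q23012 : ∀ i, i < 23012 → P i := stepQ 23011 Q23011 (allL N23011 (tt N24270 D57040) (tt N21514 (iv D55781)) (tt N24008 (iv F254933)) (tt N24268 (iv F255708)) (tt N21638 F250031) (tt N24269 (iv F255710)) (tt N23727 (iv F253739)) (tt N24259 (iv F255689)) (tt N24179 (iv F255515)) (tt N24245 (iv F255654)))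
theorem Q23013 : ∀ i, i < 23013 → P i := stepQ 23012 Q23012 (allL N23012 (tt N23374 (iv F251815)) (tt N21517 F250032) (tt N21535 F250033) (tt N24271 D57041) (tt N24251 (iv F255669)) (tt N21516 F250034) (tt N23676 (iv F253490)) (tt N21520 F250035) (tt N21515 (iv D55782)) (tt N23319 (iv F251489)))
theorem Q23014 : ∀ i, i < 23014 → P i := stepQ 23013 Q23013 (allL N23013 (tt N23378 (iv F251839)) (tt N21518 F250036) (tt N23368 (iv F251776)) (tt N21516 (iv D55783)) (tt N23298 (iv F251346)) (tt N24271 (iv F255713)) (tt N23013 F250037) (tt N21521 F250038) (tt N23013 F250039) (tt N23322 (iv F251509)))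
theorem Q23015 : ∀ i, i < 23015 → P i := stepQ 23014 Q23014 (allL N23014 (tt N23711 (iv F253663)) (tt N24271 (iv F255712)) (tt N24043 (iv F255069)) (tt N21517 (iv D55784)) (tt N24272 D57042) (tt N21518 F250040) (tt N24183 (iv F255523)) (tt N21522 F250041) (tt N23014 F250042) (tt N23526 (iv F252750)))
theorem Q23016 : ∀ i, i < 23016 → P i := stepQ 23015 Q23015 (allL N23015 (tt N23375 (iv F251822)) (tt N21522 F250043) (tt N23357 (iv F251719)) (tt N21520 (iv D55785)) (tt N24273 D57043) (tt N21521 F250044) (tt N23309 (iv F251427)) (tt N24271 (iv F255714)) (tt N23015 F250045) (tt N23320 (iv F251496)))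
theorem Q23017 : ∀ i, i < 23017 → P i := stepQ 23016 Q23016 (allL N23016 (tt N23712 (iv F253669)) (tt N24273 (iv F255718)) (tt N24046 (iv F255083)) (tt N24267 (iv F255707)) (tt N21522 (iv D55786)) (tt N23763 (iv F253905)) (tt N23743 (iv F253803)) (tt N24272 (iv F255716)) (tt N23016 F250046) (tt N23698 (iv F253606)))
theorem Q23018 : ∀ i, i < 23018 → P i := stepQ 23017 Q23017 (allL N23017 (tt N21556 F250047) (tt N23236 (iv F250958)) (tt N21527 F250048) (tt N24274 D57044) (tt N21526 F250049) (tt N23997 (iv F254886)) (tt N23748 (iv F253830)) (tt N23243 (iv F251008)) (tt N21525 (iv D55787)) (tt N24026 (iv F255015)))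
theorem Q23019 : ∀ i, i < 23019 → P i := stepQ 23018 Q23018 (allL N23018 (tt N21557 F250050) (tt N23237 (iv F250964)) (tt N23526 (iv F252745)) (tt N21526 (iv D55788)) (tt N24275 D57045) (tt N21699 F250051) (tt N23749 (iv F253836)) (tt N23244 (iv F251015)) (tt N21659 F250052) (tt N24043 (iv F255073)))
theorem Q23020 : ∀ i, i < 23020 → P i := stepQ 23019 Q23019 (allL N23019 (tt N21558 F250053) (tt N23716 (iv F253689)) (tt N24276 D57046) (tt N21527 (iv D55789)) (tt N23720 (iv F253709)) (tt N23999 (iv F254898)) (tt N23751 (iv F253844)) (tt N23719 (iv F253704)) (tt N21529 F250054) (tt N24029 (iv F255028)))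
theorem Q23021 : ∀ i, i < 23021 → P i := stepQ 23020 Q23020 (allL N23020 (tt N21568 F250055) (tt N23720 (iv F253708)) (tt N24277 D57047) (tt N21528 (iv D55790)) (tt N23716 (iv F253690)) (tt N24000 (iv F254905)) (tt N24261 (iv F255697)) (tt N21529 F250056) (tt N23719 (iv F253705)) (tt N21537 F250057))
theorem Q23022 : ∀ i, i < 23022 → P i := stepQ 23021 Q23021 (allL N23021 (tt N21588 F250058) (tt N24278 D57048) (tt N21529 (iv D55791)) (tt N23918 (iv F254565)) (tt N23722 (iv F253724)) (tt N24001 (iv F254911)) (tt N23758 (iv F253880)) (tt N24277 (iv F255726)) (tt N24276 (iv F255724)) (tt N21545 F250059))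
theorem Q23023 : ∀ i, i < 23023 → P i := stepQ 23022 Q23022 (allL N23022 (tt N21602 F250060) (tt N23885 (iv F254464)) (tt N21533 F250061) (tt N24279 D57049) (tt N21531 F250062) (tt N24120 (iv F255359)) (tt N21536 F250063) (tt N23765 (iv F253920)) (tt N21530 (iv D55792)) (tt N23874 (iv F254419)))
theorem Q23024 : ∀ i, i < 23024 → P i := stepQ 23023 Q23023 (allL N23023 (tt N21604 F250064) (tt N24248 (iv F255659)) (tt N24120 (iv F255357)) (tt N24280 D57050) (tt N23023 F250065) (tt N21533 F250066) (tt N23986 (iv F254843)) (tt N23766 (iv F253925)) (tt N21532 (iv D55793)) (tt N24260 (iv F255694)))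
theorem Q23025 : ∀ i, i < 23025 → P i := stepQ 23024 Q23024 (allL N23024 (tt N21605 F250067) (tt N24257 (iv F255683)) (tt N24281 D57051) (tt N21533 (iv D55794)) (tt N24238 (iv F255637)) (tt N24280 (iv F255732)) (tt N21537 F250068) (tt N23767 (iv F253928)) (tt N24191 (iv F255546)) (tt N24261 (iv F255699)))
theorem Q23026 : ∀ i, i < 23026 → P i := stepQ 23025 Q23025 (allL N23025 (tt N23840 (iv F254253)) (tt N21536 F250069) (tt N24251 (iv F255668)) (tt N24282 D57052) (tt N21535 F250070) (tt N23397 (iv F251951)) (tt N23885 (iv F254466)) (tt N21541 F250071) (tt N21534 (iv D55795)) (tt N23870 (iv F254400)))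
theorem Q23027 : ∀ i, i < 23027 → P i := stepQ 23026 Q23026 (allL N23026 (tt N21610 F250072) (tt N24282 (iv F255735)) (tt N24283 D57053) (tt N21536 (iv D55796)) (tt N23835 (iv F254236)) (tt N23402 (iv F251975)) (tt N24279 (iv F255730)) (tt N21544 F250073) (tt N23405 (iv F251998)) (tt N23891 (iv F254486)))
theorem Q23028 : ∀ i, i < 23028 → P i := stepQ 23027 Q23027 (allL N23027 (tt N21615 F250074) (tt N24284 D57054) (tt N21537 (iv D55797)) (tt N24283 (iv F255738)) (tt N24239 (iv F255640)) (tt N24002 (iv F254915)) (tt N24281 (iv F255734)) (tt N21545 F250075) (tt N24192 (iv F255549)) (tt N24277 (iv F255727)))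
theorem Q23029 : ∀ i, i < 23029 → P i := stepQ 23028 Q23028 (allL N23028 (tt N21541 F250076) (tt N21617 F250077) (tt N23365 (iv F251764)) (tt N24285 D57055) (tt N21539 F250078) (tt N24003 (iv F254921)) (tt N23361 (iv F251746)) (tt N23840 (iv F254257)) (tt N21538 (iv D55798)) (tt N23404 (iv F251993)))
theorem Q23030 : ∀ i, i < 23030 → P i := stepQ 23029 Q23029 (allL N23029 (tt N23832 (iv F254216)) (tt N21543 F250079) (tt N23880 (iv F254442)) (tt N24286 D57056) (tt N21547 F250080) (tt N23385 (iv F251887)) (tt N23777 (iv F253974)) (tt N23398 (iv F251960)) (tt N21540 (iv D55799)) (tt N23878 (iv F254432)))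
theorem Q23031 : ∀ i, i < 23031 → P i := stepQ 23030 Q23030 (allL N23030 (tt N24285 (iv F255741)) (tt N21544 F250081) (tt N24287 D57057) (tt N21541 (iv D55800)) (tt N23841 (iv F254259)) (tt N24004 (iv F254925)) (tt N23778 (iv F253979)) (tt N24282 (iv F255736)) (tt N24286 (iv F255744)) (tt N23904 (iv F254525)))
theorem Q23032 : ∀ i, i < 23032 → P i := stepQ 23031 Q23031 (allL N23031 (tt N21627 F250082) (tt N23878 (iv F254428)) (tt N23353 (iv F251694)) (tt N24288 D57058) (tt N21548 F250083) (tt N23350 (iv F251678)) (tt N23781 (iv F253994)) (tt N23361 (iv F251747)) (tt N21542 (iv D55801)) (tt N21543 F250084))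
theorem Q23033 : ∀ i, i < 23033 → P i := stepQ 23032 Q23032 (allL N23032 (tt N21628 F250085) (tt N24286 (iv F255743)) (tt N24289 D57059) (tt N21543 (iv D55802)) (tt N23845 (iv F254279)) (tt N23387 (iv F251894)) (tt N23782 (iv F253999)) (tt N23405 (iv F251997)) (tt N21544 F250086) (tt N24288 (iv F255746)))
theorem Q23034 : ∀ i, i < 23034 → P i := stepQ 23033 Q23033 (allL N23033 (tt N21632 F250087) (tt N24290 D57060) (tt N21544 (iv D55803)) (tt N21545 F250088) (tt N23848 (iv F254295)) (tt N24006 (iv F254930)) (tt N23784 (iv F254007)) (tt N24283 (iv F255739)) (tt N24289 (iv F255748)) (tt N23918 (iv F254567)))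
theorem Q23035 : ∀ i, i < 23035 → P i := stepQ 23034 Q23034 (allL N23034 (tt N24291 D57061) (tt N21545 (iv D55804)) (tt N24269 (iv F255709)) (tt N24290 (iv F255749)) (tt N24240 (iv F255642)) (tt N24008 (iv F254935)) (tt N23787 (iv F254013)) (tt N24284 (iv F255740)) (tt N24196 (iv F255557)) (tt N24278 (iv F255728)))
theorem Q23036 : ∀ i, i < 23036 → P i := stepQ 23035 Q23035 (allL N23035 (tt N21552 F250089) (tt N21629 F250090) (tt N23842 (iv F254264)) (tt N24016 (iv F254966)) (tt N21550 F250091) (tt N23819 (iv F254171)) (tt N23812 (iv F254133)) (tt N21620 F250092) (tt N24292 D57062) (tt N21549 (iv D55805)))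
theorem Q23037 : ∀ i, i < 23037 → P i := stepQ 23036 Q23036 (allL N23036 (tt N21553 F250093) (tt N21651 F250094) (tt N24061 (iv F255154)) (tt N24293 D57063) (tt N24292 (iv F255753)) (tt N21655 F250095) (tt N23813 (iv F254138)) (tt N21648 F250096) (tt N21550 (iv D55806)) (tt N24137 (iv F255391)))
theorem Q23038 : ∀ i, i < 23038 → P i := stepQ 23037 Q23037 (allL N23037 (tt N24016 (iv F254964)) (tt N21555 F250097) (tt N23836 (iv F254241)) (tt N21552 F250098) (tt N21665 F250099) (tt N24072 (iv F255203)) (tt N23814 (iv F254146)) (tt N23833 (iv F254228)) (tt N24294 D57064) (tt N21551 (iv D55807)))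
theorem Q23039 : ∀ i, i < 23039 → P i := stepQ 23038 Q23038 (allL N23038 (tt N24292 (iv F255751)) (tt N21556 F250100) (tt N24062 (iv F255159)) (tt N24295 D57065) (tt N21553 F250101) (tt N24073 (iv F255208)) (tt N23816 (iv F254155)) (tt N24081 (iv F255244)) (tt N21552 (iv D55808)) (tt N24098 (iv F255291)))
theorem Q23040 : ∀ i, i < 23040 → P i := stepQ 23039 Q23039 (allL N23039 (tt N24293 (iv F255755)) (tt N21557 F250102) (tt N24296 D57066) (tt N21553 (iv D55809)) (tt N24297 D57067) (tt N21700 F250103) (tt N23817 (iv F254158)) (tt N23424 F252090) (tt N21667 F250104) (tt N24139 (iv F255402)))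
theorem Q23041 : ∀ i, i < 23041 → P i := stepQ 23040 Q23040 (allL N23040 (tt N23974 (iv F254779)) (tt N23887 (iv F254471)) (tt N21579 F250105) (tt N24101 (iv F255299)) (tt N21668 F250106) (tt N24075 (iv F255220)) (tt N23819 (iv F254172)) (tt N23776 (iv F253971)) (tt N24298 D57068) (tt N21554 (iv D55810)))
theorem Q23042 : ∀ i, i < 23042 → P i := stepQ 23041 Q23041 (allL N23041 (tt N23966 (iv F254741)) (tt N24294 (iv F255760)) (tt N21580 F250107) (tt N24299 D57069) (tt N21669 F250108) (tt N24076 (iv F255224)) (tt N23820 (iv F254177)) (tt N24084 (iv F255254)) (tt N21555 (iv D55811)) (tt N24298 (iv F255769)))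
theorem Q23043 : ∀ i, i < 23043 → P i := stepQ 23042 Q23042 (allL N23042 (tt N24274 (iv F255720)) (tt N24295 (iv F255762)) (tt N24300 D57070) (tt N21556 (iv D55812)) (tt N24301 D57071) (tt N24077 (iv F255226)) (tt N23823 (iv F254186)) (tt N24087 (iv F255259)) (tt N24299 (iv F255770)) (tt N24105 (iv F255314)))
theorem Q23044 : ∀ i, i < 23044 → P i := stepQ 23043 Q23043 (allL N23043 (tt N24275 (iv F255721)) (tt N24297 (iv F255765)) (tt N23728 (iv F253740)) (tt N24301 (iv F255772)) (tt N21557 (iv D55813)) (tt N23935 (iv F254613)) (tt N23824 (iv F254187)) (tt N23731 (iv F253754)) (tt N21671 F250109) (tt N24140 (iv F255405)))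
theorem Q23045 : ∀ i, i < 23045 → P i := stepQ 23044 Q23044 (allL N23044 (tt N24276 (iv F255723)) (tt N24302 D57072) (tt N21558 (iv D55814)) (tt N24300 (iv F255771)) (tt N24241 (iv F255643)) (tt N24079 (iv F255232)) (tt N23827 (iv F254196)) (tt N24091 (iv F255271)) (tt N21588 F250110) (tt N24109 (iv F255325)))
theorem Q23046 : ∀ i, i < 23046 → P i := stepQ 23045 Q23045 (allL N23045 (tt N23879 (iv F254433)) (tt N23349 (iv F251670)) (tt N21562 F250111) (tt N23347 (iv F251659)) (tt N23045 F250112) (tt N21560 F250113) (tt N23339 (iv F251618)) (tt N23355 (iv F251709)) (tt N24303 D57073) (tt N21559 (iv D55815)))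
theorem Q23047 : ∀ i, i < 23047 → P i := stepQ 23046 Q23046 (allL N23046 (tt N23874 (iv F254413)) (tt N23965 (iv F254737)) (tt N21563 F250114) (tt N24304 D57074) (tt N21561 F250115) (tt N24303 (iv F255776)) (tt N21567 F250116) (tt N23828 (iv F254202)) (tt N21560 (iv D55816)) (tt N21602 F250117))
theorem Q23048 : ∀ i, i < 23048 → P i := stepQ 23047 Q23047 (allL N23047 (tt N24260 (iv F255690)) (tt N23825 (iv F254189)) (tt N24303 (iv F255774)) (tt N24305 D57075) (tt N23047 F250118) (tt N21563 F250119) (tt N23342 (iv F251632)) (tt N23830 (iv F254211)) (tt N21562 (iv D55817)) (tt N21604 F250120))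
theorem Q23049 : ∀ i, i < 23049 → P i := stepQ 23048 Q23048 (allL N23048 (tt N24261 (iv F255695)) (tt N24071 (iv F255196)) (tt N24306 D57076) (tt N21563 (iv D55818)) (tt N24242 (iv F255645)) (tt N24305 (iv F255780)) (tt N21568 F250121) (tt N23831 (iv F254214)) (tt N24090 (iv F255268)) (tt N21605 F250122))
theorem Q23050 : ∀ i, i < 23050 → P i := stepQ 23049 Q23049 (allL N23049 (tt N23844 (iv F254273)) (tt N21567 F250123) (tt N24073 (iv F255206)) (tt N24307 D57077) (tt N21565 F250124) (tt N24062 (iv F255161)) (tt N23965 (iv F254738)) (tt N21575 F250125) (tt N21564 (iv D55819)) (tt N21607 F250126))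
theorem Q23051 : ∀ i, i < 23051 → P i := stepQ 23050 Q23050 (allL N23050 (tt N23869 (iv F254391)) (tt N23781 (iv F253992)) (tt N24084 (iv F255251)) (tt N24308 D57078) (tt N21672 F250127) (tt N24064 (iv F255171)) (tt N23878 (iv F254430)) (tt N21580 F250128) (tt N21566 (iv D55820)) (tt N23777 (iv F253976)))
theorem Q23052 : ∀ i, i < 23052 → P i := stepQ 23051 Q23051 (allL N23051 (tt N23891 (iv F254483)) (tt N24307 (iv F255784)) (tt N24309 D57079) (tt N21567 (iv D55821)) (tt N23772 (iv F253954)) (tt N24065 (iv F255173)) (tt N24304 (iv F255778)) (tt N21584 F250129) (tt N24308 (iv F255789)) (tt N21610 F250130))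
theorem Q23053 : ∀ i, i < 23053 → P i := stepQ 23052 Q23052 (allL N23052 (tt N24277 (iv F255725)) (tt N24310 D57080) (tt N21568 (iv D55822)) (tt N24309 (iv F255790)) (tt N24243 (iv F255648)) (tt N24067 (iv F255179)) (tt N24306 (iv F255782)) (tt N21588 F250131) (tt N24091 (iv F255272)) (tt N21615 F250132))
theorem Q23054 : ∀ i, i < 23054 → P i := stepQ 23053 Q23053 (allL N23053 (tt N21575 F250133) (tt N23404 (iv F251988)) (tt N23901 (iv F254513)) (tt N24311 D57081) (tt N21570 F250134) (tt N24116 (iv F255348)) (tt N23398 (iv F251959)) (tt N23844 (iv F254276)) (tt N21569 (iv D55823)) (tt N21617 F250135))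
theorem Q23055 : ∀ i, i < 23055 → P i := stepQ 23054 Q23054 (allL N23054 (tt N23632 (iv F253318)) (tt N23836 (iv F254240)) (tt N21573 F250136) (tt N23829 (iv F254205)) (tt N21673 F250137) (tt N23809 (iv F254122)) (tt N23364 (iv F251760)) (tt N23352 (iv F251691)) (tt N24312 D57082) (tt N21571 (iv D55824)))
theorem Q23056 : ∀ i, i < 23056 → P i := stepQ 23055 Q23055 (allL N23055 (tt N23883 (iv F254453)) (tt N21578 F250138) (tt N23809 (iv F254119)) (tt N21574 F250139) (tt N23055 F250140) (tt N21573 F250141) (tt N23806 (iv F254109)) (tt N23779 (iv F253987)) (tt N24313 D57083) (tt N21572 (iv D55825)))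
theorem Q23057 : ∀ i, i < 23057 → P i := stepQ 23056 Q23056 (allL N23056 (tt N23885 (iv F254463)) (tt N21580 F250142) (tt N24312 (iv F255797)) (tt N24314 D57084) (tt N21674 F250143) (tt N24313 (iv F255801)) (tt N23840 (iv F254256)) (tt N23781 (iv F253995)) (tt N21573 (iv D55826)) (tt N23769 (iv F253939)))
theorem Q23058 : ∀ i, i < 23058 → P i := stepQ 23057 Q23057 (allL N23057 (tt N24116 (iv F255344)) (tt N21583 F250144) (tt N24081 (iv F255240)) (tt N24315 D57085) (tt N21592 F250145) (tt N21575 F250146) (tt N24111 (iv F255333)) (tt N24062 (iv F255162)) (tt N21574 (iv D55827)) (tt N21621 F250147))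
theorem Q23059 : ∀ i, i < 23059 → P i := stepQ 23058 Q23058 (allL N23058 (tt N24311 (iv F255795)) (tt N21584 F250148) (tt N24316 D57086) (tt N21575 (iv D55828)) (tt N23778 (iv F253978)) (tt N24315 (iv F255805)) (tt N23841 (iv F254260)) (tt N24307 (iv F255786)) (tt N24314 (iv F255803)) (tt N21622 F250149))
theorem Q23060 : ∀ i, i < 23060 → P i := stepQ 23059 Q23059 (allL N23059 (tt N23221 (iv F250856)) (tt N23589 (iv F253113)) (tt N23215 (iv F250817)) (tt N21623 F250150) (tt N23059 F250151) (tt N23334 F251592) (tt N21577 F250152) (tt N23207 (iv F250766)) (tt N21576 (iv D55829)) (tt N24317 D57087))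
theorem Q23061 : ∀ i, i < 23061 → P i := stepQ 23060 Q23060 (allL N23060 (tt N23222 (iv F250864)) (tt N23806 (iv F254104)) (tt N24068 (iv F255183)) (tt N21582 F250153) (tt N23060 F250154) (tt N23804 (iv F254095)) (tt N21578 F250155) (tt N23815 (iv F254152)) (tt N24318 D57088) (tt N21576 (iv D55830)))
theorem Q23062 : ∀ i, i < 23062 → P i := stepQ 23061 Q23061 (allL N23061 (tt N23349 (iv F251669)) (tt N23768 (iv F253930)) (tt N24075 (iv F255217)) (tt N21625 F250156) (tt N23061 F250157) (tt N21579 F250158) (tt N24317 (iv F255810)) (tt N23304 (iv F251394)) (tt N24319 D57089) (tt N21577 (iv D55831)))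
theorem Q23063 : ∀ i, i < 23063 → P i := stepQ 23062 Q23062 (allL N23062 (tt N23967 (iv F254746)) (tt N24313 (iv F255799)) (tt N24076 (iv F255222)) (tt N24320 D57090) (tt N23062 F250159) (tt N21580 F250160) (tt N24318 (iv F255812)) (tt N24064 (iv F255172)) (tt N21578 (iv D55832)) (tt N24319 (iv F255815)))
theorem Q23064 : ∀ i, i < 23064 → P i := stepQ 23063 Q23063 (allL N23063 (tt N23965 (iv F254736)) (tt N23769 (iv F253936)) (tt N24298 (iv F255767)) (tt N24321 D57091) (tt N21675 F250161) (tt N24319 (iv F255814)) (tt N23844 (iv F254275)) (tt N23777 (iv F253975)) (tt N21579 (iv D55833)) (tt N21580 F250162))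
theorem Q23065 : ∀ i, i < 23065 → P i := stepQ 23064 Q23064 (allL N23064 (tt N23912 (iv F254547)) (tt N24314 (iv F255802)) (tt N24322 D57092) (tt N21580 (iv D55834)) (tt N23782 (iv F253998)) (tt N24320 (iv F255816)) (tt N23845 (iv F254280)) (tt N24308 (iv F255788)) (tt N21584 F250163) (tt N24321 (iv F255819)))
theorem Q23066 : ∀ i, i < 23066 → P i := stepQ 23065 Q23065 (allL N23065 (tt N23216 (iv F250823)) (tt N23818 (iv F254161)) (tt N21585 F250164) (tt N23815 (iv F254149)) (tt N21594 F250165) (tt N23814 (iv F254145)) (tt N23329 (iv F251558)) (tt N21582 F250166) (tt N24323 D57093) (tt N21581 (iv D55835)))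
theorem Q23067 : ∀ i, i < 23067 → P i := stepQ 23066 Q23066 (allL N23066 (tt N23223 (iv F250870)) (tt N24111 (iv F255329)) (tt N21586 F250167) (tt N24324 D57094) (tt N21595 F250168) (tt N23846 (iv F254287)) (tt N21583 F250169) (tt N24323 (iv F255823)) (tt N21582 (iv D55836)) (tt N21630 F250170))
theorem Q23068 : ∀ i, i < 23068 → P i := stepQ 23067 Q23067 (allL N23067 (tt N23919 (iv F254568)) (tt N24315 (iv F255804)) (tt N24325 D57095) (tt N21583 (iv D55837)) (tt N24326 D57096) (tt N21584 F250171) (tt N24324 (iv F255825)) (tt N24065 (iv F255174)) (tt N24320 (iv F255817)) (tt N21631 F250172))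
theorem Q23069 : ∀ i, i < 23069 → P i := stepQ 23068 Q23068 (allL N23068 (tt N23918 (iv F254563)) (tt N24327 D57097) (tt N21584 (iv D55838)) (tt N21588 F250173) (tt N23784 (iv F254006)) (tt N24325 (iv F255828)) (tt N23848 (iv F254296)) (tt N24309 (iv F255791)) (tt N24322 (iv F255820)) (tt N21632 F250174))
theorem Q23070 : ∀ i, i < 23070 → P i := stepQ 23069 Q23069 (allL N23069 (tt N23220 (iv F250851)) (tt N23803 (iv F254086)) (tt N24323 (iv F255821)) (tt N24328 D57098) (tt N21597 F250175) (tt N23849 (iv F254299)) (tt N23333 (iv F251582)) (tt N21586 F250176) (tt N21585 (iv D55839)) (tt N21635 F250177))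
theorem Q23071 : ∀ i, i < 23071 → P i := stepQ 23070 Q23070 (allL N23070 (tt N23226 (iv F250891)) (tt N24090 (iv F255266)) (tt N24329 D57099) (tt N21586 (iv D55840)) (tt N23308 (iv F251420)) (tt N23850 (iv F254302)) (tt N21587 F250178) (tt N24328 (iv F255834)) (tt N24071 (iv F255198)) (tt N21636 F250179))
theorem Q23072 : ∀ i, i < 23072 → P i := stepQ 23071 Q23071 (allL N23071 (tt N24001 (iv F254909)) (tt N24330 D57100) (tt N21587 (iv D55841)) (tt N24325 (iv F255827)) (tt N24015 (iv F254962)) (tt N21588 F250180) (tt N24329 (iv F255836)) (tt N24067 (iv F255180)) (tt N24079 (iv F255234)) (tt N21637 F250181))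
theorem Q23073 : ∀ i, i < 23073 → P i := stepQ 23072 Q23072 (allL N23072 (tt N24331 D57101) (tt N21588 (iv D55842)) (tt N24092 (iv F255274)) (tt N24327 (iv F255832)) (tt N24245 (iv F255653)) (tt N24330 (iv F255838)) (tt N23853 (iv F254309)) (tt N24310 (iv F255793)) (tt N24302 (iv F255773)) (tt N21638 F250182))
theorem Q23074 : ∀ i, i < 23074 → P i := stepQ 23073 Q23073 (allL N23073 (tt N23369 (iv F251782)) (tt N21591 F250183) (tt N24332 D57102) (tt N21590 (iv D55843)) (tt N21686 F250184) (tt N24063 (iv F255165)) (tt N23073 F250185) (tt N21593 F250186) (tt N23073 F250187) (tt N21642 F250188))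
theorem Q23075 : ∀ i, i < 23075 → P i := stepQ 23074 Q23074 (allL N23074 (tt N23373 (iv F251809)) (tt N21596 F250189) (tt N24333 D57103) (tt N21592 (iv D55844)) (tt N24334 D57104) (tt N21593 F250190) (tt N24142 (iv F255411)) (tt N24063 (iv F255166)) (tt N23074 F250191) (tt N21649 F250192))
theorem Q23076 : ∀ i, i < 23076 → P i := stepQ 23075 Q23075 (allL N23075 (tt N23231 (iv F250923)) (tt N23261 (iv F251105)) (tt N21593 (iv D55845)) (tt N23266 (iv F251133)) (tt N21600 F250193) (tt N24333 (iv F255847)) (tt N21598 F250194) (tt N24332 (iv F255844)) (tt N23075 F250195) (tt N21650 F250196))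
theorem Q23077 : ∀ i, i < 23077 → P i := stepQ 23076 Q23076 (allL N23076 (tt N23217 (iv F250830)) (tt N24137 (iv F255387)) (tt N21597 F250197) (tt N24335 D57105) (tt N24323 (iv F255822)) (tt N21599 F250198) (tt N23330 (iv F251563)) (tt N21595 F250199) (tt N21594 (iv D55846)) (tt N21651 F250200))
theorem Q23078 : ∀ i, i < 23078 → P i := stepQ 23077 Q23077 (allL N23077 (tt N23224 (iv F250877)) (tt N24142 (iv F255409)) (tt N23306 (iv F251405)) (tt N21595 (iv D55847)) (tt N24336 D57106) (tt N21600 F250201) (tt N21596 F250202) (tt N24335 (iv F255855)) (tt N23077 F250203) (tt N21652 F250204))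
theorem Q23079 : ∀ i, i < 23079 → P i := stepQ 23078 Q23078 (allL N23078 (tt N23942 (iv F254640)) (tt N24334 (iv F255850)) (tt N24014 (iv F254958)) (tt N24326 (iv F255830)) (tt N21596 (iv D55848)) (tt N23795 (iv F254050)) (tt N24336 (iv F255858)) (tt N24066 (iv F255176)) (tt N23078 F250205) (tt N21653 F250206))
theorem Q23080 : ∀ i, i < 23080 → P i := stepQ 23079 Q23079 (allL N23079 (tt N23227 (iv F250896)) (tt N24138 (iv F255393)) (tt N21686 F250207) (tt N21599 (iv D55849)) (tt N24332 (iv F255842)) (tt N24335 (iv F255854)) (tt N23079 F250208) (tt N21600 F250209) (tt N23079 F250210) (tt N21657 F250211))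
theorem Q23081 : ∀ i, i < 23081 → P i := stepQ 23080 Q23080 (allL N23080 (tt N24120 (iv F255356)) (tt N23967 (iv F254747)) (tt N21604 F250212) (tt N24337 D57107) (tt N23080 F250213) (tt N21602 F250214) (tt N24034 (iv F255044)) (tt N23872 (iv F254410)) (tt N21601 (iv D55850)) (tt N24303 (iv F255777)))
theorem Q23082 : ∀ i, i < 23082 → P i := stepQ 23081 Q23081 (allL N23081 (tt N24279 (iv F255729)) (tt N23912 (iv F254548)) (tt N24338 D57108) (tt N21602 (iv D55851)) (tt N23900 (iv F254508)) (tt N24337 (iv F255861)) (tt N21610 F250215) (tt N23873 (iv F254412)) (tt N23904 (iv F254524)) (tt N24304 (iv F255779)))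
theorem Q23083 : ∀ i, i < 23083 → P i := stepQ 23082 Q23082 (allL N23082 (tt N23986 (iv F254838)) (tt N23601 (iv F253174)) (tt N24034 (iv F255041)) (tt N24339 D57109) (tt N23082 F250216) (tt N21613 F250217) (tt N21604 F250218) (tt N24187 (iv F255536)) (tt N21603 (iv D55852)) (tt N23342 (iv F251633)))
theorem Q23084 : ∀ i, i < 23084 → P i := stepQ 23083 Q23083 (allL N23083 (tt N24280 (iv F255731)) (tt N24096 (iv F255283)) (tt N24340 D57110) (tt N21604 (iv D55853)) (tt N24341 D57111) (tt N21605 F250219) (tt N24339 (iv F255865)) (tt N23876 (iv F254424)) (tt N24208 (iv F255582)) (tt N24305 (iv F255781)))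
theorem Q23085 : ∀ i, i < 23085 → P i := stepQ 23084 Q23084 (allL N23084 (tt N24281 (iv F255733)) (tt N24342 D57112) (tt N21605 (iv D55854)) (tt N24338 (iv F255862)) (tt N24250 (iv F255665)) (tt N24340 (iv F255866)) (tt N21615 F250220) (tt N23877 (iv F254426)) (tt N24209 (iv F255584)) (tt N24306 (iv F255783)))
theorem Q23086 : ∀ i, i < 23086 → P i := stepQ 23085 Q23085 (allL N23085 (tt N23843 (iv F254269)) (tt N21609 F250221) (tt N24098 (iv F255287)) (tt N24343 D57113) (tt N21641 F250222) (tt N21607 F250223) (tt N24031 (iv F255034)) (tt N21621 F250224) (tt N21606 (iv D55855)) (tt N24062 (iv F255163)))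
theorem Q23087 : ∀ i, i < 23087 → P i := stepQ 23086 Q23086 (allL N23086 (tt N23845 (iv F254278)) (tt N21610 F250225) (tt N24344 D57114) (tt N21607 (iv D55856)) (tt N21628 F250226) (tt N24343 (iv F255870)) (tt N23912 (iv F254550)) (tt N21622 F250227) (tt N21633 F250228) (tt N24307 (iv F255787)))
theorem Q23088 : ∀ i, i < 23088 → P i := stepQ 23087 Q23087 (allL N23087 (tt N23405 (iv F251994)) (tt N21633 F250229) (tt N24345 D57115) (tt N21608 (iv D55857)) (tt N21622 F250230) (tt N23313 (iv F251450)) (tt N23904 (iv F254523)) (tt N21628 F250231) (tt N21610 F250232) (tt N23778 (iv F253981)))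
theorem Q23089 : ∀ i, i < 23089 → P i := stepQ 23088 Q23088 (allL N23088 (tt N23402 (iv F251974)) (tt N24343 (iv F255869)) (tt N24346 D57116) (tt N21609 (iv D55858)) (tt N24347 D57117) (tt N21610 F250233) (tt N24035 (iv F255046)) (tt N21631 F250234) (tt N23313 (iv F251453)) (tt N24065 (iv F255175)))
theorem Q23090 : ∀ i, i < 23090 → P i := stepQ 23089 Q23089 (allL N23089 (tt N24283 (iv F255737)) (tt N24348 D57118) (tt N21610 (iv D55859)) (tt N21615 F250235) (tt N24349 D57119) (tt N24346 (iv F255880)) (tt N24338 (iv F255863)) (tt N21632 F250236) (tt N24345 (iv F255878)) (tt N24309 (iv F255792)))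
theorem Q23091 : ∀ i, i < 23091 → P i := stepQ 23090 Q23090 (allL N23090 (tt N23835 (iv F254235)) (tt N21628 F250237) (tt N24349 (iv F255886)) (tt N21611 F250238) (tt N21610 (iv D55860)) (tt N24350 D57120) (tt N23900 (iv F254509)) (tt N21633 F250239) (tt N21622 F250240) (tt N23772 (iv F253956)))
theorem Q23092 : ∀ i, i < 23092 → P i := stepQ 23091 Q23091 (allL N23091 (tt N23834 (iv F254229)) (tt N21626 F250241) (tt N23755 (iv F253865)) (tt N24350 (iv F255890)) (tt N21645 F250242) (tt N21611 (iv D55861)) (tt N24351 D57121) (tt N21634 F250243) (tt N21619 F250244) (tt N23771 (iv F253951)))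
theorem Q23093 : ∀ i, i < 23093 → P i := stepQ 23092 Q23092 (allL N23092 (tt N23234 (iv F250943)) (tt N23593 (iv F253136)) (tt N24025 (iv F255006)) (tt N24352 D57122) (tt N21646 F250245) (tt N24187 (iv F255535)) (tt N21635 F250246) (tt N21613 F250247) (tt N21612 (iv D55862)) (tt N23333 (iv F251584)))
theorem Q23094 : ∀ i, i < 23094 → P i := stepQ 23093 Q23093 (allL N23093 (tt N23987 (iv F254845)) (tt N23602 (iv F253179)) (tt N24353 D57123) (tt N21613 (iv D55863)) (tt N24021 (iv F254990)) (tt N24339 (iv F255864)) (tt N21614 F250248) (tt N24352 (iv F255897)) (tt N23184 (iv F250611)) (tt N23343 (iv F251637)))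
theorem Q23095 : ∀ i, i < 23095 → P i := stepQ 23094 Q23094 (allL N23094 (tt N24002 (iv F254913)) (tt N24354 D57124) (tt N21614 (iv D55864)) (tt N24346 (iv F255879)) (tt N24030 (iv F255030)) (tt N21615 F250249) (tt N24353 (iv F255898)) (tt N21637 F250250) (tt N23980 (iv F254814)) (tt N24067 (iv F255182)))
theorem Q23096 : ∀ i, i < 23096 → P i := stepQ 23095 Q23095 (allL N23095 (tt N24355 D57125) (tt N21615 (iv D55865)) (tt N24110 (iv F255326)) (tt N24348 (iv F255884)) (tt N24259 (iv F255688)) (tt N24354 (iv F255899)) (tt N24342 (iv F255868)) (tt N21638 F250251) (tt N24214 (iv F255595)) (tt N24310 (iv F255794)))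
theorem Q23097 : ∀ i, i < 23097 → P i := stepQ 23096 Q23096 (allL N23096 (tt N21621 F250252) (tt N24003 (iv F254918)) (tt N24111 (iv F255330)) (tt N24356 D57126) (tt N21647 F250253) (tt N21617 F250254) (tt N24081 (iv F255243)) (tt N23843 (iv F254272)) (tt N21616 (iv D55866)) (tt N24116 (iv F255350)))
theorem Q23098 : ∀ i, i < 23098 → P i := stepQ 23097 Q23097 (allL N23097 (tt N21622 F250255) (tt N24285 (iv F255742)) (tt N24357 D57127) (tt N21617 (iv D55867)) (tt N23405 (iv F251995)) (tt N24356 (iv F255903)) (tt N23897 (iv F254497)) (tt N23845 (iv F254281)) (tt N23835 (iv F254238)) (tt N24311 (iv F255796)))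
theorem Q23099 : ∀ i, i < 23099 → P i := stepQ 23098 Q23098 (allL N23098 (tt N23833 (iv F254221)) (tt N21624 F250256) (tt N23754 (iv F253861)) (tt N21620 F250257) (tt N21658 F250258) (tt N23898 (iv F254502)) (tt N21619 F250259) (tt N24016 (iv F254969)) (tt N24351 (iv F255895)) (tt N21618 (iv D55868)))
theorem Q23100 : ∀ i, i < 23100 → P i := stepQ 23099 Q23099 (allL N23099 (tt N24081 (iv F255238)) (tt N21630 F250260) (tt N24116 (iv F255346)) (tt N24358 D57128) (tt N21648 F250261) (tt N23901 (iv F254515)) (tt N21621 F250262) (tt N24292 (iv F255754)) (tt N21620 (iv D55869)) (tt N24111 (iv F255334)))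
theorem Q23101 : ∀ i, i < 23101 → P i := stepQ 23100 Q23100 (allL N23100 (tt N24356 (iv F255902)) (tt N21631 F250263) (tt N24359 D57129) (tt N21621 (iv D55870)) (tt N24360 D57130) (tt N21622 F250264) (tt N24358 (iv F255906)) (tt N24343 (iv F255871)) (tt N24350 (iv F255892)) (tt N24315 (iv F255806)))
theorem Q23102 : ∀ i, i < 23102 → P i := stepQ 23101 Q23101 (allL N23101 (tt N24357 (iv F255904)) (tt N24361 D57131) (tt N21622 (iv D55871)) (tt N24118 (iv F255353)) (tt N24345 (iv F255876)) (tt N24359 (iv F255907)) (tt N23903 (iv F254520)) (tt N24344 (iv F255874)) (tt N24349 (iv F255888)) (tt N24316 (iv F255807)))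
theorem Q23103 : ∀ i, i < 23103 → P i := stepQ 23102 Q23102 (allL N23102 (tt N23247 (iv F251034)) (tt N23770 (iv F253941)) (tt N23203 (iv F250733)) (tt N24317 (iv F255808)) (tt N21682 F250265) (tt N23906 (iv F254533)) (tt N21625 F250266) (tt N23209 (iv F250781)) (tt N24362 D57132) (tt N21623 (iv D55872)))
theorem Q23104 : ∀ i, i < 23104 → P i := stepQ 23103 Q23103 (allL N23103 (tt N23248 (iv F251039)) (tt N24351 (iv F255893)) (tt N23311 (iv F251439)) (tt N24363 D57133) (tt N21683 F250267) (tt N23907 (iv F254536)) (tt N21626 F250268) (tt N24018 (iv F254979)) (tt N21624 (iv D55873)) (tt N24362 (iv F255913)))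
theorem Q23105 : ∀ i, i < 23105 → P i := stepQ 23104 Q23104 (allL N23104 (tt N23350 (iv F251675)) (tt N23771 (iv F253946)) (tt N23303 (iv F251382)) (tt N24364 D57134) (tt N21684 F250269) (tt N21627 F250270) (tt N24362 (iv F255912)) (tt N23305 (iv F251401)) (tt N21625 (iv D55874)) (tt N21626 F250271))
theorem Q23106 : ∀ i, i < 23106 → P i := stepQ 23105 Q23105 (allL N23105 (tt N23387 (iv F251893)) (tt N24350 (iv F255889)) (tt N24365 D57135) (tt N21626 (iv D55875)) (tt N24366 D57136) (tt N21628 F250272) (tt N24363 (iv F255914)) (tt N23313 (iv F251452)) (tt N21631 F250273) (tt N24364 (iv F255917)))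
theorem Q23107 : ∀ i, i < 23107 → P i := stepQ 23106 Q23106 (allL N23106 (tt N24288 (iv F255745)) (tt N23772 (iv F253953)) (tt N24367 D57137) (tt N21627 (iv D55876)) (tt N24307 (iv F255785)) (tt N24364 (iv F255916)) (tt N23910 (iv F254543)) (tt N23778 (iv F253980)) (tt N24321 (iv F255818)) (tt N21628 F250274))
theorem Q23108 : ∀ i, i < 23108 → P i := stepQ 23107 Q23107 (allL N23107 (tt N24289 (iv F255747)) (tt N24368 D57138) (tt N21628 (iv D55877)) (tt N24223 (iv F255609)) (tt N24344 (iv F255873)) (tt N24365 (iv F255918)) (tt N23911 (iv F254545)) (tt N24345 (iv F255877)) (tt N21632 F250275) (tt N24367 (iv F255922)))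
theorem Q23109 : ∀ i, i < 23109 → P i := stepQ 23108 Q23108 (allL N23108 (tt N23236 (iv F250957)) (tt N24292 (iv F255752)) (tt N21635 F250276) (tt N24369 D57139) (tt N21651 F250277) (tt N23913 (iv F254554)) (tt N24025 (iv F255008)) (tt N21630 F250278) (tt N21629 (iv D55878)) (tt N24323 (iv F255824)))
theorem Q23110 : ∀ i, i < 23110 → P i := stepQ 23109 Q23109 (allL N23109 (tt N23250 (iv F251051)) (tt N24358 (iv F255905)) (tt N24370 D57140) (tt N21630 (iv D55879)) (tt N24371 D57141) (tt N23914 (iv F254556)) (tt N21631 F250279) (tt N24369 (iv F255924)) (tt N24363 (iv F255915)) (tt N24324 (iv F255826)))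
theorem Q23111 : ∀ i, i < 23111 → P i := stepQ 23110 Q23110 (allL N23110 (tt N24006 (iv F254928)) (tt N24372 D57142) (tt N21631 (iv D55880)) (tt N21637 F250280) (tt N24373 D57143) (tt N21632 F250281) (tt N24370 (iv F255926)) (tt N24346 (iv F255881)) (tt N24365 (iv F255919)) (tt N24325 (iv F255829)))
theorem Q23112 : ∀ i, i < 23112 → P i := stepQ 23111 Q23111 (allL N23111 (tt N24007 (iv F254931)) (tt N24360 (iv F255908)) (tt N24373 (iv F255931)) (tt N21653 F250282) (tt N21631 (iv D55881)) (tt N24374 D57144) (tt N24371 (iv F255928)) (tt N24347 (iv F255883)) (tt N24366 (iv F255921)) (tt N24326 (iv F255831)))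
theorem Q23113 : ∀ i, i < 23113 → P i := stepQ 23112 Q23112 (allL N23112 (tt N24375 D57145) (tt N21632 (iv D55882)) (tt N24361 (iv F255910)) (tt N21638 F250283) (tt N24376 D57146) (tt N24372 (iv F255930)) (tt N23917 (iv F254562)) (tt N24348 (iv F255885)) (tt N24368 (iv F255923)) (tt N24327 (iv F255833)))
theorem Q23114 : ∀ i, i < 23114 → P i := stepQ 23113 Q23113 (allL N23113 (tt N23848 (iv F254293)) (tt N24376 (iv F255935)) (tt N21633 F250284) (tt N23758 (iv F253878)) (tt N21632 (iv D55883)) (tt N24377 D57147) (tt N23918 (iv F254566)) (tt N24349 (iv F255887)) (tt N24344 (iv F255875)) (tt N23784 (iv F254008)))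
theorem Q23115 : ∀ i, i < 23115 → P i := stepQ 23114 Q23114 (allL N23114 (tt N23847 (iv F254290)) (tt N23313 (iv F251449)) (tt N24377 (iv F255936)) (tt N21634 F250285) (tt N24374 (iv F255933)) (tt N21633 (iv D55884)) (tt N24032 (iv F255036)) (tt N24350 (iv F255891)) (tt N24343 (iv F255872)) (tt N23783 (iv F254003)))
theorem Q23116 : ∀ i, i < 23116 → P i := stepQ 23115 Q23115 (allL N23115 (tt N23240 (iv F250982)) (tt N24133 (iv F255380)) (tt N24378 D57148) (tt N21635 (iv D55885)) (tt N23312 (iv F251444)) (tt N23920 (iv F254571)) (tt N24352 (iv F255896)) (tt N21636 F250286) (tt N24227 (iv F255618)) (tt N24328 (iv F255835)))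
theorem Q23117 : ∀ i, i < 23117 → P i := stepQ 23116 Q23116 (allL N23116 (tt N23253 (iv F251061)) (tt N24379 D57149) (tt N21636 (iv D55886)) (tt N24370 (iv F255925)) (tt N23318 (iv F251481)) (tt N23921 (iv F254573)) (tt N21637 F250287) (tt N24378 (iv F255937)) (tt N24232 (iv F255625)) (tt N24329 (iv F255837)))
theorem Q23118 : ∀ i, i < 23118 → P i := stepQ 23117 Q23117 (allL N23117 (tt N24380 D57150) (tt N21637 (iv D55887)) (tt N24135 (iv F255383)) (tt N24372 (iv F255929)) (tt N24041 (iv F255061)) (tt N21638 F250288) (tt N24379 (iv F255938)) (tt N24354 (iv F255900)) (tt N24233 (iv F255627)) (tt N24330 (iv F255839)))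
theorem Q23119 : ∀ i, i < 23119 → P i := stepQ 23118 Q23118 (allL N23118 (tt N21638 (iv D55888)) (tt N24291 (iv F255750)) (tt N24136 (iv F255385)) (tt N24375 (iv F255934)) (tt N24270 (iv F255711)) (tt N24380 (iv F255939)) (tt N23925 (iv F254579)) (tt N24355 (iv F255901)) (tt N24234 (iv F255628)) (tt N24331 (iv F255840)))
theorem Q23120 : ∀ i, i < 23120 → P i := stepQ 23119 Q23119 (allL N23119 (tt N21641 F250289) (tt N23440 (iv F252171)) (tt N24137 (iv F255388)) (tt N23416 (iv F252035)) (tt N23843 (iv F254270)) (tt N21640 F250290) (tt N23805 (iv F254101)) (tt N21647 F250291) (tt N21639 (iv D55889)) (tt N24061 (iv F255157)))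
theorem Q23121 : ∀ i, i < 23121 → P i := stepQ 23120 Q23120 (allL N23120 (tt N23416 (iv F252034)) (tt N21643 F250292) (tt N24381 D57151) (tt N21641 (iv D55890)) (tt N24382 D57152) (tt N21642 F250293) (tt N24053 (iv F255119)) (tt N21649 F250294) (tt N21692 F250295) (tt N24063 (iv F255168)))
theorem Q23122 : ∀ i, i < 23122 → P i := stepQ 23121 Q23121 (allL N23121 (tt N23256 (iv F251076)) (tt N23936 (iv F254616)) (tt N21642 (iv D55891)) (tt N23949 (iv F254666)) (tt N21657 F250296) (tt N24381 (iv F255940)) (tt N23121 F250297) (tt N21650 F250298) (tt N21691 F250299) (tt N24332 (iv F255846)))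
theorem Q23123 : ∀ i, i < 23123 → P i := stepQ 23122 Q23122 (allL N23122 (tt N23447 (iv F252216)) (tt N24382 (iv F255943)) (tt N24028 (iv F255019)) (tt N24347 (iv F255882)) (tt N21643 (iv D55892)) (tt N24383 D57153) (tt N24057 (iv F255135)) (tt N21653 F250300) (tt N21693 F250301) (tt N24066 (iv F255178)))
theorem Q23124 : ∀ i, i < 23124 → P i := stepQ 23123 Q23123 (allL N23123 (tt N23855 (iv F254318)) (tt N21685 F250302) (tt N24044 (iv F255075)) (tt N21645 F250303) (tt N24383 (iv F255948)) (tt N21644 (iv D55893)) (tt N24384 D57154) (tt N21654 F250304) (tt N21681 F250305) (tt N23789 (iv F254025)))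
theorem Q23125 : ∀ i, i < 23125 → P i := stepQ 23124 Q23124 (allL N23124 (tt N23854 (iv F254311)) (tt N21683 F250306) (tt N23759 (iv F253883)) (tt N24384 (iv F255952)) (tt N24351 (iv F255894)) (tt N23124 F250307) (tt N21645 (iv D55894)) (tt N24017 (iv F254974)) (tt N21658 F250308) (tt N23788 (iv F254019)))
theorem Q23126 : ∀ i, i < 23126 → P i := stepQ 23125 Q23125 (allL N23125 (tt N23424 (iv F252084)) (tt N21652 F250309) (tt N24045 (iv F255079)) (tt N21648 (iv D55895)) (tt N24385 D57155) (tt N21656 F250310) (tt N21649 F250311) (tt N24293 (iv F255758)) (tt N21694 F250312) (tt N24142 (iv F255413)))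
theorem Q23127 : ∀ i, i < 23127 → P i := stepQ 23126 Q23126 (allL N23126 (tt N23263 (iv F251118)) (tt N23946 (iv F254657)) (tt N21649 (iv D55896)) (tt N23950 (iv F254672)) (tt N24386 D57156) (tt N21650 F250313) (tt N24045 (iv F255080)) (tt N24381 (iv F255941)) (tt N21695 F250314) (tt N24333 (iv F255849)))
theorem Q23128 : ∀ i, i < 23128 → P i := stepQ 23127 Q23127 (allL N23127 (tt N23408 (iv F252003)) (tt N21653 F250315) (tt N24386 (iv F255958)) (tt N24360 (iv F255909)) (tt N21649 (iv D55897)) (tt N23314 (iv F251457)) (tt N24385 (iv F255956)) (tt N24382 (iv F255945)) (tt N21696 F250316) (tt N24334 (iv F255852)))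
theorem Q23129 : ∀ i, i < 23129 → P i := stepQ 23128 Q23128 (allL N23128 (tt N23237 (iv F250963)) (tt N24293 (iv F255756)) (tt N21685 F250317) (tt N21651 (iv D55898)) (tt N24387 D57157) (tt N21657 F250318) (tt N24050 (iv F255103)) (tt N21652 F250319) (tt N21688 F250320) (tt N24335 (iv F255857)))
theorem Q23130 : ∀ i, i < 23130 → P i := stepQ 23129 Q23129 (allL N23129 (tt N23251 (iv F251053)) (tt N24385 (iv F255955)) (tt N23314 (iv F251456)) (tt N24371 (iv F255927)) (tt N21652 (iv D55899)) (tt N24386 (iv F255959)) (tt N21653 F250321) (tt N24387 (iv F255962)) (tt N21697 F250322) (tt N24336 (iv F255860)))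
theorem Q23131 : ∀ i, i < 23131 → P i := stepQ 23130 Q23130 (allL N23130 (tt N23862 (iv F254356)) (tt N23314 (iv F251455)) (tt N24039 (iv F255055)) (tt N24374 (iv F255932)) (tt N21654 F250323) (tt N21653 (iv D55900)) (tt N24033 (iv F255038)) (tt N24383 (iv F255949)) (tt N21698 F250324) (tt N23795 (iv F254052)))
theorem Q23132 : ∀ i, i < 23132 → P i := stepQ 23131 Q23131 (allL N23131 (tt N21700 F250325) (tt N21657 F250326) (tt N24042 (iv F255064)) (tt N21655 (iv D55901)) (tt N23936 (iv F254618)) (tt N24293 (iv F255757)) (tt N23131 F250327) (tt N21656 F250328) (tt N21690 F250329) (tt N24138 (iv F255397)))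
theorem Q23133 : ∀ i, i < 23133 → P i := stepQ 23132 Q23132 (allL N23132 (tt N21671 F250330) (tt N23272 (iv F251170)) (tt N23527 (iv F252752)) (tt N23687 (iv F253547)) (tt N21659 (iv D55902)) (tt N23799 (iv F254066)) (tt N23969 (iv F254761)) (tt N23276 (iv F251201)) (tt N24275 (iv F255722)) (tt N23132 F250331))
theorem Q23134 : ∀ i, i < 23134 → P i := stepQ 23133 Q23133 (allL N23133 (tt N21680 F250332) (tt N21663 F250333) (tt N23133 F250334) (tt N24009 (iv F254939)) (tt N21661 F250335) (tt N23133 F250336) (tt N21679 F250337) (tt N21666 F250338) (tt N21660 (iv D55903)) (tt N23133 F250339))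
theorem Q23135 : ∀ i, i < 23135 → P i := stepQ 23134 Q23134 (allL N23134 (tt N23274 (iv F251183)) (tt N23854 (iv F254312)) (tt N21672 F250340) (tt N24388 D57158) (tt N24084 (iv F255252)) (tt N23134 F250341) (tt N23384 (iv F251881)) (tt N21669 F250342) (tt N21662 (iv D55904)) (tt N23802 (iv F254084)))
theorem Q23136 : ∀ i, i < 23136 → P i := stepQ 23135 Q23135 (allL N23135 (tt N23275 (iv F251189)) (tt N24009 (iv F254937)) (tt N23429 (iv F252110)) (tt N21663 (iv D55905)) (tt N23734 (iv F253767)) (tt N23135 F250343) (tt N23433 (iv F252138)) (tt N21670 F250344) (tt N24388 (iv F255966)) (tt N23135 F250345))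
theorem Q23137 : ∀ i, i < 23137 → P i := stepQ 23136 Q23136 (allL N23136 (tt N21667 F250346) (tt N21688 F250347) (tt N24059 (iv F255143)) (tt N21664 (iv D55906)) (tt N24389 D57159) (tt N21690 F250348) (tt N23970 (iv F254767)) (tt N21694 F250349) (tt N24293 (iv F255759)) (tt N23136 F250350))
theorem Q23138 : ∀ i, i < 23138 → P i := stepQ 23137 Q23137 (allL N23137 (tt N24017 (iv F254970)) (tt N21669 F250351) (tt N23856 (iv F254325)) (tt N24390 D57160) (tt N24294 (iv F255761)) (tt N23137 F250352) (tt N23861 (iv F254353)) (tt N23854 (iv F254316)) (tt N21665 (iv D55907)) (tt N23927 (iv F254589)))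
theorem Q23139 : ∀ i, i < 23139 → P i := stepQ 23138 Q23138 (allL N23138 (tt N24047 (iv F255085)) (tt N21670 F250353) (tt N23953 (iv F254684)) (tt N21666 (iv D55908)) (tt N24391 D57161) (tt N23138 F250354) (tt N23431 (iv F252125)) (tt N24009 (iv F254941)) (tt N24390 (iv F255973)) (tt N23138 F250355))
theorem Q23140 : ∀ i, i < 23140 → P i := stepQ 23139 Q23139 (allL N23139 (tt N24059 (iv F255141)) (tt N23268 (iv F251146)) (tt N21667 (iv D55909)) (tt N23139 F250356) (tt N24392 D57162) (tt N21701 F250357) (tt N23971 (iv F254772)) (tt N23270 (iv F251162)) (tt N24296 (iv F255764)) (tt N23139 F250358))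
theorem Q23141 : ∀ i, i < 23141 → P i := stepQ 23140 Q23140 (allL N23140 (tt N24389 (iv F255967)) (tt N21671 F250359) (tt N24392 (iv F255977)) (tt N24391 (iv F255975)) (tt N21667 (iv D55910)) (tt N23957 (iv F254702)) (tt N23972 (iv F254775)) (tt N23449 F252232) (tt N24297 (iv F255766)) (tt N23140 F250360))
theorem Q23142 : ∀ i, i < 23142 → P i := stepQ 23141 Q23141 (allL N23141 (tt N23964 (iv F254730)) (tt N23927 (iv F254584)) (tt N21675 F250361) (tt N24393 D57163) (tt N24298 (iv F255768)) (tt N23141 F250362) (tt N23937 (iv F254626)) (tt N23802 (iv F254083)) (tt N21668 (iv D55911)) (tt N21669 F250363))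
theorem Q23143 : ∀ i, i < 23143 → P i := stepQ 23142 Q23142 (allL N23142 (tt N23685 (iv F253536)) (tt N24390 (iv F255971)) (tt N23418 (iv F252047)) (tt N21669 (iv D55912)) (tt N24394 D57164) (tt N23142 F250364) (tt N23419 (iv F252054)) (tt N24388 (iv F255965)) (tt N21670 F250365) (tt N24393 (iv F255981)))
theorem Q23144 : ∀ i, i < 23144 → P i := stepQ 23143 Q23143 (allL N23143 (tt N23687 (iv F253544)) (tt N24391 (iv F255974)) (tt N23430 (iv F252117)) (tt N21671 F250366) (tt N21670 (iv D55913)) (tt N23958 (iv F254706)) (tt N23432 (iv F252131)) (tt N23734 (iv F253769)) (tt N24394 (iv F255982)) (tt N23143 F250367))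
theorem Q23145 : ∀ i, i < 23145 → P i := stepQ 23144 Q23144 (allL N23144 (tt N23676 (iv F253486)) (tt N23856 (iv F254324)) (tt N21674 F250368) (tt N24395 D57165) (tt N24312 (iv F255798)) (tt N23144 F250369) (tt N23374 (iv F251819)) (tt N23370 (iv F251794)) (tt N21673 (iv D55914)) (tt N23417 (iv F252044)))
theorem Q23146 : ∀ i, i < 23146 → P i := stepQ 23145 Q23145 (allL N23145 (tt N24009 (iv F254936)) (tt N21687 F250370) (tt N24060 (iv F255148)) (tt N21680 (iv D55915)) (tt N24396 D57166) (tt N23145 F250371) (tt N21681 F250372) (tt N24047 (iv F255089)) (tt N24384 (iv F255954)) (tt N23145 F250373))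
theorem Q23147 : ∀ i, i < 23147 → P i := stepQ 23146 Q23146 (allL N23146 (tt N23448 (iv F252221)) (tt N21689 F250374) (tt N24052 (iv F255113)) (tt N21696 F250375) (tt N21681 (iv D55916)) (tt N21693 F250376) (tt N24396 (iv F255987)) (tt N21698 F250377) (tt N24383 (iv F255950)) (tt N23146 F250378))
theorem Q23148 : ∀ i, i < 23148 → P i := stepQ 23147 Q23147 (allL N23147 (tt N23277 (iv F251203)) (tt N23788 (iv F254015)) (tt N23204 (iv F250740)) (tt N24397 D57167) (tt N24362 (iv F255911)) (tt N23147 F250379) (tt N21684 F250380) (tt N23210 (iv F250786)) (tt N21682 (iv D55917)) (tt N21683 F250381))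
theorem Q23149 : ∀ i, i < 23149 → P i := stepQ 23148 Q23148 (allL N23148 (tt N23278 (iv F251209)) (tt N24384 (iv F255951)) (tt N24050 (iv F255101)) (tt N21683 (iv D55918)) (tt N24398 D57168) (tt N23148 F250382) (tt N21685 F250383) (tt N24019 (iv F254984)) (tt N21687 F250384) (tt N24397 (iv F255992)))
theorem Q23150 : ∀ i, i < 23150 → P i := stepQ 23149 Q23149 (allL N23149 (tt N23351 (iv F251681)) (tt N23789 (iv F254021)) (tt N24335 (iv F255853)) (tt N21684 (iv D55919)) (tt N24399 D57169) (tt N21686 F250385) (tt N24397 (iv F255990)) (tt N23306 (iv F251408)) (tt N23149 F250386) (tt N21685 F250387))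
theorem Q23151 : ∀ i, i < 23151 → P i := stepQ 23150 Q23150 (allL N23150 (tt N23388 (iv F251897)) (tt N24383 (iv F255947)) (tt N24387 (iv F255961)) (tt N24366 (iv F255920)) (tt N21685 (iv D55920)) (tt N24382 (iv F255944)) (tt N24398 (iv F255993)) (tt N23314 (iv F251459)) (tt N21689 F250388) (tt N24399 (iv F255996)))
theorem Q23152 : ∀ i, i < 23152 → P i := stepQ 23151 Q23151 (allL N23151 (tt N23279 (iv F251215)) (tt N24396 (iv F255985)) (tt N24051 (iv F255107)) (tt N21697 F250389) (tt N21687 (iv D55921)) (tt N24400 D57170) (tt N21689 F250390) (tt N24048 (iv F255095)) (tt N24398 (iv F255994)) (tt N23151 F250391))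
theorem Q23153 : ∀ i, i < 23153 → P i := stepQ 23152 Q23152 (allL N23152 (tt N23272 (iv F251169)) (tt N24389 (iv F255968)) (tt N21689 F250392) (tt N24048 (iv F255093)) (tt N21688 (iv D55922)) (tt N24401 D57171) (tt N24051 (iv F255109)) (tt N21697 F250393) (tt N24387 (iv F255963)) (tt N23152 F250394))
theorem Q23154 : ∀ i, i < 23154 → P i := stepQ 23153 Q23153 (allL N23153 (tt N23439 (iv F252165)) (tt N21693 F250395) (tt N24401 (iv F256000)) (tt N21698 F250396) (tt N21692 F250397) (tt N21689 (iv D55923)) (tt N24055 (iv F255127)) (tt N21696 F250398) (tt N24382 (iv F255946)) (tt N23153 F250399))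
theorem Q23155 : ∀ i, i < 23155 → P i := stepQ 23154 Q23154 (allL N23154 (tt N23281 (iv F251226)) (tt N23956 (iv F254695)) (tt N21692 F250400) (tt N23154 F250401) (tt N24401 (iv F256001)) (tt N21691 (iv D55924)) (tt N24054 (iv F255123)) (tt N21695 F250402) (tt N24381 (iv F255942)) (tt N23154 F250403))
theorem Q23156 : ∀ i, i < 23156 → P i := stepQ 23155 Q23155 (allL N23155 (tt N23449 (iv F252227)) (tt N21697 F250404) (tt N24056 (iv F255130)) (tt N24396 (iv F255986)) (tt N21694 (iv D55925)) (tt N23961 (iv F254722)) (tt N21696 F250405) (tt N24389 (iv F255969)) (tt N24385 (iv F255957)) (tt N23155 F250406))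
theorem Q23157 : ∀ i, i < 23157 → P i := stepQ 23156 Q23156 (allL N23156 (tt N23280 (iv F251221)) (tt N23961 (iv F254720)) (tt N21696 F250407) (tt N24400 (iv F255997)) (tt N21695 (iv D55926)) (tt N21697 F250408) (tt N24056 (iv F255132)) (tt N24401 (iv F256002)) (tt N24386 (iv F255960)) (tt N23156 F250409))
theorem Q23158 : ∀ i, i < 23158 → P i := stepQ 23157 Q23157 (allL N23157 (tt N24042 (iv F255062)) (tt N23259 (iv F251093)) (tt N21700 (iv D55927)) (tt N24332 (iv F255841)) (tt N23421 (iv F252064)) (tt N24296 (iv F255763)) (tt N23157 F250410) (tt N23266 (iv F251136)) (tt N21701 F250411) (tt N23949 (iv F254670)))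
theorem Q23159 : ∀ i, i < 23159 → P i := stepQ 23158 Q23158 (allL N23158 (tt N22078 F250412) (tt N22053 F250413) (tt N22886 F250414) (tt N21703 (iv D55928)) (tt N21708 F250415) (tt N22065 F250416) (tt N22084 F250417) (tt N21718 F250418) (tt N23158 F250419) (tt N21706 F250420))
theorem Q23160 : ∀ i, i < 23160 → P i := stepQ 23159 Q23159 (allL N23159 (tt N22083 F250421) (tt N22887 F250422) (tt N21706 (iv D55929)) (tt N22885 F250423) (tt N21711 F250424) (tt N22070 F250425) (tt N22884 F250426) (tt N21739 F250427) (tt N21707 F250428) (tt N22886 F250429))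
theorem Q23161 : ∀ i, i < 23161 → P i := stepQ 23160 Q23160 (allL N23160 (tt N22067 F250430) (tt N21711 (iv D55930)) (tt N22087 F250431) (tt N22066 F250432) (tt N22887 F250433) (tt N22055 F250434) (tt N22076 F250435) (tt N21769 F250436) (tt N21712 F250437) (tt N22081 F250438))
theorem Q23162 : ∀ i, i < 23162 → P i := stepQ 23161 Q23161 (allL N23161 (tt N22274 F250439) (tt N22132 F250440) (tt N22316 F250441) (tt N22738 F250442) (tt N21716 F250443) (tt N21714 F250444) (tt N22199 F250445) (tt N22312 F250446) (tt N24402 D57172) (tt N21713 (iv D55931)))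
theorem Q23163 : ∀ i, i < 23163 → P i := stepQ 23162 Q23162 (allL N23162 (tt N22691 F250447) (tt N22133 F250448) (tt N22964 F250449) (tt N24403 D57173) (tt N21715 F250450) (tt N24402 (iv F256008)) (tt N22685 F250451) (tt N22959 F250452) (tt N21714 (iv D55932)) (tt N21726 F250453))
theorem Q23164 : ∀ i, i < 23164 → P i := stepQ 23163 Q23163 (allL N23163 (tt N22284 F250454) (tt N22137 F250455) (tt N22331 F250456) (tt N24404 D57174) (tt N24402 (iv F256007)) (tt N21717 F250457) (tt N22206 F250458) (tt N22326 F250459) (tt N21716 (iv D55933)) (tt N21735 F250460))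
theorem Q23165 : ∀ i, i < 23165 → P i := stepQ 23164 Q23164 (allL N23164 (tt N22288 F250461) (tt N22138 F250462) (tt N22914 F250463) (tt N21717 (iv D55934)) (tt N21753 F250464) (tt N24404 (iv F256022)) (tt N21718 F250465) (tt N22337 F250466) (tt N23164 F250467) (tt N21736 F250468))
theorem Q23166 : ∀ i, i < 23166 → P i := stepQ 23165 Q23165 (allL N23165 (tt N22316 F250469) (tt N22110 F250470) (tt N22274 F250471) (tt N21809 F250472) (tt N21727 F250473) (tt N21720 F250474) (tt N22271 F250475) (tt N21725 F250476) (tt N24405 D57175) (tt N21719 (iv D55935)))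
theorem Q23167 : ∀ i, i < 23167 → P i := stepQ 23166 Q23166 (allL N23166 (tt N22964 F250477) (tt N22146 F250478) (tt N22691 F250479) (tt N24406 D57176) (tt N21721 F250480) (tt N24405 (iv F256031)) (tt N22692 F250481) (tt N21726 F250482) (tt N21720 (iv D55936)) (tt N22959 F250483))
theorem Q23168 : ∀ i, i < 23168 → P i := stepQ 23167 Q23167 (allL N23167 (tt N22312 F250484) (tt N22289 F250485) (tt N21725 F250486) (tt N21963 F250487) (tt N21733 F250488) (tt N21723 F250489) (tt N22221 F250490) (tt N22274 F250491) (tt N24407 D57177) (tt N21722 (iv D55937)))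
theorem Q23169 : ∀ i, i < 23169 → P i := stepQ 23168 Q23168 (allL N23168 (tt N22959 F250492) (tt N22290 F250493) (tt N21726 F250494) (tt N24408 D57178) (tt N21724 F250495) (tt N24407 (iv F256046)) (tt N21756 F250496) (tt N22691 F250497) (tt N21723 (iv D55938)) (tt N22964 F250498))
theorem Q23170 : ∀ i, i < 23170 → P i := stepQ 23169 Q23169 (allL N23169 (tt N22317 F250499) (tt N22153 F250500) (tt N24407 (iv F256044)) (tt N24409 D57179) (tt N21735 F250501) (tt N21726 F250502) (tt N22224 F250503) (tt N24405 (iv F256033)) (tt N21725 (iv D55939)) (tt N24402 (iv F256011)))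
theorem Q23171 : ∀ i, i < 23171 → P i := stepQ 23170 Q23170 (allL N23170 (tt N22965 F250504) (tt N22154 F250505) (tt N24410 D57180) (tt N21726 (iv D55940)) (tt N21761 F250506) (tt N24409 (iv F256059)) (tt N22686 F250507) (tt N24406 (iv F256039)) (tt N21821 F250508) (tt N24403 (iv F256018)))
theorem Q23172 : ∀ i, i < 23172 → P i := stepQ 23171 Q23171 (allL N23171 (tt N22331 F250509) (tt N22111 F250510) (tt N22284 F250511) (tt N22931 F250512) (tt N24405 (iv F256030)) (tt N21728 F250513) (tt N22281 F250514) (tt N21735 F250515) (tt N21727 (iv D55941)) (tt N22326 F250516))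
theorem Q23173 : ∀ i, i < 23173 → P i := stepQ 23172 Q23172 (allL N23172 (tt N21732 F250517) (tt N22100 F250518) (tt N21767 F250519) (tt N22160 F250520) (tt N22134 F250521) (tt N22212 F250522) (tt N21737 F250523) (tt N21766 F250524) (tt N21729 (iv D55942)) (tt N22092 F250525))
theorem Q23174 : ∀ i, i < 23174 → P i := stepQ 23173 Q23173 (allL N23173 (tt N22127 F250526) (tt N21733 F250527) (tt N22089 F250528) (tt N23173 F250529) (tt N22289 F250530) (tt N21731 F250531) (tt N22190 F250532) (tt N21751 F250533) (tt N24411 D57181) (tt N21730 (iv D55943)))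
theorem Q23175 : ∀ i, i < 23175 → P i := stepQ 23174 Q23174 (allL N23174 (tt N22134 F250534) (tt N21734 F250535) (tt N22092 F250536) (tt N22940 (iv F250541)) (tt N21732 F250537) (tt N24411 (iv F256070)) (tt N21738 F250538) (tt N21754 F250539) (tt N21731 (iv D55944)) (tt N21767 F250540))
theorem Q23176 : ∀ i, i < 23176 → P i := stepQ 23175 Q23175 (allL N23175 (tt N22326 F250542) (tt N24411 (iv F256067)) (tt N21735 F250543) (tt N22941 (iv F250548)) (tt N24407 (iv F256045)) (tt N21734 F250544) (tt N22229 F250545) (tt N22284 F250546) (tt N21733 (iv D55945)) (tt N22331 F250547))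
theorem Q23177 : ∀ i, i < 23177 → P i := stepQ 23176 Q23176 (allL N23176 (tt N22332 F250549) (tt N22158 F250550) (tt N24412 D57182) (tt N21735 (iv D55946)) (tt N24413 D57183) (tt N21736 F250551) (tt N22232 F250552) (tt N22931 F250553) (tt N21740 F250554) (tt N24404 (iv F256026)))
theorem Q23178 : ∀ i, i < 23178 → P i := stepQ 23177 Q23177 (allL N23177 (tt N22325 F250555) (tt N22916 F250556) (tt N21736 (iv D55947)) (tt N22902 F250557) (tt N21765 F250558) (tt N24412 (iv F256078)) (tt N21739 F250559) (tt N22893 F250560) (tt N21741 F250561) (tt N22914 F250562))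
theorem Q23179 : ∀ i, i < 23179 → P i := stepQ 23178 Q23178 (allL N23178 (tt N22339 F250563) (tt N22921 F250564) (tt N21740 (iv D55948)) (tt N23178 F250565) (tt N24414 D57184) (tt N21741 F250566) (tt N22239 F250567) (tt N22896 F250568) (tt N24412 (iv F256081)) (tt N23178 F250569))
theorem Q23180 : ∀ i, i < 23180 → P i := stepQ 23179 Q23179 (allL N23179 (tt N22340 F250570) (tt N22164 F250571) (tt N24414 (iv F256091)) (tt N21841 F250572) (tt N21740 (iv D55949)) (tt N21772 F250573) (tt N22240 F250574) (tt N22932 F250575) (tt N24413 (iv F256088)) (tt N23179 F250576))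
theorem Q23181 : ∀ i, i < 23181 → P i := stepQ 23180 Q23180 (allL N23180 (tt N22179 F250577) (tt N21745 F250578) (tt N22933 F250579) (tt N24415 D57185) (tt N21743 F250580) (tt N22946 F250581) (tt N22687 F250582) (tt N22954 F250583) (tt N21742 (iv D55950)) (tt N22695 F250584))
theorem Q23182 : ∀ i, i < 23182 → P i := stepQ 23181 Q23181 (allL N23181 (tt N21761 F250585) (tt N24415 (iv F256097)) (tt N24416 D57186) (tt N21745 (iv D55951)) (tt N22965 F250586) (tt N22948 F250587) (tt N22689 F250588) (tt N22960 F250589) (tt N21898 F250590) (tt N22700 F250591))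
theorem Q23183 : ∀ i, i < 23183 → P i := stepQ 23182 Q23182 (allL N23182 (tt N22692 F250592) (tt N22265 F250593) (tt N22685 F250594) (tt N24417 D57187) (tt N21748 F250595) (tt N22923 F250596) (tt N22964 F250597) (tt N21750 F250598) (tt N21747 (iv D55952)) (tt N21756 F250599))
theorem Q23184 : ∀ i, i < 23184 → P i := stepQ 23183 Q23183 (allL N23183 (tt N22699 F250600) (tt N22275 F250601) (tt N22688 F250602) (tt N24418 D57188) (tt N21752 F250603) (tt N21750 F250604) (tt N22944 F250605) (tt N22923 F250606) (tt N21749 (iv D55953)) (tt N21760 F250607))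
theorem Q23185 : ∀ i, i < 23185 → P i := stepQ 23184 Q23184 (allL N23184 (tt N22700 F250608) (tt N22276 F250609) (tt N24419 D57189) (tt N21750 (iv D55954)) (tt N24403 (iv F256014)) (tt N24418 (iv F256122)) (tt N22690 F250610) (tt N24417 (iv F256117)) (tt N23093 F250611) (tt N21761 F250612))
theorem Q23186 : ∀ i, i < 23186 → P i := stepQ 23185 Q23185 (allL N23185 (tt N22706 F250613) (tt N22284 F250614) (tt N22091 F250615) (tt N24420 D57190) (tt N22944 F250616) (tt N21754 F250617) (tt N21752 F250618) (tt N24411 (iv F256072)) (tt N21751 (iv D55955)) (tt N21763 F250619))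
theorem Q23187 : ∀ i, i < 23187 → P i := stepQ 23186 Q23186 (allL N23186 (tt N22707 F250620) (tt N22285 F250621) (tt N22913 F250622) (tt N21752 (iv D55956)) (tt N24421 D57191) (tt N21753 F250623) (tt N24420 (iv F256136)) (tt N22924 F250624) (tt N23186 F250625) (tt N21764 F250626))
theorem Q23188 : ∀ i, i < 23188 → P i := stepQ 23187 Q23187 (allL N23187 (tt N22708 F250627) (tt N22288 F250628) (tt N22181 F250629) (tt N21754 (iv D55957)) (tt N22705 F250630) (tt N24420 (iv F256135)) (tt N21755 F250631) (tt N22940 F250632) (tt N23187 F250633) (tt N21768 F250634))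
theorem Q23189 : ∀ i, i < 23189 → P i := stepQ 23188 Q23188 (allL N23188 (tt N22960 F250635) (tt N22298 F250636) (tt N24422 D57192) (tt N21756 (iv D55958)) (tt N24406 (iv F256037)) (tt N22928 F250637) (tt N24408 (iv F256053)) (tt N21761 F250638) (tt N21974 F250639) (tt N24417 (iv F256119)))
theorem Q23190 : ∀ i, i < 23190 → P i := stepQ 23189 Q23189 (allL N23189 (tt N22690 F250640) (tt N22903 F250641) (tt N24423 D57193) (tt N21757 (iv D55959)) (tt N22693 F250642) (tt N22927 F250643) (tt N22700 F250644) (tt N22686 F250645) (tt N22714 F250646) (tt N22689 F250647))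
theorem Q23191 : ∀ i, i < 23191 → P i := stepQ 23190 Q23190 (allL N23190 (tt N22147 F250648) (tt N22316 F250649) (tt N22211 F250650) (tt N21990 F250651) (tt N21762 F250652) (tt N22259 F250653) (tt N22213 F250654) (tt N21759 F250655) (tt N24424 D57194) (tt N21758 (iv D55960)))
theorem Q23192 : ∀ i, i < 23192 → P i := stepQ 23191 Q23191 (allL N23191 (tt N22942 F250656) (tt N22317 F250657) (tt N22926 F250658) (tt N24425 D57195) (tt N21763 F250659) (tt N22701 F250660) (tt N21760 F250661) (tt N24424 (iv F256165)) (tt N21759 (iv D55961)) (tt N22944 F250662))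
theorem Q23193 : ∀ i, i < 23193 → P i := stepQ 23192 Q23192 (allL N23192 (tt N22948 F250663) (tt N22318 F250664) (tt N24426 D57196) (tt N21760 (iv D55962)) (tt N24427 D57197) (tt N21761 F250665) (tt N24425 (iv F256170)) (tt N22928 F250666) (tt N21992 F250667) (tt N24418 (iv F256126)))
theorem Q23194 : ∀ i, i < 23194 → P i := stepQ 23193 Q23193 (allL N23193 (tt N24416 (iv F256104)) (tt N24428 D57198) (tt N21761 (iv D55963)) (tt N24423 (iv F256152)) (tt N24410 (iv F256063)) (tt N24426 (iv F256175)) (tt N22703 F250668) (tt N24422 (iv F256149)) (tt N21993 F250669) (tt N24419 (iv F256131)))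
theorem Q23195 : ∀ i, i < 23195 → P i := stepQ 23194 Q23194 (allL N23194 (tt N22148 F250670) (tt N22331 F250671) (tt N22212 F250672) (tt N22968 F250673) (tt N24424 (iv F256162)) (tt N21767 F250674) (tt N22214 F250675) (tt N21763 F250676) (tt N21762 (iv D55964)) (tt N24411 (iv F256073)))
theorem Q23196 : ∀ i, i < 23196 → P i := stepQ 23195 Q23195 (allL N23195 (tt N22943 F250677) (tt N22332 F250678) (tt N22952 F250679) (tt N21763 (iv D55965)) (tt N24429 D57199) (tt N21768 F250680) (tt N21764 F250681) (tt N22968 F250682) (tt N21770 F250683) (tt N24420 (iv F256139)))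
theorem Q23197 : ∀ i, i < 23197 → P i := stepQ 23196 Q23196 (allL N23196 (tt N22307 F250684) (tt N24430 D57200) (tt N21764 (iv D55966)) (tt N22301 F250685) (tt N24431 D57201) (tt N21765 F250686) (tt N22952 F250687) (tt N22891 F250688) (tt N21771 F250689) (tt N22913 F250690))
theorem Q23198 : ∀ i, i < 23198 → P i := stepQ 23197 Q23197 (allL N23197 (tt N22949 F250691) (tt N22334 F250692) (tt N24431 (iv F256202)) (tt N24427 (iv F256180)) (tt N21764 (iv D55967)) (tt N24413 (iv F256085)) (tt N24429 (iv F256190)) (tt N22929 F250693) (tt N21772 F250694) (tt N24421 (iv F256145)))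
theorem Q23199 : ∀ i, i < 23199 → P i := stepQ 23198 Q23198 (allL N23198 (tt N22228 F250695) (tt N21765 (iv D55968)) (tt N22335 F250696) (tt N22227 F250697) (tt N22916 F250698) (tt N24430 (iv F256196)) (tt N21769 F250699) (tt N22282 F250700) (tt N21773 F250701) (tt N22321 F250702))
theorem Q23200 : ∀ i, i < 23200 → P i := stepQ 23199 Q23199 (allL N23199 (tt N22970 F250703) (tt N22340 F250704) (tt N22972 F250705) (tt N22022 F250706) (tt N21770 (iv D55969)) (tt N22971 F250707) (tt N21772 F250708) (tt N22975 F250709) (tt N24429 (iv F256192)) (tt N23199 F250710))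
theorem Q23201 : ∀ i, i < 23201 → P i := stepQ 23200 Q23200 (allL N23200 (tt N22241 F250711) (tt N21771 (iv D55970)) (tt N22341 F250712) (tt N22238 F250713) (tt N24432 D57202) (tt N21773 F250714) (tt N22169 F250715) (tt N22894 F250716) (tt N24430 (iv F256199)) (tt N23200 F250717))
theorem Q23202 : ∀ i, i < 23202 → P i := stepQ 23201 Q23201 (allL N23201 (tt N22352 F250718) (tt N24432 (iv F256208)) (tt N21772 F250719) (tt N24433 D57203) (tt N21771 (iv D55971)) (tt N24414 (iv F256092)) (tt N22972 F250720) (tt N22895 F250721) (tt N24431 (iv F256205)) (tt N23201 F250722))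
theorem Q23203 : ∀ i, i < 23203 → P i := stepQ 23202 Q23202 (allL N23202 (tt N21924 F250723) (tt N22373 F250724) (tt N22604 F250725) (tt N21786 F250726) (tt N23202 F250727) (tt N21774 (iv D55972)) (tt N22308 F250728) (tt N21779 F250729) (tt N21889 F250730) (tt N24434 D57204))
theorem Q23204 : ∀ i, i < 23204 → P i := stepQ 23203 Q23203 (allL N23203 (tt N21925 F250731) (tt N22374 F250732) (tt N23102 F250733) (tt N21787 F250734) (tt N21775 F250735) (tt N24434 (iv F256227)) (tt N21879 F250736) (tt N21780 F250737) (tt N24435 D57205) (tt N21774 (iv D55973)))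
theorem Q23205 : ∀ i, i < 23205 → P i := stepQ 23204 Q23204 (allL N23204 (tt N21926 F250738) (tt N22375 F250739) (tt N23147 F250740) (tt N21914 F250741) (tt N24435 (iv F256233)) (tt N23204 F250742) (tt N21880 F250743) (tt N21781 F250744) (tt N21775 (iv D55974)) (tt N21891 F250745))
theorem Q23206 : ∀ i, i < 23206 → P i := stepQ 23205 Q23205 (allL N23205 (tt N22586 F250746) (tt N21777 F250747) (tt N21808 F250748) (tt N22254 F250752) (tt N21776 (iv D55975)) (tt N22253 (iv F250753)) (tt N21805 F250749) (tt N22457 F250750) (tt N22734 F250751) (tt N24436 D57206))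
theorem Q23207 : ∀ i, i < 23207 → P i := stepQ 23206 Q23206 (allL N23206 (tt N22623 F250754) (tt N21778 F250755) (tt N21825 F250756) (tt N23206 F250757) (tt N24436 (iv F256241)) (tt N23206 F250758) (tt N21822 F250759) (tt N22474 F250760) (tt N24437 D57207) (tt N21776 (iv D55976)))
theorem Q23208 : ∀ i, i < 23208 → P i := stepQ 23207 Q23207 (allL N23207 (tt N22788 F250761) (tt N22254 F250762) (tt N21789 F250763) (tt N21777 (iv D55977)) (tt N23207 F250764) (tt N22251 (iv F250768)) (tt N22682 F250765) (tt N23059 F250766) (tt N22506 F250767) (tt N24438 D57208))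
theorem Q23209 : ∀ i, i < 23209 → P i := stepQ 23208 Q23208 (allL N23208 (tt N22512 F250769) (tt N22253 F250770) (tt N21779 F250771) (tt N22251 F250772) (tt N23208 F250773) (tt N21777 (iv D55978)) (tt N22432 F250774) (tt N22604 F250775) (tt N22603 F250776) (tt N24439 D57209))
theorem Q23210 : ∀ i, i < 23210 → P i := stepQ 23209 Q23209 (allL N23209 (tt N22789 F250777) (tt N24436 (iv F256238)) (tt N21780 F250778) (tt N24438 (iv F256255)) (tt N21778 F250779) (tt N24439 (iv F256265)) (tt N22709 F250780) (tt N23102 F250781) (tt N24440 D57210) (tt N21777 (iv D55979)))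
theorem Q23211 : ∀ i, i < 23211 → P i := stepQ 23210 Q23210 (allL N23210 (tt N22790 F250782) (tt N24437 (iv F256246)) (tt N21781 F250783) (tt N24441 D57211) (tt N24440 (iv F256270)) (tt N23210 F250784) (tt N22710 F250785) (tt N23147 F250786) (tt N21778 (iv D55980)) (tt N22737 F250787))
theorem Q23212 : ∀ i, i < 23212 → P i := stepQ 23211 Q23211 (allL N23211 (tt N22516 F250788) (tt N22378 F250789) (tt N24439 (iv F256262)) (tt N21792 F250790) (tt N23211 F250791) (tt N21780 F250792) (tt N22435 F250793) (tt N24434 (iv F256229)) (tt N24442 D57212) (tt N21779 (iv D55981)))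
theorem Q23213 : ∀ i, i < 23213 → P i := stepQ 23212 Q23212 (allL N23212 (tt N22791 F250794) (tt N22379 F250795) (tt N24440 (iv F256269)) (tt N24443 D57213) (tt N21781 F250796) (tt N24442 (iv F256284)) (tt N22711 F250797) (tt N24435 (iv F256235)) (tt N21780 (iv D55982)) (tt N22739 F250798))
theorem Q23214 : ∀ i, i < 23214 → P i := stepQ 23213 Q23213 (allL N23213 (tt N21913 F250799) (tt N22381 F250800) (tt N22825 F250801) (tt N21879 F250802) (tt N21783 F250803) (tt N22935 F250804) (tt N21787 F250805) (tt N21877 F250806) (tt N24444 D57214) (tt N21782 (iv D55983)))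
theorem Q23215 : ∀ i, i < 23215 → P i := stepQ 23214 Q23214 (allL N23214 (tt N21914 F250807) (tt N22382 F250808) (tt N22873 F250809) (tt N21926 F250810) (tt N24444 (iv F256296)) (tt N23214 F250811) (tt N21788 F250812) (tt N21878 F250813) (tt N21783 (iv D55984)) (tt N21804 F250814))
theorem Q23216 : ∀ i, i < 23216 → P i := stepQ 23215 Q23215 (allL N23215 (tt N22506 F250815) (tt N22742 F250816) (tt N23059 F250817) (tt N21784 (iv D55985)) (tt N23215 F250818) (tt N22503 F250819) (tt N22795 F250820) (tt N21789 F250821) (tt N22788 F250822) (tt N24445 D57215))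
theorem Q23217 : ∀ i, i < 23217 → P i := stepQ 23216 Q23216 (allL N23216 (tt N23065 F250823) (tt N22744 F250824) (tt N21787 F250825) (tt N24445 (iv F256304)) (tt N21785 F250826) (tt N22740 F250827) (tt N22825 F250828) (tt N21790 F250829) (tt N24446 D57216) (tt N21784 (iv D55986)))
theorem Q23218 : ∀ i, i < 23218 → P i := stepQ 23217 Q23217 (allL N23217 (tt N23076 F250830) (tt N22760 F250831) (tt N21788 F250832) (tt N24447 D57217) (tt N24446 (iv F256312)) (tt N21794 F250833) (tt N22873 F250834) (tt N21791 F250835) (tt N21785 (iv D55987)) (tt N21807 F250836))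
theorem Q23219 : ∀ i, i < 23219 → P i := stepQ 23218 Q23218 (allL N23218 (tt N22529 F250837) (tt N22119 F250838) (tt N22734 F250839) (tt N22308 F250840) (tt N21795 F250841) (tt N22269 F250842) (tt N21786 (iv D55988)) (tt N22440 F250843) (tt N21808 F250844) (tt N24448 D57218))
theorem Q23220 : ∀ i, i < 23220 → P i := stepQ 23219 Q23219 (allL N23219 (tt N22542 F250845) (tt N22383 F250846) (tt N22740 F250847) (tt N24434 (iv F256225)) (tt N21796 F250848) (tt N21787 F250849) (tt N24448 (iv F256331)) (tt N21792 F250850) (tt N24449 D57219) (tt N21786 (iv D55989)))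
theorem Q23221 : ∀ i, i < 23221 → P i := stepQ 23220 Q23220 (allL N23220 (tt N23069 F250851) (tt N22384 F250852) (tt N24446 (iv F256311)) (tt N24450 D57220) (tt N21788 F250853) (tt N24449 (iv F256337)) (tt N24444 (iv F256298)) (tt N21793 F250854) (tt N21787 (iv D55990)) (tt N21810 F250855))
theorem Q23222 : ∀ i, i < 23222 → P i := stepQ 23221 Q23221 (allL N23221 (tt N23059 F250856) (tt N21919 F250857) (tt N22506 F250858) (tt N21815 F250859) (tt N23221 F250860) (tt N21916 F250861) (tt N21929 F250862) (tt N22788 F250863) (tt N21789 (iv D55991)) (tt N24451 D57221))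
theorem Q23223 : ∀ i, i < 23223 → P i := stepQ 23222 Q23222 (allL N23222 (tt N23060 F250864) (tt N22752 F250865) (tt N24438 (iv F256254)) (tt N21790 F250866) (tt N23222 F250867) (tt N22749 F250868) (tt N22668 F250869) (tt N24445 (iv F256308)) (tt N24452 D57222) (tt N21789 (iv D55992)))
theorem Q23224 : ∀ i, i < 23224 → P i := stepQ 23223 Q23223 (allL N23223 (tt N23066 F250870) (tt N22754 F250871) (tt N21793 F250872) (tt N24453 D57223) (tt N21791 F250873) (tt N22750 F250874) (tt N22615 F250875) (tt N24446 (iv F256315)) (tt N21790 (iv D55993)) (tt N21818 F250876))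
theorem Q23225 : ∀ i, i < 23225 → P i := stepQ 23224 Q23224 (allL N23224 (tt N23077 F250877) (tt N22764 F250878) (tt N21943 F250879) (tt N21791 (iv D55994)) (tt N24454 D57224) (tt N21798 F250880) (tt N22640 F250881) (tt N24447 (iv F256322)) (tt N23224 F250882) (tt N21819 F250883))
theorem Q23226 : ∀ i, i < 23226 → P i := stepQ 23225 Q23225 (allL N23225 (tt N22543 F250884) (tt N22385 F250885) (tt N22750 F250886) (tt N24455 D57225) (tt N21799 F250887) (tt N21793 F250888) (tt N22443 F250889) (tt N24449 (iv F256338)) (tt N21792 (iv D55995)) (tt N21820 F250890))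
theorem Q23227 : ∀ i, i < 23227 → P i := stepQ 23226 Q23226 (allL N23226 (tt N23070 F250891) (tt N22386 F250892) (tt N24456 D57226) (tt N21793 (iv D55996)) (tt N21947 F250893) (tt N24455 (iv F256371)) (tt N22713 F250894) (tt N24450 (iv F256343)) (tt N24443 (iv F256291)) (tt N21821 F250895))
theorem Q23228 : ∀ i, i < 23228 → P i := stepQ 23227 Q23227 (allL N23227 (tt N23079 F250896) (tt N22761 F250897) (tt N21949 F250898) (tt N21794 (iv D55997)) (tt N24457 D57227) (tt N24447 (iv F256320)) (tt N23227 F250899) (tt N21798 F250900) (tt N23227 F250901) (tt N21824 F250902))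
theorem Q23229 : ∀ i, i < 23229 → P i := stepQ 23228 Q23228 (allL N23228 (tt N22549 F250903) (tt N22120 F250904) (tt N22735 F250905) (tt N23228 F250906) (tt N24448 (iv F256329)) (tt N23228 F250907) (tt N21796 F250908) (tt N22445 F250909) (tt N24458 D57228) (tt N21795 (iv D55998)))
theorem Q23230 : ∀ i, i < 23230 → P i := stepQ 23229 Q23229 (allL N23229 (tt N22556 F250910) (tt N22387 F250911) (tt N22741 F250912) (tt N24459 D57229) (tt N24449 (iv F256336)) (tt N21797 F250913) (tt N24458 (iv F256390)) (tt N21799 F250914) (tt N21796 (iv D55999)) (tt N21826 F250915))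
theorem Q23231 : ∀ i, i < 23231 → P i := stepQ 23230 Q23230 (allL N23230 (tt N22562 F250916) (tt N22388 F250917) (tt N24460 D57230) (tt N21797 (iv D56000)) (tt N21952 F250918) (tt N24459 (iv F256395)) (tt N23230 F250919) (tt N21800 F250920) (tt N23230 F250921) (tt N21827 F250922))
theorem Q23232 : ∀ i, i < 23232 → P i := stepQ 23231 Q23231 (allL N23231 (tt N23075 F250923) (tt N22449 F250924) (tt N21955 F250925) (tt N22763 F250926) (tt N21798 (iv D56001)) (tt N24461 D57231) (tt N21801 F250927) (tt N24457 (iv F256383)) (tt N23231 F250928) (tt N21831 F250929))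
theorem Q23233 : ∀ i, i < 23233 → P i := stepQ 23232 Q23232 (allL N23232 (tt N22557 F250930) (tt N22389 F250931) (tt N24462 D57232) (tt N21799 (iv D56002)) (tt N24463 D57233) (tt N21800 F250932) (tt N22448 F250933) (tt N24459 (iv F256396)) (tt N23232 F250934) (tt N21832 F250935))
theorem Q23234 : ∀ i, i < 23234 → P i := stepQ 23233 Q23233 (allL N23233 (tt N22563 F250936) (tt N22649 F250937) (tt N21800 (iv D56003)) (tt N22646 F250938) (tt N21959 F250939) (tt N24462 (iv F256417)) (tt N21802 F250940) (tt N24460 (iv F256404)) (tt N23233 F250941) (tt N21833 F250942))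
theorem Q23235 : ∀ i, i < 23235 → P i := stepQ 23234 Q23234 (allL N23234 (tt N23092 F250943) (tt N22393 F250944) (tt N22826 F250945) (tt N24464 D57234) (tt N21804 F250946) (tt N22936 F250947) (tt N21810 F250948) (tt N22697 F250949) (tt N21803 (iv D56004)) (tt N24444 (iv F256300)))
theorem Q23236 : ∀ i, i < 23236 → P i := stepQ 23235 Q23235 (allL N23235 (tt N22610 F250950) (tt N22709 F250951) (tt N21809 F250952) (tt N22815 F250953) (tt N21822 F250954) (tt N21806 F250955) (tt N24436 (iv F256243)) (tt N21817 F250956) (tt N24465 D57235) (tt N21805 (iv D56005)))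
theorem Q23237 : ∀ i, i < 23237 → P i := stepQ 23236 Q23236 (allL N23236 (tt N23108 F250957) (tt N23017 F250958) (tt N21810 F250959) (tt N24466 D57236) (tt N21807 F250960) (tt N24465 (iv F256438)) (tt N22826 F250961) (tt N21818 F250962) (tt N21806 (iv D56006)) (tt N24446 (iv F256316)))
theorem Q23238 : ∀ i, i < 23238 → P i := stepQ 23237 Q23237 (allL N23237 (tt N23128 F250963) (tt N23018 F250964) (tt N21970 F250965) (tt N21807 (iv D56007)) (tt N24467 D57237) (tt N21824 F250966) (tt N22874 F250967) (tt N21819 F250968) (tt N21843 F250969) (tt N24447 (iv F256324)))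
theorem Q23239 : ∀ i, i < 23239 → P i := stepQ 23238 Q23238 (allL N23238 (tt N22591 F250970) (tt N22376 F250971) (tt N24436 (iv F256239)) (tt N22271 F250972) (tt N21825 F250973) (tt N22270 F250974) (tt N21809 F250975) (tt N22460 F250976) (tt N24468 D57238) (tt N21808 (iv D56008)))
theorem Q23240 : ∀ i, i < 23240 → P i := stepQ 23239 Q23239 (allL N23239 (tt N22616 F250977) (tt N22395 F250978) (tt N24465 (iv F256436)) (tt N24469 D57239) (tt N21826 F250979) (tt N21810 F250980) (tt N24468 (iv F256456)) (tt N21820 F250981) (tt N21809 (iv D56009)) (tt N24449 (iv F256339)))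
theorem Q23241 : ∀ i, i < 23241 → P i := stepQ 23240 Q23240 (allL N23240 (tt N23115 F250982) (tt N22396 F250983) (tt N24470 D57240) (tt N21810 (iv D56010)) (tt N21974 F250984) (tt N24469 (iv F256460)) (tt N24464 (iv F256431)) (tt N21821 F250985) (tt N24406 (iv F256040)) (tt N24450 (iv F256344)))
theorem Q23242 : ∀ i, i < 23242 → P i := stepQ 23241 Q23241 (allL N23241 (tt N22463 F250986) (tt N21815 F250987) (tt N21938 F250988) (tt N21919 F250989) (tt N21844 F250990) (tt N21918 F250991) (tt N21927 F250992) (tt N22681 F250993) (tt N21811 (iv D56011)) (tt N24471 D57241))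
theorem Q23243 : ∀ i, i < 23243 → P i := stepQ 23242 Q23242 (allL N23242 (tt N22804 F250994) (tt N21816 F250995) (tt N22564 F250996) (tt N21812 F250997) (tt N21845 F250998) (tt N22729 F250999) (tt N21967 F251000) (tt N22667 F251001) (tt N24472 D57242) (tt N21811 (iv D56012)))
theorem Q23244 : ∀ i, i < 23244 → P i := stepQ 23243 Q23243 (allL N23243 (tt N22807 F251002) (tt N21818 F251003) (tt N22397 F251004) (tt N24473 D57243) (tt N21813 F251005) (tt N22730 F251006) (tt N22717 F251007) (tt N23017 F251008) (tt N21812 (iv D56013)) (tt N22754 F251009))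
theorem Q23245 : ∀ i, i < 23245 → P i := stepQ 23244 Q23244 (allL N23244 (tt N22408 F251010) (tt N21819 F251011) (tt N22371 F251012) (tt N21813 (iv D56014)) (tt N24474 D57244) (tt N21828 F251013) (tt N22718 F251014) (tt N23018 F251015) (tt N21847 F251016) (tt N22764 F251017))
theorem Q23246 : ∀ i, i < 23246 → P i := stepQ 23245 Q23245 (allL N23245 (tt N22604 F251018) (tt N21918 F251019) (tt N21924 F251020) (tt N21916 F251021) (tt N23245 F251022) (tt N21815 F251023) (tt N22466 F251024) (tt N22512 F251025) (tt N21814 (iv D56015)) (tt N24475 D57245))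
theorem Q23247 : ∀ i, i < 23247 → P i := stepQ 23246 Q23246 (allL N23246 (tt N22605 F251026) (tt N22729 F251027) (tt N21963 F251028) (tt N21817 F251029) (tt N23246 F251030) (tt N21816 F251031) (tt N22467 F251032) (tt N22815 F251033) (tt N24476 D57246) (tt N21814 (iv D56016)))
theorem Q23248 : ∀ i, i < 23248 → P i := stepQ 23247 Q23247 (allL N23247 (tt N23102 F251034) (tt N24471 (iv F256466)) (tt N21925 F251035) (tt N24451 (iv F256348)) (tt N21848 F251036) (tt N24475 (iv F256499)) (tt N21930 F251037) (tt N22789 F251038) (tt N24477 D57247) (tt N21815 (iv D56017)))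
theorem Q23249 : ∀ i, i < 23249 → P i := stepQ 23248 Q23248 (allL N23248 (tt N23103 F251039) (tt N24472 (iv F256474)) (tt N21964 F251040) (tt N24478 D57248) (tt N21849 F251041) (tt N24476 (iv F256506)) (tt N21969 F251042) (tt N22816 F251043) (tt N21816 (iv D56018)) (tt N24477 (iv F256514)))
theorem Q23250 : ∀ i, i < 23250 → P i := stepQ 23249 Q23249 (allL N23249 (tt N22611 F251044) (tt N22730 F251045) (tt N21820 F251046) (tt N24479 D57249) (tt N21829 F251047) (tt N21818 F251048) (tt N22470 F251049) (tt N24465 (iv F256439)) (tt N21817 (iv D56019)) (tt N22750 F251050))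
theorem Q23251 : ∀ i, i < 23251 → P i := stepQ 23250 Q23250 (allL N23250 (tt N23109 F251051) (tt N24473 (iv F256481)) (tt N24480 D57250) (tt N21818 (iv D56020)) (tt N24481 D57251) (tt N24479 (iv F256521)) (tt N22719 F251052) (tt N24466 (iv F256444)) (tt N24478 (iv F256518)) (tt N24453 (iv F256362)))
theorem Q23252 : ∀ i, i < 23252 → P i := stepQ 23251 Q23251 (allL N23251 (tt N23129 F251053) (tt N24474 (iv F256487)) (tt N21989 F251054) (tt N24481 (iv F256528)) (tt N21819 (iv D56021)) (tt N24482 D57252) (tt N22720 F251055) (tt N24467 (iv F256450)) (tt N21851 F251056) (tt N24454 (iv F256368)))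
theorem Q23253 : ∀ i, i < 23253 → P i := stepQ 23252 Q23252 (allL N23252 (tt N22617 F251057) (tt N22403 F251058) (tt N24483 D57253) (tt N21820 (iv D56022)) (tt N24484 D57254) (tt N21821 F251059) (tt N22472 F251060) (tt N24469 (iv F256461)) (tt N24409 (iv F256061)) (tt N24455 (iv F256373)))
theorem Q23254 : ∀ i, i < 23254 → P i := stepQ 23253 Q23253 (allL N23253 (tt N23116 F251061) (tt N24485 D57255) (tt N21821 (iv D56023)) (tt N24480 (iv F256525)) (tt N21993 F251062) (tt N24483 (iv F256536)) (tt N22721 F251063) (tt N24470 (iv F256464)) (tt N24410 (iv F256065)) (tt N24456 (iv F256377)))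
theorem Q23255 : ∀ i, i < 23255 → P i := stepQ 23254 Q23254 (allL N23254 (tt N22636 F251064) (tt N22710 F251065) (tt N21826 F251066) (tt N24486 D57256) (tt N24465 (iv F256437)) (tt N21823 F251067) (tt N24437 (iv F256249)) (tt N21829 F251068) (tt N21822 (iv D56024)) (tt N22741 F251069))
theorem Q23256 : ∀ i, i < 23256 → P i := stepQ 23255 Q23255 (allL N23255 (tt N22648 F251070) (tt N22733 F251071) (tt N24487 D57257) (tt N21823 (iv D56025)) (tt N24488 D57258) (tt N24486 (iv F256548)) (tt N23255 F251072) (tt N21830 F251073) (tt N23255 F251074) (tt N22759 F251075))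
theorem Q23257 : ∀ i, i < 23257 → P i := stepQ 23256 Q23256 (allL N23256 (tt N23121 F251076) (tt N22479 F251077) (tt N21996 F251078) (tt N24488 (iv F256563)) (tt N21824 (iv D56026)) (tt N24489 D57259) (tt N23256 F251079) (tt N21831 F251080) (tt N21852 F251081) (tt N24457 (iv F256385)))
theorem Q23258 : ∀ i, i < 23258 → P i := stepQ 23257 Q23257 (allL N23257 (tt N22628 F251082) (tt N22377 F251083) (tt N24437 (iv F256247)) (tt N24490 D57260) (tt N24468 (iv F256454)) (tt N23257 F251084) (tt N21826 F251085) (tt N22477 F251086) (tt N21825 (iv D56027)) (tt N24458 (iv F256392)))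
theorem Q23259 : ∀ i, i < 23259 → P i := stepQ 23258 Q23258 (allL N23258 (tt N22641 F251087) (tt N22405 F251088) (tt N24491 D57261) (tt N21826 (iv D56028)) (tt N24492 D57262) (tt N21827 F251089) (tt N24490 (iv F256576)) (tt N21832 F251090) (tt N21838 F251091) (tt N24459 (iv F256398)))
theorem Q23260 : ∀ i, i < 23260 → P i := stepQ 23259 Q23259 (allL N23259 (tt N22650 F251092) (tt N23157 F251093) (tt N21827 (iv D56029)) (tt N24487 (iv F256554)) (tt N22000 F251094) (tt N24491 (iv F256581)) (tt N23259 F251095) (tt N21833 F251096) (tt N21839 F251097) (tt N24460 (iv F256406)))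
theorem Q23261 : ∀ i, i < 23261 → P i := stepQ 23260 Q23260 (allL N23260 (tt N22637 F251098) (tt N22731 F251099) (tt N24493 D57263) (tt N21829 (iv D56030)) (tt N24494 D57264) (tt N21830 F251100) (tt N22480 F251101) (tt N24486 (iv F256549)) (tt N23260 F251102) (tt N22751 F251103))
theorem Q23262 : ∀ i, i < 23262 → P i := stepQ 23261 Q23261 (allL N23261 (tt N22560 F251104) (tt N23075 F251105) (tt N21830 (iv D56031)) (tt N21833 F251106) (tt N22863 (iv F251110)) (tt N24493 (iv F256592)) (tt N21834 F251107) (tt N24487 (iv F256556)) (tt N23261 F251108) (tt N22646 F251109))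
theorem Q23263 : ∀ i, i < 23263 → P i := stepQ 23262 Q23262 (allL N23262 (tt N22649 F251111) (tt N22481 F251112) (tt N22863 F251113) (tt N21831 F251114) (tt N21830 (iv D56032)) (tt N24495 D57265) (tt N21835 F251115) (tt N24488 (iv F256565)) (tt N23262 F251116) (tt N22763 F251117))
theorem Q23264 : ∀ i, i < 23264 → P i := stepQ 23263 Q23263 (allL N23263 (tt N23126 F251118) (tt N22482 F251119) (tt N22006 F251120) (tt N24495 (iv F256604)) (tt N24482 (iv F256533)) (tt N21831 (iv D56033)) (tt N24496 D57266) (tt N24489 (iv F256571)) (tt N21853 F251121) (tt N24461 (iv F256413)))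
theorem Q23265 : ∀ i, i < 23265 → P i := stepQ 23264 Q23264 (allL N23264 (tt N22642 F251122) (tt N24496 (iv F256609)) (tt N21832 (iv D56034)) (tt N24493 (iv F256591)) (tt N24497 D57267) (tt N21833 F251123) (tt N22482 F251124) (tt N24491 (iv F256582)) (tt N21840 F251125) (tt N24462 (iv F256420)))
theorem Q23266 : ∀ i, i < 23266 → P i := stepQ 23265 Q23265 (allL N23265 (tt N22643 F251126) (tt N22409 F251127) (tt N24497 (iv F256617)) (tt N24484 (iv F256540)) (tt N21832 (iv D56035)) (tt N22010 F251128) (tt N22483 F251129) (tt N24492 (iv F256587)) (tt N21841 F251130) (tt N24463 (iv F256426)))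
theorem Q23267 : ∀ i, i < 23267 → P i := stepQ 23266 Q23266 (allL N23266 (tt N22763 F251131) (tt N21833 (iv D56036)) (tt N22013 F251132) (tt N23075 F251133) (tt N22011 F251134) (tt N24496 (iv F256612)) (tt N21836 F251135) (tt N23157 F251136) (tt N21842 F251137) (tt N22649 F251138))
theorem Q23268 : ∀ i, i < 23268 → P i := stepQ 23267 Q23267 (allL N23267 (tt N22651 F251139) (tt N22411 F251140) (tt N24498 D57268) (tt N21837 (iv D56037)) (tt N24499 D57269) (tt N23267 F251141) (tt N21838 F251142) (tt N22484 F251143) (tt N24490 (iv F256578)) (tt N23267 F251144))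
theorem Q23269 : ∀ i, i < 23269 → P i := stepQ 23268 Q23268 (allL N23268 (tt N22657 F251145) (tt N23139 F251146) (tt N21838 (iv D56038)) (tt N23268 F251147) (tt N24500 D57270) (tt N21839 F251148) (tt N24498 (iv F256625)) (tt N21840 F251149) (tt N24491 (iv F256583)) (tt N23268 F251150))
theorem Q23270 : ∀ i, i < 23270 → P i := stepQ 23269 Q23269 (allL N23269 (tt N22658 F251151) (tt N22412 F251152) (tt N24500 (iv F256636)) (tt N22932 F251153) (tt N21838 (iv D56039)) (tt N22018 F251154) (tt N24499 (iv F256631)) (tt N21841 F251155) (tt N24492 (iv F256588)) (tt N23269 F251156))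
theorem Q23271 : ∀ i, i < 23271 → P i := stepQ 23270 Q23270 (allL N23270 (tt N22780 F251157) (tt N21840 (iv D56040)) (tt N22042 F251158) (tt N23270 F251159) (tt N24501 D57271) (tt N21842 F251160) (tt N21853 F251161) (tt N23139 F251162) (tt N24496 (iv F256613)) (tt N23270 F251163))
theorem Q23272 : ∀ i, i < 23272 → P i := stepQ 23271 Q23271 (allL N23271 (tt N22659 F251164) (tt N24501 (iv F256642)) (tt N21841 F251165) (tt N24502 D57272) (tt N21840 (iv D56041)) (tt N22024 F251166) (tt N22487 F251167) (tt N24500 (iv F256638)) (tt N24497 (iv F256620)) (tt N23271 F251168))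
theorem Q23273 : ∀ i, i < 23273 → P i := stepQ 23272 Q23272 (allL N23272 (tt N23152 F251169) (tt N23132 F251170) (tt N22028 F251171) (tt N22871 F251172) (tt N21843 (iv D56042)) (tt N24503 D57273) (tt N22875 F251173) (tt N21851 F251174) (tt N24467 (iv F256451)) (tt N23272 F251175))
theorem Q23274 : ∀ i, i < 23274 → P i := stepQ 23273 Q23273 (allL N23273 (tt N22490 F251176) (tt N21848 F251177) (tt N22489 F251178) (tt N23273 F251179) (tt N24471 (iv F256469)) (tt N23273 F251180) (tt N21928 F251181) (tt N22679 F251182) (tt N24504 D57274) (tt N21844 (iv D56043)))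
theorem Q23275 : ∀ i, i < 23275 → P i := stepQ 23274 Q23274 (allL N23274 (tt N23134 F251183) (tt N21849 F251184) (tt N22565 F251185) (tt N24505 D57275) (tt N24472 (iv F256476)) (tt N23274 F251186) (tt N21968 F251187) (tt N22665 F251188) (tt N21845 (iv D56044)) (tt N24504 (iv F256667)))
theorem Q23276 : ∀ i, i < 23276 → P i := stepQ 23275 Q23275 (allL N23275 (tt N23135 F251189) (tt N21850 F251190) (tt N22345 F251191) (tt N21846 (iv D56045)) (tt N24506 D57276) (tt N23275 F251192) (tt N22027 F251193) (tt N22355 F251194) (tt N24505 (iv F256674)) (tt N23275 F251195))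
theorem Q23277 : ∀ i, i < 23277 → P i := stepQ 23276 Q23276 (allL N23276 (tt N22415 F251196) (tt N21851 F251197) (tt N22372 F251198) (tt N24506 (iv F256678)) (tt N21847 (iv D56046)) (tt N22487 F251199) (tt N22724 F251200) (tt N23132 F251201) (tt N24474 (iv F256492)) (tt N23276 F251202))
theorem Q23278 : ∀ i, i < 23278 → P i := stepQ 23277 Q23277 (allL N23277 (tt N23147 F251203) (tt N24504 (iv F256662)) (tt N21926 F251204) (tt N24507 D57277) (tt N24477 (iv F256511)) (tt N23277 F251205) (tt N21931 F251206) (tt N22790 F251207) (tt N21848 (iv D56047)) (tt N21849 F251208))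
theorem Q23279 : ∀ i, i < 23279 → P i := stepQ 23278 Q23278 (allL N23278 (tt N23148 F251209) (tt N24505 (iv F256669)) (tt N22874 F251210) (tt N21849 (iv D56048)) (tt N24508 D57278) (tt N23278 F251211) (tt N21970 F251212) (tt N22817 F251213) (tt N21850 F251214) (tt N24507 (iv F256689)))
theorem Q23280 : ∀ i, i < 23280 → P i := stepQ 23279 Q23279 (allL N23279 (tt N23151 F251215) (tt N24506 (iv F256676)) (tt N22875 F251216) (tt N21851 F251217) (tt N21850 (iv D56049)) (tt N24509 D57279) (tt N22028 F251218) (tt N22871 F251219) (tt N24508 (iv F256694)) (tt N23279 F251220))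
theorem Q23281 : ∀ i, i < 23281 → P i := stepQ 23280 Q23280 (allL N23280 (tt N23156 F251221) (tt N22487 F251222) (tt N22038 F251223) (tt N24509 (iv F256698)) (tt N21853 F251224) (tt N21851 (iv D56050)) (tt N24501 (iv F256645)) (tt N24503 (iv F256659)) (tt N24482 (iv F256534)) (tt N23280 F251225))
theorem Q23282 : ∀ i, i < 23282 → P i := stepQ 23281 Q23281 (allL N23281 (tt N23154 F251226) (tt N22485 F251227) (tt N22040 F251228) (tt N23281 F251229) (tt N24503 (iv F256658)) (tt N21852 (iv D56051)) (tt N24510 D57280) (tt N21853 F251230) (tt N24489 (iv F256572)) (tt N23281 F251231))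
theorem Q23283 : ∀ i, i < 23283 → P i := stepQ 23282 Q23282 (allL N23282 (tt N22416 F251232) (tt N21879 F251233) (tt N22401 F251234) (tt N22381 F251235) (tt N21855 F251236) (tt N22421 F251237) (tt N22374 F251238) (tt N21856 F251239) (tt N24511 D57281) (tt N21854 (iv D56052)))
theorem Q23284 : ∀ i, i < 23284 → P i := stepQ 23283 Q23283 (allL N23283 (tt N22417 F251240) (tt N21880 F251241) (tt N22406 F251242) (tt N22494 F251243) (tt N24511 (iv F256712)) (tt N21858 F251244) (tt N22375 F251245) (tt N21857 F251246) (tt N21855 (iv D56053)) (tt N21865 F251247))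
theorem Q23285 : ∀ i, i < 23285 → P i := stepQ 23284 Q23284 (allL N23284 (tt N22418 F251248) (tt N21885 F251249) (tt N22402 F251250) (tt N24512 D57282) (tt N21857 F251251) (tt N22425 F251252) (tt N22399 F251253) (tt N24511 (iv F256715)) (tt N21856 (iv D56054)) (tt N21870 F251254))
theorem Q23286 : ∀ i, i < 23286 → P i := stepQ 23285 Q23285 (allL N23285 (tt N22303 F251255) (tt N22440 F251256) (tt N21860 F251257) (tt N22904 F251261) (tt N21859 (iv D56055)) (tt N22897 (iv F251262)) (tt N21862 F251258) (tt N22119 F251259) (tt N22299 F251260) (tt N24513 D57283))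
theorem Q23287 : ∀ i, i < 23287 → P i := stepQ 23286 Q23286 (allL N23286 (tt N22349 F251263) (tt N22445 F251264) (tt N21861 F251265) (tt N23286 F251266) (tt N24513 (iv F256728)) (tt N23286 F251267) (tt N21863 F251268) (tt N22120 F251269) (tt N24514 D57284) (tt N21859 (iv D56056)))
theorem Q23288 : ∀ i, i < 23288 → P i := stepQ 23287 Q23287 (allL N23287 (tt N22128 F251270) (tt N21889 F251271) (tt N22897 F251272) (tt N22095 F251273) (tt N23287 F251274) (tt N21860 (iv D56057)) (tt N22302 F251275) (tt N22121 F251276) (tt N22373 F251277) (tt N24515 D57285))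
theorem Q23289 : ∀ i, i < 23289 → P i := stepQ 23288 Q23288 (allL N23288 (tt N22419 F251278) (tt N21890 F251279) (tt N24513 (iv F256726)) (tt N22124 F251280) (tt N21861 F251281) (tt N24515 (iv F256744)) (tt N21864 F251282) (tt N22122 F251283) (tt N24516 D57286) (tt N21860 (iv D56058)))
theorem Q23290 : ∀ i, i < 23290 → P i := stepQ 23289 Q23289 (allL N23289 (tt N22420 F251284) (tt N21891 F251285) (tt N24514 (iv F256734)) (tt N22250 F251286) (tt N24516 (iv F256749)) (tt N23289 F251287) (tt N21865 F251288) (tt N22123 F251289) (tt N21861 (iv D56059)) (tt N22375 F251290))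
theorem Q23291 : ∀ i, i < 23291 → P i := stepQ 23290 Q23290 (allL N23290 (tt N22421 F251291) (tt N22441 F251292) (tt N21864 F251293) (tt N22988 F251294) (tt N21863 F251295) (tt N22416 F251296) (tt N24513 (iv F256730)) (tt N21867 F251297) (tt N24517 D57287) (tt N21862 (iv D56060)))
theorem Q23292 : ∀ i, i < 23292 → P i := stepQ 23291 Q23291 (allL N23291 (tt N22422 F251298) (tt N22446 F251299) (tt N21865 F251300) (tt N24518 D57288) (tt N24517 (iv F256756)) (tt N21871 F251301) (tt N24514 (iv F256736)) (tt N21868 F251302) (tt N21863 (iv D56061)) (tt N22406 F251303))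
theorem Q23293 : ∀ i, i < 23293 → P i := stepQ 23292 Q23292 (allL N23292 (tt N22423 F251304) (tt N21892 F251305) (tt N24517 (iv F256755)) (tt N24519 D57289) (tt N21865 F251306) (tt N22953 F251307) (tt N24516 (iv F256750)) (tt N21870 F251308) (tt N21864 (iv D56062)) (tt N24511 (iv F256716)))
theorem Q23294 : ∀ i, i < 23294 → P i := stepQ 23293 Q23293 (allL N23293 (tt N22424 F251309) (tt N22435 F251310) (tt N22392 F251311) (tt N21867 F251312) (tt N23293 F251313) (tt N22390 F251314) (tt N22378 F251315) (tt N22988 F251316) (tt N24520 D57290) (tt N21866 (iv D56063)))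
theorem Q23295 : ∀ i, i < 23295 → P i := stepQ 23294 Q23294 (allL N23294 (tt N22425 F251317) (tt N22443 F251318) (tt N21870 F251319) (tt N24521 D57291) (tt N21868 F251320) (tt N22418 F251321) (tt N22385 F251322) (tt N24517 (iv F256758)) (tt N21867 (iv D56064)) (tt N22402 F251323))
theorem Q23296 : ∀ i, i < 23296 → P i := stepQ 23295 Q23295 (allL N23295 (tt N22426 F251324) (tt N22448 F251325) (tt N22867 F251326) (tt N21868 (iv D56065)) (tt N24522 D57292) (tt N21872 F251327) (tt N22389 F251328) (tt N24518 (iv F256764)) (tt N23295 F251329) (tt N22407 F251330))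
theorem Q23297 : ∀ i, i < 23297 → P i := stepQ 23296 Q23296 (allL N23296 (tt N22402 F251331) (tt N21897 F251332) (tt N22418 F251333) (tt N24523 D57293) (tt N21873 F251334) (tt N21870 F251335) (tt N22368 F251336) (tt N22953 F251337) (tt N21869 (iv D56066)) (tt N22425 F251338))
theorem Q23298 : ∀ i, i < 23298 → P i := stepQ 23297 Q23297 (allL N23297 (tt N22427 F251339) (tt N21898 F251340) (tt N24524 D57294) (tt N21870 (iv D56067)) (tt N22853 F251341) (tt N24523 (iv F256795)) (tt N22728 F251342) (tt N24519 (iv F256771)) (tt N24415 (iv F256102)) (tt N24512 (iv F256723)))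
theorem Q23299 : ∀ i, i < 23299 → P i := stepQ 23298 Q23298 (allL N23298 (tt N22428 F251343) (tt N22447 F251344) (tt N22870 F251345) (tt N21871 (iv D56068)) (tt N23013 F251346) (tt N24518 (iv F256763)) (tt N23298 F251347) (tt N21872 F251348) (tt N23298 F251349) (tt N22410 F251350))
theorem Q23300 : ∀ i, i < 23300 → P i := stepQ 23299 Q23299 (allL N23299 (tt N22407 F251351) (tt N21901 F251352) (tt N22718 F251353) (tt N21873 (iv D56069)) (tt N24525 D57295) (tt N21874 F251354) (tt N22371 F251355) (tt N22973 F251356) (tt N21875 F251357) (tt N22426 F251358))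
theorem Q23301 : ∀ i, i < 23301 → P i := stepQ 23300 Q23300 (allL N23300 (tt N22414 F251359) (tt N21906 F251360) (tt N22724 F251361) (tt N22971 F251362) (tt N21875 (iv D56070)) (tt N22022 F251363) (tt N22372 F251364) (tt N22974 F251365) (tt N24525 (iv F256809)) (tt N23300 F251366))
theorem Q23302 : ∀ i, i < 23302 → P i := stepQ 23301 Q23301 (allL N23301 (tt N21922 F251367) (tt N22424 F251368) (tt N22842 F251369) (tt N21884 F251370) (tt N23301 F251371) (tt N21877 F251372) (tt N23002 F251373) (tt N22935 F251374) (tt N24526 D57296) (tt N21876 (iv D56071)))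
theorem Q23303 : ∀ i, i < 23303 → P i := stepQ 23302 Q23302 (allL N23302 (tt N21923 F251375) (tt N22984 F251376) (tt N22844 F251377) (tt N24527 D57297) (tt N21878 F251378) (tt N24526 (iv F256815)) (tt N22712 F251379) (tt N24444 (iv F256299)) (tt N21877 (iv D56072)) (tt N22697 F251380))
theorem Q23304 : ∀ i, i < 23304 → P i := stepQ 23303 Q23303 (allL N23303 (tt N21934 F251381) (tt N24511 (iv F256710)) (tt N23104 F251382) (tt N24528 D57298) (tt N21880 F251383) (tt N22957 F251384) (tt N24435 (iv F256234)) (tt N21885 F251385) (tt N21879 (iv D56073)) (tt N21892 F251386))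
theorem Q23305 : ∀ i, i < 23305 → P i := stepQ 23304 Q23304 (allL N23304 (tt N21940 F251387) (tt N22467 F251388) (tt N22805 F251389) (tt N21882 F251390) (tt N23304 F251391) (tt N22464 F251392) (tt N22729 F251393) (tt N23061 F251394) (tt N24529 D57299) (tt N21881 (iv D56074)))
theorem Q23306 : ∀ i, i < 23306 → P i := stepQ 23305 Q23305 (allL N23305 (tt N21942 F251395) (tt N22470 F251396) (tt N21885 F251397) (tt N24530 D57300) (tt N21883 F251398) (tt N22465 F251399) (tt N22730 F251400) (tt N23104 F251401) (tt N21882 (iv D56075)) (tt N21893 F251402))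
theorem Q23307 : ∀ i, i < 23307 → P i := stepQ 23306 Q23306 (allL N23306 (tt N21943 F251403) (tt N22480 F251404) (tt N23077 F251405) (tt N21883 (iv D56076)) (tt N24531 D57301) (tt N21886 F251406) (tt N22731 F251407) (tt N23149 F251408) (tt N23306 F251409) (tt N21894 F251410))
theorem Q23308 : ∀ i, i < 23308 → P i := stepQ 23307 Q23307 (allL N23307 (tt N21946 F251411) (tt N22425 F251412) (tt N22465 F251413) (tt N24532 D57302) (tt N21887 F251414) (tt N21885 F251415) (tt N23004 F251416) (tt N22957 F251417) (tt N21884 (iv D56077)) (tt N21897 F251418))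
theorem Q23309 : ∀ i, i < 23309 → P i := stepQ 23308 Q23308 (allL N23308 (tt N21947 F251419) (tt N24512 (iv F256718)) (tt N24533 D57303) (tt N21885 (iv D56078)) (tt N23070 F251420) (tt N24532 (iv F256854)) (tt N22732 F251421) (tt N24528 (iv F256828)) (tt N24527 (iv F256823)) (tt N21898 F251422))
theorem Q23310 : ∀ i, i < 23310 → P i := stepQ 23309 Q23309 (allL N23309 (tt N21958 F251423) (tt N22426 F251424) (tt N22803 F251425) (tt N21887 (iv D56079)) (tt N24534 D57304) (tt N21888 F251426) (tt N23015 F251427) (tt N22976 F251428) (tt N23309 F251429) (tt N21901 F251430))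
theorem Q23311 : ∀ i, i < 23311 → P i := stepQ 23310 Q23310 (allL N23310 (tt N21963 F251431) (tt N24515 (iv F256740)) (tt N22605 F251432) (tt N22312 F251433) (tt N23310 F251434) (tt N21890 F251435) (tt N22309 F251436) (tt N22738 F251437) (tt N24535 D57305) (tt N21889 (iv D56080)))
theorem Q23312 : ∀ i, i < 23312 → P i := stepQ 23311 Q23311 (allL N23311 (tt N21964 F251438) (tt N24516 (iv F256748)) (tt N23103 F251439) (tt N24536 D57306) (tt N21891 F251440) (tt N24535 (iv F256873)) (tt N21892 F251441) (tt N22739 F251442) (tt N21890 (iv D56081)) (tt N24435 (iv F256236)))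
theorem Q23313 : ∀ i, i < 23313 → P i := stepQ 23312 Q23312 (allL N23312 (tt N21974 F251443) (tt N24519 (iv F256768)) (tt N24537 D57307) (tt N21892 (iv D56082)) (tt N23115 F251444) (tt N22958 F251445) (tt N24536 (iv F256878)) (tt N21898 F251446) (tt N22960 F251447) (tt N24528 (iv F256829)))
theorem Q23314 : ∀ i, i < 23314 → P i := stepQ 23313 Q23313 (allL N23313 (tt N21988 F251448) (tt N23114 F251449) (tt N24538 D57308) (tt N21893 (iv D56083)) (tt N24539 D57309) (tt N23087 F251450) (tt N22755 F251451) (tt N23105 F251452) (tt N23088 F251453) (tt N24530 (iv F256843)))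
theorem Q23315 : ∀ i, i < 23315 → P i := stepQ 23314 Q23314 (allL N23314 (tt N21989 F251454) (tt N23130 F251455) (tt N23129 F251456) (tt N24539 (iv F256895)) (tt N21894 (iv D56084)) (tt N23127 F251457) (tt N22756 F251458) (tt N23150 F251459) (tt N21908 F251460) (tt N24531 (iv F256851)))
theorem Q23316 : ∀ i, i < 23316 → P i := stepQ 23315 Q23315 (allL N23315 (tt N21990 F251461) (tt N22149 F251462) (tt N22566 F251463) (tt N22147 F251464) (tt N21899 F251465) (tt N22358 F251466) (tt N22293 F251467) (tt N21896 F251468) (tt N24540 D57310) (tt N21895 (iv D56085)))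
theorem Q23317 : ∀ i, i < 23317 → P i := stepQ 23316 Q23316 (allL N23316 (tt N21991 F251469) (tt N22368 F251470) (tt N22602 F251471) (tt N24541 D57311) (tt N21900 F251472) (tt N22362 F251473) (tt N21897 F251474) (tt N24540 (iv F256906)) (tt N21896 (iv D56086)) (tt N23004 F251475))
theorem Q23318 : ∀ i, i < 23318 → P i := stepQ 23317 Q23317 (allL N23317 (tt N21992 F251476) (tt N24523 (iv F256794)) (tt N24542 D57312) (tt N21897 (iv D56087)) (tt N24543 D57313) (tt N21898 F251477) (tt N24541 (iv F256911)) (tt N22958 F251478) (tt N22948 F251479) (tt N24532 (iv F256857)))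
theorem Q23319 : ∀ i, i < 23319 → P i := stepQ 23318 Q23318 (allL N23318 (tt N21993 F251480) (tt N24544 D57314) (tt N21898 (iv D56088)) (tt N24538 (iv F256888)) (tt N23116 F251481) (tt N24542 (iv F256916)) (tt N22758 F251482) (tt N24537 (iv F256885)) (tt N24416 (iv F256110)) (tt N24533 (iv F256861)))
theorem Q23320 : ∀ i, i < 23320 → P i := stepQ 23319 Q23319 (allL N23319 (tt N22007 F251483) (tt N22166 F251484) (tt N22580 F251485) (tt N24545 D57315) (tt N24540 (iv F256903)) (tt N21902 F251486) (tt N22344 F251487) (tt N21900 F251488) (tt N21899 (iv D56089)) (tt N23012 F251489))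
theorem Q23321 : ∀ i, i < 23321 → P i := stepQ 23320 Q23320 (allL N23320 (tt N22008 F251490) (tt N22371 F251491) (tt N21982 F251492) (tt N21900 (iv D56090)) (tt N24546 D57316) (tt N21903 F251493) (tt N21901 F251494) (tt N24545 (iv F256931)) (tt N21905 F251495) (tt N23015 F251496))
theorem Q23322 : ∀ i, i < 23322 → P i := stepQ 23321 Q23321 (allL N23321 (tt N22010 F251497) (tt N24525 (iv F256804)) (tt N22840 F251498) (tt N24543 (iv F256920)) (tt N21901 (iv D56091)) (tt N22643 F251499) (tt N24546 (iv F256938)) (tt N22977 F251500) (tt N21906 F251501) (tt N24534 (iv F256869)))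
theorem Q23323 : ∀ i, i < 23323 → P i := stepQ 23322 Q23322 (allL N23322 (tt N22014 F251502) (tt N22370 F251503) (tt N21995 F251504) (tt N21902 (iv D56092)) (tt N22410 F251505) (tt N24545 (iv F256929)) (tt N23322 F251506) (tt N21903 F251507) (tt N21907 F251508) (tt N23013 F251509))
theorem Q23324 : ∀ i, i < 23324 → P i := stepQ 23323 Q23323 (allL N23323 (tt N22020 F251510) (tt N22167 F251511) (tt N22027 F251512) (tt N21904 (iv D56093)) (tt N24547 D57317) (tt N21907 F251513) (tt N22345 F251514) (tt N21905 F251515) (tt N24545 (iv F256932)) (tt N23323 F251516))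
theorem Q23325 : ∀ i, i < 23325 → P i := stepQ 23324 Q23324 (allL N23324 (tt N22022 F251517) (tt N22372 F251518) (tt N22034 F251519) (tt N22970 F251520) (tt N21905 (iv D56094)) (tt N22414 F251521) (tt N21906 F251522) (tt N24547 (iv F256947)) (tt N24546 (iv F256939)) (tt N23324 F251523))
theorem Q23326 : ∀ i, i < 23326 → P i := stepQ 23325 Q23325 (allL N23325 (tt N22251 F251524) (tt N21910 F251525) (tt N22495 F251526) (tt N22512 F251530) (tt N21909 (iv D56095)) (tt N22788 (iv F251531)) (tt N22509 F251527) (tt N21916 F251528) (tt N22503 F251529) (tt N24548 D57318))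
theorem Q23327 : ∀ i, i < 23327 → P i := stepQ 23326 Q23326 (allL N23326 (tt N22252 F251532) (tt N21911 F251533) (tt N22496 F251534) (tt N23326 F251535) (tt N24548 (iv F256953)) (tt N23326 F251536) (tt N22856 F251537) (tt N21917 F251538) (tt N24549 D57319) (tt N21909 (iv D56096)))
theorem Q23328 : ∀ i, i < 23328 → P i := stepQ 23327 Q23327 (allL N23327 (tt N22795 F251539) (tt N22512 F251540) (tt N21929 F251541) (tt N21910 (iv D56097)) (tt N23327 F251542) (tt N22681 (iv F251546)) (tt N22506 F251543) (tt N21918 F251544) (tt N22682 F251545) (tt N24550 D57320))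
theorem Q23329 : ∀ i, i < 23329 → P i := stepQ 23328 Q23328 (allL N23328 (tt N22823 F251547) (tt N22788 F251548) (tt N21912 F251549) (tt N22681 F251550) (tt N23328 F251551) (tt N21910 (iv D56098)) (tt N22792 F251552) (tt N21919 F251553) (tt N22742 F251554) (tt N24551 D57321))
theorem Q23330 : ∀ i, i < 23330 → P i := stepQ 23329 Q23329 (allL N23329 (tt N22825 F251555) (tt N24548 (iv F256950)) (tt N21913 F251556) (tt N24550 (iv F256967)) (tt N21911 F251557) (tt N24551 (iv F256977)) (tt N23065 F251558) (tt N21920 F251559) (tt N24552 D57322) (tt N21910 (iv D56099)))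
theorem Q23331 : ∀ i, i < 23331 → P i := stepQ 23330 Q23330 (allL N23330 (tt N22873 F251560) (tt N24549 (iv F256958)) (tt N21914 F251561) (tt N24553 D57323) (tt N24552 (iv F256982)) (tt N23330 F251562) (tt N23076 F251563) (tt N21921 F251564) (tt N21911 (iv D56100)) (tt N22769 F251565))
theorem Q23332 : ∀ i, i < 23332 → P i := stepQ 23331 Q23331 (allL N23331 (tt N22269 F251566) (tt N22500 F251567) (tt N22792 F251568) (tt N21932 F251569) (tt N23331 F251570) (tt N22529 F251571) (tt N21912 (iv D56101)) (tt N22521 F251572) (tt N22195 F251573) (tt N24554 D57324))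
theorem Q23333 : ∀ i, i < 23333 → P i := stepQ 23332 Q23332 (allL N23332 (tt N22935 F251574) (tt N22501 F251575) (tt N24551 (iv F256974)) (tt N21933 F251576) (tt N23332 F251577) (tt N21913 F251578) (tt N24554 (iv F256999)) (tt N21922 F251579) (tt N24555 D57325) (tt N21912 (iv D56102)))
theorem Q23334 : ∀ i, i < 23334 → P i := stepQ 23333 Q23333 (allL N23333 (tt N24444 (iv F256293)) (tt N22502 F251580) (tt N24552 (iv F256981)) (tt N24556 D57326) (tt N21914 F251581) (tt N24555 (iv F257004)) (tt N23069 F251582) (tt N21923 F251583) (tt N21913 (iv D56103)) (tt N23092 F251584))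
theorem Q23335 : ∀ i, i < 23335 → P i := stepQ 23334 Q23334 (allL N23334 (tt N21916 F251585) (tt N22246 F251586) (tt N22503 F251587) (tt N22604 F251591) (tt N21915 (iv D56104)) (tt N23059 (iv F251592)) (tt N22535 F251588) (tt N22251 F251589) (tt N22495 F251590) (tt N24557 D57327))
theorem Q23336 : ∀ i, i < 23336 → P i := stepQ 23335 Q23335 (allL N23335 (tt N21917 F251593) (tt N22247 F251594) (tt N22504 F251595) (tt N23335 F251596) (tt N24557 (iv F257016)) (tt N23335 F251597) (tt N22781 F251598) (tt N22252 F251599) (tt N24558 D57328) (tt N21915 (iv D56105)))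
theorem Q23337 : ∀ i, i < 23337 → P i := stepQ 23336 Q23336 (allL N23336 (tt N24557 (iv F257012)) (tt N21920 F251600) (tt N22507 F251601) (tt N24475 (iv F256497)) (tt N21917 F251602) (tt N24451 (iv F256350)) (tt N22782 F251603) (tt N24548 (iv F256956)) (tt N24559 D57329) (tt N21916 (iv D56106)))
theorem Q23338 : ∀ i, i < 23338 → P i := stepQ 23337 Q23337 (allL N23337 (tt N24558 (iv F257020)) (tt N21921 F251604) (tt N22508 F251605) (tt N24560 D57330) (tt N24559 (iv F257029)) (tt N23337 F251606) (tt N22783 F251607) (tt N24549 (iv F256962)) (tt N21917 (iv D56107)) (tt N22772 F251608))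
theorem Q23339 : ∀ i, i < 23339 → P i := stepQ 23338 Q23338 (allL N23338 (tt N22805 F251609) (tt N24475 (iv F256495)) (tt N21940 F251610) (tt N21920 F251611) (tt N23338 F251612) (tt N24471 (iv F256470)) (tt N22784 F251613) (tt N24550 (iv F256971)) (tt N24561 D57331) (tt N21918 (iv D56108)))
theorem Q23340 : ∀ i, i < 23340 → P i := stepQ 23339 Q23339 (allL N23339 (tt N22842 F251614) (tt N24451 (iv F256346)) (tt N21922 F251615) (tt N24471 (iv F256468)) (tt N23339 F251616) (tt N21920 F251617) (tt N23045 F251618) (tt N24551 (iv F256979)) (tt N24562 D57332) (tt N21919 (iv D56109)))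
theorem Q23341 : ∀ i, i < 23341 → P i := stepQ 23340 Q23340 (allL N23340 (tt N22844 F251619) (tt N24559 (iv F257027)) (tt N21923 F251620) (tt N24563 D57333) (tt N21921 F251621) (tt N24562 (iv F257045)) (tt N22785 F251622) (tt N24552 (iv F256984)) (tt N21920 (iv D56110)) (tt N22753 F251623))
theorem Q23342 : ∀ i, i < 23342 → P i := stepQ 23341 Q23341 (allL N23341 (tt N22880 F251624) (tt N24560 (iv F257032)) (tt N24441 (iv F256275)) (tt N21921 (iv D56111)) (tt N24564 D57334) (tt N23341 F251625) (tt N22786 F251626) (tt N24553 (iv F256990)) (tt N23341 F251627) (tt N22775 F251628))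
theorem Q23343 : ∀ i, i < 23343 → P i := stepQ 23342 Q23342 (allL N23342 (tt N24526 (iv F256811)) (tt N22517 F251629) (tt N24562 (iv F257043)) (tt N24565 D57335) (tt N23342 F251630) (tt N21923 F251631) (tt N23047 F251632) (tt N24555 (iv F257005)) (tt N21922 (iv D56112)) (tt N23082 F251633))
theorem Q23344 : ∀ i, i < 23344 → P i := stepQ 23343 Q23343 (allL N23343 (tt N24527 (iv F256819)) (tt N22518 F251634) (tt N24566 D57336) (tt N21923 (iv D56113)) (tt N24443 (iv F256289)) (tt N24565 (iv F257056)) (tt N22787 F251635) (tt N24556 (iv F257009)) (tt N21947 F251636) (tt N23093 F251637))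
theorem Q23345 : ∀ i, i < 23345 → P i := stepQ 23344 Q23344 (allL N23344 (tt N22308 F251638) (tt N22521 F251639) (tt N22466 F251640) (tt N22529 F251641) (tt N23344 F251642) (tt N21932 F251643) (tt N21924 (iv D56114)) (tt N22500 F251644) (tt N21962 F251645) (tt N24567 D57337))
theorem Q23346 : ∀ i, i < 23346 → P i := stepQ 23345 Q23345 (allL N23345 (tt N24434 (iv F256222)) (tt N22522 F251646) (tt N24475 (iv F256496)) (tt N22542 F251647) (tt N23345 F251648) (tt N21925 F251649) (tt N24567 (iv F257069)) (tt N22516 F251650) (tt N24568 D57338) (tt N21924 (iv D56115)))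
theorem Q23347 : ∀ i, i < 23347 → P i := stepQ 23346 Q23346 (allL N23346 (tt N24435 (iv F256230)) (tt N22523 F251651) (tt N24477 (iv F256510)) (tt N24569 D57339) (tt N21926 F251652) (tt N24568 (iv F257073)) (tt N21934 F251653) (tt N22791 F251654) (tt N21925 (iv D56116)) (tt N21964 F251655))
theorem Q23348 : ∀ i, i < 23348 → P i := stepQ 23347 Q23347 (allL N23347 (tt N22578 F251656) (tt N21930 F251657) (tt N22524 F251658) (tt N23045 F251659) (tt N21928 F251660) (tt N22574 F251661) (tt N24471 (iv F256471)) (tt N21936 F251662) (tt N24570 D57340) (tt N21927 (iv D56117)))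
theorem Q23349 : ∀ i, i < 23349 → P i := stepQ 23348 Q23348 (allL N23348 (tt N22621 F251663) (tt N21931 F251664) (tt N22525 F251665) (tt N24571 D57341) (tt N24570 (iv F257084)) (tt N21948 F251666) (tt N24504 (iv F256665)) (tt N21937 F251667) (tt N21928 (iv D56118)) (tt N21968 F251668))
theorem Q23350 : ∀ i, i < 23350 → P i := stepQ 23349 Q23349 (allL N23349 (tt N23061 F251669) (tt N23045 F251670) (tt N24550 (iv F256966)) (tt N21930 F251671) (tt N23349 F251672) (tt N22680 F251673) (tt N24451 (iv F256351)) (tt N21940 F251674) (tt N24572 D57342) (tt N21929 (iv D56119)))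
theorem Q23351 : ∀ i, i < 23351 → P i := stepQ 23350 Q23350 (allL N23350 (tt N23104 F251675) (tt N24570 (iv F257082)) (tt N21934 F251676) (tt N24573 D57343) (tt N21931 F251677) (tt N23031 F251678) (tt N24477 (iv F256512)) (tt N21942 F251679) (tt N21930 (iv D56120)) (tt N21969 F251680))
theorem Q23352 : ∀ i, i < 23352 → P i := stepQ 23351 Q23351 (allL N23351 (tt N23149 F251681) (tt N24571 (iv F257089)) (tt N24447 (iv F256319)) (tt N21931 (iv D56121)) (tt N24574 D57344) (tt N21949 F251682) (tt N24507 (iv F256686)) (tt N21943 F251683) (tt N23351 F251684) (tt N21970 F251685))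
theorem Q23353 : ∀ i, i < 23353 → P i := stepQ 23352 Q23352 (allL N23352 (tt N22310 F251686) (tt N22530 F251687) (tt N22468 F251688) (tt N24554 (iv F256996)) (tt N21950 F251689) (tt N24567 (iv F257068)) (tt N21933 F251690) (tt N23054 F251691) (tt N24575 D57345) (tt N21932 (iv D56122)))
theorem Q23354 : ∀ i, i < 23354 → P i := stepQ 23353 Q23353 (allL N23353 (tt N22957 F251692) (tt N22531 F251693) (tt N23031 F251694) (tt N24576 D57346) (tt N21951 F251695) (tt N21934 F251696) (tt N24575 (iv F257113)) (tt N21946 F251697) (tt N21933 (iv D56123)) (tt N21973 F251698))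
theorem Q23355 : ∀ i, i < 23355 → P i := stepQ 23354 Q23354 (allL N23354 (tt N24528 (iv F256825)) (tt N22532 F251699) (tt N24577 D57347) (tt N21934 (iv D56124)) (tt N24450 (iv F256342)) (tt N24576 (iv F257118)) (tt N24569 (iv F257077)) (tt N21947 F251700) (tt N24556 (iv F257010)) (tt N21974 F251701))
theorem Q23356 : ∀ i, i < 23356 → P i := stepQ 23355 Q23355 (allL N23355 (tt N22597 F251702) (tt N21940 F251703) (tt N22522 F251704) (tt N21936 F251705) (tt N23355 F251706) (tt N22519 F251707) (tt N22800 F251708) (tt N23045 F251709) (tt N24578 D57348) (tt N21935 (iv D56125)))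
theorem Q23357 : ∀ i, i < 23357 → P i := stepQ 23356 Q23356 (allL N23356 (tt N22600 F251710) (tt N21942 F251711) (tt N22534 F251712) (tt N24579 D57349) (tt N21937 F251713) (tt N22595 F251714) (tt N22802 F251715) (tt N24570 (iv F257086)) (tt N21936 (iv D56126)) (tt N21981 F251716))
theorem Q23358 : ∀ i, i < 23358 → P i := stepQ 23357 Q23357 (allL N23357 (tt N22635 F251717) (tt N21943 F251718) (tt N23015 F251719) (tt N21937 (iv D56127)) (tt N24580 D57350) (tt N21953 F251720) (tt N22803 F251721) (tt N24571 (iv F257092)) (tt N23357 F251722) (tt N21982 F251723))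
theorem Q23359 : ∀ i, i < 23359 → P i := stepQ 23358 Q23358 (allL N23358 (tt N22464 F251724) (tt N22519 F251725) (tt N24471 (iv F256467)) (tt N21941 F251726) (tt N22489 F251727) (tt N21940 F251728) (tt N22524 F251729) (tt N22680 F251730) (tt N24581 D57351) (tt N21938 (iv D56128)))
theorem Q23360 : ∀ i, i < 23360 → P i := stepQ 23359 Q23359 (allL N23359 (tt N22784 F251731) (tt N22568 F251732) (tt N22729 F251733) (tt N21983 F251734) (tt N23359 F251735) (tt N22564 F251736) (tt N22805 F251737) (tt N22668 F251738) (tt N24582 D57352) (tt N21939 (iv D56129)))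
theorem Q23361 : ∀ i, i < 23361 → P i := stepQ 23360 Q23360 (allL N23360 (tt N24529 (iv F256830)) (tt N24578 (iv F257124)) (tt N24561 (iv F257038)) (tt N24583 D57353) (tt N23360 F251739) (tt N24581 (iv F257146)) (tt N22806 F251740) (tt N24572 (iv F257099)) (tt N21940 (iv D56130)) (tt N24582 (iv F257157)))
theorem Q23362 : ∀ i, i < 23362 → P i := stepQ 23361 Q23361 (allL N23361 (tt N22465 F251741) (tt N22595 F251742) (tt N21946 F251743) (tt N24584 D57354) (tt N21954 F251744) (tt N21942 F251745) (tt N23028 F251746) (tt N23031 F251747) (tt N21941 (iv D56131)) (tt N21987 F251748))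
theorem Q23363 : ∀ i, i < 23363 → P i := stepQ 23362 Q23362 (allL N23362 (tt N24530 (iv F256838)) (tt N24579 (iv F257132)) (tt N24585 D57355) (tt N21942 (iv D56132)) (tt N24586 D57356) (tt N24584 (iv F257163)) (tt N22808 F251749) (tt N24573 (iv F257103)) (tt N24583 (iv F257159)) (tt N21988 F251750))
theorem Q23364 : ∀ i, i < 23364 → P i := stepQ 23363 Q23363 (allL N23363 (tt N24531 (iv F256844)) (tt N24580 (iv F257137)) (tt N24454 (iv F256365)) (tt N24586 (iv F257170)) (tt N21943 (iv D56133)) (tt N24587 D57357) (tt N22809 F251751) (tt N24574 (iv F257106)) (tt N23363 F251752) (tt N21989 F251753))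
theorem Q23365 : ∀ i, i < 23365 → P i := stepQ 23364 Q23364 (allL N23364 (tt N22993 F251754) (tt N22542 F251755) (tt N22533 F251756) (tt N22522 F251757) (tt N21956 F251758) (tt N22493 F251759) (tt N23054 F251760) (tt N21945 F251761) (tt N24588 D57358) (tt N21944 (iv D56134)))
theorem Q23366 : ∀ i, i < 23366 → P i := stepQ 23365 Q23365 (allL N23365 (tt N23004 F251762) (tt N22543 F251763) (tt N23028 F251764) (tt N24589 D57359) (tt N21957 F251765) (tt N22810 F251766) (tt N21946 F251767) (tt N24588 (iv F257185)) (tt N21945 (iv D56135)) (tt N21991 F251768))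
theorem Q23367 : ∀ i, i < 23367 → P i := stepQ 23366 Q23366 (allL N23366 (tt N24532 (iv F256852)) (tt N22544 F251769) (tt N24590 D57360) (tt N21946 (iv D56136)) (tt N24591 D57361) (tt N21947 F251770) (tt N24589 (iv F257190)) (tt N24576 (iv F257119)) (tt N24565 (iv F257058)) (tt N21992 F251771))
theorem Q23368 : ∀ i, i < 23368 → P i := stepQ 23367 Q23367 (allL N23367 (tt N24533 (iv F256858)) (tt N24592 D57362) (tt N21947 (iv D56137)) (tt N24585 (iv F257167)) (tt N24456 (iv F256375)) (tt N24590 (iv F257193)) (tt N22812 F251772) (tt N24577 (iv F257121)) (tt N24566 (iv F257061)) (tt N21993 F251773))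
theorem Q23369 : ∀ i, i < 23369 → P i := stepQ 23368 Q23368 (allL N23368 (tt N22622 F251774) (tt N21949 F251775) (tt N23013 F251776) (tt N21948 (iv D56138)) (tt N22870 F251777) (tt N24571 (iv F257091)) (tt N23368 F251778) (tt N21953 F251779) (tt N23368 F251780) (tt N21995 F251781))
theorem Q23370 : ∀ i, i < 23370 → P i := stepQ 23369 Q23369 (allL N23369 (tt N23073 F251782) (tt N22870 F251783) (tt N24457 (iv F256380)) (tt N22869 F251784) (tt N21949 (iv D56139)) (tt N24593 D57363) (tt N23369 F251785) (tt N21955 F251786) (tt N23369 F251787) (tt N21996 F251788))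
theorem Q23371 : ∀ i, i < 23371 → P i := stepQ 23370 Q23370 (allL N23370 (tt N22353 F251789) (tt N22550 F251790) (tt N22492 F251791) (tt N24594 D57364) (tt N24575 (iv F257112)) (tt N23370 F251792) (tt N21951 F251793) (tt N23144 F251794) (tt N21950 (iv D56140)) (tt N21998 F251795))
theorem Q23372 : ∀ i, i < 23372 → P i := stepQ 23371 Q23371 (allL N23371 (tt N22976 F251796) (tt N22551 F251797) (tt N24595 D57365) (tt N21951 (iv D56141)) (tt N24596 D57366) (tt N21952 F251798) (tt N24594 (iv F257211)) (tt N21958 F251799) (tt N23371 F251800) (tt N21999 F251801))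
theorem Q23373 : ∀ i, i < 23373 → P i := stepQ 23372 Q23372 (allL N23372 (tt N22813 F251802) (tt N22648 (iv F251808)) (tt N21952 (iv D56142)) (tt N22647 F251803) (tt N24460 (iv F256402)) (tt N24595 (iv F257217)) (tt N23372 F251804) (tt N21959 F251805) (tt N23372 F251806) (tt N22000 F251807))
theorem Q23374 : ∀ i, i < 23374 → P i := stepQ 23373 Q23373 (allL N23373 (tt N23074 F251809) (tt N22867 F251810) (tt N24461 (iv F256409)) (tt N22864 F251811) (tt N24587 (iv F257175)) (tt N21955 (iv D56143)) (tt N22865 F251812) (tt N24593 (iv F257204)) (tt N23373 F251813) (tt N22006 F251814))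
theorem Q23375 : ∀ i, i < 23375 → P i := stepQ 23374 Q23374 (allL N23374 (tt N23012 F251815) (tt N22556 F251816) (tt N22677 F251817) (tt N24597 D57367) (tt N24588 (iv F257182)) (tt N21960 F251818) (tt N23144 F251819) (tt N21957 F251820) (tt N21956 (iv D56144)) (tt N22007 F251821))
theorem Q23376 : ∀ i, i < 23376 → P i := stepQ 23375 Q23375 (allL N23375 (tt N23015 F251822) (tt N22557 F251823) (tt N22635 F251824) (tt N21957 (iv D56145)) (tt N24598 D57368) (tt N21961 F251825) (tt N21958 F251826) (tt N24597 (iv F257233)) (tt N23375 F251827) (tt N22008 F251828))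
theorem Q23377 : ∀ i, i < 23377 → P i := stepQ 23376 Q23376 (allL N23376 (tt N22803 F251829) (tt N22637 (iv F251835)) (tt N21958 (iv D56146)) (tt N22634 F251830) (tt N24599 D57369) (tt N21959 F251831) (tt N22635 F251832) (tt N24595 (iv F257219)) (tt N23376 F251833) (tt N22009 F251834))
theorem Q23378 : ∀ i, i < 23378 → P i := stepQ 23377 Q23377 (allL N23377 (tt N24534 (iv F256862)) (tt N22559 F251836) (tt N24599 (iv F257245)) (tt N24591 (iv F257196)) (tt N21958 (iv D56147)) (tt N24463 (iv F256423)) (tt N24598 (iv F257240)) (tt N24596 (iv F257225)) (tt N23377 F251837) (tt N22010 F251838))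
theorem Q23379 : ∀ i, i < 23379 → P i := stepQ 23378 Q23378 (allL N23378 (tt N23013 F251839) (tt N22562 F251840) (tt N22622 F251841) (tt N21960 (iv D56148)) (tt N22428 F251842) (tt N24597 (iv F257231)) (tt N23378 F251843) (tt N21961 F251844) (tt N23378 F251845) (tt N22014 F251846))
theorem Q23380 : ∀ i, i < 23380 → P i := stepQ 23379 Q23379 (allL N23379 (tt N22291 F251847) (tt N22195 F251848) (tt N22455 F251849) (tt N22193 F251850) (tt N23379 F251851) (tt N21971 F251852) (tt N22248 F251853) (tt N21962 (iv D56149)) (tt N22500 F251854) (tt N24600 D57370))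
theorem Q23381 : ∀ i, i < 23381 → P i := stepQ 23380 Q23380 (allL N23380 (tt N22309 F251855) (tt N22571 F251856) (tt N22467 F251857) (tt N22221 F251858) (tt N23380 F251859) (tt N21972 F251860) (tt N21963 F251861) (tt N24600 (iv F257256)) (tt N24601 D57371) (tt N21962 (iv D56150)))
theorem Q23382 : ∀ i, i < 23382 → P i := stepQ 23381 Q23381 (allL N23381 (tt N24535 (iv F256870)) (tt N22572 F251862) (tt N24476 (iv F256504)) (tt N24602 D57372) (tt N23381 F251863) (tt N21964 F251864) (tt N24601 (iv F257262)) (tt N22818 F251865) (tt N21963 (iv D56151)) (tt N24568 (iv F257075)))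
theorem Q23383 : ∀ i, i < 23383 → P i := stepQ 23382 Q23382 (allL N23382 (tt N24536 (iv F256876)) (tt N22573 F251866) (tt N24603 D57373) (tt N21964 (iv D56152)) (tt N24464 (iv F256429)) (tt N24602 (iv F257264)) (tt N21974 F251867) (tt N22819 F251868) (tt N24408 (iv F256055)) (tt N24569 (iv F257080)))
theorem Q23384 : ∀ i, i < 23384 → P i := stepQ 23383 Q23383 (allL N23383 (tt N21967 F251869) (tt N22527 F251870) (tt N22574 F251871) (tt N22715 F251872) (tt N21966 F251873) (tt N22524 F251874) (tt N22804 F251875) (tt N21976 F251876) (tt N24604 D57374) (tt N21965 (iv D56153)))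
theorem Q23385 : ∀ i, i < 23385 → P i := stepQ 23384 Q23384 (allL N23384 (tt N21968 F251877) (tt N22547 F251878) (tt N22575 F251879) (tt N24605 D57375) (tt N24604 (iv F257271)) (tt N21994 F251880) (tt N23134 F251881) (tt N21977 F251882) (tt N21966 (iv D56154)) (tt N22621 F251883))
theorem Q23386 : ∀ i, i < 23386 → P i := stepQ 23385 Q23385 (allL N23385 (tt N24604 (iv F257268)) (tt N21969 F251884) (tt N22579 F251885) (tt N24606 D57376) (tt N21968 F251886) (tt N23029 F251887) (tt N24472 (iv F256478)) (tt N21981 F251888) (tt N21967 (iv D56155)) (tt N24570 (iv F257087)))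
theorem Q23387 : ∀ i, i < 23387 → P i := stepQ 23386 Q23386 (allL N23386 (tt N24605 (iv F257276)) (tt N21970 F251889) (tt N24545 (iv F256928)) (tt N21968 (iv D56156)) (tt N24607 D57377) (tt N21995 F251890) (tt N24505 (iv F256672)) (tt N21982 F251891) (tt N22027 F251892) (tt N24571 (iv F257094)))
theorem Q23388 : ∀ i, i < 23388 → P i := stepQ 23387 Q23387 (allL N23387 (tt N23105 F251893) (tt N24606 (iv F257284)) (tt N24608 D57378) (tt N21969 (iv D56157)) (tt N24609 D57379) (tt N23032 F251894) (tt N24478 (iv F256516)) (tt N21988 F251895) (tt N22719 F251896) (tt N24573 (iv F257104)))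
theorem Q23389 : ∀ i, i < 23389 → P i := stepQ 23388 Q23388 (allL N23388 (tt N23150 F251897) (tt N24607 (iv F257288)) (tt N24467 (iv F256448)) (tt N24609 (iv F257297)) (tt N21970 (iv D56158)) (tt N24610 D57380) (tt N24508 (iv F256692)) (tt N21989 F251898) (tt N22028 F251899) (tt N24574 (iv F257108)))
theorem Q23390 : ∀ i, i < 23390 → P i := stepQ 23389 Q23389 (allL N23389 (tt N22293 F251900) (tt N22591 F251901) (tt N22456 F251902) (tt N22213 F251903) (tt N21997 F251904) (tt N24600 (iv F257254)) (tt N21990 F251905) (tt N21972 F251906) (tt N24611 D57381) (tt N21971 (iv D56159)))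
theorem Q23391 : ∀ i, i < 23391 → P i := stepQ 23390 Q23390 (allL N23390 (tt N22311 F251907) (tt N22592 F251908) (tt N22469 F251909) (tt N24612 D57382) (tt N21998 F251910) (tt N24601 (iv F257261)) (tt N21973 F251911) (tt N24611 (iv F257309)) (tt N21972 (iv D56160)) (tt N24575 (iv F257115)))
theorem Q23392 : ∀ i, i < 23392 → P i := stepQ 23391 Q23391 (allL N23391 (tt N22958 F251912) (tt N22593 F251913) (tt N24613 D57383) (tt N21973 (iv D56161)) (tt N24614 D57384) (tt N21974 F251914) (tt N24612 (iv F257313)) (tt N21992 F251915) (tt N22928 F251916) (tt N24576 (iv F257120)))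
theorem Q23393 : ∀ i, i < 23393 → P i := stepQ 23392 Q23392 (allL N23392 (tt N24537 (iv F256881)) (tt N24615 D57385) (tt N21974 (iv D56162)) (tt N24608 (iv F257292)) (tt N24470 (iv F256463)) (tt N24613 (iv F257317)) (tt N24603 (iv F257266)) (tt N21993 F251917) (tt N24422 (iv F256150)) (tt N24577 (iv F257122)))
theorem Q23394 : ∀ i, i < 23394 → P i := stepQ 23393 Q23393 (allL N23393 (tt N21979 F251918) (tt N22536 F251919) (tt N22493 F251920) (tt N21976 F251921) (tt N22029 F251922) (tt N22533 F251923) (tt N22498 F251924) (tt N22715 F251925) (tt N24616 D57386) (tt N21975 (iv D56163)))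
theorem Q23395 : ∀ i, i < 23395 → P i := stepQ 23394 Q23394 (allL N23394 (tt N21981 F251926) (tt N22540 F251927) (tt N22595 F251928) (tt N24617 D57387) (tt N21977 F251929) (tt N22534 F251930) (tt N22833 F251931) (tt N24604 (iv F257274)) (tt N21976 (iv D56164)) (tt N22600 F251932))
theorem Q23396 : ∀ i, i < 23396 → P i := stepQ 23395 Q23395 (allL N23395 (tt N21982 F251933) (tt N22555 F251934) (tt N22008 F251935) (tt N21977 (iv D56165)) (tt N24618 D57388) (tt N22001 F251936) (tt N22009 F251937) (tt N24605 (iv F257281)) (tt N22021 F251938) (tt N22635 F251939))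
theorem Q23397 : ∀ i, i < 23397 → P i := stepQ 23396 Q23396 (allL N23396 (tt N22846 F251940) (tt N21983 F251941) (tt N22358 F251942) (tt N22568 F251943) (tt N22031 F251944) (tt N22566 F251945) (tt N22835 F251946) (tt N22360 F251947) (tt N24619 D57389) (tt N21978 (iv D56166)))
theorem Q23398 : ∀ i, i < 23398 → P i := stepQ 23397 Q23397 (allL N23397 (tt N24616 (iv F257327)) (tt N21984 F251948) (tt N22994 F251949) (tt N24620 D57390) (tt N22032 F251950) (tt N23025 F251951) (tt N22836 F251952) (tt N22717 F251953) (tt N21979 (iv D56167)) (tt N24619 (iv F257354)))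
theorem Q23399 : ∀ i, i < 23399 → P i := stepQ 23398 Q23398 (allL N23398 (tt N22534 F251954) (tt N21987 F251955) (tt N22600 F251956) (tt N24621 D57391) (tt N22002 F251957) (tt N21981 F251958) (tt N23053 F251959) (tt N23029 F251960) (tt N21980 (iv D56168)) (tt N22595 F251961))
theorem Q23400 : ∀ i, i < 23400 → P i := stepQ 23399 Q23399 (allL N23399 (tt N24617 (iv F257335)) (tt N21988 F251962) (tt N24622 D57392) (tt N21981 (iv D56169)) (tt N24623 D57393) (tt N24621 (iv F257363)) (tt N22839 F251963) (tt N24606 (iv F257286)) (tt N24620 (iv F257359)) (tt N24579 (iv F257135)))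
theorem Q23401 : ∀ i, i < 23401 → P i := stepQ 23400 Q23400 (allL N23400 (tt N24618 (iv F257340)) (tt N21989 F251964) (tt N24546 (iv F256936)) (tt N24623 (iv F257371)) (tt N21982 (iv D56170)) (tt N24624 D57394) (tt N22840 F251965) (tt N24607 (iv F257289)) (tt N22034 F251966) (tt N24580 (iv F257142)))
theorem Q23402 : ∀ i, i < 23402 → P i := stepQ 23401 Q23401 (allL N23401 (tt N22785 F251967) (tt N24619 (iv F257348)) (tt N22712 F251968) (tt N24625 D57395) (tt N22035 F251969) (tt N22590 F251970) (tt N22844 F251971) (tt N22615 F251972) (tt N21983 (iv D56171)) (tt N21984 F251973))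
theorem Q23403 : ∀ i, i < 23403 → P i := stepQ 23402 Q23402 (allL N23402 (tt N23088 F251974) (tt N24620 (iv F257355)) (tt N24626 D57396) (tt N21984 (iv D56172)) (tt N24627 D57397) (tt N23026 F251975) (tt N22845 F251976) (tt N22719 F251977) (tt N21988 F251978) (tt N24625 (iv F257384)))
theorem Q23404 : ∀ i, i < 23404 → P i := stepQ 23403 Q23403 (allL N23403 (tt N22566 F251979) (tt N22537 F251980) (tt N21990 F251981) (tt N22451 F251982) (tt N22004 F251983) (tt N22846 F251984) (tt N22456 F251985) (tt N21986 F251986) (tt N24628 D57398) (tt N21985 (iv D56173)))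
theorem Q23405 : ∀ i, i < 23405 → P i := stepQ 23404 Q23404 (allL N23404 (tt N22602 F251987) (tt N23053 F251988) (tt N21991 F251989) (tt N24629 D57399) (tt N22005 F251990) (tt N22847 F251991) (tt N21987 F251992) (tt N24628 (iv F257402)) (tt N21986 (iv D56174)) (tt N23028 F251993))
theorem Q23406 : ∀ i, i < 23406 → P i := stepQ 23405 Q23405 (allL N23405 (tt N23087 F251994) (tt N24621 (iv F257361)) (tt N24630 D57400) (tt N21987 (iv D56175)) (tt N23097 F251995) (tt N21988 F251996) (tt N24629 (iv F257408)) (tt N23032 F251997) (tt N23026 F251998) (tt N24584 (iv F257166)))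
theorem Q23407 : ∀ i, i < 23407 → P i := stepQ 23406 Q23406 (allL N23406 (tt N24538 (iv F256887)) (tt N24631 D57401) (tt N21988 (iv D56176)) (tt N21993 F251999) (tt N24632 D57402) (tt N24630 (iv F257414)) (tt N22849 F252000) (tt N24608 (iv F257294)) (tt N24626 (iv F257390)) (tt N24585 (iv F257169)))
theorem Q23408 : ∀ i, i < 23408 → P i := stepQ 23407 Q23407 (allL N23407 (tt N24539 (iv F256893)) (tt N24623 (iv F257370)) (tt N24632 (iv F257419)) (tt N21989 F252001) (tt N21988 (iv D56177)) (tt N24633 D57403) (tt N22850 F252002) (tt N24609 (iv F257298)) (tt N24627 (iv F257395)) (tt N24586 (iv F257172)))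
theorem Q23409 : ∀ i, i < 23409 → P i := stepQ 23408 Q23408 (allL N23408 (tt N23127 F252003) (tt N24624 (iv F257374)) (tt N24482 (iv F256532)) (tt N24633 (iv F257422)) (tt N22006 F252004) (tt N21989 (iv D56178)) (tt N24634 D57404) (tt N24610 (iv F257302)) (tt N22038 F252005) (tt N24587 (iv F257177)))
theorem Q23410 : ∀ i, i < 23410 → P i := stepQ 23409 Q23409 (allL N23409 (tt N24540 (iv F256900)) (tt N22616 F252006) (tt N24628 (iv F257398)) (tt N24635 D57405) (tt N22007 F252007) (tt N22852 F252008) (tt N24611 (iv F257308)) (tt N21991 F252009) (tt N21990 (iv D56179)) (tt N24588 (iv F257186)))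
theorem Q23411 : ∀ i, i < 23411 → P i := stepQ 23410 Q23410 (allL N23410 (tt N24541 (iv F256908)) (tt N22617 F252010) (tt N24636 D57406) (tt N21991 (iv D56180)) (tt N24637 D57407) (tt N22853 F252011) (tt N21992 F252012) (tt N24635 (iv F257433)) (tt N24425 (iv F256171)) (tt N24589 (iv F257192)))
theorem Q23412 : ∀ i, i < 23412 → P i := stepQ 23411 Q23411 (allL N23411 (tt N24542 (iv F256914)) (tt N24638 D57408) (tt N21992 (iv D56181)) (tt N24630 (iv F257412)) (tt N24639 D57409) (tt N21993 F252013) (tt N24636 (iv F257435)) (tt N24613 (iv F257318)) (tt N24426 (iv F256177)) (tt N24590 (iv F257194)))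
theorem Q23413 : ∀ i, i < 23413 → P i := stepQ 23412 Q23412 (allL N23412 (tt N24543 (iv F256919)) (tt N22619 F252014) (tt N24639 (iv F257441)) (tt N22010 F252015) (tt N21992 (iv D56182)) (tt N24484 (iv F256541)) (tt N24637 (iv F257438)) (tt N24614 (iv F257323)) (tt N24427 (iv F256182)) (tt N24591 (iv F257197)))
theorem Q23414 : ∀ i, i < 23414 → P i := stepQ 23413 Q23413 (allL N23413 (tt N24640 D57410) (tt N21993 (iv D56183)) (tt N22620 F252016) (tt N24631 (iv F257417)) (tt N24485 (iv F256544)) (tt N24638 (iv F257440)) (tt N22855 F252017) (tt N24615 (iv F257326)) (tt N24428 (iv F256185)) (tt N24592 (iv F257200)))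
theorem Q23415 : ∀ i, i < 23415 → P i := stepQ 23414 Q23414 (allL N23414 (tt N21995 F252018) (tt N22548 F252019) (tt N22014 F252020) (tt N21994 (iv D56184)) (tt N22723 F252021) (tt N24605 (iv F257279)) (tt N23414 F252022) (tt N22001 F252023) (tt N22025 F252024) (tt N22622 F252025))
theorem Q23416 : ∀ i, i < 23416 → P i := stepQ 23415 Q23415 (allL N23415 (tt N22723 F252026) (tt N21996 F252027) (tt N22410 F252028) (tt N22722 F252029) (tt N21995 (iv D56185)) (tt N24641 D57411) (tt N23415 F252030) (tt N22003 F252031) (tt N22039 F252032) (tt N22870 F252033))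
theorem Q23417 : ∀ i, i < 23417 → P i := stepQ 23416 Q23416 (allL N23416 (tt N23120 F252034) (tt N24641 (iv F257445)) (tt N24489 (iv F256570)) (tt N23119 F252035) (tt N24610 (iv F257301)) (tt N21996 (iv D56186)) (tt N24642 D57412) (tt N22006 F252036) (tt N22040 F252037) (tt N24593 (iv F257206)))
theorem Q23418 : ∀ i, i < 23418 → P i := stepQ 23417 Q23417 (allL N23417 (tt N22344 F252038) (tt N22628 F252039) (tt N22488 F252040) (tt N24643 D57413) (tt N24611 (iv F257307)) (tt N23417 F252041) (tt N22007 F252042) (tt N21998 F252043) (tt N21997 (iv D56187)) (tt N23144 F252044))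
theorem Q23419 : ∀ i, i < 23419 → P i := stepQ 23418 Q23418 (allL N23418 (tt N22354 F252045) (tt N22629 F252046) (tt N23142 F252047) (tt N21998 (iv D56188)) (tt N24644 D57414) (tt N23418 F252048) (tt N21999 F252049) (tt N24643 (iv F257463)) (tt N22016 F252050) (tt N24594 (iv F257214)))
theorem Q23420 : ∀ i, i < 23420 → P i := stepQ 23419 Q23419 (allL N23419 (tt N22822 F252051) (tt N24645 D57415) (tt N21999 (iv D56189)) (tt N22675 F252052) (tt N24646 D57416) (tt N22000 F252053) (tt N23142 F252054) (tt N22009 F252055) (tt N22017 F252056) (tt N24595 (iv F257221)))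
theorem Q23421 : ∀ i, i < 23421 → P i := stepQ 23420 Q23420 (allL N23420 (tt N22977 F252057) (tt N22631 F252058) (tt N24646 (iv F257480)) (tt N24614 (iv F257322)) (tt N21999 (iv D56190)) (tt N24492 (iv F256586)) (tt N24644 (iv F257469)) (tt N22010 F252059) (tt N22018 F252060) (tt N24596 (iv F257227)))
theorem Q23422 : ∀ i, i < 23422 → P i := stepQ 23421 Q23421 (allL N23421 (tt N22759 F252061) (tt N22000 (iv D56191)) (tt N22632 F252062) (tt N22561 F252063) (tt N23157 F252064) (tt N24645 (iv F257474)) (tt N23421 F252065) (tt N22011 F252066) (tt N22019 F252067) (tt N22648 F252068))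
theorem Q23423 : ∀ i, i < 23423 → P i := stepQ 23422 Q23422 (allL N23422 (tt N22718 F252069) (tt N22006 F252070) (tt N22407 F252071) (tt N22716 F252072) (tt N24624 (iv F257376)) (tt N22003 (iv D56192)) (tt N22408 F252073) (tt N24641 (iv F257448)) (tt N22041 F252074) (tt N22867 F252075))
theorem Q23424 : ∀ i, i < 23424 → P i := stepQ 23423 Q23423 (allL N23423 (tt N22580 F252076) (tt N22678 F252077) (tt N22007 F252078) (tt N22575 F252079) (tt N24628 (iv F257399)) (tt N22012 F252080) (tt N22488 F252081) (tt N22005 F252082) (tt N22004 (iv D56193)) (tt N22677 F252083))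
theorem Q23425 : ∀ i, i < 23425 → P i := stepQ 23424 Q23424 (allL N23424 (tt N23125 F252084) (tt N22408 F252085) (tt N24496 (iv F256610)) (tt N22814 F252086) (tt N24634 (iv F257426)) (tt N22013 F252087) (tt N22006 (iv D56194)) (tt N23039 (iv F252090)) (tt N22042 F252088) (tt N22865 F252089))
theorem Q23426 : ∀ i, i < 23426 → P i := stepQ 23425 Q23425 (allL N23425 (tt N24545 (iv F256926)) (tt N22641 F252091) (tt N24605 (iv F257278)) (tt N22007 (iv D56195)) (tt N24647 D57417) (tt N22014 F252092) (tt N24643 (iv F257462)) (tt N22008 F252093) (tt N22020 F252094) (tt N24597 (iv F257235)))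
theorem Q23427 : ∀ i, i < 23427 → P i := stepQ 23426 Q23426 (allL N23426 (tt N24546 (iv F256934)) (tt N22643 F252095) (tt N24618 (iv F257342)) (tt N24637 (iv F257437)) (tt N22008 (iv D56196)) (tt N24525 (iv F256806)) (tt N22010 F252096) (tt N24647 (iv F257486)) (tt N22022 F252097) (tt N24598 (iv F257242)))
theorem Q23428 : ∀ i, i < 23428 → P i := stepQ 23427 Q23427 (allL N23427 (tt N22751 F252098) (tt N22009 (iv D56197)) (tt N22644 F252099) (tt N22554 F252100) (tt N24648 D57418) (tt N22011 F252101) (tt N22555 F252102) (tt N24645 (iv F257476)) (tt N22023 F252103) (tt N22637 F252104))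
theorem Q23429 : ∀ i, i < 23429 → P i := stepQ 23428 Q23428 (allL N23428 (tt N22840 F252105) (tt N24648 (iv F257489)) (tt N22010 F252106) (tt N24649 D57419) (tt N22009 (iv D56198)) (tt N24497 (iv F256618)) (tt N24618 (iv F257344)) (tt N24646 (iv F257482)) (tt N22024 F252107) (tt N24599 (iv F257248)))
theorem Q23430 : ∀ i, i < 23430 → P i := stepQ 23429 Q23429 (allL N23429 (tt N22345 F252108) (tt N22651 F252109) (tt N23135 F252110) (tt N22015 (iv D56199)) (tt N24650 D57420) (tt N23429 F252111) (tt N22020 F252112) (tt N22016 F252113) (tt N24643 (iv F257464)) (tt N23429 F252114))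
theorem Q23431 : ∀ i, i < 23431 → P i := stepQ 23430 Q23430 (allL N23430 (tt N22356 F252115) (tt N22653 F252116) (tt N23143 F252117) (tt N22242 F252118) (tt N22016 (iv D56200)) (tt N24651 D57421) (tt N22018 F252119) (tt N24650 (iv F257501)) (tt N24644 (iv F257470)) (tt N23430 F252120))
theorem Q23432 : ∀ i, i < 23432 → P i := stepQ 23431 Q23431 (allL N23431 (tt N22768 F252121) (tt N22017 (iv D56201)) (tt N22654 F252122) (tt N22673 F252123) (tt N24652 D57422) (tt N22019 F252124) (tt N23138 F252125) (tt N22023 F252126) (tt N24645 (iv F257477)) (tt N23431 F252127))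
theorem Q23433 : ∀ i, i < 23433 → P i := stepQ 23432 Q23432 (allL N23432 (tt N22872 F252128) (tt N24652 (iv F257512)) (tt N22018 F252129) (tt N22676 F252130) (tt N22017 (iv D56202)) (tt N24500 (iv F256637)) (tt N23143 F252131) (tt N22024 F252132) (tt N24646 (iv F257483)) (tt N23432 F252133))
theorem Q23434 : ∀ i, i < 23434 → P i := stepQ 23433 Q23433 (allL N23433 (tt N22027 F252134) (tt N22726 F252135) (tt N22020 (iv D56203)) (tt N22026 F252136) (tt N24653 D57423) (tt N22025 F252137) (tt N23135 F252138) (tt N22021 F252139) (tt N24605 (iv F257282)) (tt N23433 F252140))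
theorem Q23435 : ∀ i, i < 23435 → P i := stepQ 23434 Q23434 (allL N23434 (tt N24547 (iv F256941)) (tt N22658 F252141) (tt N24653 (iv F257521)) (tt N22975 F252142) (tt N22020 (iv D56204)) (tt N22974 F252143) (tt N24650 (iv F257500)) (tt N22022 F252144) (tt N24647 (iv F257487)) (tt N23434 F252145))
theorem Q23436 : ∀ i, i < 23436 → P i := stepQ 23435 Q23435 (allL N23435 (tt N22034 F252146) (tt N22725 F252147) (tt N22022 F252148) (tt N24654 D57424) (tt N22021 (iv D56205)) (tt N22724 F252149) (tt N22024 F252150) (tt N24653 (iv F257525)) (tt N24618 (iv F257345)) (tt N23435 F252151))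
theorem Q23437 : ∀ i, i < 23437 → P i := stepQ 23436 Q23436 (allL N23436 (tt N22774 F252152) (tt N22024 F252153) (tt N22661 F252154) (tt N24655 D57425) (tt N22023 (iv D56206)) (tt N24501 (iv F256644)) (tt N22725 F252155) (tt N24652 (iv F257517)) (tt N24648 (iv F257492)) (tt N23436 F252156))
theorem Q23438 : ∀ i, i < 23438 → P i := stepQ 23437 Q23437 (allL N23437 (tt N22879 F252157) (tt N24655 (iv F257536)) (tt N24433 (iv F256217)) (tt N22024 (iv D56207)) (tt N22671 F252158) (tt N24502 (iv F256650)) (tt N24654 (iv F257532)) (tt N22676 F252159) (tt N24656 D57426) (tt N23437 F252160))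
theorem Q23439 : ∀ i, i < 23439 → P i := stepQ 23438 Q23438 (allL N23438 (tt N24653 (iv F257519)) (tt N22028 F252161) (tt N24547 (iv F256943)) (tt N22724 F252162) (tt N22027 (iv D56208)) (tt N24654 (iv F257531)) (tt N24506 (iv F256679)) (tt N22034 F252163) (tt N24607 (iv F257290)) (tt N23438 F252164))
theorem Q23440 : ∀ i, i < 23440 → P i := stepQ 23439 Q23439 (allL N23439 (tt N23153 F252165) (tt N24654 (iv F257528)) (tt N24503 (iv F256656)) (tt N22725 F252166) (tt N22040 F252167) (tt N22028 (iv D56209)) (tt N24655 (iv F257538)) (tt N22038 F252168) (tt N24610 (iv F257303)) (tt N23439 F252169))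
theorem Q23441 : ∀ i, i < 23441 → P i := stepQ 23440 Q23440 (allL N23440 (tt N22032 F252170) (tt N23119 F252171) (tt N22494 F252172) (tt N24641 (iv F257447)) (tt N24616 (iv F257330)) (tt N22722 F252173) (tt N22499 F252174) (tt N22716 F252175) (tt N22029 (iv D56210)) (tt N22866 F252176))
theorem Q23442 : ∀ i, i < 23442 → P i := stepQ 23441 Q23441 (allL N23441 (tt N22033 F252177) (tt N22040 F252178) (tt N22413 F252179) (tt N22030 (iv D56211)) (tt N24654 (iv F257530)) (tt N22039 F252180) (tt N22671 F252181) (tt N22041 F252182) (tt N24641 (iv F257449)) (tt N23441 F252183))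
theorem Q23443 : ∀ i, i < 23443 → P i := stepQ 23442 Q23442 (allL N23442 (tt N22866 F252184) (tt N22035 F252185) (tt N22359 F252186) (tt N24657 D57427) (tt N24619 (iv F257350)) (tt N22363 F252187) (tt N22877 F252188) (tt N22361 F252189) (tt N22031 (iv D56212)) (tt N22032 F252190))
theorem Q23444 : ∀ i, i < 23444 → P i := stepQ 23443 Q23443 (allL N23443 (tt N24641 (iv F257444)) (tt N22036 F252191) (tt N22973 F252192) (tt N22032 (iv D56213)) (tt N24658 D57428) (tt N22723 F252193) (tt N22878 F252194) (tt N22718 F252195) (tt N22033 F252196) (tt N24657 (iv F257551)))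
theorem Q23445 : ∀ i, i < 23445 → P i := stepQ 23444 Q23444 (allL N23444 (tt N24654 (iv F257527)) (tt N22037 F252197) (tt N22974 F252198) (tt N22034 F252199) (tt N22033 (iv D56214)) (tt N24653 (iv F257523)) (tt N22879 F252200) (tt N22724 F252201) (tt N24658 (iv F257556)) (tt N23444 F252202))
theorem Q23446 : ∀ i, i < 23446 → P i := stepQ 23445 Q23445 (allL N23445 (tt N22724 F252203) (tt N22038 F252204) (tt N22414 F252205) (tt N24653 (iv F257522)) (tt N22041 F252206) (tt N22034 (iv D56215)) (tt N22415 F252207) (tt N24654 (iv F257533)) (tt N24624 (iv F257378)) (tt N23445 F252208))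
theorem Q23447 : ∀ i, i < 23447 → P i := stepQ 23446 Q23446 (allL N23446 (tt N22786 F252209) (tt N24657 (iv F257545)) (tt N22798 F252210) (tt N22035 (iv D56216)) (tt N24659 D57429) (tt N22627 F252211) (tt N22880 F252212) (tt N22640 F252213) (tt N23446 F252214) (tt N22036 F252215))
theorem Q23448 : ∀ i, i < 23448 → P i := stepQ 23447 Q23447 (allL N23447 (tt N23122 F252216) (tt N24658 (iv F257552)) (tt N22829 F252217) (tt N24627 (iv F257392)) (tt N22036 (iv D56217)) (tt N24660 D57430) (tt N22881 F252218) (tt N22720 F252219) (tt N22037 F252220) (tt N24659 (iv F257563)))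
theorem Q23449 : ∀ i, i < 23449 → P i := stepQ 23448 Q23448 (allL N23448 (tt N23146 F252221) (tt N24653 (iv F257520)) (tt N22876 F252222) (tt N22038 F252223) (tt N22726 F252224) (tt N22037 (iv D56218)) (tt N24661 D57431) (tt N22725 F252225) (tt N24660 (iv F257568)) (tt N23448 F252226))
theorem Q23450 : ∀ i, i < 23450 → P i := stepQ 23449 Q23449 (allL N23449 (tt N23155 F252227) (tt N22415 F252228) (tt N24501 (iv F256643)) (tt N24661 (iv F257573)) (tt N22042 F252229) (tt N22661 F252230) (tt N22038 (iv D56219)) (tt N23140 (iv F252232)) (tt N24634 (iv F257428)) (tt N23449 F252231))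
theorem Q23451 : ∀ i, i < 23451 → P i := stepQ 23450 Q23450 (allL N23450 (tt N22773 F252233) (tt N22671 F252234) (tt N24510 (iv F256704)) (tt N22670 F252235) (tt N24655 (iv F257537)) (tt N23450 F252236) (tt N22040 (iv D56220)) (tt N22674 F252237) (tt N24642 (iv F257457)) (tt N23450 F252238))
theorem Q23452 : ∀ i, i < 23452 → P i := stepQ 23451 Q23451 (allL N23451 (tt N22051 F252239) (tt N22084 F252240) (tt N22064 F252241) (tt N22045 (iv D56221)) (tt N22074 F252242) (tt N22082 F252243) (tt N22053 F252244) (tt N22104 F252245) (tt N23451 F252246) (tt N22048 F252247))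
theorem Q23453 : ∀ i, i < 23453 → P i := stepQ 23452 Q23452 (allL N23452 (tt N22053 F252248) (tt N22684 F252249) (tt N22073 F252250) (tt N22046 (iv D56222)) (tt N22065 F252251) (tt N22683 F252252) (tt N22051 F252253) (tt N22105 F252254) (tt N23452 F252255) (tt N22049 F252256))
theorem Q23454 : ∀ i, i < 23454 → P i := stepQ 23453 Q23453 (allL N23453 (tt N22080 F252257) (tt N22051 F252258) (tt N22683 F252259) (tt N22050 (iv D56223)) (tt N22059 F252260) (tt N22073 F252261) (tt N22684 F252262) (tt N22139 F252263) (tt N23453 F252264) (tt N22054 F252265))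
theorem Q23455 : ∀ i, i < 23455 → P i := stepQ 23454 Q23454 (allL N23454 (tt N22074 F252266) (tt N22059 F252267) (tt N22077 F252268) (tt N22058 F252269) (tt N22051 (iv D56224)) (tt N22081 (iv F252274)) (tt N22065 F252270) (tt N22140 F252271) (tt N23454 F252272) (tt N22055 F252273))
theorem Q23456 : ∀ i, i < 23456 → P i := stepQ 23455 Q23455 (allL N23455 (tt N22683 F252275) (tt N22065 F252276) (tt N22080 F252277) (tt N22052 (iv D56225)) (tt N22684 F252278) (tt N22053 F252279) (tt N22059 F252280) (tt N22142 F252281) (tt N23455 F252282) (tt N22056 F252283))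
theorem Q23457 : ∀ i, i < 23457 → P i := stepQ 23456 Q23456 (allL N23456 (tt N22073 F252284) (tt N22068 (iv F252292)) (tt N22053 (iv D56226)) (tt N22061 F252285) (tt N22079 F252286) (tt N22080 F252287) (tt N22064 F252288) (tt N22143 F252289) (tt N23456 F252290) (tt N22057 F252291))
theorem Q23458 : ∀ i, i < 23458 → P i := stepQ 23457 Q23457 (allL N23457 (tt N22081 F252293) (tt N22064 F252294) (tt N22086 F252295) (tt N22062 (iv D56227)) (tt N22085 F252296) (tt N22074 F252297) (tt N22068 F252298) (tt N22208 F252299) (tt N23457 F252300) (tt N22067 F252301))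
theorem Q23459 : ∀ i, i < 23459 → P i := stepQ 23458 Q23458 (allL N23458 (tt N22077 F252302) (tt N22085 F252303) (tt N22074 F252304) (tt N22087 F252305) (tt N22064 (iv D56228)) (tt N22086 F252306) (tt N22079 F252307) (tt N22209 F252308) (tt N23458 F252309) (tt N22069 F252310))
theorem Q23460 : ∀ i, i < 23460 → P i := stepQ 23459 Q23459 (allL N23459 (tt N22079 F252311) (tt N22885 F252312) (tt N22065 (iv D56229)) (tt N22887 F252313) (tt N22073 F252314) (tt N22886 F252315) (tt N22077 F252316) (tt N22210 F252317) (tt N23459 F252318) (tt N22070 F252319))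
theorem Q23461 : ∀ i, i < 23461 → P i := stepQ 23460 Q23460 (allL N23460 (tt N22087 F252320) (tt N22884 F252321) (tt N22067 (iv D56230)) (tt N22077 F252322) (tt N22076 (iv F252328)) (tt N22069 F252323) (tt N22887 F252324) (tt N22234 F252325) (tt N22071 F252326) (tt N22086 F252327))
theorem Q23462 : ∀ i, i < 23462 → P i := stepQ 23461 Q23461 (allL N23461 (tt N22887 F252329) (tt N22069 F252330) (tt N22076 F252331) (tt N22079 F252332) (tt N22067 (iv D56231)) (tt N22884 F252333) (tt N22087 F252334) (tt N22235 F252335) (tt N22072 F252336) (tt N22085 F252337))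
theorem Q23463 : ∀ i, i < 23463 → P i := stepQ 23462 Q23462 (allL N23462 (tt N22085 F252338) (tt N22886 F252339) (tt N22068 (iv D56232)) (tt N22070 F252340) (tt N22081 (iv F252346)) (tt N22885 F252341) (tt N22086 F252342) (tt N22236 F252343) (tt N23462 F252344) (tt N22887 F252345))
theorem Q23464 : ∀ i, i < 23464 → P i := stepQ 23463 Q23463 (allL N23463 (tt N22086 F252347) (tt N22079 F252348) (tt N22081 F252349) (tt N22069 F252350) (tt N22068 (iv D56233)) (tt N22077 F252351) (tt N22085 F252352) (tt N22237 F252353) (tt N23463 F252354) (tt N22087 F252355))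
theorem Q23465 : ∀ i, i < 23465 → P i := stepQ 23464 Q23464 (allL N23464 (tt N22886 F252356) (tt N22077 F252357) (tt N22078 F252358) (tt N22884 F252359) (tt N22075 (iv D56234)) (tt N22079 F252360) (tt N22885 F252361) (tt N22287 F252362) (tt N23464 F252363) (tt N22083 F252364))
theorem Q23466 : ∀ i, i < 23466 → P i := stepQ 23465 Q23465 (allL N23465 (tt N22885 F252365) (tt N22086 F252366) (tt N22084 F252367) (tt N22083 F252368) (tt N22082 (iv D56235)) (tt N22085 F252369) (tt N22886 F252370) (tt N22336 F252371) (tt N23465 F252372) (tt N22884 F252373))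
theorem Q23467 : ∀ i, i < 23467 → P i := stepQ 23466 Q23466 (allL N23466 (tt N22259 F252374) (tt N22108 F252375) (tt N22289 F252376) (tt N22358 F252377) (tt N22089 F252378) (tt N22147 F252379) (tt N22191 F252380) (tt N22090 F252381) (tt N24662 D57432) (tt N22088 (iv D56236)))
theorem Q23468 : ∀ i, i < 23468 → P i := stepQ 23467 Q23467 (allL N23467 (tt N22260 F252382) (tt N22109 F252383) (tt N24411 (iv F256068)) (tt N22173 F252384) (tt N24662 (iv F257581)) (tt N22092 F252385) (tt N22192 F252386) (tt N22091 F252387) (tt N22089 (iv D56237)) (tt N22212 F252388))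
theorem Q23469 : ∀ i, i < 23469 → P i := stepQ 23468 Q23468 (allL N23468 (tt N22701 F252389) (tt N22113 F252390) (tt N22944 F252391) (tt N24663 D57433) (tt N22091 F252392) (tt N22942 F252393) (tt N22688 F252394) (tt N24662 (iv F257584)) (tt N22090 (iv D56238)) (tt N22926 F252395))
theorem Q23470 : ∀ i, i < 23470 → P i := stepQ 23469 Q23469 (allL N23469 (tt N22124 F252396) (tt N22211 F252397) (tt N22132 F252398) (tt N22419 F252399) (tt N22094 F252400) (tt N22129 F252401) (tt N22172 F252402) (tt N22098 F252403) (tt N24664 D57434) (tt N22093 (iv D56239)))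
theorem Q23471 : ∀ i, i < 23471 → P i := stepQ 23470 Q23470 (allL N23470 (tt N22125 F252404) (tt N22212 F252405) (tt N22137 F252406) (tt N22192 F252407) (tt N24664 (iv F257596)) (tt N22100 F252408) (tt N22173 F252409) (tt N22099 F252410) (tt N22094 (iv D56240)) (tt N22109 F252411))
theorem Q23472 : ∀ i, i < 23472 → P i := stepQ 23471 Q23471 (allL N23471 (tt N22129 F252412) (tt N22312 F252413) (tt N22098 F252414) (tt N24515 (iv F256742)) (tt N22096 F252415) (tt N22124 F252416) (tt N22305 F252417) (tt N22132 F252418) (tt N24665 D57435) (tt N22095 (iv D56241)))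
theorem Q23473 : ∀ i, i < 23473 → P i := stepQ 23472 Q23472 (allL N23472 (tt N22130 F252419) (tt N22326 F252420) (tt N22099 F252421) (tt N24666 D57436) (tt N24665 (iv F257604)) (tt N22101 F252422) (tt N22323 F252423) (tt N22137 F252424) (tt N22096 (iv D56242)) (tt N22111 F252425))
theorem Q23474 : ∀ i, i < 23474 → P i := stepQ 23473 Q23473 (allL N23473 (tt N22132 F252426) (tt N22698 F252427) (tt N22124 F252428) (tt N22990 F252429) (tt N22102 F252430) (tt N22098 F252431) (tt N22694 F252432) (tt N22129 F252433) (tt N24667 D57437) (tt N22097 (iv D56243)))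
theorem Q23475 : ∀ i, i < 23475 → P i := stepQ 23474 Q23474 (allL N23474 (tt N22133 F252434) (tt N22926 F252435) (tt N24665 (iv F257603)) (tt N24668 D57438) (tt N22099 F252436) (tt N24667 (iv F257621)) (tt N22888 F252437) (tt N24664 (iv F257599)) (tt N22098 (iv D56244)) (tt N22113 F252438))
theorem Q23476 : ∀ i, i < 23476 → P i := stepQ 23475 Q23475 (allL N23475 (tt N22135 F252439) (tt N22337 F252440) (tt N22205 F252441) (tt N22101 (iv D56245)) (tt N22279 F252442) (tt N24666 (iv F257612)) (tt N22104 F252443) (tt N22138 F252444) (tt N23475 F252445) (tt N22114 F252446))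
theorem Q23477 : ∀ i, i < 23477 → P i := stepQ 23476 Q23476 (allL N23476 (tt N22137 F252447) (tt N22706 F252448) (tt N22125 F252449) (tt N24669 D57439) (tt N24667 (iv F257620)) (tt N22103 F252450) (tt N22704 F252451) (tt N22130 F252452) (tt N22102 (iv D56246)) (tt N22115 F252453))
theorem Q23478 : ∀ i, i < 23478 → P i := stepQ 23477 Q23477 (allL N23477 (tt N22138 F252454) (tt N22708 F252455) (tt N22277 F252456) (tt N22103 (iv D56247)) (tt N22207 F252457) (tt N24669 (iv F257634)) (tt N22105 F252458) (tt N22135 F252459) (tt N23477 F252460) (tt N22116 F252461))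
theorem Q23479 : ∀ i, i < 23479 → P i := stepQ 23478 Q23478 (allL N23478 (tt N22144 F252462) (tt N22191 F252463) (tt N22152 F252464) (tt N22365 F252465) (tt N22107 F252466) (tt N22177 F252467) (tt N22108 F252468) (tt N22170 F252469) (tt N24670 D57440) (tt N22106 (iv D56248)))
theorem Q23480 : ∀ i, i < 23480 → P i := stepQ 23479 Q23479 (allL N23479 (tt N22145 F252470) (tt N22192 F252471) (tt N22157 F252472) (tt N22212 F252473) (tt N24670 (iv F257642)) (tt N22160 F252474) (tt N22109 F252475) (tt N22171 F252476) (tt N22107 (iv D56249)) (tt N22173 F252477))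
theorem Q23481 : ∀ i, i < 23481 → P i := stepQ 23480 Q23480 (allL N23480 (tt N22146 F252478) (tt N24662 (iv F257579)) (tt N22153 F252479) (tt N24671 D57441) (tt N22109 F252480) (tt N22150 F252481) (tt N24670 (iv F257644)) (tt N22113 F252482) (tt N22108 (iv D56250)) (tt N24664 (iv F257600)))
theorem Q23482 : ∀ i, i < 23482 → P i := stepQ 23481 Q23481 (allL N23481 (tt N22150 F252483) (tt N24405 (iv F256028)) (tt N22113 F252484) (tt N24672 D57442) (tt N22111 F252485) (tt N22146 F252486) (tt N22890 F252487) (tt N22153 F252488) (tt N22110 (iv D56251)) (tt N24665 (iv F257608)))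
theorem Q23483 : ∀ i, i < 23483 → P i := stepQ 23482 Q23482 (allL N23482 (tt N22151 F252489) (tt N22931 F252490) (tt N22223 F252491) (tt N22111 (iv D56252)) (tt N24673 D57443) (tt N22114 F252492) (tt N22891 F252493) (tt N22158 F252494) (tt N22118 F252495) (tt N24666 (iv F257616)))
theorem Q23484 : ∀ i, i < 23484 → P i := stepQ 23483 Q23483 (allL N23483 (tt N22153 F252496) (tt N22942 F252497) (tt N22146 F252498) (tt N24674 D57444) (tt N22115 F252499) (tt N22113 F252500) (tt N22946 F252501) (tt N22150 F252502) (tt N22112 (iv D56253)) (tt N24667 (iv F257624)))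
theorem Q23485 : ∀ i, i < 23485 → P i := stepQ 23484 Q23484 (allL N23484 (tt N22154 F252503) (tt N24663 (iv F257587)) (tt N24675 D57445) (tt N22113 (iv D56254)) (tt N22225 F252504) (tt N24674 (iv F257666)) (tt N22892 F252505) (tt N24671 (iv F257650)) (tt N22369 F252506) (tt N24668 (iv F257630)))
theorem Q23486 : ∀ i, i < 23486 → P i := stepQ 23485 Q23485 (allL N23485 (tt N22158 F252507) (tt N22943 F252508) (tt N22296 F252509) (tt N22115 (iv D56255)) (tt N24676 D57446) (tt N22116 F252510) (tt N22947 F252511) (tt N22151 F252512) (tt N22117 F252513) (tt N24669 (iv F257638)))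
theorem Q23487 : ∀ i, i < 23487 → P i := stepQ 23486 Q23486 (allL N23486 (tt N22164 F252514) (tt N22970 F252515) (tt N22346 F252516) (tt N22372 F252517) (tt N22117 (iv D56256)) (tt N22240 F252518) (tt N22971 F252519) (tt N22168 F252520) (tt N24676 (iv F257680)) (tt N23486 F252521))
theorem Q23488 : ∀ i, i < 23488 → P i := stepQ 23487 Q23487 (allL N23487 (tt N22168 F252522) (tt N22932 F252523) (tt N22242 F252524) (tt N22412 F252525) (tt N22118 (iv D56257)) (tt N22338 F252526) (tt N22895 F252527) (tt N22164 F252528) (tt N24673 (iv F257663)) (tt N23487 F252529))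
theorem Q23489 : ∀ i, i < 23489 → P i := stepQ 23488 Q23488 (allL N23488 (tt N22897 F252530) (tt N22308 F252531) (tt N22128 F252532) (tt N22119 (iv D56258)) (tt N23488 F252533) (tt N22303 (iv F252537)) (tt N22373 F252534) (tt N22904 F252535) (tt N22302 F252536) (tt N24677 D57447))
theorem Q23490 : ∀ i, i < 23490 → P i := stepQ 23489 Q23489 (allL N23489 (tt N22904 F252538) (tt N22269 F252539) (tt N22121 F252540) (tt N22303 F252541) (tt N23489 F252542) (tt N22119 (iv D56259)) (tt N22380 F252543) (tt N22897 F252544) (tt N22266 F252545) (tt N24678 D57448))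
theorem Q23491 : ∀ i, i < 23491 → P i := stepQ 23490 Q23490 (allL N23490 (tt N22906 F252546) (tt N24448 (iv F256326)) (tt N22122 F252547) (tt N24677 (iv F257684)) (tt N22120 F252548) (tt N24678 (iv F257694)) (tt N22383 F252549) (tt N24513 (iv F256731)) (tt N24679 D57449) (tt N22119 (iv D56260)))
theorem Q23492 : ∀ i, i < 23492 → P i := stepQ 23491 Q23491 (allL N23491 (tt N22917 F252550) (tt N24458 (iv F256387)) (tt N22123 F252551) (tt N24680 D57450) (tt N24679 (iv F257699)) (tt N23491 F252552) (tt N22387 F252553) (tt N24514 (iv F256737)) (tt N22120 (iv D56261)) (tt N22377 F252554))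
theorem Q23493 : ∀ i, i < 23493 → P i := stepQ 23492 Q23492 (allL N23492 (tt N22990 F252555) (tt N22738 F252556) (tt N24678 (iv F257691)) (tt N22132 F252557) (tt N23492 F252558) (tt N22122 F252559) (tt N22979 F252560) (tt N24515 (iv F256746)) (tt N24681 D57451) (tt N22121 (iv D56262)))
theorem Q23494 : ∀ i, i < 23494 → P i := stepQ 23493 Q23493 (allL N23493 (tt N22999 F252561) (tt N22739 F252562) (tt N24679 (iv F257698)) (tt N24682 D57452) (tt N22123 F252563) (tt N24681 (iv F257711)) (tt N22727 F252564) (tt N24516 (iv F256751)) (tt N22122 (iv D56263)) (tt N22379 F252565))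
theorem Q23495 : ∀ i, i < 23495 → P i := stepQ 23494 Q23494 (allL N23494 (tt N24664 (iv F257593)) (tt N22959 F252566) (tt N24667 (iv F257619)) (tt N24683 D57453) (tt N22125 F252567) (tt N24665 (iv F257605)) (tt N22954 F252568) (tt N22133 F252569) (tt N22124 (iv D56264)) (tt N22146 F252570))
theorem Q23496 : ∀ i, i < 23496 → P i := stepQ 23495 Q23495 (allL N23495 (tt N22289 F252571) (tt N22129 F252572) (tt N22259 F252573) (tt N22453 F252574) (tt N22127 F252575) (tt N22211 F252576) (tt N22262 F252577) (tt N22698 F252578) (tt N24684 D57454) (tt N22126 (iv D56265)))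
theorem Q23497 : ∀ i, i < 23497 → P i := stepQ 23496 Q23496 (allL N23496 (tt N24411 (iv F256066)) (tt N22130 F252579) (tt N22260 F252580) (tt N24685 D57455) (tt N24684 (iv F257728)) (tt N22134 F252581) (tt N22263 F252582) (tt N22706 F252583) (tt N22127 (iv D56266)) (tt N22148 F252584))
theorem Q23498 : ∀ i, i < 23498 → P i := stepQ 23497 Q23497 (allL N23497 (tt N24515 (iv F256739)) (tt N22453 F252585) (tt N24677 (iv F257683)) (tt N22129 F252586) (tt N23497 F252587) (tt N22419 F252588) (tt N22898 F252589) (tt N22990 F252590) (tt N24686 D57456) (tt N22128 (iv D56267)))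
theorem Q23499 : ∀ i, i < 23499 → P i := stepQ 23498 Q23498 (allL N23498 (tt N24665 (iv F257601)) (tt N24684 (iv F257726)) (tt N22133 F252591) (tt N24687 D57457) (tt N22130 F252592) (tt N24664 (iv F257597)) (tt N22899 F252593) (tt N24667 (iv F257623)) (tt N22129 (iv D56268)) (tt N22150 F252594))
theorem Q23500 : ∀ i, i < 23500 → P i := stepQ 23499 Q23499 (allL N23499 (tt N24666 (iv F257609)) (tt N24685 (iv F257734)) (tt N22273 F252595) (tt N22130 (iv D56269)) (tt N24688 D57458) (tt N22135 F252596) (tt N22900 F252597) (tt N24669 (iv F257636)) (tt N23499 F252598) (tt N22151 F252599))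
theorem Q23501 : ∀ i, i < 23501 → P i := stepQ 23500 Q23500 (allL N23500 (tt N22694 F252600) (tt N22199 F252601) (tt N22172 F252602) (tt N22979 F252603) (tt N22136 F252604) (tt N22170 F252605) (tt N22132 F252606) (tt N22177 F252607) (tt N24689 D57459) (tt N22131 (iv D56270)))
theorem Q23502 : ∀ i, i < 23502 → P i := stepQ 23501 Q23501 (allL N23501 (tt N24667 (iv F257617)) (tt N24402 (iv F256005)) (tt N24664 (iv F257595)) (tt N24690 D57460) (tt N22137 F252608) (tt N22133 F252609) (tt N24689 (iv F257758)) (tt N24665 (iv F257607)) (tt N22132 (iv D56271)) (tt N22153 F252610))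
theorem Q23503 : ∀ i, i < 23503 → P i := stepQ 23502 Q23502 (allL N23502 (tt N24668 (iv F257625)) (tt N24403 (iv F256013)) (tt N24691 D57461) (tt N22133 (iv D56272)) (tt N22276 F252611) (tt N24690 (iv F257761)) (tt N22901 F252612) (tt N24683 (iv F257723)) (tt N24682 (iv F257718)) (tt N22154 F252613))
theorem Q23504 : ∀ i, i < 23504 → P i := stepQ 23503 Q23503 (allL N23503 (tt N22940 F252614) (tt N22135 F252615) (tt N22705 F252616) (tt N22134 (iv D56273)) (tt N22181 F252617) (tt N24685 (iv F257736)) (tt N22139 F252618) (tt N22708 F252619) (tt N23503 F252620) (tt N22155 F252621))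
theorem Q23505 : ∀ i, i < 23505 → P i := stepQ 23504 Q23504 (allL N23504 (tt N22279 F252622) (tt N22181 F252623) (tt N22283 F252624) (tt N22180 F252625) (tt N22135 (iv D56274)) (tt N24692 D57462) (tt N22140 F252626) (tt N22207 F252627) (tt N23504 F252628) (tt N22156 F252629))
theorem Q23506 : ∀ i, i < 23506 → P i := stepQ 23505 Q23505 (allL N23505 (tt N22704 F252630) (tt N22206 F252631) (tt N22173 F252632) (tt N24693 D57463) (tt N24689 (iv F257756)) (tt N22141 F252633) (tt N22137 F252634) (tt N22178 F252635) (tt N22136 (iv D56275)) (tt N22157 F252636))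
theorem Q23507 : ∀ i, i < 23507 → P i := stepQ 23506 Q23506 (allL N23506 (tt N24669 (iv F257631)) (tt N24404 (iv F256020)) (tt N24694 D57464) (tt N22137 (iv D56276)) (tt N24695 D57465) (tt N22138 F252637) (tt N24693 (iv F257778)) (tt N24666 (iv F257614)) (tt N23506 F252638) (tt N22158 F252639))
theorem Q23508 : ∀ i, i < 23508 → P i := stepQ 23507 Q23507 (allL N23507 (tt N22277 F252640) (tt N22230 (iv F252647)) (tt N22138 (iv D56277)) (tt N22201 F252641) (tt N22286 F252642) (tt N24694 (iv F257784)) (tt N22143 F252643) (tt N22205 F252644) (tt N23507 F252645) (tt N22159 F252646))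
theorem Q23509 : ∀ i, i < 23509 → P i := stepQ 23508 Q23508 (allL N23508 (tt N22705 F252648) (tt N22207 F252649) (tt N22940 F252650) (tt N22141 (iv D56278)) (tt N22708 F252651) (tt N24693 (iv F257777)) (tt N22142 F252652) (tt N22181 F252653) (tt N23508 F252654) (tt N22161 F252655))
theorem Q23510 : ∀ i, i < 23510 → P i := stepQ 23509 Q23509 (allL N23509 (tt N24670 (iv F257639)) (tt N22692 F252656) (tt N22946 F252657) (tt N24696 D57466) (tt N22145 F252658) (tt N22933 F252659) (tt N22146 F252660) (tt N22695 F252661) (tt N22144 (iv D56279)) (tt N22954 F252662))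
theorem Q23511 : ∀ i, i < 23511 → P i := stepQ 23510 Q23510 (allL N23510 (tt N24671 (iv F257647)) (tt N24406 (iv F256036)) (tt N24697 D57467) (tt N22146 (iv D56280)) (tt N22298 F252663) (tt N24672 (iv F257653)) (tt N24696 (iv F257796)) (tt N22154 F252664) (tt N22396 F252665) (tt N24683 (iv F257724)))
theorem Q23512 : ∀ i, i < 23512 → P i := stepQ 23511 Q23511 (allL N23511 (tt N24424 (iv F256159)) (tt N22150 F252666) (tt N22290 F252667) (tt N24698 D57468) (tt N22148 F252668) (tt N24662 (iv F257582)) (tt N22295 F252669) (tt N22942 F252670) (tt N22147 (iv D56281)) (tt N24684 (iv F257732)))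
theorem Q23513 : ∀ i, i < 23513 → P i := stepQ 23512 Q23512 (allL N23512 (tt N22968 F252671) (tt N22151 F252672) (tt N22947 F252673) (tt N22148 (iv D56282)) (tt N24699 D57469) (tt N22155 F252674) (tt N22296 F252675) (tt N22943 F252676) (tt N22165 F252677) (tt N24685 (iv F257740)))
theorem Q23514 : ∀ i, i < 23514 → P i := stepQ 23513 Q23513 (allL N23513 (tt N22395 F252678) (tt N24540 (iv F256901)) (tt N22398 F252679) (tt N24700 D57470) (tt N22166 F252680) (tt N22367 F252681) (tt N22907 F252682) (tt N22368 F252683) (tt N22149 (iv D56283)) (tt N22997 F252684))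
theorem Q23515 : ∀ i, i < 23515 → P i := stepQ 23514 Q23514 (allL N23514 (tt N24672 (iv F257652)) (tt N24698 (iv F257803)) (tt N24701 D57471) (tt N22150 (iv D56284)) (tt N24702 D57472) (tt N24671 (iv F257649)) (tt N22909 F252685) (tt N24674 (iv F257668)) (tt N24700 (iv F257817)) (tt N24687 (iv F257748)))
theorem Q23516 : ∀ i, i < 23516 → P i := stepQ 23515 Q23515 (allL N23515 (tt N24673 (iv F257657)) (tt N24699 (iv F257807)) (tt N22315 F252686) (tt N24702 (iv F257821)) (tt N22151 (iv D56285)) (tt N24703 D57473) (tt N22910 F252687) (tt N24676 (iv F257679)) (tt N22168 F252688) (tt N24688 (iv F257752)))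
theorem Q23517 : ∀ i, i < 23517 → P i := stepQ 23516 Q23516 (allL N23516 (tt N22946 F252689) (tt N22224 F252690) (tt N24670 (iv F257641)) (tt N24704 D57474) (tt N22157 F252691) (tt N22179 F252692) (tt N22153 F252693) (tt N22951 F252694) (tt N22152 (iv D56286)) (tt N24689 (iv F257760)))
theorem Q23518 : ∀ i, i < 23518 → P i := stepQ 23517 Q23517 (allL N23517 (tt N24674 (iv F257664)) (tt N24409 (iv F256058)) (tt N24705 D57475) (tt N22153 (iv D56287)) (tt N24706 D57476) (tt N22154 F252695) (tt N24704 (iv F257832)) (tt N24672 (iv F257655)) (tt N22403 F252696) (tt N24690 (iv F257762)))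
theorem Q23519 : ∀ i, i < 23519 → P i := stepQ 23518 Q23518 (allL N23518 (tt N24675 (iv F257670)) (tt N24707 D57477) (tt N22154 (iv D56288)) (tt N24701 (iv F257819)) (tt N22319 F252697) (tt N24705 (iv F257835)) (tt N22912 F252698) (tt N24697 (iv F257801)) (tt N22404 F252699) (tt N24691 (iv F257765)))
theorem Q23520 : ∀ i, i < 23520 → P i := stepQ 23519 Q23519 (allL N23519 (tt N22322 F252700) (tt N22952 F252701) (tt N22330 F252702) (tt N22226 F252703) (tt N24703 (iv F257826)) (tt N22156 (iv D56289)) (tt N24430 (iv F256197)) (tt N22232 F252704) (tt N22169 F252705) (tt N24692 (iv F257773)))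
theorem Q23521 : ∀ i, i < 23521 → P i := stepQ 23520 Q23520 (allL N23520 (tt N22947 F252706) (tt N22232 F252707) (tt N22968 F252708) (tt N22157 (iv D56290)) (tt N24708 D57478) (tt N22161 F252709) (tt N22158 F252710) (tt N22952 F252711) (tt N22162 F252712) (tt N24693 (iv F257781)))
theorem Q23522 : ∀ i, i < 23522 → P i := stepQ 23521 Q23521 (allL N23521 (tt N22296 F252713) (tt N22969 (iv F252719)) (tt N22158 (iv D56291)) (tt N22214 F252714) (tt N24709 D57479) (tt N22159 F252715) (tt N22968 F252716) (tt N22223 F252717) (tt N22163 F252718) (tt N24694 (iv F257788)))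
theorem Q23523 : ∀ i, i < 23523 → P i := stepQ 23522 Q23522 (allL N23522 (tt N24676 (iv F257674)) (tt N24413 (iv F256084)) (tt N24709 (iv F257852)) (tt N24706 (iv F257837)) (tt N22158 (iv D56292)) (tt N22334 F252720) (tt N24708 (iv F257847)) (tt N24673 (iv F257662)) (tt N22164 F252721) (tt N24695 (iv F257792)))
theorem Q23524 : ∀ i, i < 23524 → P i := stepQ 23523 Q23523 (allL N23523 (tt N22971 F252722) (tt N22240 F252723) (tt N22975 F252724) (tt N22414 F252725) (tt N22162 (iv D56293)) (tt N22970 F252726) (tt N22164 F252727) (tt N22972 F252728) (tt N24708 (iv F257849)) (tt N23523 F252729))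
theorem Q23525 : ∀ i, i < 23525 → P i := stepQ 23524 Q23524 (allL N23524 (tt N22346 F252730) (tt N22978 F252731) (tt N22164 F252732) (tt N24650 (iv F257499)) (tt N22163 (iv D56294)) (tt N22342 F252733) (tt N22975 F252734) (tt N22242 F252735) (tt N24709 (iv F257856)) (tt N23524 F252736))
theorem Q23526 : ∀ i, i < 23526 → P i := stepQ 23525 Q23525 (allL N23525 (tt N22975 F252737) (tt N22168 F252738) (tt N22971 F252739) (tt N24547 (iv F256944)) (tt N22165 (iv D56295)) (tt N22972 F252740) (tt N22346 F252741) (tt N22970 F252742) (tt N24699 (iv F257812)) (tt N23525 F252743))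
theorem Q23527 : ∀ i, i < 23527 → P i := stepQ 23526 Q23526 (allL N23526 (tt N22405 F252744) (tt N24545 (iv F256927)) (tt N23018 F252745) (tt N22166 (iv D56296)) (tt N24710 D57480) (tt N22370 F252746) (tt N22918 F252747) (tt N22371 F252748) (tt N22167 F252749) (tt N23014 F252750))
theorem Q23528 : ∀ i, i < 23528 → P i := stepQ 23527 Q23527 (allL N23527 (tt N22412 F252751) (tt N24547 (iv F256942)) (tt N23132 F252752) (tt N22168 F252753) (tt N22167 (iv D56297)) (tt N22486 F252754) (tt N22919 F252755) (tt N22372 F252756) (tt N24710 (iv F257862)) (tt N23527 F252757))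
theorem Q23529 : ∀ i, i < 23529 → P i := stepQ 23528 Q23528 (allL N23528 (tt N22338 F252758) (tt N22972 F252759) (tt N22357 F252760) (tt N22486 F252761) (tt N22169 F252762) (tt N22168 (iv D56298)) (tt N24432 (iv F256212)) (tt N22240 F252763) (tt N24703 (iv F257828)) (tt N23528 F252764))
theorem Q23530 : ∀ i, i < 23530 → P i := stepQ 23529 Q23529 (allL N23529 (tt N22695 F252765) (tt N22200 F252766) (tt N22951 F252767) (tt N24711 D57481) (tt N22171 F252768) (tt N24689 (iv F257757)) (tt N22889 F252769) (tt N24670 (iv F257645)) (tt N22170 (iv D56299)) (tt N22179 F252770))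
theorem Q23531 : ∀ i, i < 23531 → P i := stepQ 23530 Q23530 (allL N23530 (tt N22954 F252771) (tt N22217 F252772) (tt N24689 (iv F257755)) (tt N24712 D57482) (tt N22173 F252773) (tt N22951 F252774) (tt N24664 (iv F257598)) (tt N22179 F252775) (tt N22172 (iv D56300)) (tt N24670 (iv F257646)))
theorem Q23532 : ∀ i, i < 23532 → P i := stepQ 23531 Q23531 (allL N23531 (tt N22248 F252776) (tt N22176 F252777) (tt N22581 F252778) (tt N22174 (iv D56301)) (tt N23531 F252779) (tt N22182 F252780) (tt N22291 F252781) (tt N22186 F252782) (tt N22429 F252783) (tt N24713 D57483))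
theorem Q23533 : ∀ i, i < 23533 → P i := stepQ 23532 Q23532 (allL N23532 (tt N22264 F252784) (tt N22177 F252785) (tt N22219 F252786) (tt N24713 (iv F257878)) (tt N22175 F252787) (tt N22191 F252788) (tt N22294 F252789) (tt N22199 F252790) (tt N24714 D57484) (tt N22174 (iv D56302)))
theorem Q23534 : ∀ i, i < 23534 → P i := stepQ 23533 Q23533 (allL N23533 (tt N22278 F252791) (tt N22178 F252792) (tt N22220 F252793) (tt N24692 (iv F257769)) (tt N24714 (iv F257886)) (tt N22180 F252794) (tt N22320 F252795) (tt N22206 F252796) (tt N22175 (iv D56303)) (tt N22226 F252797))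
theorem Q23535 : ∀ i, i < 23535 → P i := stepQ 23534 Q23534 (allL N23534 (tt N22392 F252798) (tt N24713 (iv F257876)) (tt N22424 F252799) (tt N22177 F252800) (tt N23534 F252801) (tt N22365 F252802) (tt N22905 F252803) (tt N22979 F252804) (tt N24715 D57485) (tt N22176 (iv D56304)))
theorem Q23536 : ∀ i, i < 23536 → P i := stepQ 23535 Q23535 (allL N23535 (tt N22933 F252805) (tt N24714 (iv F257884)) (tt N22179 F252806) (tt N24716 D57486) (tt N22178 F252807) (tt N24670 (iv F257643)) (tt N22908 F252808) (tt N24689 (iv F257759)) (tt N22177 (iv D56305)) (tt N22951 F252809))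
theorem Q23537 : ∀ i, i < 23537 → P i := stepQ 23536 Q23536 (allL N23536 (tt N22934 F252810) (tt N24692 (iv F257767)) (tt N24420 (iv F256134)) (tt N22178 (iv D56306)) (tt N24717 D57487) (tt N22181 F252811) (tt N22913 F252812) (tt N24693 (iv F257779)) (tt N23536 F252813) (tt N22952 F252814))
theorem Q23538 : ∀ i, i < 23538 → P i := stepQ 23537 Q23537 (allL N23537 (tt N24415 (iv F256096)) (tt N22225 F252815) (tt N24718 D57488) (tt N22179 (iv D56307)) (tt N24663 (iv F257588)) (tt N24704 (iv F257831)) (tt N22911 F252816) (tt N24712 (iv F257873)) (tt N22427 F252817) (tt N24711 (iv F257869)))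
theorem Q23539 : ∀ i, i < 23539 → P i := stepQ 23538 Q23538 (allL N23538 (tt N22249 F252818) (tt N22365 F252819) (tt N22835 F252820) (tt N22191 F252821) (tt N22183 F252822) (tt N24713 (iv F257880)) (tt N22358 F252823) (tt N22187 F252824) (tt N24719 D57489) (tt N22182 (iv D56308)))
theorem Q23540 : ∀ i, i < 23540 → P i := stepQ 23539 Q23539 (allL N23539 (tt N22250 F252825) (tt N22366 F252826) (tt N22877 F252827) (tt N22420 F252828) (tt N24719 (iv F257910)) (tt N23539 F252829) (tt N22359 F252830) (tt N22188 F252831) (tt N22183 (iv D56309)) (tt N22431 F252832))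
theorem Q23541 : ∀ i, i < 23541 → P i := stepQ 23540 Q23540 (allL N23540 (tt N22253 F252833) (tt N22795 F252834) (tt N22195 F252835) (tt N22184 (iv D56310)) (tt N23540 F252836) (tt N22586 F252840) (tt N22742 F252837) (tt N22567 F252838) (tt N22792 F252839) (tt N24720 D57490))
theorem Q23542 : ∀ i, i < 23542 → P i := stepQ 23541 Q23541 (allL N23541 (tt N22254 F252841) (tt N22823 F252842) (tt N22186 F252843) (tt N22586 F252844) (tt N23541 F252845) (tt N22184 (iv D56311)) (tt N22603 F252846) (tt N22581 F252847) (tt N22432 F252848) (tt N24721 D57491))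
theorem Q23543 : ∀ i, i < 23543 → P i := stepQ 23542 Q23542 (allL N23542 (tt N22255 F252849) (tt N22825 F252850) (tt N22187 F252851) (tt N24720 (iv F257917)) (tt N22185 F252852) (tt N24721 (iv F257927)) (tt N22744 F252853) (tt N22835 F252854) (tt N24722 D57492) (tt N22184 (iv D56312)))
theorem Q23544 : ∀ i, i < 23544 → P i := stepQ 23543 Q23543 (allL N23543 (tt N22256 F252855) (tt N22873 F252856) (tt N22188 F252857) (tt N24723 D57493) (tt N24722 (iv F257933)) (tt N23543 F252858) (tt N22760 F252859) (tt N22877 F252860) (tt N22185 (iv D56313)) (tt N22434 F252861))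
theorem Q23545 : ∀ i, i < 23545 → P i := stepQ 23544 Q23544 (allL N23544 (tt N22257 F252862) (tt N22979 F252863) (tt N24721 (iv F257924)) (tt N22199 F252864) (tt N23544 F252865) (tt N22187 F252866) (tt N22738 F252867) (tt N24713 (iv F257882)) (tt N24724 D57494) (tt N22186 (iv D56314)))
theorem Q23546 : ∀ i, i < 23546 → P i := stepQ 23545 Q23545 (allL N23545 (tt N22258 F252868) (tt N22980 F252869) (tt N24722 (iv F257932)) (tt N24725 D57495) (tt N22188 F252870) (tt N24724 (iv F257948)) (tt N22747 F252871) (tt N24719 (iv F257912)) (tt N22187 (iv D56315)) (tt N22436 F252872))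
theorem Q23547 : ∀ i, i < 23547 → P i := stepQ 23546 Q23546 (allL N23546 (tt N22262 F252873) (tt N22221 F252874) (tt N22191 F252875) (tt N22571 F252876) (tt N22190 F252877) (tt N22219 F252878) (tt N22289 F252879) (tt N22197 F252880) (tt N24726 D57496) (tt N22189 (iv D56316)))
theorem Q23548 : ∀ i, i < 23548 → P i := stepQ 23547 Q23547 (allL N23547 (tt N22263 F252881) (tt N22229 F252882) (tt N22192 F252883) (tt N24694 (iv F257783)) (tt N24726 (iv F257960)) (tt N22201 F252884) (tt N24411 (iv F256071)) (tt N22198 F252885) (tt N22190 (iv D56317)) (tt N22214 F252886))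
theorem Q23549 : ∀ i, i < 23549 → P i := stepQ 23548 Q23548 (allL N23548 (tt N22265 F252887) (tt N24670 (iv F257640)) (tt N24726 (iv F257959)) (tt N24727 D57497) (tt N22192 F252888) (tt N24714 (iv F257887)) (tt N24662 (iv F257583)) (tt N22200 F252889) (tt N22191 (iv D56318)) (tt N22217 F252890))
theorem Q23550 : ∀ i, i < 23550 → P i := stepQ 23549 Q23549 (allL N23549 (tt N22294 F252891) (tt N22197 F252892) (tt N22216 F252893) (tt N24600 (iv F257252)) (tt N22194 F252894) (tt N22213 F252895) (tt N22264 F252896) (tt N22221 F252897) (tt N24728 D57498) (tt N22193 (iv D56319)))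
theorem Q23551 : ∀ i, i < 23551 → P i := stepQ 23550 Q23550 (allL N23550 (tt N22320 F252898) (tt N22198 F252899) (tt N22226 F252900) (tt N24729 D57499) (tt N24728 (iv F257971)) (tt N22202 F252901) (tt N22278 F252902) (tt N22229 F252903) (tt N22194 (iv D56320)) (tt N22220 F252904))
theorem Q23552 : ∀ i, i < 23552 → P i := stepQ 23551 Q23551 (allL N23551 (tt N22270 F252905) (tt N24600 (iv F257250)) (tt N24720 (iv F257916)) (tt N22197 F252906) (tt N23551 F252907) (tt N22591 F252908) (tt N22922 F252909) (tt N22571 F252910) (tt N24730 D57500) (tt N22195 (iv D56321)))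
theorem Q23553 : ∀ i, i < 23553 → P i := stepQ 23552 Q23552 (allL N23552 (tt N22271 F252911) (tt N22213 F252912) (tt N22199 F252913) (tt N22591 F252914) (tt N22203 F252915) (tt N22197 F252916) (tt N22316 F252917) (tt N22219 F252918) (tt N24731 D57501) (tt N22196 (iv D56322)))
theorem Q23554 : ∀ i, i < 23554 → P i := stepQ 23553 Q23553 (allL N23553 (tt N22272 F252919) (tt N24728 (iv F257969)) (tt N22200 F252920) (tt N24732 D57502) (tt N22198 F252921) (tt N24731 (iv F257993)) (tt N22923 F252922) (tt N24726 (iv F257963)) (tt N22197 (iv D56323)) (tt N22222 F252923))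
theorem Q23555 : ∀ i, i < 23555 → P i := stepQ 23554 Q23554 (allL N23554 (tt N22273 F252924) (tt N24729 (iv F257977)) (tt N24666 (iv F257611)) (tt N22198 (iv D56324)) (tt N24733 D57503) (tt N22205 F252925) (tt N22924 F252926) (tt N24694 (iv F257786)) (tt N23554 F252927) (tt N22223 F252928))
theorem Q23556 : ∀ i, i < 23556 → P i := stepQ 23555 Q23555 (allL N23555 (tt N22275 F252929) (tt N24689 (iv F257754)) (tt N24731 (iv F257991)) (tt N24734 D57504) (tt N22206 F252930) (tt N22200 F252931) (tt N24402 (iv F256009)) (tt N24714 (iv F257889)) (tt N22199 (iv D56325)) (tt N22224 F252932))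
theorem Q23557 : ∀ i, i < 23557 → P i := stepQ 23556 Q23556 (allL N23556 (tt N22276 F252933) (tt N24711 (iv F257865)) (tt N24735 D57505) (tt N22200 (iv D56326)) (tt N24668 (iv F257627)) (tt N24734 (iv F258005)) (tt N22925 F252934) (tt N24727 (iv F257966)) (tt N24725 (iv F257955)) (tt N22225 F252935))
theorem Q23558 : ∀ i, i < 23558 → P i := stepQ 23557 Q23557 (allL N23557 (tt N22321 F252936) (tt N22205 F252937) (tt N22329 F252938) (tt N22202 (iv D56327)) (tt N22328 F252939) (tt N24729 (iv F257979)) (tt N22208 F252940) (tt N22230 F252941) (tt N23557 F252942) (tt N22228 F252943))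
theorem Q23559 : ∀ i, i < 23559 → P i := stepQ 23558 Q23558 (allL N23558 (tt N22281 F252944) (tt N22214 F252945) (tt N22206 F252946) (tt N22969 F252947) (tt N24731 (iv F257992)) (tt N22204 F252948) (tt N22331 F252949) (tt N22220 F252950) (tt N22203 (iv D56328)) (tt N22229 F252951))
theorem Q23560 : ∀ i, i < 23560 → P i := stepQ 23559 Q23559 (allL N23559 (tt N22283 F252952) (tt N22328 F252953) (tt N22279 F252954) (tt N22335 F252955) (tt N22205 (iv D56329)) (tt N24736 D57506) (tt N22209 F252956) (tt N22286 F252957) (tt N23559 F252958) (tt N22231 F252959))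
theorem Q23561 : ∀ i, i < 23561 → P i := stepQ 23560 Q23560 (allL N23560 (tt N22285 F252960) (tt N24693 (iv F257775)) (tt N24737 D57507) (tt N22206 (iv D56330)) (tt N24738 D57508) (tt N22207 F252961) (tt N24404 (iv F256023)) (tt N24692 (iv F257771)) (tt N23560 F252962) (tt N22232 F252963))
theorem Q23562 : ∀ i, i < 23562 → P i := stepQ 23561 Q23561 (allL N23561 (tt N22286 F252964) (tt N22902 F252965) (tt N22207 (iv D56331)) (tt N22916 F252966) (tt N22277 F252967) (tt N24737 (iv F258021)) (tt N22210 F252968) (tt N22283 F252969) (tt N23561 F252970) (tt N22233 F252971))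
theorem Q23563 : ∀ i, i < 23563 → P i := stepQ 23562 Q23562 (allL N23562 (tt N22290 F252972) (tt N24664 (iv F257594)) (tt N24424 (iv F256161)) (tt N24739 D57509) (tt N22212 F252973) (tt N24684 (iv F257729)) (tt N22217 F252974) (tt N22926 F252975) (tt N22211 (iv D56332)) (tt N24662 (iv F257585)))
theorem Q23564 : ∀ i, i < 23564 → P i := stepQ 23563 Q23563 (allL N23563 (tt N22295 F252976) (tt N24731 (iv F257990)) (tt N22217 F252977) (tt N24740 D57510) (tt N22214 F252978) (tt N24728 (iv F257972)) (tt N24424 (iv F256164)) (tt N22222 F252979) (tt N22213 (iv D56333)) (tt N24726 (iv F257964)))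
theorem Q23565 : ∀ i, i < 23565 → P i := stepQ 23564 Q23564 (allL N23564 (tt N22219 F252980) (tt N22300 F252981) (tt N22264 F252982) (tt N22460 F252983) (tt N22218 F252984) (tt N22262 F252985) (tt N22216 F252986) (tt N22271 F252987) (tt N24741 D57511) (tt N22215 (iv D56334)))
theorem Q23566 : ∀ i, i < 23566 → P i := stepQ 23565 Q23565 (allL N23565 (tt N22297 F252988) (tt N22951 F252989) (tt N24728 (iv F257970)) (tt N24742 D57512) (tt N22226 F252990) (tt N22217 F252991) (tt N24741 (iv F258040)) (tt N22224 F252992) (tt N22216 (iv D56335)) (tt N24714 (iv F257890)))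
theorem Q23567 : ∀ i, i < 23567 → P i := stepQ 23566 Q23566 (allL N23566 (tt N22298 F252993) (tt N24712 (iv F257871)) (tt N24743 D57513) (tt N22217 (iv D56336)) (tt N24671 (iv F257648)) (tt N24742 (iv F258045)) (tt N24739 (iv F258030)) (tt N22225 F252994) (tt N22462 F252995) (tt N24727 (iv F257967)))
theorem Q23568 : ∀ i, i < 23568 → P i := stepQ 23567 Q23567 (allL N23567 (tt N22220 F252996) (tt N22301 F252997) (tt N22278 F252998) (tt N24430 (iv F256195)) (tt N24741 (iv F258038)) (tt N22227 F252999) (tt N22226 F253000) (tt N22281 F253001) (tt N22218 (iv D56337)) (tt N22320 F253002))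
theorem Q23569 : ∀ i, i < 23569 → P i := stepQ 23568 Q23568 (allL N23568 (tt N24741 (iv F258035)) (tt N22222 F253003) (tt N24714 (iv F257885)) (tt N24744 D57514) (tt N22220 F253004) (tt N24726 (iv F257961)) (tt N22297 F253005) (tt N24731 (iv F257995)) (tt N22219 (iv D56338)) (tt N24728 (iv F257975)))
theorem Q23570 : ∀ i, i < 23570 → P i := stepQ 23569 Q23569 (allL N23569 (tt N24430 (iv F256193)) (tt N22223 F253006) (tt N24745 D57515) (tt N22220 (iv D56339)) (tt N24746 D57516) (tt N22228 F253007) (tt N22322 F253008) (tt N22969 F253009) (tt N22241 F253010) (tt N24729 (iv F257983)))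
theorem Q23571 : ∀ i, i < 23571 → P i := stepQ 23570 Q23570 (allL N23570 (tt N22313 F253011) (tt N24726 (iv F257958)) (tt N22224 F253012) (tt N24747 D57517) (tt N22229 F253013) (tt N22222 F253014) (tt N24407 (iv F256047)) (tt N24728 (iv F257974)) (tt N22221 (iv D56340)) (tt N24731 (iv F257996)))
theorem Q23572 : ∀ i, i < 23572 → P i := stepQ 23571 Q23571 (allL N23571 (tt N22314 F253015) (tt N24744 (iv F258051)) (tt N24748 D57518) (tt N22222 (iv D56341)) (tt N24749 D57519) (tt N24747 (iv F258067)) (tt N22928 F253016) (tt N24740 (iv F258034)) (tt N24612 (iv F257314)) (tt N24732 (iv F257999)))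
theorem Q23573 : ∀ i, i < 23573 → P i := stepQ 23572 Q23572 (allL N23572 (tt N22315 F253017) (tt N24746 (iv F258062)) (tt N24673 (iv F257659)) (tt N24749 (iv F258072)) (tt N22223 (iv D56342)) (tt N24750 D57520) (tt N22929 F253018) (tt N24709 (iv F257855)) (tt N22242 F253019) (tt N24733 (iv F258003)))
theorem Q23574 : ∀ i, i < 23574 → P i := stepQ 23573 Q23573 (allL N23573 (tt N22318 F253020) (tt N24704 (iv F257830)) (tt N24751 D57521) (tt N22224 (iv D56343)) (tt N24752 D57522) (tt N22225 F253021) (tt N24409 (iv F256060)) (tt N24742 (iv F258046)) (tt N22472 F253022) (tt N24734 (iv F258006)))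
theorem Q23575 : ∀ i, i < 23575 → P i := stepQ 23574 Q23574 (allL N23574 (tt N22319 F253023) (tt N24753 D57523) (tt N22225 (iv D56344)) (tt N24748 (iv F258069)) (tt N24675 (iv F257671)) (tt N24751 (iv F258080)) (tt N22930 F253024) (tt N24743 (iv F258049)) (tt N22473 F253025) (tt N24735 (iv F258009)))
theorem Q23576 : ∀ i, i < 23576 → P i := stepQ 23575 Q23575 (allL N23575 (tt N22335 F253026) (tt N22893 F253027) (tt N22228 (iv D56345)) (tt N22283 F253028) (tt N22282 (iv F253033)) (tt N24745 (iv F258057)) (tt N22234 F253029) (tt N22916 F253030) (tt N22243 F253031) (tt N22329 F253032))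
theorem Q23577 : ∀ i, i < 23577 → P i := stepQ 23576 Q23576 (allL N23576 (tt N22916 F253034) (tt N22231 F253035) (tt N22282 F253036) (tt N22286 F253037) (tt N22228 (iv D56346)) (tt N24754 D57524) (tt N22235 F253038) (tt N22335 F253039) (tt N22244 F253040) (tt N22328 F253041))
theorem Q23578 : ∀ i, i < 23578 → P i := stepQ 23577 Q23577 (allL N23577 (tt N22327 F253042) (tt N24694 (iv F257789)) (tt N24755 D57525) (tt N22229 (iv D56347)) (tt N24756 D57526) (tt N22230 F253043) (tt N22941 F253044) (tt N24729 (iv F257981)) (tt N23577 F253045) (tt N22969 F253046))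
theorem Q23579 : ∀ i, i < 23579 → P i := stepQ 23578 Q23578 (allL N23578 (tt N22328 F253047) (tt N22914 F253048) (tt N22230 (iv D56348)) (tt N22233 F253049) (tt N22321 (iv F253054)) (tt N24755 (iv F258098)) (tt N22236 F253050) (tt N22329 F253051) (tt N23578 F253052) (tt N22916 F253053))
theorem Q23580 : ∀ i, i < 23580 → P i := stepQ 23579 Q23579 (allL N23579 (tt N22329 F253055) (tt N22286 F253056) (tt N22321 F253057) (tt N22231 F253058) (tt N22230 (iv D56349)) (tt N24757 D57527) (tt N22237 F253059) (tt N22328 F253060) (tt N23579 F253061) (tt N22335 F253062))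
theorem Q23581 : ∀ i, i < 23581 → P i := stepQ 23580 Q23580 (allL N23580 (tt N22330 F253063) (tt N24754 (iv F258088)) (tt N22322 F253064) (tt N24757 (iv F258110)) (tt N24750 (iv F258076)) (tt N22231 (iv D56350)) (tt N24745 (iv F258058)) (tt N22333 F253065) (tt N22245 F253066) (tt N24736 (iv F258017)))
theorem Q23582 : ∀ i, i < 23582 → P i := stepQ 23581 Q23581 (allL N23581 (tt N22333 F253067) (tt N22915 F253068) (tt N22232 (iv D56351)) (tt N24755 (iv F258097)) (tt N24758 D57528) (tt N22233 F253069) (tt N24412 (iv F256079)) (tt N22330 F253070) (tt N22239 F253071) (tt N24737 (iv F258025)))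
theorem Q23583 : ∀ i, i < 23583 → P i := stepQ 23582 Q23582 (allL N23582 (tt N22334 F253072) (tt N24708 (iv F257844)) (tt N24758 (iv F258117)) (tt N24752 (iv F258083)) (tt N22232 (iv D56352)) (tt N24676 (iv F257677)) (tt N24413 (iv F256086)) (tt N24703 (iv F257827)) (tt N22240 F253073) (tt N24738 (iv F258028)))
theorem Q23584 : ∀ i, i < 23584 → P i := stepQ 23583 Q23583 (allL N23583 (tt N22342 F253074) (tt N22920 F253075) (tt N22240 F253076) (tt N24759 D57529) (tt N22239 (iv D56353)) (tt N22346 F253077) (tt N24414 (iv F256093)) (tt N22357 F253078) (tt N24758 (iv F258120)) (tt N23583 F253079))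
theorem Q23585 : ∀ i, i < 23585 → P i := stepQ 23584 Q23584 (allL N23584 (tt N22341 F253080) (tt N22896 F253081) (tt N22241 (iv D56354)) (tt N23584 F253082) (tt N24760 D57530) (tt N22243 F253083) (tt N22245 F253084) (tt N22921 F253085) (tt N24745 (iv F258060)) (tt N23584 F253086))
theorem Q23586 : ∀ i, i < 23586 → P i := stepQ 23585 Q23585 (allL N23585 (tt N24432 (iv F256207)) (tt N22242 F253087) (tt N24760 (iv F258130)) (tt N22653 F253088) (tt N22241 (iv D56355)) (tt N24761 D57531) (tt N22338 F253089) (tt N22978 F253090) (tt N24746 (iv F258065)) (tt N23585 F253091))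
theorem Q23587 : ∀ i, i < 23587 → P i := stepQ 23586 Q23586 (allL N23586 (tt N22357 F253092) (tt N24761 (iv F258136)) (tt N22338 F253093) (tt N24651 (iv F257507)) (tt N22245 F253094) (tt N22242 (iv D56356)) (tt N24760 (iv F258132)) (tt N22342 F253095) (tt N24750 (iv F258078)) (tt N23586 F253096))
theorem Q23588 : ∀ i, i < 23588 → P i := stepQ 23587 Q23587 (allL N23587 (tt N22921 F253097) (tt N22245 F253098) (tt N22894 F253099) (tt N23587 F253100) (tt N24761 (iv F258139)) (tt N22244 (iv D56357)) (tt N22896 F253101) (tt N22341 F253102) (tt N24754 (iv F258093)) (tt N23587 F253103))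
theorem Q23589 : ∀ i, i < 23589 → P i := stepQ 23588 Q23588 (allL N23588 (tt N22567 F253104) (tt N22604 F253105) (tt N22261 F253106) (tt N22246 (iv D56358)) (tt N23588 F253107) (tt N22457 (iv F253111)) (tt N22450 F253108) (tt N22253 F253109) (tt N22596 F253110) (tt N24762 D57532))
theorem Q23590 : ∀ i, i < 23590 → P i := stepQ 23589 Q23589 (allL N23589 (tt N22581 F253112) (tt N23059 F253113) (tt N22248 F253114) (tt N22457 F253115) (tt N23589 F253116) (tt N22246 (iv D56359)) (tt N22455 F253117) (tt N22254 F253118) (tt N22497 F253119) (tt N24763 D57533))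
theorem Q23591 : ∀ i, i < 23591 → P i := stepQ 23590 Q23590 (allL N23590 (tt N22835 F253120) (tt N24557 (iv F257013)) (tt N22249 F253121) (tt N24762 (iv F258146)) (tt N22247 F253122) (tt N24763 (iv F258156)) (tt N22846 F253123) (tt N22255 F253124) (tt N24764 D57534) (tt N22246 (iv D56360)))
theorem Q23592 : ∀ i, i < 23592 → P i := stepQ 23591 Q23591 (allL N23591 (tt N22877 F253125) (tt N24558 (iv F257021)) (tt N22250 F253126) (tt N24765 D57535) (tt N24764 (iv F258161)) (tt N23591 F253127) (tt N22866 F253128) (tt N22256 F253129) (tt N22247 (iv D56361)) (tt N22499 F253130))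
theorem Q23593 : ∀ i, i < 23593 → P i := stepQ 23592 Q23592 (allL N23592 (tt N24713 (iv F257875)) (tt N22922 F253131) (tt N24763 (iv F258153)) (tt N22264 F253132) (tt N23592 F253133) (tt N22249 F253134) (tt N24600 (iv F257255)) (tt N22257 F253135) (tt N24766 D57536) (tt N22248 (iv D56362)))
theorem Q23594 : ∀ i, i < 23594 → P i := stepQ 23593 Q23593 (allL N23593 (tt N24719 (iv F257907)) (tt N23092 F253136) (tt N24764 (iv F258160)) (tt N24767 D57537) (tt N22250 F253137) (tt N24766 (iv F258173)) (tt N22852 F253138) (tt N22258 F253139) (tt N22249 (iv D56363)) (tt N22502 F253140))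
theorem Q23595 : ∀ i, i < 23595 → P i := stepQ 23594 Q23594 (allL N23594 (tt N24548 (iv F256949)) (tt N22255 F253141) (tt N22749 F253142) (tt N24439 (iv F256263)) (tt N22252 F253143) (tt N24438 (iv F256257)) (tt N22820 F253144) (tt N24557 (iv F257019)) (tt N24768 D57538) (tt N22251 (iv D56364)))
theorem Q23596 : ∀ i, i < 23596 → P i := stepQ 23595 Q23595 (allL N23595 (tt N24549 (iv F256957)) (tt N22256 F253145) (tt N22772 F253146) (tt N24769 D57539) (tt N24768 (iv F258183)) (tt N23595 F253147) (tt N22858 F253148) (tt N24558 (iv F257025)) (tt N22252 (iv D56365)) (tt N22508 F253149))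
theorem Q23597 : ∀ i, i < 23597 → P i := stepQ 23596 Q23596 (allL N23596 (tt N22792 F253150) (tt N22603 F253151) (tt N22269 F253152) (tt N22510 F253153) (tt N23596 F253154) (tt N22734 F253155) (tt N22823 F253156) (tt N22596 F253157) (tt N22253 (iv D56366)) (tt N24770 D57540))
theorem Q23598 : ∀ i, i < 23598 → P i := stepQ 23597 Q23597 (allL N23597 (tt N24720 (iv F257914)) (tt N24439 (iv F256261)) (tt N22270 F253158) (tt N22255 F253159) (tt N23597 F253160) (tt N24436 (iv F256242)) (tt N22824 F253161) (tt N24762 (iv F258150)) (tt N24771 D57541) (tt N22253 (iv D56367)))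
theorem Q23599 : ∀ i, i < 23599 → P i := stepQ 23598 Q23598 (allL N23598 (tt N24721 (iv F257922)) (tt N24438 (iv F256253)) (tt N22257 F253162) (tt N24436 (iv F256240)) (tt N23598 F253163) (tt N22255 F253164) (tt N22815 F253165) (tt N24763 (iv F258158)) (tt N24772 D57542) (tt N22254 (iv D56368)))
theorem Q23600 : ∀ i, i < 23600 → P i := stepQ 23599 Q23599 (allL N23599 (tt N24722 (iv F257930)) (tt N24768 (iv F258181)) (tt N22258 F253166) (tt N24773 D57543) (tt N22256 F253167) (tt N24772 (iv F258204)) (tt N22827 F253168) (tt N24764 (iv F258163)) (tt N22255 (iv D56369)) (tt N22514 F253169))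
theorem Q23601 : ∀ i, i < 23601 → P i := stepQ 23600 Q23600 (allL N23600 (tt N24723 (iv F257937)) (tt N24769 (iv F258186)) (tt N24680 (iv F257703)) (tt N22256 (iv D56370)) (tt N24774 D57544) (tt N23600 F253170) (tt N22860 F253171) (tt N24765 (iv F258168)) (tt N23600 F253172) (tt N22515 F253173))
theorem Q23602 : ∀ i, i < 23602 → P i := stepQ 23601 Q23601 (allL N23601 (tt N24724 (iv F257945)) (tt N23082 F253174) (tt N24772 (iv F258202)) (tt N24775 D57545) (tt N23601 F253175) (tt N22258 F253176) (tt N22818 F253177) (tt N24766 (iv F258174)) (tt N22257 (iv D56371)) (tt N22517 F253178))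
theorem Q23603 : ∀ i, i < 23603 → P i := stepQ 23602 Q23602 (allL N23602 (tt N24725 (iv F257951)) (tt N23093 F253179) (tt N24776 D57546) (tt N22258 (iv D56372)) (tt N24682 (iv F257716)) (tt N24775 (iv F258213)) (tt N22830 F253180) (tt N24767 (iv F258178)) (tt N22276 F253181) (tt N22518 F253182))
theorem Q23604 : ∀ i, i < 23604 → P i := stepQ 23603 Q23603 (allL N23603 (tt N24662 (iv F257578)) (tt N22964 F253183) (tt N24684 (iv F257727)) (tt N24777 D57547) (tt N22260 F253184) (tt N24424 (iv F256163)) (tt N22265 F253185) (tt N22701 F253186) (tt N22259 (iv D56373)) (tt N22290 F253187))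
theorem Q23605 : ∀ i, i < 23605 → P i := stepQ 23604 Q23604 (allL N23604 (tt N22521 F253188) (tt N22897 F253189) (tt N22596 F253190) (tt N22292 F253191) (tt N23604 F253192) (tt N22440 F253193) (tt N22437 F253194) (tt N22269 F253195) (tt N22261 (iv D56374)) (tt N24778 D57548))
theorem Q23606 : ∀ i, i < 23606 → P i := stepQ 23605 Q23605 (allL N23605 (tt N22571 F253196) (tt N22898 F253197) (tt N24762 (iv F258145)) (tt N22262 F253198) (tt N23605 F253199) (tt N22460 F253200) (tt N22453 F253201) (tt N22270 F253202) (tt N24779 D57549) (tt N22261 (iv D56375)))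
theorem Q23607 : ∀ i, i < 23607 → P i := stepQ 23606 Q23606 (allL N23606 (tt N24726 (iv F257957)) (tt N22899 F253203) (tt N22265 F253204) (tt N24780 D57550) (tt N22263 F253205) (tt N24741 (iv F258039)) (tt N24684 (iv F257730)) (tt N22272 F253206) (tt N22262 (iv D56376)) (tt N22295 F253207))
theorem Q23608 : ∀ i, i < 23608 → P i := stepQ 23607 Q23607 (allL N23607 (tt N24694 (iv F257782)) (tt N22900 F253208) (tt N24669 (iv F257633)) (tt N22263 (iv D56377)) (tt N24781 D57551) (tt N22277 F253209) (tt N24685 (iv F257737)) (tt N22273 F253210) (tt N23607 F253211) (tt N22296 F253212))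
theorem Q23609 : ∀ i, i < 23609 → P i := stepQ 23608 Q23608 (allL N23608 (tt N24714 (iv F257883)) (tt N22923 F253213) (tt N24741 (iv F258037)) (tt N24782 D57552) (tt N22278 F253214) (tt N22265 F253215) (tt N24728 (iv F257973)) (tt N22275 F253216) (tt N22264 (iv D56378)) (tt N22297 F253217))
theorem Q23610 : ∀ i, i < 23610 → P i := stepQ 23609 Q23609 (allL N23609 (tt N24727 (iv F257965)) (tt N24417 (iv F256113)) (tt N24783 D57553) (tt N22265 (iv D56379)) (tt N24683 (iv F257721)) (tt N24782 (iv F258248)) (tt N24777 (iv F258222)) (tt N22276 F253218) (tt N24767 (iv F258179)) (tt N22298 F253219))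
theorem Q23611 : ∀ i, i < 23611 → P i := stepQ 23610 Q23610 (allL N23610 (tt N22905 F253220) (tt N22270 F253221) (tt N22378 F253222) (tt N22267 F253223) (tt N23610 F253224) (tt N22376 F253225) (tt N22392 F253226) (tt N22898 F253227) (tt N24784 D57554) (tt N22266 (iv D56380)))
theorem Q23612 : ∀ i, i < 23612 → P i := stepQ 23611 Q23611 (allL N23611 (tt N22908 F253228) (tt N22272 F253229) (tt N22687 F253230) (tt N24785 D57555) (tt N22268 F253231) (tt N22890 F253232) (tt N22933 F253233) (tt N22899 F253234) (tt N22267 (iv D56381)) (tt N22306 F253235))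
theorem Q23613 : ∀ i, i < 23613 → P i := stepQ 23612 Q23612 (allL N23612 (tt N22913 F253236) (tt N22273 F253237) (tt N22707 F253238) (tt N22268 (iv D56382)) (tt N24786 D57556) (tt N22280 F253239) (tt N22934 F253240) (tt N22900 F253241) (tt N23612 F253242) (tt N22307 F253243))
theorem Q23614 : ∀ i, i < 23614 → P i := stepQ 23613 Q23613 (allL N23613 (tt N24554 (iv F256993)) (tt N24678 (iv F257690)) (tt N24770 (iv F258193)) (tt N22310 F253244) (tt N23613 F253245) (tt N24448 (iv F256330)) (tt N22935 F253246) (tt N24778 (iv F258233)) (tt N24787 D57557) (tt N22269 (iv D56383)))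
theorem Q23615 : ∀ i, i < 23615 → P i := stepQ 23614 Q23614 (allL N23614 (tt N24730 (iv F257984)) (tt N24784 (iv F258254)) (tt N24771 (iv F258199)) (tt N24788 D57558) (tt N23614 F253247) (tt N24468 (iv F256455)) (tt N22936 F253248) (tt N24779 (iv F258239)) (tt N22270 (iv D56384)) (tt N24787 (iv F258275)))
theorem Q23616 : ∀ i, i < 23616 → P i := stepQ 23615 Q23615 (allL N23615 (tt N24731 (iv F257989)) (tt N22890 F253249) (tt N22275 F253250) (tt N24789 D57559) (tt N22281 F253251) (tt N22272 F253252) (tt N24405 (iv F256032)) (tt N24741 (iv F258041)) (tt N22271 (iv D56385)) (tt N22313 F253253))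
theorem Q23617 : ∀ i, i < 23617 → P i := stepQ 23616 Q23616 (allL N23616 (tt N24732 (iv F257997)) (tt N24785 (iv F258261)) (tt N24790 D57560) (tt N22272 (iv D56386)) (tt N24791 D57561) (tt N24789 (iv F258279)) (tt N22937 F253254) (tt N24780 (iv F258241)) (tt N24788 (iv F258277)) (tt N22314 F253255))
theorem Q23618 : ∀ i, i < 23618 → P i := stepQ 23617 Q23617 (allL N23617 (tt N24733 (iv F258000)) (tt N24786 (iv F258267)) (tt N24688 (iv F257749)) (tt N24791 (iv F258284)) (tt N22273 (iv D56387)) (tt N24792 D57562) (tt N22938 F253256) (tt N24781 (iv F258244)) (tt N23617 F253257) (tt N22315 F253258))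
theorem Q23619 : ∀ i, i < 23619 → P i := stepQ 23618 Q23618 (allL N23618 (tt N24402 (iv F256004)) (tt N22944 F253259) (tt N24405 (iv F256029)) (tt N24793 D57563) (tt N22284 F253260) (tt N22691 F253261) (tt N22275 F253262) (tt N24407 (iv F256048)) (tt N22274 (iv D56388)) (tt N22317 F253263))
theorem Q23620 : ∀ i, i < 23620 → P i := stepQ 23619 Q23619 (allL N23619 (tt N24734 (iv F258004)) (tt N24418 (iv F256121)) (tt N24794 D57564) (tt N22275 (iv D56389)) (tt N24795 D57565) (tt N22276 F253264) (tt N24793 (iv F258292)) (tt N24782 (iv F258249)) (tt N24775 (iv F258215)) (tt N22318 F253265))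
theorem Q23621 : ∀ i, i < 23621 → P i := stepQ 23620 Q23620 (allL N23620 (tt N24735 (iv F258007)) (tt N24796 D57566) (tt N22276 (iv D56390)) (tt N24790 (iv F258281)) (tt N24691 (iv F257763)) (tt N24794 (iv F258295)) (tt N22939 F253266) (tt N24783 (iv F258251)) (tt N24776 (iv F258218)) (tt N22319 F253267))
theorem Q23622 : ∀ i, i < 23622 → P i := stepQ 23621 Q23621 (allL N23621 (tt N24692 (iv F257766)) (tt N22924 F253268) (tt N24736 (iv F258012)) (tt N22278 (iv D56391)) (tt N24797 D57567) (tt N22279 F253269) (tt N24729 (iv F257980)) (tt N22285 F253270) (tt N23621 F253271) (tt N22322 F253272))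
theorem Q23623 : ∀ i, i < 23623 → P i := stepQ 23622 Q23622 (allL N23622 (tt N22914 F253273) (tt N22283 F253274) (tt N22288 F253275) (tt N22893 F253276) (tt N22280 (iv D56392)) (tt N24798 D57568) (tt N22287 F253277) (tt N22902 F253278) (tt N23622 F253279) (tt N22325 F253280))
theorem Q23624 : ∀ i, i < 23624 → P i := stepQ 23623 Q23623 (allL N23623 (tt N22969 F253281) (tt N22891 F253282) (tt N24754 (iv F258089)) (tt N22281 (iv D56393)) (tt N24799 D57569) (tt N22282 F253283) (tt N22931 F253284) (tt N24430 (iv F256198)) (tt N22894 F253285) (tt N22327 F253286))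
theorem Q23625 : ∀ i, i < 23625 → P i := stepQ 23624 Q23624 (allL N23624 (tt N24736 (iv F258010)) (tt N24798 (iv F258306)) (tt N24692 (iv F257768)) (tt N24745 (iv F258056)) (tt N24792 (iv F258287)) (tt N22283 (iv D56394)) (tt N24757 (iv F258111)) (tt N24737 (iv F258023)) (tt N23624 F253287) (tt N22330 F253288))
theorem Q23626 : ∀ i, i < 23626 → P i := stepQ 23625 Q23625 (allL N23625 (tt N24404 (iv F256019)) (tt N24420 (iv F256133)) (tt N24798 (iv F258307)) (tt N22284 (iv D56395)) (tt N24800 D57570) (tt N22288 F253289) (tt N22285 F253290) (tt N22941 F253291) (tt N23625 F253292) (tt N22332 F253293))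
theorem Q23627 : ∀ i, i < 23627 → P i := stepQ 23626 Q23626 (allL N23626 (tt N24737 (iv F258018)) (tt N24757 (iv F258108)) (tt N22285 (iv D56396)) (tt N24754 (iv F258090)) (tt N24801 D57571) (tt N22286 F253294) (tt N24798 (iv F258309)) (tt N24736 (iv F258015)) (tt N23626 F253295) (tt N22333 F253296))
theorem Q23628 : ∀ i, i < 23628 → P i := stepQ 23627 Q23627 (allL N23627 (tt N24738 (iv F258026)) (tt N24421 (iv F256141)) (tt N24801 (iv F258323)) (tt N24795 (iv F258297)) (tt N22285 (iv D56397)) (tt N24695 (iv F257790)) (tt N24800 (iv F258319)) (tt N24797 (iv F258302)) (tt N23627 F253297) (tt N22334 F253298))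
theorem Q23629 : ∀ i, i < 23629 → P i := stepQ 23628 Q23628 (allL N23628 (tt N24684 (iv F257725)) (tt N24407 (iv F256043)) (tt N24662 (iv F257580)) (tt N24802 D57572) (tt N24411 (iv F256069)) (tt N22290 F253299) (tt N24726 (iv F257962)) (tt N22944 F253300) (tt N22289 (iv D56398)) (tt N24424 (iv F256166)))
theorem Q23630 : ∀ i, i < 23630 → P i := stepQ 23629 Q23629 (allL N23629 (tt N24739 (iv F258029)) (tt N24408 (iv F256051)) (tt N24803 D57573) (tt N22290 (iv D56399)) (tt N24696 (iv F257794)) (tt N24802 (iv F258326)) (tt N22298 F253301) (tt N22945 F253302) (tt N22573 F253303) (tt N24777 (iv F258225)))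
theorem Q23631 : ∀ i, i < 23631 → P i := stepQ 23630 Q23630 (allL N23630 (tt N22500 F253304) (tt N22904 F253305) (tt N22582 F253306) (tt N22440 F253307) (tt N23630 F253308) (tt N22292 F253309) (tt N22429 F253310) (tt N22308 F253311) (tt N22291 (iv D56400)) (tt N24804 D57574))
theorem Q23632 : ∀ i, i < 23632 → P i := stepQ 23631 Q23631 (allL N23631 (tt N24600 (iv F257249)) (tt N22905 F253312) (tt N22583 F253313) (tt N22294 F253314) (tt N23631 F253315) (tt N22293 F253316) (tt N24713 (iv F257881)) (tt N22309 F253317) (tt N24805 D57575) (tt N22291 (iv D56401)))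
theorem Q23633 : ∀ i, i < 23633 → P i := stepQ 23632 Q23632 (allL N23632 (tt N23054 F253318) (tt N22906 F253319) (tt N22584 F253320) (tt N24778 (iv F258229)) (tt N22343 F253321) (tt N24804 (iv F258337)) (tt N22993 F253322) (tt N22310 F253323) (tt N24806 D57576) (tt N22292 (iv D56402)))
theorem Q23634 : ∀ i, i < 23634 → P i := stepQ 23633 Q23633 (allL N23633 (tt N24611 (iv F257304)) (tt N22907 F253324) (tt N22585 F253325) (tt N24807 D57577) (tt N22344 F253326) (tt N24805 (iv F258343)) (tt N24540 (iv F256905)) (tt N22311 F253327) (tt N22293 (iv D56403)) (tt N24806 (iv F258351)))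
theorem Q23635 : ∀ i, i < 23635 → P i := stepQ 23634 Q23634 (allL N23634 (tt N24728 (iv F257968)) (tt N22908 F253328) (tt N22297 F253329) (tt N24808 D57578) (tt N22320 F253330) (tt N22295 F253331) (tt N24714 (iv F257888)) (tt N22313 F253332) (tt N22294 (iv D56404)) (tt N24741 (iv F258042)))
theorem Q23636 : ∀ i, i < 23636 → P i := stepQ 23635 Q23635 (allL N23635 (tt N24740 (iv F258033)) (tt N22909 F253333) (tt N24809 D57579) (tt N22295 (iv D56405)) (tt N24810 D57580) (tt N24808 (iv F258356)) (tt N24698 (iv F257804)) (tt N22314 F253334) (tt N24807 (iv F258354)) (tt N24780 (iv F258242)))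
theorem Q23637 : ∀ i, i < 23637 → P i := stepQ 23636 Q23636 (allL N23636 (tt N24709 (iv F257850)) (tt N22910 F253335) (tt N24676 (iv F257676)) (tt N24810 (iv F258361)) (tt N22296 (iv D56406)) (tt N24758 (iv F258118)) (tt N24699 (iv F257810)) (tt N22315 F253336) (tt N22346 F253337) (tt N24781 (iv F258246)))
theorem Q23638 : ∀ i, i < 23638 → P i := stepQ 23637 Q23637 (allL N23637 (tt N24742 (iv F258043)) (tt N22928 F253338) (tt N24811 D57581) (tt N22297 (iv D56407)) (tt N24812 D57582) (tt N22298 F253339) (tt N24744 (iv F258052)) (tt N22318 F253340) (tt N22593 F253341) (tt N24782 (iv F258250)))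
theorem Q23639 : ∀ i, i < 23639 → P i := stepQ 23638 Q23638 (allL N23638 (tt N24743 (iv F258048)) (tt N24813 D57583) (tt N22298 (iv D56408)) (tt N24809 (iv F258358)) (tt N24697 (iv F257800)) (tt N24811 (iv F258363)) (tt N24803 (iv F258329)) (tt N22319 F253342) (tt N22594 F253343) (tt N24783 (iv F258252)))
theorem Q23640 : ∀ i, i < 23640 → P i := stepQ 23639 Q23639 (allL N23639 (tt N22304 F253344) (tt N22460 F253345) (tt N22374 F253346) (tt N22300 F253347) (tt N22347 F253348) (tt N22898 F253349) (tt N22401 F253350) (tt N22376 F253351) (tt N24814 D57584) (tt N22299 (iv D56409)))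
theorem Q23641 : ∀ i, i < 23641 → P i := stepQ 23640 Q23640 (allL N23640 (tt N22306 F253352) (tt N24741 (iv F258036)) (tt N22889 F253353) (tt N24815 D57585) (tt N22301 F253354) (tt N22899 F253355) (tt N22951 F253356) (tt N22890 F253357) (tt N22300 (iv D56410)) (tt N22908 F253358))
theorem Q23642 : ∀ i, i < 23642 → P i := stepQ 23641 Q23641 (allL N23641 (tt N22898 F253359) (tt N22309 F253360) (tt N22995 F253361) (tt N22305 F253362) (tt N23641 F253363) (tt N22304 F253364) (tt N24515 (iv F256745)) (tt N22905 F253365) (tt N24816 D57586) (tt N22302 (iv D56411)))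
theorem Q23643 : ∀ i, i < 23643 → P i := stepQ 23642 Q23642 (allL N23642 (tt N24513 (iv F256724)) (tt N22310 F253366) (tt N22419 F253367) (tt N24678 (iv F257692)) (tt N22349 F253368) (tt N24677 (iv F257686)) (tt N22421 F253369) (tt N22906 F253370) (tt N24817 D57587) (tt N22303 (iv D56412)))
theorem Q23644 : ∀ i, i < 23644 → P i := stepQ 23643 Q23643 (allL N23643 (tt N24814 (iv F258372)) (tt N22311 F253371) (tt N22996 F253372) (tt N24818 D57588) (tt N22350 F253373) (tt N24816 (iv F258388)) (tt N22953 F253374) (tt N22907 F253375) (tt N22304 (iv D56413)) (tt N24817 (iv F258395)))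
theorem Q23645 : ∀ i, i < 23645 → P i := stepQ 23644 Q23644 (allL N23644 (tt N22899 F253376) (tt N22313 F253377) (tt N22888 F253378) (tt N24819 D57589) (tt N22323 F253379) (tt N22306 F253380) (tt N24665 (iv F257606)) (tt N22908 F253381) (tt N22305 (iv D56414)) (tt N22890 F253382))
theorem Q23646 : ∀ i, i < 23646 → P i := stepQ 23645 Q23645 (allL N23645 (tt N24815 (iv F258379)) (tt N22314 F253383) (tt N24820 D57590) (tt N22306 (iv D56415)) (tt N24821 D57591) (tt N24819 (iv F258402)) (tt N22955 F253384) (tt N22909 F253385) (tt N24818 (iv F258399)) (tt N24785 (iv F258265)))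
theorem Q23647 : ∀ i, i < 23647 → P i := stepQ 23646 Q23646 (allL N23646 (tt N24431 (iv F256201)) (tt N22315 F253386) (tt N22949 F253387) (tt N24821 (iv F258409)) (tt N22307 (iv D56416)) (tt N24822 D57592) (tt N22956 F253388) (tt N22910 F253389) (tt N22352 F253390) (tt N24786 (iv F258272)))
theorem Q23648 : ∀ i, i < 23648 → P i := stepQ 23647 Q23647 (allL N23647 (tt N24567 (iv F257063)) (tt N24677 (iv F257682)) (tt N22606 F253391) (tt N24448 (iv F256328)) (tt N23647 F253392) (tt N22310 F253393) (tt N24434 (iv F256228)) (tt N24804 (iv F258339)) (tt N24823 D57593) (tt N22308 (iv D56417)))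
theorem Q23649 : ∀ i, i < 23649 → P i := stepQ 23648 Q23648 (allL N23648 (tt N24601 (iv F257257)) (tt N24816 (iv F258385)) (tt N22607 F253394) (tt N24824 D57594) (tt N23648 F253395) (tt N22311 F253396) (tt N24535 (iv F256874)) (tt N24805 (iv F258344)) (tt N22309 (iv D56418)) (tt N24823 (iv F258421)))
theorem Q23650 : ∀ i, i < 23650 → P i := stepQ 23649 Q23649 (allL N23649 (tt N24575 (iv F257109)) (tt N24817 (iv F258390)) (tt N22608 F253397) (tt N24825 D57595) (tt N22353 F253398) (tt N24823 (iv F258420)) (tt N22957 F253399) (tt N24806 (iv F258350)) (tt N22310 (iv D56419)) (tt N22311 F253400))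
theorem Q23651 : ∀ i, i < 23651 → P i := stepQ 23650 Q23650 (allL N23650 (tt N24612 (iv F257311)) (tt N24818 (iv F258396)) (tt N24826 D57596) (tt N22311 (iv D56420)) (tt N24827 D57597) (tt N24824 (iv F258422)) (tt N22958 F253401) (tt N24807 (iv F258353)) (tt N22314 F253402) (tt N24825 (iv F258425)))
theorem Q23652 : ∀ i, i < 23652 → P i := stepQ 23651 Q23651 (allL N23651 (tt N24407 (iv F256042)) (tt N24665 (iv F257602)) (tt N22317 F253403) (tt N24828 D57598) (tt N22326 F253404) (tt N22959 F253405) (tt N22313 F253406) (tt N24402 (iv F256010)) (tt N22312 (iv D56421)) (tt N24405 (iv F256034)))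
theorem Q23653 : ∀ i, i < 23653 → P i := stepQ 23652 Q23652 (allL N23652 (tt N24747 (iv F258066)) (tt N24819 (iv F258401)) (tt N24829 D57599) (tt N22313 (iv D56422)) (tt N24830 D57600) (tt N22314 F253407) (tt N24828 (iv F258433)) (tt N24808 (iv F258357)) (tt N24824 (iv F258423)) (tt N24789 (iv F258280)))
theorem Q23654 : ∀ i, i < 23654 → P i := stepQ 23653 Q23653 (allL N23653 (tt N24748 (iv F258068)) (tt N24831 D57601) (tt N22314 (iv D56423)) (tt N22319 F253408) (tt N24832 D57602) (tt N24829 (iv F258435)) (tt N22961 F253409) (tt N24809 (iv F258359)) (tt N24826 (iv F258428)) (tt N24790 (iv F258283)))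
theorem Q23655 : ∀ i, i < 23655 → P i := stepQ 23654 Q23654 (allL N23654 (tt N24749 (iv F258071)) (tt N24821 (iv F258408)) (tt N24832 (iv F258439)) (tt N22315 F253410) (tt N22314 (iv D56424)) (tt N24833 D57603) (tt N22962 F253411) (tt N24810 (iv F258362)) (tt N24827 (iv F258431)) (tt N24791 (iv F258286)))
theorem Q23656 : ∀ i, i < 23656 → P i := stepQ 23655 Q23655 (allL N23655 (tt N24750 (iv F258074)) (tt N24822 (iv F258412)) (tt N24703 (iv F257825)) (tt N24833 (iv F258441)) (tt N22330 F253412) (tt N22315 (iv D56425)) (tt N24834 D57604) (tt N24758 (iv F258119)) (tt N22357 F253413) (tt N24792 (iv F258289)))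
theorem Q23657 : ∀ i, i < 23657 → P i := stepQ 23656 Q23656 (allL N23656 (tt N24405 (iv F256027)) (tt N24424 (iv F256160)) (tt N24402 (iv F256006)) (tt N24835 D57605) (tt N22331 F253414) (tt N22964 F253415) (tt N24731 (iv F257994)) (tt N22317 F253416) (tt N22316 (iv D56426)) (tt N24407 (iv F256049)))
theorem Q23658 : ∀ i, i < 23658 → P i := stepQ 23657 Q23657 (allL N23657 (tt N24409 (iv F256057)) (tt N24425 (iv F256168)) (tt N24836 D57606) (tt N22317 (iv D56427)) (tt N24837 D57607) (tt N22965 F253417) (tt N22318 F253418) (tt N24835 (iv F258448)) (tt N22617 F253419) (tt N24793 (iv F258294)))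
theorem Q23659 : ∀ i, i < 23659 → P i := stepQ 23658 Q23658 (allL N23658 (tt N24751 (iv F258079)) (tt N24838 D57608) (tt N22318 (iv D56428)) (tt N24829 (iv F258434)) (tt N24839 D57609) (tt N22319 F253420) (tt N24836 (iv F258451)) (tt N24811 (iv F258364)) (tt N22618 F253421) (tt N24794 (iv F258296)))
theorem Q23660 : ∀ i, i < 23660 → P i := stepQ 23659 Q23659 (allL N23659 (tt N24752 (iv F258082)) (tt N24427 (iv F256179)) (tt N24839 (iv F258460)) (tt N22334 F253422) (tt N22318 (iv D56429)) (tt N24706 (iv F257838)) (tt N24837 (iv F258455)) (tt N24812 (iv F258368)) (tt N22619 F253423) (tt N24795 (iv F258298)))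
theorem Q23661 : ∀ i, i < 23661 → P i := stepQ 23660 Q23660 (allL N23660 (tt N24840 D57610) (tt N22319 (iv D56430)) (tt N24428 (iv F256183)) (tt N24831 (iv F258437)) (tt N24707 (iv F257840)) (tt N24838 (iv F258458)) (tt N22967 F253424) (tt N24813 (iv F258370)) (tt N22620 F253425) (tt N24796 (iv F258300)))
theorem Q23662 : ∀ i, i < 23662 → P i := stepQ 23661 Q23661 (allL N23661 (tt N24729 (iv F257976)) (tt N22913 F253426) (tt N24757 (iv F258109)) (tt N22320 (iv D56431)) (tt N24841 D57611) (tt N22321 F253427) (tt N24692 (iv F257770)) (tt N22327 F253428) (tt N23661 F253429) (tt N24430 (iv F256200)))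
theorem Q23663 : ∀ i, i < 23663 → P i := stepQ 23662 Q23662 (allL N23662 (tt N24703 (iv F257823)) (tt N22929 F253430) (tt N24750 (iv F258075)) (tt N24812 (iv F258367)) (tt N22322 (iv D56432)) (tt N24673 (iv F257660)) (tt N24746 (iv F258063)) (tt N22334 F253431) (tt N22338 F253432) (tt N24797 (iv F258304)))
theorem Q23664 : ∀ i, i < 23664 → P i := stepQ 23663 Q23663 (allL N23663 (tt N22900 F253433) (tt N22327 F253434) (tt N22924 F253435) (tt N22323 (iv D56433)) (tt N24842 D57612) (tt N22324 F253436) (tt N24666 (iv F257613)) (tt N22913 F253437) (tt N23663 F253438) (tt N22891 F253439))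
theorem Q23665 : ∀ i, i < 23665 → P i := stepQ 23664 Q23664 (allL N23664 (tt N22902 F253440) (tt N22329 F253441) (tt N22337 F253442) (tt N22325 F253443) (tt N22324 (iv D56434)) (tt N24843 D57613) (tt N22336 F253444) (tt N22914 F253445) (tt N23664 F253446) (tt N22893 F253447))
theorem Q23666 : ∀ i, i < 23666 → P i := stepQ 23665 Q23665 (allL N23665 (tt N24412 (iv F256075)) (tt N22330 F253448) (tt N22332 F253449) (tt N24843 (iv F258476)) (tt N24822 (iv F258414)) (tt N22325 (iv D56435)) (tt N22333 F253450) (tt N22915 F253451) (tt N22339 F253452) (tt N24798 (iv F258312)))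
theorem Q23667 : ∀ i, i < 23667 → P i := stepQ 23666 Q23666 (allL N23666 (tt N22941 F253453) (tt N24666 (iv F257610)) (tt N24843 (iv F258475)) (tt N22326 (iv D56436)) (tt N24844 D57614) (tt N22337 F253454) (tt N22327 F253455) (tt N24404 (iv F256024)) (tt N23666 F253456) (tt N22931 F253457))
theorem Q23668 : ∀ i, i < 23668 → P i := stepQ 23667 Q23667 (allL N23667 (tt N24755 (iv F258095)) (tt N24736 (iv F258011)) (tt N22327 (iv D56437)) (tt N22333 F253458) (tt N24845 D57615) (tt N22328 F253459) (tt N24843 (iv F258477)) (tt N24757 (iv F258112)) (tt N23667 F253460) (tt N24754 (iv F258094)))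
theorem Q23669 : ∀ i, i < 23669 → P i := stepQ 23668 Q23668 (allL N23668 (tt N24756 (iv F258103)) (tt N24842 (iv F258468)) (tt N24845 (iv F258486)) (tt N24830 (iv F258436)) (tt N22327 (iv D56438)) (tt N24846 D57616) (tt N24844 (iv F258483)) (tt N24841 (iv F258465)) (tt N23668 F253461) (tt N24799 (iv F258317)))
theorem Q23670 : ∀ i, i < 23670 → P i := stepQ 23669 Q23669 (allL N23669 (tt N24757 (iv F258107)) (tt N24843 (iv F258474)) (tt N24729 (iv F257978)) (tt N22330 F253462) (tt N24846 (iv F258488)) (tt N22329 (iv D56439)) (tt N24736 (iv F258014)) (tt N24755 (iv F258100)) (tt N23669 F253463) (tt N24745 (iv F258061)))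
theorem Q23671 : ∀ i, i < 23671 → P i := stepQ 23670 Q23670 (allL N23670 (tt N24745 (iv F258054)) (tt N22333 F253464) (tt N24430 (iv F256194)) (tt N24736 (iv F258013)) (tt N24834 (iv F258443)) (tt N22335 F253465) (tt N22330 (iv D56440)) (tt N24754 (iv F258092)) (tt N22341 F253466) (tt N24757 (iv F258114)))
theorem Q23672 : ∀ i, i < 23672 → P i := stepQ 23671 Q23671 (allL N23671 (tt N24413 (iv F256083)) (tt N24429 (iv F256187)) (tt N24822 (iv F258413)) (tt N24837 (iv F258453)) (tt N22332 (iv D56441)) (tt N22949 F253467) (tt N22334 F253468) (tt N22963 F253469) (tt N22340 F253470) (tt N24800 (iv F258322)))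
theorem Q23673 : ∀ i, i < 23673 → P i := stepQ 23672 Q23672 (allL N23672 (tt N24758 (iv F258115)) (tt N24834 (iv F258442)) (tt N22334 F253471) (tt N24847 D57617) (tt N22333 (iv D56442)) (tt N24709 (iv F257853)) (tt N24822 (iv F258415)) (tt N24750 (iv F258077)) (tt N22342 F253472) (tt N24801 (iv F258325)))
theorem Q23674 : ∀ i, i < 23674 → P i := stepQ 23673 Q23673 (allL N23673 (tt N24414 (iv F256089)) (tt N22357 F253473) (tt N22340 F253474) (tt N24848 D57618) (tt N22339 (iv D56443)) (tt N22352 F253475) (tt N22342 F253476) (tt N22920 F253477) (tt N24822 (iv F258417)) (tt N23673 F253478))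
theorem Q23675 : ∀ i, i < 23675 → P i := stepQ 23674 Q23674 (allL N23674 (tt N24760 (iv F258128)) (tt N22342 F253479) (tt N24432 (iv F256209)) (tt N24849 D57619) (tt N22341 (iv D56444)) (tt N22978 F253480) (tt N22357 F253481) (tt N24761 (iv F258141)) (tt N24834 (iv F258445)) (tt N23674 F253482))
theorem Q23676 : ∀ i, i < 23676 → P i := stepQ 23675 Q23675 (allL N23675 (tt N24759 (iv F258121)) (tt N24849 (iv F258497)) (tt N22662 F253483) (tt N22342 (iv D56445)) (tt N23675 F253484) (tt N24650 F257503) (tt N24848 (iv F258494)) (tt N24651 (iv F257509)) (tt N24850 D57620) (tt N23675 F253485))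
theorem Q23677 : ∀ i, i < 23677 → P i := stepQ 23676 Q23676 (allL N23676 (tt N23144 F253486) (tt N22917 F253487) (tt N22663 F253488) (tt N24851 D57621) (tt N24806 (iv F258348)) (tt N23676 F253489) (tt N23012 F253490) (tt N22353 F253491) (tt N22343 (iv D56446)) (tt N22344 F253492))
theorem Q23678 : ∀ i, i < 23678 → P i := stepQ 23677 Q23677 (allL N23677 (tt N24643 (iv F257458)) (tt N22918 F253493) (tt N24505 (iv F256670)) (tt N22344 (iv D56447)) (tt N24852 D57622) (tt N23677 F253494) (tt N24545 (iv F256930)) (tt N22354 F253495) (tt N22345 F253496) (tt N24851 (iv F258511)))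
theorem Q23679 : ∀ i, i < 23679 → P i := stepQ 23678 Q23678 (allL N23678 (tt N24650 (iv F257496)) (tt N22919 F253497) (tt N24506 (iv F256677)) (tt N22346 F253498) (tt N22345 (iv D56448)) (tt N24759 (iv F258125)) (tt N24547 (iv F256946)) (tt N22356 F253499) (tt N24852 (iv F258514)) (tt N23678 F253500))
theorem Q23680 : ∀ i, i < 23680 → P i := stepQ 23679 Q23679 (allL N23679 (tt N22350 F253501) (tt N22477 F253502) (tt N22375 F253503) (tt N24853 D57623) (tt N24814 (iv F258375)) (tt N23679 F253504) (tt N22406 F253505) (tt N22377 F253506) (tt N22347 (iv D56449)) (tt N24514 (iv F256738)))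
theorem Q23681 : ∀ i, i < 23681 → P i := stepQ 23680 Q23680 (allL N23680 (tt N22351 F253507) (tt N22484 F253508) (tt N22671 F253509) (tt N22348 (iv D56450)) (tt N24433 (iv F256218)) (tt N23680 F253510) (tt N22413 F253511) (tt N22411 F253512) (tt N24853 (iv F258521)) (tt N23680 F253513))
theorem Q23682 : ∀ i, i < 23682 → P i := stepQ 23681 Q23681 (allL N23681 (tt N24514 (iv F256732)) (tt N22353 F253514) (tt N22420 F253515) (tt N24854 D57624) (tt N24817 (iv F258392)) (tt N23681 F253516) (tt N22422 F253517) (tt N22917 F253518) (tt N22349 (iv D56451)) (tt N22350 F253519))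
theorem Q23683 : ∀ i, i < 23683 → P i := stepQ 23682 Q23682 (allL N23682 (tt N24853 (iv F258515)) (tt N22354 F253520) (tt N22878 F253521) (tt N22350 (iv D56452)) (tt N24855 D57625) (tt N23682 F253522) (tt N22973 F253523) (tt N22918 F253524) (tt N22351 F253525) (tt N24854 (iv F258528)))
theorem Q23684 : ∀ i, i < 23684 → P i := stepQ 23683 Q23683 (allL N23683 (tt N24433 (iv F256215)) (tt N22356 F253526) (tt N22879 F253527) (tt N22352 F253528) (tt N22351 (iv D56453)) (tt N24848 (iv F258493)) (tt N22974 F253529) (tt N22919 F253530) (tt N24855 (iv F258533)) (tt N23683 F253531))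
theorem Q23685 : ∀ i, i < 23685 → P i := stepQ 23684 Q23684 (allL N23684 (tt N24594 (iv F257207)) (tt N24854 (iv F258522)) (tt N24856 D57626) (tt N22353 (iv D56454)) (tt N24857 D57627) (tt N23684 F253532) (tt N22976 F253533) (tt N24851 (iv F258509)) (tt N23684 F253534) (tt N22354 F253535))
theorem Q23686 : ∀ i, i < 23686 → P i := stepQ 23685 Q23685 (allL N23685 (tt N23142 F253536) (tt N22817 F253537) (tt N22354 (iv D56455)) (tt N22665 F253538) (tt N24858 D57628) (tt N23685 F253539) (tt N22822 F253540) (tt N24505 (iv F256673)) (tt N22355 F253541) (tt N24856 (iv F258540)))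
theorem Q23687 : ∀ i, i < 23687 → P i := stepQ 23686 Q23686 (allL N23686 (tt N24644 (iv F257466)) (tt N24855 (iv F258529)) (tt N24858 (iv F258546)) (tt N24827 (iv F258429)) (tt N22354 (iv D56456)) (tt N24859 D57629) (tt N22977 F253542) (tt N24852 (iv F258513)) (tt N22356 F253543) (tt N24857 (iv F258543)))
theorem Q23688 : ∀ i, i < 23688 → P i := stepQ 23687 Q23687 (allL N23687 (tt N23143 F253544) (tt N22871 F253545) (tt N22356 F253546) (tt N23132 F253547) (tt N22355 (iv D56457)) (tt N24860 D57630) (tt N22872 F253548) (tt N24506 (iv F256680)) (tt N24858 (iv F258548)) (tt N23687 F253549))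
theorem Q23689 : ∀ i, i < 23689 → P i := stepQ 23688 Q23688 (allL N23688 (tt N24651 (iv F257504)) (tt N24848 (iv F258490)) (tt N24860 (iv F258553)) (tt N22357 F253550) (tt N23688 F253551) (tt N22356 (iv D56458)) (tt N24849 (iv F258500)) (tt N24759 (iv F258126)) (tt N24859 (iv F258550)) (tt N23688 F253552))
theorem Q23690 : ∀ i, i < 23690 → P i := stepQ 23689 Q23689 (allL N23689 (tt N22852 F253553) (tt N22367 F253554) (tt N24619 (iv F257349)) (tt N24861 D57631) (tt N22359 F253555) (tt N24540 (iv F256904)) (tt N24719 (iv F257911)) (tt N22362 F253556) (tt N22358 (iv D56459)) (tt N22994 F253557))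
theorem Q23691 : ∀ i, i < 23691 → P i := stepQ 23690 Q23690 (allL N23690 (tt N22847 F253558) (tt N22615 F253559) (tt N22362 F253560) (tt N24862 D57632) (tt N22361 F253561) (tt N22602 F253562) (tt N22754 F253563) (tt N24619 (iv F257353)) (tt N22360 (iv D56460)) (tt N22717 F253564))
theorem Q23692 : ∀ i, i < 23692 → P i := stepQ 23691 Q23691 (allL N23691 (tt N22867 F253565) (tt N22640 F253566) (tt N22426 F253567) (tt N22361 (iv D56461)) (tt N24863 D57633) (tt N22364 F253568) (tt N22764 F253569) (tt N24657 (iv F257549)) (tt N23691 F253570) (tt N22718 F253571))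
theorem Q23693 : ∀ i, i < 23693 → P i := stepQ 23692 Q23692 (allL N23692 (tt N22853 F253572) (tt N22369 F253573) (tt N24864 D57634) (tt N22362 (iv D56462)) (tt N22427 F253574) (tt N24541 (iv F256910)) (tt N22757 F253575) (tt N24861 (iv F258561)) (tt N24663 (iv F257591)) (tt N23005 F253576))
theorem Q23694 : ∀ i, i < 23694 → P i := stepQ 23693 Q23693 (allL N23693 (tt N22870 F253577) (tt N22627 F253578) (tt N22428 F253579) (tt N22363 (iv D56463)) (tt N22622 F253580) (tt N24657 (iv F257547)) (tt N23693 F253581) (tt N22364 F253582) (tt N23693 F253583) (tt N22723 F253584))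
theorem Q23695 : ∀ i, i < 23695 → P i := stepQ 23694 Q23694 (allL N23694 (tt N22393 F253585) (tt N24719 (iv F257908)) (tt N22984 F253586) (tt N24865 D57635) (tt N22366 F253587) (tt N24715 (iv F257894)) (tt N22367 F253588) (tt N22980 F253589) (tt N22365 (iv D56464)) (tt N22989 F253590))
theorem Q23696 : ∀ i, i < 23696 → P i := stepQ 23695 Q23695 (allL N23695 (tt N22396 F253591) (tt N24861 (iv F258559)) (tt N24866 D57636) (tt N22367 (iv D56465)) (tt N22462 F253592) (tt N24700 (iv F257814)) (tt N24865 (iv F258582)) (tt N22369 F253593) (tt N24671 (iv F257651)) (tt N22998 F253594))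
theorem Q23697 : ∀ i, i < 23697 → P i := stepQ 23696 Q23696 (allL N23696 (tt N22403 F253595) (tt N24541 (iv F256909)) (tt N24867 D57637) (tt N22368 (iv D56466)) (tt N24868 D57638) (tt N22369 F253596) (tt N24523 (iv F256796)) (tt N24700 (iv F257816)) (tt N24674 (iv F257669)) (tt N23008 F253597))
theorem Q23698 : ∀ i, i < 23698 → P i := stepQ 23697 Q23697 (allL N23697 (tt N22404 F253598) (tt N24869 D57639) (tt N22369 (iv D56467)) (tt N22987 F253599) (tt N22473 F253600) (tt N24867 (iv F258592)) (tt N22982 F253601) (tt N24866 (iv F258588)) (tt N24675 (iv F257673)) (tt N23009 F253602))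
theorem Q23699 : ∀ i, i < 23699 → P i := stepQ 23698 Q23698 (allL N23698 (tt N22409 F253603) (tt N24546 (iv F256935)) (tt N24474 (iv F256488)) (tt N24868 (iv F258595)) (tt N22371 (iv D56468)) (tt N22483 F253604) (tt N24525 (iv F256807)) (tt N24710 (iv F257861)) (tt N22372 F253605) (tt N23016 F253606))
theorem Q23700 : ∀ i, i < 23700 → P i := stepQ 23699 Q23699 (allL N23699 (tt N22995 F253607) (tt N24434 (iv F256223)) (tt N22898 F253608) (tt N22383 F253609) (tt N23699 F253610) (tt N22374 F253611) (tt N24677 (iv F257687)) (tt N22378 F253612) (tt N24870 D57640) (tt N22373 (iv D56469)))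
theorem Q23701 : ∀ i, i < 23701 → P i := stepQ 23700 Q23700 (allL N23700 (tt N22996 F253613) (tt N24435 (iv F256231)) (tt N24814 (iv F258374)) (tt N24871 D57641) (tt N22375 F253614) (tt N24870 (iv F258605)) (tt N24511 (iv F256714)) (tt N22379 F253615) (tt N22374 (iv D56470)) (tt N24516 (iv F256752)))
theorem Q23702 : ∀ i, i < 23702 → P i := stepQ 23701 Q23701 (allL N23701 (tt N22907 F253616) (tt N24468 (iv F256453)) (tt N22379 F253617) (tt N24872 D57642) (tt N22377 F253618) (tt N24784 (iv F258257)) (tt N22395 F253619) (tt N24814 (iv F258378)) (tt N22376 (iv D56471)) (tt N24679 (iv F257701)))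
theorem Q23703 : ∀ i, i < 23703 → P i := stepQ 23702 Q23702 (allL N23702 (tt N22918 F253620) (tt N24490 (iv F256574)) (tt N22515 F253621) (tt N22377 (iv D56472)) (tt N24873 D57643) (tt N23702 F253622) (tt N22405 F253623) (tt N24853 (iv F258520)) (tt N22411 F253624) (tt N24680 (iv F257707)))
theorem Q23704 : ∀ i, i < 23704 → P i := stepQ 23703 Q23703 (allL N23703 (tt N23006 F253625) (tt N24442 (iv F256282)) (tt N24784 (iv F258255)) (tt N24874 D57644) (tt N23703 F253626) (tt N22379 F253627) (tt N24520 (iv F256778)) (tt N24870 (iv F258606)) (tt N22378 (iv D56473)) (tt N24681 (iv F257713)))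
theorem Q23705 : ∀ i, i < 23705 → P i := stepQ 23704 Q23704 (allL N23704 (tt N23007 F253628) (tt N24443 (iv F256288)) (tt N24875 D57645) (tt N22379 (iv D56474)) (tt N22518 F253629) (tt N24874 (iv F258619)) (tt N22983 F253630) (tt N24871 (iv F258609)) (tt N22386 F253631) (tt N24682 (iv F257719)))
theorem Q23706 : ∀ i, i < 23706 → P i := stepQ 23705 Q23705 (allL N23705 (tt N22988 F253632) (tt N22935 F253633) (tt N22979 F253634) (tt N22421 F253635) (tt N23705 F253636) (tt N22381 F253637) (tt N24678 (iv F257695)) (tt N22424 F253638) (tt N24876 D57646) (tt N22380 (iv D56475)))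
theorem Q23707 : ∀ i, i < 23707 → P i := stepQ 23706 Q23706 (allL N23706 (tt N22989 F253639) (tt N24444 (iv F256294)) (tt N22980 F253640) (tt N24877 D57647) (tt N22382 F253641) (tt N24876 (iv F258629)) (tt N22384 F253642) (tt N22984 F253643) (tt N22381 (iv D56476)) (tt N22393 F253644))
theorem Q23708 : ∀ i, i < 23708 → P i := stepQ 23707 Q23707 (allL N23707 (tt N22997 F253645) (tt N24449 (iv F256334)) (tt N22727 F253646) (tt N24878 D57648) (tt N22387 F253647) (tt N22384 F253648) (tt N24679 (iv F257700)) (tt N22385 F253649) (tt N22383 (iv D56477)) (tt N22395 F253650))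
theorem Q23709 : ∀ i, i < 23709 → P i := stepQ 23708 Q23708 (allL N23708 (tt N22998 F253651) (tt N24450 (iv F256341)) (tt N24879 D57649) (tt N22384 (iv D56478)) (tt N22532 F253652) (tt N24878 (iv F258638)) (tt N24877 (iv F258634)) (tt N22386 F253653) (tt N24871 (iv F258610)) (tt N22396 F253654))
theorem Q23710 : ∀ i, i < 23710 → P i := stepQ 23709 Q23709 (allL N23709 (tt N23008 F253655) (tt N24455 (iv F256370)) (tt N24880 D57650) (tt N22385 (iv D56479)) (tt N24881 D57651) (tt N22386 F253656) (tt N24521 (iv F256784)) (tt N24878 (iv F258639)) (tt N24874 (iv F258620)) (tt N22403 F253657))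
theorem Q23711 : ∀ i, i < 23711 → P i := stepQ 23710 Q23710 (allL N23710 (tt N23009 F253658) (tt N24882 D57652) (tt N22386 (iv D56480)) (tt N22982 F253659) (tt N22545 F253660) (tt N24880 (iv F258648)) (tt N22987 F253661) (tt N24879 (iv F258644)) (tt N24875 (iv F258624)) (tt N22404 F253662))
theorem Q23712 : ∀ i, i < 23712 → P i := stepQ 23711 Q23711 (allL N23711 (tt N23014 F253663) (tt N24459 (iv F256394)) (tt N22860 F253664) (tt N22387 (iv D56481)) (tt N24883 D57653) (tt N22388 F253665) (tt N24680 (iv F257705)) (tt N22389 F253666) (tt N23711 F253667) (tt N22405 F253668))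
theorem Q23713 : ∀ i, i < 23713 → P i := stepQ 23712 Q23712 (allL N23712 (tt N23016 F253669) (tt N24463 (iv F256422)) (tt N22868 F253670) (tt N24881 (iv F258651)) (tt N22389 (iv D56482)) (tt N22559 F253671) (tt N24522 (iv F256790)) (tt N24883 (iv F258661)) (tt N23712 F253672) (tt N22409 F253673))
theorem Q23714 : ∀ i, i < 23714 → P i := stepQ 23713 Q23713 (allL N23713 (tt N22984 F253674) (tt N22436 F253675) (tt N22393 F253676) (tt N24884 D57654) (tt N22391 F253677) (tt N24520 (iv F256777)) (tt N22394 F253678) (tt N22989 F253679) (tt N22390 (iv D56483)) (tt N22980 F253680))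
theorem Q23715 : ∀ i, i < 23715 → P i := stepQ 23714 Q23714 (allL N23714 (tt N24715 (iv F257891)) (tt N22936 F253681) (tt N24520 (iv F256775)) (tt N24885 D57655) (tt N23714 F253682) (tt N22393 F253683) (tt N24784 (iv F258258)) (tt N22991 F253684) (tt N22392 (iv D56484)) (tt N24876 (iv F258631)))
theorem Q23716 : ∀ i, i < 23716 → P i := stepQ 23715 Q23715 (allL N23715 (tt N24865 (iv F258580)) (tt N24464 (iv F256428)) (tt N24886 D57656) (tt N22393 (iv D56485)) (tt N22573 F253685) (tt N24885 (iv F258672)) (tt N22396 F253686) (tt N22992 F253687) (tt N24696 (iv F257798)) (tt N24877 (iv F258636)))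
theorem Q23717 : ∀ i, i < 23717 → P i := stepQ 23716 Q23716 (allL N23716 (tt N22985 F253688) (tt N23019 F253689) (tt N24887 D57657) (tt N22394 (iv D56486)) (tt N23020 F253690) (tt N22983 F253691) (tt N24884 (iv F258667)) (tt N22400 F253692) (tt N22986 F253693) (tt N22981 F253694))
theorem Q23718 : ∀ i, i < 23718 → P i := stepQ 23717 Q23717 (allL N23717 (tt N24700 (iv F257813)) (tt N24469 (iv F256459)) (tt N24888 D57658) (tt N22395 (iv D56487)) (tt N24889 D57659) (tt N22396 F253695) (tt N24872 (iv F258612)) (tt N22403 F253696) (tt N24672 (iv F257656)) (tt N24878 (iv F258640)))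
theorem Q23719 : ∀ i, i < 23719 → P i := stepQ 23718 Q23718 (allL N23718 (tt N24866 (iv F258585)) (tt N24890 D57660) (tt N22396 (iv D56488)) (tt N24887 (iv F258679)) (tt N22594 F253697) (tt N24888 (iv F258686)) (tt N24886 (iv F258676)) (tt N22404 F253698) (tt N24697 (iv F257802)) (tt N24879 (iv F258645)))
theorem Q23720 : ∀ i, i < 23720 → P i := stepQ 23719 Q23719 (allL N23719 (tt N22811 F253699) (tt N22400 F253700) (tt N24891 D57661) (tt N22397 (iv D56489)) (tt N22986 F253701) (tt N22732 F253702) (tt N23005 F253703) (tt N23019 F253704) (tt N23020 F253705) (tt N22757 F253706))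
theorem Q23721 : ∀ i, i < 23721 → P i := stepQ 23720 Q23720 (allL N23720 (tt N22983 F253707) (tt N23020 F253708) (tt N24892 D57662) (tt N22398 (iv D56490)) (tt N23019 F253709) (tt N22985 F253710) (tt N23007 F253711) (tt N22986 F253712) (tt N22400 F253713) (tt N23000 F253714))
theorem Q23722 : ∀ i, i < 23722 → P i := stepQ 23721 Q23721 (allL N23721 (tt N22986 F253715) (tt N22732 F253716) (tt N24893 D57663) (tt N22399 (iv D56491)) (tt N22811 F253717) (tt N22400 F253718) (tt N24512 (iv F256721)) (tt N22983 F253719) (tt N22985 F253720) (tt N22728 F253721))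
theorem Q23723 : ∀ i, i < 23723 → P i := stepQ 23722 Q23722 (allL N23722 (tt N22987 F253722) (tt N24894 D57664) (tt N22400 (iv D56492)) (tt N22404 F253723) (tt N23021 F253724) (tt N24893 (iv F258710)) (tt N23009 F253725) (tt N24887 (iv F258682)) (tt N24892 (iv F258705)) (tt N22982 F253726))
theorem Q23724 : ∀ i, i < 23724 → P i := stepQ 23723 Q23723 (allL N23723 (tt N22953 F253727) (tt N22461 F253728) (tt N24511 (iv F256711)) (tt N24895 D57665) (tt N22406 F253729) (tt N22423 F253730) (tt N24814 (iv F258377)) (tt N22402 F253731) (tt N22401 (iv D56493)) (tt N24517 (iv F256759)))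
theorem Q23725 : ∀ i, i < 23725 → P i := stepQ 23724 Q23724 (allL N23724 (tt N24523 (iv F256793)) (tt N22472 F253732) (tt N24896 D57666) (tt N22402 (iv D56494)) (tt N24897 D57667) (tt N22427 F253733) (tt N22403 F253734) (tt N24895 (iv F258721)) (tt N24704 (iv F257834)) (tt N24521 (iv F256785)))
theorem Q23726 : ∀ i, i < 23726 → P i := stepQ 23725 Q23725 (allL N23725 (tt N24867 (iv F258590)) (tt N24898 D57668) (tt N22403 (iv D56495)) (tt N24893 (iv F258708)) (tt N24899 D57669) (tt N22404 F253735) (tt N24896 (iv F258724)) (tt N24888 (iv F258687)) (tt N24705 (iv F257836)) (tt N24880 (iv F258649)))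
theorem Q23727 : ∀ i, i < 23727 → P i := stepQ 23726 Q23726 (allL N23726 (tt N24868 (iv F258594)) (tt N24484 (iv F256539)) (tt N24899 (iv F258729)) (tt N22409 F253736) (tt N22403 (iv D56496)) (tt N22619 F253737) (tt N24897 (iv F258727)) (tt N24889 (iv F258690)) (tt N24706 (iv F257839)) (tt N24881 (iv F258653)))
theorem Q23728 : ∀ i, i < 23728 → P i := stepQ 23727 Q23727 (allL N23727 (tt N24900 D57670) (tt N22404 (iv D56497)) (tt N24485 (iv F256543)) (tt N24894 (iv F258714)) (tt N22620 F253738) (tt N24898 (iv F258728)) (tt N23011 F253739) (tt N24890 (iv F258692)) (tt N24707 (iv F257842)) (tt N24882 (iv F258657)))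
theorem Q23729 : ∀ i, i < 23729 → P i := stepQ 23728 Q23728 (allL N23728 (tt N24710 (iv F257857)) (tt N24492 (iv F256585)) (tt N23043 F253740) (tt N24889 (iv F258688)) (tt N22405 (iv D56498)) (tt N22631 F253741) (tt N24873 (iv F258616)) (tt N22409 F253742) (tt N22412 F253743) (tt N24883 (iv F258663)))
theorem Q23730 : ∀ i, i < 23730 → P i := stepQ 23729 Q23729 (allL N23729 (tt N22973 F253744) (tt N22478 F253745) (tt N24641 (iv F257446)) (tt N22406 (iv D56499)) (tt N24901 D57671) (tt N22410 F253746) (tt N24853 (iv F258519)) (tt N22407 F253747) (tt N22413 F253748) (tt N24518 (iv F256766)))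
theorem Q23731 : ∀ i, i < 23731 → P i := stepQ 23730 Q23730 (allL N23730 (tt N24525 (iv F256803)) (tt N22483 F253749) (tt N24624 (iv F257375)) (tt N24897 (iv F258726)) (tt N22407 (iv D56500)) (tt N24546 (iv F256937)) (tt N22409 F253750) (tt N24901 (iv F258735)) (tt N22414 F253751) (tt N24522 (iv F256792)))
theorem Q23732 : ∀ i, i < 23732 → P i := stepQ 23731 Q23731 (allL N23731 (tt N24474 (iv F256486)) (tt N24634 (iv F257425)) (tt N22409 F253752) (tt N24902 D57672) (tt N22408 (iv D56501)) (tt N22645 F253753) (tt N24624 (iv F257377)) (tt N23043 F253754) (tt N22415 F253755) (tt N22868 F253756))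
theorem Q23733 : ∀ i, i < 23733 → P i := stepQ 23732 Q23732 (allL N23732 (tt N22919 F253757) (tt N24499 (iv F256629)) (tt N22676 F253758) (tt N22895 F253759) (tt N22411 (iv D56502)) (tt N24903 D57673) (tt N22412 F253760) (tt N24433 (iv F256220)) (tt N24873 (iv F258617)) (tt N23732 F253761))
theorem Q23734 : ∀ i, i < 23734 → P i := stepQ 23733 Q23733 (allL N23733 (tt N22974 F253762) (tt N22486 F253763) (tt N24654 (iv F257529)) (tt N22972 F253764) (tt N22413 (iv D56503)) (tt N24547 (iv F256945)) (tt N24433 (iv F256219)) (tt N22414 F253765) (tt N24901 (iv F258736)) (tt N23733 F253766))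
theorem Q23735 : ∀ i, i < 23735 → P i := stepQ 23734 Q23734 (allL N23734 (tt N24506 (iv F256675)) (tt N24661 (iv F257571)) (tt N24650 (iv F257498)) (tt N22415 (iv D56504)) (tt N23135 F253767) (tt N22662 F253768) (tt N24653 (iv F257524)) (tt N23143 F253769) (tt N24904 D57674) (tt N23734 F253770))
theorem Q23736 : ∀ i, i < 23736 → P i := stepQ 23735 Q23735 (allL N23735 (tt N24511 (iv F256709)) (tt N22442 F253771) (tt N22953 F253772) (tt N24905 D57675) (tt N22417 F253773) (tt N24517 (iv F256757)) (tt N22996 F253774) (tt N22418 F253775) (tt N22416 (iv D56505)) (tt N22423 F253776))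
theorem Q23737 : ∀ i, i < 23737 → P i := stepQ 23736 Q23736 (allL N23736 (tt N24512 (iv F256717)) (tt N22444 F253777) (tt N24906 D57676) (tt N22418 (iv D56506)) (tt N23005 F253778) (tt N24521 (iv F256783)) (tt N22986 F253779) (tt N24905 (iv F258753)) (tt N24884 (iv F258669)) (tt N22427 F253780))
theorem Q23738 : ∀ i, i < 23738 → P i := stepQ 23737 Q23737 (allL N23737 (tt N24516 (iv F256747)) (tt N22454 F253781) (tt N24817 (iv F258391)) (tt N24907 D57677) (tt N22420 F253782) (tt N24686 (iv F257743)) (tt N22423 F253783) (tt N22999 F253784) (tt N22419 (iv D56507)) (tt N22996 F253785))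
theorem Q23739 : ∀ i, i < 23739 → P i := stepQ 23738 Q23738 (allL N23738 (tt N24517 (iv F256753)) (tt N22957 F253786) (tt N22423 F253787) (tt N24908 D57678) (tt N22422 F253788) (tt N24511 (iv F256713)) (tt N24817 (iv F258393)) (tt N22425 F253789) (tt N22421 (iv D56508)) (tt N22953 F253790))
theorem Q23740 : ∀ i, i < 23740 → P i := stepQ 23739 Q23739 (allL N23739 (tt N24518 (iv F256760)) (tt N22976 F253791) (tt N24657 (iv F257546)) (tt N22422 (iv D56509)) (tt N24909 D57679) (tt N22428 F253792) (tt N24854 (iv F258525)) (tt N22426 F253793) (tt N23739 F253794) (tt N22973 F253795))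
theorem Q23741 : ∀ i, i < 23741 → P i := stepQ 23740 Q23740 (allL N23740 (tt N24519 (iv F256767)) (tt N22462 F253796) (tt N24910 D57680) (tt N22423 (iv D56510)) (tt N24861 (iv F258560)) (tt N24895 (iv F258720)) (tt N24907 (iv F258760)) (tt N22427 F253797) (tt N24712 (iv F257874)) (tt N24905 (iv F258755)))
theorem Q23742 : ∀ i, i < 23742 → P i := stepQ 23741 Q23741 (allL N23741 (tt N24520 (iv F256773)) (tt N24526 (iv F256812)) (tt N24715 (iv F257892)) (tt N24911 D57681) (tt N23741 F253798) (tt N22984 F253799) (tt N23006 F253800) (tt N24876 (iv F258630)) (tt N22424 (iv D56511)) (tt N22991 F253801))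
theorem Q23743 : ∀ i, i < 23743 → P i := stepQ 23742 Q23742 (allL N23742 (tt N24521 (iv F256781)) (tt N24532 (iv F256853)) (tt N24912 D57682) (tt N22425 (iv D56512)) (tt N24913 D57683) (tt N24512 (iv F256720)) (tt N23008 F253802) (tt N24908 (iv F258764)) (tt N24911 (iv F258773)) (tt N24523 (iv F256799)))
theorem Q23744 : ∀ i, i < 23744 → P i := stepQ 23743 Q23743 (allL N23743 (tt N24522 (iv F256786)) (tt N24534 (iv F256863)) (tt N24863 (iv F258571)) (tt N24913 (iv F258777)) (tt N22426 (iv D56513)) (tt N24598 (iv F257239)) (tt N23016 F253803) (tt N24909 (iv F258767)) (tt N23743 F253804) (tt N24525 (iv F256810)))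
theorem Q23745 : ∀ i, i < 23745 → P i := stepQ 23744 Q23744 (allL N23744 (tt N24524 (iv F256800)) (tt N24914 D57684) (tt N22427 (iv D56514)) (tt N24912 (iv F258775)) (tt N24864 (iv F258577)) (tt N24896 (iv F258723)) (tt N23010 F253805) (tt N24910 (iv F258770)) (tt N24718 (iv F257906)) (tt N24906 (iv F258758)))
theorem Q23746 : ∀ i, i < 23746 → P i := stepQ 23745 Q23745 (allL N23745 (tt N22501 F253806) (tt N22988 F253807) (tt N22834 F253808) (tt N22441 F253809) (tt N23745 F253810) (tt N22430 F253811) (tt N24804 (iv F258338)) (tt N22435 F253812) (tt N24915 D57685) (tt N22429 (iv D56515)))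
theorem Q23747 : ∀ i, i < 23747 → P i := stepQ 23746 Q23746 (allL N23746 (tt N22502 F253813) (tt N22989 F253814) (tt N22836 F253815) (tt N24916 D57686) (tt N22431 F253816) (tt N24915 (iv F258785)) (tt N22994 F253817) (tt N22436 F253818) (tt N22430 (iv D56516)) (tt N24719 (iv F257913)))
theorem Q23748 : ∀ i, i < 23748 → P i := stepQ 23747 Q23747 (allL N23747 (tt N22513 F253819) (tt N22824 F253820) (tt N22435 F253821) (tt N22820 F253822) (tt N23747 F253823) (tt N22433 F253824) (tt N24439 (iv F256266)) (tt N22834 F253825) (tt N24917 D57687) (tt N22432 (iv D56517)))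
theorem Q23749 : ∀ i, i < 23749 → P i := stepQ 23748 Q23748 (allL N23748 (tt N22514 F253826) (tt N22826 F253827) (tt N22436 F253828) (tt N24918 D57688) (tt N22434 F253829) (tt N24917 (iv F258797)) (tt N23017 F253830) (tt N22836 F253831) (tt N22433 (iv D56518)) (tt N24722 (iv F257936)))
theorem Q23750 : ∀ i, i < 23750 → P i := stepQ 23749 Q23749 (allL N23749 (tt N22515 F253832) (tt N22874 F253833) (tt N22918 F253834) (tt N22434 (iv D56519)) (tt N24919 D57689) (tt N23749 F253835) (tt N23018 F253836) (tt N22878 F253837) (tt N22669 F253838) (tt N24723 (iv F257944)))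
theorem Q23751 : ∀ i, i < 23751 → P i := stepQ 23750 Q23750 (allL N23750 (tt N22517 F253839) (tt N24520 (iv F256774)) (tt N24917 (iv F258795)) (tt N24920 D57690) (tt N23750 F253840) (tt N22436 F253841) (tt N24442 (iv F256285)) (tt N24915 (iv F258786)) (tt N22435 (iv D56520)) (tt N24724 (iv F257950)))
theorem Q23752 : ∀ i, i < 23752 → P i := stepQ 23751 Q23751 (allL N23751 (tt N22518 F253842) (tt N24884 (iv F258665)) (tt N24921 D57691) (tt N22436 (iv D56521)) (tt N23007 F253843) (tt N24920 (iv F258811)) (tt N23019 F253844) (tt N24916 (iv F258791)) (tt N22444 F253845) (tt N24725 (iv F257956)))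
theorem Q23753 : ∀ i, i < 23753 → P i := stepQ 23752 Q23752 (allL N23752 (tt N22522 F253846) (tt N22995 F253847) (tt N22597 F253848) (tt N22993 F253849) (tt N23752 F253850) (tt N22438 F253851) (tt N24778 (iv F258232)) (tt N23002 F253852) (tt N24922 D57692) (tt N22437 (iv D56522)))
theorem Q23754 : ∀ i, i < 23754 → P i := stepQ 23753 Q23753 (allL N23753 (tt N22523 F253853) (tt N22996 F253854) (tt N22598 F253855) (tt N24923 D57693) (tt N22439 F253856) (tt N24922 (iv F258821)) (tt N22442 F253857) (tt N23003 F253858) (tt N22438 (iv D56523)) (tt N22454 F253859))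
theorem Q23755 : ∀ i, i < 23755 → P i := stepQ 23754 Q23754 (allL N23754 (tt N22530 F253860) (tt N24513 (iv F256725)) (tt N23098 F253861) (tt N24804 (iv F258335)) (tt N22445 F253862) (tt N24778 (iv F258231)) (tt N22441 F253863) (tt N24448 (iv F256332)) (tt N24924 D57694) (tt N22440 (iv D56524)))
theorem Q23756 : ∀ i, i < 23756 → P i := stepQ 23755 Q23755 (allL N23755 (tt N22531 F253864) (tt N24517 (iv F256754)) (tt N23091 F253865) (tt N24925 D57695) (tt N22446 F253866) (tt N22442 F253867) (tt N24924 (iv F258834)) (tt N22443 F253868) (tt N22441 (iv D56525)) (tt N22461 F253869))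
theorem Q23757 : ∀ i, i < 23757 → P i := stepQ 23756 Q23756 (allL N23756 (tt N22532 F253870) (tt N24905 (iv F258750)) (tt N24926 D57696) (tt N22442 (iv D56526)) (tt N22998 F253871) (tt N24925 (iv F258837)) (tt N24923 (iv F258827)) (tt N22444 F253872) (tt N24916 (iv F258792)) (tt N22462 F253873))
theorem Q23758 : ∀ i, i < 23758 → P i := stepQ 23757 Q23757 (allL N23757 (tt N22544 F253874) (tt N24521 (iv F256782)) (tt N24927 D57697) (tt N22443 (iv D56527)) (tt N24928 D57698) (tt N22444 F253875) (tt N24455 (iv F256372)) (tt N24925 (iv F258838)) (tt N24920 (iv F258812)) (tt N22472 F253876))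
theorem Q23759 : ∀ i, i < 23759 → P i := stepQ 23758 Q23758 (allL N23758 (tt N22545 F253877) (tt N24929 D57699) (tt N22444 (iv D56528)) (tt N23113 F253878) (tt N23009 F253879) (tt N24927 (iv F258847)) (tt N23021 F253880) (tt N24926 (iv F258843)) (tt N24921 (iv F258816)) (tt N22473 F253881))
theorem Q23760 : ∀ i, i < 23760 → P i := stepQ 23759 Q23759 (allL N23759 (tt N22550 F253882) (tt N24514 (iv F256733)) (tt N23124 F253883) (tt N24930 D57700) (tt N24924 (iv F258833)) (tt N23759 F253884) (tt N22446 F253885) (tt N24458 (iv F256391)) (tt N22445 (iv D56529)) (tt N22477 F253886))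
theorem Q23761 : ∀ i, i < 23761 → P i := stepQ 23760 Q23760 (allL N23760 (tt N22551 F253887) (tt N24518 (iv F256761)) (tt N24931 D57701) (tt N22446 (iv D56530)) (tt N24932 D57702) (tt N22447 F253888) (tt N24930 (iv F258859)) (tt N22448 F253889) (tt N23760 F253890) (tt N22478 F253891))
theorem Q23762 : ∀ i, i < 23762 → P i := stepQ 23761 Q23761 (allL N23761 (tt N22552 F253892) (tt N24457 (iv F256379)) (tt N22447 (iv D56531)) (tt N22762 F253893) (tt N22761 F253894) (tt N24931 (iv F258864)) (tt N23761 F253895) (tt N22449 F253896) (tt N23761 F253897) (tt N22479 F253898))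
theorem Q23763 : ∀ i, i < 23763 → P i := stepQ 23762 Q23762 (allL N23762 (tt N22558 F253899) (tt N24461 (iv F256408)) (tt N22448 (iv D56532)) (tt N22765 F253900) (tt N24933 D57703) (tt N22449 F253901) (tt N24462 (iv F256418)) (tt N24931 (iv F258865)) (tt N23762 F253902) (tt N22482 F253903))
theorem Q23764 : ∀ i, i < 23764 → P i := stepQ 23763 Q23763 (allL N23763 (tt N22559 F253904) (tt N24522 (iv F256787)) (tt N24933 (iv F258874)) (tt N24928 (iv F258850)) (tt N22448 (iv D56533)) (tt N23016 F253905) (tt N24463 (iv F256424)) (tt N24932 (iv F258870)) (tt N23763 F253906) (tt N22483 F253907))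
theorem Q23765 : ∀ i, i < 23765 → P i := stepQ 23764 Q23764 (allL N23764 (tt N22568 F253908) (tt N22606 F253909) (tt N22453 F253910) (tt N22846 F253911) (tt N23764 F253912) (tt N22451 F253913) (tt N24762 (iv F258149)) (tt N22841 F253914) (tt N24934 D57704) (tt N22450 (iv D56534)))
theorem Q23766 : ∀ i, i < 23766 → P i := stepQ 23765 Q23765 (allL N23765 (tt N22569 F253915) (tt N22608 F253916) (tt N22454 F253917) (tt N24935 D57705) (tt N22452 F253918) (tt N24934 (iv F258882)) (tt N22459 F253919) (tt N23022 F253920) (tt N22451 (iv D56535)) (tt N22598 F253921))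
theorem Q23767 : ∀ i, i < 23767 → P i := stepQ 23766 Q23766 (allL N23766 (tt N22572 F253922) (tt N24686 (iv F257741)) (tt N24934 (iv F258880)) (tt N24936 D57706) (tt N23766 F253923) (tt N22454 F253924) (tt N24779 (iv F258238)) (tt N23023 F253925) (tt N22453 (iv D56536)) (tt N24922 (iv F258823)))
theorem Q23768 : ∀ i, i < 23768 → P i := stepQ 23767 Q23767 (allL N23767 (tt N22573 F253926) (tt N24907 (iv F258759)) (tt N24937 D57707) (tt N22454 (iv D56537)) (tt N24865 (iv F258581)) (tt N24936 (iv F258892)) (tt N22462 F253927) (tt N23024 F253928) (tt N24739 (iv F258032)) (tt N24923 (iv F258830)))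
theorem Q23769 : ∀ i, i < 23769 → P i := stepQ 23768 Q23768 (allL N23768 (tt N22583 F253929) (tt N23061 F253930) (tt N24600 (iv F257251)) (tt N22458 F253931) (tt N23768 F253932) (tt N22456 F253933) (tt N24763 (iv F258157)) (tt N22467 F253934) (tt N24938 D57708) (tt N22455 (iv D56538)))
theorem Q23770 : ∀ i, i < 23770 → P i := stepQ 23769 Q23769 (allL N23769 (tt N22585 F253935) (tt N23063 F253936) (tt N24611 (iv F257306)) (tt N24939 D57709) (tt N22488 F253937) (tt N24938 (iv F258900)) (tt N24628 (iv F257401)) (tt N22469 F253938) (tt N22456 (iv D56539)) (tt N23056 F253939))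
theorem Q23771 : ∀ i, i < 23771 → P i := stepQ 23770 Q23770 (allL N23770 (tt N22587 F253940) (tt N23102 F253941) (tt N22460 F253942) (tt N24763 (iv F258154)) (tt N22474 F253943) (tt N24762 (iv F258148)) (tt N22458 F253944) (tt N24436 (iv F256244)) (tt N24940 D57710) (tt N22457 (iv D56540)))
theorem Q23772 : ∀ i, i < 23772 → P i := stepQ 23771 Q23771 (allL N23771 (tt N22588 F253945) (tt N23104 F253946) (tt N22461 F253947) (tt N24941 D57711) (tt N22475 F253948) (tt N22459 F253949) (tt N24940 (iv F258913)) (tt N22470 F253950) (tt N22458 (iv D56541)) (tt N23091 F253951))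
theorem Q23773 : ∀ i, i < 23773 → P i := stepQ 23772 Q23772 (allL N23772 (tt N22589 F253952) (tt N23106 F253953) (tt N24942 D57712) (tt N22459 (iv D56542)) (tt N23051 F253954) (tt N24941 (iv F258917)) (tt N24935 (iv F258888)) (tt N22471 F253955) (tt N24939 (iv F258907)) (tt N23090 F253956))
theorem Q23774 : ∀ i, i < 23774 → P i := stepQ 23773 Q23773 (allL N23773 (tt N22592 F253957) (tt N24814 (iv F258373)) (tt N24940 (iv F258911)) (tt N24943 D57713) (tt N22477 F253958) (tt N24779 (iv F258237)) (tt N22461 F253959) (tt N24468 (iv F256457)) (tt N22460 (iv D56543)) (tt N24924 (iv F258835)))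
theorem Q23775 : ∀ i, i < 23775 → P i := stepQ 23774 Q23774 (allL N23774 (tt N22593 F253960) (tt N24895 (iv F258719)) (tt N24944 D57714) (tt N22461 (iv D56544)) (tt N24945 D57715) (tt N22462 F253961) (tt N24943 (iv F258926)) (tt N22472 F253962) (tt N24742 (iv F258047)) (tt N24925 (iv F258839)))
theorem Q23776 : ∀ i, i < 23776 → P i := stepQ 23775 Q23775 (allL N23775 (tt N22594 F253963) (tt N24946 D57716) (tt N22462 (iv D56545)) (tt N24942 (iv F258921)) (tt N24866 (iv F258587)) (tt N24944 (iv F258928)) (tt N24937 (iv F258895)) (tt N22473 F253964) (tt N24743 (iv F258050)) (tt N24926 (iv F258844)))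
theorem Q23777 : ∀ i, i < 23777 → P i := stepQ 23776 Q23776 (allL N23776 (tt N24471 (iv F256465)) (tt N22587 F253965) (tt N22464 F253966) (tt N22842 F253967) (tt N22490 F253968) (tt N22805 F253969) (tt N22578 F253970) (tt N23040 F253971) (tt N24947 D57717) (tt N22463 (iv D56546)))
theorem Q23778 : ∀ i, i < 23778 → P i := stepQ 23777 Q23777 (allL N23777 (tt N24581 (iv F257143)) (tt N22469 F253972) (tt N24947 (iv F258935)) (tt N24948 D57718) (tt N22491 F253973) (tt N24529 (iv F256834)) (tt N23029 F253974) (tt N23063 F253975) (tt N22464 (iv D56547)) (tt N23050 F253976))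
theorem Q23779 : ∀ i, i < 23779 → P i := stepQ 23778 Q23778 (allL N23778 (tt N24584 (iv F257160)) (tt N22471 F253977) (tt N24949 D57719) (tt N22465 (iv D56548)) (tt N23058 F253978) (tt N24530 (iv F256840)) (tt N23030 F253979) (tt N23106 F253980) (tt N24948 (iv F258945)) (tt N23087 F253981))
theorem Q23780 : ∀ i, i < 23780 → P i := stepQ 23779 Q23779 (allL N23779 (tt N22606 F253982) (tt N22784 F253983) (tt N24567 (iv F257065)) (tt N22782 F253984) (tt N23779 F253985) (tt N22468 F253986) (tt N24475 (iv F256500)) (tt N23055 F253987) (tt N24950 D57720) (tt N22466 (iv D56549)))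
theorem Q23781 : ∀ i, i < 23781 → P i := stepQ 23780 Q23780 (allL N23780 (tt N22607 F253988) (tt N24529 (iv F256831)) (tt N24601 (iv F257259)) (tt N24951 D57721) (tt N23780 F253989) (tt N22469 F253990) (tt N24476 (iv F256507)) (tt N24938 (iv F258901)) (tt N22467 (iv D56550)) (tt N24950 (iv F258956)))
theorem Q23782 : ∀ i, i < 23782 → P i := stepQ 23781 Q23781 (allL N23781 (tt N22608 F253991) (tt N23050 F253992) (tt N24575 (iv F257111)) (tt N24952 D57722) (tt N22492 F253993) (tt N24950 (iv F258954)) (tt N23031 F253994) (tt N23056 F253995) (tt N22468 (iv D56551)) (tt N22469 F253996))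
theorem Q23783 : ∀ i, i < 23783 → P i := stepQ 23782 Q23782 (allL N23782 (tt N22609 F253997) (tt N24948 (iv F258941)) (tt N24953 D57723) (tt N22469 (iv D56552)) (tt N23064 F253998) (tt N24951 (iv F258958)) (tt N23032 F253999) (tt N24939 (iv F258906)) (tt N22471 F254000) (tt N24952 (iv F258966)))
theorem Q23784 : ∀ i, i < 23784 → P i := stepQ 23783 Q23783 (allL N23783 (tt N22612 F254001) (tt N24530 (iv F256839)) (tt N24954 D57724) (tt N22470 (iv D56553)) (tt N24955 D57725) (tt N22471 F254002) (tt N24479 (iv F256522)) (tt N24941 (iv F258918)) (tt N24951 (iv F258959)) (tt N23114 F254003))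
theorem Q23785 : ∀ i, i < 23785 → P i := stepQ 23784 Q23784 (allL N23784 (tt N22613 F254004) (tt N24956 D57726) (tt N22471 (iv D56554)) (tt N22473 F254005) (tt N23068 F254006) (tt N24954 (iv F258973)) (tt N23033 F254007) (tt N24942 (iv F258923)) (tt N24953 (iv F258970)) (tt N23113 F254008))
theorem Q23786 : ∀ i, i < 23786 → P i := stepQ 23785 Q23785 (allL N23785 (tt N22618 F254009) (tt N24957 D57727) (tt N22472 (iv D56555)) (tt N24954 (iv F258972)) (tt N24958 D57728) (tt N22473 F254010) (tt N24483 (iv F256537)) (tt N24944 (iv F258929)) (tt N24751 (iv F258081)) (tt N24927 (iv F258848)))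
theorem Q23787 : ∀ i, i < 23787 → P i := stepQ 23786 Q23786 (allL N23786 (tt N22619 F254011) (tt N24897 (iv F258725)) (tt N24958 (iv F258985)) (tt N22483 F254012) (tt N22472 (iv D56556)) (tt N24868 (iv F258596)) (tt N24484 (iv F256542)) (tt N24945 (iv F258932)) (tt N24752 (iv F258084)) (tt N24928 (iv F258852)))
theorem Q23788 : ∀ i, i < 23788 → P i := stepQ 23787 Q23787 (allL N23787 (tt N24959 D57729) (tt N22473 (iv D56557)) (tt N24914 (iv F258779)) (tt N24956 (iv F258979)) (tt N24869 (iv F258599)) (tt N24957 (iv F258983)) (tt N23034 F254013) (tt N24946 (iv F258933)) (tt N24753 (iv F258086)) (tt N24929 (iv F258856)))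
theorem Q23789 : ∀ i, i < 23789 → P i := stepQ 23788 Q23788 (allL N23788 (tt N22624 F254014) (tt N23147 F254015) (tt N22477 F254016) (tt N24960 D57730) (tt N24940 (iv F258912)) (tt N23788 F254017) (tt N22475 F254018) (tt N24437 (iv F256250)) (tt N22474 (iv D56558)) (tt N23124 F254019))
theorem Q23790 : ∀ i, i < 23790 → P i := stepQ 23789 Q23789 (allL N23789 (tt N22625 F254020) (tt N23149 F254021) (tt N24961 D57731) (tt N22475 (iv D56559)) (tt N24962 D57732) (tt N22476 F254022) (tt N24960 (iv F258991)) (tt N22480 F254023) (tt N23789 F254024) (tt N23123 F254025))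
theorem Q23791 : ∀ i, i < 23791 → P i := stepQ 23790 Q23790 (allL N23790 (tt N22626 F254026) (tt N24488 (iv F256561)) (tt N22476 (iv D56560)) (tt N22479 F254027) (tt N22733 F254028) (tt N24961 (iv F258996)) (tt N23790 F254029) (tt N22481 F254030) (tt N23790 F254031) (tt N22762 F254032))
theorem Q23792 : ∀ i, i < 23792 → P i := stepQ 23791 Q23791 (allL N23791 (tt N22629 F254033) (tt N24853 (iv F258516)) (tt N24963 D57733) (tt N22477 (iv D56561)) (tt N24964 D57734) (tt N23791 F254034) (tt N22478 F254035) (tt N24490 (iv F256577)) (tt N22484 F254036) (tt N24930 (iv F258861)))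
theorem Q23793 : ∀ i, i < 23793 → P i := stepQ 23792 Q23792 (allL N23792 (tt N22630 F254037) (tt N24489 (iv F256569)) (tt N22478 (iv D56562)) (tt N24961 (iv F258995)) (tt N24965 D57735) (tt N22479 F254038) (tt N24963 (iv F259008)) (tt N22482 F254039) (tt N22485 F254040) (tt N24931 (iv F258867)))
theorem Q23794 : ∀ i, i < 23794 → P i := stepQ 23793 Q23793 (allL N23793 (tt N22631 F254041) (tt N24901 (iv F258734)) (tt N24965 (iv F259014)) (tt N24945 (iv F258931)) (tt N22478 (iv D56563)) (tt N24710 (iv F257859)) (tt N24964 (iv F259011)) (tt N22483 F254042) (tt N22486 F254043) (tt N24932 (iv F258872)))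
theorem Q23795 : ∀ i, i < 23795 → P i := stepQ 23794 Q23794 (allL N23794 (tt N22638 F254044) (tt N24495 (iv F256602)) (tt N22480 (iv D56564)) (tt N22482 F254045) (tt N24966 D57736) (tt N22481 F254046) (tt N24493 (iv F256593)) (tt N24961 (iv F258997)) (tt N23794 F254047) (tt N22765 F254048))
theorem Q23796 : ∀ i, i < 23796 → P i := stepQ 23795 Q23795 (allL N23795 (tt N22639 F254049) (tt N24531 (iv F256845)) (tt N24966 (iv F259019)) (tt N24955 (iv F258976)) (tt N22480 (iv D56565)) (tt N23078 F254050) (tt N24494 (iv F256598)) (tt N24962 (iv F259003)) (tt N23795 F254051) (tt N23130 F254052))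
theorem Q23797 : ∀ i, i < 23797 → P i := stepQ 23796 Q23796 (allL N23796 (tt N22645 F254053) (tt N24482 (iv F256531)) (tt N22483 F254054) (tt N24967 D57737) (tt N22482 (iv D56566)) (tt N24474 (iv F256489)) (tt N24497 (iv F256619)) (tt N24965 (iv F259016)) (tt N22487 F254055) (tt N24933 (iv F258877)))
theorem Q23798 : ∀ i, i < 23798 → P i := stepQ 23797 Q23797 (allL N23797 (tt N22652 F254056) (tt N24510 (iv F256703)) (tt N22484 (iv D56567)) (tt N23797 F254057) (tt N24968 D57738) (tt N23797 F254058) (tt N22485 F254059) (tt N24498 (iv F256626)) (tt N24963 (iv F259009)) (tt N23797 F254060))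
theorem Q23799 : ∀ i, i < 23799 → P i := stepQ 23798 Q23798 (allL N23798 (tt N22653 F254061) (tt N24433 (iv F256216)) (tt N24968 (iv F259025)) (tt N24432 (iv F256210)) (tt N22484 (iv D56568)) (tt N24969 D57739) (tt N22486 F254062) (tt N24499 (iv F256632)) (tt N24964 (iv F259012)) (tt N23798 F254063))
theorem Q23800 : ∀ i, i < 23800 → P i := stepQ 23799 Q23799 (allL N23799 (tt N22655 F254064) (tt N24503 (iv F256655)) (tt N22486 F254065) (tt N24860 (iv F258554)) (tt N22485 (iv D56569)) (tt N23132 F254066) (tt N24968 (iv F259026)) (tt N22487 F254067) (tt N24965 (iv F259017)) (tt N23799 F254068))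
theorem Q23801 : ∀ i, i < 23801 → P i := stepQ 23800 Q23800 (allL N23800 (tt N22662 F254069) (tt N24509 (iv F256696)) (tt N24759 (iv F258123)) (tt N22487 (iv D56570)) (tt N23800 F254070) (tt N24506 F256682) (tt N24502 (iv F256651)) (tt N24860 (iv F258556)) (tt N24970 D57740) (tt N23800 F254071))
theorem Q23802 : ∀ i, i < 23802 → P i := stepQ 23801 Q23801 (allL N23801 (tt N22491 F254072) (tt N22520 F254073) (tt N24504 (iv F256663)) (tt N22663 F254074) (tt N24581 (iv F257145)) (tt N23801 F254075) (tt N22525 F254076) (tt N22664 F254077) (tt N22489 (iv D56571)) (tt N22565 F254078))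
theorem Q23803 : ∀ i, i < 23803 → P i := stepQ 23802 Q23802 (allL N23802 (tt N24504 (iv F256661)) (tt N22624 F254079) (tt N22491 F254080) (tt N24971 D57741) (tt N24947 (iv F258936)) (tt N23802 F254081) (tt N22621 F254082) (tt N23141 F254083) (tt N22490 (iv D56572)) (tt N23134 F254084))
theorem Q23804 : ∀ i, i < 23804 → P i := stepQ 23803 Q23803 (allL N23803 (tt N22994 F254085) (tt N23069 F254086) (tt N24616 (iv F257329)) (tt N24972 D57742) (tt N22494 F254087) (tt N24588 (iv F257183)) (tt N22502 F254088) (tt N22810 F254089) (tt N22493 (iv D56573)) (tt N22852 F254090))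
theorem Q23805 : ∀ i, i < 23805 → P i := stepQ 23804 Q23804 (allL N23804 (tt N22749 F254091) (tt N22498 F254092) (tt N24548 (iv F256951)) (tt N22539 F254093) (tt N22496 F254094) (tt N23060 F254095) (tt N22536 F254096) (tt N22507 F254097) (tt N24973 D57743) (tt N22495 (iv D56574)))
theorem Q23806 : ∀ i, i < 23806 → P i := stepQ 23805 Q23805 (allL N23805 (tt N22772 F254098) (tt N22499 F254099) (tt N24549 (iv F256959)) (tt N24642 (iv F257454)) (tt N24973 (iv F259050)) (tt N23805 F254100) (tt N23119 F254101) (tt N22508 F254102) (tt N22496 (iv D56575)) (tt N24558 (iv F257026)))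
theorem Q23807 : ∀ i, i < 23807 → P i := stepQ 23806 Q23806 (allL N23806 (tt N22834 F254103) (tt N23060 F254104) (tt N22501 F254105) (tt N22832 F254106) (tt N23806 F254107) (tt N22498 F254108) (tt N23055 F254109) (tt N22513 F254110) (tt N24974 D57744) (tt N22497 (iv D56576)))
theorem Q23808 : ∀ i, i < 23808 → P i := stepQ 23807 Q23807 (allL N23807 (tt N22836 F254111) (tt N24973 (iv F259049)) (tt N22502 F254112) (tt N24975 D57745) (tt N22499 F254113) (tt N24974 (iv F259058)) (tt N24616 (iv F257332)) (tt N22514 F254114) (tt N22498 (iv D56577)) (tt N24764 (iv F258164)))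
theorem Q23809 : ∀ i, i < 23809 → P i := stepQ 23808 Q23808 (allL N23808 (tt N22878 F254115) (tt N24642 (iv F257453)) (tt N24853 (iv F258517)) (tt N22499 (iv D56578)) (tt N24656 (iv F257542)) (tt N23808 F254116) (tt N24641 F257451) (tt N22515 F254117) (tt N22671 F254118) (tt N24765 (iv F258170)))
theorem Q23810 : ∀ i, i < 23810 → P i := stepQ 23809 Q23809 (allL N23809 (tt N24804 (iv F258332)) (tt N24554 (iv F256994)) (tt N23055 F254119) (tt N22530 F254120) (tt N23809 F254121) (tt N23054 F254122) (tt N22501 F254123) (tt N24567 (iv F257070)) (tt N24976 D57746) (tt N22500 (iv D56579)))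
theorem Q23811 : ∀ i, i < 23811 → P i := stepQ 23810 Q23810 (allL N23810 (tt N24915 (iv F258781)) (tt N24555 (iv F257002)) (tt N24974 (iv F259056)) (tt N24977 D57747) (tt N23810 F254124) (tt N22502 F254125) (tt N24976 (iv F259067)) (tt N22517 F254126) (tt N22501 (iv D56580)) (tt N24766 (iv F258175)))
theorem Q23812 : ∀ i, i < 23812 → P i := stepQ 23811 Q23811 (allL N23811 (tt N24916 (iv F258787)) (tt N24556 (iv F257007)) (tt N24978 D57748) (tt N22502 (iv D56581)) (tt N24871 (iv F258608)) (tt N24977 (iv F259068)) (tt N24972 (iv F259044)) (tt N22518 F254127) (tt N22532 F254128) (tt N24767 (iv F258180)))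
theorem Q23813 : ∀ i, i < 23813 → P i := stepQ 23812 Q23812 (allL N23812 (tt N22507 F254129) (tt N22743 F254130) (tt N24557 (iv F257014)) (tt N22740 F254131) (tt N22504 F254132) (tt N24445 (iv F256306)) (tt N23035 F254133) (tt N22749 F254134) (tt N24979 D57749) (tt N22503 (iv D56582)))
theorem Q23814 : ∀ i, i < 23814 → P i := stepQ 23813 Q23813 (allL N23813 (tt N22508 F254135) (tt N22769 F254136) (tt N24558 (iv F257022)) (tt N24980 D57750) (tt N24979 (iv F259075)) (tt N23813 F254137) (tt N23036 F254138) (tt N22772 F254139) (tt N22504 (iv D56583)) (tt N24549 (iv F256963)))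
theorem Q23815 : ∀ i, i < 23815 → P i := stepQ 23814 Q23814 (allL N23814 (tt N22740 F254140) (tt N22511 F254141) (tt N22542 F254142) (tt N22507 F254143) (tt N22553 F254144) (tt N23065 F254145) (tt N23037 F254146) (tt N22539 F254147) (tt N24981 D57751) (tt N22505 (iv D56584)))
theorem Q23816 : ∀ i, i < 23816 → P i := stepQ 23815 Q23815 (allL N23815 (tt N24445 (iv F256301)) (tt N22513 F254148) (tt N24451 (iv F256347)) (tt N23065 F254149) (tt N23815 F254150) (tt N22507 F254151) (tt N24550 (iv F256970)) (tt N23060 F254152) (tt N24982 D57752) (tt N22506 (iv D56585)))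
theorem Q23817 : ∀ i, i < 23817 → P i := stepQ 23816 Q23816 (allL N23816 (tt N24979 (iv F259073)) (tt N22514 F254153) (tt N24559 (iv F257028)) (tt N24983 D57753) (tt N22508 F254154) (tt N24982 (iv F259094)) (tt N23038 F254155) (tt N24973 (iv F259053)) (tt N22507 (iv D56586)) (tt N24768 (iv F258185)))
theorem Q23818 : ∀ i, i < 23818 → P i := stepQ 23817 Q23817 (allL N23817 (tt N24980 (iv F259078)) (tt N22515 F254156) (tt N24984 D57754) (tt N22508 (iv D56587)) (tt N24985 D57755) (tt N23817 F254157) (tt N23039 F254158) (tt N24642 (iv F257456)) (tt N22674 F254159) (tt N24769 (iv F258190)))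
theorem Q23819 : ∀ i, i < 23819 → P i := stepQ 23818 Q23818 (allL N23818 (tt N22820 F254160) (tt N23065 F254161) (tt N22536 F254162) (tt N22513 F254163) (tt N22856 F254164) (tt N22511 F254165) (tt N24548 (iv F256955)) (tt N22832 F254166) (tt N24986 D57756) (tt N22509 (iv D56588)))
theorem Q23820 : ∀ i, i < 23820 → P i := stepQ 23819 Q23819 (allL N23819 (tt N22793 F254167) (tt N22610 F254168) (tt N22537 F254169) (tt N24770 (iv F258194)) (tt N22633 F254170) (tt N23035 F254171) (tt N23040 F254172) (tt N22599 F254173) (tt N24987 D57757) (tt N22510 (iv D56589)))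
theorem Q23821 : ∀ i, i < 23821 → P i := stepQ 23820 Q23820 (allL N23820 (tt N22821 F254174) (tt N24981 (iv F259085)) (tt N22538 F254175) (tt N24988 D57758) (tt N22675 F254176) (tt N24986 (iv F259108)) (tt N23041 F254177) (tt N22833 F254178) (tt N22511 (iv D56590)) (tt N24987 (iv F259118)))
theorem Q23822 : ∀ i, i < 23822 → P i := stepQ 23821 Q23821 (allL N23821 (tt N24439 (iv F256260)) (tt N24550 (iv F256965)) (tt N22516 F254179) (tt N24548 (iv F256952)) (tt N23821 F254180) (tt N22789 F254181) (tt N22513 F254182) (tt N24475 (iv F256501)) (tt N24989 D57759) (tt N22512 (iv D56591)))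
theorem Q23823 : ∀ i, i < 23823 → P i := stepQ 23822 Q23822 (allL N23822 (tt N24917 (iv F258793)) (tt N24982 (iv F259092)) (tt N22517 F254183) (tt N24990 D57760) (tt N23822 F254184) (tt N22514 F254185) (tt N24989 (iv F259126)) (tt N24974 (iv F259060)) (tt N22513 (iv D56592)) (tt N24772 (iv F258206)))
theorem Q23824 : ∀ i, i < 23824 → P i := stepQ 23823 Q23823 (allL N23823 (tt N24918 (iv F258799)) (tt N24983 (iv F259096)) (tt N24991 D57761) (tt N22514 (iv D56593)) (tt N24992 D57762) (tt N24990 (iv F259128)) (tt N23042 F254186) (tt N24975 (iv F259062)) (tt N24988 (iv F259122)) (tt N24773 (iv F258208)))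
theorem Q23825 : ∀ i, i < 23825 → P i := stepQ 23824 Q23824 (allL N23824 (tt N24919 (iv F258804)) (tt N24985 (iv F259101)) (tt N24873 (iv F258615)) (tt N24992 (iv F259131)) (tt N22515 (iv D56594)) (tt N24993 D57763) (tt N23043 F254187) (tt N24656 (iv F257543)) (tt N22676 F254188) (tt N24774 (iv F258211)))
theorem Q23826 : ∀ i, i < 23826 → P i := stepQ 23825 Q23825 (allL N23825 (tt N24442 (iv F256281)) (tt N23047 F254189) (tt N24989 (iv F259123)) (tt N24994 D57764) (tt N23825 F254190) (tt N22791 F254191) (tt N22517 F254192) (tt N24568 (iv F257074)) (tt N22516 (iv D56595)) (tt N22818 F254193))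
theorem Q23827 : ∀ i, i < 23827 → P i := stepQ 23826 Q23826 (allL N23826 (tt N24920 (iv F258810)) (tt N24565 (iv F257055)) (tt N24995 D57765) (tt N22517 (iv D56596)) (tt N24996 D57766) (tt N22518 F254194) (tt N24994 (iv F259137)) (tt N24977 (iv F259069)) (tt N22544 F254195) (tt N24775 (iv F258216)))
theorem Q23828 : ∀ i, i < 23828 → P i := stepQ 23827 Q23827 (allL N23827 (tt N24921 (iv F258813)) (tt N24997 D57767) (tt N22518 (iv D56597)) (tt N24991 (iv F259129)) (tt N24875 (iv F258622)) (tt N24995 (iv F259140)) (tt N23044 F254196) (tt N24978 (iv F259071)) (tt N22545 F254197) (tt N24776 (iv F258219)))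
theorem Q23829 : ∀ i, i < 23829 → P i := stepQ 23828 Q23828 (allL N23828 (tt N22598 F254198) (tt N24581 (iv F257144)) (tt N22523 F254199) (tt N24998 D57768) (tt N22520 F254200) (tt N24578 (iv F257127)) (tt N22528 F254201) (tt N23046 F254202) (tt N22519 (iv D56598)) (tt N22569 F254203))
theorem Q23830 : ∀ i, i < 23830 → P i := stepQ 23829 Q23829 (allL N23829 (tt N24778 (iv F258226)) (tt N24567 (iv F257064)) (tt N22800 F254204) (tt N23054 F254205) (tt N23829 F254206) (tt N22530 F254207) (tt N22522 F254208) (tt N24554 (iv F257000)) (tt N24999 D57769) (tt N22521 (iv D56599)))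
theorem Q23831 : ∀ i, i < 23831 → P i := stepQ 23830 Q23830 (allL N23830 (tt N24922 (iv F258817)) (tt N24568 (iv F257071)) (tt N24578 (iv F257125)) (tt N25000 D57770) (tt N23830 F254209) (tt N22523 F254210) (tt N24999 (iv F259155)) (tt N23047 F254211) (tt N22522 (iv D56600)) (tt N22572 F254212))
theorem Q23832 : ∀ i, i < 23832 → P i := stepQ 23831 Q23831 (allL N23831 (tt N24923 (iv F258824)) (tt N24569 (iv F257076)) (tt N25001 D57771) (tt N22523 (iv D56601)) (tt N24877 (iv F258633)) (tt N25000 (iv F259157)) (tt N22532 F254213) (tt N23048 F254214) (tt N24972 (iv F259046)) (tt N22573 F254215))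
theorem Q23833 : ∀ i, i < 23833 → P i := stepQ 23832 Q23832 (allL N23832 (tt N23029 F254216) (tt N22528 F254217) (tt N24570 (iv F257083)) (tt N25002 D57772) (tt N22525 F254218) (tt N24604 (iv F257272)) (tt N24581 (iv F257147)) (tt N22534 F254219) (tt N22524 (iv D56602)) (tt N22579 F254220))
theorem Q23834 : ∀ i, i < 23834 → P i := stepQ 23833 Q23833 (allL N23833 (tt N23098 F254221) (tt N22804 F254222) (tt N22530 F254223) (tt N22801 F254224) (tt N22546 F254225) (tt N22800 F254226) (tt N22527 F254227) (tt N23037 F254228) (tt N25003 D57773) (tt N22526 (iv D56603)))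
theorem Q23835 : ∀ i, i < 23835 → P i := stepQ 23834 Q23834 (allL N23834 (tt N23091 F254229) (tt N24604 (iv F257269)) (tt N22531 F254230) (tt N25004 D57774) (tt N22547 F254231) (tt N22528 F254232) (tt N25003 (iv F259174)) (tt N22540 F254233) (tt N22527 (iv D56604)) (tt N22588 F254234))
theorem Q23836 : ∀ i, i < 23836 → P i := stepQ 23835 Q23835 (allL N23835 (tt N23090 F254235) (tt N25002 (iv F259164)) (tt N25005 D57775) (tt N22528 (iv D56605)) (tt N23026 F254236) (tt N25004 (iv F259178)) (tt N24998 (iv F259148)) (tt N22541 F254237) (tt N23097 F254238) (tt N22589 F254239))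
theorem Q23837 : ∀ i, i < 23837 → P i := stepQ 23836 Q23836 (allL N23836 (tt N24448 (iv F256325)) (tt N23054 F254240) (tt N23037 F254241) (tt N24567 (iv F257066)) (tt N22549 F254242) (tt N24554 (iv F256998)) (tt N22542 F254243) (tt N22530 F254244) (tt N25006 D57776) (tt N22529 (iv D56606)))
theorem Q23838 : ∀ i, i < 23838 → P i := stepQ 23837 Q23837 (allL N23837 (tt N24924 (iv F258831)) (tt N24575 (iv F257110)) (tt N25003 (iv F259171)) (tt N25007 D57777) (tt N22550 F254245) (tt N24999 (iv F259154)) (tt N22531 F254246) (tt N25006 (iv F259192)) (tt N22530 (iv D56607)) (tt N22592 F254247))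
theorem Q23839 : ∀ i, i < 23839 → P i := stepQ 23838 Q23838 (allL N23838 (tt N24925 (iv F258836)) (tt N24576 (iv F257117)) (tt N25008 D57778) (tt N22531 (iv D56608)) (tt N25009 D57779) (tt N22532 F254248) (tt N25007 (iv F259194)) (tt N22544 F254249) (tt N24977 (iv F259070)) (tt N22593 F254250))
theorem Q23840 : ∀ i, i < 23840 → P i := stepQ 23839 Q23839 (allL N23839 (tt N24926 (iv F258840)) (tt N25010 D57780) (tt N22532 (iv D56609)) (tt N25005 (iv F259183)) (tt N24879 (iv F258643)) (tt N25008 (iv F259196)) (tt N25001 (iv F259160)) (tt N22545 F254251) (tt N24978 (iv F259072)) (tt N22594 F254252))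
theorem Q23841 : ∀ i, i < 23841 → P i := stepQ 23840 Q23840 (allL N23840 (tt N23025 F254253) (tt N22538 F254254) (tt N24588 (iv F257181)) (tt N25011 D57781) (tt N22677 F254255) (tt N24616 (iv F257331)) (tt N23056 F254256) (tt N23028 F254257) (tt N22533 (iv D56610)) (tt N24628 (iv F257403)))
theorem Q23842 : ∀ i, i < 23842 → P i := stepQ 23841 Q23841 (allL N23841 (tt N24621 (iv F257360)) (tt N22541 F254258) (tt N25012 D57782) (tt N22534 (iv D56611)) (tt N23030 F254259) (tt N24617 (iv F257337)) (tt N23058 F254260) (tt N25002 (iv F259166)) (tt N25011 (iv F259209)) (tt N22601 F254261))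
theorem Q23843 : ∀ i, i < 23843 → P i := stepQ 23842 Q23842 (allL N23842 (tt N22782 F254262) (tt N22846 F254263) (tt N23035 F254264) (tt N22606 F254265) (tt N22781 F254266) (tt N22537 F254267) (tt N24557 (iv F257018)) (tt N22837 F254268) (tt N25013 D57783) (tt N22535 (iv D56612)))
theorem Q23844 : ∀ i, i < 23844 → P i := stepQ 23843 Q23843 (allL N23843 (tt N23085 F254269) (tt N24616 (iv F257328)) (tt N24986 (iv F259106)) (tt N25014 D57784) (tt N23119 F254270) (tt N22538 F254271) (tt N24973 (iv F259052)) (tt N23096 F254272) (tt N22536 (iv D56613)) (tt N25013 (iv F259219)))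
theorem Q23845 : ∀ i, i < 23845 → P i := stepQ 23844 Q23844 (allL N23844 (tt N23049 F254273) (tt N24628 (iv F257397)) (tt N24987 (iv F259113)) (tt N25015 D57785) (tt N22678 F254274) (tt N25013 (iv F259217)) (tt N23063 F254275) (tt N23053 F254276) (tt N22537 (iv D56614)) (tt N22538 F254277))
theorem Q23846 : ∀ i, i < 23846 → P i := stepQ 23845 Q23845 (allL N23845 (tt N23086 F254278) (tt N25011 (iv F259205)) (tt N25016 D57786) (tt N22538 (iv D56615)) (tt N23032 F254279) (tt N25014 (iv F259221)) (tt N23064 F254280) (tt N23097 F254281) (tt N22541 F254282) (tt N25015 (iv F259229)))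
theorem Q23847 : ∀ i, i < 23847 → P i := stepQ 23846 Q23846 (allL N23846 (tt N22750 F254283) (tt N22833 F254284) (tt N22543 F254285) (tt N25017 D57787) (tt N22554 F254286) (tt N23066 F254287) (tt N22540 F254288) (tt N24981 (iv F259090)) (tt N22539 (iv D56616)) (tt N22611 F254289))
theorem Q23848 : ∀ i, i < 23848 → P i := stepQ 23847 Q23847 (allL N23847 (tt N23114 F254290) (tt N24617 (iv F257336)) (tt N25018 D57788) (tt N22540 (iv D56617)) (tt N25019 D57789) (tt N22541 F254291) (tt N25017 (iv F259238)) (tt N25004 (iv F259179)) (tt N25014 (iv F259223)) (tt N22612 F254292))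
theorem Q23849 : ∀ i, i < 23849 → P i := stepQ 23848 Q23848 (allL N23848 (tt N23113 F254293) (tt N25020 D57790) (tt N22541 (iv D56618)) (tt N22545 F254294) (tt N23033 F254295) (tt N25018 (iv F259242)) (tt N23068 F254296) (tt N25005 (iv F259185)) (tt N25016 (iv F259234)) (tt N22613 F254297))
theorem Q23850 : ∀ i, i < 23850 → P i := stepQ 23849 Q23849 (allL N23849 (tt N24449 (iv F256333)) (tt N24588 (iv F257180)) (tt N24981 (iv F259086)) (tt N25021 D57791) (tt N22556 F254298) (tt N23069 F254299) (tt N25006 (iv F259191)) (tt N22543 F254300) (tt N22542 (iv D56619)) (tt N22616 F254301))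
theorem Q23851 : ∀ i, i < 23851 → P i := stepQ 23850 Q23850 (allL N23850 (tt N24455 (iv F256369)) (tt N24589 (iv F257188)) (tt N25022 D57792) (tt N22543 (iv D56620)) (tt N25023 D57793) (tt N23070 F254302) (tt N22544 F254303) (tt N25021 (iv F259253)) (tt N24994 (iv F259138)) (tt N22617 F254304))
theorem Q23852 : ∀ i, i < 23852 → P i := stepQ 23851 Q23851 (allL N23851 (tt N24927 (iv F258845)) (tt N25024 D57794) (tt N22544 (iv D56621)) (tt N25018 (iv F259241)) (tt N25025 D57795) (tt N22545 F254305) (tt N25022 (iv F259256)) (tt N25008 (iv F259197)) (tt N24995 (iv F259141)) (tt N22618 F254306))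
theorem Q23853 : ∀ i, i < 23853 → P i := stepQ 23852 Q23852 (allL N23852 (tt N24928 (iv F258849)) (tt N24591 (iv F257195)) (tt N25025 (iv F259263)) (tt N22559 F254307) (tt N22544 (iv D56622)) (tt N24881 (iv F258652)) (tt N25023 (iv F259259)) (tt N25009 (iv F259200)) (tt N24996 (iv F259143)) (tt N22619 F254308))
theorem Q23854 : ∀ i, i < 23854 → P i := stepQ 23853 Q23853 (allL N23853 (tt N25026 D57796) (tt N22545 (iv D56623)) (tt N24592 (iv F257198)) (tt N25020 (iv F259248)) (tt N24882 (iv F258655)) (tt N25024 (iv F259261)) (tt N23072 F254309) (tt N25010 (iv F259202)) (tt N24997 (iv F259145)) (tt N22620 F254310))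
theorem Q23855 : ∀ i, i < 23855 → P i := stepQ 23854 Q23854 (allL N23854 (tt N23124 F254311) (tt N23134 F254312) (tt N22550 F254313) (tt N25027 D57797) (tt N25003 (iv F259172)) (tt N23854 F254314) (tt N22547 F254315) (tt N23137 F254316) (tt N22546 (iv D56624)) (tt N22624 F254317))
theorem Q23856 : ∀ i, i < 23856 → P i := stepQ 23855 Q23855 (allL N23855 (tt N23123 F254318) (tt N24605 (iv F257277)) (tt N22861 (iv F254323)) (tt N22547 (iv D56625)) (tt N24660 (iv F257566)) (tt N22548 F254319) (tt N25027 (iv F259270)) (tt N22555 F254320) (tt N22726 F254321) (tt N22625 F254322))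
theorem Q23857 : ∀ i, i < 23857 → P i := stepQ 23856 Q23856 (allL N23856 (tt N24458 (iv F256386)) (tt N23144 F254324) (tt N23137 F254325) (tt N25028 D57798) (tt N25006 (iv F259190)) (tt N23856 F254326) (tt N22556 F254327) (tt N22550 F254328) (tt N22549 (iv D56626)) (tt N22628 F254329))
theorem Q23858 : ∀ i, i < 23858 → P i := stepQ 23857 Q23857 (allL N23857 (tt N24930 (iv F258857)) (tt N24594 (iv F257208)) (tt N25029 D57799) (tt N22550 (iv D56627)) (tt N25030 D57800) (tt N23857 F254330) (tt N22551 F254331) (tt N25028 (iv F259278)) (tt N23857 F254332) (tt N22629 F254333))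
theorem Q23859 : ∀ i, i < 23859 → P i := stepQ 23858 Q23858 (allL N23858 (tt N24931 (iv F258862)) (tt N25031 D57801) (tt N22551 (iv D56628)) (tt N22861 F254334) (tt N25032 D57802) (tt N22552 F254335) (tt N25029 (iv F259283)) (tt N22558 F254336) (tt N23858 F254337) (tt N22630 F254338))
theorem Q23860 : ∀ i, i < 23860 → P i := stepQ 23859 Q23859 (allL N23859 (tt N24932 (iv F258868)) (tt N24596 (iv F257224)) (tt N25032 (iv F259295)) (tt N25009 (iv F259199)) (tt N22551 (iv D56629)) (tt N24883 (iv F258660)) (tt N25030 (iv F259286)) (tt N22559 F254339) (tt N23859 F254340) (tt N22631 F254341))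
theorem Q23861 : ∀ i, i < 23861 → P i := stepQ 23860 Q23860 (allL N23860 (tt N24487 (iv F256552)) (tt N22552 (iv D56630)) (tt N22648 F254342) (tt N22650 F254343) (tt N22859 F254344) (tt N25031 (iv F259291)) (tt N23860 F254345) (tt N22560 F254346) (tt N23860 F254347) (tt N22632 F254348))
theorem Q23862 : ∀ i, i < 23862 → P i := stepQ 23861 Q23861 (allL N23861 (tt N22741 F254349) (tt N22675 F254350) (tt N22556 F254351) (tt N24645 (iv F257473)) (tt N24981 (iv F259087)) (tt N22561 F254352) (tt N23137 F254353) (tt N22554 F254354) (tt N22553 (iv D56631)) (tt N22636 F254355))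
theorem Q23863 : ∀ i, i < 23863 → P i := stepQ 23862 Q23862 (allL N23862 (tt N23130 F254356) (tt N24618 (iv F257341)) (tt N22851 F254357) (tt N25019 (iv F259245)) (tt N22555 (iv D56632)) (tt N22720 F254358) (tt N24648 (iv F257491)) (tt N24660 (iv F257567)) (tt N22725 F254359) (tt N22639 F254360))
theorem Q23864 : ∀ i, i < 23864 → P i := stepQ 23863 Q23863 (allL N23863 (tt N24459 (iv F256393)) (tt N24597 (iv F257229)) (tt N25033 D57803) (tt N22556 (iv D56633)) (tt N25034 D57804) (tt N22562 F254361) (tt N25028 (iv F259277)) (tt N22557 F254362) (tt N23863 F254363) (tt N22641 F254364))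
theorem Q23865 : ∀ i, i < 23865 → P i := stepQ 23864 Q23864 (allL N23864 (tt N24462 (iv F256414)) (tt N22638 F254365) (tt N22557 (iv D56634)) (tt N22644 F254366) (tt N25035 D57805) (tt N22563 F254367) (tt N22558 F254368) (tt N25033 (iv F259303)) (tt N23864 F254369) (tt N22642 F254370))
theorem Q23866 : ∀ i, i < 23866 → P i := stepQ 23865 Q23865 (allL N23865 (tt N24463 (iv F256421)) (tt N24598 (iv F257237)) (tt N25035 (iv F259311)) (tt N25023 (iv F259258)) (tt N22557 (iv D56635)) (tt N24534 (iv F256865)) (tt N22559 F254371) (tt N25034 (iv F259307)) (tt N23865 F254372) (tt N22643 F254373))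
theorem Q23867 : ∀ i, i < 23867 → P i := stepQ 23866 Q23866 (allL N23866 (tt N24493 (iv F256589)) (tt N22558 (iv D56636)) (tt N22637 F254374) (tt N22642 F254375) (tt N25036 D57806) (tt N22560 F254376) (tt N22638 F254377) (tt N25031 (iv F259292)) (tt N23866 F254378) (tt N22644 F254379))
theorem Q23868 : ∀ i, i < 23868 → P i := stepQ 23867 Q23867 (allL N23867 (tt N24933 (iv F258873)) (tt N25036 (iv F259316)) (tt N22559 F254380) (tt N25037 D57807) (tt N22558 (iv D56637)) (tt N22868 F254381) (tt N25035 (iv F259313)) (tt N25032 (iv F259297)) (tt N23867 F254382) (tt N22645 F254383))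
theorem Q23869 : ∀ i, i < 23869 → P i := stepQ 23868 Q23868 (allL N23868 (tt N24460 (iv F256399)) (tt N22626 F254384) (tt N22562 (iv D56638)) (tt N22632 F254385) (tt N22813 F254386) (tt N25033 (iv F259302)) (tt N23868 F254387) (tt N22563 F254388) (tt N23868 F254389) (tt N22650 F254390))
theorem Q23870 : ∀ i, i < 23870 → P i := stepQ 23869 Q23869 (allL N23869 (tt N23050 F254391) (tt N22569 F254392) (tt N24472 (iv F256475)) (tt N25038 D57808) (tt N22565 F254393) (tt N24582 (iv F257154)) (tt N22579 F254394) (tt N22666 F254395) (tt N22564 (iv D56639)) (tt N24581 (iv F257149)))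
theorem Q23871 : ∀ i, i < 23871 → P i := stepQ 23870 Q23870 (allL N23870 (tt N24628 (iv F257396)) (tt N22590 F254396) (tt N24540 (iv F256902)) (tt N25039 D57809) (tt N22580 F254397) (tt N24619 (iv F257351)) (tt N22585 F254398) (tt N22602 F254399) (tt N22566 (iv D56640)) (tt N23025 F254400))
theorem Q23872 : ∀ i, i < 23872 → P i := stepQ 23871 Q23871 (allL N23871 (tt N24762 (iv F258143)) (tt N22805 F254401) (tt N22571 F254402) (tt N22835 F254403) (tt N23871 F254404) (tt N22587 F254405) (tt N22568 F254406) (tt N24720 (iv F257921)) (tt N25040 D57810) (tt N22567 (iv D56641)))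
theorem Q23873 : ∀ i, i < 23873 → P i := stepQ 23872 Q23872 (allL N23872 (tt N24934 (iv F258878)) (tt N24582 (iv F257151)) (tt N22572 F254407) (tt N25041 D57811) (tt N23872 F254408) (tt N22569 F254409) (tt N25040 (iv F259341)) (tt N23080 F254410) (tt N22568 (iv D56642)) (tt N24578 (iv F257130)))
theorem Q23874 : ∀ i, i < 23874 → P i := stepQ 23873 Q23873 (allL N23873 (tt N24935 (iv F258885)) (tt N25038 (iv F259326)) (tt N25042 D57812) (tt N22569 (iv D56643)) (tt N25043 D57813) (tt N25041 (iv F259343)) (tt N22589 F254411) (tt N23081 F254412) (tt N25039 (iv F259335)) (tt N24998 (iv F259151)))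
theorem Q23875 : ∀ i, i < 23875 → P i := stepQ 23874 Q23874 (allL N23874 (tt N23046 F254413) (tt N22585 F254414) (tt N23003 F254415) (tt N25043 (iv F259350)) (tt N22570 (iv D56644)) (tt N25044 D57814) (tt N22590 F254416) (tt N22598 F254417) (tt N22577 F254418) (tt N23022 F254419))
theorem Q23876 : ∀ i, i < 23876 → P i := stepQ 23875 Q23875 (allL N23875 (tt N24779 (iv F258234)) (tt N24601 (iv F257258)) (tt N25040 (iv F259338)) (tt N25045 D57815) (tt N23875 F254420) (tt N22592 F254421) (tt N22572 F254422) (tt N24730 (iv F257988)) (tt N22571 (iv D56645)) (tt N24999 (iv F259156)))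
theorem Q23877 : ∀ i, i < 23877 → P i := stepQ 23876 Q23876 (allL N23876 (tt N24936 (iv F258891)) (tt N24602 (iv F257263)) (tt N25046 D57816) (tt N22572 (iv D56646)) (tt N25047 D57817) (tt N22573 F254423) (tt N25045 (iv F259364)) (tt N23083 F254424) (tt N24802 (iv F258328)) (tt N25000 (iv F259159)))
theorem Q23878 : ∀ i, i < 23878 → P i := stepQ 23877 Q23877 (allL N23877 (tt N24937 (iv F258894)) (tt N25048 D57818) (tt N22573 (iv D56647)) (tt N25042 (iv F259345)) (tt N24886 (iv F258675)) (tt N25046 (iv F259365)) (tt N22594 F254425) (tt N23084 F254426) (tt N24803 (iv F258331)) (tt N25001 (iv F259162)))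
theorem Q23879 : ∀ i, i < 23879 → P i := stepQ 23878 Q23878 (allL N23878 (tt N22579 F254427) (tt N23031 F254428) (tt N24604 (iv F257270)) (tt N25049 D57819) (tt N22575 F254429) (tt N24570 (iv F257085)) (tt N23050 F254430) (tt N22595 F254431) (tt N22574 (iv D56648)) (tt N23029 F254432))
theorem Q23880 : ∀ i, i < 23880 → P i := stepQ 23879 Q23879 (allL N23879 (tt N23045 F254433) (tt N22583 F254434) (tt N23002 F254435) (tt N22578 F254436) (tt N23879 F254437) (tt N22577 F254438) (tt N22842 F254439) (tt N22597 F254440) (tt N25044 (iv F259361)) (tt N22576 (iv D56649)))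
theorem Q23881 : ∀ i, i < 23881 → P i := stepQ 23880 Q23880 (allL N23880 (tt N24570 (iv F257081)) (tt N22588 F254441) (tt N23029 F254442) (tt N25050 D57820) (tt N22621 F254443) (tt N22579 F254444) (tt N24947 (iv F258938)) (tt N22600 F254445) (tt N22578 (iv D56650)) (tt N24604 (iv F257275)))
theorem Q23882 : ∀ i, i < 23882 → P i := stepQ 23881 Q23881 (allL N23881 (tt N25049 (iv F259371)) (tt N22589 F254446) (tt N25051 D57821) (tt N22579 (iv D56651)) (tt N25039 (iv F259332)) (tt N25050 (iv F259378)) (tt N25038 (iv F259328)) (tt N22601 F254447) (tt N25043 (iv F259353)) (tt N25002 (iv F259168)))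
theorem Q23883 : ∀ i, i < 23883 → P i := stepQ 23882 Q23882 (allL N23882 (tt N24763 (iv F258151)) (tt N22842 F254448) (tt N24713 (iv F257877)) (tt N22587 F254449) (tt N23882 F254450) (tt N22835 F254451) (tt N22583 F254452) (tt N24721 (iv F257929)) (tt N25052 D57822) (tt N22581 (iv D56652)))
theorem Q23884 : ∀ i, i < 23884 → P i := stepQ 23883 Q23883 (allL N23883 (tt N23055 F254453) (tt N22841 F254454) (tt N24804 (iv F258334)) (tt N22837 F254455) (tt N23883 F254456) (tt N22584 F254457) (tt N22834 F254458) (tt N22606 F254459) (tt N25053 D57823) (tt N22582 (iv D56653)))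
theorem Q23885 : ∀ i, i < 23885 → P i := stepQ 23884 Q23884 (allL N23884 (tt N24938 (iv F258897)) (tt N25044 (iv F259356)) (tt N24805 (iv F258341)) (tt N25054 D57824) (tt N23884 F254460) (tt N22585 F254461) (tt N25052 (iv F259384)) (tt N22607 F254462) (tt N22583 (iv D56654)) (tt N25053 (iv F259392)))
theorem Q23886 : ∀ i, i < 23886 → P i := stepQ 23885 Q23885 (allL N23885 (tt N23056 F254463) (tt N23022 F254464) (tt N24806 (iv F258347)) (tt N25055 D57825) (tt N22663 F254465) (tt N25053 (iv F259389)) (tt N23025 F254466) (tt N22608 F254467) (tt N22584 (iv D56655)) (tt N22585 F254468))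
theorem Q23887 : ∀ i, i < 23887 → P i := stepQ 23886 Q23886 (allL N23886 (tt N24939 (iv F258903)) (tt N25043 (iv F259349)) (tt N25056 D57826) (tt N22585 (iv D56656)) (tt N25038 (iv F259327)) (tt N25054 (iv F259393)) (tt N25039 (iv F259333)) (tt N22609 F254469) (tt N22589 F254470) (tt N25055 (iv F259401)))
theorem Q23888 : ∀ i, i < 23888 → P i := stepQ 23887 Q23887 (allL N23887 (tt N24436 (iv F256237)) (tt N23040 F254471) (tt N22591 F254472) (tt N24721 (iv F257925)) (tt N22623 F254473) (tt N24720 (iv F257919)) (tt N22610 F254474) (tt N22587 F254475) (tt N25057 D57827) (tt N22586 (iv D56657)))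
theorem Q23889 : ∀ i, i < 23889 → P i := stepQ 23888 Q23888 (allL N23888 (tt N24940 (iv F258909)) (tt N24947 (iv F258934)) (tt N22592 F254476) (tt N25058 D57828) (tt N22624 F254477) (tt N25040 (iv F259340)) (tt N22588 F254478) (tt N25057 (iv F259408)) (tt N22587 (iv D56658)) (tt N25003 (iv F259176)))
theorem Q23890 : ∀ i, i < 23890 → P i := stepQ 23889 Q23889 (allL N23889 (tt N24941 (iv F258915)) (tt N25050 (iv F259377)) (tt N25059 D57829) (tt N22588 (iv D56659)) (tt N25060 D57830) (tt N22589 F254479) (tt N25058 (iv F259410)) (tt N22612 F254480) (tt N25054 (iv F259395)) (tt N25004 (iv F259181)))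
theorem Q23891 : ∀ i, i < 23891 → P i := stepQ 23890 Q23890 (allL N23890 (tt N24942 (iv F258920)) (tt N25061 D57831) (tt N22589 (iv D56660)) (tt N22594 F254481) (tt N25062 D57832) (tt N25059 (iv F259412)) (tt N25042 (iv F259346)) (tt N22613 F254482) (tt N25056 (iv F259403)) (tt N25005 (iv F259187)))
theorem Q23892 : ∀ i, i < 23892 → P i := stepQ 23891 Q23891 (allL N23891 (tt N23051 F254483) (tt N25039 (iv F259331)) (tt N25062 (iv F259419)) (tt N22590 F254484) (tt N22589 (iv D56661)) (tt N24625 (iv F257381)) (tt N25043 (iv F259351)) (tt N22614 F254485) (tt N25038 (iv F259330)) (tt N23026 F254486))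
theorem Q23893 : ∀ i, i < 23893 → P i := stepQ 23892 Q23892 (allL N23892 (tt N24468 (iv F256452)) (tt N24611 (iv F257305)) (tt N25057 (iv F259405)) (tt N25063 D57833) (tt N22628 F254487) (tt N24730 (iv F257986)) (tt N22616 F254488) (tt N22592 F254489) (tt N22591 (iv D56662)) (tt N25006 (iv F259193)))
theorem Q23894 : ∀ i, i < 23894 → P i := stepQ 23893 Q23893 (allL N23893 (tt N24943 (iv F258925)) (tt N24612 (iv F257312)) (tt N25064 D57834) (tt N22592 (iv D56663)) (tt N25065 D57835) (tt N25045 (iv F259363)) (tt N22593 F254490) (tt N25063 (iv F259424)) (tt N24744 (iv F258053)) (tt N25007 (iv F259195)))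
theorem Q23895 : ∀ i, i < 23895 → P i := stepQ 23894 Q23894 (allL N23894 (tt N24944 (iv F258927)) (tt N25066 D57836) (tt N22593 (iv D56664)) (tt N25059 (iv F259411)) (tt N25067 D57837) (tt N22594 F254491) (tt N25064 (iv F259425)) (tt N22618 F254492) (tt N24811 (iv F258365)) (tt N25008 (iv F259198)))
theorem Q23896 : ∀ i, i < 23896 → P i := stepQ 23895 Q23895 (allL N23895 (tt N24945 (iv F258930)) (tt N24614 (iv F257321)) (tt N25067 (iv F259430)) (tt N22631 F254493) (tt N22593 (iv D56665)) (tt N24889 (iv F258689)) (tt N25065 (iv F259427)) (tt N22619 F254494) (tt N24812 (iv F258369)) (tt N25009 (iv F259201)))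
theorem Q23897 : ∀ i, i < 23897 → P i := stepQ 23896 Q23896 (allL N23896 (tt N25068 D57838) (tt N22594 (iv D56666)) (tt N24615 (iv F257325)) (tt N25061 (iv F259416)) (tt N24890 (iv F258691)) (tt N25066 (iv F259428)) (tt N25048 (iv F259369)) (tt N22620 F254495) (tt N24813 (iv F258371)) (tt N25010 (iv F259203)))
theorem Q23898 : ∀ i, i < 23898 → P i := stepQ 23897 Q23897 (allL N23897 (tt N22601 F254496) (tt N24584 (iv F257161)) (tt N25069 D57839) (tt N22595 (iv D56667)) (tt N24629 (iv F257406)) (tt N24579 (iv F257133)) (tt N23097 F254497) (tt N25049 (iv F259374)) (tt N24998 (iv F259150)) (tt N24621 (iv F257367)))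
theorem Q23899 : ∀ i, i < 23899 → P i := stepQ 23898 Q23898 (allL N23898 (tt N22800 F254498) (tt N22605 F254499) (tt N24778 (iv F258228)) (tt N22599 F254500) (tt N23898 F254501) (tt N23098 F254502) (tt N22597 F254503) (tt N24770 (iv F258198)) (tt N25070 D57840) (tt N22596 (iv D56668)))
theorem Q23900 : ∀ i, i < 23900 → P i := stepQ 23899 Q23899 (allL N23899 (tt N24578 (iv F257123)) (tt N22607 F254504) (tt N24922 (iv F258819)) (tt N25071 D57841) (tt N23899 F254505) (tt N22598 F254506) (tt N25070 (iv F259439)) (tt N25044 (iv F259360)) (tt N22597 (iv D56669)) (tt N24934 (iv F258884)))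
theorem Q23901 : ∀ i, i < 23901 → P i := stepQ 23900 Q23900 (allL N23900 (tt N24998 (iv F259146)) (tt N22609 F254507) (tt N25072 D57842) (tt N22598 (iv D56670)) (tt N23081 F254508) (tt N25071 (iv F259441)) (tt N23090 F254509) (tt N25043 (iv F259352)) (tt N22601 F254510) (tt N24935 (iv F258890)))
theorem Q23902 : ∀ i, i < 23902 → P i := stepQ 23901 Q23901 (allL N23901 (tt N22802 F254511) (tt N22611 F254512) (tt N23053 F254513) (tt N25073 D57843) (tt N22634 F254514) (tt N23099 F254515) (tt N22600 F254516) (tt N24987 (iv F259117)) (tt N22599 (iv D56671)) (tt N22833 F254517))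
theorem Q23903 : ∀ i, i < 23903 → P i := stepQ 23902 Q23902 (allL N23902 (tt N24579 (iv F257131)) (tt N22612 F254518) (tt N25074 D57844) (tt N22600 (iv D56672)) (tt N25075 D57845) (tt N22601 F254519) (tt N25073 (iv F259449)) (tt N25050 (iv F259379)) (tt N25071 (iv F259442)) (tt N24617 (iv F257339)))
theorem Q23904 : ∀ i, i < 23904 → P i := stepQ 23903 Q23903 (allL N23903 (tt N25069 (iv F259433)) (tt N25076 D57846) (tt N22601 (iv D56673)) (tt N24622 (iv F257368)) (tt N25077 D57847) (tt N25074 (iv F259451)) (tt N23101 F254520) (tt N25051 (iv F259380)) (tt N25072 (iv F259445)) (tt N25012 (iv F259212)))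
theorem Q23905 : ∀ i, i < 23905 → P i := stepQ 23904 Q23904 (allL N23904 (tt N24629 (iv F257404)) (tt N22614 F254521) (tt N25077 (iv F259456)) (tt N22602 F254522) (tt N22601 (iv D56674)) (tt N24862 (iv F258565)) (tt N23087 F254523) (tt N25039 (iv F259334)) (tt N23081 F254524) (tt N23030 F254525))
theorem Q23906 : ∀ i, i < 23906 → P i := stepQ 23905 Q23905 (allL N23905 (tt N22815 F254526) (tt N24770 (iv F258192)) (tt N22738 F254527) (tt N22610 F254528) (tt N23905 F254529) (tt N22736 F254530) (tt N24721 (iv F257928)) (tt N22605 F254531) (tt N25078 D57848) (tt N22603 (iv D56675)))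
theorem Q23907 : ∀ i, i < 23907 → P i := stepQ 23906 Q23906 (allL N23906 (tt N24475 (iv F256494)) (tt N24762 (iv F258144)) (tt N24434 (iv F256224)) (tt N24557 (iv F257015)) (tt N23906 F254532) (tt N23102 F254533) (tt N22606 F254534) (tt N24439 (iv F256267)) (tt N25079 D57849) (tt N22604 (iv D56676)))
theorem Q23908 : ∀ i, i < 23908 → P i := stepQ 23907 Q23907 (allL N23907 (tt N24476 (iv F256502)) (tt N25070 (iv F259436)) (tt N24535 (iv F256871)) (tt N25080 D57850) (tt N23907 F254535) (tt N23103 F254536) (tt N22607 F254537) (tt N25078 (iv F259464)) (tt N22605 (iv D56677)) (tt N25079 (iv F259468)))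
theorem Q23909 : ∀ i, i < 23909 → P i := stepQ 23908 Q23908 (allL N23908 (tt N24950 (iv F258951)) (tt N24934 (iv F258879)) (tt N24823 (iv F258418)) (tt N25081 D57851) (tt N23908 F254538) (tt N22608 F254539) (tt N25079 (iv F259467)) (tt N25053 (iv F259391)) (tt N22606 (iv D56678)) (tt N22607 F254540))
theorem Q23910 : ∀ i, i < 23910 → P i := stepQ 23909 Q23909 (allL N23909 (tt N24951 (iv F258957)) (tt N25071 (iv F259440)) (tt N25082 D57852) (tt N22607 (iv D56679)) (tt N25083 D57853) (tt N22609 F254541) (tt N25080 (iv F259470)) (tt N25054 (iv F259394)) (tt N22612 F254542) (tt N25081 (iv F259473)))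
theorem Q23911 : ∀ i, i < 23911 → P i := stepQ 23910 Q23910 (allL N23910 (tt N24952 (iv F258960)) (tt N24935 (iv F258886)) (tt N25084 D57854) (tt N22608 (iv D56680)) (tt N25085 D57855) (tt N25081 (iv F259472)) (tt N23106 F254543) (tt N25055 (iv F259399)) (tt N25015 (iv F259228)) (tt N22609 F254544))
theorem Q23912 : ∀ i, i < 23912 → P i := stepQ 23911 Q23911 (allL N23911 (tt N24953 (iv F258967)) (tt N25086 D57856) (tt N22609 (iv D56681)) (tt N24826 (iv F258426)) (tt N25087 D57857) (tt N25082 (iv F259474)) (tt N23107 F254545) (tt N25056 (iv F259402)) (tt N22613 F254546) (tt N25084 (iv F259479)))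
theorem Q23913 : ∀ i, i < 23913 → P i := stepQ 23912 Q23912 (allL N23912 (tt N23064 F254547) (tt N23081 F254548) (tt N25087 (iv F259489)) (tt N22666 F254549) (tt N22609 (iv D56682)) (tt N25088 D57858) (tt N23086 F254550) (tt N25038 (iv F259329)) (tt N22614 F254551) (tt N25085 (iv F259485)))
theorem Q23914 : ∀ i, i < 23914 → P i := stepQ 23913 Q23913 (allL N23913 (tt N24465 (iv F256434)) (tt N24987 (iv F259112)) (tt N22616 F254552) (tt N25089 D57859) (tt N22636 F254553) (tt N23108 F254554) (tt N25057 (iv F259407)) (tt N22611 F254555) (tt N22610 (iv D56683)) (tt N24981 (iv F259091)))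
theorem Q23915 : ∀ i, i < 23915 → P i := stepQ 23914 Q23914 (allL N23914 (tt N24479 (iv F256519)) (tt N25073 (iv F259447)) (tt N25090 D57860) (tt N22611 (iv D56684)) (tt N25091 D57861) (tt N23109 F254556) (tt N22612 F254557) (tt N25089 (iv F259497)) (tt N25080 (iv F259471)) (tt N25017 (iv F259239)))
theorem Q23916 : ∀ i, i < 23916 → P i := stepQ 23915 Q23915 (allL N23915 (tt N24954 (iv F258971)) (tt N25092 D57862) (tt N22612 (iv D56685)) (tt N22618 F254558) (tt N25093 D57863) (tt N22613 F254559) (tt N25090 (iv F259500)) (tt N25059 (iv F259413)) (tt N25082 (iv F259475)) (tt N25018 (iv F259243)))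
theorem Q23917 : ∀ i, i < 23917 → P i := stepQ 23916 Q23916 (allL N23916 (tt N24955 (iv F258975)) (tt N25075 (iv F259452)) (tt N25093 (iv F259505)) (tt N22639 F254560) (tt N22612 (iv D56686)) (tt N25094 D57864) (tt N25091 (iv F259502)) (tt N25060 (iv F259415)) (tt N25083 (iv F259477)) (tt N25019 (iv F259247)))
theorem Q23918 : ∀ i, i < 23918 → P i := stepQ 23917 Q23917 (allL N23917 (tt N25095 D57865) (tt N22613 (iv D56687)) (tt N25076 (iv F259454)) (tt N22620 F254561) (tt N25096 D57866) (tt N25092 (iv F259504)) (tt N23112 F254562) (tt N25061 (iv F259417)) (tt N25086 (iv F259487)) (tt N25020 (iv F259251)))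
theorem Q23919 : ∀ i, i < 23919 → P i := stepQ 23918 Q23918 (allL N23918 (tt N23068 F254563) (tt N25096 (iv F259512)) (tt N22614 F254564) (tt N23021 F254565) (tt N22613 (iv D56688)) (tt N25097 D57867) (tt N23113 F254566) (tt N25062 (iv F259421)) (tt N25087 (iv F259491)) (tt N23033 F254567))
theorem Q23920 : ∀ i, i < 23920 → P i := stepQ 23919 Q23919 (allL N23919 (tt N23067 F254568) (tt N24862 (iv F258564)) (tt N25097 (iv F259517)) (tt N22615 F254569) (tt N25094 (iv F259508)) (tt N22614 (iv D56689)) (tt N24453 (iv F256361)) (tt N24625 (iv F257383)) (tt N25088 (iv F259495)) (tt N22719 F254570))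
theorem Q23921 : ∀ i, i < 23921 → P i := stepQ 23920 Q23920 (allL N23920 (tt N24469 (iv F256458)) (tt N24635 (iv F257431)) (tt N25098 D57868) (tt N22616 (iv D56690)) (tt N25099 D57869) (tt N23115 F254571) (tt N25063 (iv F259423)) (tt N22617 F254572) (tt N24835 (iv F258449)) (tt N25021 (iv F259254)))
theorem Q23922 : ∀ i, i < 23922 → P i := stepQ 23921 Q23921 (allL N23921 (tt N24483 (iv F256535)) (tt N25100 D57870) (tt N22617 (iv D56691)) (tt N25090 (iv F259498)) (tt N25101 D57871) (tt N23116 F254573) (tt N22618 F254574) (tt N25098 (iv F259521)) (tt N24836 (iv F258452)) (tt N25022 (iv F259257)))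
theorem Q23923 : ∀ i, i < 23923 → P i := stepQ 23922 Q23922 (allL N23922 (tt N24484 (iv F256538)) (tt N24637 (iv F257436)) (tt N25101 (iv F259528)) (tt N22643 F254575) (tt N22617 (iv D56692)) (tt N24543 (iv F256921)) (tt N22619 F254576) (tt N25099 (iv F259524)) (tt N24837 (iv F258457)) (tt N25023 (iv F259260)))
theorem Q23924 : ∀ i, i < 23924 → P i := stepQ 23923 Q23923 (allL N23923 (tt N25102 D57872) (tt N22618 (iv D56693)) (tt N24638 (iv F257439)) (tt N25092 (iv F259503)) (tt N25103 D57873) (tt N22620 F254577) (tt N25100 (iv F259527)) (tt N25066 (iv F259429)) (tt N24838 (iv F258459)) (tt N25024 (iv F259262)))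
theorem Q23925 : ∀ i, i < 23925 → P i := stepQ 23924 Q23924 (allL N23924 (tt N24958 (iv F258984)) (tt N25103 (iv F259531)) (tt N22619 F254578) (tt N25104 D57874) (tt N22618 (iv D56694)) (tt N24899 (iv F258730)) (tt N25101 (iv F259529)) (tt N25067 (iv F259431)) (tt N24839 (iv F258461)) (tt N25025 (iv F259264)))
theorem Q23926 : ∀ i, i < 23926 → P i := stepQ 23925 Q23925 (allL N23925 (tt N22620 (iv D56695)) (tt N24959 (iv F258986)) (tt N24640 (iv F257442)) (tt N25095 (iv F259510)) (tt N24900 (iv F258731)) (tt N25102 (iv F259530)) (tt N23118 F254579) (tt N25068 (iv F259432)) (tt N24840 (iv F258463)) (tt N25026 (iv F259266)))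
theorem Q23927 : ∀ i, i < 23927 → P i := stepQ 23926 Q23926 (allL N23926 (tt N24571 (iv F257088)) (tt N22625 F254580) (tt N24597 (iv F257230)) (tt N22621 (iv D56696)) (tt N25105 D57875) (tt N22622 F254581) (tt N24971 (iv F259038)) (tt N22635 F254582) (tt N23926 F254583) (tt N24605 (iv F257283)))
theorem Q23928 : ∀ i, i < 23928 → P i := stepQ 23927 Q23927 (allL N23927 (tt N24437 (iv F256245)) (tt N23141 F254584) (tt N22628 F254585) (tt N25106 D57876) (tt N25057 (iv F259406)) (tt N23927 F254586) (tt N22636 F254587) (tt N22624 F254588) (tt N22623 (iv D56697)) (tt N23137 F254589))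
theorem Q23929 : ∀ i, i < 23929 → P i := stepQ 23928 Q23928 (allL N23928 (tt N24960 (iv F258988)) (tt N24971 (iv F259035)) (tt N25107 D57877) (tt N22624 (iv D56698)) (tt N25108 D57878) (tt N23928 F254590) (tt N22625 F254591) (tt N25106 (iv F259539)) (tt N23928 F254592) (tt N25027 (iv F259273)))
theorem Q23930 : ∀ i, i < 23930 → P i := stepQ 23929 Q23929 (allL N23929 (tt N24961 (iv F258994)) (tt N25033 (iv F259300)) (tt N22625 (iv D56699)) (tt N22630 F254593) (tt N25109 D57879) (tt N22626 F254594) (tt N25107 (iv F259544)) (tt N22638 F254595) (tt N23929 F254596) (tt N22861 F254597))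
theorem Q23931 : ∀ i, i < 23931 → P i := stepQ 23930 Q23930 (allL N23930 (tt N24962 (iv F259000)) (tt N25105 (iv F259533)) (tt N25109 (iv F259549)) (tt N25060 (iv F259414)) (tt N22625 (iv D56700)) (tt N24659 (iv F257559)) (tt N25108 (iv F259547)) (tt N22639 F254598) (tt N23930 F254599) (tt N24660 (iv F257569)))
theorem Q23932 : ∀ i, i < 23932 → P i := stepQ 23931 Q23931 (allL N23931 (tt N24490 (iv F256573)) (tt N24643 (iv F257459)) (tt N25110 D57880) (tt N22628 (iv D56701)) (tt N25111 D57881) (tt N23931 F254600) (tt N22641 F254601) (tt N22629 F254602) (tt N22651 F254603) (tt N25028 (iv F259280)))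
theorem Q23933 : ∀ i, i < 23933 → P i := stepQ 23932 Q23932 (allL N23932 (tt N24963 (iv F259006)) (tt N25112 D57882) (tt N22629 (iv D56702)) (tt N25107 (iv F259542)) (tt N25113 D57883) (tt N23932 F254604) (tt N22630 F254605) (tt N25110 (iv F259557)) (tt N22652 F254606) (tt N25029 (iv F259285)))
theorem Q23934 : ∀ i, i < 23934 → P i := stepQ 23933 Q23933 (allL N23933 (tt N24964 (iv F259010)) (tt N24644 (iv F257467)) (tt N25113 (iv F259567)) (tt N25065 (iv F259426)) (tt N22629 (iv D56703)) (tt N25114 D57884) (tt N22631 F254607) (tt N25111 (iv F259560)) (tt N22653 F254608) (tt N25030 (iv F259288)))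
theorem Q23935 : ∀ i, i < 23935 → P i := stepQ 23934 Q23934 (allL N23934 (tt N25115 D57885) (tt N22630 (iv D56704)) (tt N24645 (iv F257472)) (tt N25033 (iv F259301)) (tt N25116 D57886) (tt N22632 F254609) (tt N25112 (iv F259564)) (tt N22644 F254610) (tt N22654 F254611) (tt N25031 (iv F259294)))
theorem Q23936 : ∀ i, i < 23936 → P i := stepQ 23935 Q23935 (allL N23935 (tt N24965 (iv F259013)) (tt N25116 (iv F259577)) (tt N22631 F254612) (tt N25117 D57887) (tt N22630 (iv D56705)) (tt N23043 F254613) (tt N25113 (iv F259568)) (tt N22645 F254614) (tt N22655 F254615) (tt N25032 (iv F259299)))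
theorem Q23937 : ∀ i, i < 23937 → P i := stepQ 23936 Q23936 (allL N23936 (tt N22632 (iv D56706)) (tt N23121 F254616) (tt N22759 F254617) (tt N24460 (iv F256401)) (tt N23131 F254618) (tt N25115 (iv F259574)) (tt N23936 F254619) (tt N22646 F254620) (tt N22656 F254621) (tt N24487 (iv F256558)))
theorem Q23938 : ∀ i, i < 23938 → P i := stepQ 23937 Q23937 (allL N23937 (tt N22794 F254622) (tt N22636 F254623) (tt N22678 F254624) (tt N24595 (iv F257216)) (tt N24987 (iv F259114)) (tt N22647 F254625) (tt N23141 F254626) (tt N22634 F254627) (tt N22633 (iv D56707)) (tt N22675 F254628))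
theorem Q23939 : ∀ i, i < 23939 → P i := stepQ 23938 Q23938 (allL N23938 (tt N24580 (iv F257136)) (tt N22639 F254629) (tt N24598 (iv F257238)) (tt N25075 (iv F259453)) (tt N22635 (iv D56708)) (tt N24863 (iv F258572)) (tt N24599 (iv F257246)) (tt N25105 (iv F259534)) (tt N23938 F254630) (tt N24618 (iv F257346)))
theorem Q23940 : ∀ i, i < 23940 → P i := stepQ 23939 Q23939 (allL N23939 (tt N24486 (iv F256546)) (tt N24595 (iv F257222)) (tt N25031 (iv F259289)) (tt N22636 (iv D56709)) (tt N25118 D57888) (tt N22648 F254631) (tt N25106 (iv F259538)) (tt N22637 F254632) (tt N23939 F254633) (tt N24645 (iv F257478)))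
theorem Q23941 : ∀ i, i < 23941 → P i := stepQ 23940 Q23940 (allL N23940 (tt N24494 (iv F256596)) (tt N24599 (iv F257244)) (tt N25036 (iv F259317)) (tt N25091 (iv F259501)) (tt N22637 (iv D56710)) (tt N25119 D57889) (tt N22639 F254634) (tt N25118 (iv F259583)) (tt N23940 F254635) (tt N24648 (iv F257493)))
theorem Q23942 : ∀ i, i < 23942 → P i := stepQ 23941 Q23941 (allL N23941 (tt N24966 (iv F259018)) (tt N25035 (iv F259310)) (tt N22639 F254636) (tt N25120 D57890) (tt N22638 (iv D56711)) (tt N22809 F254637) (tt N25036 (iv F259319)) (tt N25109 (iv F259551)) (tt N23941 F254638) (tt N22851 F254639))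
theorem Q23943 : ∀ i, i < 23943 → P i := stepQ 23942 Q23942 (allL N23942 (tt N23078 F254640) (tt N24863 (iv F258570)) (tt N22809 F254641) (tt N25094 (iv F259507)) (tt N22640 F254642) (tt N22639 (iv D56712)) (tt N24454 (iv F256366)) (tt N24659 (iv F257561)) (tt N23942 F254643) (tt N22720 F254644))
theorem Q23944 : ∀ i, i < 23944 → P i := stepQ 23943 Q23943 (allL N23943 (tt N24491 (iv F256579)) (tt N22861 (iv F254648)) (tt N22641 (iv D56713)) (tt N25031 (iv F259290)) (tt N25121 D57891) (tt N22650 F254645) (tt N25110 (iv F259556)) (tt N22642 F254646) (tt N22657 F254647) (tt N25033 (iv F259305)))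
theorem Q23945 : ∀ i, i < 23945 → P i := stepQ 23944 Q23944 (allL N23944 (tt N24492 (iv F256584)) (tt N24647 (iv F257484)) (tt N25121 (iv F259592)) (tt N25099 (iv F259522)) (tt N22641 (iv D56714)) (tt N22977 F254649) (tt N25111 (iv F259559)) (tt N22643 F254650) (tt N22658 F254651) (tt N25034 (iv F259309)))
theorem Q23946 : ∀ i, i < 23946 → P i := stepQ 23945 Q23945 (allL N23945 (tt N24497 (iv F256616)) (tt N22851 F254652) (tt N22643 F254653) (tt N25122 D57892) (tt N22642 (iv D56715)) (tt N22840 F254654) (tt N22645 F254655) (tt N25121 (iv F259594)) (tt N22659 F254656) (tt N25035 (iv F259315)))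
theorem Q23947 : ∀ i, i < 23947 → P i := stepQ 23946 Q23946 (allL N23946 (tt N22644 (iv D56716)) (tt N23126 F254657) (tt N22751 F254658) (tt N24462 (iv F256416)) (tt N25123 D57893) (tt N22646 F254659) (tt N22765 F254660) (tt N25115 (iv F259575)) (tt N22660 F254661) (tt N24493 (iv F256595)))
theorem Q23948 : ∀ i, i < 23948 → P i := stepQ 23947 Q23947 (allL N23947 (tt N25123 (iv F259599)) (tt N22645 F254662) (tt N24648 (iv F257490)) (tt N25124 D57894) (tt N22644 (iv D56717)) (tt N24634 (iv F257427)) (tt N22851 F254663) (tt N25116 (iv F259579)) (tt N22661 F254664) (tt N25036 (iv F259321)))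
theorem Q23949 : ∀ i, i < 23949 → P i := stepQ 23948 Q23948 (allL N23948 (tt N24967 (iv F259023)) (tt N25124 (iv F259605)) (tt N25104 (iv F259532)) (tt N22645 (iv D56718)) (tt N25120 (iv F259588)) (tt N24902 (iv F258738)) (tt N25122 (iv F259598)) (tt N25117 (iv F259582)) (tt N25125 D57895) (tt N25037 (iv F259324)))
theorem Q23950 : ∀ i, i < 23950 → P i := stepQ 23949 Q23949 (allL N23949 (tt N24488 (iv F256560)) (tt N24460 (iv F256400)) (tt N22859 F254665) (tt N23121 F254666) (tt N22648 (iv D56719)) (tt N25126 D57896) (tt N23949 F254667) (tt N22649 F254668) (tt N23949 F254669) (tt N23157 F254670))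
theorem Q23951 : ∀ i, i < 23951 → P i := stepQ 23950 Q23950 (allL N23950 (tt N24495 (iv F256601)) (tt N24462 (iv F256415)) (tt N22865 F254671) (tt N23126 F254672) (tt N25119 (iv F259586)) (tt N22649 (iv D56720)) (tt N24461 (iv F256411)) (tt N25126 (iv F259610)) (tt N23950 F254673) (tt N24496 (iv F256614)))
theorem Q23952 : ∀ i, i < 23952 → P i := stepQ 23951 Q23951 (allL N23951 (tt N24498 (iv F256621)) (tt N22883 (iv F254679)) (tt N22651 (iv D56721)) (tt N23951 F254674) (tt N25127 D57897) (tt N23951 F254675) (tt N22657 F254676) (tt N22652 F254677) (tt N25110 (iv F259558)) (tt N23951 F254678))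
theorem Q23953 : ∀ i, i < 23953 → P i := stepQ 23952 Q23952 (allL N23952 (tt N24499 (iv F256628)) (tt N24650 (iv F257497)) (tt N25127 (iv F259614)) (tt N22978 F254680) (tt N22651 (iv D56722)) (tt N24849 (iv F258499)) (tt N22658 F254681) (tt N22653 F254682) (tt N25111 (iv F259561)) (tt N23952 F254683))
theorem Q23954 : ∀ i, i < 23954 → P i := stepQ 23953 Q23953 (allL N23953 (tt N25128 D57898) (tt N22652 (iv D56723)) (tt N23138 F254684) (tt N23953 F254685) (tt N25129 D57899) (tt N23953 F254686) (tt N22654 F254687) (tt N22883 F254688) (tt N25112 (iv F259566)) (tt N23953 F254689))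
theorem Q23955 : ∀ i, i < 23955 → P i := stepQ 23954 Q23954 (allL N23954 (tt N24968 (iv F259024)) (tt N25129 (iv F259625)) (tt N22653 F254690) (tt N25130 D57900) (tt N22652 (iv D56724)) (tt N25131 D57901) (tt N22655 F254691) (tt N25127 (iv F259616)) (tt N25113 (iv F259569)) (tt N23954 F254692))
theorem Q23956 : ∀ i, i < 23956 → P i := stepQ 23955 Q23955 (allL N23955 (tt N24969 (iv F259028)) (tt N24651 (iv F257505)) (tt N25131 (iv F259633)) (tt N24761 (iv F258138)) (tt N23955 F254693) (tt N22653 (iv D56725)) (tt N24903 (iv F258745)) (tt N24849 (iv F258501)) (tt N25114 (iv F259571)) (tt N23955 F254694))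
theorem Q23957 : ∀ i, i < 23957 → P i := stepQ 23956 Q23956 (allL N23956 (tt N22654 (iv D56726)) (tt N23154 F254695) (tt N22768 F254696) (tt N23956 F254697) (tt N25132 D57902) (tt N22656 F254698) (tt N25128 (iv F259622)) (tt N22660 F254699) (tt N25115 (iv F259576)) (tt N23956 F254700))
theorem Q23958 : ∀ i, i < 23958 → P i := stepQ 23957 Q23957 (allL N23957 (tt N25132 (iv F259637)) (tt N22655 F254701) (tt N24652 (iv F257513)) (tt N25133 D57903) (tt N22654 (iv D56727)) (tt N23140 F254702) (tt N25129 (iv F259627)) (tt N22661 F254703) (tt N25116 (iv F259580)) (tt N23957 F254704))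
theorem Q23959 : ∀ i, i < 23959 → P i := stepQ 23958 Q23958 (allL N23958 (tt N24860 (iv F258551)) (tt N25133 (iv F259643)) (tt N24651 (iv F257506)) (tt N22655 (iv D56728)) (tt N23958 F254705) (tt N23143 F254706) (tt N25130 (iv F259631)) (tt N22662 F254707) (tt N25134 D57904) (tt N23958 F254708))
theorem Q23960 : ∀ i, i < 23960 → P i := stepQ 23959 Q23959 (allL N23959 (tt N24500 (iv F256634)) (tt N22876 F254709) (tt N22658 F254710) (tt N25135 D57905) (tt N22657 (iv D56729)) (tt N22872 F254711) (tt N25127 (iv F259615)) (tt N22659 F254712) (tt N25121 (iv F259595)) (tt N23959 F254713))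
theorem Q23961 : ∀ i, i < 23961 → P i := stepQ 23960 Q23960 (allL N23960 (tt N24502 (iv F256648)) (tt N22882 F254714) (tt N24848 (iv F258491)) (tt N22659 (iv D56730)) (tt N23960 F254715) (tt N22879 F254716) (tt N22662 F254717) (tt N25135 (iv F259656)) (tt N25136 D57906) (tt N23960 F254718))
theorem Q23962 : ∀ i, i < 23962 → P i := stepQ 23961 Q23961 (allL N23961 (tt N22661 F254719) (tt N23156 F254720) (tt N22774 F254721) (tt N25137 D57907) (tt N22660 (iv D56731)) (tt N23155 F254722) (tt N22777 F254723) (tt N25132 (iv F259641)) (tt N25123 (iv F259604)) (tt N23961 F254724))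
theorem Q23963 : ∀ i, i < 23963 → P i := stepQ 23962 Q23962 (allL N23962 (tt N25137 (iv F259662)) (tt N22662 F254725) (tt N25138 D57908) (tt N22661 (iv D56732)) (tt N23962 F254726) (tt N24661 (iv F257575)) (tt N22882 F254727) (tt N25133 (iv F259646)) (tt N25139 D57909) (tt N23962 F254728))
theorem Q23964 : ∀ i, i < 23964 → P i := stepQ 23963 Q23963 (allL N23963 (tt N24970 (iv F259033)) (tt N25139 (iv F259672)) (tt N24850 (iv F258503)) (tt N25125 (iv F259607)) (tt N23963 F254729) (tt N24904 (iv F258748)) (tt N25136 (iv F259661)) (tt N25134 (iv F259650)) (tt N22662 (iv D56733)) (tt N25140 D57910))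
theorem Q23965 : ∀ i, i < 23965 → P i := stepQ 23964 Q23964 (allL N23964 (tt N23141 F254730) (tt N22790 F254731) (tt N22664 (iv D56734)) (tt N24856 (iv F258536)) (tt N25141 D57911) (tt N23964 F254732) (tt N22794 F254733) (tt N24504 (iv F256666)) (tt N22679 F254734) (tt N22665 F254735))
theorem Q23966 : ∀ i, i < 23966 → P i := stepQ 23965 Q23965 (allL N23965 (tt N23063 F254736) (tt N23046 F254737) (tt N25141 (iv F259679)) (tt N25085 (iv F259482)) (tt N22664 (iv D56735)) (tt N24572 (iv F257098)) (tt N23049 F254738) (tt N24581 (iv F257148)) (tt N22680 F254739) (tt N22666 F254740))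
theorem Q23967 : ∀ i, i < 23967 → P i := stepQ 23966 Q23966 (allL N23966 (tt N23041 F254741) (tt N22816 F254742) (tt N22666 F254743) (tt N25142 D57912) (tt N22665 (iv D56736)) (tt N25143 D57913) (tt N22821 F254744) (tt N24472 (iv F256479)) (tt N22667 F254745) (tt N25141 (iv F259682)))
theorem Q23968 : ∀ i, i < 23968 → P i := stepQ 23967 Q23967 (allL N23967 (tt N23062 F254746) (tt N23080 F254747) (tt N25143 (iv F259689)) (tt N25088 (iv F259494)) (tt N23967 F254748) (tt N22666 (iv D56737)) (tt N24452 (iv F256357)) (tt N24582 (iv F257156)) (tt N22668 F254749) (tt N24572 (iv F257100)))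
theorem Q23969 : ∀ i, i < 23969 → P i := stepQ 23968 Q23968 (allL N23968 (tt N22796 F254750) (tt N22815 F254751) (tt N22668 F254752) (tt N22709 F254753) (tt N23968 F254754) (tt N22667 (iv D56738)) (tt N24438 (iv F256258)) (tt N22729 F254755) (tt N25143 (iv F259692)) (tt N22682 F254756))
theorem Q23970 : ∀ i, i < 23970 → P i := stepQ 23969 Q23969 (allL N23969 (tt N22676 F254757) (tt N22875 F254758) (tt N22919 F254759) (tt N22872 F254760) (tt N22669 (iv D56739)) (tt N25135 (iv F259655)) (tt N23132 F254761) (tt N22879 F254762) (tt N24919 (iv F258809)) (tt N23969 F254763))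
theorem Q23971 : ∀ i, i < 23971 → P i := stepQ 23970 Q23970 (allL N23970 (tt N22674 F254764) (tt N22770 F254765) (tt N25144 D57914) (tt N22672 (iv D56740)) (tt N25145 D57915) (tt N23970 F254766) (tt N23136 F254767) (tt N22773 F254768) (tt N24980 (iv F259083)) (tt N23970 F254769))
theorem Q23972 : ∀ i, i < 23972 → P i := stepQ 23971 Q23971 (allL N23971 (tt N25144 (iv F259693)) (tt N24498 (iv F256622)) (tt N22674 (iv D56741)) (tt N23971 F254770) (tt N25146 D57916) (tt N23971 F254771) (tt N23139 F254772) (tt N24510 (iv F256707)) (tt N24984 (iv F259100)) (tt N23971 F254773))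
theorem Q23973 : ∀ i, i < 23973 → P i := stepQ 23972 Q23972 (allL N23972 (tt N25145 (iv F259700)) (tt N22676 F254774) (tt N25146 (iv F259706)) (tt N24652 (iv F257514)) (tt N22674 (iv D56742)) (tt N25147 D57917) (tt N23140 F254775) (tt N24655 (iv F257539)) (tt N24985 (iv F259103)) (tt N23972 F254776))
theorem Q23974 : ∀ i, i < 23974 → P i := stepQ 23973 Q23973 (allL N23973 (tt N25135 (iv F259651)) (tt N25147 (iv F259709)) (tt N24903 (iv F258742)) (tt N24500 F256640) (tt N23973 F254777) (tt N22676 (iv D56743)) (tt N25131 (iv F259635)) (tt N24502 (iv F256652)) (tt N24993 (iv F259134)) (tt N23973 F254778))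
theorem Q23975 : ∀ i, i < 23975 → P i := stepQ 23974 Q23974 (allL N23974 (tt N23040 F254779) (tt N22789 F254780) (tt N22680 F254781) (tt N24551 (iv F256975)) (tt N22679 (iv D56744)) (tt N24550 (iv F256969)) (tt N22793 F254782) (tt N24471 (iv F256472)) (tt N25141 (iv F259681)) (tt N22681 F254783))
theorem Q23976 : ∀ i, i < 23976 → P i := stepQ 23975 Q23975 (allL N23975 (tt N22693 F254784) (tt N22901 F254785) (tt N25148 D57918) (tt N22685 (iv D56745)) (tt N22690 F254786) (tt N22925 F254787) (tt N24403 (iv F256015)) (tt N22689 F254788) (tt N22748 F254789) (tt N22686 F254790))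
theorem Q23977 : ∀ i, i < 23977 → P i := stepQ 23976 Q23976 (allL N23976 (tt N22966 F254791) (tt N25149 D57919) (tt N22686 (iv D56746)) (tt N24422 (iv F256147)) (tt N22703 F254792) (tt N22930 F254793) (tt N24410 (iv F256064)) (tt N24423 (iv F256156)) (tt N22721 F254794) (tt N25148 (iv F259718)))
theorem Q23978 : ∀ i, i < 23978 → P i := stepQ 23977 Q23977 (allL N23977 (tt N22911 F254795) (tt N22689 F254796) (tt N25150 D57920) (tt N22687 (iv D56747)) (tt N22702 F254797) (tt N22892 F254798) (tt N24415 (iv F256100)) (tt N22901 F254799) (tt N22728 F254800) (tt N22903 F254801))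
theorem Q23979 : ∀ i, i < 23979 → P i := stepQ 23978 Q23978 (allL N23978 (tt N22702 F254802) (tt N22892 F254803) (tt N25151 D57921) (tt N22688 (iv D56748)) (tt N22911 F254804) (tt N22689 F254805) (tt N24663 (iv F257590)) (tt N22925 F254806) (tt N22757 F254807) (tt N22927 F254808))
theorem Q23980 : ∀ i, i < 23980 → P i := stepQ 23979 Q23979 (allL N23979 (tt N22703 F254809) (tt N25152 D57922) (tt N22689 (iv D56749)) (tt N24419 (iv F256128)) (tt N22966 F254810) (tt N25151 (iv F259731)) (tt N24416 (iv F256108)) (tt N25148 (iv F259716)) (tt N22758 F254811) (tt N24423 (iv F256158)))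
theorem Q23981 : ∀ i, i < 23981 → P i := stepQ 23980 Q23980 (allL N23980 (tt N24423 (iv F256151)) (tt N25153 D57923) (tt N22690 (iv D56750)) (tt N24416 (iv F256105)) (tt N25148 (iv F259714)) (tt N22950 F254812) (tt N24419 (iv F256129)) (tt N22966 F254813) (tt N23094 F254814) (tt N22703 F254815))
theorem Q23982 : ∀ i, i < 23982 → P i := stepQ 23981 Q23981 (allL N23981 (tt N24403 (iv F256012)) (tt N22945 F254816) (tt N25154 D57924) (tt N22691 (iv D56751)) (tt N22700 F254817) (tt N24793 (iv F258291)) (tt N22693 F254818) (tt N24408 (iv F256054)) (tt N22819 F254819) (tt N22965 F254820))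
theorem Q23983 : ∀ i, i < 23983 → P i := stepQ 23982 Q23982 (allL N23982 (tt N24417 (iv F256112)) (tt N24696 (iv F257793)) (tt N25155 D57925) (tt N22692 (iv D56752)) (tt N24408 (iv F256052)) (tt N22937 F254821) (tt N24406 (iv F256038)) (tt N22700 F254822) (tt N24464 (iv F256433)) (tt N22960 F254823))
theorem Q23984 : ∀ i, i < 23984 → P i := stepQ 23983 Q23983 (allL N23983 (tt N25148 (iv F259713)) (tt N25156 D57926) (tt N22693 (iv D56753)) (tt N25155 (iv F259746)) (tt N24423 (iv F256153)) (tt N22939 F254824) (tt N25154 (iv F259743)) (tt N22703 F254825) (tt N22831 F254826) (tt N22966 F254827))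
theorem Q23985 : ∀ i, i < 23985 → P i := stepQ 23984 Q23984 (allL N23984 (tt N24689 (iv F257753)) (tt N22699 F254828) (tt N22954 F254829) (tt N25157 D57927) (tt N22704 F254830) (tt N22695 F254831) (tt N24667 (iv F257622)) (tt N22933 F254832) (tt N22694 (iv D56754)) (tt N22946 F254833))
theorem Q23986 : ∀ i, i < 23986 → P i := stepQ 23985 Q23985 (allL N23985 (tt N24711 (iv F257864)) (tt N22700 F254834) (tt N25158 D57928) (tt N22695 (iv D56755)) (tt N22945 F254835) (tt N25157 (iv F259756)) (tt N22903 F254836) (tt N24696 (iv F257797)) (tt N22992 F254837) (tt N24415 (iv F256103)))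
theorem Q23987 : ∀ i, i < 23987 → P i := stepQ 23986 Q23986 (allL N23986 (tt N23082 F254838) (tt N22991 F254839) (tt N22843 F254840) (tt N25159 D57929) (tt N23986 F254841) (tt N22697 F254842) (tt N23023 F254843) (tt N22936 F254844) (tt N22696 (iv D56756)) (tt N24526 (iv F256818)))
theorem Q23988 : ∀ i, i < 23988 → P i := stepQ 23987 Q23987 (allL N23987 (tt N23093 F254845) (tt N22992 F254846) (tt N25160 D57930) (tt N22697 (iv D56757)) (tt N22819 F254847) (tt N25159 (iv F259766)) (tt N22714 F254848) (tt N24464 (iv F256432)) (tt N22700 F254849) (tt N24527 (iv F256824)))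
theorem Q23989 : ∀ i, i < 23989 → P i := stepQ 23988 Q23988 (allL N23988 (tt N22944 F254850) (tt N24667 (iv F257618)) (tt N22701 F254851) (tt N25161 D57931) (tt N22706 F254852) (tt N22926 F254853) (tt N22699 F254854) (tt N24684 (iv F257731)) (tt N22698 (iv D56758)) (tt N22942 F254855))
theorem Q23990 : ∀ i, i < 23990 → P i := stepQ 23989 Q23989 (allL N23989 (tt N24418 (iv F256120)) (tt N25157 (iv F259755)) (tt N25162 D57932) (tt N22699 (iv D56759)) (tt N25163 D57933) (tt N22700 F254856) (tt N25161 (iv F259777)) (tt N22937 F254857) (tt N25159 (iv F259769)) (tt N22948 F254858))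
theorem Q23991 : ∀ i, i < 23991 → P i := stepQ 23990 Q23990 (allL N23990 (tt N24419 (iv F256127)) (tt N25164 D57934) (tt N22700 (iv D56760)) (tt N22703 F254859) (tt N25154 (iv F259742)) (tt N25162 (iv F259781)) (tt N24423 (iv F256155)) (tt N25155 (iv F259748)) (tt N25160 (iv F259774)) (tt N24416 (iv F256111)))
theorem Q23992 : ∀ i, i < 23992 → P i := stepQ 23991 Q23991 (allL N23991 (tt N24663 (iv F257586)) (tt N22965 F254860) (tt N25165 D57935) (tt N22701 (iv D56761)) (tt N24415 (iv F256098)) (tt N24425 (iv F256169)) (tt N22702 F254861) (tt N24777 (iv F258223)) (tt N22853 F254862) (tt N22945 F254863))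
theorem Q23993 : ∀ i, i < 23993 → P i := stepQ 23992 Q23992 (allL N23992 (tt N25151 (iv F259729)) (tt N25166 D57936) (tt N22702 (iv D56762)) (tt N25162 (iv F259780)) (tt N25150 (iv F259724)) (tt N22703 F254864) (tt N25165 (iv F259788)) (tt N22939 F254865) (tt N22854 F254866) (tt N22950 F254867))
theorem Q23994 : ∀ i, i < 23994 → P i := stepQ 23993 Q23993 (allL N23993 (tt N25167 D57937) (tt N22703 (iv D56763)) (tt N22967 F254868) (tt N25164 (iv F259787)) (tt N25149 (iv F259720)) (tt N25166 (iv F259792)) (tt N24428 (iv F256184)) (tt N25156 (iv F259752)) (tt N22855 F254869) (tt N25153 (iv F259741)))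
theorem Q23995 : ∀ i, i < 23995 → P i := stepQ 23994 Q23994 (allL N23994 (tt N24693 (iv F257774)) (tt N22707 F254870) (tt N24685 (iv F257735)) (tt N22704 (iv D56764)) (tt N25168 D57938) (tt N22705 F254871) (tt N24669 (iv F257635)) (tt N22934 F254872) (tt N23994 F254873) (tt N22947 F254874))
theorem Q23996 : ∀ i, i < 23996 → P i := stepQ 23995 Q23995 (allL N23995 (tt N24420 (iv F256132)) (tt N24669 (iv F257632)) (tt N22934 F254875) (tt N22706 (iv D56765)) (tt N25169 D57939) (tt N22708 F254876) (tt N22707 F254877) (tt N24685 (iv F257738)) (tt N23995 F254878) (tt N22943 F254879))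
theorem Q23997 : ∀ i, i < 23997 → P i := stepQ 23996 Q23996 (allL N23996 (tt N24421 (iv F256140)) (tt N25168 (iv F259798)) (tt N24786 (iv F258268)) (tt N25163 (iv F259784)) (tt N22707 (iv D56766)) (tt N24800 (iv F258318)) (tt N25169 (iv F259803)) (tt N22938 F254880) (tt N23996 F254881) (tt N22949 F254882))
theorem Q23998 : ∀ i, i < 23998 → P i := stepQ 23997 Q23997 (allL N23997 (tt N22797 F254883) (tt N24465 (iv F256435)) (tt N22711 F254884) (tt N25170 D57940) (tt N22710 F254885) (tt N23017 F254886) (tt N24440 (iv F256271)) (tt N22730 F254887) (tt N22709 (iv D56767)) (tt N22745 F254888))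
theorem Q23999 : ∀ i, i < 23999 → P i := stepQ 23998 Q23998 (allL N23998 (tt N22798 F254889) (tt N24486 (iv F256547)) (tt N22786 F254890) (tt N22710 (iv D56768)) (tt N25171 D57941) (tt N22733 F254891) (tt N24441 (iv F256277)) (tt N22731 F254892) (tt N23998 F254893) (tt N22746 F254894))
theorem Q24000 : ∀ i, i < 24000 → P i := stepQ 23999 Q23999 (allL N23999 (tt N22799 F254895) (tt N22983 F254896) (tt N25172 D57942) (tt N22711 (iv D56769)) (tt N22787 F254897) (tt N23019 F254898) (tt N24443 (iv F256290)) (tt N22732 F254899) (tt N22713 F254900) (tt N22748 F254901))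
theorem Q24001 : ∀ i, i < 24001 → P i := stepQ 24000 Q24000 (allL N24000 (tt N22787 F254902) (tt N22985 F254903) (tt N25173 D57943) (tt N22712 (iv D56770)) (tt N22799 F254904) (tt N23020 F254905) (tt N24527 (iv F256822)) (tt N22713 F254906) (tt N22732 F254907) (tt N22714 F254908))
theorem Q24002 : ∀ i, i < 24002 → P i := stepQ 24001 Q24001 (allL N24001 (tt N23071 F254909) (tt N25174 D57944) (tt N22713 (iv D56771)) (tt N25097 (iv F259518)) (tt N22812 F254910) (tt N23021 F254911) (tt N24456 (iv F256376)) (tt N25173 (iv F259824)) (tt N25172 (iv F259819)) (tt N22721 F254912))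
theorem Q24003 : ∀ i, i < 24003 → P i := stepQ 24002 Q24002 (allL N24002 (tt N23094 F254913) (tt N25175 D57945) (tt N22714 (iv D56772)) (tt N24626 (iv F257386)) (tt N22831 F254914) (tt N23027 F254915) (tt N25160 (iv F259773)) (tt N22721 F254916) (tt N24423 (iv F256157)) (tt N25173 (iv F259826)))
theorem Q24004 : ∀ i, i < 24004 → P i := stepQ 24003 Q24003 (allL N24003 (tt N22717 F254917) (tt N23096 F254918) (tt N22810 F254919) (tt N25176 D57946) (tt N22716 F254920) (tt N23028 F254921) (tt N22807 F254922) (tt N24616 (iv F257333)) (tt N22715 (iv D56773)) (tt N22847 F254923))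
theorem Q24005 : ∀ i, i < 24005 → P i := stepQ 24004 Q24004 (allL N24004 (tt N25176 (iv F259835)) (tt N22719 F254924) (tt N25177 D57947) (tt N22717 (iv D56774)) (tt N25178 D57948) (tt N23030 F254925) (tt N24473 (iv F256483)) (tt N24620 (iv F257358)) (tt N24606 (iv F257287)) (tt N24862 (iv F258568)))
theorem Q24006 : ∀ i, i < 24006 → P i := stepQ 24005 Q24005 (allL N24005 (tt N24624 (iv F257373)) (tt N22720 F254926) (tt N24525 (iv F256805)) (tt N25178 (iv F259843)) (tt N22718 (iv D56775)) (tt N24618 (iv F257343)) (tt N24474 (iv F256490)) (tt N24658 (iv F257555)) (tt N22724 F254927) (tt N24863 (iv F258575)))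
theorem Q24007 : ∀ i, i < 24007 → P i := stepQ 24006 Q24006 (allL N24006 (tt N23110 F254928) (tt N25179 D57949) (tt N22719 (iv D56776)) (tt N22721 F254929) (tt N25180 D57950) (tt N23033 F254930) (tt N24480 (iv F256526)) (tt N24626 (iv F257389)) (tt N24608 (iv F257295)) (tt N25097 (iv F259519)))
theorem Q24008 : ∀ i, i < 24008 → P i := stepQ 24007 Q24007 (allL N24007 (tt N23111 F254931) (tt N25178 (iv F259842)) (tt N25180 (iv F259847)) (tt N22720 F254932) (tt N22719 (iv D56777)) (tt N25019 (iv F259246)) (tt N24481 (iv F256529)) (tt N24627 (iv F257394)) (tt N24609 (iv F257299)) (tt N25094 (iv F259509)))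
theorem Q24009 : ∀ i, i < 24009 → P i := stepQ 24008 Q24008 (allL N24008 (tt N25181 D57951) (tt N22721 (iv D56778)) (tt N23011 F254933) (tt N25179 (iv F259844)) (tt N22855 F254934) (tt N23034 F254935) (tt N24485 (iv F256545)) (tt N25175 (iv F259834)) (tt N25149 (iv F259722)) (tt N25174 (iv F259830)))
theorem Q24010 : ∀ i, i < 24010 → P i := stepQ 24009 Q24009 (allL N24009 (tt N23145 F254936) (tt N23135 F254937) (tt N22883 F254938) (tt N23133 F254939) (tt N24661 (iv F257574)) (tt N24009 F254940) (tt N22726 (iv D56779)) (tt N23138 F254941) (tt N25027 (iv F259272)) (tt N24009 F254942))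
theorem Q24011 : ∀ i, i < 24011 → P i := stepQ 24010 Q24010 (allL N24010 (tt N23000 F254943) (tt N22748 F254944) (tt N25182 D57952) (tt N22727 (iv D56780)) (tt N22830 F254945) (tt N22981 F254946) (tt N24682 (iv F257717)) (tt N22728 F254947) (tt N22901 F254948) (tt N22983 F254949))
theorem Q24012 : ∀ i, i < 24012 → P i := stepQ 24011 Q24011 (allL N24011 (tt N23010 F254950) (tt N25183 D57953) (tt N22728 (iv D56781)) (tt N24880 (iv F258647)) (tt N22854 F254951) (tt N22982 F254952) (tt N24524 (iv F256802)) (tt N25182 (iv F259856)) (tt N25150 (iv F259727)) (tt N24893 (iv F258713)))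
theorem Q24013 : ∀ i, i < 24013 → P i := stepQ 24012 Q24012 (allL N24012 (tt N22806 F254953) (tt N24476 (iv F256503)) (tt N24582 (iv F257152)) (tt N25184 D57954) (tt N24012 F254954) (tt N24472 (iv F256477)) (tt N24529 (iv F256835)) (tt N25143 (iv F259691)) (tt N22729 (iv D56782)) (tt N24561 (iv F257041)))
theorem Q24014 : ∀ i, i < 24014 → P i := stepQ 24013 Q24013 (allL N24013 (tt N22808 F254955) (tt N24479 (iv F256520)) (tt N25185 D57955) (tt N22730 (iv D56783)) (tt N25186 D57956) (tt N24473 (iv F256482)) (tt N24530 (iv F256841)) (tt N25170 (iv F259808)) (tt N25184 (iv F259863)) (tt N22755 F254956))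
theorem Q24015 : ∀ i, i < 24015 → P i := stepQ 24014 Q24014 (allL N24014 (tt N22809 F254957) (tt N24494 (iv F256597)) (tt N23078 F254958) (tt N25186 (iv F259868)) (tt N22731 (iv D56784)) (tt N24966 (iv F259020)) (tt N24531 (iv F256848)) (tt N25171 (iv F259812)) (tt N24014 F254959) (tt N22756 F254960))
theorem Q24016 : ∀ i, i < 24016 → P i := stepQ 24015 Q24015 (allL N24015 (tt N22812 F254961) (tt N25187 D57957) (tt N22732 (iv D56785)) (tt N25185 (iv F259865)) (tt N23071 F254962) (tt N24891 (iv F258695)) (tt N24533 (iv F256860)) (tt N25172 (iv F259818)) (tt N25173 (iv F259825)) (tt N22758 F254963))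
theorem Q24017 : ∀ i, i < 24017 → P i := stepQ 24016 Q24016 (allL N24016 (tt N23037 F254964) (tt N22736 F254965) (tt N24448 (iv F256327)) (tt N23035 F254966) (tt N22735 F254967) (tt N24770 (iv F258196)) (tt N22740 F254968) (tt N23098 F254969) (tt N25188 D57958) (tt N22734 (iv D56786)))
theorem Q24018 : ∀ i, i < 24018 → P i := stepQ 24017 Q24017 (allL N24017 (tt N23137 F254970) (tt N22737 F254971) (tt N24458 (iv F256388)) (tt N25189 D57959) (tt N25188 (iv F259874)) (tt N24017 F254972) (tt N22741 F254973) (tt N23124 F254974) (tt N22735 (iv D56787)) (tt N24437 (iv F256251)))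
theorem Q24019 : ∀ i, i < 24019 → P i := stepQ 24018 Q24018 (allL N24018 (tt N22816 F254975) (tt N25188 (iv F259873)) (tt N22739 F254976) (tt N25190 D57960) (tt N22737 F254977) (tt N25078 (iv F259463)) (tt N22745 F254978) (tt N23103 F254979) (tt N22736 (iv D56788)) (tt N24440 (iv F256273)))
theorem Q24020 : ∀ i, i < 24020 → P i := stepQ 24019 Q24019 (allL N24019 (tt N22817 F254980) (tt N25189 (iv F259878)) (tt N22775 F254981) (tt N22737 (iv D56789)) (tt N25191 D57961) (tt N24019 F254982) (tt N22746 F254983) (tt N23148 F254984) (tt N22767 F254985) (tt N24441 (iv F256280)))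
theorem Q24021 : ∀ i, i < 24021 → P i := stepQ 24020 Q24020 (allL N24020 (tt N22818 F254986) (tt N24681 (iv F257709)) (tt N25078 (iv F259461)) (tt N25192 D57962) (tt N24020 F254987) (tt N22739 F254988) (tt N24724 (iv F257949)) (tt N24535 (iv F256875)) (tt N22738 (iv D56790)) (tt N24442 (iv F256286)))
theorem Q24022 : ∀ i, i < 24022 → P i := stepQ 24021 Q24021 (allL N24021 (tt N22819 F254989) (tt N24682 (iv F257715)) (tt N25193 D57963) (tt N22739 (iv D56791)) (tt N23093 F254990) (tt N25192 (iv F259893)) (tt N22748 F254991) (tt N24536 (iv F256879)) (tt N24403 (iv F256017)) (tt N24443 (iv F256292)))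
theorem Q24023 : ∀ i, i < 24023 → P i := stepQ 24022 Q24022 (allL N24022 (tt N24981 (iv F259084)) (tt N22745 F254992) (tt N24449 (iv F256335)) (tt N25194 D57964) (tt N22741 F254993) (tt N24446 (iv F256313)) (tt N25188 (iv F259875)) (tt N22750 F254994) (tt N22740 (iv D56792)) (tt N24465 (iv F256440)))
theorem Q24024 : ∀ i, i < 24024 → P i := stepQ 24023 Q24023 (allL N24023 (tt N24645 (iv F257471)) (tt N22746 F254995) (tt N25115 (iv F259573)) (tt N22741 (iv D56793)) (tt N25195 D57965) (tt N22759 F254996) (tt N25189 (iv F259880)) (tt N22751 F254997) (tt N22768 F254998) (tt N24486 (iv F256551)))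
theorem Q24025 : ∀ i, i < 24025 → P i := stepQ 24024 Q24024 (allL N24024 (tt N22824 F254999) (tt N24445 (iv F256302)) (tt N22922 F255000) (tt N22744 F255001) (tt N24024 F255002) (tt N22743 F255003) (tt N24720 (iv F257920)) (tt N22752 F255004) (tt N25196 D57966) (tt N22742 (iv D56794)))
theorem Q24026 : ∀ i, i < 24026 → P i := stepQ 24025 Q24025 (allL N24025 (tt N22826 F255005) (tt N24979 (iv F259074)) (tt N23092 F255006) (tt N25197 D57967) (tt N22769 F255007) (tt N25196 (iv F259905)) (tt N23108 F255008) (tt N22753 F255009) (tt N22743 (iv D56795)) (tt N24552 (iv F256985)))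
theorem Q24027 : ∀ i, i < 24027 → P i := stepQ 24026 Q24026 (allL N24026 (tt N22827 F255010) (tt N24446 (iv F256310)) (tt N22747 F255011) (tt N25198 D57968) (tt N22760 F255012) (tt N22745 F255013) (tt N24722 (iv F257934)) (tt N22754 F255014) (tt N22744 (iv D56796)) (tt N23017 F255015))
theorem Q24028 : ∀ i, i < 24028 → P i := stepQ 24027 Q24027 (allL N24027 (tt N22828 F255016) (tt N25194 (iv F259897)) (tt N25199 D57969) (tt N22745 (iv D56797)) (tt N25200 D57970) (tt N25198 (iv F259912)) (tt N25190 (iv F259884)) (tt N22755 F255017) (tt N25197 (iv F259910)) (tt N25170 (iv F259809)))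
theorem Q24029 : ∀ i, i < 24029 → P i := stepQ 24028 Q24028 (allL N24028 (tt N22829 F255018) (tt N25195 (iv F259899)) (tt N23122 F255019) (tt N25200 (iv F259919)) (tt N22746 (iv D56798)) (tt N25201 D57971) (tt N25191 (iv F259889)) (tt N22756 F255020) (tt N22771 F255021) (tt N25171 (iv F259814)))
theorem Q24030 : ∀ i, i < 24030 → P i := stepQ 24029 Q24029 (allL N24029 (tt N22830 F255022) (tt N22981 F255023) (tt N25202 D57972) (tt N22747 (iv D56799)) (tt N23000 F255024) (tt N22748 F255025) (tt N24725 (iv F257954)) (tt N22757 F255026) (tt N22925 F255027) (tt N23019 F255028))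
theorem Q24031 : ∀ i, i < 24031 → P i := stepQ 24030 Q24030 (allL N24030 (tt N22831 F255029) (tt N25203 D57973) (tt N22748 (iv D56800)) (tt N25199 (iv F259916)) (tt N23094 F255030) (tt N25202 (iv F259928)) (tt N25193 (iv F259896)) (tt N22758 F255031) (tt N25148 (iv F259717)) (tt N25172 (iv F259820)))
theorem Q24032 : ∀ i, i < 24032 → P i := stepQ 24031 Q24031 (allL N24031 (tt N24973 (iv F259048)) (tt N22753 F255032) (tt N24768 (iv F258182)) (tt N25204 D57974) (tt N22772 F255033) (tt N24452 (iv F256356)) (tt N23085 F255034) (tt N24979 (iv F259077)) (tt N22749 (iv D56801)) (tt N24559 (iv F257031)))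
theorem Q24033 : ∀ i, i < 24033 → P i := stepQ 24032 Q24032 (allL N24032 (tt N25017 (iv F259235)) (tt N22755 F255035) (tt N25205 D57975) (tt N22750 (iv D56802)) (tt N25206 D57976) (tt N24453 (iv F256360)) (tt N23114 F255036) (tt N25194 (iv F259898)) (tt N25204 (iv F259936)) (tt N24479 (iv F256523)))
theorem Q24034 : ∀ i, i < 24034 → P i := stepQ 24033 Q24033 (allL N24033 (tt N24648 (iv F257488)) (tt N22756 F255037) (tt N25123 (iv F259601)) (tt N25206 (iv F259939)) (tt N22751 (iv D56803)) (tt N25207 D57977) (tt N23130 F255038) (tt N25195 (iv F259900)) (tt N22774 F255039) (tt N24494 (iv F256600)))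
theorem Q24035 : ∀ i, i < 24035 → P i := stepQ 24034 Q24034 (allL N24034 (tt N22843 F255040) (tt N24452 (iv F256354)) (tt N23082 F255041) (tt N25208 D57978) (tt N24034 F255042) (tt N22753 F255043) (tt N23080 F255044) (tt N25196 (iv F259906)) (tt N22752 (iv D56804)) (tt N24562 (iv F257047)))
theorem Q24036 : ∀ i, i < 24036 → P i := stepQ 24035 Q24035 (allL N24035 (tt N22845 F255045) (tt N25204 (iv F259934)) (tt N25209 D57979) (tt N22753 (iv D56805)) (tt N25210 D57980) (tt N25208 (iv F259947)) (tt N23088 F255046) (tt N25197 (iv F259909)) (tt N22755 F255047) (tt N24563 (iv F257050)))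
theorem Q24037 : ∀ i, i < 24037 → P i := stepQ 24036 Q24036 (allL N24036 (tt N22848 F255048) (tt N24453 (iv F256359)) (tt N25211 D57981) (tt N22754 (iv D56806)) (tt N25212 D57982) (tt N22755 F255049) (tt N24862 (iv F258566)) (tt N25198 (iv F259913)) (tt N25208 (iv F259949)) (tt N24473 (iv F256485)))
theorem Q24038 : ∀ i, i < 24038 → P i := stepQ 24037 Q24037 (allL N24037 (tt N22849 F255050) (tt N25213 D57983) (tt N22755 (iv D56807)) (tt N22758 F255051) (tt N25214 D57984) (tt N25211 (iv F259960)) (tt N24538 (iv F256890)) (tt N25199 (iv F259917)) (tt N25209 (iv F259953)) (tt N25185 (iv F259866)))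
theorem Q24039 : ∀ i, i < 24039 → P i := stepQ 24038 Q24038 (allL N24038 (tt N22850 F255052) (tt N25206 (iv F259938)) (tt N25214 (iv F259965)) (tt N22756 F255053) (tt N22755 (iv D56808)) (tt N25215 D57985) (tt N24539 (iv F256897)) (tt N25200 (iv F259920)) (tt N25210 (iv F259957)) (tt N25186 (iv F259869)))
theorem Q24040 : ∀ i, i < 24040 → P i := stepQ 24039 Q24039 (allL N24039 (tt N22851 F255054) (tt N25207 (iv F259941)) (tt N23130 F255055) (tt N25215 (iv F259968)) (tt N22765 F255056) (tt N22756 (iv D56809)) (tt N25123 (iv F259603)) (tt N25201 (iv F259924)) (tt N22777 F255057) (tt N24966 (iv F259022)))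
theorem Q24041 : ∀ i, i < 24041 → P i := stepQ 24040 Q24040 (allL N24040 (tt N22854 F255058) (tt N25216 D57986) (tt N22757 (iv D56810)) (tt N25211 (iv F259959)) (tt N23010 F255059) (tt N22758 F255060) (tt N24864 (iv F258578)) (tt N25202 (iv F259929)) (tt N25151 (iv F259733)) (tt N24891 (iv F258699)))
theorem Q24042 : ∀ i, i < 24042 → P i := stepQ 24041 Q24041 (allL N24041 (tt N25217 D57987) (tt N22758 (iv D56811)) (tt N25183 (iv F259859)) (tt N25213 (iv F259963)) (tt N23117 F255061) (tt N25216 (iv F259971)) (tt N24544 (iv F256925)) (tt N25203 (iv F259933)) (tt N25152 (iv F259736)) (tt N25187 (iv F259871)))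
theorem Q24043 : ∀ i, i < 24043 → P i := stepQ 24042 Q24042 (allL N24042 (tt N23157 F255062) (tt N22762 F255063) (tt N23131 F255064) (tt N24457 (iv F256381)) (tt N22759 (iv D56812)) (tt N25218 D57988) (tt N24042 F255065) (tt N22763 F255066) (tt N22778 F255067) (tt N24488 (iv F256567)))
theorem Q24044 : ∀ i, i < 24044 → P i := stepQ 24043 Q24043 (allL N24043 (tt N22860 F255068) (tt N24447 (iv F256318)) (tt N23014 F255069) (tt N22760 (iv D56813)) (tt N25219 D57989) (tt N22761 F255070) (tt N24723 (iv F257941)) (tt N22764 F255071) (tt N24043 F255072) (tt N23018 F255073))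
theorem Q24045 : ∀ i, i < 24045 → P i := stepQ 24044 Q24044 (allL N24044 (tt N22861 F255074) (tt N25218 (iv F259975)) (tt N23123 F255075) (tt N24931 (iv F258863)) (tt N25201 (iv F259923)) (tt N22762 (iv D56814)) (tt N25220 D57990) (tt N22765 F255076) (tt N22779 F255077) (tt N24961 (iv F258999)))
theorem Q24046 : ∀ i, i < 24046 → P i := stepQ 24045 Q24045 (allL N24045 (tt N24496 (iv F256608)) (tt N22765 F255078) (tt N23125 F255079) (tt N24461 (iv F256410)) (tt N25207 (iv F259943)) (tt N22763 (iv D56815)) (tt N23126 F255080) (tt N25218 (iv F259977)) (tt N22780 F255081) (tt N24495 (iv F256607)))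
theorem Q24047 : ∀ i, i < 24047 → P i := stepQ 24046 Q24046 (allL N24046 (tt N22868 F255082) (tt N24454 (iv F256364)) (tt N23016 F255083) (tt N25212 (iv F259962)) (tt N22764 (iv D56816)) (tt N24933 (iv F258875)) (tt N24863 (iv F258573)) (tt N25219 (iv F259981)) (tt N24046 F255084) (tt N24474 (iv F256493)))
theorem Q24048 : ∀ i, i < 24048 → P i := stepQ 24047 Q24047 (allL N24047 (tt N23138 F255085) (tt N22767 F255086) (tt N25128 (iv F259619)) (tt N22766 (iv D56817)) (tt N25221 D57991) (tt N24047 F255087) (tt N22768 F255088) (tt N23145 F255089) (tt N25189 (iv F259882)) (tt N24047 F255090))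
theorem Q24049 : ∀ i, i < 24049 → P i := stepQ 24048 Q24048 (allL N24048 (tt N22871 F255091) (tt N25221 (iv F259989)) (tt N22776 F255092) (tt N23152 F255093) (tt N22767 (iv D56818)) (tt N25222 D57992) (tt N22771 F255094) (tt N23151 F255095) (tt N25191 (iv F259891)) (tt N24048 F255096))
theorem Q24050 : ∀ i, i < 24050 → P i := stepQ 24049 Q24049 (allL N24049 (tt N24652 (iv F257511)) (tt N22771 F255097) (tt N25132 (iv F259639)) (tt N25145 (iv F259702)) (tt N22768 (iv D56819)) (tt N25223 D57993) (tt N25221 (iv F259991)) (tt N22774 F255098) (tt N25195 (iv F259901)) (tt N24049 F255099))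
theorem Q24051 : ∀ i, i < 24051 → P i := stepQ 24050 Q24050 (allL N24050 (tt N22874 F255100) (tt N24980 (iv F259079)) (tt N23148 F255101) (tt N22769 (iv D56820)) (tt N25224 D57994) (tt N24050 F255102) (tt N23128 F255103) (tt N22775 F255104) (tt N22770 F255105) (tt N24553 (iv F256992)))
theorem Q24052 : ∀ i, i < 24052 → P i := stepQ 24051 Q24051 (allL N24051 (tt N22875 F255106) (tt N25145 (iv F259701)) (tt N23151 F255107) (tt N22771 F255108) (tt N22770 (iv D56821)) (tt N25225 D57995) (tt N23152 F255109) (tt N22776 F255110) (tt N25224 (iv F260010)) (tt N24051 F255111))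
theorem Q24053 : ∀ i, i < 24053 → P i := stepQ 24052 Q24052 (allL N24052 (tt N22876 F255112) (tt N25223 (iv F260001)) (tt N23146 F255113) (tt N25225 (iv F260013)) (tt N22779 F255114) (tt N22771 (iv D56822)) (tt N25226 D57996) (tt N22777 F255115) (tt N25201 (iv F259925)) (tt N24052 F255116))
theorem Q24054 : ∀ i, i < 24054 → P i := stepQ 24053 Q24053 (allL N24053 (tt N24642 (iv F257452)) (tt N22775 F255117) (tt N25227 D57997) (tt N22772 (iv D56823)) (tt N25228 D57998) (tt N24053 F255118) (tt N23120 F255119) (tt N24980 (iv F259082)) (tt N22773 F255120) (tt N24560 (iv F257036)))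
theorem Q24055 : ∀ i, i < 24055 → P i := stepQ 24054 Q24054 (allL N24054 (tt N24510 (iv F256702)) (tt N25128 (iv F259618)) (tt N22773 (iv D56824)) (tt N24054 F255121) (tt N25229 D57999) (tt N24054 F255122) (tt N23154 F255123) (tt N25144 (iv F259698)) (tt N25227 (iv F260023)) (tt N24054 F255124))
theorem Q24056 : ∀ i, i < 24056 → P i := stepQ 24055 Q24055 (allL N24055 (tt N24655 (iv F257535)) (tt N22776 F255125) (tt N25229 (iv F260027)) (tt N22774 F255126) (tt N22773 (iv D56825)) (tt N25230 D58000) (tt N23153 F255127) (tt N25145 (iv F259704)) (tt N25228 (iv F260026)) (tt N24055 F255128))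
theorem Q24057 : ∀ i, i < 24057 → P i := stepQ 24056 Q24056 (allL N24056 (tt N24501 (iv F256641)) (tt N22777 F255129) (tt N23155 F255130) (tt N25230 (iv F260031)) (tt N22780 F255131) (tt N22774 (iv D56826)) (tt N23156 F255132) (tt N25223 (iv F260004)) (tt N25207 (iv F259945)) (tt N24056 F255133))
theorem Q24058 : ∀ i, i < 24058 → P i := stepQ 24057 Q24057 (allL N24057 (tt N22881 F255134) (tt N25228 (iv F260024)) (tt N25191 (iv F259888)) (tt N25210 (iv F259955)) (tt N22775 (iv D56827)) (tt N25231 D58001) (tt N23122 F255135) (tt N25224 (iv F260009)) (tt N22776 F255136) (tt N24564 (iv F257054)))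
theorem Q24059 : ∀ i, i < 24059 → P i := stepQ 24058 Q24058 (allL N24058 (tt N22882 F255137) (tt N25230 (iv F260030)) (tt N25222 (iv F259995)) (tt N22777 F255138) (tt N24058 F255139) (tt N22776 (iv D56828)) (tt N25137 (iv F259666)) (tt N25225 (iv F260015)) (tt N25231 (iv F260037)) (tt N24058 F255140))
theorem Q24060 : ∀ i, i < 24060 → P i := stepQ 24059 Q24059 (allL N24059 (tt N23139 F255141) (tt N22779 F255142) (tt N23136 F255143) (tt N24059 F255144) (tt N25223 (iv F260003)) (tt N22778 (iv D56829)) (tt N25144 (iv F259697)) (tt N22780 F255145) (tt N25218 (iv F259978)) (tt N24059 F255146))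
theorem Q24061 : ∀ i, i < 24061 → P i := stepQ 24060 Q24060 (allL N24060 (tt N22883 F255147) (tt N25144 (iv F259694)) (tt N23145 F255148) (tt N24060 F255149) (tt N25226 (iv F260019)) (tt N24060 F255150) (tt N22779 (iv D56830)) (tt N25128 (iv F259623)) (tt N25220 (iv F259987)) (tt N24060 F255151))
theorem Q24062 : ∀ i, i < 24062 → P i := stepQ 24061 Q24061 (allL N24061 (tt N22783 F255152) (tt N22866 F255153) (tt N23036 F255154) (tt N24593 (iv F257203)) (tt N25013 (iv F259216)) (tt N22869 F255155) (tt N24558 (iv F257024)) (tt N22864 F255156) (tt N22781 (iv D56831)) (tt N23119 F255157))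
theorem Q24063 : ∀ i, i < 24063 → P i := stepQ 24062 Q24062 (allL N24062 (tt N25013 (iv F259213)) (tt N22785 F255158) (tt N23038 F255159) (tt N25232 D58002) (tt N22783 F255160) (tt N23049 F255161) (tt N24559 (iv F257030)) (tt N23057 F255162) (tt N22782 (iv D56832)) (tt N23085 F255163))
theorem Q24064 : ∀ i, i < 24064 → P i := stepQ 24063 Q24063 (allL N24063 (tt N24593 (iv F257201)) (tt N22786 F255164) (tt N25233 D58003) (tt N22783 (iv D56833)) (tt N25234 D58004) (tt N23073 F255165) (tt N24560 (iv F257034)) (tt N23074 F255166) (tt N24063 F255167) (tt N23120 F255168))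
theorem Q24065 : ∀ i, i < 24065 → P i := stepQ 24064 Q24064 (allL N24064 (tt N24582 (iv F257150)) (tt N24950 (iv F258952)) (tt N22806 F255169) (tt N25235 D58005) (tt N24064 F255170) (tt N23050 F255171) (tt N24561 (iv F257040)) (tt N23062 F255172) (tt N22784 (iv D56834)) (tt N24529 (iv F256837)))
theorem Q24066 : ∀ i, i < 24066 → P i := stepQ 24065 Q24065 (allL N24065 (tt N24625 (iv F257380)) (tt N25232 (iv F260038)) (tt N25236 D58006) (tt N22785 (iv D56835)) (tt N25237 D58007) (tt N23051 F255173) (tt N24563 (iv F257049)) (tt N23067 F255174) (tt N25235 (iv F260054)) (tt N23088 F255175))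
theorem Q24067 : ∀ i, i < 24067 → P i := stepQ 24066 Q24066 (allL N24066 (tt N24659 (iv F257557)) (tt N25234 (iv F260047)) (tt N25171 (iv F259811)) (tt N25237 (iv F260059)) (tt N22786 (iv D56836)) (tt N24962 (iv F259002)) (tt N24564 (iv F257052)) (tt N23078 F255176) (tt N24066 F255177) (tt N23122 F255178))
theorem Q24068 : ∀ i, i < 24068 → P i := stepQ 24067 Q24067 (allL N24067 (tt N25173 (iv F259821)) (tt N25238 D58008) (tt N22787 (iv D56837)) (tt N25236 (iv F260055)) (tt N25172 (iv F259816)) (tt N23052 F255179) (tt N24566 (iv F257060)) (tt N23071 F255180) (tt N22812 F255181) (tt N23094 F255182))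
theorem Q24069 : ∀ i, i < 24069 → P i := stepQ 24068 Q24068 (allL N24068 (tt N24438 (iv F256252)) (tt N24551 (iv F256973)) (tt N23060 F255183) (tt N22789 F255184) (tt N24068 F255185) (tt N24548 (iv F256954)) (tt N22796 F255186) (tt N24451 (iv F256352)) (tt N25239 D58009) (tt N22788 (iv D56838)))
theorem Q24070 : ∀ i, i < 24070 → P i := stepQ 24069 Q24069 (allL N24069 (tt N24440 (iv F256268)) (tt N25141 (iv F259678)) (tt N22791 F255187) (tt N25240 D58010) (tt N22790 F255188) (tt N24989 (iv F259125)) (tt N22797 F255189) (tt N24477 (iv F256513)) (tt N22789 (iv D56839)) (tt N22816 F255190))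
theorem Q24071 : ∀ i, i < 24071 → P i := stepQ 24070 Q24070 (allL N24070 (tt N24441 (iv F256274)) (tt N24856 (iv F258535)) (tt N22880 F255191) (tt N22790 (iv D56840)) (tt N25241 D58011) (tt N24070 F255192) (tt N22798 F255193) (tt N24507 (iv F256687)) (tt N24070 F255194) (tt N22817 F255195))
theorem Q24072 : ∀ i, i < 24072 → P i := stepQ 24071 Q24071 (allL N24071 (tt N24443 (iv F256287)) (tt N23048 F255196) (tt N25242 D58012) (tt N22791 (iv D56841)) (tt N24527 (iv F256821)) (tt N24994 (iv F259136)) (tt N22799 F255197) (tt N24569 (iv F257078)) (tt N23070 F255198) (tt N22819 F255199))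
theorem Q24073 : ∀ i, i < 24073 → P i := stepQ 24072 Q24072 (allL N24072 (tt N24770 (iv F258191)) (tt N22796 F255200) (tt N24554 (iv F256995)) (tt N22793 F255201) (tt N24072 F255202) (tt N23037 F255203) (tt N24551 (iv F256978)) (tt N22800 F255204) (tt N25243 D58013) (tt N22792 (iv D56842)))
theorem Q24074 : ∀ i, i < 24074 → P i := stepQ 24073 Q24073 (allL N24073 (tt N24987 (iv F259111)) (tt N22797 F255205) (tt N23049 F255206) (tt N25244 D58014) (tt N22794 F255207) (tt N23038 F255208) (tt N25141 (iv F259680)) (tt N22802 F255209) (tt N22793 (iv D56843)) (tt N22821 F255210))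
theorem Q24075 : ∀ i, i < 24075 → P i := stepQ 24074 Q24074 (allL N24074 (tt N24595 (iv F257215)) (tt N22798 F255211) (tt N22976 F255212) (tt N22794 (iv D56844)) (tt N25245 D58015) (tt N22813 F255213) (tt N24856 (iv F258538)) (tt N22803 F255214) (tt N24074 F255215) (tt N22822 F255216))
theorem Q24076 : ∀ i, i < 24076 → P i := stepQ 24075 Q24075 (allL N24075 (tt N24550 (iv F256964)) (tt N24720 (iv F257915)) (tt N23061 F255217) (tt N22825 F255218) (tt N24075 F255219) (tt N23040 F255220) (tt N24445 (iv F256307)) (tt N22805 F255221) (tt N25246 D58016) (tt N22795 (iv D56845)))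
theorem Q24077 : ∀ i, i < 24077 → P i := stepQ 24076 Q24076 (allL N24076 (tt N25143 (iv F259687)) (tt N25243 (iv F260079)) (tt N23062 F255222) (tt N25247 D58017) (tt N24076 F255223) (tt N23041 F255224) (tt N25239 (iv F260069)) (tt N22806 F255225) (tt N22796 (iv D56846)) (tt N25246 (iv F260096)))
theorem Q24078 : ∀ i, i < 24078 → P i := stepQ 24077 Q24077 (allL N24077 (tt N25170 (iv F259806)) (tt N25244 (iv F260083)) (tt N25248 D58018) (tt N22797 (iv D56847)) (tt N25249 D58019) (tt N23042 F255226) (tt N25240 (iv F260070)) (tt N22808 F255227) (tt N25247 (iv F260099)) (tt N22828 F255228))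
theorem Q24079 : ∀ i, i < 24079 → P i := stepQ 24078 Q24078 (allL N24078 (tt N25171 (iv F259810)) (tt N25245 (iv F260087)) (tt N24659 (iv F257558)) (tt N25249 (iv F260104)) (tt N22798 (iv D56848)) (tt N25109 (iv F259550)) (tt N25241 (iv F260073)) (tt N22809 F255229) (tt N24078 F255230) (tt N22829 F255231))
theorem Q24080 : ∀ i, i < 24080 → P i := stepQ 24079 Q24079 (allL N24079 (tt N25172 (iv F259815)) (tt N25250 D58020) (tt N22799 (iv D56849)) (tt N25248 (iv F260100)) (tt N25173 (iv F259822)) (tt N23044 F255232) (tt N25242 (iv F260076)) (tt N22812 F255233) (tt N23071 F255234) (tt N22831 F255235))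
theorem Q24081 : ∀ i, i < 24081 → P i := stepQ 24080 Q24080 (allL N24080 (tt N25070 (iv F259435)) (tt N22806 F255236) (tt N24999 (iv F259152)) (tt N25251 D58021) (tt N24080 F255237) (tt N25003 (iv F259173)) (tt N24578 (iv F257128)) (tt N25243 (iv F260082)) (tt N22800 (iv D56850)) (tt N25040 (iv F259342)))
theorem Q24082 : ∀ i, i < 24082 → P i := stepQ 24081 Q24081 (allL N24081 (tt N23099 F255238) (tt N22807 F255239) (tt N23057 F255240) (tt N25252 D58022) (tt N22814 F255241) (tt N22802 F255242) (tt N23096 F255243) (tt N23038 F255244) (tt N22801 (iv D56851)) (tt N22838 F255245))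
theorem Q24083 : ∀ i, i < 24083 → P i := stepQ 24082 Q24082 (allL N24082 (tt N25073 (iv F259446)) (tt N22808 F255246) (tt N25253 D58023) (tt N22802 (iv D56852)) (tt N25254 D58024) (tt N25252 (iv F260116)) (tt N24579 (iv F257134)) (tt N25244 (iv F260085)) (tt N25251 (iv F260113)) (tt N22839 F255247))
theorem Q24084 : ∀ i, i < 24084 → P i := stepQ 24083 Q24083 (allL N24083 (tt N24599 (iv F257243)) (tt N22809 F255248) (tt N24534 (iv F256864)) (tt N25254 (iv F260123)) (tt N22803 (iv D56853)) (tt N25035 (iv F259312)) (tt N24580 (iv F257140)) (tt N25245 (iv F260089)) (tt N24083 F255249) (tt N22840 F255250))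
theorem Q24085 : ∀ i, i < 24085 → P i := stepQ 24084 Q24084 (allL N24084 (tt N24472 (iv F256473)) (tt N25003 (iv F259170)) (tt N23050 F255251) (tt N25255 D58025) (tt N23134 F255252) (tt N22806 F255253) (tt N24604 (iv F257273)) (tt N23041 F255254) (tt N22804 (iv D56854)) (tt N24947 (iv F258940)))
theorem Q24086 : ∀ i, i < 24086 → P i := stepQ 24085 Q24085 (allL N24085 (tt N24561 (iv F257037)) (tt N25040 (iv F259337)) (tt N24529 (iv F256832)) (tt N25256 D58026) (tt N24085 F255255) (tt N24947 (iv F258937)) (tt N24582 (iv F257155)) (tt N25246 (iv F260095)) (tt N22805 (iv D56855)) (tt N22806 F255256))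
theorem Q24087 : ∀ i, i < 24087 → P i := stepQ 24086 Q24086 (allL N24086 (tt N25184 (iv F259862)) (tt N25251 (iv F260112)) (tt N25257 D58027) (tt N22806 (iv D56856)) (tt N25258 D58028) (tt N25255 (iv F260125)) (tt N24583 (iv F257158)) (tt N25247 (iv F260098)) (tt N22808 F255257) (tt N25256 (iv F260129)))
theorem Q24088 : ∀ i, i < 24088 → P i := stepQ 24087 Q24087 (allL N24087 (tt N24473 (iv F256480)) (tt N25252 (iv F260115)) (tt N25259 D58029) (tt N22807 (iv D56857)) (tt N24902 (iv F258737)) (tt N22808 F255258) (tt N25176 (iv F259838)) (tt N23042 F255259) (tt N25255 (iv F260127)) (tt N22848 F255260))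
theorem Q24089 : ∀ i, i < 24089 → P i := stepQ 24088 Q24088 (allL N24088 (tt N25185 (iv F259864)) (tt N25260 D58030) (tt N22808 (iv D56858)) (tt N22812 F255261) (tt N25261 D58031) (tt N25259 (iv F260134)) (tt N24585 (iv F257168)) (tt N25248 (iv F260102)) (tt N25257 (iv F260130)) (tt N22849 F255262))
theorem Q24090 : ∀ i, i < 24090 → P i := stepQ 24089 Q24089 (allL N24089 (tt N25186 (iv F259867)) (tt N25254 (iv F260122)) (tt N25261 (iv F260139)) (tt N22809 F255263) (tt N22808 (iv D56859)) (tt N25120 (iv F259589)) (tt N24586 (iv F257171)) (tt N25249 (iv F260105)) (tt N25258 (iv F260132)) (tt N22850 F255264))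
theorem Q24091 : ∀ i, i < 24091 → P i := stepQ 24090 Q24090 (allL N24090 (tt N23005 F255265) (tt N23070 F255266) (tt N25262 D58032) (tt N22810 (iv D56860)) (tt N24512 (iv F256719)) (tt N24589 (iv F257189)) (tt N22811 F255267) (tt N24972 (iv F259045)) (tt N23048 F255268) (tt N22853 F255269))
theorem Q24092 : ∀ i, i < 24092 → P i := stepQ 24091 Q24091 (allL N24091 (tt N24891 (iv F258693)) (tt N25263 D58033) (tt N22811 (iv D56861)) (tt N25259 (iv F260133)) (tt N24893 (iv F258709)) (tt N22812 F255270) (tt N25262 (iv F260142)) (tt N23044 F255271) (tt N23052 F255272) (tt N22854 F255273))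
theorem Q24093 : ∀ i, i < 24093 → P i := stepQ 24092 Q24092 (allL N24092 (tt N25264 D58034) (tt N22812 (iv D56862)) (tt N23072 F255274) (tt N25260 (iv F260137)) (tt N25174 (iv F259828)) (tt N25263 (iv F260146)) (tt N24592 (iv F257199)) (tt N25250 (iv F260109)) (tt N25238 (iv F260065)) (tt N22855 F255275))
theorem Q24094 : ∀ i, i < 24094 → P i := stepQ 24093 Q24093 (allL N24093 (tt N25078 (iv F259460)) (tt N25143 (iv F259688)) (tt N22818 F255276) (tt N25265 D58035) (tt N24093 F255277) (tt N22816 F255278) (tt N24772 (iv F258205)) (tt N24476 (iv F256508)) (tt N22815 (iv D56863)) (tt N24989 (iv F259127)))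
theorem Q24095 : ∀ i, i < 24095 → P i := stepQ 24094 Q24094 (allL N24094 (tt N25190 (iv F259883)) (tt N25142 (iv F259684)) (tt N25266 D58036) (tt N22816 (iv D56864)) (tt N25267 D58037) (tt N25265 (iv F260152)) (tt N22828 F255279) (tt N24478 (iv F256517)) (tt N24466 (iv F256445)) (tt N25240 (iv F260071)))
theorem Q24096 : ∀ i, i < 24096 → P i := stepQ 24095 Q24095 (allL N24095 (tt N25191 (iv F259887)) (tt N24858 (iv F258545)) (tt N22881 F255280) (tt N25267 (iv F260155)) (tt N22817 (iv D56865)) (tt N25268 D58038) (tt N22829 F255281) (tt N24508 (iv F256693)) (tt N22871 F255282) (tt N25241 (iv F260075)))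
theorem Q24097 : ∀ i, i < 24097 → P i := stepQ 24096 Q24096 (allL N24096 (tt N25192 (iv F259892)) (tt N23083 F255283) (tt N25269 D58039) (tt N22818 (iv D56866)) (tt N25270 D58040) (tt N22819 F255284) (tt N24775 (iv F258214)) (tt N24602 (iv F257265)) (tt N24793 (iv F258293)) (tt N24994 (iv F259139)))
theorem Q24098 : ∀ i, i < 24098 → P i := stepQ 24097 Q24097 (allL N24097 (tt N25193 (iv F259894)) (tt N25271 D58041) (tt N22819 (iv D56867)) (tt N25266 (iv F260153)) (tt N25160 (iv F259772)) (tt N25269 (iv F260160)) (tt N22831 F255285) (tt N24603 (iv F257267)) (tt N25154 (iv F259744)) (tt N25242 (iv F260078)))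
theorem Q24099 : ∀ i, i < 24099 → P i := stepQ 24098 Q24098 (allL N24098 (tt N24986 (iv F259104)) (tt N22827 F255286) (tt N23085 F255287) (tt N25272 D58042) (tt N22858 F255288) (tt N22821 F255289) (tt N24768 (iv F258184)) (tt N22838 F255290) (tt N22820 (iv D56868)) (tt N23038 F255291))
theorem Q24100 : ∀ i, i < 24100 → P i := stepQ 24099 Q24099 (allL N24099 (tt N24988 (iv F259119)) (tt N22828 F255292) (tt N25273 D58043) (tt N22821 (iv D56869)) (tt N25274 D58044) (tt N25272 (iv F260166)) (tt N25142 (iv F259685)) (tt N22839 F255293) (tt N24918 (iv F258803)) (tt N25244 (iv F260086)))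
theorem Q24101 : ∀ i, i < 24101 → P i := stepQ 24100 Q24100 (allL N24100 (tt N24646 (iv F257479)) (tt N22829 F255294) (tt N22977 F255295) (tt N25274 (iv F260172)) (tt N22822 (iv D56870)) (tt N25121 (iv F259593)) (tt N24858 (iv F258547)) (tt N22840 F255296) (tt N22872 F255297) (tt N25245 (iv F260091)))
theorem Q24102 : ∀ i, i < 24102 → P i := stepQ 24101 Q24101 (allL N24101 (tt N24551 (iv F256972)) (tt N24721 (iv F257923)) (tt N22935 F255298) (tt N23040 F255299) (tt N24101 F255300) (tt N22825 F255301) (tt N24770 (iv F258197)) (tt N22842 F255302) (tt N25275 D58045) (tt N22823 (iv D56871)))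
theorem Q24103 : ∀ i, i < 24103 → P i := stepQ 24102 Q24102 (allL N24102 (tt N25196 (iv F259902)) (tt N24917 (iv F258794)) (tt N22936 F255303) (tt N25276 D58046) (tt N24102 F255304) (tt N22826 F255305) (tt N24771 (iv F258201)) (tt N22843 F255306) (tt N22824 (iv D56872)) (tt N25275 (iv F260178)))
theorem Q24104 : ∀ i, i < 24104 → P i := stepQ 24103 Q24103 (allL N24103 (tt N24552 (iv F256980)) (tt N24722 (iv F257931)) (tt N24444 (iv F256295)) (tt N25277 D58047) (tt N22873 F255307) (tt N25275 (iv F260176)) (tt N24446 (iv F256314)) (tt N22844 F255308) (tt N22825 (iv D56873)) (tt N22826 F255309))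
theorem Q24105 : ∀ i, i < 24105 → P i := stepQ 24104 Q24104 (allL N24104 (tt N25197 (iv F259907)) (tt N24918 (iv F258800)) (tt N25278 D58048) (tt N22826 (iv D56874)) (tt N25279 D58049) (tt N25276 (iv F260179)) (tt N24466 (iv F256443)) (tt N22845 F255310) (tt N22828 F255311) (tt N25277 (iv F260183)))
theorem Q24106 : ∀ i, i < 24106 → P i := stepQ 24105 Q24105 (allL N24105 (tt N25198 (iv F259911)) (tt N25272 (iv F260165)) (tt N25280 D58050) (tt N22827 (iv D56875)) (tt N25281 D58051) (tt N22828 F255312) (tt N24773 (iv F258207)) (tt N22848 F255313) (tt N25276 (iv F260181)) (tt N23042 F255314))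
theorem Q24107 : ∀ i, i < 24107 → P i := stepQ 24106 Q24106 (allL N24106 (tt N25199 (iv F259915)) (tt N25282 D58052) (tt N22828 (iv D56876)) (tt N22831 F255315) (tt N25283 D58053) (tt N25280 (iv F260190)) (tt N25266 (iv F260154)) (tt N22849 F255316) (tt N25278 (iv F260185)) (tt N25248 (iv F260103)))
theorem Q24108 : ∀ i, i < 24108 → P i := stepQ 24107 Q24107 (allL N24107 (tt N25200 (iv F259918)) (tt N25274 (iv F260171)) (tt N25283 (iv F260198)) (tt N22829 F255317) (tt N22828 (iv D56877)) (tt N25284 D58054) (tt N25267 (iv F260156)) (tt N22850 F255318) (tt N25279 (iv F260188)) (tt N25249 (iv F260106)))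
theorem Q24109 : ∀ i, i < 24109 → P i := stepQ 24108 Q24108 (allL N24108 (tt N25201 (iv F259921)) (tt N25121 (iv F259591)) (tt N24660 (iv F257565)) (tt N25284 (iv F260200)) (tt N22861 F255319) (tt N22829 (iv D56878)) (tt N25285 D58055) (tt N22851 F255320) (tt N22876 F255321) (tt N25109 (iv F259553)))
theorem Q24110 : ∀ i, i < 24110 → P i := stepQ 24109 Q24109 (allL N24109 (tt N25202 (iv F259926)) (tt N25286 D58056) (tt N22830 (iv D56879)) (tt N25280 (iv F260189)) (tt N25182 (iv F259854)) (tt N22831 F255322) (tt N24776 (iv F258217)) (tt N22854 F255323) (tt N22939 F255324) (tt N23044 F255325))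
theorem Q24111 : ∀ i, i < 24111 → P i := stepQ 24110 Q24110 (allL N24110 (tt N25287 D58057) (tt N22831 (iv D56880)) (tt N23095 F255326) (tt N25282 (iv F260196)) (tt N25175 (iv F259832)) (tt N25286 (iv F260205)) (tt N25271 (iv F260164)) (tt N22855 F255327) (tt N25156 (iv F259753)) (tt N25250 (iv F260111)))
theorem Q24112 : ∀ i, i < 24112 → P i := stepQ 24111 Q24111 (allL N24111 (tt N22838 F255328) (tt N23066 F255329) (tt N23096 F255330) (tt N25288 D58058) (tt N22862 F255331) (tt N22833 F255332) (tt N23057 F255333) (tt N24986 (iv F259109)) (tt N22832 (iv D56881)) (tt N23099 F255334))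
theorem Q24113 : ∀ i, i < 24113 → P i := stepQ 24112 Q24112 (allL N24112 (tt N22839 F255335) (tt N25017 (iv F259236)) (tt N25289 D58059) (tt N22833 (iv D56882)) (tt N24649 (iv F257495)) (tt N25288 (iv F260213)) (tt N24617 (iv F257338)) (tt N24988 (iv F259121)) (tt N24975 (iv F259063)) (tt N25073 (iv F259450)))
theorem Q24114 : ∀ i, i < 24114 → P i := stepQ 24113 Q24113 (allL N24113 (tt N24974 (iv F259054)) (tt N22843 F255336) (tt N24915 (iv F258783)) (tt N25290 D58060) (tt N24113 F255337) (tt N22836 F255338) (tt N25053 (iv F259390)) (tt N24917 (iv F258798)) (tt N22834 (iv D56883)) (tt N25052 (iv F259385)))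
theorem Q24115 : ∀ i, i < 24115 → P i := stepQ 24114 Q24114 (allL N24114 (tt N24764 (iv F258159)) (tt N22844 F255339) (tt N24719 (iv F257909)) (tt N25291 D58061) (tt N22877 F255340) (tt N25052 (iv F259383)) (tt N24619 (iv F257352)) (tt N24722 (iv F257935)) (tt N22835 (iv D56884)) (tt N22836 F255341))
theorem Q24116 : ∀ i, i < 24116 → P i := stepQ 24115 Q24115 (allL N24115 (tt N24975 (iv F259061)) (tt N22845 F255342) (tt N25292 D58062) (tt N22836 (iv D56885)) (tt N25293 D58063) (tt N25290 (iv F260219)) (tt N24620 (iv F257357)) (tt N24918 (iv F258802)) (tt N22839 F255343) (tt N25291 (iv F260222)))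
theorem Q24117 : ∀ i, i < 24117 → P i := stepQ 24116 Q24116 (allL N24116 (tt N23057 F255344) (tt N22847 F255345) (tt N23099 F255346) (tt N25294 D58064) (tt N22864 F255347) (tt N23053 F255348) (tt N22838 F255349) (tt N25013 (iv F259218)) (tt N22837 (iv D56886)) (tt N23096 F255350))
theorem Q24118 : ∀ i, i < 24118 → P i := stepQ 24117 Q24117 (allL N24117 (tt N25288 (iv F260211)) (tt N22848 F255351) (tt N25295 D58065) (tt N22838 (iv D56887)) (tt N25296 D58066) (tt N22839 F255352) (tt N25294 (iv F260230)) (tt N25272 (iv F260167)) (tt N25290 (iv F260220)) (tt N25252 (iv F260119)))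
theorem Q24119 : ∀ i, i < 24119 → P i := stepQ 24118 Q24118 (allL N24118 (tt N25289 (iv F260216)) (tt N25297 D58067) (tt N22839 (iv D56888)) (tt N23101 F255353) (tt N25298 D58068) (tt N25295 (iv F260233)) (tt N24622 (iv F257369)) (tt N25273 (iv F260170)) (tt N25292 (iv F260223)) (tt N25253 (iv F260121)))
theorem Q24120 : ∀ i, i < 24120 → P i := stepQ 24119 Q24119 (allL N24119 (tt N24649 (iv F257494)) (tt N22850 F255354) (tt N25298 (iv F260238)) (tt N22840 F255355) (tt N22839 (iv D56889)) (tt N25122 (iv F259597)) (tt N24623 (iv F257372)) (tt N25274 (iv F260173)) (tt N25293 (iv F260226)) (tt N25254 (iv F260124)))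
theorem Q24121 : ∀ i, i < 24121 → P i := stepQ 24120 Q24120 (allL N24120 (tt N23080 F255356) (tt N25053 (iv F259387)) (tt N23023 F255357) (tt N25299 D58069) (tt N24120 F255358) (tt N23022 F255359) (tt N22843 F255360) (tt N24934 (iv F258883)) (tt N22841 (iv D56890)) (tt N25044 (iv F259362)))
theorem Q24122 : ∀ i, i < 24122 → P i := stepQ 24121 Q24121 (allL N24121 (tt N24562 (iv F257042)) (tt N25052 (iv F259381)) (tt N24526 (iv F256813)) (tt N25300 D58070) (tt N24121 F255361) (tt N22844 F255362) (tt N25044 (iv F259359)) (tt N25275 (iv F260177)) (tt N22842 (iv D56891)) (tt N22843 F255363))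
theorem Q24123 : ∀ i, i < 24123 → P i := stepQ 24122 Q24122 (allL N24122 (tt N25208 (iv F259946)) (tt N25290 (iv F260218)) (tt N25301 D58071) (tt N22843 (iv D56892)) (tt N25302 D58072) (tt N22845 F255364) (tt N25299 (iv F260241)) (tt N25276 (iv F260180)) (tt N22848 F255365) (tt N25300 (iv F260244)))
theorem Q24124 : ∀ i, i < 24124 → P i := stepQ 24123 Q24123 (allL N24123 (tt N24563 (iv F257048)) (tt N25291 (iv F260221)) (tt N25303 D58073) (tt N22844 (iv D56893)) (tt N25304 D58074) (tt N25300 (iv F260243)) (tt N24625 (iv F257382)) (tt N25277 (iv F260182)) (tt N25256 (iv F260128)) (tt N22845 F255366))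
theorem Q24125 : ∀ i, i < 24125 → P i := stepQ 24124 Q24124 (allL N24124 (tt N25209 (iv F259950)) (tt N25305 D58075) (tt N22845 (iv D56894)) (tt N25160 (iv F259771)) (tt N25306 D58076) (tt N25301 (iv F260245)) (tt N24626 (iv F257388)) (tt N25278 (iv F260184)) (tt N22849 F255367) (tt N25303 (iv F260249)))
theorem Q24126 : ∀ i, i < 24126 → P i := stepQ 24125 Q24125 (allL N24125 (tt N25210 (iv F259954)) (tt N25293 (iv F260224)) (tt N25306 (iv F260253)) (tt N22881 F255368) (tt N22845 (iv D56895)) (tt N25307 D58077) (tt N24627 (iv F257393)) (tt N25279 (iv F260187)) (tt N22850 F255369) (tt N25304 (iv F260251)))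
theorem Q24127 : ∀ i, i < 24127 → P i := stepQ 24126 Q24126 (allL N24126 (tt N24619 (iv F257347)) (tt N25013 (iv F259214)) (tt N22852 F255370) (tt N25308 D58078) (tt N22866 F255371) (tt N24628 (iv F257400)) (tt N24764 (iv F258162)) (tt N22847 F255372) (tt N22846 (iv D56896)) (tt N24616 (iv F257334)))
theorem Q24128 : ∀ i, i < 24128 → P i := stepQ 24127 Q24127 (allL N24127 (tt N24862 (iv F258563)) (tt N25294 (iv F260228)) (tt N25309 D58079) (tt N22847 (iv D56897)) (tt N25310 D58080) (tt N24629 (iv F257407)) (tt N22848 F255373) (tt N25308 (iv F260257)) (tt N25299 (iv F260242)) (tt N25176 (iv F259839)))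
theorem Q24129 : ∀ i, i < 24129 → P i := stepQ 24128 Q24128 (allL N24128 (tt N25211 (iv F259958)) (tt N25311 D58081) (tt N22848 (iv D56898)) (tt N22854 F255374) (tt N25312 D58082) (tt N22849 F255375) (tt N25309 (iv F260259)) (tt N25280 (iv F260191)) (tt N25301 (iv F260246)) (tt N25259 (iv F260136)))
theorem Q24130 : ∀ i, i < 24130 → P i := stepQ 24129 Q24129 (allL N24129 (tt N25212 (iv F259961)) (tt N25296 (iv F260234)) (tt N25312 (iv F260264)) (tt N22868 F255376) (tt N22848 (iv D56899)) (tt N25037 (iv F259323)) (tt N25310 (iv F260261)) (tt N25281 (iv F260194)) (tt N25302 (iv F260248)) (tt N24902 (iv F258740)))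
theorem Q24131 : ∀ i, i < 24131 → P i := stepQ 24130 Q24130 (allL N24130 (tt N25313 D58083) (tt N22849 (iv D56900)) (tt N25297 (iv F260236)) (tt N22855 F255377) (tt N25314 D58084) (tt N25311 (iv F260263)) (tt N24631 (iv F257418)) (tt N25282 (iv F260197)) (tt N25305 (iv F260252)) (tt N25260 (iv F260138)))
theorem Q24132 : ∀ i, i < 24132 → P i := stepQ 24131 Q24131 (allL N24131 (tt N25214 (iv F259964)) (tt N25314 (iv F260266)) (tt N22850 F255378) (tt N25180 (iv F259848)) (tt N22849 (iv D56901)) (tt N25315 D58085) (tt N24632 (iv F257420)) (tt N25283 (iv F260199)) (tt N25306 (iv F260254)) (tt N25261 (iv F260140)))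
theorem Q24133 : ∀ i, i < 24133 → P i := stepQ 24132 Q24132 (allL N24132 (tt N25215 (iv F259967)) (tt N25122 (iv F259596)) (tt N25315 (iv F260267)) (tt N22851 F255379) (tt N25037 (iv F259322)) (tt N22850 (iv D56902)) (tt N25124 (iv F259606)) (tt N25284 (iv F260201)) (tt N25307 (iv F260256)) (tt N25120 (iv F259590)))
theorem Q24134 : ∀ i, i < 24134 → P i := stepQ 24133 Q24133 (allL N24133 (tt N24861 (iv F258558)) (tt N23115 F255380) (tt N25316 D58086) (tt N22852 (iv D56903)) (tt N24519 (iv F256769)) (tt N24635 (iv F257432)) (tt N24767 (iv F258177)) (tt N22853 F255381) (tt N24777 (iv F258224)) (tt N24972 (iv F259047)))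
theorem Q24135 : ∀ i, i < 24135 → P i := stepQ 24134 Q24134 (allL N24134 (tt N24864 (iv F258576)) (tt N25317 D58087) (tt N22853 (iv D56904)) (tt N25309 (iv F260258)) (tt N24524 (iv F256801)) (tt N24636 (iv F257434)) (tt N22854 F255382) (tt N25316 (iv F260268)) (tt N25165 (iv F259789)) (tt N25262 (iv F260144)))
theorem Q24136 : ∀ i, i < 24136 → P i := stepQ 24135 Q24135 (allL N24135 (tt N25318 D58088) (tt N22854 (iv D56905)) (tt N23117 F255383) (tt N25311 (iv F260262)) (tt N25183 (iv F259860)) (tt N22855 F255384) (tt N25317 (iv F260270)) (tt N25286 (iv F260206)) (tt N25166 (iv F259794)) (tt N25263 (iv F260149)))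
theorem Q24137 : ∀ i, i < 24137 → P i := stepQ 24136 Q24136 (allL N24136 (tt N22855 (iv D56906)) (tt N25217 (iv F259972)) (tt N23118 F255385) (tt N25313 (iv F260265)) (tt N25181 (iv F259851)) (tt N25318 (iv F260272)) (tt N24640 (iv F257443)) (tt N25287 (iv F260210)) (tt N25167 (iv F259797)) (tt N25264 (iv F260151)))
theorem Q24138 : ∀ i, i < 24138 → P i := stepQ 24137 Q24137 (allL N24137 (tt N22858 F255386) (tt N23076 F255387) (tt N23119 F255388) (tt N25319 D58089) (tt N24986 (iv F259107)) (tt N22857 F255389) (tt N24549 (iv F256961)) (tt N22862 F255390) (tt N22856 (iv D56907)) (tt N23036 F255391))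
theorem Q24139 : ∀ i, i < 24139 → P i := stepQ 24138 Q24138 (allL N24138 (tt N22859 F255392) (tt N23079 F255393) (tt N24488 (iv F256562)) (tt N22857 (iv D56908)) (tt N24487 F256559) (tt N25319 (iv F260275)) (tt N24138 F255394) (tt N22863 F255395) (tt N24138 F255396) (tt N23131 F255397))
theorem Q24140 : ∀ i, i < 24140 → P i := stepQ 24139 Q24139 (allL N24139 (tt N25319 (iv F260273)) (tt N22860 F255398) (tt N25126 (iv F259608)) (tt N22858 (iv D56909)) (tt N25320 D58090) (tt N22859 F255399) (tt N24769 (iv F258188)) (tt N22865 F255400) (tt N24139 F255401) (tt N23039 F255402))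
theorem Q24141 : ∀ i, i < 24141 → P i := stepQ 24140 Q24140 (allL N24140 (tt N25219 (iv F259979)) (tt N25320 (iv F260279)) (tt N24883 (iv F258659)) (tt N25281 (iv F260193)) (tt N22860 (iv D56910)) (tt N25032 (iv F259296)) (tt N24774 (iv F258209)) (tt N22868 F255403) (tt N24140 F255404) (tt N23043 F255405))
theorem Q24142 : ∀ i, i < 24142 → P i := stepQ 24141 Q24141 (allL N24141 (tt N25220 (iv F259984)) (tt N25110 (iv F259554)) (tt N25027 F259274) (tt N25029 (iv F259281)) (tt N25285 (iv F260202)) (tt N24141 F255406) (tt N22861 (iv D56911)) (tt N25112 (iv F259565)) (tt N22883 F255407) (tt N25107 (iv F259546)))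
theorem Q24143 : ∀ i, i < 24143 → P i := stepQ 24142 Q24142 (allL N24142 (tt N22865 F255408) (tt N23077 F255409) (tt N24495 (iv F256603)) (tt N22862 (iv D56912)) (tt N25321 D58091) (tt N22863 F255410) (tt N23074 F255411) (tt N25319 (iv F260276)) (tt N24142 F255412) (tt N23125 F255413))
theorem Q24144 : ∀ i, i < 24144 → P i := stepQ 24143 Q24143 (allL N24143 (tt N25321 (iv F260283)) (tt N22868 F255414) (tt N25119 (iv F259585)) (tt N25296 (iv F260235)) (tt N22865 (iv D56913)) (tt N25036 (iv F259318)) (tt N24587 F257178) (tt N25320 (iv F260280)) (tt N24143 F255415) (tt N24634 (iv F257429)))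
theorem Q24145 : ∀ i, i < 24145 → P i := stepQ 24144 Q24144 (allL N24144 (tt N24657 (iv F257544)) (tt N24593 (iv F257202)) (tt N24518 (iv F256762)) (tt N22866 (iv D56914)) (tt N25322 D58092) (tt N22870 F255416) (tt N24765 (iv F258167)) (tt N22867 F255417) (tt N24144 F255418) (tt N24641 (iv F257450)))
theorem Q24146 : ∀ i, i < 24146 → P i := stepQ 24145 Q24145 (allL N24145 (tt N24863 (iv F258569)) (tt N24587 (iv F257174)) (tt N24522 (iv F256788)) (tt N25310 (iv F260260)) (tt N22867 (iv D56915)) (tt N24580 (iv F257139)) (tt N22868 F255419) (tt N25322 (iv F260288)) (tt N24145 F255420) (tt N24624 (iv F257379)))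
theorem Q24147 : ∀ i, i < 24147 → P i := stepQ 24146 Q24146 (allL N24146 (tt N25222 (iv F259994)) (tt N24860 (iv F258552)) (tt N22882 F255421) (tt N24503 (iv F256657)) (tt N24146 F255422) (tt N22871 (iv D56916)) (tt N25138 (iv F259670)) (tt N24509 (iv F256700)) (tt N25268 (iv F260159)) (tt N24146 F255423))
theorem Q24148 : ∀ i, i < 24148 → P i := stepQ 24147 Q24147 (allL N24147 (tt N24553 (iv F256986)) (tt N24723 (iv F257938)) (tt N24507 (iv F256684)) (tt N22873 (iv D56917)) (tt N25323 D58093) (tt N24147 F255424) (tt N24447 (iv F256321)) (tt N22880 F255425) (tt N24147 F255426) (tt N22874 F255427))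
theorem Q24149 : ∀ i, i < 24149 → P i := stepQ 24148 Q24148 (allL N24148 (tt N25224 (iv F260006)) (tt N24919 (iv F258805)) (tt N24508 (iv F256691)) (tt N25279 (iv F260186)) (tt N22874 (iv D56918)) (tt N25324 D58094) (tt N24467 (iv F256449)) (tt N22881 F255428) (tt N22875 F255429) (tt N25323 (iv F260292)))
theorem Q24150 : ∀ i, i < 24150 → P i := stepQ 24149 Q24149 (allL N24149 (tt N25225 (iv F260011)) (tt N25135 (iv F259652)) (tt N24509 (iv F256697)) (tt N22876 F255430) (tt N24149 F255431) (tt N22875 (iv D56919)) (tt N25325 D58095) (tt N22882 F255432) (tt N25324 (iv F260295)) (tt N24149 F255433))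
theorem Q24151 : ∀ i, i < 24151 → P i := stepQ 24150 Q24150 (allL N24150 (tt N25226 (iv F260017)) (tt N25127 (iv F259613)) (tt N24661 (iv F257572)) (tt N25325 (iv F260296)) (tt N22883 F255434) (tt N25138 (iv F259669)) (tt N22876 (iv D56920)) (tt N25129 (iv F259628)) (tt N25285 (iv F260203)) (tt N24150 F255435))
theorem Q24152 : ∀ i, i < 24152 → P i := stepQ 24151 Q24151 (allL N24151 (tt N24765 (iv F258165)) (tt N22880 F255436) (tt N24854 (iv F258523)) (tt N22877 (iv D56921)) (tt N25326 D58096) (tt N24151 F255437) (tt N24657 (iv F257548)) (tt N24723 (iv F257942)) (tt N24151 F255438) (tt N22878 F255439))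
theorem Q24153 : ∀ i, i < 24153 → P i := stepQ 24152 Q24152 (allL N24152 (tt N24656 (iv F257541)) (tt N22881 F255440) (tt N24855 (iv F258530)) (tt N25293 (iv F260225)) (tt N22878 (iv D56922)) (tt N25136 (iv F259660)) (tt N24658 (iv F257554)) (tt N24919 (iv F258808)) (tt N22879 F255441) (tt N25326 (iv F260301)))
theorem Q24154 : ∀ i, i < 24154 → P i := stepQ 24153 Q24153 (allL N24153 (tt N24564 (iv F257051)) (tt N25326 (iv F260299)) (tt N25241 (iv F260072)) (tt N25304 (iv F260250)) (tt N22880 (iv D56923)) (tt N25327 D58097) (tt N24659 (iv F257560)) (tt N25323 (iv F260290)) (tt N24153 F255442) (tt N22881 F255443))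
theorem Q24155 : ∀ i, i < 24155 → P i := stepQ 24154 Q24154 (allL N24154 (tt N25231 (iv F260035)) (tt N25136 (iv F259658)) (tt N25268 (iv F260157)) (tt N25307 (iv F260255)) (tt N24154 F255444) (tt N22881 (iv D56924)) (tt N25139 (iv F259674)) (tt N25324 (iv F260294)) (tt N22882 F255445) (tt N25327 (iv F260304)))
theorem Q24156 : ∀ i, i < 24156 → P i := stepQ 24155 Q24155 (allL N24155 (tt N22901 F255446) (tt N22927 F255447) (tt N25328 D58098) (tt N22888 (iv D56925)) (tt N22925 F255448) (tt N22903 F255449) (tt N24668 (iv F257628)) (tt N22911 F255450) (tt N23000 F255451) (tt N22892 F255452))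
theorem Q24157 : ∀ i, i < 24157 → P i := stepQ 24156 Q24156 (allL N24156 (tt N22903 F255453) (tt N22925 F255454) (tt N25329 D58099) (tt N22889 (iv D56926)) (tt N22927 F255455) (tt N22901 F255456) (tt N24711 (iv F257867)) (tt N22892 F255457) (tt N22981 F255458) (tt N22911 F255459))
theorem Q24158 : ∀ i, i < 24158 → P i := stepQ 24157 Q24157 (allL N24157 (tt N22909 F255460) (tt N24789 (iv F258278)) (tt N25330 D58100) (tt N22890 (iv D56927)) (tt N25331 D58101) (tt N24785 (iv F258262)) (tt N24672 (iv F257654)) (tt N24815 (iv F258382)) (tt N24872 (iv F258613)) (tt N24819 (iv F258404)))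
theorem Q24159 : ∀ i, i < 24159 → P i := stepQ 24158 Q24158 (allL N24158 (tt N22910 F255461) (tt N24799 (iv F258314)) (tt N22929 F255462) (tt N25331 (iv F260320)) (tt N22891 (iv D56928)) (tt N25332 D58102) (tt N24673 (iv F257661)) (tt N24431 (iv F256204)) (tt N22895 F255463) (tt N24842 (iv F258472)))
theorem Q24160 : ∀ i, i < 24160 → P i := stepQ 24159 Q24159 (allL N24159 (tt N22912 F255464) (tt N25333 D58103) (tt N22892 (iv D56929)) (tt N25330 (iv F260318)) (tt N22930 F255465) (tt N25150 (iv F259725)) (tt N24675 (iv F257672)) (tt N25329 (iv F260314)) (tt N22982 F255466) (tt N25328 (iv F260310)))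
theorem Q24161 : ∀ i, i < 24161 → P i := stepQ 24160 Q24160 (allL N24160 (tt N22915 F255467) (tt N24745 (iv F258055)) (tt N22931 F255468) (tt N24798 (iv F258308)) (tt N25332 (iv F260323)) (tt N22893 (iv D56930)) (tt N24754 (iv F258091)) (tt N24412 (iv F256080)) (tt N22896 F255469) (tt N24843 (iv F258480)))
theorem Q24162 : ∀ i, i < 24162 → P i := stepQ 24161 Q24161 (allL N24161 (tt N22978 F255470) (tt N22895 F255471) (tt N24761 (iv F258137)) (tt N24499 (iv F256630)) (tt N22894 (iv D56931)) (tt N24760 (iv F258131)) (tt N22932 F255472) (tt N24432 (iv F256213)) (tt N24799 (iv F258316)) (tt N24161 F255473))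
theorem Q24163 : ∀ i, i < 24163 → P i := stepQ 24162 Q24162 (allL N24162 (tt N22920 F255474) (tt N24760 (iv F258129)) (tt N22932 F255475) (tt N24903 (iv F258743)) (tt N22896 F255476) (tt N22895 (iv D56932)) (tt N24761 (iv F258140)) (tt N24414 (iv F256094)) (tt N25332 (iv F260324)) (tt N24162 F255477))
theorem Q24164 : ∀ i, i < 24164 → P i := stepQ 24163 Q24163 (allL N24163 (tt N24677 (iv F257681)) (tt N24778 (iv F258227)) (tt N24515 (iv F256741)) (tt N22906 F255478) (tt N24163 F255479) (tt N24513 (iv F256729)) (tt N22995 F255480) (tt N24678 (iv F257696)) (tt N25334 D58104) (tt N22897 (iv D56933)))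
theorem Q24165 : ∀ i, i < 24165 → P i := stepQ 24164 Q24164 (allL N24164 (tt N24816 (iv F258384)) (tt N24779 (iv F258235)) (tt N24870 (iv F258603)) (tt N25335 D58105) (tt N24164 F255481) (tt N24814 (iv F258376)) (tt N24686 (iv F257744)) (tt N24784 (iv F258259)) (tt N22898 (iv D56934)) (tt N25334 (iv F260329)))
theorem Q24166 : ∀ i, i < 24166 → P i := stepQ 24165 Q24165 (allL N24165 (tt N24819 (iv F258400)) (tt N24780 (iv F258240)) (tt N25336 D58106) (tt N22899 (iv D56935)) (tt N25337 D58107) (tt N24815 (iv F258380)) (tt N24687 (iv F257747)) (tt N24785 (iv F258264)) (tt N25335 (iv F260330)) (tt N22909 F255482))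
theorem Q24167 : ∀ i, i < 24167 → P i := stepQ 24166 Q24166 (allL N24166 (tt N24842 (iv F258467)) (tt N24781 (iv F258243)) (tt N22938 F255483) (tt N25337 (iv F260333)) (tt N22900 (iv D56936)) (tt N25338 D58108) (tt N24688 (iv F257750)) (tt N24786 (iv F258270)) (tt N24166 F255484) (tt N22910 F255485))
theorem Q24168 : ∀ i, i < 24168 → P i := stepQ 24167 Q24167 (allL N24167 (tt N25328 (iv F260305)) (tt N25339 D58109) (tt N22901 (iv D56937)) (tt N25336 (iv F260331)) (tt N22939 F255486) (tt N25329 (iv F260313)) (tt N24691 (iv F257764)) (tt N25150 (iv F259726)) (tt N25182 (iv F259857)) (tt N22912 F255487))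
theorem Q24169 : ∀ i, i < 24169 → P i := stepQ 24168 Q24168 (allL N24168 (tt N24843 (iv F258473)) (tt N24737 (iv F258019)) (tt N22941 F255488) (tt N24412 (iv F256077)) (tt N25338 (iv F260336)) (tt N22902 (iv D56938)) (tt N24755 (iv F258099)) (tt N24798 (iv F258310)) (tt N24168 F255489) (tt N22915 F255490))
theorem Q24170 : ∀ i, i < 24170 → P i := stepQ 24169 Q24169 (allL N24169 (tt N25329 (iv F260311)) (tt N25340 D58110) (tt N22903 (iv D56939)) (tt N24820 (iv F258405)) (tt N22950 F255491) (tt N25328 (iv F260307)) (tt N25158 (iv F259762)) (tt N22912 F255492) (tt N23001 F255493) (tt N25150 (iv F259728)))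
theorem Q24171 : ∀ i, i < 24171 → P i := stepQ 24170 Q24170 (allL N24170 (tt N24678 (iv F257689)) (tt N24804 (iv F258333)) (tt N22990 F255494) (tt N24513 (iv F256727)) (tt N24170 F255495) (tt N22906 F255496) (tt N22988 F255497) (tt N24677 (iv F257688)) (tt N25341 D58111) (tt N22904 (iv D56940)))
theorem Q24172 : ∀ i, i < 24172 → P i := stepQ 24171 Q24171 (allL N24171 (tt N24784 (iv F258253)) (tt N24805 (iv F258340)) (tt N23006 F255498) (tt N25342 D58112) (tt N24171 F255499) (tt N22907 F255500) (tt N24715 (iv F257895)) (tt N24816 (iv F258389)) (tt N22905 (iv D56941)) (tt N25341 (iv F260348)))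
theorem Q24173 : ∀ i, i < 24173 → P i := stepQ 24172 Q24172 (allL N24172 (tt N24679 (iv F257697)) (tt N24806 (iv F258346)) (tt N22999 F255501) (tt N25343 D58113) (tt N22917 F255502) (tt N25341 (iv F260346)) (tt N22997 F255503) (tt N24817 (iv F258394)) (tt N22906 (iv D56942)) (tt N22907 F255504))
theorem Q24174 : ∀ i, i < 24174 → P i := stepQ 24173 Q24173 (allL N24173 (tt N24872 (iv F258611)) (tt N24807 (iv F258352)) (tt N25344 D58114) (tt N22907 (iv D56943)) (tt N25345 D58115) (tt N25342 (iv F260349)) (tt N24700 (iv F257815)) (tt N24818 (iv F258398)) (tt N22909 F255505) (tt N25343 (iv F260352)))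
theorem Q24175 : ∀ i, i < 24175 → P i := stepQ 24174 Q24174 (allL N24174 (tt N24785 (iv F258260)) (tt N24808 (iv F258355)) (tt N25346 D58116) (tt N22908 (iv D56944)) (tt N25347 D58117) (tt N22909 F255506) (tt N24716 (iv F257899)) (tt N24819 (iv F258403)) (tt N25342 (iv F260350)) (tt N24815 (iv F258383)))
theorem Q24176 : ∀ i, i < 24176 → P i := stepQ 24175 Q24175 (allL N24175 (tt N25330 (iv F260317)) (tt N25348 D58118) (tt N22909 (iv D56945)) (tt N22912 F255507) (tt N25349 D58119) (tt N25346 (iv F260358)) (tt N24701 (iv F257820)) (tt N24820 (iv F258407)) (tt N25344 (iv F260354)) (tt N25336 (iv F260332)))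
theorem Q24177 : ∀ i, i < 24177 → P i := stepQ 24176 Q24176 (allL N24176 (tt N25331 (iv F260319)) (tt N24810 (iv F258360)) (tt N25349 (iv F260361)) (tt N22910 F255508) (tt N22909 (iv D56946)) (tt N25350 D58120) (tt N24702 (iv F257822)) (tt N24821 (iv F258411)) (tt N25345 (iv F260356)) (tt N25337 (iv F260334)))
theorem Q24178 : ∀ i, i < 24178 → P i := stepQ 24177 Q24177 (allL N24177 (tt N25332 (iv F260321)) (tt N24758 (iv F258116)) (tt N22963 F255509) (tt N25350 (iv F260363)) (tt N22915 F255510) (tt N22910 (iv D56947)) (tt N25351 D58121) (tt N24822 (iv F258416)) (tt N22920 F255511) (tt N25338 (iv F260338)))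
theorem Q24179 : ∀ i, i < 24179 → P i := stepQ 24178 Q24178 (allL N24178 (tt N25150 (iv F259723)) (tt N25352 D58122) (tt N22911 (iv D56948)) (tt N25346 (iv F260357)) (tt N25151 (iv F259730)) (tt N22912 F255512) (tt N24718 (iv F257905)) (tt N25328 (iv F260308)) (tt N23010 F255513) (tt N25329 (iv F260316)))
theorem Q24180 : ∀ i, i < 24180 → P i := stepQ 24179 Q24179 (allL N24179 (tt N25353 D58123) (tt N22912 (iv D56949)) (tt N25149 (iv F259719)) (tt N25348 (iv F260360)) (tt N22967 F255514) (tt N25352 (iv F260368)) (tt N24707 (iv F257841)) (tt N25340 (iv F260342)) (tt N23011 F255515) (tt N25339 (iv F260340)))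
theorem Q24181 : ∀ i, i < 24181 → P i := stepQ 24180 Q24180 (allL N24180 (tt N24786 (iv F258266)) (tt N24841 (iv F258464)) (tt N24421 (iv F256142)) (tt N25347 (iv F260359)) (tt N22913 (iv D56950)) (tt N25354 D58124) (tt N24717 (iv F257902)) (tt N24842 (iv F258470)) (tt N24180 F255516) (tt N24431 (iv F256206)))
theorem Q24182 : ∀ i, i < 24182 → P i := stepQ 24181 Q24181 (allL N24181 (tt N24798 (iv F258305)) (tt N24755 (iv F258096)) (tt N24404 (iv F256021)) (tt N22915 F255517) (tt N25354 (iv F260372)) (tt N22914 (iv D56951)) (tt N24737 (iv F258022)) (tt N24843 (iv F258478)) (tt N24181 F255518) (tt N24412 (iv F256082)))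
theorem Q24183 : ∀ i, i < 24183 → P i := stepQ 24182 Q24182 (allL N24182 (tt N24754 (iv F258087)) (tt N24412 (iv F256076)) (tt N22969 F255519) (tt N24737 (iv F258020)) (tt N25351 (iv F260365)) (tt N22916 F255520) (tt N22915 (iv D56952)) (tt N24745 (iv F258059)) (tt N22921 F255521) (tt N24755 (iv F258102)))
theorem Q24184 : ∀ i, i < 24184 → P i := stepQ 24183 Q24183 (allL N24183 (tt N24680 (iv F257702)) (tt N24851 (iv F258506)) (tt N24723 (iv F257939)) (tt N22917 (iv D56953)) (tt N25355 D58125) (tt N24183 F255522) (tt N23014 F255523) (tt N24854 (iv F258526)) (tt N24183 F255524) (tt N22918 F255525))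
theorem Q24185 : ∀ i, i < 24185 → P i := stepQ 24184 Q24184 (allL N24184 (tt N24873 (iv F258614)) (tt N24852 (iv F258512)) (tt N24919 (iv F258806)) (tt N25345 (iv F260355)) (tt N22918 (iv D56954)) (tt N25356 D58126) (tt N24710 (iv F257860)) (tt N24855 (iv F258532)) (tt N22919 F255526) (tt N25355 (iv F260376)))
theorem Q24186 : ∀ i, i < 24186 → P i := stepQ 24185 Q24185 (allL N24185 (tt N24903 (iv F258741)) (tt N24759 (iv F258122)) (tt N25135 (iv F259653)) (tt N22920 F255527) (tt N24185 F255528) (tt N22919 (iv D56955)) (tt N24969 (iv F259031)) (tt N24848 (iv F258495)) (tt N25356 (iv F260378)) (tt N24185 F255529))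
theorem Q24187 : ∀ i, i < 24187 → P i := stepQ 24186 Q24186 (allL N24186 (tt N24761 (iv F258135)) (tt N24414 (iv F256090)) (tt N22978 F255530) (tt N24969 (iv F259029)) (tt N22921 F255531) (tt N24432 (iv F256211)) (tt N22920 (iv D56956)) (tt N24760 (iv F258133)) (tt N25351 (iv F260366)) (tt N24186 F255532))
theorem Q24188 : ∀ i, i < 24188 → P i := stepQ 24187 Q24187 (allL N24187 (tt N22936 F255533) (tt N24766 (iv F258171)) (tt N25196 (iv F259903)) (tt N25357 D58127) (tt N24187 F255534) (tt N23092 F255535) (tt N24730 (iv F257987)) (tt N23082 F255536) (tt N22922 (iv D56957)) (tt N24555 (iv F257006)))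
theorem Q24189 : ∀ i, i < 24189 → P i := stepQ 24188 Q24188 (allL N24188 (tt N22937 F255537) (tt N24782 (iv F258247)) (tt N25358 D58128) (tt N22923 (iv D56958)) (tt N25359 D58129) (tt N24417 (iv F256115)) (tt N24732 (iv F257998)) (tt N24418 (iv F256124)) (tt N25357 (iv F260382)) (tt N22928 F255538))
theorem Q24190 : ∀ i, i < 24190 → P i := stepQ 24189 Q24189 (allL N24189 (tt N22938 F255539) (tt N24797 (iv F258301)) (tt N24842 (iv F258469)) (tt N25359 (iv F260387)) (tt N22924 (iv D56959)) (tt N24844 (iv F258482)) (tt N24733 (iv F258001)) (tt N24421 (iv F256143)) (tt N24189 F255540) (tt N22929 F255541))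
theorem Q24191 : ∀ i, i < 24191 → P i := stepQ 24190 Q24190 (allL N24190 (tt N22939 F255542) (tt N25360 D58130) (tt N22925 (iv D56960)) (tt N25358 (iv F260384)) (tt N25328 (iv F260306)) (tt N25148 (iv F259715)) (tt N24735 (iv F258008)) (tt N25151 (iv F259732)) (tt N25202 (iv F259930)) (tt N22930 F255543))
theorem Q24192 : ∀ i, i < 24192 → P i := stepQ 24191 Q24191 (allL N24191 (tt N22945 F255544) (tt N24668 (iv F257626)) (tt N25361 D58131) (tt N22926 (iv D56961)) (tt N24711 (iv F257866)) (tt N25161 (iv F259776)) (tt N22927 F255545) (tt N24739 (iv F258031)) (tt N23024 F255546) (tt N24663 (iv F257592)))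
theorem Q24193 : ∀ i, i < 24193 → P i := stepQ 24192 Q24192 (allL N24192 (tt N22950 F255547) (tt N25362 D58132) (tt N22927 (iv D56962)) (tt N24426 (iv F256174)) (tt N25329 (iv F260312)) (tt N24423 (iv F256154)) (tt N25361 (iv F260391)) (tt N22930 F255548) (tt N23027 F255549) (tt N25151 (iv F259734)))
theorem Q24194 : ∀ i, i < 24194 → P i := stepQ 24193 Q24193 (allL N24193 (tt N22961 F255550) (tt N25363 D58133) (tt N22928 (iv D56963)) (tt N22930 F255551) (tt N25364 D58134) (tt N24422 (iv F256148)) (tt N24748 (iv F258070)) (tt N24426 (iv F256176)) (tt N24613 (iv F257319)) (tt N25358 (iv F260385)))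
theorem Q24195 : ∀ i, i < 24195 → P i := stepQ 24194 Q24194 (allL N24194 (tt N22962 F255552) (tt N24812 (iv F258366)) (tt N25364 (iv F260397)) (tt N22929 F255553) (tt N22928 (iv D56964)) (tt N25365 D58135) (tt N24749 (iv F258073)) (tt N24427 (iv F256181)) (tt N24614 (iv F257324)) (tt N25359 (iv F260388)))
theorem Q24196 : ∀ i, i < 24196 → P i := stepQ 24195 Q24195 (allL N24195 (tt N22963 F255554) (tt N24673 (iv F257658)) (tt N25332 (iv F260322)) (tt N25365 (iv F260399)) (tt N22931 F255555) (tt N22929 (iv D56965)) (tt N24799 (iv F258315)) (tt N24413 (iv F256087)) (tt N22932 F255556) (tt N24844 (iv F258485)))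
theorem Q24197 : ∀ i, i < 24197 → P i := stepQ 24196 Q24196 (allL N24196 (tt N25366 D58136) (tt N22930 (iv D56966)) (tt N25352 (iv F260367)) (tt N25363 (iv F260395)) (tt N25333 (iv F260325)) (tt N25149 (iv F259721)) (tt N24753 (iv F258085)) (tt N25362 (iv F260393)) (tt N23034 F255557) (tt N25360 (iv F260389)))
theorem Q24198 : ∀ i, i < 24198 → P i := stepQ 24197 Q24197 (allL N24197 (tt N24716 (iv F257898)) (tt N22937 F255558) (tt N25367 D58137) (tt N22933 (iv D56967)) (tt N25368 D58138) (tt N24696 (iv F257795)) (tt N24785 (iv F258263)) (tt N25157 (iv F259757)) (tt N24885 (iv F258674)) (tt N22955 F255559))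
theorem Q24199 : ∀ i, i < 24199 → P i := stepQ 24198 Q24198 (allL N24198 (tt N24717 (iv F257901)) (tt N22938 F255560) (tt N25169 (iv F259802)) (tt N25368 (iv F260404)) (tt N22934 (iv D56968)) (tt N25369 D58139) (tt N24786 (iv F258269)) (tt N25168 (iv F259799)) (tt N24198 F255561) (tt N22956 F255562))
theorem Q24200 : ∀ i, i < 24200 → P i := stepQ 24199 Q24199 (allL N24199 (tt N24555 (iv F257001)) (tt N24876 (iv F258626)) (tt N25275 (iv F260174)) (tt N25370 D58140) (tt N24199 F255563) (tt N24444 (iv F256297)) (tt N24787 (iv F258274)) (tt N24526 (iv F256817)) (tt N22935 (iv D56969)) (tt N22936 F255564))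
theorem Q24201 : ∀ i, i < 24201 → P i := stepQ 24200 Q24200 (allL N24200 (tt N25357 (iv F260379)) (tt N24885 (iv F258671)) (tt N25371 D58141) (tt N22936 (iv D56970)) (tt N25372 D58142) (tt N24464 (iv F256430)) (tt N24788 (iv F258276)) (tt N25159 (iv F259768)) (tt N22937 F255565) (tt N25370 (iv F260411)))
theorem Q24202 : ∀ i, i < 24202 → P i := stepQ 24201 Q24201 (allL N24201 (tt N25358 (iv F260383)) (tt N25373 D58143) (tt N22937 (iv D56971)) (tt N22939 F255566) (tt N25374 D58144) (tt N25155 (iv F259747)) (tt N24790 (iv F258282)) (tt N25162 (iv F259782)) (tt N25371 (iv F260412)) (tt N22961 F255567))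
theorem Q24203 : ∀ i, i < 24203 → P i := stepQ 24202 Q24202 (allL N24202 (tt N25359 (iv F260386)) (tt N25368 (iv F260403)) (tt N25374 (iv F260417)) (tt N22938 F255568) (tt N22937 (iv D56972)) (tt N25375 D58145) (tt N24791 (iv F258285)) (tt N25163 (iv F259785)) (tt N25372 (iv F260414)) (tt N22962 F255569))
theorem Q24204 : ∀ i, i < 24204 → P i := stepQ 24203 Q24203 (allL N24203 (tt N24844 (iv F258481)) (tt N25369 (iv F260406)) (tt N25338 (iv F260335)) (tt N25375 (iv F260419)) (tt N22941 F255570) (tt N22938 (iv D56973)) (tt N24756 (iv F258104)) (tt N24800 (iv F258320)) (tt N24203 F255571) (tt N22963 F255572))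
theorem Q24205 : ∀ i, i < 24205 → P i := stepQ 24204 Q24204 (allL N24204 (tt N25376 D58146) (tt N22939 (iv D56974)) (tt N25153 (iv F259737)) (tt N25373 (iv F260415)) (tt N25339 (iv F260339)) (tt N25156 (iv F259751)) (tt N24796 (iv F258299)) (tt N25166 (iv F259793)) (tt N25286 (iv F260207)) (tt N22967 F255573))
theorem Q24206 : ∀ i, i < 24206 → P i := stepQ 24205 Q24205 (allL N24205 (tt N24685 (iv F257733)) (tt N22941 F255574) (tt N24693 (iv F257776)) (tt N24411 F256074) (tt N25369 (iv F260407)) (tt N22940 (iv D56975)) (tt N24694 (iv F257785)) (tt N24420 (iv F256137)) (tt N24205 F255575) (tt N22968 F255576))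
theorem Q24207 : ∀ i, i < 24207 → P i := stepQ 24206 Q24206 (allL N24206 (tt N24425 (iv F256167)) (tt N24674 (iv F257665)) (tt N25377 D58147) (tt N22942 (iv D56976)) (tt N25378 D58148) (tt N24663 (iv F257589)) (tt N22948 F255577) (tt N24698 (iv F257805)) (tt N24541 (iv F256912)) (tt N25161 (iv F259779)))
theorem Q24208 : ∀ i, i < 24208 → P i := stepQ 24207 Q24207 (allL N24207 (tt N24429 (iv F256186)) (tt N24676 (iv F257675)) (tt N22956 F255578) (tt N25378 (iv F260424)) (tt N22943 (iv D56977)) (tt N24708 (iv F257846)) (tt N22949 F255579) (tt N24699 (iv F257811)) (tt N22970 F255580) (tt N25169 (iv F259805)))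
theorem Q24209 : ∀ i, i < 24209 → P i := stepQ 24208 Q24208 (allL N24208 (tt N25161 (iv F259775)) (tt N24793 (iv F258290)) (tt N25379 D58149) (tt N22944 (iv D56978)) (tt N25380 D58150) (tt N22945 F255581) (tt N24418 (iv F256123)) (tt N24802 (iv F258327)) (tt N23083 F255582) (tt N24425 (iv F256172)))
theorem Q24210 : ∀ i, i < 24210 → P i := stepQ 24209 Q24209 (allL N24209 (tt N25361 (iv F260390)) (tt N25381 D58151) (tt N22945 (iv D56979)) (tt N25377 (iv F260422)) (tt N25158 (iv F259761)) (tt N25379 (iv F260426)) (tt N22950 F255583) (tt N24803 (iv F258330)) (tt N23084 F255584) (tt N25165 (iv F259790)))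
theorem Q24211 : ∀ i, i < 24211 → P i := stepQ 24210 Q24210 (allL N24210 (tt N24704 (iv F257829)) (tt N22948 F255585) (tt N25382 D58152) (tt N22946 (iv D56980)) (tt N25383 D58153) (tt N24415 (iv F256099)) (tt N24674 (iv F257667)) (tt N22955 F255586) (tt N24523 (iv F256798)) (tt N25157 (iv F259759)))
theorem Q24212 : ∀ i, i < 24212 → P i := stepQ 24211 Q24211 (allL N24211 (tt N24708 (iv F257843)) (tt N22949 F255587) (tt N24699 (iv F257808)) (tt N25383 (iv F260433)) (tt N22947 (iv D56981)) (tt N24429 (iv F256189)) (tt N24676 (iv F257678)) (tt N22956 F255588) (tt N22971 F255589) (tt N25168 (iv F259801)))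
theorem Q24213 : ∀ i, i < 24213 → P i := stepQ 24212 Q24212 (allL N24212 (tt N24426 (iv F256173)) (tt N25384 D58154) (tt N22948 (iv D56982)) (tt N22950 F255590) (tt N25385 D58155) (tt N24416 (iv F256107)) (tt N25377 (iv F260423)) (tt N22961 F255591) (tt N24542 (iv F256918)) (tt N25162 (iv F259783)))
theorem Q24214 : ∀ i, i < 24214 → P i := stepQ 24213 Q24213 (allL N24213 (tt N24427 (iv F256178)) (tt N25383 (iv F260432)) (tt N25385 (iv F260437)) (tt N22949 F255592) (tt N22948 (iv D56983)) (tt N24837 (iv F258454)) (tt N25378 (iv F260425)) (tt N22962 F255593) (tt N24543 (iv F256923)) (tt N25163 (iv F259786)))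
theorem Q24215 : ∀ i, i < 24215 → P i := stepQ 24214 Q24214 (allL N24214 (tt N25386 D58156) (tt N22950 (iv D56984)) (tt N25156 (iv F259750)) (tt N25384 (iv F260435)) (tt N25340 (iv F260341)) (tt N25153 (iv F259738)) (tt N25381 (iv F260429)) (tt N22967 F255594) (tt N23095 F255595) (tt N25166 (iv F259795)))
theorem Q24216 : ∀ i, i < 24216 → P i := stepQ 24215 Q24215 (allL N24215 (tt N22955 F255596) (tt N24742 (iv F258044)) (tt N25387 D58157) (tt N22951 (iv D56985)) (tt N25388 D58158) (tt N24712 (iv F257872)) (tt N24815 (iv F258381)) (tt N24704 (iv F257833)) (tt N24895 (iv F258722)) (tt N24716 (iv F257900)))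
theorem Q24217 : ∀ i, i < 24217 → P i := stepQ 24216 Q24216 (allL N24216 (tt N22956 F255597) (tt N24703 (iv F257824)) (tt N24429 (iv F256188)) (tt N25388 (iv F260443)) (tt N22952 (iv D56986)) (tt N24699 (iv F257809)) (tt N24431 (iv F256203)) (tt N24708 (iv F257848)) (tt N22972 F255598) (tt N24717 (iv F257904)))
theorem Q24218 : ∀ i, i < 24218 → P i := stepQ 24217 Q24217 (allL N24217 (tt N24895 (iv F258718)) (tt N22958 F255599) (tt N25389 D58159) (tt N22953 (iv D56987)) (tt N25390 D58160) (tt N24519 (iv F256770)) (tt N24818 (iv F258397)) (tt N24523 (iv F256797)) (tt N22955 F255600) (tt N24908 (iv F258765)))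
theorem Q24219 : ∀ i, i < 24219 → P i := stepQ 24218 Q24218 (allL N24218 (tt N24712 (iv F257870)) (tt N22960 F255601) (tt N25391 D58161) (tt N22954 (iv D56988)) (tt N24777 (iv F258221)) (tt N22955 F255602) (tt N24683 (iv F257722)) (tt N24415 (iv F256101)) (tt N24519 (iv F256772)) (tt N24696 (iv F257799)))
theorem Q24220 : ∀ i, i < 24220 → P i := stepQ 24219 Q24219 (allL N24219 (tt N25387 (iv F260441)) (tt N25392 D58162) (tt N22955 (iv D56989)) (tt N25158 (iv F259760)) (tt N25393 D58163) (tt N25391 (iv F260448)) (tt N24820 (iv F258406)) (tt N25382 (iv F260431)) (tt N25389 (iv F260444)) (tt N25367 (iv F260402)))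
theorem Q24221 : ∀ i, i < 24221 → P i := stepQ 24220 Q24220 (allL N24220 (tt N25388 (iv F260442)) (tt N22962 F255603) (tt N25393 (iv F260450)) (tt N22956 F255604) (tt N22955 (iv D56990)) (tt N25394 D58164) (tt N24821 (iv F258410)) (tt N25383 (iv F260434)) (tt N25390 (iv F260447)) (tt N25368 (iv F260405)))
theorem Q24222 : ∀ i, i < 24222 → P i := stepQ 24221 Q24221 (allL N24221 (tt N24699 (iv F257806)) (tt N22963 F255605) (tt N24708 (iv F257845)) (tt N25394 (iv F260452)) (tt N22968 F255606) (tt N22956 (iv D56991)) (tt N24709 (iv F257854)) (tt N24429 (iv F256191)) (tt N22975 F255607) (tt N25369 (iv F260409)))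
theorem Q24223 : ∀ i, i < 24223 → P i := stepQ 24222 Q24222 (allL N24222 (tt N24576 (iv F257116)) (tt N24908 (iv F258763)) (tt N25395 D58165) (tt N22957 (iv D56992)) (tt N25396 D58166) (tt N24528 (iv F256827)) (tt N24825 (iv F258424)) (tt N24532 (iv F256856)) (tt N25370 (iv F260410)) (tt N22958 F255608))
theorem Q24224 : ∀ i, i < 24224 → P i := stepQ 24223 Q24223 (allL N24223 (tt N24613 (iv F257315)) (tt N25397 D58167) (tt N22958 (iv D56993)) (tt N23107 F255609) (tt N25398 D58168) (tt N24537 (iv F256884)) (tt N24826 (iv F258427)) (tt N24542 (iv F256917)) (tt N22961 F255610) (tt N25395 (iv F260454)))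
theorem Q24225 : ∀ i, i < 24225 → P i := stepQ 24224 Q24224 (allL N24224 (tt N24614 (iv F257320)) (tt N25390 (iv F260445)) (tt N25398 (iv F260459)) (tt N22977 F255611) (tt N22958 (iv D56994)) (tt N25099 (iv F259523)) (tt N24827 (iv F258430)) (tt N24543 (iv F256922)) (tt N22962 F255612) (tt N25396 (iv F260456)))
theorem Q24226 : ∀ i, i < 24226 → P i := stepQ 24225 Q24225 (allL N24225 (tt N24408 (iv F256050)) (tt N24683 (iv F257720)) (tt N25399 D58169) (tt N22959 (iv D56995)) (tt N24417 (iv F256114)) (tt N24828 (iv F258432)) (tt N22960 F255613) (tt N24403 (iv F256016)) (tt N24536 (iv F256880)) (tt N24406 (iv F256041)))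
theorem Q24227 : ∀ i, i < 24227 → P i := stepQ 24226 Q24226 (allL N24226 (tt N24422 (iv F256146)) (tt N25400 D58170) (tt N22960 (iv D56996)) (tt N22966 F255614) (tt N25401 D58171) (tt N22961 F255615) (tt N25399 (iv F260462)) (tt N24416 (iv F256109)) (tt N24537 (iv F256886)) (tt N25155 (iv F259749)))
theorem Q24228 : ∀ i, i < 24228 → P i := stepQ 24227 Q24227 (allL N24227 (tt N24406 (iv F256035)) (tt N24777 (iv F258220)) (tt N25401 (iv F260465)) (tt N22964 F255616) (tt N22960 (iv D56997)) (tt N24835 (iv F258447)) (tt N24417 (iv F256116)) (tt N22965 F255617) (tt N23115 F255618) (tt N24408 (iv F256056)))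
theorem Q24229 : ∀ i, i < 24229 → P i := stepQ 24228 Q24228 (allL N24228 (tt N25402 D58172) (tt N22961 (iv D56998)) (tt N25392 (iv F260449)) (tt N22967 F255619) (tt N25403 D58173) (tt N25400 (iv F260464)) (tt N24831 (iv F258438)) (tt N25384 (iv F260436)) (tt N25397 (iv F260458)) (tt N25373 (iv F260416)))
theorem Q24230 : ∀ i, i < 24230 → P i := stepQ 24229 Q24229 (allL N24229 (tt N25364 (iv F260396)) (tt N25403 (iv F260469)) (tt N22962 F255620) (tt N25349 (iv F260362)) (tt N22961 (iv D56999)) (tt N25404 D58174) (tt N24832 (iv F258440)) (tt N25385 (iv F260438)) (tt N25398 (iv F260460)) (tt N25374 (iv F260418)))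
theorem Q24231 : ∀ i, i < 24231 → P i := stepQ 24230 Q24230 (allL N24230 (tt N25365 (iv F260398)) (tt N25394 (iv F260451)) (tt N25404 (iv F260470)) (tt N22963 F255621) (tt N24835 (iv F258446)) (tt N22962 (iv D57000)) (tt N25405 D58175) (tt N24837 (iv F258456)) (tt N25099 (iv F259525)) (tt N25375 (iv F260420)))
theorem Q24232 : ∀ i, i < 24232 → P i := stepQ 24231 Q24231 (allL N24231 (tt N24799 (iv F258313)) (tt N24709 (iv F257851)) (tt N25351 (iv F260364)) (tt N25405 (iv F260471)) (tt N22969 F255622) (tt N24834 (iv F258444)) (tt N22963 (iv D57001)) (tt N24746 (iv F258064)) (tt N22978 F255623) (tt N24756 (iv F258106)))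
theorem Q24233 : ∀ i, i < 24233 → P i := stepQ 24232 Q24232 (allL N24232 (tt N24410 (iv F256062)) (tt N25406 D58176) (tt N22965 (iv D57002)) (tt N25399 (iv F260461)) (tt N24416 (iv F256106)) (tt N24836 (iv F258450)) (tt N22966 F255624) (tt N25401 (iv F260466)) (tt N23116 F255625) (tt N25154 (iv F259745)))
theorem Q24234 : ∀ i, i < 24234 → P i := stepQ 24233 Q24233 (allL N24233 (tt N25407 D58177) (tt N22966 (iv D57003)) (tt N25166 (iv F259791)) (tt N25400 (iv F260463)) (tt N25152 (iv F259735)) (tt N22967 F255626) (tt N25406 (iv F260472)) (tt N25153 (iv F259739)) (tt N23117 F255627) (tt N25156 (iv F259754)))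
theorem Q24235 : ∀ i, i < 24235 → P i := stepQ 24234 Q24234 (allL N24234 (tt N22967 (iv D57004)) (tt N25366 (iv F260400)) (tt N25167 (iv F259796)) (tt N25402 (iv F260468)) (tt N25353 (iv F260370)) (tt N25407 (iv F260474)) (tt N24840 (iv F258462)) (tt N25386 (iv F260439)) (tt N23118 F255628) (tt N25376 (iv F260421)))
theorem Q24236 : ∀ i, i < 24236 → P i := stepQ 24235 Q24235 (allL N24235 (tt N24901 (iv F258733)) (tt N22977 F255629) (tt N24658 (iv F257553)) (tt N25390 (iv F260446)) (tt N22973 (iv D57005)) (tt N24647 (iv F257485)) (tt N24855 (iv F258531)) (tt N24525 (iv F256808)) (tt N22974 F255630) (tt N24909 (iv F258769)))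
theorem Q24237 : ∀ i, i < 24237 → P i := stepQ 24236 Q24236 (allL N24236 (tt N24596 (iv F257223)) (tt N24909 (iv F258766)) (tt N25245 (iv F260088)) (tt N25396 (iv F260455)) (tt N22976 (iv D57006)) (tt N25034 (iv F259306)) (tt N24857 (iv F258541)) (tt N24534 (iv F256867)) (tt N24236 F255631) (tt N22977 F255632))
theorem Q24238 : ∀ i, i < 24238 → P i := stepQ 24237 Q24237 (allL N24237 (tt N22991 F255633) (tt N24724 (iv F257946)) (tt N24876 (iv F258627)) (tt N25408 D58178) (tt N24237 F255634) (tt N22980 F255635) (tt N24681 (iv F257712)) (tt N24715 (iv F257896)) (tt N22979 (iv D57007)) (tt N24520 (iv F256780)))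
theorem Q24239 : ∀ i, i < 24239 → P i := stepQ 24238 Q24238 (allL N24238 (tt N22992 F255636) (tt N24725 (iv F257952)) (tt N25409 D58179) (tt N22980 (iv D57008)) (tt N23024 F255637) (tt N25408 (iv F260477)) (tt N22981 F255638) (tt N24865 (iv F258583)) (tt N24711 (iv F257868)) (tt N24884 (iv F258670)))
theorem Q24240 : ∀ i, i < 24240 → P i := stepQ 24239 Q24239 (allL N24239 (tt N23001 F255639) (tt N25410 D58180) (tt N22981 (iv D57009)) (tt N24879 (iv F258642)) (tt N23027 F255640) (tt N25182 (iv F259855)) (tt N25409 (iv F260480)) (tt N22982 F255641) (tt N25329 (iv F260315)) (tt N24887 (iv F258684)))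
theorem Q24241 : ∀ i, i < 24241 → P i := stepQ 24240 Q24240 (allL N24240 (tt N25411 D58181) (tt N22982 (iv D57010)) (tt N25216 (iv F259969)) (tt N24882 (iv F258654)) (tt N23034 F255642) (tt N25183 (iv F259861)) (tt N24869 (iv F258600)) (tt N25410 (iv F260482)) (tt N25333 (iv F260326)) (tt N24894 (iv F258717)))
theorem Q24242 : ∀ i, i < 24242 → P i := stepQ 24241 Q24241 (allL N24241 (tt N24892 (iv F258700)) (tt N25412 D58182) (tt N22983 (iv D57011)) (tt N24888 (iv F258685)) (tt N23044 F255643) (tt N24887 (iv F258681)) (tt N24875 (iv F258623)) (tt N24893 (iv F258711)) (tt N22987 F255644) (tt N25182 (iv F259858)))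
theorem Q24243 : ∀ i, i < 24243 → P i := stepQ 24242 Q24242 (allL N24242 (tt N24884 (iv F258664)) (tt N24527 (iv F256820)) (tt N25413 D58183) (tt N22984 (iv D57012)) (tt N23048 F255645) (tt N24911 (iv F258771)) (tt N22985 F255646) (tt N24877 (iv F258635)) (tt N24512 (iv F256722)) (tt N22992 F255647))
theorem Q24244 : ∀ i, i < 24244 → P i := stepQ 24243 Q24243 (allL N24243 (tt N24887 (iv F258678)) (tt N25414 D58184) (tt N22985 (iv D57013)) (tt N24866 (iv F258586)) (tt N23052 F255648) (tt N24892 (iv F258702)) (tt N25413 (iv F260488)) (tt N22987 F255649) (tt N24893 (iv F258712)) (tt N23001 F255650))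
theorem Q24245 : ∀ i, i < 24245 → P i := stepQ 24244 Q24244 (allL N24244 (tt N24893 (iv F258707)) (tt N25415 D58185) (tt N22986 (iv D57014)) (tt N24867 (iv F258591)) (tt N24891 (iv F258694)) (tt N22987 F255651) (tt N24906 (iv F258757)) (tt N24892 (iv F258704)) (tt N24887 (iv F258683)) (tt N23010 F255652))
theorem Q24246 : ∀ i, i < 24246 → P i := stepQ 24245 Q24245 (allL N24245 (tt N25416 D58186) (tt N22987 (iv D57015)) (tt N25174 (iv F259827)) (tt N24869 (iv F258598)) (tt N23072 F255653) (tt N25415 (iv F260494)) (tt N24882 (iv F258656)) (tt N25414 (iv F260491)) (tt N25412 (iv F260486)) (tt N23011 F255654))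
theorem Q24247 : ∀ i, i < 24247 → P i := stepQ 24246 Q24246 (allL N24246 (tt N24876 (iv F258625)) (tt N24915 (iv F258782)) (tt N22991 F255655) (tt N25417 D58187) (tt N24246 F255656) (tt N22989 F255657) (tt N25341 (iv F260347)) (tt N24520 (iv F256779)) (tt N22988 (iv D57016)) (tt N24715 (iv F257897)))
theorem Q24248 : ∀ i, i < 24248 → P i := stepQ 24247 Q24247 (allL N24247 (tt N24877 (iv F258632)) (tt N24916 (iv F258788)) (tt N25418 D58188) (tt N22989 (iv D57017)) (tt N24923 (iv F258826)) (tt N25417 (iv F260498)) (tt N22998 F255658) (tt N24884 (iv F258668)) (tt N24905 (iv F258754)) (tt N24865 (iv F258584)))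
theorem Q24249 : ∀ i, i < 24249 → P i := stepQ 24248 Q24248 (allL N24248 (tt N24681 (iv F257708)) (tt N23023 F255659) (tt N25341 (iv F260344)) (tt N25419 D58189) (tt N24248 F255660) (tt N22999 F255661) (tt N22991 F255662) (tt N24686 (iv F257745)) (tt N22990 (iv D57018)) (tt N23006 F255663))
theorem Q24250 : ∀ i, i < 24250 → P i := stepQ 24249 Q24249 (allL N24249 (tt N25408 (iv F260476)) (tt N25159 (iv F259765)) (tt N25420 D58190) (tt N22991 (iv D57019)) (tt N25421 D58191) (tt N22992 F255664) (tt N25419 (iv F260503)) (tt N24885 (iv F258673)) (tt N25157 (iv F259758)) (tt N24911 (iv F258774)))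
theorem Q24251 : ∀ i, i < 24251 → P i := stepQ 24250 Q24250 (allL N24250 (tt N25409 (iv F260478)) (tt N25422 D58192) (tt N22992 (iv D57020)) (tt N25418 (iv F260499)) (tt N23084 F255665) (tt N25420 (iv F260505)) (tt N23001 F255666) (tt N24886 (iv F258677)) (tt N25158 (iv F259763)) (tt N25413 (iv F260489)))
theorem Q24252 : ∀ i, i < 24252 → P i := stepQ 24251 Q24251 (allL N24251 (tt N24588 (iv F257179)) (tt N22997 F255667) (tt N23025 F255668) (tt N25423 D58193) (tt N23012 F255669) (tt N22994 F255670) (tt N24806 (iv F258349)) (tt N23004 F255671) (tt N22993 (iv D57021)) (tt N24540 (iv F256907)))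
theorem Q24253 : ∀ i, i < 24253 → P i := stepQ 24252 Q24252 (allL N24252 (tt N24972 (iv F259042)) (tt N22998 F255672) (tt N25424 D58194) (tt N22994 (iv D57022)) (tt N24905 (iv F258751)) (tt N25423 (iv F260511)) (tt N24916 (iv F258790)) (tt N23005 F255673) (tt N24923 (iv F258829)) (tt N24861 (iv F258562)))
theorem Q24254 : ∀ i, i < 24254 → P i := stepQ 24253 Q24253 (allL N24253 (tt N24870 (iv F258602)) (tt N24922 (iv F258818)) (tt N24816 (iv F258386)) (tt N25425 D58195) (tt N24253 F255674) (tt N22996 F255675) (tt N25334 (iv F260328)) (tt N23006 F255676) (tt N22995 (iv D57023)) (tt N24686 (iv F257746)))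
theorem Q24255 : ∀ i, i < 24255 → P i := stepQ 24254 Q24254 (allL N24254 (tt N24871 (iv F258607)) (tt N24923 (iv F258825)) (tt N25426 D58196) (tt N22996 (iv D57024)) (tt N24916 (iv F258789)) (tt N25425 (iv F260514)) (tt N24905 (iv F258752)) (tt N23007 F255677) (tt N22998 F255678) (tt N24907 (iv F258762)))
theorem Q24256 : ∀ i, i < 24256 → P i := stepQ 24255 Q24255 (allL N24255 (tt N24878 (iv F258637)) (tt N25423 (iv F260510)) (tt N25427 D58197) (tt N22997 (iv D57025)) (tt N25428 D58198) (tt N22998 F255679) (tt N25343 (iv F260351)) (tt N23008 F255680) (tt N25425 (iv F260516)) (tt N24700 (iv F257818)))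
theorem Q24257 : ∀ i, i < 24257 → P i := stepQ 24256 Q24256 (allL N24256 (tt N24879 (iv F258641)) (tt N25429 D58199) (tt N22998 (iv D57026)) (tt N23001 F255681) (tt N24926 (iv F258842)) (tt N25427 (iv F260520)) (tt N25418 (iv F260500)) (tt N23009 F255682) (tt N25426 (iv F260518)) (tt N24866 (iv F258589)))
theorem Q24258 : ∀ i, i < 24258 → P i := stepQ 24257 Q24257 (allL N24257 (tt N24682 (iv F257714)) (tt N23024 F255683) (tt N25430 D58200) (tt N22999 (iv D57027)) (tt N24725 (iv F257953)) (tt N25419 (iv F260502)) (tt N23000 F255684) (tt N24907 (iv F258761)) (tt N24668 (iv F257629)) (tt N23007 F255685))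
theorem Q24259 : ∀ i, i < 24259 → P i := stepQ 24258 Q24258 (allL N24258 (tt N25182 (iv F259853)) (tt N25431 D58201) (tt N23000 (iv D57028)) (tt N25427 (iv F260519)) (tt N25202 (iv F259927)) (tt N23001 F255686) (tt N25430 (iv F260526)) (tt N23010 F255687) (tt N25328 (iv F260309)) (tt N24892 (iv F258706)))
theorem Q24260 : ∀ i, i < 24260 → P i := stepQ 24259 Q24259 (allL N24259 (tt N25432 D58202) (tt N23001 (iv D57029)) (tt N25175 (iv F259831)) (tt N25429 (iv F260524)) (tt N23095 F255688) (tt N25431 (iv F260529)) (tt N25422 (iv F260509)) (tt N23011 F255689) (tt N25340 (iv F260343)) (tt N25414 (iv F260492)))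
theorem Q24261 : ∀ i, i < 24261 → P i := stepQ 24260 Q24260 (allL N24260 (tt N23047 F255690) (tt N23006 F255691) (tt N25044 (iv F259357)) (tt N25433 D58203) (tt N24260 F255692) (tt N23003 F255693) (tt N24526 (iv F256816)) (tt N24922 (iv F258822)) (tt N23002 (iv D57030)) (tt N23023 F255694))
theorem Q24262 : ∀ i, i < 24262 → P i := stepQ 24261 Q24261 (allL N24261 (tt N23048 F255695) (tt N23007 F255696) (tt N25434 D58204) (tt N23003 (iv D57031)) (tt N24884 (iv F258666)) (tt N25433 (iv F260535)) (tt N23020 F255697) (tt N24923 (iv F258828)) (tt N23005 F255698) (tt N23024 F255699))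
theorem Q24263 : ∀ i, i < 24263 → P i := stepQ 24262 Q24262 (allL N24262 (tt N24589 (iv F257187)) (tt N23008 F255700) (tt N25435 D58205) (tt N23004 (iv D57032)) (tt N25436 D58206) (tt N23005 F255701) (tt N24532 (iv F256855)) (tt N25423 (iv F260512)) (tt N25433 (iv F260536)) (tt N24541 (iv F256913)))
theorem Q24264 : ∀ i, i < 24264 → P i := stepQ 24263 Q24263 (allL N24263 (tt N25262 (iv F260141)) (tt N25437 D58207) (tt N23005 (iv D57033)) (tt N25177 (iv F259840)) (tt N24906 (iv F258756)) (tt N25435 (iv F260543)) (tt N24891 (iv F258696)) (tt N25424 (iv F260513)) (tt N25434 (iv F260540)) (tt N24864 (iv F258579)))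
theorem Q24265 : ∀ i, i < 24265 → P i := stepQ 24264 Q24264 (allL N24264 (tt N24874 (iv F258618)) (tt N25433 (iv F260534)) (tt N25438 D58208) (tt N23006 (iv D57034)) (tt N25439 D58209) (tt N23007 F255702) (tt N24911 (iv F258772)) (tt N25425 (iv F260515)) (tt N23008 F255703) (tt N25419 (iv F260504)))
theorem Q24266 : ∀ i, i < 24266 → P i := stepQ 24265 Q24265 (allL N24265 (tt N24875 (iv F258621)) (tt N25440 D58210) (tt N23007 (iv D57035)) (tt N25344 (iv F260353)) (tt N24921 (iv F258814)) (tt N25438 (iv F260547)) (tt N24892 (iv F258703)) (tt N25426 (iv F260517)) (tt N23009 F255704) (tt N25430 (iv F260527)))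
theorem Q24267 : ∀ i, i < 24267 → P i := stepQ 24266 Q24266 (allL N24266 (tt N24880 (iv F258646)) (tt N25441 D58211) (tt N23008 (iv D57036)) (tt N23010 F255705) (tt N25442 D58212) (tt N23009 F255706) (tt N24912 (iv F258776)) (tt N25427 (iv F260521)) (tt N25438 (iv F260548)) (tt N24867 (iv F258593)))
theorem Q24268 : ∀ i, i < 24268 → P i := stepQ 24267 Q24267 (allL N24267 (tt N24881 (iv F258650)) (tt N25436 (iv F260544)) (tt N25442 (iv F260554)) (tt N23016 F255707) (tt N23008 (iv D57037)) (tt N24928 (iv F258851)) (tt N24913 (iv F258778)) (tt N25428 (iv F260523)) (tt N25439 (iv F260550)) (tt N24868 (iv F258597)))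
theorem Q24269 : ∀ i, i < 24269 → P i := stepQ 24268 Q24268 (allL N24268 (tt N25443 D58213) (tt N23009 (iv D57038)) (tt N25437 (iv F260546)) (tt N23011 F255708) (tt N24929 (iv F258854)) (tt N25441 (iv F260553)) (tt N24894 (iv F258716)) (tt N25429 (iv F260525)) (tt N25440 (iv F260551)) (tt N24869 (iv F258601)))
theorem Q24270 : ∀ i, i < 24270 → P i := stepQ 24269 Q24269 (allL N24269 (tt N25444 D58214) (tt N23010 (iv D57039)) (tt N23034 F255709) (tt N25441 (iv F260552)) (tt N25216 (iv F259970)) (tt N23011 F255710) (tt N24914 (iv F258780)) (tt N25431 (iv F260530)) (tt N25352 (iv F260369)) (tt N25415 (iv F260495)))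
theorem Q24271 : ∀ i, i < 24271 → P i := stepQ 24270 Q24270 (allL N24270 (tt N23011 (iv D57040)) (tt N25411 (iv F260483)) (tt N25181 (iv F259850)) (tt N25443 (iv F260555)) (tt N23118 F255711) (tt N25444 (iv F260557)) (tt N24900 (iv F258732)) (tt N25432 (iv F260532)) (tt N25353 (iv F260371)) (tt N25416 (iv F260497)))
theorem Q24272 : ∀ i, i < 24272 → P i := stepQ 24271 Q24271 (allL N24271 (tt N24597 (iv F257228)) (tt N23014 F255712) (tt N24571 (iv F257090)) (tt N23012 (iv D57041)) (tt N25445 D58215) (tt N23013 F255713) (tt N24851 (iv F258508)) (tt N23015 F255714) (tt N24271 F255715) (tt N24545 (iv F256933)))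
theorem Q24273 : ∀ i, i < 24273 → P i := stepQ 24272 Q24272 (allL N24272 (tt N24883 (iv F258658)) (tt N25445 (iv F260558)) (tt N25219 (iv F259980)) (tt N25428 (iv F260522)) (tt N23014 (iv D57042)) (tt N24932 (iv F258869)) (tt N25355 (iv F260374)) (tt N23016 F255716) (tt N24272 F255717) (tt N24710 (iv F257863)))
theorem Q24274 : ∀ i, i < 24274 → P i := stepQ 24273 Q24273 (allL N24273 (tt N24598 (iv F257236)) (tt N23016 F255718) (tt N24580 (iv F257138)) (tt N25436 (iv F260545)) (tt N23015 (iv D57043)) (tt N24522 (iv F256789)) (tt N24534 (iv F256866)) (tt N25445 (iv F260559)) (tt N24273 F255719) (tt N24546 (iv F256940)))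
theorem Q24275 : ∀ i, i < 24275 → P i := stepQ 24274 Q24274 (allL N24274 (tt N23042 F255720) (tt N24466 (iv F256442)) (tt N25446 D58216) (tt N23017 (iv D57044)) (tt N25447 D58217) (tt N25170 (iv F259807)) (tt N24918 (iv F258801)) (tt N24473 (iv F256484)) (tt N25142 (iv F259686)) (tt N25198 (iv F259914)))
theorem Q24276 : ∀ i, i < 24276 → P i := stepQ 24275 Q24275 (allL N24275 (tt N23043 F255721) (tt N24467 (iv F256447)) (tt N24710 (iv F257858)) (tt N25447 (iv F260564)) (tt N23018 (iv D57045)) (tt N24965 (iv F259015)) (tt N24919 (iv F258807)) (tt N24474 (iv F256491)) (tt N23132 F255722) (tt N25219 (iv F259983)))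
theorem Q24277 : ∀ i, i < 24277 → P i := stepQ 24276 Q24276 (allL N24276 (tt N23044 F255723) (tt N25448 D58218) (tt N23019 (iv D57046)) (tt N25446 (iv F260562)) (tt N24892 (iv F258701)) (tt N25172 (iv F259817)) (tt N24921 (iv F258815)) (tt N24891 (iv F258697)) (tt N23021 F255724) (tt N25202 (iv F259931)))
theorem Q24278 : ∀ i, i < 24278 → P i := stepQ 24277 Q24277 (allL N24277 (tt N23052 F255725) (tt N25449 D58219) (tt N23020 (iv D57047)) (tt N25062 (iv F259420)) (tt N24887 (iv F258680)) (tt N25173 (iv F259823)) (tt N25434 (iv F260539)) (tt N23021 F255726) (tt N24891 (iv F258698)) (tt N23027 F255727))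
theorem Q24279 : ∀ i, i < 24279 → P i := stepQ 24278 Q24278 (allL N24278 (tt N25450 D58220) (tt N23021 (iv D57048)) (tt N25415 (iv F260493)) (tt N25096 (iv F259513)) (tt N24894 (iv F258715)) (tt N25174 (iv F259829)) (tt N24929 (iv F258855)) (tt N25449 (iv F260566)) (tt N25448 (iv F260565)) (tt N23034 F255728))
theorem Q24280 : ∀ i, i < 24280 → P i := stepQ 24279 Q24279 (allL N24279 (tt N23081 F255729) (tt N25055 (iv F259397)) (tt N25451 D58221) (tt N23022 (iv D57049)) (tt N24998 (iv F259147)) (tt N25299 (iv F260240)) (tt N23026 F255730) (tt N24935 (iv F258889)) (tt N24629 (iv F257409)) (tt N25043 (iv F259354)))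
theorem Q24281 : ∀ i, i < 24281 → P i := stepQ 24280 Q24280 (allL N24280 (tt N23083 F255731) (tt N25419 (iv F260501)) (tt N25452 D58222) (tt N23023 (iv D57050)) (tt N25453 D58223) (tt N23024 F255732) (tt N25159 (iv F259767)) (tt N24936 (iv F258893)) (tt N25161 (iv F259778)) (tt N25433 (iv F260537)))
theorem Q24282 : ∀ i, i < 24282 → P i := stepQ 24281 Q24281 (allL N24281 (tt N23084 F255733) (tt N25454 D58224) (tt N23024 (iv D57051)) (tt N25451 (iv F260571)) (tt N25409 (iv F260479)) (tt N25452 (iv F260574)) (tt N23027 F255734) (tt N24937 (iv F258896)) (tt N25361 (iv F260392)) (tt N25434 (iv F260541)))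
theorem Q24283 : ∀ i, i < 24283 → P i := stepQ 24282 Q24282 (allL N24282 (tt N25011 (iv F259204)) (tt N23026 F255735) (tt N25455 D58225) (tt N23025 (iv D57052)) (tt N25002 (iv F259165)) (tt N24620 (iv F257356)) (tt N25055 (iv F259398)) (tt N23030 F255736) (tt N24621 (iv F257366)) (tt N25039 (iv F259336)))
theorem Q24284 : ∀ i, i < 24284 → P i := stepQ 24283 Q24283 (allL N24283 (tt N23089 F255737) (tt N25456 D58226) (tt N23026 (iv D57053)) (tt N23027 F255738) (tt N25005 (iv F259184)) (tt N24626 (iv F257387)) (tt N25451 (iv F260572)) (tt N23033 F255739) (tt N24630 (iv F257416)) (tt N25062 (iv F259422)))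
theorem Q24285 : ∀ i, i < 24285 → P i := stepQ 24284 Q24284 (allL N24284 (tt N25457 D58227) (tt N23027 (iv D57054)) (tt N25431 (iv F260528)) (tt N25456 (iv F260579)) (tt N25410 (iv F260481)) (tt N25175 (iv F259833)) (tt N25454 (iv F260577)) (tt N23034 F255740) (tt N25362 (iv F260394)) (tt N25449 (iv F260567)))
theorem Q24286 : ∀ i, i < 24286 → P i := stepQ 24285 Q24285 (allL N24285 (tt N23030 F255741) (tt N23097 F255742) (tt N25458 D58228) (tt N23028 (iv D57055)) (tt N24621 (iv F257362)) (tt N25176 (iv F259837)) (tt N24584 (iv F257164)) (tt N25011 (iv F259208)) (tt N25002 (iv F259167)) (tt N24629 (iv F257410)))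
theorem Q24287 : ∀ i, i < 24287 → P i := stepQ 24286 Q24286 (allL N24286 (tt N25002 (iv F259163)) (tt N23032 F255743) (tt N25459 D58229) (tt N23029 (iv D57056)) (tt N25011 (iv F259206)) (tt N24606 (iv F257285)) (tt N24948 (iv F258943)) (tt N24621 (iv F257365)) (tt N23030 F255744) (tt N25049 (iv F259376)))
theorem Q24288 : ∀ i, i < 24288 → P i := stepQ 24287 Q24287 (allL N24287 (tt N25458 (iv F260583)) (tt N25460 D58230) (tt N23030 (iv D57057)) (tt N25435 (iv F260542)) (tt N25012 (iv F259210)) (tt N25177 (iv F259841)) (tt N24949 (iv F258948)) (tt N25455 (iv F260578)) (tt N25459 (iv F260584)) (tt N25077 (iv F259459)))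
theorem Q24289 : ∀ i, i < 24289 → P i := stepQ 24288 Q24288 (allL N24288 (tt N23106 F255745) (tt N25049 (iv F259372)) (tt N25461 D58231) (tt N23031 (iv D57058)) (tt N25015 (iv F259225)) (tt N24573 (iv F257102)) (tt N24952 (iv F258963)) (tt N24584 (iv F257165)) (tt N25085 (iv F259484)) (tt N23032 F255746))
theorem Q24290 : ∀ i, i < 24290 → P i := stepQ 24289 Q24289 (allL N24289 (tt N23107 F255747) (tt N25462 D58232) (tt N23032 (iv D57059)) (tt N24613 (iv F257316)) (tt N25016 (iv F259231)) (tt N24608 (iv F257293)) (tt N24953 (iv F258969)) (tt N24630 (iv F257415)) (tt N23033 F255748) (tt N25461 (iv F260587)))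
theorem Q24291 : ∀ i, i < 24291 → P i := stepQ 24290 Q24290 (allL N24290 (tt N25463 D58233) (tt N23033 (iv D57060)) (tt N25460 (iv F260585)) (tt N23034 F255749) (tt N25020 (iv F259249)) (tt N25179 (iv F259845)) (tt N24956 (iv F258981)) (tt N25456 (iv F260580)) (tt N25462 (iv F260588)) (tt N25096 (iv F259515)))
theorem Q24292 : ∀ i, i < 24292 → P i := stepQ 24291 Q24291 (allL N24291 (tt N23034 (iv D57061)) (tt N23118 F255750) (tt N25444 (iv F260556)) (tt N25463 (iv F260590)) (tt N25411 (iv F260484)) (tt N25181 (iv F259852)) (tt N24959 (iv F258987)) (tt N25457 (iv F260582)) (tt N25366 (iv F260401)) (tt N25450 (iv F260569)))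
theorem Q24293 : ∀ i, i < 24293 → P i := stepQ 24292 Q24292 (allL N24292 (tt N23038 F255751) (tt N23108 F255752) (tt N25013 (iv F259215)) (tt N25464 D58234) (tt N23036 F255753) (tt N24987 (iv F259115)) (tt N24979 (iv F259076)) (tt N23099 F255754) (tt N23035 (iv D57062)) (tt N24986 (iv F259110)))
theorem Q24294 : ∀ i, i < 24294 → P i := stepQ 24293 Q24293 (allL N24293 (tt N23039 F255755) (tt N23128 F255756) (tt N25218 (iv F259976)) (tt N23036 (iv D57063)) (tt N25465 D58235) (tt N23131 F255757) (tt N24980 (iv F259081)) (tt N23125 F255758) (tt N23136 F255759) (tt N25319 (iv F260278)))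
theorem Q24295 : ∀ i, i < 24295 → P i := stepQ 24294 Q24294 (allL N24294 (tt N25188 (iv F259872)) (tt N23041 F255760) (tt N25006 (iv F259189)) (tt N25466 D58236) (tt N23137 F255761) (tt N25243 (iv F260081)) (tt N24981 (iv F259089)) (tt N25003 (iv F259175)) (tt N23037 (iv D57064)) (tt N25057 (iv F259409)))
theorem Q24296 : ∀ i, i < 24296 → P i := stepQ 24295 Q24295 (allL N24295 (tt N25464 (iv F260591)) (tt N23042 F255762) (tt N25467 D58237) (tt N23038 (iv D57065)) (tt N25468 D58238) (tt N25244 (iv F260084)) (tt N24983 (iv F259097)) (tt N25252 (iv F260118)) (tt N25466 (iv F260599)) (tt N25272 (iv F260168)))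
theorem Q24297 : ∀ i, i < 24297 → P i := stepQ 24296 Q24296 (allL N24296 (tt N25218 (iv F259974)) (tt N24491 (iv F256580)) (tt N23039 (iv D57066)) (tt N25233 (iv F260042)) (tt N25469 D58239) (tt N23157 F255763) (tt N24984 (iv F259099)) (tt N24496 F256615) (tt N23139 F255764) (tt N25126 (iv F259612)))
theorem Q24298 : ∀ i, i < 24298 → P i := stepQ 24297 Q24297 (allL N24297 (tt N25465 (iv F260594)) (tt N23043 F255765) (tt N25469 (iv F260602)) (tt N25468 (iv F260601)) (tt N23039 (iv D57067)) (tt N25116 (iv F259578)) (tt N24985 (iv F259102)) (tt N24634 F257430) (tt N23140 F255766) (tt N25320 (iv F260282)))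
theorem Q24299 : ∀ i, i < 24299 → P i := stepQ 24298 Q24298 (allL N24298 (tt N25141 (iv F259677)) (tt N25057 (iv F259404)) (tt N23063 F255767) (tt N25470 D58240) (tt N23141 F255768) (tt N25246 (iv F260094)) (tt N24987 (iv F259116)) (tt N24947 (iv F258939)) (tt N23040 (iv D57068)) (tt N23041 F255769))
theorem Q24300 : ∀ i, i < 24300 → P i := stepQ 24299 Q24299 (allL N24299 (tt N25142 (iv F259683)) (tt N25466 (iv F260598)) (tt N25471 D58241) (tt N23041 (iv D57069)) (tt N25472 D58242) (tt N25247 (iv F260097)) (tt N24988 (iv F259120)) (tt N25255 (iv F260126)) (tt N23042 F255770) (tt N25470 (iv F260604)))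
theorem Q24301 : ∀ i, i < 24301 → P i := stepQ 24300 Q24300 (allL N24300 (tt N25446 (iv F260561)) (tt N25473 D58243) (tt N23042 (iv D57070)) (tt N23044 F255771) (tt N25474 D58244) (tt N25248 (iv F260101)) (tt N24991 (iv F259130)) (tt N25259 (iv F260135)) (tt N25471 (iv F260606)) (tt N25280 (iv F260192)))
theorem Q24302 : ∀ i, i < 24302 → P i := stepQ 24301 Q24301 (allL N24301 (tt N25447 (iv F260563)) (tt N25468 (iv F260600)) (tt N25474 (iv F260610)) (tt N23043 F255772) (tt N23042 (iv D57071)) (tt N25117 (iv F259581)) (tt N24992 (iv F259132)) (tt N24902 (iv F258739)) (tt N25472 (iv F260608)) (tt N25281 (iv F260195)))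
theorem Q24303 : ∀ i, i < 24303 → P i := stepQ 24302 Q24302 (allL N24302 (tt N25475 D58245) (tt N23044 (iv D57072)) (tt N25238 (iv F260062)) (tt N25473 (iv F260609)) (tt N25412 (iv F260485)) (tt N25250 (iv F260108)) (tt N24997 (iv F259144)) (tt N25263 (iv F260147)) (tt N23072 F255773) (tt N25286 (iv F260208)))
theorem Q24304 : ∀ i, i < 24304 → P i := stepQ 24303 Q24303 (allL N24303 (tt N25044 (iv F259355)) (tt N24572 (iv F257096)) (tt N23047 F255774) (tt N25476 D58246) (tt N24303 F255775) (tt N23046 F255776) (tt N24562 (iv F257046)) (tt N24578 (iv F257129)) (tt N23045 (iv D57073)) (tt N23080 F255777))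
theorem Q24305 : ∀ i, i < 24305 → P i := stepQ 24304 Q24304 (allL N24304 (tt N25043 (iv F259348)) (tt N25085 (iv F259481)) (tt N25477 D58247) (tt N23046 (iv D57074)) (tt N24935 (iv F258887)) (tt N25476 (iv F260612)) (tt N23051 F255778) (tt N24998 (iv F259149)) (tt N25049 (iv F259375)) (tt N23081 F255779))
theorem Q24306 : ∀ i, i < 24306 → P i := stepQ 24305 Q24305 (allL N24305 (tt N25433 (iv F260533)) (tt N24994 (iv F259135)) (tt N25478 D58248) (tt N23047 (iv D57075)) (tt N25479 D58249) (tt N23048 F255780) (tt N24565 (iv F257057)) (tt N25000 (iv F259158)) (tt N24589 (iv F257191)) (tt N23083 F255781))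
theorem Q24307 : ∀ i, i < 24307 → P i := stepQ 24306 Q24306 (allL N24306 (tt N25434 (iv F260538)) (tt N25480 D58250) (tt N23048 (iv D57076)) (tt N25477 (iv F260614)) (tt N25413 (iv F260487)) (tt N25478 (iv F260617)) (tt N23052 F255782) (tt N25001 (iv F259161)) (tt N25262 (iv F260143)) (tt N23084 F255783))
theorem Q24308 : ∀ i, i < 24308 → P i := stepQ 24307 Q24307 (allL N24307 (tt N25015 (iv F259224)) (tt N23051 F255784) (tt N25481 D58251) (tt N23049 (iv D57077)) (tt N23106 F255785) (tt N25232 (iv F260039)) (tt N25085 (iv F259483)) (tt N23058 F255786) (tt N24952 (iv F258965)) (tt N23086 F255787))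
theorem Q24309 : ∀ i, i < 24309 → P i := stepQ 24308 Q24308 (allL N24308 (tt N25038 (iv F259325)) (tt N24952 (iv F258961)) (tt N25482 D58252) (tt N23050 (iv D57078)) (tt N24939 (iv F258905)) (tt N25235 (iv F260052)) (tt N25049 (iv F259373)) (tt N23064 F255788) (tt N23051 F255789) (tt N24948 (iv F258946)))
theorem Q24310 : ∀ i, i < 24310 → P i := stepQ 24309 Q24309 (allL N24309 (tt N25062 (iv F259418)) (tt N25483 D58253) (tt N23051 (iv D57079)) (tt N23052 F255790) (tt N24942 (iv F258922)) (tt N25236 (iv F260056)) (tt N25477 (iv F260615)) (tt N23068 F255791) (tt N25482 (iv F260627)) (tt N23089 F255792))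
theorem Q24311 : ∀ i, i < 24311 → P i := stepQ 24310 Q24310 (allL N24310 (tt N25484 D58254) (tt N23052 (iv D57080)) (tt N25250 (iv F260107)) (tt N25483 (iv F260628)) (tt N25414 (iv F260490)) (tt N25238 (iv F260063)) (tt N25480 (iv F260621)) (tt N23072 F255793) (tt N25263 (iv F260148)) (tt N23095 F255794))
theorem Q24312 : ∀ i, i < 24312 → P i := stepQ 24311 Q24311 (allL N24311 (tt N23058 F255795) (tt N24629 (iv F257405)) (tt N25485 D58255) (tt N23053 (iv D57081)) (tt N24584 (iv F257162)) (tt N25294 (iv F260229)) (tt N24621 (iv F257364)) (tt N25015 (iv F259227)) (tt N25055 (iv F259400)) (tt N23097 F255796))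
theorem Q24313 : ∀ i, i < 24313 → P i := stepQ 24312 Q24312 (allL N24312 (tt N24806 (iv F258345)) (tt N25006 (iv F259188)) (tt N23056 F255797) (tt N25486 D58256) (tt N23144 F255798) (tt N24976 (iv F259066)) (tt N24588 (iv F257184)) (tt N24575 (iv F257114)) (tt N23054 (iv D57082)) (tt N24611 (iv F257310)))
theorem Q24314 : ∀ i, i < 24314 → P i := stepQ 24313 Q24313 (allL N24313 (tt N25053 (iv F259386)) (tt N23062 F255799) (tt N24976 (iv F259064)) (tt N25487 D58257) (tt N24313 F255800) (tt N23056 F255801) (tt N24974 (iv F259059)) (tt N24950 (iv F258955)) (tt N23055 (iv D57083)) (tt N24938 (iv F258902)))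
theorem Q24315 : ∀ i, i < 24315 → P i := stepQ 24314 Q24314 (allL N24314 (tt N25055 (iv F259396)) (tt N23064 F255802) (tt N25488 D58258) (tt N23056 (iv D57084)) (tt N24948 (iv F258942)) (tt N25487 (iv F260636)) (tt N25011 (iv F259207)) (tt N24952 (iv F258964)) (tt N23058 F255803) (tt N24939 (iv F258908)))
theorem Q24316 : ∀ i, i < 24316 → P i := stepQ 24315 Q24315 (allL N24315 (tt N25294 (iv F260227)) (tt N23067 F255804) (tt N25489 D58259) (tt N23057 (iv D57085)) (tt N25490 D58260) (tt N23058 F255805) (tt N25288 (iv F260214)) (tt N25232 (iv F260040)) (tt N25487 (iv F260637)) (tt N23100 F255806))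
theorem Q24317 : ∀ i, i < 24317 → P i := stepQ 24316 Q24316 (allL N24316 (tt N25485 (iv F260633)) (tt N25491 D58261) (tt N23058 (iv D57086)) (tt N25253 (iv F260120)) (tt N24949 (iv F258947)) (tt N25489 (iv F260639)) (tt N25012 (iv F259211)) (tt N25481 (iv F260624)) (tt N25488 (iv F260638)) (tt N23101 F255807))
theorem Q24318 : ∀ i, i < 24318 → P i := stepQ 24317 Q24317 (allL N24317 (tt N24451 (iv F256345)) (tt N24763 (iv F258152)) (tt N24445 (iv F256303)) (tt N23102 F255808) (tt N24317 F255809) (tt N24557 (iv F257017)) (tt N23061 F255810) (tt N24438 (iv F256259)) (tt N25492 D58262) (tt N23059 (iv D57087)))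
theorem Q24319 : ∀ i, i < 24319 → P i := stepQ 24318 Q24318 (allL N24318 (tt N24452 (iv F256353)) (tt N24974 (iv F259055)) (tt N25239 (iv F260067)) (tt N25493 D58263) (tt N24318 F255811) (tt N24973 (iv F259051)) (tt N23062 F255812) (tt N24982 (iv F259095)) (tt N23060 (iv D57088)) (tt N25492 (iv F260648)))
theorem Q24320 : ∀ i, i < 24320 → P i := stepQ 24319 Q24319 (allL N24319 (tt N24572 (iv F257095)) (tt N24938 (iv F258898)) (tt N25246 (iv F260092)) (tt N25494 D58264) (tt N24319 F255813) (tt N23063 F255814) (tt N25492 (iv F260647)) (tt N24529 (iv F256836)) (tt N23061 (iv D57089)) (tt N23062 F255815))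
theorem Q24321 : ∀ i, i < 24321 → P i := stepQ 24320 Q24320 (allL N24320 (tt N25088 (iv F259492)) (tt N25487 (iv F260635)) (tt N25495 D58265) (tt N23062 (iv D57090)) (tt N25496 D58266) (tt N23064 F255816) (tt N25493 (iv F260649)) (tt N25235 (iv F260053)) (tt N23067 F255817) (tt N25494 (iv F260653)))
theorem Q24322 : ∀ i, i < 24322 → P i := stepQ 24321 Q24321 (allL N24321 (tt N25085 (iv F259480)) (tt N24939 (iv F258904)) (tt N25497 D58267) (tt N23063 (iv D57091)) (tt N24952 (iv F258962)) (tt N25494 (iv F260651)) (tt N25015 (iv F259226)) (tt N24948 (iv F258944)) (tt N23106 F255818) (tt N23064 F255819))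
theorem Q24323 : ∀ i, i < 24323 → P i := stepQ 24322 Q24322 (allL N24322 (tt N25087 (iv F259488)) (tt N25498 D58268) (tt N23064 (iv D57092)) (tt N25471 (iv F260605)) (tt N24953 (iv F258968)) (tt N25495 (iv F260654)) (tt N25016 (iv F259232)) (tt N25482 (iv F260626)) (tt N23068 F255820) (tt N25497 (iv F260659)))
theorem Q24324 : ∀ i, i < 24324 → P i := stepQ 24323 Q24323 (allL N24323 (tt N24446 (iv F256309)) (tt N24986 (iv F259105)) (tt N23069 F255821) (tt N25499 D58269) (tt N23076 F255822) (tt N24981 (iv F259088)) (tt N24552 (iv F256983)) (tt N23066 F255823) (tt N23065 (iv D57093)) (tt N23108 F255824))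
theorem Q24325 : ∀ i, i < 24325 → P i := stepQ 24324 Q24324 (allL N24324 (tt N24453 (iv F256358)) (tt N25288 (iv F260212)) (tt N25500 D58270) (tt N23066 (iv D57094)) (tt N25501 D58271) (tt N25017 (iv F259237)) (tt N23067 F255825) (tt N25499 (iv F260661)) (tt N25493 (iv F260650)) (tt N23109 F255826))
theorem Q24326 : ∀ i, i < 24326 → P i := stepQ 24325 Q24325 (allL N24325 (tt N25097 (iv F259516)) (tt N25502 D58272) (tt N23067 (iv D57095)) (tt N23071 F255827) (tt N25503 D58273) (tt N23068 F255828) (tt N25500 (iv F260664)) (tt N25236 (iv F260057)) (tt N25495 (iv F260655)) (tt N23110 F255829))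
theorem Q24327 : ∀ i, i < 24327 → P i := stepQ 24326 Q24326 (allL N24326 (tt N25094 (iv F259506)) (tt N25490 (iv F260641)) (tt N25503 (iv F260672)) (tt N23078 F255830) (tt N23067 (iv D57096)) (tt N24955 (iv F258977)) (tt N25501 (iv F260667)) (tt N25237 (iv F260060)) (tt N25496 (iv F260657)) (tt N23111 F255831))
theorem Q24328 : ∀ i, i < 24328 → P i := stepQ 24327 Q24327 (allL N24327 (tt N25504 D58274) (tt N23068 (iv D57097)) (tt N25491 (iv F260644)) (tt N23072 F255832) (tt N24956 (iv F258980)) (tt N25502 (iv F260670)) (tt N25020 (iv F259250)) (tt N25483 (iv F260629)) (tt N25498 (iv F260660)) (tt N23112 F255833))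
theorem Q24329 : ∀ i, i < 24329 → P i := stepQ 24328 Q24328 (allL N24328 (tt N24450 (iv F256340)) (tt N24972 (iv F259043)) (tt N25505 D58275) (tt N23069 (iv D57098)) (tt N24528 (iv F256826)) (tt N25021 (iv F259252)) (tt N24556 (iv F257008)) (tt N23070 F255834) (tt N24569 (iv F257079)) (tt N23115 F255835))
theorem Q24330 : ∀ i, i < 24330 → P i := stepQ 24329 Q24329 (allL N24329 (tt N24456 (iv F256374)) (tt N25506 D58276) (tt N23070 (iv D57099)) (tt N25500 (iv F260663)) (tt N24533 (iv F256859)) (tt N25022 (iv F259255)) (tt N23071 F255836) (tt N25505 (iv F260676)) (tt N25242 (iv F260077)) (tt N23116 F255837))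
theorem Q24331 : ∀ i, i < 24331 → P i := stepQ 24330 Q24330 (allL N24330 (tt N25507 D58277) (tt N23071 (iv D57100)) (tt N25263 (iv F260145)) (tt N25502 (iv F260669)) (tt N25187 (iv F259870)) (tt N23072 F255838) (tt N25506 (iv F260678)) (tt N25238 (iv F260064)) (tt N25250 (iv F260110)) (tt N23117 F255839))
theorem Q24332 : ∀ i, i < 24332 → P i := stepQ 24331 Q24331 (allL N24331 (tt N23072 (iv D57101)) (tt N25450 (iv F260568)) (tt N25264 (iv F260150)) (tt N25504 (iv F260674)) (tt N25416 (iv F260496)) (tt N25507 (iv F260680)) (tt N25026 (iv F259265)) (tt N25484 (iv F260631)) (tt N25475 (iv F260611)) (tt N23118 F255840))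
theorem Q24333 : ∀ i, i < 24333 → P i := stepQ 24332 Q24332 (allL N24332 (tt N24457 (iv F256378)) (tt N24487 (iv F256553)) (tt N23073 (iv D57102)) (tt N23157 F255841) (tt N23079 F255842) (tt N25233 (iv F260043)) (tt N24332 F255843) (tt N23075 F255844) (tt N24332 F255845) (tt N23121 F255846))
theorem Q24334 : ∀ i, i < 24334 → P i := stepQ 24333 Q24333 (allL N24333 (tt N24461 (iv F256407)) (tt N24493 (iv F256590)) (tt N23074 (iv D57103)) (tt N24496 (iv F256611)) (tt N25508 D58278) (tt N23075 F255847) (tt N24495 (iv F256605)) (tt N25233 (iv F260044)) (tt N24333 F255848) (tt N23126 F255849))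
theorem Q24335 : ∀ i, i < 24335 → P i := stepQ 24334 Q24334 (allL N24334 (tt N24587 (iv F257173)) (tt N23078 F255850) (tt N25508 (iv F260682)) (tt N25490 (iv F260642)) (tt N23074 (iv D57104)) (tt N24531 (iv F256847)) (tt N25321 (iv F260285)) (tt N25234 (iv F260049)) (tt N24334 F255851) (tt N23127 F255852))
theorem Q24336 : ∀ i, i < 24336 → P i := stepQ 24335 Q24335 (allL N24335 (tt N24447 (iv F256317)) (tt N25319 (iv F260274)) (tt N23149 F255853) (tt N23076 (iv D57105)) (tt N25509 D58279) (tt N23079 F255854) (tt N24553 (iv F256989)) (tt N23077 F255855) (tt N24335 F255856) (tt N23128 F255857))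
theorem Q24337 : ∀ i, i < 24337 → P i := stepQ 24336 Q24336 (allL N24336 (tt N24454 (iv F256363)) (tt N25321 (iv F260284)) (tt N24531 (iv F256846)) (tt N25501 (iv F260666)) (tt N23077 (iv D57106)) (tt N25508 (iv F260683)) (tt N23078 F255858) (tt N25509 (iv F260687)) (tt N24336 F255859) (tt N23129 F255860))
theorem Q24338 : ∀ i, i < 24338 → P i := stepQ 24337 Q24337 (allL N24337 (tt N25299 (iv F260239)) (tt N25088 (iv F259493)) (tt N25510 D58280) (tt N23080 (iv D57107)) (tt N25511 D58281) (tt N23081 F255861) (tt N25208 (iv F259948)) (tt N25041 (iv F259344)) (tt N24862 (iv F258567)) (tt N25476 (iv F260613)))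
theorem Q24339 : ∀ i, i < 24339 → P i := stepQ 24338 Q24338 (allL N24338 (tt N25451 (iv F260570)) (tt N25512 D58282) (tt N23081 (iv D57108)) (tt N23084 F255862) (tt N25072 (iv F259443)) (tt N25510 (iv F260691)) (tt N23089 F255863) (tt N25042 (iv F259347)) (tt N25077 (iv F259458)) (tt N25477 (iv F260616)))
theorem Q24340 : ∀ i, i < 24340 → P i := stepQ 24339 Q24339 (allL N24339 (tt N25159 (iv F259764)) (tt N24775 (iv F258212)) (tt N25513 D58283) (tt N23082 (iv D57109)) (tt N25514 D58284) (tt N23093 F255864) (tt N23083 F255865) (tt N25357 (iv F260381)) (tt N24418 (iv F256125)) (tt N24565 (iv F257059)))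
theorem Q24341 : ∀ i, i < 24341 → P i := stepQ 24340 Q24340 (allL N24340 (tt N25452 (iv F260573)) (tt N25515 D58285) (tt N23083 (iv D57110)) (tt N25510 (iv F260690)) (tt N25516 D58286) (tt N23084 F255866) (tt N25513 (iv F260696)) (tt N25046 (iv F259366)) (tt N25379 (iv F260427)) (tt N25478 (iv F260618)))
theorem Q24342 : ∀ i, i < 24342 → P i := stepQ 24341 Q24341 (allL N24341 (tt N25453 (iv F260575)) (tt N25270 (iv F260161)) (tt N25516 (iv F260700)) (tt N24341 F255867) (tt N23083 (iv D57111)) (tt N25421 (iv F260507)) (tt N25514 (iv F260698)) (tt N25047 (iv F259368)) (tt N25380 (iv F260428)) (tt N25479 (iv F260620)))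
theorem Q24343 : ∀ i, i < 24343 → P i := stepQ 24342 Q24342 (allL N24342 (tt N25517 D58287) (tt N23084 (iv D57112)) (tt N25271 (iv F260163)) (tt N25512 (iv F260693)) (tt N25422 (iv F260508)) (tt N25515 (iv F260699)) (tt N23095 F255868) (tt N25048 (iv F259370)) (tt N25381 (iv F260430)) (tt N25480 (iv F260622)))
theorem Q24344 : ∀ i, i < 24344 → P i := stepQ 24343 Q24343 (allL N24343 (tt N25014 (iv F259220)) (tt N23088 F255869) (tt N25518 D58288) (tt N23085 (iv D57113)) (tt N25519 D58289) (tt N23086 F255870) (tt N25204 (iv F259935)) (tt N23100 F255871) (tt N23114 F255872) (tt N25232 (iv F260041)))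
theorem Q24345 : ∀ i, i < 24345 → P i := stepQ 24344 Q24344 (allL N24344 (tt N25016 (iv F259230)) (tt N25520 D58290) (tt N23086 (iv D57114)) (tt N25273 (iv F260169)) (tt N23107 F255873) (tt N25518 (iv F260702)) (tt N25087 (iv F259490)) (tt N23101 F255874) (tt N23113 F255875) (tt N25481 (iv F260625)))
theorem Q24346 : ∀ i, i < 24346 → P i := stepQ 24345 Q24345 (allL N24345 (tt N24630 (iv F257411)) (tt N25521 D58291) (tt N23087 (iv D57115)) (tt N24542 (iv F256915)) (tt N23101 F255876) (tt N24538 (iv F256889)) (tt N25077 (iv F259457)) (tt N23107 F255877) (tt N23089 F255878) (tt N24949 (iv F258950)))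
theorem Q24347 : ∀ i, i < 24347 → P i := stepQ 24346 Q24346 (allL N24346 (tt N24626 (iv F257385)) (tt N25522 D58292) (tt N23088 (iv D57116)) (tt N23094 F255879) (tt N25523 D58293) (tt N23089 F255880) (tt N25209 (iv F259952)) (tt N23110 F255881) (tt N24538 (iv F256892)) (tt N25236 (iv F260058)))
theorem Q24348 : ∀ i, i < 24348 → P i := stepQ 24347 Q24347 (allL N24347 (tt N24627 (iv F257391)) (tt N25519 (iv F260705)) (tt N25523 (iv F260721)) (tt N23122 F255882) (tt N23088 (iv D57117)) (tt N25524 D58294) (tt N25210 (iv F259956)) (tt N23111 F255883) (tt N24539 (iv F256899)) (tt N25237 (iv F260061)))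
theorem Q24349 : ∀ i, i < 24349 → P i := stepQ 24348 Q24348 (allL N24348 (tt N25525 D58295) (tt N23089 (iv D57118)) (tt N25520 (iv F260710)) (tt N23095 F255884) (tt N25526 D58296) (tt N25522 (iv F260719)) (tt N25512 (iv F260694)) (tt N23112 F255885) (tt N25521 (iv F260717)) (tt N25483 (iv F260630)))
theorem Q24350 : ∀ i, i < 24350 → P i := stepQ 24349 Q24349 (allL N24349 (tt N25005 (iv F259182)) (tt N25526 (iv F260730)) (tt N23090 F255886) (tt N24926 (iv F258841)) (tt N23089 (iv D57119)) (tt N25527 D58297) (tt N25072 (iv F259444)) (tt N23113 F255887) (tt N23101 F255888) (tt N24942 (iv F258924)))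
theorem Q24351 : ∀ i, i < 24351 → P i := stepQ 24350 Q24350 (allL N24350 (tt N25004 (iv F259177)) (tt N23105 F255889) (tt N25527 (iv F260734)) (tt N23091 F255890) (tt N25524 (iv F260725)) (tt N23090 (iv D57120)) (tt N25528 D58298) (tt N23114 F255891) (tt N23100 F255892) (tt N24941 (iv F258919)))
theorem Q24352 : ∀ i, i < 24352 → P i := stepQ 24351 Q24351 (allL N24351 (tt N25003 (iv F259169)) (tt N23103 F255893) (tt N24924 (iv F258832)) (tt N25528 (iv F260738)) (tt N23124 F255894) (tt N25070 (iv F259438)) (tt N23091 (iv D57121)) (tt N25188 (iv F259876)) (tt N23098 F255895) (tt N24940 (iv F258914)))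
theorem Q24353 : ∀ i, i < 24353 → P i := stepQ 24352 Q24352 (allL N24352 (tt N24464 (iv F256427)) (tt N24767 (iv F258176)) (tt N25529 D58299) (tt N23092 (iv D57122)) (tt N24536 (iv F256877)) (tt N25357 (iv F260380)) (tt N23115 F255896) (tt N23093 F255897) (tt N24417 (iv F256118)) (tt N24556 (iv F257011)))
theorem Q24354 : ∀ i, i < 24354 → P i := stepQ 24353 Q24353 (allL N24353 (tt N25160 (iv F259770)) (tt N25530 D58300) (tt N23093 (iv D57123)) (tt N25209 (iv F259951)) (tt N25193 (iv F259895)) (tt N25513 (iv F260695)) (tt N23094 F255898) (tt N25529 (iv F260741)) (tt N24419 (iv F256130)) (tt N24566 (iv F257062)))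
theorem Q24355 : ∀ i, i < 24355 → P i := stepQ 24354 Q24354 (allL N24354 (tt N25531 D58301) (tt N23094 (iv D57124)) (tt N25286 (iv F260204)) (tt N25522 (iv F260718)) (tt N25203 (iv F259932)) (tt N23095 F255899) (tt N25530 (iv F260742)) (tt N23117 F255900) (tt N25153 (iv F259740)) (tt N25238 (iv F260066)))
theorem Q24356 : ∀ i, i < 24356 → P i := stepQ 24355 Q24355 (allL N24355 (tt N23095 (iv D57125)) (tt N25457 (iv F260581)) (tt N25287 (iv F260209)) (tt N25525 (iv F260728)) (tt N25432 (iv F260531)) (tt N25531 (iv F260743)) (tt N25517 (iv F260701)) (tt N23118 F255901) (tt N25386 (iv F260440)) (tt N25484 (iv F260632)))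
theorem Q24357 : ∀ i, i < 24357 → P i := stepQ 24356 Q24356 (allL N24356 (tt N23100 F255902) (tt N25176 (iv F259836)) (tt N25532 D58302) (tt N23096 (iv D57126)) (tt N24633 (iv F257423)) (tt N23097 F255903) (tt N25252 (iv F260117)) (tt N25014 (iv F259222)) (tt N25004 (iv F259180)) (tt N25294 (iv F260231)))
theorem Q24358 : ∀ i, i < 24358 → P i := stepQ 24357 Q24357 (allL N24357 (tt N23101 F255904) (tt N25533 D58303) (tt N23097 (iv D57127)) (tt N25289 (iv F260217)) (tt N24630 (iv F257413)) (tt N25532 (iv F260746)) (tt N25069 (iv F259434)) (tt N25016 (iv F259233)) (tt N25005 (iv F259186)) (tt N25485 (iv F260634)))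
theorem Q24359 : ∀ i, i < 24359 → P i := stepQ 24358 Q24358 (allL N24358 (tt N25252 (iv F260114)) (tt N23109 F255905) (tt N25534 D58304) (tt N23099 (iv D57128)) (tt N25535 D58305) (tt N25073 (iv F259448)) (tt N23100 F255906) (tt N25464 (iv F260593)) (tt N25528 (iv F260739)) (tt N25288 (iv F260215)))
theorem Q24360 : ∀ i, i < 24360 → P i := stepQ 24359 Q24359 (allL N24359 (tt N25532 (iv F260745)) (tt N25536 D58306) (tt N23100 (iv D57129)) (tt N25295 (iv F260232)) (tt N25537 D58307) (tt N23101 F255907) (tt N25534 (iv F260747)) (tt N25518 (iv F260703)) (tt N25527 (iv F260736)) (tt N25489 (iv F260640)))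
theorem Q24361 : ∀ i, i < 24361 → P i := stepQ 24360 Q24360 (allL N24360 (tt N24633 (iv F257421)) (tt N23111 F255908) (tt N25537 (iv F260753)) (tt N23127 F255909) (tt N23100 (iv D57130)) (tt N24539 (iv F256896)) (tt N25535 (iv F260750)) (tt N25519 (iv F260708)) (tt N25524 (iv F260727)) (tt N25490 (iv F260643)))
theorem Q24362 : ∀ i, i < 24362 → P i := stepQ 24361 Q24361 (allL N24361 (tt N25538 D58308) (tt N23101 (iv D57131)) (tt N23112 F255910) (tt N25297 (iv F260237)) (tt N25521 (iv F260715)) (tt N25536 (iv F260752)) (tt N25076 (iv F259455)) (tt N25520 (iv F260712)) (tt N25526 (iv F260733)) (tt N25491 (iv F260645)))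
theorem Q24363 : ∀ i, i < 24363 → P i := stepQ 24362 Q24362 (allL N24362 (tt N24477 (iv F256509)) (tt N24940 (iv F258910)) (tt N24435 (iv F256232)) (tt N25539 D58309) (tt N23147 F255911) (tt N25079 (iv F259466)) (tt N23104 F255912) (tt N24440 (iv F256272)) (tt N23102 (iv D57132)) (tt N23103 F255913))
theorem Q24364 : ∀ i, i < 24364 → P i := stepQ 24363 Q24363 (allL N24363 (tt N24478 (iv F256515)) (tt N25528 (iv F260737)) (tt N25540 D58310) (tt N23103 (iv D57133)) (tt N25541 D58311) (tt N25080 (iv F259469)) (tt N23105 F255914) (tt N25190 (iv F259885)) (tt N23109 F255915) (tt N25539 (iv F260756)))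
theorem Q24365 : ∀ i, i < 24365 → P i := stepQ 24364 Q24364 (allL N24364 (tt N24573 (iv F257101)) (tt N24941 (iv F258916)) (tt N25542 D58312) (tt N23104 (iv D57134)) (tt N25543 D58313) (tt N23106 F255916) (tt N25539 (iv F260755)) (tt N24530 (iv F256842)) (tt N25494 (iv F260652)) (tt N23105 F255917))
theorem Q24366 : ∀ i, i < 24366 → P i := stepQ 24365 Q24365 (allL N24365 (tt N24608 (iv F257291)) (tt N25544 D58314) (tt N23105 (iv D57135)) (tt N24537 (iv F256882)) (tt N25545 D58315) (tt N23107 F255918) (tt N25540 (iv F260757)) (tt N24538 (iv F256891)) (tt N23110 F255919) (tt N25542 (iv F260763)))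
theorem Q24367 : ∀ i, i < 24367 → P i := stepQ 24366 Q24366 (allL N24366 (tt N24609 (iv F257296)) (tt N25524 (iv F260723)) (tt N25545 (iv F260768)) (tt N23150 F255920) (tt N23105 (iv D57136)) (tt N25519 (iv F260707)) (tt N25541 (iv F260760)) (tt N24539 (iv F256898)) (tt N23111 F255921) (tt N25543 (iv F260765)))
theorem Q24368 : ∀ i, i < 24368 → P i := stepQ 24367 Q24367 (allL N24367 (tt N25461 (iv F260586)) (tt N25546 D58316) (tt N23106 (iv D57137)) (tt N25395 (iv F260453)) (tt N25481 (iv F260623)) (tt N25542 (iv F260762)) (tt N25084 (iv F259478)) (tt N24949 (iv F258949)) (tt N25497 (iv F260658)) (tt N23107 F255922))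
theorem Q24369 : ∀ i, i < 24369 → P i := stepQ 24368 Q24368 (allL N24368 (tt N25547 D58317) (tt N23107 (iv D57138)) (tt N25526 (iv F260731)) (tt N25397 (iv F260457)) (tt N25520 (iv F260711)) (tt N25544 (iv F260766)) (tt N25086 (iv F259486)) (tt N25521 (iv F260716)) (tt N23112 F255923) (tt N25546 (iv F260770)))
theorem Q24370 : ∀ i, i < 24370 → P i := stepQ 24369 Q24369 (allL N24369 (tt N24466 (iv F256441)) (tt N25464 (iv F260592)) (tt N25548 D58318) (tt N23108 (iv D57139)) (tt N25549 D58319) (tt N25089 (iv F259496)) (tt N25197 (iv F259908)) (tt N23109 F255924) (tt N25190 (iv F259886)) (tt N25499 (iv F260662)))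
theorem Q24371 : ∀ i, i < 24371 → P i := stepQ 24370 Q24370 (allL N24370 (tt N24480 (iv F256524)) (tt N25550 D58320) (tt N23109 (iv D57140)) (tt N23116 F255925) (tt N25551 D58321) (tt N25090 (iv F259499)) (tt N23110 F255926) (tt N25548 (iv F260773)) (tt N25540 (iv F260758)) (tt N25500 (iv F260665)))
theorem Q24372 : ∀ i, i < 24372 → P i := stepQ 24371 Q24371 (allL N24371 (tt N24481 (iv F256527)) (tt N25535 (iv F260748)) (tt N25551 (iv F260778)) (tt N23129 F255927) (tt N23109 (iv D57141)) (tt N25552 D58322) (tt N23111 F255928) (tt N25549 (iv F260775)) (tt N25541 (iv F260761)) (tt N25501 (iv F260668)))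
theorem Q24373 : ∀ i, i < 24373 → P i := stepQ 24372 Q24372 (allL N24372 (tt N25553 D58323) (tt N23110 (iv D57142)) (tt N25536 (iv F260751)) (tt N23117 F255929) (tt N25554 D58324) (tt N23112 F255930) (tt N25550 (iv F260777)) (tt N25522 (iv F260720)) (tt N25544 (iv F260767)) (tt N25502 (iv F260671)))
theorem Q24374 : ∀ i, i < 24374 → P i := stepQ 24373 Q24373 (allL N24373 (tt N25180 (iv F259846)) (tt N25554 (iv F260783)) (tt N23111 F255931) (tt N25214 (iv F259966)) (tt N23110 (iv D57143)) (tt N25555 D58325) (tt N25551 (iv F260779)) (tt N25523 (iv F260722)) (tt N25545 (iv F260769)) (tt N25503 (iv F260673)))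
theorem Q24375 : ∀ i, i < 24375 → P i := stepQ 24374 Q24374 (allL N24374 (tt N25019 (iv F259244)) (tt N24539 (iv F256894)) (tt N25555 (iv F260784)) (tt N23130 F255932) (tt N23114 F255933) (tt N23111 (iv D57144)) (tt N25206 (iv F259940)) (tt N25524 (iv F260726)) (tt N25519 (iv F260709)) (tt N24955 (iv F258978)))
theorem Q24376 : ∀ i, i < 24376 → P i := stepQ 24375 Q24375 (allL N24375 (tt N23112 (iv D57145)) (tt N25463 (iv F260589)) (tt N25538 (iv F260754)) (tt N23118 F255934) (tt N25556 D58326) (tt N25553 (iv F260782)) (tt N25095 (iv F259511)) (tt N25525 (iv F260729)) (tt N25547 (iv F260771)) (tt N25504 (iv F260675)))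
theorem Q24377 : ∀ i, i < 24377 → P i := stepQ 24376 Q24376 (allL N24376 (tt N25556 (iv F260786)) (tt N23113 F255935) (tt N25521 (iv F260714)) (tt N24929 (iv F258853)) (tt N23112 (iv D57146)) (tt N25557 D58327) (tt N25096 (iv F259514)) (tt N25526 (iv F260732)) (tt N25520 (iv F260713)) (tt N24956 (iv F258982)))
theorem Q24378 : ∀ i, i < 24378 → P i := stepQ 24377 Q24377 (allL N24377 (tt N25018 (iv F259240)) (tt N25557 (iv F260787)) (tt N23114 F255936) (tt N24927 (iv F258846)) (tt N25555 (iv F260785)) (tt N23113 (iv D57147)) (tt N25205 (iv F259937)) (tt N25527 (iv F260735)) (tt N25518 (iv F260704)) (tt N24954 (iv F258974)))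
theorem Q24379 : ∀ i, i < 24379 → P i := stepQ 24378 Q24378 (allL N24378 (tt N24470 (iv F256462)) (tt N25558 D58328) (tt N23115 (iv D57148)) (tt N25548 (iv F260772)) (tt N24537 (iv F256883)) (tt N25098 (iv F259520)) (tt N25529 (iv F260740)) (tt N23116 F255937) (tt N25401 (iv F260467)) (tt N25505 (iv F260677)))
theorem Q24380 : ∀ i, i < 24380 → P i := stepQ 24379 Q24379 (allL N24379 (tt N25559 D58329) (tt N23116 (iv D57149)) (tt N25317 (iv F260269)) (tt N25550 (iv F260776)) (tt N24544 (iv F256924)) (tt N25100 (iv F259526)) (tt N23117 F255938) (tt N25558 (iv F260788)) (tt N25406 (iv F260473)) (tt N25506 (iv F260679)))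
theorem Q24381 : ∀ i, i < 24381 → P i := stepQ 24380 Q24380 (allL N24380 (tt N23117 (iv D57150)) (tt N25181 (iv F259849)) (tt N25318 (iv F260271)) (tt N25553 (iv F260781)) (tt N25217 (iv F259973)) (tt N23118 F255939) (tt N25559 (iv F260789)) (tt N25531 (iv F260744)) (tt N25407 (iv F260475)) (tt N25507 (iv F260681)))
theorem Q24382 : ∀ i, i < 24382 → P i := stepQ 24381 Q24381 (allL N24381 (tt N24489 (iv F256568)) (tt N25115 (iv F259572)) (tt N23120 (iv D57151)) (tt N25126 (iv F259609)) (tt N25560 D58330) (tt N23121 F255940) (tt N25227 (iv F260022)) (tt N23126 F255941) (tt N23154 F255942) (tt N25233 (iv F260046)))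
theorem Q24383 : ∀ i, i < 24383 → P i := stepQ 24382 Q24382 (allL N24382 (tt N24610 (iv F257300)) (tt N23122 F255943) (tt N25560 (iv F260790)) (tt N25519 (iv F260706)) (tt N23120 (iv D57152)) (tt N23150 F255944) (tt N25228 (iv F260025)) (tt N23127 F255945) (tt N23153 F255946) (tt N25234 (iv F260051)))
theorem Q24384 : ∀ i, i < 24384 → P i := stepQ 24383 Q24383 (allL N24383 (tt N24660 (iv F257564)) (tt N23150 F255947) (tt N25201 (iv F259922)) (tt N25524 (iv F260724)) (tt N23123 F255948) (tt N23122 (iv D57153)) (tt N25561 D58331) (tt N23130 F255949) (tt N23146 F255950) (tt N24962 (iv F259005)))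
theorem Q24385 : ∀ i, i < 24385 → P i := stepQ 24384 Q24384 (allL N24384 (tt N25027 (iv F259267)) (tt N23148 F255951) (tt N25220 (iv F259985)) (tt N23124 F255952) (tt N25561 (iv F260795)) (tt N24384 F255953) (tt N23123 (iv D57154)) (tt N25189 (iv F259881)) (tt N23145 F255954) (tt N24960 (iv F258993)))
theorem Q24386 : ∀ i, i < 24386 → P i := stepQ 24385 Q24385 (allL N24385 (tt N24634 (iv F257424)) (tt N23129 F255955) (tt N25207 (iv F259942)) (tt N25535 (iv F260749)) (tt N23125 (iv D57155)) (tt N25123 (iv F259602)) (tt N23127 F255956) (tt N25465 (iv F260596)) (tt N23155 F255957) (tt N25321 (iv F260287)))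
theorem Q24387 : ∀ i, i < 24387 → P i := stepQ 24386 Q24386 (allL N24386 (tt N24482 (iv F256530)) (tt N25123 (iv F259600)) (tt N23127 F255958) (tt N25552 (iv F260780)) (tt N23126 (iv D57156)) (tt N23129 F255959) (tt N25207 (iv F259944)) (tt N25560 (iv F260792)) (tt N23156 F255960) (tt N25508 (iv F260685)))
theorem Q24388 : ∀ i, i < 24388 → P i := stepQ 24387 Q24387 (allL N24387 (tt N24467 (iv F256446)) (tt N25465 (iv F260595)) (tt N23150 F255961) (tt N25549 (iv F260774)) (tt N23128 (iv D57157)) (tt N25560 (iv F260791)) (tt N25224 (iv F260008)) (tt N23129 F255962) (tt N23152 F255963) (tt N25509 (iv F260689)))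
theorem Q24389 : ∀ i, i < 24389 → P i := stepQ 24388 Q24388 (allL N24388 (tt N24505 (iv F256668)) (tt N25027 (iv F259268)) (tt N24643 (iv F257460)) (tt N23134 (iv D57158)) (tt N24904 (iv F258747)) (tt N24388 F255964) (tt N24605 (iv F257280)) (tt N23142 F255965) (tt N23135 F255966) (tt N24971 (iv F259041)))
theorem Q24390 : ∀ i, i < 24390 → P i := stepQ 24389 Q24389 (allL N24389 (tt N23140 F255967) (tt N23152 F255968) (tt N25223 (iv F260002)) (tt N25221 (iv F259990)) (tt N23136 (iv D57159)) (tt N25132 (iv F259640)) (tt N25145 (iv F259703)) (tt N23155 F255969) (tt N25465 (iv F260597)) (tt N24389 F255970))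
theorem Q24391 : ∀ i, i < 24391 → P i := stepQ 24390 Q24390 (allL N24390 (tt N25189 (iv F259877)) (tt N23142 F255971) (tt N25112 (iv F259562)) (tt N23137 (iv D57160)) (tt N25562 D58332) (tt N24390 F255972) (tt N24645 (iv F257475)) (tt N25027 (iv F259271)) (tt N23138 F255973) (tt N25106 (iv F259541)))
theorem Q24392 : ∀ i, i < 24392 → P i := stepQ 24391 Q24391 (allL N24391 (tt N25221 (iv F259988)) (tt N23143 F255974) (tt N25129 (iv F259626)) (tt N23140 F255975) (tt N23138 (iv D57161)) (tt N25133 (iv F259645)) (tt N24652 (iv F257516)) (tt N24661 (iv F257576)) (tt N25562 (iv F260798)) (tt N24391 F255976))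
theorem Q24393 : ∀ i, i < 24393 → P i := stepQ 24392 Q24392 (allL N24392 (tt N25223 (iv F260000)) (tt N24500 (iv F256635)) (tt N23140 F255977) (tt N25147 (iv F259710)) (tt N23139 (iv D57162)) (tt N24652 (iv F257515)) (tt N25146 (iv F259707)) (tt N24501 (iv F256646)) (tt N25469 (iv F260603)) (tt N24392 F255978))
theorem Q24394 : ∀ i, i < 24394 → P i := stepQ 24393 Q24393 (allL N24393 (tt N24856 (iv F258534)) (tt N25106 (iv F259536)) (tt N24594 (iv F257209)) (tt N23141 (iv D57163)) (tt N25563 D58333) (tt N24393 F255979) (tt N24595 (iv F257218)) (tt N24971 (iv F259039)) (tt N24393 F255980) (tt N23142 F255981))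
theorem Q24395 : ∀ i, i < 24395 → P i := stepQ 24394 Q24394 (allL N24394 (tt N24858 (iv F258544)) (tt N25562 (iv F260797)) (tt N24644 (iv F257468)) (tt N25472 (iv F260607)) (tt N23142 (iv D57164)) (tt N25134 (iv F259649)) (tt N24646 (iv F257481)) (tt N24904 (iv F258749)) (tt N23143 F255982) (tt N25563 (iv F260800)))
theorem Q24396 : ∀ i, i < 24396 → P i := stepQ 24395 Q24395 (allL N24395 (tt N24851 (iv F258505)) (tt N25028 (iv F259275)) (tt N24971 (iv F259036)) (tt N23144 (iv D57165)) (tt N25564 D58334) (tt N24395 F255983) (tt N24597 (iv F257232)) (tt N24594 (iv F257212)) (tt N24395 F255984) (tt N24643 (iv F257465)))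
theorem Q24397 : ∀ i, i < 24397 → P i := stepQ 24396 Q24396 (allL N24396 (tt N24661 (iv F257570)) (tt N23151 F255985) (tt N25226 (iv F260018)) (tt N23155 F255986) (tt N23145 (iv D57166)) (tt N25137 (iv F259665)) (tt N23146 F255987) (tt N25221 (iv F259992)) (tt N25561 (iv F260796)) (tt N24396 F255988))
theorem Q24398 : ∀ i, i < 24398 → P i := stepQ 24397 Q24397 (allL N24397 (tt N24507 (iv F256683)) (tt N24960 (iv F258989)) (tt N24553 (iv F256987)) (tt N23147 (iv D57167)) (tt N25565 D58335) (tt N24397 F255989) (tt N23149 F255990) (tt N24441 (iv F256278)) (tt N24397 F255991) (tt N23148 F255992))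
theorem Q24399 : ∀ i, i < 24399 → P i := stepQ 24398 Q24398 (allL N24398 (tt N24508 (iv F256690)) (tt N25561 (iv F260794)) (tt N25224 (iv F260007)) (tt N25541 (iv F260759)) (tt N23148 (iv D57168)) (tt N25566 D58336) (tt N23150 F255993) (tt N25191 (iv F259890)) (tt N23151 F255994) (tt N25565 (iv F260804)))
theorem Q24400 : ∀ i, i < 24400 → P i := stepQ 24399 Q24399 (allL N24399 (tt N24574 (iv F257105)) (tt N24962 (iv F259001)) (tt N25509 (iv F260686)) (tt N25543 (iv F260764)) (tt N23149 (iv D57169)) (tt N25234 (iv F260048)) (tt N25565 (iv F260802)) (tt N24531 (iv F256849)) (tt N24399 F255995) (tt N23150 F255996))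
theorem Q24401 : ∀ i, i < 24401 → P i := stepQ 24400 Q24400 (allL N24400 (tt N24509 (iv F256695)) (tt N25137 (iv F259663)) (tt N25225 (iv F260012)) (tt N23156 F255997) (tt N24400 F255998) (tt N23151 (iv D57170)) (tt N25230 (iv F260033)) (tt N25222 (iv F259998)) (tt N25566 (iv F260806)) (tt N24400 F255999))
theorem Q24402 : ∀ i, i < 24402 → P i := stepQ 24401 Q24401 (allL N24401 (tt N24503 (iv F256654)) (tt N25132 (iv F259638)) (tt N23153 F256000) (tt N25222 (iv F259996)) (tt N23154 F256001) (tt N23152 (iv D57171)) (tt N25229 (iv F260028)) (tt N23156 F256002) (tt N25560 (iv F260793)) (tt N24401 F256003))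
theorem Q24403 : ∀ i, i < 24403 → P i := stepQ 24402 Q24402 (allL N24402 (tt N23618 F256004) (tt N23501 F256005) (tt N23656 F256006) (tt N25567 D58337) (tt N23163 F256007) (tt N23162 F256008) (tt N23555 F256009) (tt N23651 F256010) (tt N23161 (iv D57172)) (tt N23169 F256011))
theorem Q24404 : ∀ i, i < 24404 → P i := stepQ 24403 Q24403 (allL N24403 (tt N23981 F256012) (tt N23502 F256013) (tt N25568 D58338) (tt N23162 (iv D57173)) (tt N23184 F256014) (tt N25567 (iv F260809)) (tt N23975 F256015) (tt N24225 F256016) (tt N24021 F256017) (tt N23170 F256018))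
theorem Q24405 : ∀ i, i < 24405 → P i := stepQ 24404 Q24404 (allL N24404 (tt N23625 F256019) (tt N23506 F256020) (tt N24181 F256021) (tt N23163 (iv D57174)) (tt N25569 D58339) (tt N23164 F256022) (tt N23560 F256023) (tt N23666 F256024) (tt N24404 F256025) (tt N23176 F256026))
theorem Q24406 : ∀ i, i < 24406 → P i := stepQ 24405 Q24405 (allL N24405 (tt N23656 F256027) (tt N23481 F256028) (tt N23618 F256029) (tt N25570 D58340) (tt N23171 F256030) (tt N23166 F256031) (tt N23615 F256032) (tt N23169 F256033) (tt N23165 (iv D57175)) (tt N23651 F256034))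
theorem Q24407 : ∀ i, i < 24407 → P i := stepQ 24406 Q24406 (allL N24406 (tt N24227 F256035) (tt N23510 F256036) (tt N25571 D58341) (tt N23166 (iv D57176)) (tt N23188 F256037) (tt N25570 (iv F260832)) (tt N23982 F256038) (tt N23170 F256039) (tt N23240 F256040) (tt N24225 F256041))
theorem Q24408 : ∀ i, i < 24408 → P i := stepQ 24407 Q24407 (allL N24407 (tt N23651 F256042) (tt N23628 F256043) (tt N23169 F256044) (tt N25572 D58342) (tt N23175 F256045) (tt N23168 F256046) (tt N23570 F256047) (tt N23618 F256048) (tt N23167 (iv D57177)) (tt N23656 F256049))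
theorem Q24409 : ∀ i, i < 24409 → P i := stepQ 24408 Q24408 (allL N24408 (tt N24225 F256050) (tt N23629 F256051) (tt N25573 D58343) (tt N23168 (iv D57178)) (tt N23982 F256052) (tt N25572 (iv F260847)) (tt N23188 F256053) (tt N23981 F256054) (tt N23382 F256055) (tt N24227 F256056))
theorem Q24410 : ∀ i, i < 24410 → P i := stepQ 24409 Q24409 (allL N24409 (tt N23657 F256057) (tt N23517 F256058) (tt N25574 D58344) (tt N23169 (iv D57179)) (tt N25575 D58345) (tt N23170 F256059) (tt N23573 F256060) (tt N25570 (iv F260834)) (tt N23252 F256061) (tt N25567 (iv F260813)))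
theorem Q24411 : ∀ i, i < 24411 → P i := stepQ 24410 Q24410 (allL N24410 (tt N24232 F256062) (tt N25576 D58346) (tt N23170 (iv D57180)) (tt N25573 (iv F260853)) (tt N23193 F256063) (tt N25574 (iv F260860)) (tt N23976 F256064) (tt N25571 (iv F260841)) (tt N23253 F256065) (tt N25568 (iv F260820)))
theorem Q24412 : ∀ i, i < 24412 → P i := stepQ 24411 Q24411 (allL N24411 (tt N23496 F256066) (tt N23175 F256067) (tt N23467 F256068) (tt N24205 (iv F256074)) (tt N23628 F256069) (tt N23174 F256070) (tt N23547 F256071) (tt N23185 F256072) (tt N23173 (iv D57181)) (tt N23194 F256073))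
theorem Q24413 : ∀ i, i < 24413 → P i := stepQ 24412 Q24412 (allL N24412 (tt N23665 F256075) (tt N24182 F256076) (tt N23176 (iv D57182)) (tt N24168 F256077) (tt N25577 D58347) (tt N23177 F256078) (tt N23581 F256079) (tt N24160 F256080) (tt N23178 F256081) (tt N24181 F256082))
theorem Q24414 : ∀ i, i < 24414 → P i := stepQ 24413 Q24413 (allL N24413 (tt N23671 F256083) (tt N23522 F256084) (tt N25577 (iv F260876)) (tt N25575 (iv F260865)) (tt N23176 (iv D57183)) (tt N23197 F256085) (tt N23582 F256086) (tt N24195 F256087) (tt N23179 F256088) (tt N25569 (iv F260828)))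
theorem Q24415 : ∀ i, i < 24415 → P i := stepQ 24414 Q24414 (allL N24414 (tt N23673 F256089) (tt N24186 F256090) (tt N23179 F256091) (tt N25578 D58348) (tt N23178 (iv D57184)) (tt N23201 F256092) (tt N23583 F256093) (tt N24162 F256094) (tt N25577 (iv F260880)) (tt N24414 F256095))
theorem Q24416 : ∀ i, i < 24416 → P i := stepQ 24415 Q24415 (allL N24415 (tt N23537 F256096) (tt N23181 F256097) (tt N25579 D58349) (tt N23180 (iv D57185)) (tt N23991 F256098) (tt N24210 F256099) (tt N23977 F256100) (tt N24218 F256101) (tt N23297 F256102) (tt N23985 F256103))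
theorem Q24417 : ∀ i, i < 24417 → P i := stepQ 24416 Q24416 (allL N24416 (tt N23193 F256104) (tt N25580 D58350) (tt N23181 (iv D57186)) (tt N23980 F256105) (tt N24232 F256106) (tt N24212 F256107) (tt N23979 F256108) (tt N24226 F256109) (tt N23318 F256110) (tt N23990 F256111))
theorem Q24418 : ∀ i, i < 24418 → P i := stepQ 24417 Q24417 (allL N24417 (tt N23982 F256112) (tt N23609 F256113) (tt N25581 D58351) (tt N23182 (iv D57187)) (tt N24225 F256114) (tt N24188 F256115) (tt N24227 F256116) (tt N23184 F256117) (tt N24352 F256118) (tt N23188 F256119))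
theorem Q24419 : ∀ i, i < 24419 → P i := stepQ 24418 Q24418 (allL N24418 (tt N23989 F256120) (tt N23619 F256121) (tt N25582 D58352) (tt N23183 (iv D57188)) (tt N25583 D58353) (tt N23184 F256122) (tt N24208 F256123) (tt N24188 F256124) (tt N24339 F256125) (tt N23192 F256126))
theorem Q24420 : ∀ i, i < 24420 → P i := stepQ 24419 Q24419 (allL N24419 (tt N23990 F256127) (tt N25584 D58354) (tt N23184 (iv D57189)) (tt N23979 F256128) (tt N25568 (iv F260816)) (tt N25582 (iv F260915)) (tt N23980 F256129) (tt N25581 (iv F260910)) (tt N24353 F256130) (tt N23193 F256131))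
theorem Q24421 : ∀ i, i < 24421 → P i := stepQ 24420 Q24420 (allL N24420 (tt N23995 F256132) (tt N23625 F256133) (tt N23536 F256134) (tt N23185 (iv D57190)) (tt N25585 D58355) (tt N23187 F256135) (tt N23186 F256136) (tt N24205 F256137) (tt N24420 F256138) (tt N23195 F256139))
theorem Q24422 : ∀ i, i < 24422 → P i := stepQ 24421 Q24421 (allL N24421 (tt N23996 F256140) (tt N23627 F256141) (tt N24180 F256142) (tt N25583 (iv F260922)) (tt N23186 (iv D57191)) (tt N25569 (iv F260824)) (tt N25585 (iv F260937)) (tt N24189 F256143) (tt N24421 F256144) (tt N23197 F256145))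
theorem Q24423 : ∀ i, i < 24423 → P i := stepQ 24422 Q24422 (allL N24422 (tt N24226 F256146) (tt N25586 D58356) (tt N23188 (iv D57192)) (tt N23976 F256147) (tt N25571 (iv F260839)) (tt N24193 F256148) (tt N25573 (iv F260855)) (tt N23193 F256149) (tt N23392 F256150) (tt N25581 (iv F260912)))
theorem Q24424 : ∀ i, i < 24424 → P i := stepQ 24423 Q24423 (allL N24423 (tt N23980 F256151) (tt N25587 D58357) (tt N23189 (iv D57193)) (tt N23193 F256152) (tt N23983 F256153) (tt N24192 F256154) (tt N23990 F256155) (tt N23976 F256156) (tt N24002 F256157) (tt N23979 F256158))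
theorem Q24425 : ∀ i, i < 24425 → P i := stepQ 24424 Q24424 (allL N24424 (tt N23511 F256159) (tt N23656 F256160) (tt N23562 F256161) (tt N25588 D58358) (tt N23194 F256162) (tt N23603 F256163) (tt N23563 F256164) (tt N23191 F256165) (tt N23190 (iv D57194)) (tt N23628 F256166))
theorem Q24426 : ∀ i, i < 24426 → P i := stepQ 24425 Q24425 (allL N24425 (tt N24206 F256167) (tt N23657 F256168) (tt N25589 D58359) (tt N23191 (iv D57195)) (tt N25590 D58360) (tt N23991 F256169) (tt N23192 F256170) (tt N25588 (iv F260959)) (tt N23410 F256171) (tt N24208 F256172))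
theorem Q24427 : ∀ i, i < 24427 → P i := stepQ 24426 Q24426 (allL N24426 (tt N24212 F256173) (tt N25591 D58361) (tt N23192 (iv D57196)) (tt N24192 F256174) (tt N25592 D58362) (tt N23193 F256175) (tt N25589 (iv F260965)) (tt N24193 F256176) (tt N23411 F256177) (tt N25582 (iv F260919)))
theorem Q24428 : ∀ i, i < 24428 → P i := stepQ 24427 Q24427 (allL N24427 (tt N24213 F256178) (tt N23659 F256179) (tt N25592 (iv F260982)) (tt N23197 F256180) (tt N23192 (iv D57197)) (tt N25575 (iv F260866)) (tt N25590 (iv F260972)) (tt N24194 F256181) (tt N23412 F256182) (tt N25583 (iv F260926)))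
theorem Q24429 : ∀ i, i < 24429 → P i := stepQ 24428 Q24428 (allL N24428 (tt N25593 D58363) (tt N23193 (iv D57198)) (tt N23660 F256183) (tt N25587 (iv F260947)) (tt N25576 (iv F260871)) (tt N25591 (iv F260978)) (tt N23993 F256184) (tt N25586 (iv F260944)) (tt N23413 F256185) (tt N25584 (iv F260931)))
theorem Q24430 : ∀ i, i < 24430 → P i := stepQ 24429 Q24429 (allL N24429 (tt N24207 F256186) (tt N23671 F256187) (tt N24216 F256188) (tt N25590 (iv F260970)) (tt N23195 (iv D57199)) (tt N24211 F256189) (tt N23197 F256190) (tt N24221 F256191) (tt N23199 F256192) (tt N25585 (iv F260940)))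
theorem Q24431 : ∀ i, i < 24431 → P i := stepQ 24430 Q24430 (allL N24430 (tt N23569 F256193) (tt N23196 (iv D57200)) (tt N23670 F256194) (tt N23567 F256195) (tt N25594 D58364) (tt N23198 F256196) (tt N23519 F256197) (tt N23623 F256198) (tt N23200 F256199) (tt N23661 F256200))
theorem Q24432 : ∀ i, i < 24432 → P i := stepQ 24431 Q24431 (allL N24431 (tt N23646 F256201) (tt N25594 (iv F260989)) (tt N23197 F256202) (tt N25595 D58365) (tt N23196 (iv D57201)) (tt N25577 (iv F260877)) (tt N24216 F256203) (tt N24158 F256204) (tt N23201 F256205) (tt N24180 F256206))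
theorem Q24433 : ∀ i, i < 24433 → P i := stepQ 24432 Q24432 (allL N24432 (tt N23585 F256207) (tt N23201 F256208) (tt N23674 F256209) (tt N23798 F256210) (tt N23200 (iv D57202)) (tt N24186 F256211) (tt N23528 F256212) (tt N24161 F256213) (tt N25594 (iv F260994)) (tt N24432 F256214))
theorem Q24434 : ∀ i, i < 24434 → P i := stepQ 24433 Q24433 (allL N24433 (tt N23683 F256215) (tt N23798 F256216) (tt N23437 F256217) (tt N23201 (iv D57203)) (tt N23680 F256218) (tt N25578 (iv F260886)) (tt N23733 F256219) (tt N23732 F256220) (tt N25596 D58366) (tt N24433 F256221))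
theorem Q24435 : ∀ i, i < 24435 → P i := stepQ 24434 Q24434 (allL N24434 (tt N23345 F256222) (tt N23699 F256223) (tt N23906 F256224) (tt N23219 F256225) (tt N24434 F256226) (tt N23203 F256227) (tt N23647 F256228) (tt N23211 F256229) (tt N25597 D58367) (tt N23202 (iv D57204)))
theorem Q24436 : ∀ i, i < 24436 → P i := stepQ 24435 Q24435 (allL N24435 (tt N23346 F256230) (tt N23700 F256231) (tt N24362 F256232) (tt N25598 D58368) (tt N23204 F256233) (tt N25597 (iv F261011)) (tt N23303 F256234) (tt N23212 F256235) (tt N23203 (iv D57205)) (tt N23311 F256236))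
theorem Q24437 : ∀ i, i < 24437 → P i := stepQ 24436 Q24436 (allL N24436 (tt N23887 F256237) (tt N23209 F256238) (tt N23238 F256239) (tt N23598 F256240) (tt N23206 F256241) (tt N23597 F256242) (tt N23235 F256243) (tt N23770 F256244) (tt N25599 D58369) (tt N23205 (iv D57206)))
theorem Q24438 : ∀ i, i < 24438 → P i := stepQ 24437 Q24437 (allL N24437 (tt N23927 F256245) (tt N23210 F256246) (tt N23257 F256247) (tt N25600 D58370) (tt N25599 (iv F261025)) (tt N24437 F256248) (tt N23254 F256249) (tt N23788 F256250) (tt N23206 (iv D57207)) (tt N24017 F256251))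
theorem Q24439 : ∀ i, i < 24439 → P i := stepQ 24438 Q24438 (allL N24438 (tt N24068 F256252) (tt N23598 F256253) (tt N23222 F256254) (tt N23209 F256255) (tt N24438 F256256) (tt N23594 F256257) (tt N23968 F256258) (tt N24317 F256259) (tt N25601 D58371) (tt N23207 (iv D57208)))
theorem Q24440 : ∀ i, i < 24440 → P i := stepQ 24439 Q24439 (allL N24439 (tt N23821 F256260) (tt N23597 F256261) (tt N23211 F256262) (tt N23594 F256263) (tt N24439 F256264) (tt N23209 F256265) (tt N23747 F256266) (tt N23906 F256267) (tt N25602 D58372) (tt N23208 (iv D57209)))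
theorem Q24441 : ∀ i, i < 24441 → P i := stepQ 24440 Q24440 (allL N24440 (tt N24069 F256268) (tt N25599 (iv F261023)) (tt N23212 F256269) (tt N25603 D58373) (tt N23210 F256270) (tt N25602 (iv F261049)) (tt N23997 F256271) (tt N24362 F256272) (tt N23209 (iv D57210)) (tt N24018 F256273))
theorem Q24442 : ∀ i, i < 24442 → P i := stepQ 24441 Q24441 (allL N24441 (tt N24070 F256274) (tt N25600 (iv F261031)) (tt N23341 F256275) (tt N23210 (iv D57211)) (tt N25604 D58374) (tt N24441 F256276) (tt N23998 F256277) (tt N24397 F256278) (tt N24441 F256279) (tt N24019 F256280))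
theorem Q24443 : ∀ i, i < 24443 → P i := stepQ 24442 Q24442 (allL N24442 (tt N23825 F256281) (tt N23703 F256282) (tt N25602 (iv F261047)) (tt N25605 D58375) (tt N24442 F256283) (tt N23212 F256284) (tt N23750 F256285) (tt N25597 (iv F261013)) (tt N23211 (iv D57212)) (tt N24020 F256286))
theorem Q24444 : ∀ i, i < 24444 → P i := stepQ 24443 Q24443 (allL N24443 (tt N24071 F256287) (tt N23704 F256288) (tt N25606 D58376) (tt N23212 (iv D57213)) (tt N23343 F256289) (tt N25605 (iv F261065)) (tt N23999 F256290) (tt N25598 (iv F261019)) (tt N23226 F256291) (tt N24021 F256292))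
theorem Q24445 : ∀ i, i < 24445 → P i := stepQ 24444 Q24444 (allL N24444 (tt N23333 F256293) (tt N23706 F256294) (tt N24103 F256295) (tt N25607 D58377) (tt N23214 F256296) (tt N24199 F256297) (tt N23220 F256298) (tt N23302 F256299) (tt N23213 (iv D57214)) (tt N23234 F256300))
theorem Q24446 : ∀ i, i < 24446 → P i := stepQ 24445 Q24445 (allL N24445 (tt N23815 F256301) (tt N24024 F256302) (tt N24317 F256303) (tt N23216 F256304) (tt N24445 F256305) (tt N23812 F256306) (tt N24075 F256307) (tt N23222 F256308) (tt N25608 D58378) (tt N23215 (iv D57215)))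
theorem Q24447 : ∀ i, i < 24447 → P i := stepQ 24446 Q24446 (allL N24446 (tt N24323 F256309) (tt N24026 F256310) (tt N23220 F256311) (tt N25609 D58379) (tt N23217 F256312) (tt N24022 F256313) (tt N24103 F256314) (tt N23223 F256315) (tt N23216 (iv D57216)) (tt N23236 F256316))
theorem Q24448 : ∀ i, i < 24448 → P i := stepQ 24447 Q24447 (allL N24447 (tt N24335 F256317) (tt N24043 F256318) (tt N23351 F256319) (tt N23217 (iv D57217)) (tt N25610 D58380) (tt N23227 F256320) (tt N24147 F256321) (tt N23224 F256322) (tt N24447 F256323) (tt N23237 F256324))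
theorem Q24449 : ∀ i, i < 24449 → P i := stepQ 24448 Q24448 (allL N24448 (tt N23836 F256325) (tt N23490 F256326) (tt N24016 F256327) (tt N23647 F256328) (tt N23228 F256329) (tt N23613 F256330) (tt N23219 F256331) (tt N23754 F256332) (tt N25611 D58381) (tt N23218 (iv D57218)))
theorem Q24450 : ∀ i, i < 24450 → P i := stepQ 24449 Q24449 (allL N24449 (tt N23849 F256333) (tt N23707 F256334) (tt N24022 F256335) (tt N25612 D58382) (tt N23229 F256336) (tt N23220 F256337) (tt N25611 (iv F261108)) (tt N23225 F256338) (tt N23219 (iv D57219)) (tt N23239 F256339))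
theorem Q24451 : ∀ i, i < 24451 → P i := stepQ 24450 Q24450 (allL N24450 (tt N24328 F256340) (tt N23708 F256341) (tt N25613 D58383) (tt N23220 (iv D57220)) (tt N23354 F256342) (tt N25612 (iv F261113)) (tt N25607 (iv F261078)) (tt N23226 F256343) (tt N25598 (iv F261020)) (tt N23240 F256344))
theorem Q24452 : ∀ i, i < 24452 → P i := stepQ 24451 Q24451 (allL N24451 (tt N24317 F256345) (tt N23339 F256346) (tt N23815 F256347) (tt N23247 F256348) (tt N24451 F256349) (tt N23336 F256350) (tt N23349 F256351) (tt N24068 F256352) (tt N25614 D58384) (tt N23221 (iv D57221)))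
theorem Q24453 : ∀ i, i < 24453 → P i := stepQ 24452 Q24452 (allL N24452 (tt N24318 F256353) (tt N24034 F256354) (tt N25601 (iv F261039)) (tt N25615 D58385) (tt N24452 F256355) (tt N24031 F256356) (tt N23967 F256357) (tt N25608 (iv F261088)) (tt N23222 (iv D57222)) (tt N25614 (iv F261127)))
theorem Q24454 : ∀ i, i < 24454 → P i := stepQ 24453 Q24453 (allL N24453 (tt N24324 F256358) (tt N24036 F256359) (tt N25616 D58386) (tt N23223 (iv D57223)) (tt N25617 D58387) (tt N24032 F256360) (tt N23919 F256361) (tt N25609 (iv F261094)) (tt N25615 (iv F261132)) (tt N23250 F256362))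
theorem Q24455 : ∀ i, i < 24455 → P i := stepQ 24454 Q24454 (allL N24454 (tt N24336 F256363) (tt N24046 F256364) (tt N23363 F256365) (tt N25617 (iv F261140)) (tt N23224 (iv D57224)) (tt N25618 D58388) (tt N23942 F256366) (tt N25610 (iv F261100)) (tt N24454 F256367) (tt N23251 F256368))
theorem Q24456 : ∀ i, i < 24456 → P i := stepQ 24455 Q24455 (allL N24455 (tt N23850 F256369) (tt N23709 F256370) (tt N25619 D58389) (tt N23225 (iv D57225)) (tt N25620 D58390) (tt N23226 F256371) (tt N23757 F256372) (tt N25612 (iv F261114)) (tt N25605 (iv F261067)) (tt N23252 F256373))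
theorem Q24457 : ∀ i, i < 24457 → P i := stepQ 24456 Q24456 (allL N24456 (tt N24329 F256374) (tt N25621 D58391) (tt N23226 (iv D57226)) (tt N25616 (iv F261134)) (tt N23367 F256375) (tt N25619 (iv F261152)) (tt N24001 F256376) (tt N25613 (iv F261118)) (tt N25606 (iv F261072)) (tt N23253 F256377))
theorem Q24458 : ∀ i, i < 24458 → P i := stepQ 24457 Q24457 (allL N24457 (tt N24332 F256378) (tt N23761 F256379) (tt N23369 F256380) (tt N24042 F256381) (tt N23227 (iv D57227)) (tt N25622 D58392) (tt N24457 F256382) (tt N23231 F256383) (tt N24457 F256384) (tt N23256 F256385))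
theorem Q24459 : ∀ i, i < 24459 → P i := stepQ 24458 Q24458 (allL N24458 (tt N23856 F256386) (tt N23491 F256387) (tt N24017 F256388) (tt N25623 D58393) (tt N25611 (iv F261106)) (tt N24458 F256389) (tt N23229 F256390) (tt N23759 F256391) (tt N23228 (iv D57228)) (tt N23257 F256392))
theorem Q24460 : ∀ i, i < 24460 → P i := stepQ 24459 Q24459 (allL N24459 (tt N23863 F256393) (tt N23711 F256394) (tt N25624 D58394) (tt N23229 (iv D57229)) (tt N25625 D58395) (tt N23230 F256395) (tt N25623 (iv F261175)) (tt N23232 F256396) (tt N24459 F256397) (tt N23258 F256398))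
theorem Q24461 : ∀ i, i < 24461 → P i := stepQ 24460 Q24460 (allL N24460 (tt N23868 F256399) (tt N23949 F256400) (tt N23230 (iv D57230)) (tt N23936 F256401) (tt N23372 F256402) (tt N25624 (iv F261182)) (tt N24460 F256403) (tt N23233 F256404) (tt N24460 F256405) (tt N23259 F256406))
theorem Q24462 : ∀ i, i < 24462 → P i := stepQ 24461 Q24461 (allL N24461 (tt N24333 F256407) (tt N23762 F256408) (tt N23373 F256409) (tt N24045 F256410) (tt N25618 (iv F261146)) (tt N23231 (iv D57231)) (tt N23950 F256411) (tt N25622 (iv F261169)) (tt N24461 F256412) (tt N23263 F256413))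
theorem Q24463 : ∀ i, i < 24463 → P i := stepQ 24462 Q24462 (allL N24462 (tt N23864 F256414) (tt N23950 F256415) (tt N23232 (iv D57232)) (tt N23946 F256416) (tt N25626 D58396) (tt N23233 F256417) (tt N23762 F256418) (tt N25624 (iv F261183)) (tt N24462 F256419) (tt N23264 F256420))
theorem Q24464 : ∀ i, i < 24464 → P i := stepQ 24463 Q24463 (allL N24463 (tt N23865 F256421) (tt N23712 F256422) (tt N25626 (iv F261194)) (tt N25620 (iv F261157)) (tt N23232 (iv D57233)) (tt N23377 F256423) (tt N23763 F256424) (tt N25625 (iv F261189)) (tt N24463 F256425) (tt N23265 F256426))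
theorem Q24465 : ∀ i, i < 24465 → P i := stepQ 24464 Q24464 (allL N24464 (tt N24352 F256427) (tt N23715 F256428) (tt N25627 D58397) (tt N23234 (iv D57234)) (tt N23382 F256429) (tt N24200 F256430) (tt N23240 F256431) (tt N23987 F256432) (tt N23982 F256433) (tt N25607 (iv F261081)))
theorem Q24466 : ∀ i, i < 24466 → P i := stepQ 24465 Q24465 (allL N24465 (tt N23913 F256434) (tt N23997 F256435) (tt N23239 F256436) (tt N25628 D58398) (tt N23254 F256437) (tt N23236 F256438) (tt N25599 (iv F261027)) (tt N23249 F256439) (tt N23235 (iv D57235)) (tt N24022 F256440))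
theorem Q24467 : ∀ i, i < 24467 → P i := stepQ 24466 Q24466 (allL N24466 (tt N24369 F256441) (tt N24274 F256442) (tt N25629 D58399) (tt N23236 (iv D57236)) (tt N25630 D58400) (tt N25628 (iv F261208)) (tt N24104 F256443) (tt N23250 F256444) (tt N24094 F256445) (tt N25609 (iv F261095)))
theorem Q24468 : ∀ i, i < 24468 → P i := stepQ 24467 Q24467 (allL N24467 (tt N24387 F256446) (tt N24275 F256447) (tt N23388 F256448) (tt N25630 (iv F261219)) (tt N23237 (iv D57237)) (tt N25631 D58401) (tt N24148 F256449) (tt N23251 F256450) (tt N23272 F256451) (tt N25610 (iv F261102)))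
theorem Q24469 : ∀ i, i < 24469 → P i := stepQ 24468 Q24468 (allL N24468 (tt N23892 F256452) (tt N23701 F256453) (tt N25599 (iv F261024)) (tt N25632 D58402) (tt N23257 F256454) (tt N23614 F256455) (tt N23239 F256456) (tt N23773 F256457) (tt N23238 (iv D57238)) (tt N25611 (iv F261110)))
theorem Q24470 : ∀ i, i < 24470 → P i := stepQ 24469 Q24469 (allL N24469 (tt N23920 F256458) (tt N23717 F256459) (tt N25633 D58403) (tt N23239 (iv D57239)) (tt N25634 D58404) (tt N23240 F256460) (tt N25632 (iv F261232)) (tt N23252 F256461) (tt N25570 (iv F260835)) (tt N25612 (iv F261115)))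
theorem Q24471 : ∀ i, i < 24471 → P i := stepQ 24470 Q24470 (allL N24470 (tt N24378 F256462) (tt N25635 D58405) (tt N23240 (iv D57240)) (tt N25629 (iv F261213)) (tt N23392 F256463) (tt N25633 (iv F261236)) (tt N25627 (iv F261203)) (tt N23253 F256464) (tt N25571 (iv F260842)) (tt N25613 (iv F261119)))
theorem Q24472 : ∀ i, i < 24472 → P i := stepQ 24471 Q24471 (allL N24471 (tt N23776 F256465) (tt N23247 F256466) (tt N23358 F256467) (tt N23339 F256468) (tt N23273 F256469) (tt N23338 F256470) (tt N23347 F256471) (tt N23974 F256472) (tt N25636 D58406) (tt N23241 (iv D57241)))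
theorem Q24473 : ∀ i, i < 24473 → P i := stepQ 24472 Q24472 (allL N24472 (tt N24084 F256473) (tt N23248 F256474) (tt N23869 F256475) (tt N25637 D58407) (tt N23274 F256476) (tt N24012 F256477) (tt N23385 F256478) (tt N23966 F256479) (tt N23242 (iv D57242)) (tt N25636 (iv F261254)))
theorem Q24474 : ∀ i, i < 24474 → P i := stepQ 24473 Q24473 (allL N24473 (tt N24087 F256480) (tt N23250 F256481) (tt N25638 D58408) (tt N23243 (iv D57243)) (tt N25639 D58409) (tt N24013 F256482) (tt N24004 F256483) (tt N24274 F256484) (tt N25637 (iv F261260)) (tt N24036 F256485))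
theorem Q24475 : ∀ i, i < 24475 → P i := stepQ 24474 Q24474 (allL N24474 (tt N23731 F256486) (tt N23251 F256487) (tt N23698 F256488) (tt N25639 (iv F261269)) (tt N23244 (iv D57244)) (tt N23796 F256489) (tt N24005 F256490) (tt N24275 F256491) (tt N23276 F256492) (tt N24046 F256493))
theorem Q24476 : ∀ i, i < 24476 → P i := stepQ 24475 Q24475 (allL N24475 (tt N23906 F256494) (tt N23338 F256495) (tt N23345 F256496) (tt N23336 F256497) (tt N24475 F256498) (tt N23247 F256499) (tt N23779 F256500) (tt N23821 F256501) (tt N25640 D58410) (tt N23245 (iv D57245)))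
theorem Q24477 : ∀ i, i < 24477 → P i := stepQ 24476 Q24476 (allL N24476 (tt N23907 F256502) (tt N24012 F256503) (tt N23381 F256504) (tt N25641 D58411) (tt N24476 F256505) (tt N23248 F256506) (tt N23780 F256507) (tt N24093 F256508) (tt N23246 (iv D57246)) (tt N25640 (iv F261281)))
theorem Q24478 : ∀ i, i < 24478 → P i := stepQ 24477 Q24477 (allL N24477 (tt N24362 F256509) (tt N25636 (iv F261248)) (tt N23346 F256510) (tt N25642 D58412) (tt N23277 F256511) (tt N25640 (iv F261278)) (tt N23350 F256512) (tt N24069 F256513) (tt N23247 (iv D57247)) (tt N23248 F256514))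
theorem Q24479 : ∀ i, i < 24479 → P i := stepQ 24478 Q24478 (allL N24478 (tt N24363 F256515) (tt N25637 (iv F261256)) (tt N25643 D58413) (tt N23248 (iv D57248)) (tt N25644 D58414) (tt N25641 (iv F261284)) (tt N23387 F256516) (tt N24094 F256517) (tt N23250 F256518) (tt N25642 (iv F261291)))
theorem Q24480 : ∀ i, i < 24480 → P i := stepQ 24479 Q24479 (allL N24479 (tt N23914 F256519) (tt N24013 F256520) (tt N25645 D58415) (tt N23249 (iv D57249)) (tt N25646 D58416) (tt N23250 F256521) (tt N23783 F256522) (tt N25628 (iv F261209)) (tt N25641 (iv F261287)) (tt N24032 F256523))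
theorem Q24481 : ∀ i, i < 24481 → P i := stepQ 24480 Q24480 (allL N24480 (tt N24370 F256524) (tt N25647 D58417) (tt N23250 (iv D57250)) (tt N23253 F256525) (tt N25648 D58418) (tt N25645 (iv F261304)) (tt N24006 F256526) (tt N25629 (iv F261215)) (tt N25643 (iv F261296)) (tt N25616 (iv F261137)))
theorem Q24482 : ∀ i, i < 24482 → P i := stepQ 24481 Q24481 (allL N24481 (tt N24371 F256527) (tt N25639 (iv F261268)) (tt N25648 (iv F261315)) (tt N23251 F256528) (tt N23250 (iv D57251)) (tt N25649 D58419) (tt N24007 F256529) (tt N25630 (iv F261221)) (tt N25644 (iv F261301)) (tt N25617 (iv F261142)))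
theorem Q24483 : ∀ i, i < 24483 → P i := stepQ 24482 Q24482 (allL N24482 (tt N24386 F256530) (tt N23796 F256531) (tt N23408 F256532) (tt N25649 (iv F261320)) (tt N23263 F256533) (tt N23251 (iv D57252)) (tt N25650 D58420) (tt N25631 (iv F261227)) (tt N23280 F256534) (tt N25618 (iv F261149)))
theorem Q24484 : ∀ i, i < 24484 → P i := stepQ 24483 Q24483 (allL N24483 (tt N23921 F256535) (tt N25651 D58421) (tt N23252 (iv D57253)) (tt N25645 (iv F261303)) (tt N25652 D58422) (tt N23253 F256536) (tt N23785 F256537) (tt N25633 (iv F261237)) (tt N25574 (iv F260862)) (tt N25619 (iv F261154)))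
theorem Q24485 : ∀ i, i < 24485 → P i := stepQ 24484 Q24484 (allL N24484 (tt N23922 F256538) (tt N23726 F256539) (tt N25652 (iv F261333)) (tt N23265 F256540) (tt N23252 (iv D57254)) (tt N23412 F256541) (tt N23786 F256542) (tt N25634 (iv F261242)) (tt N25575 (iv F260869)) (tt N25620 (iv F261160)))
theorem Q24486 : ∀ i, i < 24486 → P i := stepQ 24485 Q24485 (allL N24485 (tt N25653 D58423) (tt N23253 (iv D57255)) (tt N23727 F256543) (tt N25647 (iv F261312)) (tt N23413 F256544) (tt N25651 (iv F261330)) (tt N24008 F256545) (tt N25635 (iv F261246)) (tt N25576 (iv F260873)) (tt N25621 (iv F261164)))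
theorem Q24487 : ∀ i, i < 24487 → P i := stepQ 24486 Q24486 (allL N24486 (tt N23939 F256546) (tt N23998 F256547) (tt N25654 D58424) (tt N23254 (iv D57256)) (tt N25655 D58425) (tt N23255 F256548) (tt N25600 (iv F261033)) (tt N23260 F256549) (tt N24486 F256550) (tt N24023 F256551))
theorem Q24488 : ∀ i, i < 24488 → P i := stepQ 24487 Q24487 (allL N24487 (tt N23860 F256552) (tt N24332 F256553) (tt N23255 (iv D57257)) (tt N23259 F256554) (tt N24138 (iv F256559)) (tt N25654 (iv F261343)) (tt N24487 F256555) (tt N23261 F256556) (tt N24487 F256557) (tt N23936 F256558))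
theorem Q24489 : ∀ i, i < 24489 → P i := stepQ 24488 Q24488 (allL N24488 (tt N23949 F256560) (tt N23790 F256561) (tt N24138 F256562) (tt N23256 F256563) (tt N23255 (iv D57258)) (tt N25656 D58426) (tt N24488 F256564) (tt N23262 F256565) (tt N24488 F256566) (tt N24042 F256567))
theorem Q24490 : ∀ i, i < 24490 → P i := stepQ 24489 Q24489 (allL N24489 (tt N24381 F256568) (tt N23792 F256569) (tt N23416 F256570) (tt N25656 (iv F261355)) (tt N25631 (iv F261226)) (tt N23256 (iv D57259)) (tt N25657 D58427) (tt N23263 F256571) (tt N23281 F256572) (tt N25622 (iv F261171)))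
theorem Q24491 : ∀ i, i < 24491 → P i := stepQ 24490 Q24490 (allL N24490 (tt N23931 F256573) (tt N23702 F256574) (tt N25658 D58428) (tt N23257 (iv D57260)) (tt N25659 D58429) (tt N24490 F256575) (tt N23258 F256576) (tt N23791 F256577) (tt N23267 F256578) (tt N25623 (iv F261178)))
theorem Q24492 : ∀ i, i < 24492 → P i := stepQ 24491 Q24491 (allL N24491 (tt N23943 F256579) (tt N24296 F256580) (tt N23258 (iv D57261)) (tt N25654 (iv F261342)) (tt N25660 D58430) (tt N23259 F256581) (tt N25658 (iv F261368)) (tt N23264 F256582) (tt N23268 F256583) (tt N25624 (iv F261185)))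
theorem Q24493 : ∀ i, i < 24493 → P i := stepQ 24492 Q24492 (allL N24492 (tt N23944 F256584) (tt N23728 F256585) (tt N25660 (iv F261378)) (tt N25634 (iv F261240)) (tt N23258 (iv D57262)) (tt N23420 F256586) (tt N25659 (iv F261373)) (tt N23265 F256587) (tt N23269 F256588) (tt N25625 (iv F261191)))
theorem Q24494 : ∀ i, i < 24494 → P i := stepQ 24493 Q24493 (allL N24493 (tt N23866 F256589) (tt N24333 F256590) (tt N23260 (iv D57263)) (tt N23264 F256591) (tt N25661 D58431) (tt N23261 F256592) (tt N23794 F256593) (tt N25654 (iv F261344)) (tt N24493 F256594) (tt N23946 F256595))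
theorem Q24495 : ∀ i, i < 24495 → P i := stepQ 24494 Q24494 (allL N24494 (tt N23940 F256596) (tt N24014 F256597) (tt N25661 (iv F261384)) (tt N25646 (iv F261309)) (tt N23260 (iv D57264)) (tt N25662 D58432) (tt N23795 F256598) (tt N25655 (iv F261349)) (tt N24494 F256599) (tt N24033 F256600))
theorem Q24496 : ∀ i, i < 24496 → P i := stepQ 24495 Q24495 (allL N24495 (tt N23950 F256601) (tt N23794 F256602) (tt N24142 F256603) (tt N23263 F256604) (tt N25662 (iv F261392)) (tt N23262 (iv D57265)) (tt N24333 F256605) (tt N25656 (iv F261356)) (tt N24495 F256606) (tt N24045 F256607))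
theorem Q24497 : ∀ i, i < 24497 → P i := stepQ 24496 Q24496 (allL N24496 (tt N24045 F256608) (tt N23264 F256609) (tt N23424 F256610) (tt N24333 F256611) (tt N25650 (iv F261324)) (tt N23266 F256612) (tt N23263 (iv D57266)) (tt N24296 (iv F256615)) (tt N23270 F256613) (tt N23950 F256614))
theorem Q24498 : ∀ i, i < 24498 → P i := stepQ 24497 Q24497 (allL N24497 (tt N23945 F256616) (tt N25650 (iv F261322)) (tt N23265 F256617) (tt N25663 D58433) (tt N23264 (iv D57267)) (tt N23428 F256618) (tt N23796 F256619) (tt N25660 (iv F261380)) (tt N23271 F256620) (tt N25626 (iv F261198)))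
theorem Q24499 : ∀ i, i < 24499 → P i := stepQ 24498 Q24498 (allL N24498 (tt N23951 F256621) (tt N23971 F256622) (tt N23267 (iv D57268)) (tt N24498 F256623) (tt N25664 D58434) (tt N24498 F256624) (tt N23268 F256625) (tt N23797 F256626) (tt N25658 (iv F261370)) (tt N24498 F256627))
theorem Q24500 : ∀ i, i < 24500 → P i := stepQ 24499 Q24499 (allL N24499 (tt N23952 F256628) (tt N23732 F256629) (tt N25664 (iv F261401)) (tt N24161 F256630) (tt N23267 (iv D57269)) (tt N25665 D58435) (tt N23269 F256631) (tt N23798 F256632) (tt N25659 (iv F261375)) (tt N24499 F256633))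
theorem Q24501 : ∀ i, i < 24501 → P i := stepQ 24500 Q24500 (allL N24500 (tt N23959 F256634) (tt N24392 F256635) (tt N23269 F256636) (tt N23973 (iv F256640)) (tt N23268 (iv D57270)) (tt N23432 F256637) (tt N25664 (iv F261402)) (tt N23271 F256638) (tt N25660 (iv F261381)) (tt N24500 F256639))
theorem Q24502 : ∀ i, i < 24502 → P i := stepQ 24501 Q24501 (allL N24501 (tt N24056 F256641) (tt N23271 F256642) (tt N23449 F256643) (tt N25666 D58436) (tt N23270 (iv D57271)) (tt N23436 F256644) (tt N23280 F256645) (tt N24392 F256646) (tt N25650 (iv F261326)) (tt N24501 F256647))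
theorem Q24503 : ∀ i, i < 24503 → P i := stepQ 24502 Q24502 (allL N24502 (tt N23960 F256648) (tt N25666 (iv F261416)) (tt N25578 (iv F260884)) (tt N23271 (iv D57272)) (tt N24502 F256649) (tt N23437 F256650) (tt N23800 F256651) (tt N23973 F256652) (tt N25667 D58437) (tt N24502 F256653))
theorem Q24504 : ∀ i, i < 24504 → P i := stepQ 24503 Q24503 (allL N24503 (tt N24401 F256654) (tt N23799 F256655) (tt N23439 F256656) (tt N24146 F256657) (tt N23281 F256658) (tt N23272 (iv D57273)) (tt N25668 D58438) (tt N23280 F256659) (tt N25631 (iv F261228)) (tt N24503 F256660))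
theorem Q24505 : ∀ i, i < 24505 → P i := stepQ 24504 Q24504 (allL N24504 (tt N23802 F256661) (tt N23277 F256662) (tt N23801 F256663) (tt N25669 D58439) (tt N25636 (iv F261250)) (tt N24504 F256664) (tt N23348 F256665) (tt N23964 F256666) (tt N23273 (iv D57274)) (tt N23274 F256667))
theorem Q24506 : ∀ i, i < 24506 → P i := stepQ 24505 Q24505 (allL N24505 (tt N24388 F256668) (tt N23278 F256669) (tt N23677 F256670) (tt N23274 (iv D57275)) (tt N25670 D58440) (tt N24505 F256671) (tt N23386 F256672) (tt N23685 F256673) (tt N23275 F256674) (tt N25669 (iv F261443)))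
theorem Q24507 : ∀ i, i < 24507 → P i := stepQ 24506 Q24506 (allL N24506 (tt N23734 F256675) (tt N23279 F256676) (tt N23678 F256677) (tt N23276 F256678) (tt N23275 (iv D57276)) (tt N23800 (iv F256682)) (tt N23438 F256679) (tt N23687 F256680) (tt N25670 (iv F261449)) (tt N24506 F256681))
theorem Q24508 : ∀ i, i < 24508 → P i := stepQ 24507 Q24507 (allL N24507 (tt N24397 F256683) (tt N25669 (iv F261437)) (tt N24147 F256684) (tt N23277 (iv D57277)) (tt N25671 D58441) (tt N24507 F256685) (tt N23351 F256686) (tt N24070 F256687) (tt N24507 F256688) (tt N23278 F256689))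
theorem Q24509 : ∀ i, i < 24509 → P i := stepQ 24508 Q24508 (allL N24508 (tt N24398 F256690) (tt N25670 (iv F261445)) (tt N24148 F256691) (tt N25644 (iv F261298)) (tt N23278 (iv D57278)) (tt N25672 D58442) (tt N23388 F256692) (tt N24095 F256693) (tt N23279 F256694) (tt N25671 (iv F261456)))
theorem Q24510 : ∀ i, i < 24510 → P i := stepQ 24509 Q24509 (allL N24509 (tt N24400 F256695) (tt N23800 F256696) (tt N24149 F256697) (tt N23280 F256698) (tt N24509 F256699) (tt N23279 (iv D57279)) (tt N25666 (iv F261420)) (tt N24146 F256700) (tt N25672 (iv F261462)) (tt N24509 F256701))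
theorem Q24511 : ∀ i, i < 24511 → P i := stepQ 24510 Q24510 (allL N24510 (tt N24054 F256702) (tt N23797 F256703) (tt N23450 F256704) (tt N24510 F256705) (tt N25668 (iv F261432)) (tt N24510 F256706) (tt N23281 (iv D57280)) (tt N23971 F256707) (tt N25657 (iv F261364)) (tt N24510 F256708))
theorem Q24512 : ∀ i, i < 24512 → P i := stepQ 24511 Q24511 (allL N24511 (tt N23735 F256709) (tt N23303 F256710) (tt N23723 F256711) (tt N25673 D58443) (tt N23283 F256712) (tt N23738 F256713) (tt N23700 F256714) (tt N23284 F256715) (tt N23282 (iv D57281)) (tt N23292 F256716))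
theorem Q24513 : ∀ i, i < 24513 → P i := stepQ 24512 Q24512 (allL N24512 (tt N23736 F256717) (tt N23308 F256718) (tt N25674 D58444) (tt N23284 (iv D57282)) (tt N24090 F256719) (tt N23742 F256720) (tt N23721 F256721) (tt N25673 (iv F261468)) (tt N24242 F256722) (tt N23297 F256723))
theorem Q24514 : ∀ i, i < 24514 → P i := stepQ 24513 Q24513 (allL N24513 (tt N23642 F256724) (tt N23754 F256725) (tt N23288 F256726) (tt N24170 F256727) (tt N23286 F256728) (tt N24163 F256729) (tt N23290 F256730) (tt N23490 F256731) (tt N25675 D58445) (tt N23285 (iv D57283)))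
theorem Q24515 : ∀ i, i < 24515 → P i := stepQ 24514 Q24514 (allL N24514 (tt N23681 F256732) (tt N23759 F256733) (tt N23289 F256734) (tt N25676 D58446) (tt N25675 (iv F261481)) (tt N24514 F256735) (tt N23291 F256736) (tt N23491 F256737) (tt N23286 (iv D57284)) (tt N23679 F256738))
theorem Q24516 : ∀ i, i < 24516 → P i := stepQ 24515 Q24515 (allL N24515 (tt N23497 F256739) (tt N23310 F256740) (tt N24163 F256741) (tt N23471 F256742) (tt N24515 F256743) (tt N23288 F256744) (tt N23641 F256745) (tt N23492 F256746) (tt N25677 D58447) (tt N23287 (iv D57285)))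
theorem Q24517 : ∀ i, i < 24517 → P i := stepQ 24516 Q24516 (allL N24516 (tt N23737 F256747) (tt N23311 F256748) (tt N25675 (iv F261480)) (tt N25678 D58448) (tt N23289 F256749) (tt N25677 (iv F261498)) (tt N23292 F256750) (tt N23493 F256751) (tt N23288 (iv D57286)) (tt N23700 F256752))
theorem Q24518 : ∀ i, i < 24518 → P i := stepQ 24517 Q24517 (allL N24517 (tt N23738 F256753) (tt N23755 F256754) (tt N23292 F256755) (tt N25679 D58449) (tt N23291 F256756) (tt N23735 F256757) (tt N25675 (iv F261483)) (tt N23294 F256758) (tt N23290 (iv D57287)) (tt N23723 F256759))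
theorem Q24519 : ∀ i, i < 24519 → P i := stepQ 24518 Q24518 (allL N24518 (tt N23739 F256760) (tt N23760 F256761) (tt N24144 F256762) (tt N23291 (iv D57288)) (tt N25680 D58450) (tt N23298 F256763) (tt N25676 (iv F261490)) (tt N23295 F256764) (tt N24518 F256765) (tt N23729 F256766))
theorem Q24520 : ∀ i, i < 24520 → P i := stepQ 24519 Q24519 (allL N24519 (tt N23740 F256767) (tt N23312 F256768) (tt N25681 D58451) (tt N23292 (iv D57289)) (tt N24133 F256769) (tt N24217 F256770) (tt N25678 (iv F261505)) (tt N23297 F256771) (tt N24218 F256772) (tt N25673 (iv F261470)))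
theorem Q24521 : ∀ i, i < 24521 → P i := stepQ 24520 Q24520 (allL N24520 (tt N23741 F256773) (tt N23750 F256774) (tt N23714 F256775) (tt N25682 D58452) (tt N24520 F256776) (tt N23713 F256777) (tt N23703 F256778) (tt N24246 F256779) (tt N23293 (iv D57290)) (tt N24237 F256780))
theorem Q24522 : ∀ i, i < 24522 → P i := stepQ 24521 Q24521 (allL N24521 (tt N23742 F256781) (tt N23757 F256782) (tt N25683 D58453) (tt N23294 (iv D57291)) (tt N25684 D58454) (tt N23736 F256783) (tt N23709 F256784) (tt N25679 (iv F261512)) (tt N25682 (iv F261532)) (tt N23724 F256785))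
theorem Q24523 : ∀ i, i < 24523 → P i := stepQ 24522 Q24522 (allL N24522 (tt N23743 F256786) (tt N23763 F256787) (tt N24145 F256788) (tt N25684 (iv F261541)) (tt N23295 (iv D57292)) (tt N24273 F256789) (tt N23712 F256790) (tt N25680 (iv F261519)) (tt N24522 F256791) (tt N23730 F256792))
theorem Q24524 : ∀ i, i < 24524 → P i := stepQ 24523 Q24523 (allL N24523 (tt N23724 F256793) (tt N23317 F256794) (tt N25685 D58455) (tt N23296 (iv D57293)) (tt N25686 D58456) (tt N23297 F256795) (tt N23696 F256796) (tt N24217 F256797) (tt N24210 F256798) (tt N23742 F256799))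
theorem Q24525 : ∀ i, i < 24525 → P i := stepQ 24524 Q24524 (allL N24524 (tt N23744 F256800) (tt N25687 D58457) (tt N23297 (iv D57294)) (tt N25683 (iv F261535)) (tt N24134 F256801) (tt N25685 (iv F261547)) (tt N24011 F256802) (tt N25681 (iv F261525)) (tt N25579 (iv F260896)) (tt N25674 (iv F261477)))
theorem Q24526 : ∀ i, i < 24526 → P i := stepQ 24525 Q24525 (allL N24525 (tt N23730 F256803) (tt N23321 F256804) (tt N24005 F256805) (tt N25686 (iv F261554)) (tt N23299 (iv D57295)) (tt N23426 F256806) (tt N23698 F256807) (tt N24235 F256808) (tt N23300 F256809) (tt N23743 F256810))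
theorem Q24527 : ∀ i, i < 24527 → P i := stepQ 24526 Q24526 (allL N24526 (tt N23342 F256811) (tt N23741 F256812) (tt N24121 F256813) (tt N25688 D58458) (tt N24526 F256814) (tt N23302 F256815) (tt N24260 F256816) (tt N24199 F256817) (tt N23301 (iv D57296)) (tt N23986 F256818))
theorem Q24528 : ∀ i, i < 24528 → P i := stepQ 24527 Q24527 (allL N24527 (tt N23343 F256819) (tt N24242 F256820) (tt N25689 D58459) (tt N23302 (iv D57297)) (tt N24071 F256821) (tt N25688 (iv F261565)) (tt N24000 F256822) (tt N25607 (iv F261079)) (tt N23308 F256823) (tt N23987 F256824))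
theorem Q24529 : ∀ i, i < 24529 → P i := stepQ 24528 Q24528 (allL N24528 (tt N23354 F256825) (tt N25673 (iv F261464)) (tt N25690 D58460) (tt N23303 (iv D57298)) (tt N24328 F256826) (tt N24222 F256827) (tt N25598 (iv F261018)) (tt N23308 F256828) (tt N25607 (iv F261080)) (tt N23312 F256829))
theorem Q24530 : ∀ i, i < 24530 → P i := stepQ 24529 Q24529 (allL N24529 (tt N23360 F256830) (tt N23780 F256831) (tt N24085 F256832) (tt N25691 D58461) (tt N24529 F256833) (tt N23777 F256834) (tt N24012 F256835) (tt N24319 F256836) (tt N23304 (iv D57299)) (tt N24064 F256837))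
theorem Q24531 : ∀ i, i < 24531 → P i := stepQ 24530 Q24530 (allL N24530 (tt N23362 F256838) (tt N23783 F256839) (tt N25692 D58462) (tt N23305 (iv D57300)) (tt N25693 D58463) (tt N23778 F256840) (tt N24013 F256841) (tt N24364 F256842) (tt N25691 (iv F261587)) (tt N23313 F256843))
theorem Q24532 : ∀ i, i < 24532 → P i := stepQ 24531 Q24531 (allL N24531 (tt N23363 F256844) (tt N23795 F256845) (tt N24336 F256846) (tt N25693 (iv F261597)) (tt N23306 (iv D57301)) (tt N24334 F256847) (tt N24014 F256848) (tt N24399 F256849) (tt N24531 F256850) (tt N23314 F256851))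
theorem Q24533 : ∀ i, i < 24533 → P i := stepQ 24532 Q24532 (allL N24532 (tt N23366 F256852) (tt N23742 F256853) (tt N25694 D58464) (tt N23307 (iv D57302)) (tt N25695 D58465) (tt N23308 F256854) (tt N24262 F256855) (tt N24222 F256856) (tt N25688 (iv F261568)) (tt N23317 F256857))
theorem Q24534 : ∀ i, i < 24534 → P i := stepQ 24533 Q24533 (allL N24533 (tt N23367 F256858) (tt N25696 D58466) (tt N23308 (iv D57303)) (tt N25692 (iv F261590)) (tt N24329 F256859) (tt N25694 (iv F261604)) (tt N24015 F256860) (tt N25690 (iv F261580)) (tt N25689 (iv F261574)) (tt N23318 F256861))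
theorem Q24535 : ∀ i, i < 24535 → P i := stepQ 24534 Q24534 (allL N24534 (tt N23377 F256862) (tt N23743 F256863) (tt N24083 F256864) (tt N25695 (iv F261610)) (tt N23309 (iv D57304)) (tt N23865 F256865) (tt N24273 F256866) (tt N24236 F256867) (tt N24534 F256868) (tt N23321 F256869))
theorem Q24536 : ∀ i, i < 24536 → P i := stepQ 24535 Q24535 (allL N24535 (tt N23381 F256870) (tt N25677 (iv F261495)) (tt N23907 F256871) (tt N25697 D58467) (tt N24535 F256872) (tt N23311 F256873) (tt N23648 F256874) (tt N24020 F256875) (tt N23310 (iv D57305)) (tt N25597 (iv F261014)))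
theorem Q24537 : ∀ i, i < 24537 → P i := stepQ 24536 Q24536 (allL N24536 (tt N23382 F256876) (tt N25678 (iv F261503)) (tt N25698 D58468) (tt N23311 (iv D57306)) (tt N24352 F256877) (tt N25697 (iv F261619)) (tt N23312 F256878) (tt N24021 F256879) (tt N24225 F256880) (tt N25598 (iv F261021)))
theorem Q24538 : ∀ i, i < 24538 → P i := stepQ 24537 Q24537 (allL N24537 (tt N23392 F256881) (tt N25699 D58469) (tt N23312 (iv D57307)) (tt N24365 F256882) (tt N24378 F256883) (tt N24223 F256884) (tt N25698 (iv F261626)) (tt N23318 F256885) (tt N24226 F256886) (tt N25690 (iv F261581)))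
theorem Q24539 : ∀ i, i < 24539 → P i := stepQ 24538 Q24538 (allL N24538 (tt N23406 F256887) (tt N25700 D58470) (tt N23313 (iv D57308)) (tt N23318 F256888) (tt N25701 D58471) (tt N24345 F256889) (tt N24037 F256890) (tt N24365 F256891) (tt N24346 F256892) (tt N25692 (iv F261594)))
theorem Q24540 : ∀ i, i < 24540 → P i := stepQ 24539 Q24539 (allL N24539 (tt N23407 F256893) (tt N24374 F256894) (tt N25701 (iv F261641)) (tt N23314 F256895) (tt N23313 (iv D57309)) (tt N24360 F256896) (tt N24038 F256897) (tt N24366 F256898) (tt N24347 F256899) (tt N25693 (iv F261601)))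
theorem Q24541 : ∀ i, i < 24541 → P i := stepQ 24540 Q24540 (allL N24540 (tt N23409 F256900) (tt N23513 F256901) (tt N23870 F256902) (tt N25702 D58472) (tt N23319 F256903) (tt N23689 F256904) (tt N23633 F256905) (tt N23316 F256906) (tt N23315 (iv D57310)) (tt N24251 F256907))
theorem Q24542 : ∀ i, i < 24542 → P i := stepQ 24541 Q24541 (allL N24541 (tt N23410 F256908) (tt N23696 F256909) (tt N25703 D58473) (tt N23316 (iv D57311)) (tt N25704 D58474) (tt N23692 F256910) (tt N23317 F256911) (tt N25702 (iv F261651)) (tt N24206 F256912) (tt N24262 F256913))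
theorem Q24543 : ∀ i, i < 24543 → P i := stepQ 24542 Q24542 (allL N24542 (tt N23411 F256914) (tt N25705 D58475) (tt N23317 (iv D57312)) (tt N24345 F256915) (tt N25706 D58476) (tt N23318 F256916) (tt N25703 (iv F261657)) (tt N24223 F256917) (tt N24212 F256918) (tt N25694 (iv F261607)))
theorem Q24544 : ∀ i, i < 24544 → P i := stepQ 24543 Q24543 (allL N24543 (tt N23412 F256919) (tt N25686 (iv F261553)) (tt N25706 (iv F261672)) (tt N23321 F256920) (tt N23317 (iv D57313)) (tt N23922 F256921) (tt N25704 (iv F261664)) (tt N24224 F256922) (tt N24213 F256923) (tt N25695 (iv F261614)))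
theorem Q24545 : ∀ i, i < 24545 → P i := stepQ 24544 Q24544 (allL N24544 (tt N25707 D58477) (tt N23318 (iv D57314)) (tt N25687 (iv F261560)) (tt N25700 (iv F261635)) (tt N24379 F256924) (tt N25705 (iv F261668)) (tt N24041 F256925) (tt N25699 (iv F261632)) (tt N25580 (iv F260903)) (tt N25696 (iv F261617)))
theorem Q24546 : ∀ i, i < 24546 → P i := stepQ 24545 Q24545 (allL N24545 (tt N23425 F256926) (tt N23526 F256927) (tt N23386 F256928) (tt N23319 (iv D57315)) (tt N25708 D58478) (tt N23322 F256929) (tt N23677 F256930) (tt N23320 F256931) (tt N23323 F256932) (tt N24271 F256933))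
theorem Q24547 : ∀ i, i < 24547 → P i := stepQ 24546 Q24546 (allL N24546 (tt N23426 F256934) (tt N23698 F256935) (tt N23400 F256936) (tt N25704 (iv F261662)) (tt N23320 (iv D57316)) (tt N23730 F256937) (tt N23321 F256938) (tt N25708 (iv F261685)) (tt N23324 F256939) (tt N24273 F256940))
theorem Q24548 : ∀ i, i < 24548 → P i := stepQ 24547 Q24547 (allL N24547 (tt N23434 F256941) (tt N23527 F256942) (tt N23438 F256943) (tt N23525 F256944) (tt N23323 (iv D57317)) (tt N23733 F256945) (tt N23678 F256946) (tt N23324 F256947) (tt N25708 (iv F261686)) (tt N24547 F256948))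
theorem Q24549 : ∀ i, i < 24549 → P i := stepQ 24548 Q24548 (allL N24548 (tt N23594 F256949) (tt N23329 F256950) (tt N23804 F256951) (tt N23821 F256952) (tt N23326 F256953) (tt N24068 F256954) (tt N23818 F256955) (tt N23336 F256956) (tt N25709 D58479) (tt N23325 (iv D57318)))
theorem Q24550 : ∀ i, i < 24550 → P i := stepQ 24549 Q24549 (allL N24549 (tt N23595 F256957) (tt N23330 F256958) (tt N23805 F256959) (tt N25710 D58480) (tt N25709 (iv F261691)) (tt N24549 F256960) (tt N24137 F256961) (tt N23337 F256962) (tt N23326 (iv D57319)) (tt N23813 F256963))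
theorem Q24551 : ∀ i, i < 24551 → P i := stepQ 24550 Q24550 (allL N24550 (tt N24075 F256964) (tt N23821 F256965) (tt N23349 F256966) (tt N23329 F256967) (tt N24550 F256968) (tt N23974 F256969) (tt N23815 F256970) (tt N23338 F256971) (tt N25711 D58481) (tt N23327 (iv D57320)))
theorem Q24552 : ∀ i, i < 24552 → P i := stepQ 24551 Q24551 (allL N24551 (tt N24101 F256972) (tt N24068 F256973) (tt N23332 F256974) (tt N23974 F256975) (tt N24551 F256976) (tt N23329 F256977) (tt N24072 F256978) (tt N23339 F256979) (tt N25712 D58482) (tt N23328 (iv D57321)))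
theorem Q24553 : ∀ i, i < 24553 → P i := stepQ 24552 Q24552 (allL N24552 (tt N24103 F256980) (tt N25709 (iv F261689)) (tt N23333 F256981) (tt N25713 D58483) (tt N23330 F256982) (tt N25712 (iv F261715)) (tt N24323 F256983) (tt N23340 F256984) (tt N23329 (iv D57322)) (tt N24025 F256985))
theorem Q24554 : ∀ i, i < 24554 → P i := stepQ 24553 Q24553 (allL N24553 (tt N24147 F256986) (tt N25710 (iv F261697)) (tt N24397 F256987) (tt N23330 (iv D57323)) (tt N25714 D58484) (tt N24553 F256988) (tt N24335 F256989) (tt N23341 F256990) (tt N24553 F256991) (tt N24050 F256992))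
theorem Q24555 : ∀ i, i < 24555 → P i := stepQ 24554 Q24554 (allL N24554 (tt N23613 F256993) (tt N23809 F256994) (tt N24072 F256995) (tt N23352 F256996) (tt N24554 F256997) (tt N23836 F256998) (tt N23332 F256999) (tt N23829 F257000) (tt N25715 D58485) (tt N23331 (iv D57324)))
theorem Q24556 : ∀ i, i < 24556 → P i := stepQ 24555 Q24555 (allL N24555 (tt N24199 F257001) (tt N23810 F257002) (tt N25712 (iv F261713)) (tt N25716 D58486) (tt N24555 F257003) (tt N23333 F257004) (tt N25715 (iv F261734)) (tt N23342 F257005) (tt N23332 (iv D57325)) (tt N24187 F257006))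
theorem Q24557 : ∀ i, i < 24557 → P i := stepQ 24556 Q24556 (allL N24556 (tt N25607 (iv F261074)) (tt N23811 F257007) (tt N25717 D58487) (tt N23333 (iv D57326)) (tt N25598 (iv F261017)) (tt N25716 (iv F261739)) (tt N24328 F257008) (tt N23343 F257009) (tt N23354 F257010) (tt N24352 F257011))
theorem Q24558 : ∀ i, i < 24558 → P i := stepQ 24557 Q24557 (allL N24557 (tt N23336 F257012) (tt N23590 F257013) (tt N23812 F257014) (tt N23906 F257015) (tt N23335 F257016) (tt N24317 F257017) (tt N23842 F257018) (tt N23594 F257019) (tt N25718 D58488) (tt N23334 (iv D57327)))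
theorem Q24559 : ∀ i, i < 24559 → P i := stepQ 24558 Q24558 (allL N24558 (tt N23337 F257020) (tt N23591 F257021) (tt N23813 F257022) (tt N25719 D58489) (tt N25718 (iv F261750)) (tt N24558 F257023) (tt N24061 F257024) (tt N23595 F257025) (tt N23335 (iv D57328)) (tt N23805 F257026))
theorem Q24560 : ∀ i, i < 24560 → P i := stepQ 24559 Q24559 (allL N24559 (tt N25718 (iv F261747)) (tt N23340 F257027) (tt N23816 F257028) (tt N25720 D58490) (tt N23337 F257029) (tt N25614 (iv F261124)) (tt N24062 F257030) (tt N25709 (iv F261694)) (tt N23336 (iv D57329)) (tt N24031 F257031))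
theorem Q24561 : ∀ i, i < 24561 → P i := stepQ 24560 Q24560 (allL N24560 (tt N25719 (iv F261755)) (tt N23341 F257032) (tt N25721 D58491) (tt N23337 (iv D57330)) (tt N25722 D58492) (tt N24560 F257033) (tt N24063 F257034) (tt N25710 (iv F261700)) (tt N24560 F257035) (tt N24053 F257036))
theorem Q24562 : ∀ i, i < 24562 → P i := stepQ 24561 Q24561 (allL N24561 (tt N24085 F257037) (tt N25640 (iv F261275)) (tt N23360 F257038) (tt N25723 D58493) (tt N24561 F257039) (tt N25636 (iv F261251)) (tt N24064 F257040) (tt N25711 (iv F261709)) (tt N23338 (iv D57331)) (tt N24012 F257041))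
theorem Q24563 : ∀ i, i < 24563 → P i := stepQ 24562 Q24562 (allL N24562 (tt N24121 F257042) (tt N25614 (iv F261121)) (tt N23342 F257043) (tt N25724 D58494) (tt N24562 F257044) (tt N23340 F257045) (tt N24303 F257046) (tt N25712 (iv F261717)) (tt N23339 (iv D57332)) (tt N24034 F257047))
theorem Q24564 : ∀ i, i < 24564 → P i := stepQ 24563 Q24563 (allL N24563 (tt N24123 F257048) (tt N25720 (iv F261762)) (tt N25725 D58495) (tt N23340 (iv D57333)) (tt N25726 D58496) (tt N25724 (iv F261779)) (tt N24065 F257049) (tt N25713 (iv F261721)) (tt N25723 (iv F261776)) (tt N24035 F257050))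
theorem Q24565 : ∀ i, i < 24565 → P i := stepQ 24564 Q24564 (allL N24564 (tt N24153 F257051) (tt N25722 (iv F261770)) (tt N25604 (iv F261058)) (tt N25726 (iv F261787)) (tt N23341 (iv D57334)) (tt N25727 D58497) (tt N24066 F257052) (tt N25714 (iv F261726)) (tt N24564 F257053) (tt N24057 F257054))
theorem Q24566 : ∀ i, i < 24566 → P i := stepQ 24565 Q24565 (allL N24565 (tt N25688 (iv F261563)) (tt N23826 F257055) (tt N25728 D58498) (tt N23342 (iv D57335)) (tt N25729 D58499) (tt N23343 F257056) (tt N24305 F257057) (tt N25716 (iv F261740)) (tt N23366 F257058) (tt N24339 F257059))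
theorem Q24567 : ∀ i, i < 24567 → P i := stepQ 24566 Q24566 (allL N24566 (tt N25689 (iv F261570)) (tt N25730 D58500) (tt N23343 (iv D57336)) (tt N25725 (iv F261783)) (tt N25606 (iv F261070)) (tt N25728 (iv F261794)) (tt N24067 F257060) (tt N25717 (iv F261744)) (tt N23367 F257061) (tt N24353 F257062))
theorem Q24568 : ∀ i, i < 24568 → P i := stepQ 24567 Q24567 (allL N24567 (tt N23647 F257063) (tt N23829 F257064) (tt N23779 F257065) (tt N23836 F257066) (tt N24567 F257067) (tt N23352 F257068) (tt N23345 F257069) (tt N23809 F257070) (tt N25731 D58501) (tt N23344 (iv D57337)))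
theorem Q24569 : ∀ i, i < 24569 → P i := stepQ 24568 Q24568 (allL N24568 (tt N25597 (iv F261007)) (tt N23830 F257071) (tt N25640 (iv F261276)) (tt N25732 D58502) (tt N24568 F257072) (tt N23346 F257073) (tt N25731 (iv F261812)) (tt N23825 F257074) (tt N23345 (iv D57338)) (tt N23381 F257075))
theorem Q24570 : ∀ i, i < 24570 → P i := stepQ 24569 Q24569 (allL N24569 (tt N25598 (iv F261015)) (tt N23831 F257076) (tt N25733 D58503) (tt N23346 (iv D57339)) (tt N25607 (iv F261076)) (tt N25732 (iv F261816)) (tt N23354 F257077) (tt N24071 F257078) (tt N24328 F257079) (tt N23382 F257080))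
theorem Q24571 : ∀ i, i < 24571 → P i := stepQ 24570 Q24570 (allL N24570 (tt N23880 F257081) (tt N23350 F257082) (tt N23832 F257083) (tt N25734 D58504) (tt N23348 F257084) (tt N23878 F257085) (tt N25636 (iv F261252)) (tt N23356 F257086) (tt N23347 (iv D57340)) (tt N23385 F257087))
theorem Q24572 : ∀ i, i < 24572 → P i := stepQ 24571 Q24571 (allL N24571 (tt N23926 F257088) (tt N23351 F257089) (tt N24271 F257090) (tt N23348 (iv D57341)) (tt N25735 D58505) (tt N23368 F257091) (tt N25669 (iv F261440)) (tt N23357 F257092) (tt N24571 F257093) (tt N23386 F257094))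
theorem Q24573 : ∀ i, i < 24573 → P i := stepQ 24572 Q24572 (allL N24572 (tt N24319 F257095) (tt N24303 F257096) (tt N25711 (iv F261705)) (tt N25736 D58506) (tt N24572 F257097) (tt N23965 F257098) (tt N25614 (iv F261125)) (tt N23360 F257099) (tt N23349 (iv D57342)) (tt N23967 F257100))
theorem Q24574 : ∀ i, i < 24574 → P i := stepQ 24573 Q24573 (allL N24573 (tt N24364 F257101) (tt N25734 (iv F261825)) (tt N25737 D58507) (tt N23350 (iv D57343)) (tt N25738 D58508) (tt N24288 F257102) (tt N25642 (iv F261289)) (tt N23362 F257103) (tt N25736 (iv F261841)) (tt N23387 F257104))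
theorem Q24575 : ∀ i, i < 24575 → P i := stepQ 24574 Q24574 (allL N24574 (tt N24399 F257105) (tt N25735 (iv F261831)) (tt N25610 (iv F261098)) (tt N25738 (iv F261849)) (tt N23351 (iv D57344)) (tt N25739 D58509) (tt N25671 (iv F261453)) (tt N23363 F257106) (tt N24574 F257107) (tt N23388 F257108))
theorem Q24576 : ∀ i, i < 24576 → P i := stepQ 24575 Q24575 (allL N24575 (tt N23649 F257109) (tt N23837 F257110) (tt N23781 F257111) (tt N25740 D58510) (tt N23370 F257112) (tt N25731 (iv F261811)) (tt N23353 F257113) (tt N24312 F257114) (tt N23352 (iv D57345)) (tt N23390 F257115))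
theorem Q24577 : ∀ i, i < 24577 → P i := stepQ 24576 Q24576 (allL N24576 (tt N24222 F257116) (tt N23838 F257117) (tt N25741 D58511) (tt N23353 (iv D57346)) (tt N25742 D58512) (tt N23354 F257118) (tt N25740 (iv F261860)) (tt N23366 F257119) (tt N25716 (iv F261741)) (tt N23391 F257120))
theorem Q24578 : ∀ i, i < 24578 → P i := stepQ 24577 Q24577 (allL N24577 (tt N25690 (iv F261576)) (tt N25743 D58513) (tt N23354 (iv D57347)) (tt N25737 (iv F261844)) (tt N25613 (iv F261117)) (tt N25741 (iv F261865)) (tt N25733 (iv F261820)) (tt N23367 F257121) (tt N25717 (iv F261745)) (tt N23392 F257122))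
theorem Q24579 : ∀ i, i < 24579 → P i := stepQ 24578 Q24578 (allL N24578 (tt N23899 F257123) (tt N23360 F257124) (tt N23830 F257125) (tt N25744 D58514) (tt N24578 F257126) (tt N23828 F257127) (tt N24080 F257128) (tt N24303 F257129) (tt N23355 (iv D57348)) (tt N23872 F257130))
theorem Q24580 : ∀ i, i < 24580 → P i := stepQ 24579 Q24579 (allL N24579 (tt N23902 F257131) (tt N23362 F257132) (tt N25745 D58515) (tt N23356 (iv D57349)) (tt N25746 D58516) (tt N23897 F257133) (tt N24082 F257134) (tt N25734 (iv F261827)) (tt N25744 (iv F261881)) (tt N23399 F257135))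
theorem Q24581 : ∀ i, i < 24581 → P i := stepQ 24580 Q24580 (allL N24580 (tt N23938 F257136) (tt N23363 F257137) (tt N24273 F257138) (tt N25746 (iv F261890)) (tt N23357 (iv D57350)) (tt N24145 F257139) (tt N24083 F257140) (tt N25735 (iv F261834)) (tt N24580 F257141) (tt N23400 F257142))
theorem Q24582 : ∀ i, i < 24582 → P i := stepQ 24581 Q24581 (allL N24581 (tt N23777 F257143) (tt N23828 F257144) (tt N25636 (iv F261249)) (tt N25747 D58517) (tt N23801 F257145) (tt N23360 F257146) (tt N23832 F257147) (tt N23965 F257148) (tt N23358 (iv D57351)) (tt N23869 F257149))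
theorem Q24583 : ∀ i, i < 24583 → P i := stepQ 24582 Q24582 (allL N24582 (tt N24064 F257150) (tt N23872 F257151) (tt N24012 F257152) (tt N25748 D58518) (tt N24582 F257153) (tt N23869 F257154) (tt N24085 F257155) (tt N23967 F257156) (tt N23359 (iv D57352)) (tt N23360 F257157))
theorem Q24584 : ∀ i, i < 24584 → P i := stepQ 24583 Q24583 (allL N24583 (tt N25691 (iv F261582)) (tt N25744 (iv F261877)) (tt N25749 D58519) (tt N23360 (iv D57353)) (tt N25750 D58520) (tt N25747 (iv F261897)) (tt N24086 F257158) (tt N25736 (iv F261840)) (tt N23362 F257159) (tt N25748 (iv F261908)))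
theorem Q24585 : ∀ i, i < 24585 → P i := stepQ 24584 Q24584 (allL N24584 (tt N23778 F257160) (tt N23897 F257161) (tt N25751 D58521) (tt N23361 (iv D57354)) (tt N24311 F257162) (tt N23362 F257163) (tt N24285 F257164) (tt N24288 F257165) (tt N25747 (iv F261900)) (tt N23405 F257166))
theorem Q24586 : ∀ i, i < 24586 → P i := stepQ 24585 Q24585 (allL N24585 (tt N25692 (iv F261589)) (tt N25752 D58522) (tt N23362 (iv D57355)) (tt N23367 F257167) (tt N25753 D58523) (tt N25751 (iv F261917)) (tt N24088 F257168) (tt N25737 (iv F261846)) (tt N25749 (iv F261910)) (tt N23406 F257169))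
theorem Q24587 : ∀ i, i < 24587 → P i := stepQ 24586 Q24586 (allL N24586 (tt N25693 (iv F261595)) (tt N25746 (iv F261889)) (tt N25753 (iv F261924)) (tt N23363 F257170) (tt N23362 (iv D57356)) (tt N25754 D58524) (tt N24089 F257171) (tt N25738 (iv F261850)) (tt N25750 (iv F261913)) (tt N23407 F257172))
theorem Q24588 : ∀ i, i < 24588 → P i := stepQ 24587 Q24587 (allL N24587 (tt N24334 F257173) (tt N24145 F257174) (tt N25618 (iv F261145)) (tt N25754 (iv F261929)) (tt N23373 F257175) (tt N23363 (iv D57357)) (tt N24143 (iv F257178)) (tt N25739 (iv F261855)) (tt N24587 F257176) (tt N23408 F257177))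
theorem Q24589 : ∀ i, i < 24589 → P i := stepQ 24588 Q24588 (allL N24588 (tt N24251 F257179) (tt N23849 F257180) (tt N23840 F257181) (tt N25755 D58525) (tt N23374 F257182) (tt N23803 F257183) (tt N24312 F257184) (tt N23365 F257185) (tt N23364 (iv D57358)) (tt N23409 F257186))
theorem Q24590 : ∀ i, i < 24590 → P i := stepQ 24589 Q24589 (allL N24589 (tt N24262 F257187) (tt N23850 F257188) (tt N25756 D58526) (tt N23365 (iv D57359)) (tt N25757 D58527) (tt N24090 F257189) (tt N23366 F257190) (tt N25755 (iv F261937)) (tt N24305 F257191) (tt N23410 F257192))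
theorem Q24591 : ∀ i, i < 24591 → P i := stepQ 24590 Q24590 (allL N24590 (tt N25694 (iv F261602)) (tt N25758 D58528) (tt N23366 (iv D57360)) (tt N25751 (iv F261915)) (tt N25759 D58529) (tt N23367 F257193) (tt N25756 (iv F261943)) (tt N25741 (iv F261866)) (tt N25728 (iv F261796)) (tt N23411 F257194))
theorem Q24592 : ∀ i, i < 24592 → P i := stepQ 24591 Q24591 (allL N24591 (tt N25695 (iv F261608)) (tt N23852 F257195) (tt N25759 (iv F261956)) (tt N23377 F257196) (tt N23366 (iv D57361)) (tt N25620 (iv F261158)) (tt N25757 (iv F261950)) (tt N25742 (iv F261871)) (tt N25729 (iv F261801)) (tt N23412 F257197))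
theorem Q24593 : ∀ i, i < 24593 → P i := stepQ 24592 Q24592 (allL N24592 (tt N25760 D58530) (tt N23367 (iv D57362)) (tt N23853 F257198) (tt N25752 (iv F261921)) (tt N25621 (iv F261162)) (tt N25758 (iv F261954)) (tt N24092 F257199) (tt N25743 (iv F261874)) (tt N25730 (iv F261805)) (tt N23413 F257200))
theorem Q24594 : ∀ i, i < 24594 → P i := stepQ 24593 Q24593 (allL N24593 (tt N24063 F257201) (tt N24144 F257202) (tt N25622 (iv F261167)) (tt N24061 F257203) (tt N25739 (iv F261854)) (tt N23369 (iv D57363)) (tt N25719 (iv F261758)) (tt N23373 F257204) (tt N24593 F257205) (tt N23416 F257206))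
theorem Q24595 : ∀ i, i < 24595 → P i := stepQ 24594 Q24594 (allL N24594 (tt N23684 F257207) (tt N23857 F257208) (tt N24393 F257209) (tt N23370 (iv D57364)) (tt N25761 D58531) (tt N24594 F257210) (tt N23371 F257211) (tt N24395 F257212) (tt N24594 F257213) (tt N23418 F257214))
theorem Q24596 : ∀ i, i < 24596 → P i := stepQ 24595 Q24595 (allL N24595 (tt N24074 F257215) (tt N23939 F257222) (tt N23371 (iv D57365)) (tt N23937 F257216) (tt N25762 D58532) (tt N23372 F257217) (tt N24393 F257218) (tt N23376 F257219) (tt N24595 F257220) (tt N23419 F257221))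
theorem Q24597 : ∀ i, i < 24597 → P i := stepQ 24596 Q24596 (allL N24596 (tt N24236 F257223) (tt N23859 F257224) (tt N25762 (iv F261970)) (tt N25742 (iv F261870)) (tt N23371 (iv D57366)) (tt N25625 (iv F261188)) (tt N25761 (iv F261964)) (tt N23377 F257225) (tt N24596 F257226) (tt N23420 F257227))
theorem Q24598 : ∀ i, i < 24598 → P i := stepQ 24597 Q24597 (allL N24597 (tt N24271 F257228) (tt N23863 F257229) (tt N23926 F257230) (tt N23374 (iv D57367)) (tt N25763 D58533) (tt N23378 F257231) (tt N24395 F257232) (tt N23375 F257233) (tt N24597 F257234) (tt N23425 F257235))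
theorem Q24599 : ∀ i, i < 24599 → P i := stepQ 24598 Q24598 (allL N24598 (tt N24273 F257236) (tt N23865 F257237) (tt N23938 F257238) (tt N25757 (iv F261948)) (tt N23375 (iv D57368)) (tt N23743 F257239) (tt N23377 F257240) (tt N25763 (iv F261980)) (tt N24598 F257241) (tt N23426 F257242))
theorem Q24600 : ∀ i, i < 24600 → P i := stepQ 24599 Q24599 (allL N24599 (tt N24083 F257243) (tt N23940 F257244) (tt N23377 F257245) (tt N25764 D58534) (tt N23376 (iv D57369)) (tt N25626 (iv F261195)) (tt N23938 F257246) (tt N25762 (iv F261972)) (tt N24599 F257247) (tt N23428 F257248))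
theorem Q24601 : ∀ i, i < 24601 → P i := stepQ 24600 Q24600 (allL N24600 (tt N23631 F257249) (tt N23551 F257250) (tt N23768 F257251) (tt N23549 F257252) (tt N24600 F257253) (tt N23389 F257254) (tt N23592 F257255) (tt N23380 F257256) (tt N25765 D58535) (tt N23379 (iv D57370)))
theorem Q24602 : ∀ i, i < 24602 → P i := stepQ 24601 Q24601 (allL N24601 (tt N23648 F257257) (tt N23875 F257258) (tt N23780 F257259) (tt N25766 D58536) (tt N24601 F257260) (tt N23390 F257261) (tt N23381 F257262) (tt N25765 (iv F261994)) (tt N23380 (iv D57371)) (tt N25731 (iv F261814)))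
theorem Q24603 : ∀ i, i < 24603 → P i := stepQ 24602 Q24602 (allL N24602 (tt N25697 (iv F261618)) (tt N23876 F257263) (tt N25767 D58537) (tt N23381 (iv D57372)) (tt N25768 D58538) (tt N23382 F257264) (tt N25766 (iv F261999)) (tt N24096 F257265) (tt N25572 (iv F260850)) (tt N25732 (iv F261819)))
theorem Q24604 : ∀ i, i < 24604 → P i := stepQ 24603 Q24603 (allL N24603 (tt N25698 (iv F261623)) (tt N25769 D58539) (tt N23382 (iv D57373)) (tt N25643 (iv F261293)) (tt N25627 (iv F261201)) (tt N25767 (iv F262001)) (tt N23392 F257266) (tt N24097 F257267) (tt N25573 (iv F260857)) (tt N25733 (iv F261823)))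
theorem Q24605 : ∀ i, i < 24605 → P i := stepQ 24604 Q24604 (allL N24604 (tt N23385 F257268) (tt N23834 F257269) (tt N23878 F257270) (tt N25770 D58540) (tt N23384 F257271) (tt N23832 F257272) (tt N24084 F257273) (tt N23394 F257274) (tt N23383 (iv D57374)) (tt N23880 F257275))
theorem Q24606 : ∀ i, i < 24606 → P i := stepQ 24605 Q24605 (allL N24605 (tt N23386 F257276) (tt N23855 F257277) (tt N23425 F257278) (tt N23384 (iv D57375)) (tt N25771 D58541) (tt N23414 F257279) (tt N24388 F257280) (tt N23395 F257281) (tt N23433 F257282) (tt N23926 F257283))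
theorem Q24607 : ∀ i, i < 24607 → P i := stepQ 24606 Q24606 (allL N24606 (tt N25770 (iv F262011)) (tt N23387 F257284) (tt N25772 D58542) (tt N23385 (iv D57376)) (tt N25773 D58543) (tt N24286 F257285) (tt N25637 (iv F261258)) (tt N23399 F257286) (tt N24004 F257287) (tt N25734 (iv F261829)))
theorem Q24608 : ∀ i, i < 24608 → P i := stepQ 24607 Q24607 (allL N24607 (tt N25771 (iv F262018)) (tt N23388 F257288) (tt N25708 (iv F261682)) (tt N25773 (iv F262031)) (tt N23386 (iv D57377)) (tt N25774 D58544) (tt N25670 (iv F261447)) (tt N23400 F257289) (tt N23438 F257290) (tt N25735 (iv F261836)))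
theorem Q24609 : ∀ i, i < 24609 → P i := stepQ 24608 Q24608 (allL N24608 (tt N24365 F257291) (tt N25775 D58545) (tt N23387 (iv D57378)) (tt N23392 F257292) (tt N25776 D58546) (tt N24289 F257293) (tt N25643 (iv F261294)) (tt N23406 F257294) (tt N24006 F257295) (tt N25737 (iv F261847)))
theorem Q24610 : ∀ i, i < 24610 → P i := stepQ 24609 Q24609 (allL N24609 (tt N24366 F257296) (tt N25773 (iv F262030)) (tt N25776 (iv F262047)) (tt N23388 F257297) (tt N23387 (iv D57379)) (tt N25777 D58547) (tt N25644 (iv F261299)) (tt N23407 F257298) (tt N24007 F257299) (tt N25738 (iv F261851)))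
theorem Q24611 : ∀ i, i < 24611 → P i := stepQ 24610 Q24610 (allL N24610 (tt N24382 F257300) (tt N25774 (iv F262035)) (tt N25631 (iv F261225)) (tt N25777 (iv F262051)) (tt N23416 F257301) (tt N23388 (iv D57380)) (tt N25778 D58548) (tt N23408 F257302) (tt N23439 F257303) (tt N25739 (iv F261857)))
theorem Q24612 : ∀ i, i < 24612 → P i := stepQ 24611 Q24611 (allL N24611 (tt N23633 F257304) (tt N23892 F257305) (tt N23769 F257306) (tt N25779 D58549) (tt N23417 F257307) (tt N25765 (iv F261992)) (tt N23409 F257308) (tt N23390 F257309) (tt N23389 (iv D57381)) (tt N24312 F257310))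
theorem Q24613 : ∀ i, i < 24613 → P i := stepQ 24612 Q24612 (allL N24612 (tt N23650 F257311) (tt N23893 F257312) (tt N25780 D58550) (tt N23390 (iv D57382)) (tt N25781 D58551) (tt N25766 (iv F261998)) (tt N23391 F257313) (tt N25779 (iv F262063)) (tt N23571 F257314) (tt N25740 (iv F261862)))
theorem Q24614 : ∀ i, i < 24614 → P i := stepQ 24613 Q24613 (allL N24613 (tt N24223 F257315) (tt N25782 D58552) (tt N23391 (iv D57383)) (tt N24289 F257316) (tt N25783 D58553) (tt N23392 F257317) (tt N25780 (iv F262068)) (tt N23411 F257318) (tt N24193 F257319) (tt N25741 (iv F261867)))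
theorem Q24615 : ∀ i, i < 24615 → P i := stepQ 24614 Q24614 (allL N24614 (tt N24224 F257320) (tt N23895 F257321) (tt N25783 (iv F262081)) (tt N23420 F257322) (tt N23391 (iv D57384)) (tt N25634 (iv F261241)) (tt N25781 (iv F262073)) (tt N23412 F257323) (tt N24194 F257324) (tt N25742 (iv F261872)))
theorem Q24616 : ∀ i, i < 24616 → P i := stepQ 24615 Q24615 (allL N24615 (tt N25784 D58554) (tt N23392 (iv D57385)) (tt N23896 F257325) (tt N25775 (iv F262042)) (tt N25635 (iv F261245)) (tt N25782 (iv F262077)) (tt N25769 (iv F262009)) (tt N23413 F257326) (tt N25586 (iv F260945)) (tt N25743 (iv F261875)))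
theorem Q24617 : ∀ i, i < 24617 → P i := stepQ 24616 Q24616 (allL N24616 (tt N23397 F257327) (tt N23843 F257328) (tt N23803 F257329) (tt N25785 D58555) (tt N23440 F257330) (tt N23840 F257331) (tt N23807 F257332) (tt N24003 F257333) (tt N23393 (iv D57386)) (tt N24126 F257334))
theorem Q24618 : ∀ i, i < 24618 → P i := stepQ 24617 Q24617 (allL N24617 (tt N23399 F257335) (tt N23847 F257336) (tt N25786 D58556) (tt N23394 (iv D57387)) (tt N25787 D58557) (tt N23841 F257337) (tt N24112 F257338) (tt N25770 (iv F262015)) (tt N25785 (iv F262091)) (tt N23902 F257339))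
theorem Q24619 : ∀ i, i < 24619 → P i := stepQ 24618 Q24618 (allL N24618 (tt N23400 F257340) (tt N23862 F257341) (tt N23426 F257342) (tt N25787 (iv F262100)) (tt N23395 (iv D57388)) (tt N24005 F257343) (tt N23428 F257344) (tt N25771 (iv F262023)) (tt N23435 F257345) (tt N23938 F257346))
theorem Q24620 : ∀ i, i < 24620 → P i := stepQ 24619 Q24619 (allL N24619 (tt N24126 F257347) (tt N23401 F257348) (tt N23689 F257349) (tt N25788 D58558) (tt N23442 F257350) (tt N23870 F257351) (tt N24114 F257352) (tt N23690 F257353) (tt N23396 (iv D57389)) (tt N23397 F257354))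
theorem Q24621 : ∀ i, i < 24621 → P i := stepQ 24620 Q24620 (allL N24620 (tt N25785 (iv F262086)) (tt N23402 F257355) (tt N25789 D58559) (tt N23397 (iv D57390)) (tt N25790 D58560) (tt N24282 F257356) (tt N24115 F257357) (tt N24004 F257358) (tt N23399 F257359) (tt N25788 (iv F262110)))
theorem Q24622 : ∀ i, i < 24622 → P i := stepQ 24621 Q24621 (allL N24621 (tt N23841 F257360) (tt N23405 F257361) (tt N25791 D58561) (tt N23398 (iv D57391)) (tt N24285 F257362) (tt N23399 F257363) (tt N24311 F257364) (tt N24286 F257365) (tt N24282 F257366) (tt N23897 F257367))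
theorem Q24623 : ∀ i, i < 24623 → P i := stepQ 24622 Q24622 (allL N24622 (tt N25786 (iv F262093)) (tt N25792 D58562) (tt N23399 (iv D57392)) (tt N23903 F257368) (tt N25793 D58563) (tt N25791 (iv F262124)) (tt N24118 F257369) (tt N25772 (iv F262028)) (tt N25789 (iv F262115)) (tt N25745 (iv F261887)))
theorem Q24624 : ∀ i, i < 24624 → P i := stepQ 24623 Q24623 (allL N24623 (tt N25787 (iv F262098)) (tt N23407 F257370) (tt N25793 (iv F262132)) (tt N23400 F257371) (tt N23399 (iv D57393)) (tt N25794 D58564) (tt N24119 F257372) (tt N25773 (iv F262032)) (tt N25790 (iv F262120)) (tt N25746 (iv F261893)))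
theorem Q24625 : ∀ i, i < 24625 → P i := stepQ 24624 Q24624 (allL N24624 (tt N24005 F257373) (tt N23408 F257374) (tt N23730 F257375) (tt N25794 (iv F262136)) (tt N23422 F257376) (tt N23400 (iv D57394)) (tt N23731 F257377) (tt N25774 (iv F262039)) (tt N23445 F257378) (tt N24145 F257379))
theorem Q24626 : ∀ i, i < 24626 → P i := stepQ 24625 Q24625 (allL N24625 (tt N24065 F257380) (tt N25788 (iv F262105)) (tt N25795 D58565) (tt N23401 (iv D57395)) (tt N25796 D58566) (tt N23891 F257381) (tt N24123 F257382) (tt N23919 F257383) (tt N25748 (iv F261907)) (tt N23402 F257384))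
theorem Q24627 : ∀ i, i < 24627 → P i := stepQ 24626 Q24626 (allL N24626 (tt N24346 F257385) (tt N25797 D58567) (tt N23402 (iv D57396)) (tt N24002 F257386) (tt N25798 D58568) (tt N24283 F257387) (tt N24124 F257388) (tt N24006 F257389) (tt N23406 F257390) (tt N25795 (iv F262145)))
theorem Q24628 : ∀ i, i < 24628 → P i := stepQ 24627 Q24627 (allL N24627 (tt N24347 F257391) (tt N25790 (iv F262116)) (tt N25798 (iv F262158)) (tt N23447 F257392) (tt N23402 (iv D57397)) (tt N25799 D58569) (tt N24125 F257393) (tt N24007 F257394) (tt N23407 F257395) (tt N25796 (iv F262151)))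
theorem Q24629 : ∀ i, i < 24629 → P i := stepQ 24628 Q24628 (allL N24628 (tt N23870 F257396) (tt N23844 F257397) (tt N23409 F257398) (tt N25800 D58570) (tt N23423 F257399) (tt N24126 F257400) (tt N23769 F257401) (tt N23404 F257402) (tt N23403 (iv D57398)) (tt N23840 F257403))
theorem Q24630 : ∀ i, i < 24630 → P i := stepQ 24629 Q24629 (allL N24629 (tt N23904 F257404) (tt N24311 F257405) (tt N25801 D58571) (tt N23404 (iv D57399)) (tt N23897 F257406) (tt N24127 F257407) (tt N23405 F257408) (tt N25800 (iv F262174)) (tt N24279 F257409) (tt N24285 F257410))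
theorem Q24631 : ∀ i, i < 24631 → P i := stepQ 24630 Q24630 (allL N24630 (tt N24345 F257411) (tt N25802 D58572) (tt N23405 (iv D57400)) (tt N23411 F257412) (tt N24357 F257413) (tt N23406 F257414) (tt N25801 (iv F262181)) (tt N24289 F257415) (tt N24283 F257416) (tt N25751 (iv F261920)))
theorem Q24632 : ∀ i, i < 24632 → P i := stepQ 24631 Q24631 (allL N24631 (tt N25803 D58573) (tt N23406 (iv D57401)) (tt N25792 (iv F262129)) (tt N23413 F257417) (tt N25804 D58574) (tt N25802 (iv F262186)) (tt N24130 F257418) (tt N25775 (iv F262044)) (tt N25797 (iv F262156)) (tt N25752 (iv F261923)))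
theorem Q24633 : ∀ i, i < 24633 → P i := stepQ 24632 Q24632 (allL N24632 (tt N25701 (iv F261640)) (tt N25804 (iv F262191)) (tt N23407 F257419) (tt N25648 (iv F261316)) (tt N23406 (iv D57402)) (tt N25805 D58575) (tt N24131 F257420) (tt N25776 (iv F262048)) (tt N25798 (iv F262162)) (tt N25753 (iv F261926)))
theorem Q24634 : ∀ i, i < 24634 → P i := stepQ 24633 Q24633 (allL N24633 (tt N24360 F257421) (tt N25794 (iv F262135)) (tt N25805 (iv F262194)) (tt N23408 F257422) (tt N24356 F257423) (tt N23407 (iv D57403)) (tt N25806 D58576) (tt N25777 (iv F262053)) (tt N25799 (iv F262167)) (tt N25754 (iv F261931)))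
theorem Q24635 : ∀ i, i < 24635 → P i := stepQ 24634 Q24634 (allL N24634 (tt N24385 F257424) (tt N23731 F257425) (tt N25650 (iv F261323)) (tt N25806 (iv F262198)) (tt N23424 F257426) (tt N23947 F257427) (tt N23408 (iv D57404)) (tt N24297 (iv F257430)) (tt N23449 F257428) (tt N24143 F257429))
theorem Q24636 : ∀ i, i < 24636 → P i := stepQ 24635 Q24635 (allL N24635 (tt N25702 (iv F261647)) (tt N23920 F257431) (tt N25807 D58577) (tt N23409 (iv D57405)) (tt N25808 D58578) (tt N24133 F257432) (tt N25779 (iv F262062)) (tt N23410 F257433) (tt N25588 (iv F260960)) (tt N25755 (iv F261939)))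
theorem Q24637 : ∀ i, i < 24637 → P i := stepQ 24636 Q24636 (allL N24636 (tt N25703 (iv F261654)) (tt N25809 D58579) (tt N23410 (iv D57406)) (tt N25801 (iv F262178)) (tt N25810 D58580) (tt N24134 F257434) (tt N23411 F257435) (tt N25807 (iv F262204)) (tt N25589 (iv F260966)) (tt N25756 (iv F261945)))
theorem Q24638 : ∀ i, i < 24638 → P i := stepQ 24637 Q24637 (allL N24637 (tt N25704 (iv F261660)) (tt N23922 F257436) (tt N25810 (iv F262213)) (tt N23426 F257437) (tt N23410 (iv D57407)) (tt N25686 (iv F261555)) (tt N23412 F257438) (tt N25808 (iv F262208)) (tt N25590 (iv F260974)) (tt N25757 (iv F261952)))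
theorem Q24639 : ∀ i, i < 24639 → P i := stepQ 24638 Q24638 (allL N24638 (tt N25811 D58581) (tt N23411 (iv D57408)) (tt N23923 F257439) (tt N25802 (iv F262184)) (tt N25812 D58582) (tt N23413 F257440) (tt N25809 (iv F262212)) (tt N25782 (iv F262078)) (tt N25591 (iv F260980)) (tt N25758 (iv F261955)))
theorem Q24640 : ∀ i, i < 24640 → P i := stepQ 24639 Q24639 (allL N24639 (tt N25706 (iv F261671)) (tt N25812 (iv F262217)) (tt N23412 F257441) (tt N25813 D58583) (tt N23411 (iv D57409)) (tt N25652 (iv F261334)) (tt N25810 (iv F262214)) (tt N25783 (iv F262082)) (tt N25592 (iv F260984)) (tt N25759 (iv F261957)))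
theorem Q24641 : ∀ i, i < 24641 → P i := stepQ 24640 Q24640 (allL N24640 (tt N23413 (iv D57410)) (tt N25707 (iv F261677)) (tt N23925 F257442) (tt N25803 (iv F262189)) (tt N25653 (iv F261338)) (tt N25811 (iv F262216)) (tt N24136 F257443) (tt N25784 (iv F262085)) (tt N25593 (iv F260987)) (tt N25760 (iv F261960)))
theorem Q24642 : ∀ i, i < 24642 → P i := stepQ 24641 Q24641 (allL N24641 (tt N23443 F257444) (tt N23416 F257445) (tt N23729 F257446) (tt N23440 F257447) (tt N25774 (iv F262037)) (tt N23415 (iv D57411)) (tt N23808 (iv F257451)) (tt N23422 F257448) (tt N23441 F257449) (tt N24144 F257450))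
theorem Q24643 : ∀ i, i < 24643 → P i := stepQ 24642 Q24642 (allL N24642 (tt N24053 F257452) (tt N23808 F257453) (tt N25657 (iv F261361)) (tt N23805 F257454) (tt N25778 (iv F262057)) (tt N24642 F257455) (tt N23416 (iv D57412)) (tt N23817 F257456) (tt N23450 F257457) (tt N25719 (iv F261761)))
theorem Q24644 : ∀ i, i < 24644 → P i := stepQ 24643 Q24643 (allL N24643 (tt N23677 F257458) (tt N23931 F257459) (tt N24388 F257460) (tt N23417 (iv D57413)) (tt N25814 D58584) (tt N24643 F257461) (tt N23425 F257462) (tt N23418 F257463) (tt N23429 F257464) (tt N24395 F257465))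
theorem Q24645 : ∀ i, i < 24645 → P i := stepQ 24644 Q24644 (allL N24644 (tt N23686 F257466) (tt N23933 F257467) (tt N24394 F257468) (tt N25781 (iv F262072)) (tt N23418 (iv D57414)) (tt N25815 D58585) (tt N23420 F257469) (tt N25814 (iv F262226)) (tt N23430 F257470) (tt N25761 (iv F261967)))
theorem Q24646 : ∀ i, i < 24646 → P i := stepQ 24645 Q24645 (allL N24645 (tt N24023 F257471) (tt N23419 (iv D57415)) (tt N23934 F257472) (tt N23861 F257473) (tt N25816 D58586) (tt N23421 F257474) (tt N24390 F257475) (tt N23427 F257476) (tt N23431 F257477) (tt N23939 F257478))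
theorem Q24647 : ∀ i, i < 24647 → P i := stepQ 24646 Q24646 (allL N24646 (tt N24100 F257479) (tt N25816 (iv F262237)) (tt N23420 F257480) (tt N25817 D58587) (tt N23419 (iv D57416)) (tt N25660 (iv F261379)) (tt N24394 F257481) (tt N23428 F257482) (tt N23432 F257483) (tt N25762 (iv F261974)))
theorem Q24648 : ∀ i, i < 24648 → P i := stepQ 24647 Q24647 (allL N24647 (tt N25708 (iv F261680)) (tt N23944 F257484) (tt N25771 (iv F262020)) (tt N25808 (iv F262206)) (tt N23425 (iv D57417)) (tt N24235 F257485) (tt N25814 (iv F262225)) (tt N23426 F257486) (tt N23434 F257487) (tt N25763 (iv F261982)))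
theorem Q24649 : ∀ i, i < 24649 → P i := stepQ 24648 Q24648 (allL N24648 (tt N24033 F257488) (tt N23428 F257489) (tt N23947 F257490) (tt N25818 D58588) (tt N23427 (iv D57418)) (tt N25650 (iv F261325)) (tt N23862 F257491) (tt N25816 (iv F262241)) (tt N23436 F257492) (tt N23940 F257493))
theorem Q24650 : ∀ i, i < 24650 → P i := stepQ 24649 Q24649 (allL N24649 (tt N24119 F257494) (tt N25818 (iv F262250)) (tt N25813 (iv F262220)) (tt N23428 (iv D57419)) (tt N24112 F257495) (tt N25663 (iv F261397)) (tt N25787 (iv F262102)) (tt N25817 (iv F262247)) (tt N25819 D58589) (tt N25764 (iv F261987)))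
theorem Q24651 : ∀ i, i < 24651 → P i := stepQ 24650 Q24650 (allL N24650 (tt N23678 F257496) (tt N23952 F257497) (tt N23734 F257498) (tt N23524 F257499) (tt N23429 (iv D57420)) (tt N23675 (iv F257503)) (tt N23434 F257500) (tt N23430 F257501) (tt N25814 (iv F262227)) (tt N24650 F257502))
theorem Q24652 : ∀ i, i < 24652 → P i := stepQ 24651 Q24651 (allL N24651 (tt N23688 F257504) (tt N23955 F257505) (tt N23958 F257506) (tt N23586 F257507) (tt N24651 F257508) (tt N23430 (iv D57421)) (tt N25665 (iv F261412)) (tt N23675 F257509) (tt N25815 (iv F262235)) (tt N24651 F257510))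
theorem Q24653 : ∀ i, i < 24653 → P i := stepQ 24652 Q24652 (allL N24652 (tt N24049 F257511) (tt N23432 F257512) (tt N23957 F257513) (tt N23972 F257514) (tt N23431 (iv D57422)) (tt N24392 F257515) (tt N24391 F257516) (tt N23436 F257517) (tt N25816 (iv F262242)) (tt N24652 F257518))
theorem Q24654 : ∀ i, i < 24654 → P i := stepQ 24653 Q24653 (allL N24653 (tt N23438 F257519) (tt N23448 F257520) (tt N23434 F257521) (tt N23445 F257522) (tt N23433 (iv D57423)) (tt N23444 F257523) (tt N23734 F257524) (tt N23435 F257525) (tt N25771 (iv F262024)) (tt N24653 F257526))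
theorem Q24655 : ∀ i, i < 24655 → P i := stepQ 24654 Q24654 (allL N24654 (tt N23444 F257527) (tt N23439 F257528) (tt N23733 F257529) (tt N23435 (iv D57424)) (tt N23441 F257530) (tt N23438 F257531) (tt N23437 F257532) (tt N23445 F257533) (tt N25774 (iv F262040)) (tt N24654 F257534))
theorem Q24656 : ∀ i, i < 24656 → P i := stepQ 24655 Q24655 (allL N24655 (tt N24055 F257535) (tt N23437 F257536) (tt N25668 (iv F261430)) (tt N23436 (iv D57425)) (tt N23450 F257537) (tt N25666 (iv F261419)) (tt N23439 F257538) (tt N23972 F257539) (tt N25778 (iv F262059)) (tt N24655 F257540))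
theorem Q24657 : ∀ i, i < 24657 → P i := stepQ 24656 Q24656 (allL N24656 (tt N24152 F257541) (tt N25778 (iv F262056)) (tt N25596 (iv F261003)) (tt N25819 (iv F262255)) (tt N23808 F257542) (tt N25667 (iv F261425)) (tt N25774 (iv F262038)) (tt N23824 F257543) (tt N23437 (iv D57426)) (tt N25820 D58590))
theorem Q24658 : ∀ i, i < 24658 → P i := stepQ 24657 Q24657 (allL N24657 (tt N24144 F257544) (tt N23446 F257545) (tt N23739 F257546) (tt N23442 (iv D57427)) (tt N25821 D58591) (tt N23693 F257547) (tt N24151 F257548) (tt N23691 F257549) (tt N24657 F257550) (tt N23443 F257551))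
theorem Q24659 : ∀ i, i < 24659 → P i := stepQ 24658 Q24658 (allL N24658 (tt N25774 (iv F262034)) (tt N23447 F257552) (tt N24235 F257553) (tt N25790 (iv F262117)) (tt N23443 (iv D57428)) (tt N25771 (iv F262021)) (tt N24152 F257554) (tt N24005 F257555) (tt N23444 F257556) (tt N25821 (iv F262270)))
theorem Q24660 : ∀ i, i < 24660 → P i := stepQ 24659 Q24659 (allL N24659 (tt N24066 F257557) (tt N25821 (iv F262264)) (tt N24078 F257558) (tt N25796 (iv F262147)) (tt N23446 (iv D57429)) (tt N23930 F257559) (tt N24153 F257560) (tt N23942 F257561) (tt N24659 F257562) (tt N23447 F257563))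
theorem Q24661 : ∀ i, i < 24661 → P i := stepQ 24660 Q24660 (allL N24660 (tt N24383 F257564) (tt N25771 (iv F262019)) (tt N24108 F257565) (tt N25799 (iv F262164)) (tt N23855 F257566) (tt N23447 (iv D57430)) (tt N25822 D58592) (tt N23862 F257567) (tt N23448 F257568) (tt N23930 F257569))
theorem Q24662 : ∀ i, i < 24662 → P i := stepQ 24661 Q24661 (allL N24661 (tt N24396 F257570) (tt N23734 F257571) (tt N24150 F257572) (tt N23449 F257573) (tt N24009 F257574) (tt N23962 F257575) (tt N23448 (iv D57431)) (tt N24391 F257576) (tt N25822 (iv F262277)) (tt N24661 F257577))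
theorem Q24663 : ∀ i, i < 24663 → P i := stepQ 24662 Q24662 (allL N24662 (tt N23603 F257578) (tt N23480 F257579) (tt N23628 F257580) (tt N25823 D58593) (tt N23467 F257581) (tt N23511 F257582) (tt N23548 F257583) (tt N23468 F257584) (tt N23466 (iv D57432)) (tt N23562 F257585))
theorem Q24664 : ∀ i, i < 24664 → P i := stepQ 24663 Q24663 (allL N24663 (tt N23991 F257586) (tt N23484 F257587) (tt N25824 D58594) (tt N23468 (iv D57433)) (tt N23537 F257588) (tt N24206 F257589) (tt N23978 F257590) (tt N25823 (iv F262284)) (tt N23692 F257591) (tt N24191 F257592))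
theorem Q24665 : ∀ i, i < 24665 → P i := stepQ 24664 Q24664 (allL N24664 (tt N23494 F257593) (tt N23562 F257594) (tt N23501 F257595) (tt N25825 D58595) (tt N23470 F257596) (tt N23498 F257597) (tt N23530 F257598) (tt N23474 F257599) (tt N23469 (iv D57434)) (tt N23480 F257600))
theorem Q24666 : ∀ i, i < 24666 → P i := stepQ 24665 Q24665 (allL N24665 (tt N23498 F257601) (tt N23651 F257602) (tt N23474 F257603) (tt N25826 D58596) (tt N23472 F257604) (tt N23494 F257605) (tt N23644 F257606) (tt N23501 F257607) (tt N23471 (iv D57435)) (tt N23481 F257608))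
theorem Q24667 : ∀ i, i < 24667 → P i := stepQ 24666 Q24666 (allL N24666 (tt N23499 F257609) (tt N23666 F257610) (tt N23554 F257611) (tt N23472 (iv D57436)) (tt N25827 D58597) (tt N23475 F257612) (tt N23663 F257613) (tt N23506 F257614) (tt N24666 F257615) (tt N23482 F257616))
theorem Q24668 : ∀ i, i < 24668 → P i := stepQ 24667 Q24667 (allL N24667 (tt N23501 F257617) (tt N23988 F257618) (tt N23494 F257619) (tt N25828 D58598) (tt N23476 F257620) (tt N23474 F257621) (tt N23984 F257622) (tt N23498 F257623) (tt N23473 (iv D57437)) (tt N23483 F257624))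
theorem Q24669 : ∀ i, i < 24669 → P i := stepQ 24668 Q24668 (allL N24668 (tt N23502 F257625) (tt N24191 F257626) (tt N25829 D58599) (tt N23474 (iv D57438)) (tt N23556 F257627) (tt N25828 (iv F262318)) (tt N24155 F257628) (tt N25825 (iv F262299)) (tt N24257 F257629) (tt N23484 F257630))
theorem Q24670 : ∀ i, i < 24670 → P i := stepQ 24669 Q24669 (allL N24669 (tt N23506 F257631) (tt N23995 F257632) (tt N23607 F257633) (tt N23476 (iv D57439)) (tt N25830 D58600) (tt N23477 F257634) (tt N23994 F257635) (tt N23499 F257636) (tt N24669 F257637) (tt N23485 F257638))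
theorem Q24671 : ∀ i, i < 24671 → P i := stepQ 24670 Q24670 (allL N24670 (tt N23509 F257639) (tt N23548 F257640) (tt N23516 F257641) (tt N25831 D58601) (tt N23479 F257642) (tt N23535 F257643) (tt N23480 F257644) (tt N23529 F257645) (tt N23478 (iv D57440)) (tt N23530 F257646))
theorem Q24672 : ∀ i, i < 24672 → P i := stepQ 24671 Q24671 (allL N24671 (tt N23510 F257647) (tt N25823 (iv F262280)) (tt N25832 D58602) (tt N23480 (iv D57441)) (tt N23566 F257648) (tt N23514 F257649) (tt N25831 (iv F262340)) (tt N23484 F257650) (tt N23695 F257651) (tt N25825 (iv F262301)))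
theorem Q24673 : ∀ i, i < 24673 → P i := stepQ 24672 Q24672 (allL N24672 (tt N23514 F257652) (tt N25570 (iv F260830)) (tt N25833 D58603) (tt N23481 (iv D57442)) (tt N25834 D58604) (tt N23510 F257653) (tt N24157 F257654) (tt N23517 F257655) (tt N23717 F257656) (tt N25826 (iv F262307)))
theorem Q24674 : ∀ i, i < 24674 → P i := stepQ 24673 Q24673 (allL N24673 (tt N23515 F257657) (tt N24195 F257658) (tt N23572 F257659) (tt N25834 (iv F262358)) (tt N23482 (iv D57443)) (tt N23662 F257660) (tt N24158 F257661) (tt N23522 F257662) (tt N23487 F257663) (tt N25827 (iv F262315)))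
theorem Q24675 : ∀ i, i < 24675 → P i := stepQ 24674 Q24674 (allL N24674 (tt N23517 F257664) (tt N24206 F257665) (tt N25835 D58605) (tt N23483 (iv D57444)) (tt N25836 D58606) (tt N23484 F257666) (tt N24210 F257667) (tt N23514 F257668) (tt N23696 F257669) (tt N25828 (iv F262322)))
theorem Q24676 : ∀ i, i < 24676 → P i := stepQ 24675 Q24675 (allL N24675 (tt N23518 F257670) (tt N25837 D58607) (tt N23484 (iv D57445)) (tt N25833 (iv F262351)) (tt N23574 F257671) (tt N25835 (iv F262365)) (tt N24159 F257672) (tt N25832 (iv F262348)) (tt N23697 F257673) (tt N25829 (iv F262327)))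
theorem Q24677 : ∀ i, i < 24677 → P i := stepQ 24676 Q24676 (allL N24676 (tt N23522 F257674) (tt N24207 F257675) (tt N23636 F257676) (tt N25836 (iv F262371)) (tt N23485 (iv D57446)) (tt N23582 F257677) (tt N24211 F257678) (tt N23515 F257679) (tt N23486 F257680) (tt N25830 (iv F262335)))
theorem Q24678 : ∀ i, i < 24678 → P i := stepQ 24677 Q24677 (allL N24677 (tt N24163 F257681) (tt N23647 F257682) (tt N23497 F257683) (tt N23490 F257684) (tt N24677 F257685) (tt N23642 F257686) (tt N23699 F257687) (tt N24170 F257688) (tt N25838 D58608) (tt N23488 (iv D57447)))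
theorem Q24679 : ∀ i, i < 24679 → P i := stepQ 24678 Q24678 (allL N24678 (tt N24170 F257689) (tt N23613 F257690) (tt N23492 F257691) (tt N23642 F257692) (tt N24678 F257693) (tt N23490 F257694) (tt N23705 F257695) (tt N24163 F257696) (tt N25839 D58609) (tt N23489 (iv D57448)))
theorem Q24680 : ∀ i, i < 24680 → P i := stepQ 24679 Q24679 (allL N24679 (tt N24172 F257697) (tt N25611 (iv F261104)) (tt N23493 F257698) (tt N25840 D58610) (tt N23491 F257699) (tt N25839 (iv F262391)) (tt N23707 F257700) (tt N25675 (iv F261484)) (tt N23490 (iv D57449)) (tt N23701 F257701))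
theorem Q24681 : ∀ i, i < 24681 → P i := stepQ 24680 Q24680 (allL N24680 (tt N24183 F257702) (tt N25623 (iv F261173)) (tt N23600 F257703) (tt N23491 (iv D57450)) (tt N25841 D58611) (tt N24680 F257704) (tt N23711 F257705) (tt N25676 (iv F261491)) (tt N24680 F257706) (tt N23702 F257707))
theorem Q24682 : ∀ i, i < 24682 → P i := stepQ 24681 Q24681 (allL N24681 (tt N24248 F257708) (tt N24020 F257709) (tt N25839 (iv F262389)) (tt N25842 D58612) (tt N24681 F257710) (tt N23493 F257711) (tt N24237 F257712) (tt N25677 (iv F261500)) (tt N23492 (iv D57451)) (tt N23703 F257713))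
theorem Q24683 : ∀ i, i < 24683 → P i := stepQ 24682 Q24682 (allL N24682 (tt N24257 F257714) (tt N24021 F257715) (tt N25843 D58613) (tt N23493 (iv D57452)) (tt N23602 F257716) (tt N25842 (iv F262405)) (tt N24010 F257717) (tt N25678 (iv F261506)) (tt N23502 F257718) (tt N23704 F257719))
theorem Q24684 : ∀ i, i < 24684 → P i := stepQ 24683 Q24683 (allL N24683 (tt N25825 (iv F262294)) (tt N24225 F257720) (tt N25844 D58614) (tt N23494 (iv D57453)) (tt N23609 F257721) (tt N25826 (iv F262304)) (tt N24218 F257722) (tt N23502 F257723) (tt N25678 (iv F261507)) (tt N23510 F257724))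
theorem Q24685 : ∀ i, i < 24685 → P i := stepQ 24684 Q24684 (allL N24684 (tt N23628 F257725) (tt N23498 F257726) (tt N23603 F257727) (tt N25845 D58615) (tt N23496 F257728) (tt N23562 F257729) (tt N23606 F257730) (tt N23988 F257731) (tt N23495 (iv D57454)) (tt N23511 F257732))
theorem Q24686 : ∀ i, i < 24686 → P i := stepQ 24685 Q24685 (allL N24685 (tt N24205 F257733) (tt N23499 F257734) (tt N23994 F257735) (tt N23496 (iv D57455)) (tt N25846 D58616) (tt N23503 F257736) (tt N23607 F257737) (tt N23995 F257738) (tt N24685 F257739) (tt N23512 F257740))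
theorem Q24687 : ∀ i, i < 24687 → P i := stepQ 24686 Q24686 (allL N24686 (tt N25677 (iv F261494)) (tt N23766 F257741) (tt N25838 (iv F262381)) (tt N25847 D58617) (tt N24686 F257742) (tt N23737 F257743) (tt N24164 F257744) (tt N24248 F257745) (tt N23497 (iv D57456)) (tt N24253 F257746))
theorem Q24688 : ∀ i, i < 24688 → P i := stepQ 24687 Q24687 (allL N24687 (tt N25826 (iv F262302)) (tt N25845 (iv F262419)) (tt N25848 D58618) (tt N23498 (iv D57457)) (tt N25849 D58619) (tt N25825 (iv F262297)) (tt N24165 F257747) (tt N25828 (iv F262320)) (tt N25847 (iv F262437)) (tt N23514 F257748))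
theorem Q24689 : ∀ i, i < 24689 → P i := stepQ 24688 Q24688 (allL N24688 (tt N25827 (iv F262308)) (tt N25846 (iv F262426)) (tt N23617 F257749) (tt N25849 (iv F262442)) (tt N23499 (iv D57458)) (tt N25850 D58620) (tt N24166 F257750) (tt N25830 (iv F262333)) (tt N24688 F257751) (tt N23515 F257752))
theorem Q24690 : ∀ i, i < 24690 → P i := stepQ 24689 Q24689 (allL N24689 (tt N23984 F257753) (tt N23555 F257754) (tt N23530 F257755) (tt N25851 D58621) (tt N23505 F257756) (tt N23529 F257757) (tt N23501 F257758) (tt N23535 F257759) (tt N23500 (iv D57459)) (tt N23516 F257760))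
theorem Q24691 : ∀ i, i < 24691 → P i := stepQ 24690 Q24690 (allL N24690 (tt N25828 (iv F262316)) (tt N25567 (iv F260808)) (tt N25852 D58622) (tt N23501 (iv D57460)) (tt N25853 D58623) (tt N23502 F257761) (tt N25851 (iv F262456)) (tt N25826 (iv F262306)) (tt N25842 (iv F262407)) (tt N23517 F257762))
theorem Q24692 : ∀ i, i < 24692 → P i := stepQ 24691 Q24691 (allL N24691 (tt N25829 (iv F262323)) (tt N25854 D58624) (tt N23502 (iv D57461)) (tt N25848 (iv F262439)) (tt N23620 F257763) (tt N25852 (iv F262460)) (tt N24167 F257764) (tt N25844 (iv F262416)) (tt N25843 (iv F262412)) (tt N23518 F257765))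
theorem Q24693 : ∀ i, i < 24693 → P i := stepQ 24692 Q24692 (allL N24692 (tt N23621 F257766) (tt N23536 F257767) (tt N23624 F257768) (tt N23533 F257769) (tt N25850 (iv F262448)) (tt N23504 (iv D57462)) (tt N23661 F257770) (tt N23560 F257771) (tt N24692 F257772) (tt N23519 F257773))
theorem Q24694 : ∀ i, i < 24694 → P i := stepQ 24693 Q24693 (allL N24693 (tt N23994 F257774) (tt N23560 F257775) (tt N24205 F257776) (tt N23505 (iv D57463)) (tt N25855 D58625) (tt N23508 F257777) (tt N23506 F257778) (tt N23536 F257779) (tt N24693 F257780) (tt N23520 F257781))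
theorem Q24695 : ∀ i, i < 24695 → P i := stepQ 24694 Q24694 (allL N24694 (tt N23607 F257782) (tt N23577 F257789) (tt N23506 (iv D57464)) (tt N23547 F257783) (tt N25856 D58626) (tt N23507 F257784) (tt N24205 F257785) (tt N23554 F257786) (tt N24694 F257787) (tt N23521 F257788))
theorem Q24696 : ∀ i, i < 24696 → P i := stepQ 24695 Q24695 (allL N24695 (tt N25830 (iv F262328)) (tt N25569 (iv F260822)) (tt N25856 (iv F262478)) (tt N25853 (iv F262462)) (tt N23506 (iv D57465)) (tt N23627 F257790) (tt N25855 (iv F262472)) (tt N25827 (iv F262313)) (tt N24695 F257791) (tt N23522 F257792))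
theorem Q24697 : ∀ i, i < 24697 → P i := stepQ 24696 Q24696 (allL N24696 (tt N25831 (iv F262336)) (tt N23982 F257793) (tt N25857 D58627) (tt N23509 (iv D57466)) (tt N23629 F257794) (tt N24197 F257795) (tt N23510 F257796) (tt N23985 F257797) (tt N23715 F257798) (tt N24218 F257799))
theorem Q24698 : ∀ i, i < 24698 → P i := stepQ 24697 Q24697 (allL N24697 (tt N25832 (iv F262344)) (tt N25858 D58628) (tt N23510 (iv D57467)) (tt N25835 (iv F262364)) (tt N23638 F257800) (tt N25833 (iv F262352)) (tt N25857 (iv F262487)) (tt N23518 F257801) (tt N23718 F257802) (tt N25844 (iv F262417)))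
theorem Q24699 : ∀ i, i < 24699 → P i := stepQ 24698 Q24698 (allL N24698 (tt N25588 (iv F260954)) (tt N23514 F257803) (tt N25859 D58629) (tt N23511 (iv D57468)) (tt N25860 D58630) (tt N25823 (iv F262282)) (tt N23635 F257804) (tt N24206 F257805) (tt N25702 (iv F261652)) (tt N25845 (iv F262424)))
theorem Q24700 : ∀ i, i < 24700 → P i := stepQ 24699 Q24699 (allL N24699 (tt N24221 F257806) (tt N23515 F257807) (tt N24211 F257808) (tt N25860 (iv F262499)) (tt N23512 (iv D57469)) (tt N24216 F257809) (tt N23636 F257810) (tt N24207 F257811) (tt N23525 F257812) (tt N25846 (iv F262432)))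
theorem Q24701 : ∀ i, i < 24701 → P i := stepQ 24700 Q24700 (allL N24700 (tt N23717 F257813) (tt N25702 (iv F261648)) (tt N25861 D58631) (tt N23513 (iv D57470)) (tt N25862 D58632) (tt N23695 F257814) (tt N24173 F257815) (tt N23696 F257816) (tt N23514 F257817) (tt N24255 F257818))
theorem Q24702 : ∀ i, i < 24702 → P i := stepQ 24701 Q24701 (allL N24701 (tt N25833 (iv F262350)) (tt N25863 D58633) (tt N23514 (iv D57471)) (tt N23518 F257819) (tt N25864 D58634) (tt N25832 (iv F262347)) (tt N24175 F257820) (tt N25835 (iv F262367)) (tt N25861 (iv F262508)) (tt N25848 (iv F262441)))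
theorem Q24703 : ∀ i, i < 24703 → P i := stepQ 24702 Q24702 (allL N24702 (tt N25834 (iv F262356)) (tt N25860 (iv F262498)) (tt N25864 (iv F262519)) (tt N23515 F257821) (tt N23514 (iv D57472)) (tt N25865 D58635) (tt N24176 F257822) (tt N25836 (iv F262374)) (tt N25862 (iv F262515)) (tt N25849 (iv F262444)))
theorem Q24704 : ∀ i, i < 24704 → P i := stepQ 24703 Q24703 (allL N24703 (tt N23662 F257823) (tt N24216 F257824) (tt N23655 F257825) (tt N25865 (iv F262524)) (tt N23519 F257826) (tt N23515 (iv D57473)) (tt N25594 (iv F260992)) (tt N23582 F257827) (tt N23528 F257828) (tt N25850 (iv F262451)))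
theorem Q24705 : ∀ i, i < 24705 → P i := stepQ 24704 Q24704 (allL N24704 (tt N24210 F257829) (tt N23573 F257830) (tt N25866 D58636) (tt N23516 (iv D57474)) (tt N25867 D58637) (tt N23537 F257831) (tt N23517 F257832) (tt N24215 F257833) (tt N23724 F257834) (tt N25851 (iv F262459)))
theorem Q24706 : ∀ i, i < 24706 → P i := stepQ 24705 Q24705 (allL N24705 (tt N25835 (iv F262363)) (tt N25868 D58638) (tt N23517 (iv D57475)) (tt N25832 (iv F262345)) (tt N25869 D58639) (tt N23518 F257835) (tt N25866 (iv F262530)) (tt N25833 (iv F262354)) (tt N23725 F257836) (tt N25852 (iv F262461)))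
theorem Q24707 : ∀ i, i < 24707 → P i := stepQ 24706 Q24706 (allL N24706 (tt N25836 (iv F262369)) (tt N25575 (iv F260864)) (tt N25869 (iv F262542)) (tt N23522 F257837) (tt N23517 (iv D57476)) (tt N23659 F257838) (tt N25867 (iv F262537)) (tt N25834 (iv F262361)) (tt N23726 F257839) (tt N25853 (iv F262464)))
theorem Q24708 : ∀ i, i < 24708 → P i := stepQ 24707 Q24707 (allL N24707 (tt N25870 D58640) (tt N23518 (iv D57477)) (tt N25576 (iv F260870)) (tt N25863 (iv F262517)) (tt N23660 F257840) (tt N25868 (iv F262540)) (tt N24179 F257841) (tt N25858 (iv F262492)) (tt N23727 F257842) (tt N25854 (iv F262467)))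
theorem Q24709 : ∀ i, i < 24709 → P i := stepQ 24708 Q24708 (allL N24708 (tt N24211 F257843) (tt N23582 F257844) (tt N24221 F257845) (tt N25867 (iv F262535)) (tt N23520 (iv D57478)) (tt N24207 F257846) (tt N23522 F257847) (tt N24216 F257848) (tt N23523 F257849) (tt N25855 (iv F262475)))
theorem Q24710 : ∀ i, i < 24710 → P i := stepQ 24709 Q24709 (allL N24709 (tt N23636 F257850) (tt N24231 F257851) (tt N23522 F257852) (tt N25871 D58641) (tt N23521 (iv D57479)) (tt N23672 F257853) (tt N24221 F257854) (tt N23572 F257855) (tt N23524 F257856) (tt N25856 (iv F262483)))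
theorem Q24711 : ∀ i, i < 24711 → P i := stepQ 24710 Q24710 (allL N24710 (tt N23728 F257857) (tt N25708 (iv F261681)) (tt N24275 F257858) (tt N25862 (iv F262511)) (tt N23526 (iv D57480)) (tt N23793 F257859) (tt N24184 F257860) (tt N23698 F257861) (tt N23527 F257862) (tt N24272 F257863))
theorem Q24712 : ∀ i, i < 24712 → P i := stepQ 24711 Q24711 (allL N24711 (tt N23985 F257864) (tt N23556 F257865) (tt N25872 D58642) (tt N23529 (iv D57481)) (tt N24191 F257866) (tt N25851 (iv F262455)) (tt N24156 F257867) (tt N25831 (iv F262341)) (tt N24238 F257868) (tt N23537 F257869))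
theorem Q24713 : ∀ i, i < 24713 → P i := stepQ 24712 Q24712 (allL N24712 (tt N24218 F257870) (tt N23566 F257871) (tt N25873 D58643) (tt N23530 (iv D57482)) (tt N25823 (iv F262281)) (tt N24215 F257872) (tt N25825 (iv F262298)) (tt N23537 F257873) (tt N23740 F257874) (tt N25831 (iv F262343)))
theorem Q24714 : ∀ i, i < 24714 → P i := stepQ 24713 Q24713 (allL N24713 (tt N23592 F257875) (tt N23534 F257876) (tt N23882 F257877) (tt N23532 F257878) (tt N24713 F257879) (tt N23538 F257880) (tt N23631 F257881) (tt N23544 F257882) (tt N25874 D58644) (tt N23531 (iv D57483)))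
theorem Q24715 : ∀ i, i < 24715 → P i := stepQ 24714 Q24714 (allL N24714 (tt N23608 F257883) (tt N23535 F257884) (tt N23568 F257885) (tt N25875 D58645) (tt N23533 F257886) (tt N23548 F257887) (tt N23634 F257888) (tt N23555 F257889) (tt N23532 (iv D57484)) (tt N23565 F257890))
theorem Q24716 : ∀ i, i < 24716 → P i := stepQ 24715 Q24715 (allL N24715 (tt N23714 F257891) (tt N25874 (iv F262565)) (tt N23741 F257892) (tt N25876 D58646) (tt N24715 F257893) (tt N23694 F257894) (tt N24171 F257895) (tt N24237 F257896) (tt N23534 (iv D57485)) (tt N24246 F257897))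
theorem Q24717 : ∀ i, i < 24717 → P i := stepQ 24716 Q24716 (allL N24716 (tt N24197 F257898) (tt N25875 (iv F262573)) (tt N25877 D58647) (tt N23535 (iv D57486)) (tt N25878 D58648) (tt N25831 (iv F262339)) (tt N24174 F257899) (tt N25851 (iv F262457)) (tt N25876 (iv F262582)) (tt N24215 F257900))
theorem Q24718 : ∀ i, i < 24718 → P i := stepQ 24717 Q24717 (allL N24717 (tt N24198 F257901) (tt N25850 (iv F262446)) (tt N25585 (iv F260934)) (tt N25878 (iv F262589)) (tt N23536 (iv D57487)) (tt N25846 (iv F262428)) (tt N24180 F257902) (tt N25855 (iv F262473)) (tt N24717 F257903) (tt N24216 F257904))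
theorem Q24719 : ∀ i, i < 24719 → P i := stepQ 24718 Q24718 (allL N24718 (tt N25579 (iv F260890)) (tt N25879 D58649) (tt N23537 (iv D57488)) (tt N25877 (iv F262585)) (tt N25824 (iv F262289)) (tt N25866 (iv F262529)) (tt N24178 F257905) (tt N25873 (iv F262562)) (tt N23744 F257906) (tt N25872 (iv F262559)))
theorem Q24720 : ∀ i, i < 24720 → P i := stepQ 24719 Q24719 (allL N24719 (tt N23593 F257907) (tt N23694 F257908) (tt N24114 F257909) (tt N25880 D58650) (tt N23539 F257910) (tt N25874 (iv F262568)) (tt N23689 F257911) (tt N23545 F257912) (tt N23538 (iv D57489)) (tt N23746 F257913))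
theorem Q24721 : ∀ i, i < 24721 → P i := stepQ 24720 Q24720 (allL N24720 (tt N23597 F257914) (tt N24075 F257915) (tt N23551 F257916) (tt N23542 F257917) (tt N24720 F257918) (tt N23887 F257919) (tt N24024 F257920) (tt N23871 F257921) (tt N25881 D58651) (tt N23540 (iv D57490)))
theorem Q24722 : ∀ i, i < 24722 → P i := stepQ 24721 Q24721 (allL N24721 (tt N23598 F257922) (tt N24101 F257923) (tt N23544 F257924) (tt N23887 F257925) (tt N24721 F257926) (tt N23542 F257927) (tt N23905 F257928) (tt N23882 F257929) (tt N25882 D58652) (tt N23541 (iv D57491)))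
theorem Q24723 : ∀ i, i < 24723 → P i := stepQ 24722 Q24722 (allL N24722 (tt N23599 F257930) (tt N24103 F257931) (tt N23545 F257932) (tt N25883 D58653) (tt N23543 F257933) (tt N25882 (iv F262614)) (tt N24026 F257934) (tt N24114 F257935) (tt N23542 (iv D57492)) (tt N23748 F257936))
theorem Q24724 : ∀ i, i < 24724 → P i := stepQ 24723 Q24723 (allL N24723 (tt N23600 F257937) (tt N24147 F257938) (tt N24183 F257939) (tt N23543 (iv D57493)) (tt N25884 D58654) (tt N24723 F257940) (tt N24043 F257941) (tt N24151 F257942) (tt N24723 F257943) (tt N23749 F257944))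
theorem Q24725 : ∀ i, i < 24725 → P i := stepQ 24724 Q24724 (allL N24724 (tt N23601 F257945) (tt N24237 F257946) (tt N25882 (iv F262612)) (tt N25885 D58655) (tt N24724 F257947) (tt N23545 F257948) (tt N24020 F257949) (tt N25874 (iv F262570)) (tt N23544 (iv D57494)) (tt N23750 F257950))
theorem Q24726 : ∀ i, i < 24726 → P i := stepQ 24725 Q24725 (allL N24725 (tt N23602 F257951) (tt N24238 F257952) (tt N25886 D58656) (tt N23545 (iv D57495)) (tt N24257 F257953) (tt N25885 (iv F262632)) (tt N24029 F257954) (tt N25880 (iv F262599)) (tt N23556 F257955) (tt N23751 F257956))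
theorem Q24727 : ∀ i, i < 24727 → P i := stepQ 24726 Q24726 (allL N24726 (tt N23606 F257957) (tt N23570 F257958) (tt N23548 F257959) (tt N25887 D58657) (tt N23547 F257960) (tt N23568 F257961) (tt N23628 F257962) (tt N23553 F257963) (tt N23546 (iv D57496)) (tt N23563 F257964))
theorem Q24728 : ∀ i, i < 24728 → P i := stepQ 24727 Q24727 (allL N24727 (tt N23609 F257965) (tt N25831 (iv F262337)) (tt N25888 D58658) (tt N23548 (iv D57497)) (tt N25825 (iv F262296)) (tt N25875 (iv F262574)) (tt N25823 (iv F262283)) (tt N23556 F257966) (tt N25880 (iv F262600)) (tt N23566 F257967))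
theorem Q24729 : ∀ i, i < 24729 → P i := stepQ 24728 Q24728 (allL N24728 (tt N23634 F257968) (tt N23553 F257969) (tt N23565 F257970) (tt N25889 D58659) (tt N23550 F257971) (tt N23563 F257972) (tt N23608 F257973) (tt N23570 F257974) (tt N23549 (iv D57498)) (tt N23568 F257975))
theorem Q24730 : ∀ i, i < 24730 → P i := stepQ 24729 Q24729 (allL N24729 (tt N23661 F257976) (tt N23554 F257977) (tt N23669 F257978) (tt N23550 (iv D57499)) (tt N25890 D58660) (tt N23557 F257979) (tt N23621 F257980) (tt N23577 F257981) (tt N24729 F257982) (tt N23569 F257983))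
theorem Q24731 : ∀ i, i < 24731 → P i := stepQ 24730 Q24730 (allL N24730 (tt N23614 F257984) (tt N25765 (iv F261989)) (tt N25881 (iv F262604)) (tt N25891 D58661) (tt N24730 F257985) (tt N23892 F257986) (tt N24187 F257987) (tt N23875 F257988) (tt N23551 (iv D57500)) (tt N25715 (iv F261736)))
theorem Q24732 : ∀ i, i < 24732 → P i := stepQ 24731 Q24731 (allL N24731 (tt N23615 F257989) (tt N23563 F257990) (tt N23555 F257991) (tt N25892 D58662) (tt N23558 F257992) (tt N23553 F257993) (tt N23656 F257994) (tt N23568 F257995) (tt N23552 (iv D57501)) (tt N23570 F257996))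
theorem Q24733 : ∀ i, i < 24733 → P i := stepQ 24732 Q24732 (allL N24732 (tt N23616 F257997) (tt N25889 (iv F262652)) (tt N25893 D58663) (tt N23553 (iv D57502)) (tt N25894 D58664) (tt N25892 (iv F262673)) (tt N24188 F257998) (tt N25887 (iv F262645)) (tt N25891 (iv F262669)) (tt N23571 F257999))
theorem Q24734 : ∀ i, i < 24734 → P i := stepQ 24733 Q24733 (allL N24733 (tt N23617 F258000) (tt N25890 (iv F262658)) (tt N25827 (iv F262310)) (tt N25894 (iv F262683)) (tt N23554 (iv D57503)) (tt N25895 D58665) (tt N24189 F258001) (tt N25856 (iv F262481)) (tt N24733 F258002) (tt N23572 F258003))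
theorem Q24735 : ∀ i, i < 24735 → P i := stepQ 24734 Q24734 (allL N24734 (tt N23619 F258004) (tt N25851 (iv F262454)) (tt N25896 D58666) (tt N23555 (iv D57504)) (tt N25897 D58667) (tt N23556 F258005) (tt N25567 (iv F260810)) (tt N25875 (iv F262576)) (tt N25885 (iv F262634)) (tt N23573 F258006))
theorem Q24736 : ∀ i, i < 24736 → P i := stepQ 24735 Q24735 (allL N24735 (tt N23620 F258007) (tt N25898 D58668) (tt N23556 (iv D57505)) (tt N25893 (iv F262679)) (tt N25829 (iv F262324)) (tt N25896 (iv F262695)) (tt N24190 F258008) (tt N25888 (iv F262649)) (tt N25886 (iv F262639)) (tt N23574 F258009))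
theorem Q24737 : ∀ i, i < 24737 → P i := stepQ 24736 Q24736 (allL N24736 (tt N23624 F258010) (tt N23667 F258011) (tt N23621 F258012) (tt N23670 F258013) (tt N25895 (iv F262689)) (tt N23559 (iv D57506)) (tt N23669 F258014) (tt N23626 F258015) (tt N24736 F258016) (tt N23580 F258017))
theorem Q24738 : ∀ i, i < 24738 → P i := stepQ 24737 Q24737 (allL N24737 (tt N23626 F258018) (tt N24168 F258019) (tt N23560 (iv D57507)) (tt N24182 F258020) (tt N25899 D58669) (tt N23561 F258021) (tt N24181 F258022) (tt N23624 F258023) (tt N24737 F258024) (tt N23581 F258025))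
theorem Q24739 : ∀ i, i < 24739 → P i := stepQ 24738 Q24738 (allL N24738 (tt N23627 F258026) (tt N25855 (iv F262469)) (tt N25899 (iv F262704)) (tt N25897 (iv F262698)) (tt N23560 (iv D57508)) (tt N25830 (iv F262331)) (tt N25569 (iv F260825)) (tt N25850 (iv F262449)) (tt N24738 F258027) (tt N23582 F258028))
theorem Q24740 : ∀ i, i < 24740 → P i := stepQ 24739 Q24739 (allL N24739 (tt N23629 F258029) (tt N25825 (iv F262295)) (tt N25900 D58670) (tt N23562 (iv D57509)) (tt N25831 (iv F262338)) (tt N25845 (iv F262420)) (tt N23566 F258030) (tt N24191 F258031) (tt N23767 F258032) (tt N25823 (iv F262286)))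
theorem Q24741 : ∀ i, i < 24741 → P i := stepQ 24740 Q24740 (allL N24740 (tt N23635 F258033) (tt N25892 (iv F262671)) (tt N25901 D58671) (tt N23563 (iv D57510)) (tt N25871 (iv F262550)) (tt N25889 (iv F262653)) (tt N25588 (iv F260958)) (tt N23571 F258034) (tt N25779 (iv F262064)) (tt N25887 (iv F262647)))
theorem Q24742 : ∀ i, i < 24742 → P i := stepQ 24741 Q24741 (allL N24741 (tt N23568 F258035) (tt N23640 F258036) (tt N23608 F258037) (tt N25902 D58672) (tt N23567 F258038) (tt N23606 F258039) (tt N23565 F258040) (tt N23615 F258041) (tt N23564 (iv D57511)) (tt N23634 F258042))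
theorem Q24743 : ∀ i, i < 24743 → P i := stepQ 24742 Q24742 (allL N24742 (tt N23637 F258043) (tt N24215 F258044) (tt N25903 D58673) (tt N23565 (iv D57512)) (tt N25865 (iv F262525)) (tt N23566 F258045) (tt N25902 (iv F262720)) (tt N23573 F258046) (tt N23774 F258047) (tt N25875 (iv F262577)))
theorem Q24744 : ∀ i, i < 24744 → P i := stepQ 24743 Q24743 (allL N24743 (tt N23638 F258048) (tt N25904 D58674) (tt N23566 (iv D57513)) (tt N25901 (iv F262715)) (tt N25832 (iv F262346)) (tt N25903 (iv F262725)) (tt N25900 (iv F262711)) (tt N23574 F258049) (tt N23775 F258050) (tt N25888 (iv F262650)))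
theorem Q24745 : ∀ i, i < 24745 → P i := stepQ 24744 Q24744 (allL N24744 (tt N25902 (iv F262717)) (tt N23571 F258051) (tt N25905 D58675) (tt N23568 (iv D57514)) (tt N25906 D58676) (tt N25887 (iv F262643)) (tt N23637 F258052) (tt N25892 (iv F262675)) (tt N23893 F258053) (tt N25889 (iv F262656)))
theorem Q24746 : ∀ i, i < 24746 → P i := stepQ 24745 Q24745 (allL N24745 (tt N23670 F258054) (tt N24160 F258055) (tt N23569 (iv D57515)) (tt N23624 F258056) (tt N25907 D58677) (tt N23575 F258057) (tt N23580 F258058) (tt N24182 F258059) (tt N23584 F258060) (tt N23669 F258061))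
theorem Q24747 : ∀ i, i < 24747 → P i := stepQ 24746 Q24746 (allL N24746 (tt N25594 (iv F260988)) (tt N23572 F258062) (tt N25907 (iv F262739)) (tt N25906 (iv F262733)) (tt N23569 (iv D57516)) (tt N25908 D58678) (tt N23662 F258063) (tt N24231 F258064) (tt N23585 F258065) (tt N25890 (iv F262664)))
theorem Q24748 : ∀ i, i < 24748 → P i := stepQ 24747 Q24747 (allL N24747 (tt N23652 F258066) (tt N25887 (iv F262642)) (tt N25909 D58679) (tt N23570 (iv D57517)) (tt N25910 D58680) (tt N23571 F258067) (tt N25572 (iv F260848)) (tt N25889 (iv F262655)) (tt N25766 (iv F262000)) (tt N25892 (iv F262677)))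
theorem Q24749 : ∀ i, i < 24749 → P i := stepQ 24748 Q24748 (allL N24748 (tt N23653 F258068) (tt N25911 D58681) (tt N23571 (iv D57518)) (tt N23574 F258069) (tt N25912 D58682) (tt N25909 (iv F262755)) (tt N24193 F258070) (tt N25901 (iv F262716)) (tt N25780 (iv F262069)) (tt N25893 (iv F262681)))
theorem Q24750 : ∀ i, i < 24750 → P i := stepQ 24749 Q24749 (allL N24749 (tt N23654 F258071) (tt N25906 (iv F262732)) (tt N25912 (iv F262763)) (tt N23572 F258072) (tt N23571 (iv D57519)) (tt N25913 D58683) (tt N24194 F258073) (tt N25871 (iv F262553)) (tt N25781 (iv F262074)) (tt N25894 (iv F262685)))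
theorem Q24751 : ∀ i, i < 24751 → P i := stepQ 24750 Q24750 (allL N24750 (tt N23655 F258074) (tt N25908 (iv F262746)) (tt N23662 F258075) (tt N25913 (iv F262766)) (tt N23580 F258076) (tt N23572 (iv D57520)) (tt N25907 (iv F262741)) (tt N23672 F258077) (tt N23586 F258078) (tt N25895 (iv F262693)))
theorem Q24752 : ∀ i, i < 24752 → P i := stepQ 24751 Q24751 (allL N24751 (tt N23658 F258079) (tt N25914 D58684) (tt N23573 (iv D57521)) (tt N25909 (iv F262754)) (tt N25915 D58685) (tt N23574 F258080) (tt N25574 (iv F260861)) (tt N25903 (iv F262726)) (tt N23785 F258081) (tt N25896 (iv F262696)))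
theorem Q24753 : ∀ i, i < 24753 → P i := stepQ 24752 Q24752 (allL N24752 (tt N23659 F258082) (tt N25867 (iv F262534)) (tt N25915 (iv F262771)) (tt N23582 F258083) (tt N23573 (iv D57522)) (tt N25836 (iv F262372)) (tt N25575 (iv F260867)) (tt N25865 (iv F262526)) (tt N23786 F258084) (tt N25897 (iv F262699)))
theorem Q24754 : ∀ i, i < 24754 → P i := stepQ 24753 Q24753 (allL N24753 (tt N25916 D58686) (tt N23574 (iv D57523)) (tt N25879 (iv F262592)) (tt N25911 (iv F262760)) (tt N25837 (iv F262376)) (tt N25914 (iv F262768)) (tt N24196 F258085) (tt N25904 (iv F262728)) (tt N23787 F258086) (tt N25898 (iv F262701)))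
theorem Q24755 : ∀ i, i < 24755 → P i := stepQ 24754 Q24754 (allL N24754 (tt N24182 F258087) (tt N23580 F258088) (tt N23623 F258089) (tt N23626 F258090) (tt N25908 (iv F262748)) (tt N23576 (iv D57524)) (tt N24160 F258091) (tt N23670 F258092) (tt N23587 F258093) (tt N23667 F258094))
theorem Q24756 : ∀ i, i < 24756 → P i := stepQ 24755 Q24755 (allL N24755 (tt N23667 F258095) (tt N24181 F258096) (tt N23577 (iv D57525)) (tt N23581 F258097) (tt N25917 D58687) (tt N23578 F258098) (tt N24168 F258099) (tt N23669 F258100) (tt N24755 F258101) (tt N24182 F258102))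
theorem Q24757 : ∀ i, i < 24757 → P i := stepQ 24756 Q24756 (allL N24756 (tt N23668 F258103) (tt N25856 (iv F262477)) (tt N25917 (iv F262778)) (tt N25910 (iv F262757)) (tt N23577 (iv D57526)) (tt N25918 D58688) (tt N24203 F258104) (tt N25890 (iv F262662)) (tt N24756 F258105) (tt N24231 F258106))
theorem Q24758 : ∀ i, i < 24758 → P i := stepQ 24757 Q24757 (allL N24757 (tt N23669 F258107) (tt N23626 F258108) (tt N23661 F258109) (tt N23580 F258110) (tt N25918 (iv F262787)) (tt N23579 (iv D57527)) (tt N23624 F258111) (tt N23667 F258112) (tt N24757 F258113) (tt N23670 F258114))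
theorem Q24759 : ∀ i, i < 24759 → P i := stepQ 24758 Q24758 (allL N24758 (tt N23672 F258115) (tt N24177 F258116) (tt N23582 F258117) (tt N25919 D58689) (tt N23581 (iv D57528)) (tt N23636 F258118) (tt N25577 (iv F260878)) (tt N23655 F258119) (tt N23583 F258120) (tt N25899 (iv F262709)))
theorem Q24760 : ∀ i, i < 24760 → P i := stepQ 24759 Q24759 (allL N24759 (tt N23675 F258121) (tt N24185 F258122) (tt N23800 F258123) (tt N23583 (iv D57529)) (tt N24759 F258124) (tt N23678 F258125) (tt N25578 (iv F260887)) (tt N23688 F258126) (tt N25920 D58690) (tt N24759 F258127))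
theorem Q24761 : ∀ i, i < 24761 → P i := stepQ 24760 Q24760 (allL N24760 (tt N23674 F258128) (tt N24162 F258129) (tt N23585 F258130) (tt N25665 (iv F261410)) (tt N23584 (iv D57530)) (tt N24161 F258131) (tt N23586 F258132) (tt N24186 F258133) (tt N25907 (iv F262743)) (tt N24760 F258134))
theorem Q24762 : ∀ i, i < 24762 → P i := stepQ 24761 Q24761 (allL N24761 (tt N24186 F258135) (tt N23586 F258136) (tt N24161 F258137) (tt N23955 F258138) (tt N23587 F258139) (tt N23585 (iv D57531)) (tt N24162 F258140) (tt N23674 F258141) (tt N25908 (iv F262751)) (tt N24761 F258142))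
theorem Q24763 : ∀ i, i < 24763 → P i := stepQ 24762 Q24762 (allL N24762 (tt N23871 F258143) (tt N23906 F258144) (tt N23605 F258145) (tt N23590 F258146) (tt N24762 F258147) (tt N23770 F258148) (tt N23764 F258149) (tt N23597 F258150) (tt N25921 D58691) (tt N23588 (iv D57532)))
theorem Q24764 : ∀ i, i < 24764 → P i := stepQ 24763 Q24763 (allL N24763 (tt N23882 F258151) (tt N24317 F258152) (tt N23592 F258153) (tt N23770 F258154) (tt N24763 F258155) (tt N23590 F258156) (tt N23768 F258157) (tt N23598 F258158) (tt N25922 D58692) (tt N23589 (iv D57533)))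
theorem Q24765 : ∀ i, i < 24765 → P i := stepQ 24764 Q24764 (allL N24764 (tt N24114 F258159) (tt N25718 (iv F261748)) (tt N23593 F258160) (tt N25923 D58693) (tt N23591 F258161) (tt N25922 (iv F262814)) (tt N24126 F258162) (tt N23599 F258163) (tt N23590 (iv D57534)) (tt N23807 F258164))
theorem Q24766 : ∀ i, i < 24766 → P i := stepQ 24765 Q24765 (allL N24765 (tt N24151 F258165) (tt N25719 (iv F261756)) (tt N25676 (iv F261488)) (tt N23591 (iv D57535)) (tt N25820 (iv F262259)) (tt N24765 F258166) (tt N24144 F258167) (tt N23600 F258168) (tt N24765 F258169) (tt N23808 F258170))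
theorem Q24767 : ∀ i, i < 24767 → P i := stepQ 24766 Q24766 (allL N24766 (tt N25874 (iv F262564)) (tt N24187 F258171) (tt N25922 (iv F262812)) (tt N25924 D58694) (tt N24766 F258172) (tt N23593 F258173) (tt N25765 (iv F261993)) (tt N23601 F258174) (tt N23592 (iv D57536)) (tt N23810 F258175))
theorem Q24768 : ∀ i, i < 24768 → P i := stepQ 24767 Q24767 (allL N24767 (tt N25880 (iv F262595)) (tt N24352 F258176) (tt N25925 D58695) (tt N23593 (iv D57537)) (tt N25678 (iv F261504)) (tt N25924 (iv F262823)) (tt N24133 F258177) (tt N23602 F258178) (tt N23609 F258179) (tt N23811 F258180))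
theorem Q24769 : ∀ i, i < 24769 → P i := stepQ 24768 Q24768 (allL N24768 (tt N25709 (iv F261688)) (tt N23599 F258181) (tt N24031 F258182) (tt N25926 D58696) (tt N23595 F258183) (tt N25601 (iv F261041)) (tt N24098 F258184) (tt N25718 (iv F261753)) (tt N23594 (iv D57538)) (tt N23816 F258185))
theorem Q24770 : ∀ i, i < 24770 → P i := stepQ 24769 Q24769 (allL N24769 (tt N25710 (iv F261696)) (tt N23600 F258186) (tt N25927 D58697) (tt N23595 (iv D57539)) (tt N25928 D58698) (tt N24769 F258187) (tt N24139 F258188) (tt N25719 (iv F261759)) (tt N24769 F258189) (tt N23817 F258190))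
theorem Q24771 : ∀ i, i < 24771 → P i := stepQ 24770 Q24770 (allL N24770 (tt N24072 F258191) (tt N23905 F258192) (tt N23613 F258193) (tt N23819 F258194) (tt N24770 F258195) (tt N24016 F258196) (tt N24101 F258197) (tt N23898 F258198) (tt N25929 D58699) (tt N23596 (iv D57540)))
theorem Q24772 : ∀ i, i < 24772 → P i := stepQ 24771 Q24771 (allL N24771 (tt N25881 (iv F262602)) (tt N25602 (iv F261046)) (tt N23614 F258199) (tt N25930 D58700) (tt N24771 F258200) (tt N25599 (iv F261026)) (tt N24102 F258201) (tt N25921 (iv F262808)) (tt N23597 (iv D57541)) (tt N25929 (iv F262850)))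
theorem Q24773 : ∀ i, i < 24773 → P i := stepQ 24772 Q24772 (allL N24772 (tt N25882 (iv F262610)) (tt N25601 (iv F261038)) (tt N23601 F258202) (tt N25931 D58701) (tt N24772 F258203) (tt N23599 F258204) (tt N24093 F258205) (tt N25922 (iv F262816)) (tt N23598 (iv D57542)) (tt N23822 F258206))
theorem Q24774 : ∀ i, i < 24774 → P i := stepQ 24773 Q24773 (allL N24773 (tt N25883 (iv F262618)) (tt N25926 (iv F262831)) (tt N25932 D58702) (tt N23599 (iv D57543)) (tt N25933 D58703) (tt N25931 (iv F262853)) (tt N24105 F258207) (tt N25923 (iv F262820)) (tt N25930 (iv F262852)) (tt N23823 F258208))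
theorem Q24775 : ∀ i, i < 24775 → P i := stepQ 24774 Q24774 (allL N24774 (tt N25884 (iv F262623)) (tt N25928 (iv F262839)) (tt N25841 (iv F262399)) (tt N25933 (iv F262859)) (tt N23600 (iv D57544)) (tt N25934 D58704) (tt N24140 F258209) (tt N25820 (iv F262261)) (tt N24774 F258210) (tt N23824 F258211))
theorem Q24776 : ∀ i, i < 24776 → P i := stepQ 24775 Q24775 (allL N24775 (tt N25885 (iv F262630)) (tt N24339 F258212) (tt N25935 D58705) (tt N23601 (iv D57545)) (tt N25936 D58706) (tt N23602 F258213) (tt N24096 F258214) (tt N25924 (iv F262824)) (tt N23619 F258215) (tt N23826 F258216))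
theorem Q24777 : ∀ i, i < 24777 → P i := stepQ 24776 Q24776 (allL N24776 (tt N25886 (iv F262636)) (tt N25937 D58707) (tt N23602 (iv D57546)) (tt N25932 (iv F262856)) (tt N25843 (iv F262410)) (tt N25935 (iv F262865)) (tt N24109 F258217) (tt N25925 (iv F262828)) (tt N23620 F258218) (tt N23827 F258219))
theorem Q24778 : ∀ i, i < 24778 → P i := stepQ 24777 Q24777 (allL N24777 (tt N25823 (iv F262279)) (tt N24227 F258220) (tt N25938 D58708) (tt N23603 (iv D57547)) (tt N24218 F258221) (tt N25588 (iv F260957)) (tt N23609 F258222) (tt N23991 F258223) (tt N24133 F258224) (tt N23629 F258225))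
theorem Q24779 : ∀ i, i < 24779 → P i := stepQ 24778 Q24778 (allL N24778 (tt N23829 F258226) (tt N24163 F258227) (tt N23898 F258228) (tt N23632 F258229) (tt N24778 F258230) (tt N23754 F258231) (tt N23752 F258232) (tt N23613 F258233) (tt N25939 D58709) (tt N23604 (iv D57548)))
theorem Q24780 : ∀ i, i < 24780 → P i := stepQ 24779 Q24779 (allL N24779 (tt N23875 F258234) (tt N24164 F258235) (tt N25921 (iv F262804)) (tt N25940 D58710) (tt N24779 F258236) (tt N23773 F258237) (tt N23766 F258238) (tt N23614 F258239) (tt N23605 (iv D57549)) (tt N25939 (iv F262890)))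
theorem Q24781 : ∀ i, i < 24781 → P i := stepQ 24780 Q24780 (allL N24780 (tt N25887 (iv F262641)) (tt N24165 F258240) (tt N25941 D58711) (tt N23606 (iv D57550)) (tt N25942 D58712) (tt N25902 (iv F262719)) (tt N25845 (iv F262421)) (tt N23616 F258241) (tt N25940 (iv F262896)) (tt N23635 F258242))
theorem Q24782 : ∀ i, i < 24782 → P i := stepQ 24781 Q24781 (allL N24781 (tt N25856 (iv F262476)) (tt N24166 F258243) (tt N25830 (iv F262330)) (tt N25942 (iv F262901)) (tt N23607 (iv D57551)) (tt N25899 (iv F262705)) (tt N25846 (iv F262429)) (tt N23617 F258244) (tt N24781 F258245) (tt N23636 F258246))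
theorem Q24783 : ∀ i, i < 24783 → P i := stepQ 24782 Q24782 (allL N24782 (tt N25875 (iv F262572)) (tt N24188 F258247) (tt N25943 D58713) (tt N23608 (iv D57552)) (tt N25944 D58714) (tt N23609 F258248) (tt N25889 (iv F262654)) (tt N23619 F258249) (tt N25924 (iv F262825)) (tt N23637 F258250))
theorem Q24784 : ∀ i, i < 24784 → P i := stepQ 24783 Q24783 (allL N24783 (tt N25888 (iv F262648)) (tt N25945 D58715) (tt N23609 (iv D57553)) (tt N25941 (iv F262897)) (tt N25844 (iv F262414)) (tt N25943 (iv F262904)) (tt N25938 (iv F262879)) (tt N23620 F258251) (tt N25925 (iv F262829)) (tt N23638 F258252))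
theorem Q24785 : ∀ i, i < 24785 → P i := stepQ 24784 Q24784 (allL N24784 (tt N24171 F258253) (tt N23614 F258254) (tt N23703 F258255) (tt N25946 D58716) (tt N24784 F258256) (tt N23701 F258257) (tt N23714 F258258) (tt N24164 F258259) (tt N23610 (iv D57554)) (tt N25839 (iv F262394)))
theorem Q24786 : ∀ i, i < 24786 → P i := stepQ 24785 Q24785 (allL N24785 (tt N24174 F258260) (tt N23616 F258261) (tt N25947 D58717) (tt N23611 (iv D57555)) (tt N25948 D58718) (tt N24157 F258262) (tt N24197 F258263) (tt N24165 F258264) (tt N25946 (iv F262918)) (tt N23645 F258265))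
theorem Q24787 : ∀ i, i < 24787 → P i := stepQ 24786 Q24786 (allL N24786 (tt N24180 F258266) (tt N23617 F258267) (tt N23996 F258268) (tt N25948 (iv F262927)) (tt N23612 (iv D57556)) (tt N25949 D58719) (tt N24198 F258269) (tt N24166 F258270) (tt N24786 F258271) (tt N23646 F258272))
theorem Q24788 : ∀ i, i < 24788 → P i := stepQ 24787 Q24787 (allL N24787 (tt N25715 (iv F261729)) (tt N25839 (iv F262388)) (tt N25929 (iv F262845)) (tt N25950 D58720) (tt N24787 F258273) (tt N25611 (iv F261107)) (tt N24199 F258274) (tt N25939 (iv F262889)) (tt N23613 (iv D57557)) (tt N23614 F258275))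
theorem Q24789 : ∀ i, i < 24789 → P i := stepQ 24788 Q24788 (allL N24788 (tt N25891 (iv F262665)) (tt N25946 (iv F262914)) (tt N25951 D58721) (tt N23614 (iv D57558)) (tt N25952 D58722) (tt N25632 (iv F261231)) (tt N24200 F258276) (tt N25940 (iv F262895)) (tt N23616 F258277) (tt N25950 (iv F262941)))
theorem Q24790 : ∀ i, i < 24790 → P i := stepQ 24789 Q24789 (allL N24789 (tt N25892 (iv F262670)) (tt N24157 F258278) (tt N25953 D58723) (tt N23615 (iv D57559)) (tt N25954 D58724) (tt N23616 F258279) (tt N25570 (iv F260833)) (tt N25902 (iv F262721)) (tt N25632 (iv F261234)) (tt N23652 F258280))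
theorem Q24791 : ∀ i, i < 24791 → P i := stepQ 24790 Q24790 (allL N24790 (tt N25893 (iv F262678)) (tt N25955 D58725) (tt N23616 (iv D57560)) (tt N23620 F258281) (tt N25956 D58726) (tt N25953 (iv F262948)) (tt N24201 F258282) (tt N25941 (iv F262898)) (tt N25951 (iv F262943)) (tt N23653 F258283))
theorem Q24792 : ∀ i, i < 24792 → P i := stepQ 24791 Q24791 (allL N24791 (tt N25894 (iv F262682)) (tt N25948 (iv F262926)) (tt N25956 (iv F262958)) (tt N23617 F258284) (tt N23616 (iv D57561)) (tt N25957 D58727) (tt N24202 F258285) (tt N25942 (iv F262902)) (tt N25952 (iv F262946)) (tt N23654 F258286))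
theorem Q24793 : ∀ i, i < 24793 → P i := stepQ 24792 Q24792 (allL N24792 (tt N25895 (iv F262686)) (tt N25949 (iv F262932)) (tt N25850 (iv F262447)) (tt N25957 (iv F262961)) (tt N23624 F258287) (tt N23617 (iv D57562)) (tt N25918 (iv F262788)) (tt N25899 (iv F262707)) (tt N24792 F258288) (tt N23655 F258289))
theorem Q24794 : ∀ i, i < 24794 → P i := stepQ 24793 Q24793 (allL N24793 (tt N25567 (iv F260807)) (tt N24208 F258290) (tt N25958 D58728) (tt N23618 (iv D57563)) (tt N25959 D58729) (tt N23981 F258291) (tt N23619 F258292) (tt N25572 (iv F260849)) (tt N24096 F258293) (tt N23657 F258294))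
theorem Q24795 : ∀ i, i < 24795 → P i := stepQ 24794 Q24794 (allL N24794 (tt N25896 (iv F262694)) (tt N25960 D58730) (tt N23619 (iv D57564)) (tt N25953 (iv F262947)) (tt N25961 D58731) (tt N23620 F258295) (tt N25958 (iv F262964)) (tt N25943 (iv F262905)) (tt N25935 (iv F262867)) (tt N23658 F258296))
theorem Q24796 : ∀ i, i < 24796 → P i := stepQ 24795 Q24795 (allL N24795 (tt N25897 (iv F262697)) (tt N25583 (iv F260921)) (tt N25961 (iv F262976)) (tt N23627 F258297) (tt N23619 (iv D57565)) (tt N25853 (iv F262463)) (tt N25959 (iv F262970)) (tt N25944 (iv F262909)) (tt N25936 (iv F262872)) (tt N23659 F258298))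
theorem Q24797 : ∀ i, i < 24797 → P i := stepQ 24796 Q24796 (allL N24796 (tt N25962 D58732) (tt N23620 (iv D57566)) (tt N25584 (iv F260927)) (tt N25955 (iv F262955)) (tt N25854 (iv F262465)) (tt N25960 (iv F262974)) (tt N24204 F258299) (tt N25945 (iv F262911)) (tt N25937 (iv F262876)) (tt N23660 F258300))
theorem Q24798 : ∀ i, i < 24798 → P i := stepQ 24797 Q24797 (allL N24797 (tt N25850 (iv F262445)) (tt N24189 F258301) (tt N25895 (iv F262688)) (tt N25944 (iv F262908)) (tt N23621 (iv D57567)) (tt N25827 (iv F262311)) (tt N25890 (iv F262661)) (tt N23627 F258302) (tt N24797 F258303) (tt N23662 F258304))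
theorem Q24799 : ∀ i, i < 24799 → P i := stepQ 24798 Q24798 (allL N24798 (tt N24181 F258305) (tt N23624 F258306) (tt N23625 F258307) (tt N24160 F258308) (tt N25949 (iv F262934)) (tt N23622 (iv D57568)) (tt N23626 F258309) (tt N24168 F258310) (tt N24798 F258311) (tt N23665 F258312))
theorem Q24800 : ∀ i, i < 24800 → P i := stepQ 24799 Q24799 (allL N24799 (tt N24231 F258313) (tt N24158 F258314) (tt N25908 (iv F262747)) (tt N25954 (iv F262952)) (tt N23623 (iv D57569)) (tt N25907 (iv F262740)) (tt N24195 F258315) (tt N25594 (iv F260993)) (tt N24161 F258316) (tt N23668 F258317))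
theorem Q24801 : ∀ i, i < 24801 → P i := stepQ 24800 Q24800 (allL N24800 (tt N25569 (iv F260821)) (tt N25585 (iv F260933)) (tt N25949 (iv F262933)) (tt N25959 (iv F262968)) (tt N23625 (iv D57570)) (tt N23996 F258318) (tt N23627 F258319) (tt N24203 F258320) (tt N24800 F258321) (tt N23671 F258322))
theorem Q24802 : ∀ i, i < 24802 → P i := stepQ 24801 Q24801 (allL N24801 (tt N25899 (iv F262702)) (tt N25918 (iv F262785)) (tt N23627 F258323) (tt N25963 D58733) (tt N23626 (iv D57571)) (tt N25856 (iv F262479)) (tt N25949 (iv F262935)) (tt N25895 (iv F262691)) (tt N24801 F258324) (tt N23672 F258325))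
theorem Q24803 : ∀ i, i < 24803 → P i := stepQ 24802 Q24802 (allL N24802 (tt N25845 (iv F262418)) (tt N25572 (iv F260845)) (tt N25964 D58734) (tt N23628 (iv D57572)) (tt N25965 D58735) (tt N23629 F258326) (tt N25887 (iv F262644)) (tt N24208 F258327) (tt N23876 F258328) (tt N25588 (iv F260961)))
theorem Q24804 : ∀ i, i < 24804 → P i := stepQ 24803 Q24803 (allL N24803 (tt N25900 (iv F262710)) (tt N25966 D58736) (tt N23629 (iv D57573)) (tt N25859 (iv F262494)) (tt N25857 (iv F262485)) (tt N25964 (iv F262981)) (tt N23638 F258329) (tt N24209 F258330) (tt N23877 F258331) (tt N25938 (iv F262882)))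
theorem Q24805 : ∀ i, i < 24805 → P i := stepQ 24804 Q24804 (allL N24804 (tt N23809 F258332) (tt N24170 F258333) (tt N23883 F258334) (tt N23754 F258335) (tt N24804 F258336) (tt N23632 F258337) (tt N23745 F258338) (tt N23647 F258339) (tt N25967 D58737) (tt N23630 (iv D57574)))
theorem Q24806 : ∀ i, i < 24806 → P i := stepQ 24805 Q24805 (allL N24805 (tt N25765 (iv F261988)) (tt N24171 F258340) (tt N23884 F258341) (tt N25968 D58738) (tt N24805 F258342) (tt N23633 F258343) (tt N25874 (iv F262569)) (tt N23648 F258344) (tt N23631 (iv D57575)) (tt N25967 (iv F263000)))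
theorem Q24807 : ∀ i, i < 24807 → P i := stepQ 24806 Q24806 (allL N24806 (tt N24312 F258345) (tt N24172 F258346) (tt N23885 F258347) (tt N25969 D58739) (tt N23676 F258348) (tt N25967 (iv F262997)) (tt N24251 F258349) (tt N23649 F258350) (tt N23632 (iv D57576)) (tt N23633 F258351))
theorem Q24808 : ∀ i, i < 24808 → P i := stepQ 24807 Q24807 (allL N24807 (tt N25779 (iv F262060)) (tt N24173 F258352) (tt N25970 D58740) (tt N23633 (iv D57577)) (tt N25971 D58741) (tt N25968 (iv F263002)) (tt N25702 (iv F261650)) (tt N23650 F258353) (tt N23635 F258354) (tt N25969 (iv F263009)))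
theorem Q24809 : ∀ i, i < 24809 → P i := stepQ 24808 Q24808 (allL N24808 (tt N25889 (iv F262651)) (tt N24174 F258355) (tt N25972 D58742) (tt N23634 (iv D57578)) (tt N25973 D58743) (tt N23635 F258356) (tt N25875 (iv F262575)) (tt N23652 F258357) (tt N25968 (iv F263004)) (tt N25902 (iv F262723)))
theorem Q24810 : ∀ i, i < 24810 → P i := stepQ 24809 Q24809 (allL N24809 (tt N25901 (iv F262714)) (tt N25974 D58744) (tt N23635 (iv D57579)) (tt N23638 F258358) (tt N25975 D58745) (tt N25972 (iv F263018)) (tt N25859 (iv F262495)) (tt N23653 F258359) (tt N25970 (iv F263012)) (tt N25941 (iv F262899)))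
theorem Q24811 : ∀ i, i < 24811 → P i := stepQ 24810 Q24810 (allL N24810 (tt N25871 (iv F262548)) (tt N24176 F258360) (tt N25975 (iv F263026)) (tt N23636 F258361) (tt N23635 (iv D57580)) (tt N25919 (iv F262794)) (tt N25860 (iv F262501)) (tt N23654 F258362) (tt N25971 (iv F263016)) (tt N25942 (iv F262903)))
theorem Q24812 : ∀ i, i < 24812 → P i := stepQ 24811 Q24811 (allL N24811 (tt N25903 (iv F262724)) (tt N25976 D58746) (tt N23637 (iv D57581)) (tt N25972 (iv F263017)) (tt N25977 D58747) (tt N23638 F258363) (tt N25905 (iv F262730)) (tt N23658 F258364) (tt N23894 F258365) (tt N25943 (iv F262906)))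
theorem Q24813 : ∀ i, i < 24813 → P i := stepQ 24812 Q24812 (allL N24812 (tt N25865 (iv F262522)) (tt N24194 F258366) (tt N25977 (iv F263032)) (tt N23662 F258367) (tt N23637 (iv D57582)) (tt N25834 (iv F262359)) (tt N25906 (iv F262734)) (tt N23659 F258368) (tt N23895 F258369) (tt N25944 (iv F262910)))
theorem Q24814 : ∀ i, i < 24814 → P i := stepQ 24813 Q24813 (allL N24813 (tt N25978 D58748) (tt N23638 (iv D57583)) (tt N25586 (iv F260941)) (tt N25974 (iv F263024)) (tt N25858 (iv F262491)) (tt N25976 (iv F263029)) (tt N25966 (iv F262990)) (tt N23660 F258370) (tt N23896 F258371) (tt N25945 (iv F262912)))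
theorem Q24815 : ∀ i, i < 24815 → P i := stepQ 24814 Q24814 (allL N24814 (tt N23643 F258372) (tt N23773 F258373) (tt N23700 F258374) (tt N25979 D58749) (tt N23679 F258375) (tt N24164 F258376) (tt N23723 F258377) (tt N23701 F258378) (tt N23639 (iv D57584)) (tt N25675 (iv F261485)))
theorem Q24816 : ∀ i, i < 24816 → P i := stepQ 24815 Q24815 (allL N24815 (tt N23645 F258379) (tt N25902 (iv F262718)) (tt N25980 D58750) (tt N23640 (iv D57585)) (tt N25595 (iv F260997)) (tt N24165 F258380) (tt N24215 F258381) (tt N24157 F258382) (tt N25979 (iv F263042)) (tt N24174 F258383))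
theorem Q24817 : ∀ i, i < 24817 → P i := stepQ 24816 Q24816 (allL N24816 (tt N24164 F258384) (tt N23648 F258385) (tt N24253 F258386) (tt N25981 D58751) (tt N24816 F258387) (tt N23643 F258388) (tt N25677 (iv F261499)) (tt N24171 F258389) (tt N23641 (iv D57586)) (tt N25838 (iv F262386)))
theorem Q24818 : ∀ i, i < 24818 → P i := stepQ 24817 Q24817 (allL N24817 (tt N25675 (iv F261478)) (tt N23649 F258390) (tt N23737 F258391) (tt N25982 D58752) (tt N23681 F258392) (tt N25838 (iv F262383)) (tt N23738 F258393) (tt N24172 F258394) (tt N23642 (iv D57587)) (tt N23643 F258395))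
theorem Q24819 : ∀ i, i < 24819 → P i := stepQ 24818 Q24818 (allL N24818 (tt N25979 (iv F263037)) (tt N23650 F258396) (tt N25983 D58753) (tt N23643 (iv D57588)) (tt N25984 D58754) (tt N25981 (iv F263051)) (tt N24217 F258397) (tt N24173 F258398) (tt N23645 F258399) (tt N25982 (iv F263057)))
theorem Q24820 : ∀ i, i < 24820 → P i := stepQ 24819 Q24819 (allL N24819 (tt N24165 F258400) (tt N23652 F258401) (tt N25985 D58755) (tt N23644 (iv D57589)) (tt N25986 D58756) (tt N23645 F258402) (tt N25826 (iv F262305)) (tt N24174 F258403) (tt N25981 (iv F263053)) (tt N24157 F258404))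
theorem Q24821 : ∀ i, i < 24821 → P i := stepQ 24820 Q24820 (allL N24820 (tt N25980 (iv F263043)) (tt N25987 D58757) (tt N23645 (iv D57590)) (tt N24169 F258405) (tt N25988 D58758) (tt N25985 (iv F263069)) (tt N24219 F258406) (tt N24175 F258407) (tt N25983 (iv F263061)) (tt N25947 (iv F262924)))
theorem Q24822 : ∀ i, i < 24822 → P i := stepQ 24821 Q24821 (allL N24821 (tt N25595 (iv F260996)) (tt N23654 F258408) (tt N25988 (iv F263081)) (tt N23646 F258409) (tt N23645 (iv D57591)) (tt N25989 D58759) (tt N24220 F258410) (tt N24176 F258411) (tt N25984 (iv F263066)) (tt N25948 (iv F262930)))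
theorem Q24823 : ∀ i, i < 24823 → P i := stepQ 24822 Q24822 (allL N24822 (tt N25577 (iv F260874)) (tt N23655 F258412) (tt N23671 F258413) (tt N25989 (iv F263086)) (tt N23665 F258414) (tt N23646 (iv D57592)) (tt N23672 F258415) (tt N24177 F258416) (tt N23673 F258417) (tt N25949 (iv F262938)))
theorem Q24824 : ∀ i, i < 24824 → P i := stepQ 24823 Q24823 (allL N24823 (tt N25731 (iv F261807)) (tt N25838 (iv F262380)) (tt N23908 F258418) (tt N25990 D58760) (tt N24823 F258419) (tt N23649 F258420) (tt N25597 (iv F261012)) (tt N25967 (iv F262999)) (tt N23647 (iv D57593)) (tt N23648 F258421))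
theorem Q24825 : ∀ i, i < 24825 → P i := stepQ 24824 Q24824 (allL N24824 (tt N25766 (iv F261996)) (tt N25981 (iv F263050)) (tt N25991 D58761) (tt N23648 (iv D57594)) (tt N25992 D58762) (tt N23650 F258422) (tt N25697 (iv F261620)) (tt N25968 (iv F263003)) (tt N23652 F258423) (tt N25990 (iv F263090)))
theorem Q24826 : ∀ i, i < 24826 → P i := stepQ 24825 Q24825 (allL N24825 (tt N25740 (iv F261858)) (tt N25982 (iv F263054)) (tt N25993 D58763) (tt N23649 (iv D57595)) (tt N25994 D58764) (tt N25990 (iv F263089)) (tt N24222 F258424) (tt N25969 (iv F263008)) (tt N25950 (iv F262940)) (tt N23650 F258425))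
theorem Q24827 : ∀ i, i < 24827 → P i := stepQ 24826 Q24826 (allL N24826 (tt N25780 (iv F262066)) (tt N25995 D58765) (tt N23650 (iv D57596)) (tt N23911 F258426) (tt N25996 D58766) (tt N25991 (iv F263092)) (tt N24223 F258427) (tt N25970 (iv F263011)) (tt N23653 F258428) (tt N25993 (iv F263098)))
theorem Q24828 : ∀ i, i < 24828 → P i := stepQ 24827 Q24827 (allL N24827 (tt N25781 (iv F262070)) (tt N25984 (iv F263062)) (tt N25996 (iv F263105)) (tt N23686 F258429) (tt N23650 (iv D57597)) (tt N25997 D58767) (tt N24224 F258430) (tt N25971 (iv F263015)) (tt N23654 F258431) (tt N25994 (iv F263101)))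
theorem Q24829 : ∀ i, i < 24829 → P i := stepQ 24828 Q24828 (allL N24828 (tt N25572 (iv F260844)) (tt N25826 (iv F262303)) (tt N25998 D58768) (tt N23651 (iv D57598)) (tt N25999 D58769) (tt N24225 F258432) (tt N23652 F258433) (tt N25567 (iv F260811)) (tt N25697 (iv F261622)) (tt N25570 (iv F260836)))
theorem Q24830 : ∀ i, i < 24830 → P i := stepQ 24829 Q24829 (allL N24829 (tt N25909 (iv F262753)) (tt N26000 D58770) (tt N23652 (iv D57599)) (tt N23658 F258434) (tt N26001 D58771) (tt N23653 F258435) (tt N25998 (iv F263112)) (tt N25972 (iv F263019)) (tt N25991 (iv F263093)) (tt N25953 (iv F262949)))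
theorem Q24831 : ∀ i, i < 24831 → P i := stepQ 24830 Q24830 (allL N24830 (tt N25910 (iv F262756)) (tt N25986 (iv F263073)) (tt N26001 (iv F263120)) (tt N23668 F258436) (tt N23652 (iv D57600)) (tt N26002 D58772) (tt N25999 (iv F263116)) (tt N25973 (iv F263022)) (tt N25992 (iv F263095)) (tt N25954 (iv F262954)))
theorem Q24832 : ∀ i, i < 24832 → P i := stepQ 24831 Q24831 (allL N24831 (tt N26003 D58773) (tt N23653 (iv D57601)) (tt N25987 (iv F263077)) (tt N23660 F258437) (tt N26004 D58774) (tt N26000 (iv F263119)) (tt N24228 F258438) (tt N25974 (iv F263025)) (tt N25995 (iv F263104)) (tt N25955 (iv F262957)))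
theorem Q24833 : ∀ i, i < 24833 → P i := stepQ 24832 Q24832 (allL N24832 (tt N25912 (iv F262762)) (tt N26004 (iv F263125)) (tt N23654 F258439) (tt N25864 (iv F262520)) (tt N23653 (iv D57602)) (tt N26005 D58775) (tt N24229 F258440) (tt N25975 (iv F263027)) (tt N25996 (iv F263107)) (tt N25956 (iv F262960)))
theorem Q24834 : ∀ i, i < 24834 → P i := stepQ 24833 Q24833 (allL N24833 (tt N25913 (iv F262765)) (tt N25989 (iv F263085)) (tt N26005 (iv F263127)) (tt N23655 F258441) (tt N26002 (iv F263122)) (tt N23654 (iv D57603)) (tt N26006 D58776) (tt N25919 (iv F262795)) (tt N25997 (iv F263109)) (tt N25957 (iv F262962)))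
theorem Q24835 : ∀ i, i < 24835 → P i := stepQ 24834 Q24834 (allL N24834 (tt N25907 (iv F262737)) (tt N23672 F258442) (tt N25594 (iv F260990)) (tt N26006 (iv F263129)) (tt N23670 F258443) (tt N24231 F258444) (tt N23655 (iv D57604)) (tt N25908 (iv F262750)) (tt N23674 F258445) (tt N25918 (iv F262791)))
theorem Q24836 : ∀ i, i < 24836 → P i := stepQ 24835 Q24835 (allL N24835 (tt N25570 (iv F260829)) (tt N25588 (iv F260955)) (tt N26007 D58777) (tt N23656 (iv D57605)) (tt N24230 F258446) (tt N24227 F258447) (tt N25892 (iv F262674)) (tt N23657 F258448) (tt N23920 F258449) (tt N25572 (iv F260851)))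
theorem Q24837 : ∀ i, i < 24837 → P i := stepQ 24836 Q24836 (allL N24836 (tt N25574 (iv F260859)) (tt N26008 D58778) (tt N23657 (iv D57606)) (tt N25998 (iv F263110)) (tt N26009 D58779) (tt N24232 F258450) (tt N23658 F258451) (tt N26007 (iv F263133)) (tt N23921 F258452) (tt N25958 (iv F262966)))
theorem Q24838 : ∀ i, i < 24838 → P i := stepQ 24837 Q24837 (allL N24837 (tt N25575 (iv F260863)) (tt N25590 (iv F260969)) (tt N26009 (iv F263138)) (tt N23671 F258453) (tt N23657 (iv D57607)) (tt N24213 F258454) (tt N23659 F258455) (tt N24230 F258456) (tt N23922 F258457) (tt N25959 (iv F262973)))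
theorem Q24839 : ∀ i, i < 24839 → P i := stepQ 24838 Q24838 (allL N24838 (tt N26010 D58780) (tt N23658 (iv D57608)) (tt N25591 (iv F260976)) (tt N26000 (iv F263118)) (tt N26011 D58781) (tt N23660 F258458) (tt N26008 (iv F263136)) (tt N25976 (iv F263030)) (tt N23923 F258459) (tt N25960 (iv F262975)))
theorem Q24840 : ∀ i, i < 24840 → P i := stepQ 24839 Q24839 (allL N24839 (tt N25915 (iv F262770)) (tt N26011 (iv F263145)) (tt N23659 F258460) (tt N26012 D58782) (tt N23658 (iv D57609)) (tt N25869 (iv F262543)) (tt N26009 (iv F263140)) (tt N25977 (iv F263033)) (tt N23924 F258461) (tt N25961 (iv F262977)))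
theorem Q24841 : ∀ i, i < 24841 → P i := stepQ 24840 Q24840 (allL N24840 (tt N23660 (iv D57610)) (tt N25916 (iv F262773)) (tt N25593 (iv F260985)) (tt N26003 (iv F263123)) (tt N25870 (iv F262545)) (tt N26010 (iv F263143)) (tt N24234 F258462) (tt N25978 (iv F263035)) (tt N23925 F258463) (tt N25962 (iv F262979)))
theorem Q24842 : ∀ i, i < 24842 → P i := stepQ 24841 Q24841 (allL N24841 (tt N25890 (iv F262657)) (tt N24180 F258464) (tt N25918 (iv F262786)) (tt N25973 (iv F263021)) (tt N23661 (iv D57611)) (tt N25917 (iv F262779)) (tt N25850 F262452) (tt N23668 F258465) (tt N24841 F258466) (tt N25594 (iv F260995)))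
theorem Q24843 : ∀ i, i < 24843 → P i := stepQ 24842 Q24842 (allL N24842 (tt N24166 F258467) (tt N23668 F258468) (tt N24189 F258469) (tt N25986 (iv F263074)) (tt N23663 (iv D57612)) (tt N26013 D58783) (tt N25827 (iv F262312)) (tt N24180 F258470) (tt N24842 F258471) (tt N24158 F258472))
theorem Q24844 : ∀ i, i < 24844 → P i := stepQ 24843 Q24843 (allL N24843 (tt N24168 F258473) (tt N23669 F258474) (tt N23666 F258475) (tt N23665 F258476) (tt N26013 (iv F263151)) (tt N23664 (iv D57613)) (tt N23667 F258477) (tt N24181 F258478) (tt N24843 F258479) (tt N24160 F258480))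
theorem Q24845 : ∀ i, i < 24845 → P i := stepQ 24844 Q24844 (allL N24844 (tt N24203 F258481) (tt N25827 (iv F262309)) (tt N26013 (iv F263150)) (tt N25999 (iv F263114)) (tt N23666 (iv D57614)) (tt N24189 F258482) (tt N23668 F258483) (tt N25569 (iv F260826)) (tt N24844 F258484) (tt N24195 F258485))
theorem Q24846 : ∀ i, i < 24846 → P i := stepQ 24845 Q24845 (allL N24845 (tt N25917 (iv F262776)) (tt N25895 (iv F262687)) (tt N23668 F258486) (tt N26014 D58784) (tt N23667 (iv D57615)) (tt N25890 (iv F262660)) (tt N26013 (iv F263152)) (tt N25918 (iv F262789)) (tt N24845 F258487) (tt N25908 (iv F262752)))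
theorem Q24847 : ∀ i, i < 24847 → P i := stepQ 24846 Q24846 (allL N24846 (tt N25918 (iv F262784)) (tt N26013 (iv F263149)) (tt N25890 (iv F262659)) (tt N26002 (iv F263121)) (tt N23669 F258488) (tt N23668 (iv D57616)) (tt N25895 (iv F262690)) (tt N25917 (iv F262781)) (tt N24846 F258489) (tt N25907 (iv F262744)))
theorem Q24848 : ∀ i, i < 24848 → P i := stepQ 24847 Q24847 (allL N24847 (tt N25919 (iv F262792)) (tt N26006 (iv F263128)) (tt N26012 (iv F263147)) (tt N23672 (iv D57617)) (tt N26014 (iv F263156)) (tt N25871 (iv F262551)) (tt N25989 (iv F263087)) (tt N25913 (iv F262767)) (tt N26015 D58785) (tt N25963 (iv F262980)))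
theorem Q24849 : ∀ i, i < 24849 → P i := stepQ 24848 Q24848 (allL N24848 (tt N25578 (iv F260882)) (tt N23688 F258490) (tt N23960 F258491) (tt N23673 (iv D57618)) (tt N24848 F258492) (tt N23683 F258493) (tt N23675 F258494) (tt N24185 F258495) (tt N26016 D58786) (tt N24848 F258496))
theorem Q24850 : ∀ i, i < 24850 → P i := stepQ 24849 Q24849 (allL N24849 (tt N25665 (iv F261407)) (tt N23675 F258497) (tt N26017 D58787) (tt N23674 (iv D57619)) (tt N24849 F258498) (tt N23952 F258499) (tt N23688 F258500) (tt N23955 F258501) (tt N26018 D58788) (tt N24849 F258502))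
theorem Q24851 : ∀ i, i < 24851 → P i := stepQ 24850 Q24850 (allL N24850 (tt N25920 (iv F262796)) (tt N26018 (iv F263172)) (tt N23963 F258503) (tt N26015 (iv F263157)) (tt N24850 F258504) (tt N25814 F262229) (tt N26016 (iv F263162)) (tt N25815 (iv F262234)) (tt N23675 (iv D57620)) (tt N26019 D58789))
theorem Q24852 : ∀ i, i < 24852 → P i := stepQ 24851 Q24851 (allL N24851 (tt N24395 F258505) (tt N24183 F258506) (tt N25669 (iv F261438)) (tt N23676 (iv D57621)) (tt N26020 D58790) (tt N24851 F258507) (tt N24271 F258508) (tt N23684 F258509) (tt N24851 F258510) (tt N23677 F258511))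
theorem Q24853 : ∀ i, i < 24853 → P i := stepQ 24852 Q24852 (allL N24852 (tt N25814 (iv F262222)) (tt N24184 F258512) (tt N25670 (iv F261446)) (tt N25971 (iv F263014)) (tt N23677 (iv D57622)) (tt N25920 (iv F262800)) (tt N25708 (iv F261684)) (tt N23686 F258513) (tt N23678 F258514) (tt N26020 (iv F263186)))
theorem Q24854 : ∀ i, i < 24854 → P i := stepQ 24853 Q24853 (allL N24853 (tt N23682 F258515) (tt N23791 F258516) (tt N23808 F258517) (tt N23679 (iv D57623)) (tt N25596 (iv F261004)) (tt N24853 F258518) (tt N23729 F258519) (tt N23702 F258520) (tt N23680 F258521) (tt N25676 (iv F261493)))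
theorem Q24855 : ∀ i, i < 24855 → P i := stepQ 24854 Q24854 (allL N24854 (tt N25676 (iv F261486)) (tt N23684 F258522) (tt N24151 F258523) (tt N23681 (iv D57624)) (tt N26021 D58791) (tt N24854 F258524) (tt N23739 F258525) (tt N24183 F258526) (tt N24854 F258527) (tt N23682 F258528))
theorem Q24856 : ∀ i, i < 24856 → P i := stepQ 24855 Q24855 (allL N24855 (tt N25596 (iv F261001)) (tt N23686 F258529) (tt N24152 F258530) (tt N25984 (iv F263063)) (tt N23682 (iv D57625)) (tt N26016 (iv F263161)) (tt N24235 F258531) (tt N24184 F258532) (tt N23683 F258533) (tt N26021 (iv F263192)))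
theorem Q24857 : ∀ i, i < 24857 → P i := stepQ 24856 Q24856 (allL N24856 (tt N24393 F258534) (tt N24070 F258535) (tt N23684 (iv D57626)) (tt N23964 F258536) (tt N26022 D58792) (tt N24856 F258537) (tt N24074 F258538) (tt N25669 (iv F261441)) (tt N24856 F258539) (tt N23685 F258540))
theorem Q24858 : ∀ i, i < 24858 → P i := stepQ 24857 Q24857 (allL N24857 (tt N25761 (iv F261961)) (tt N26021 (iv F263187)) (tt N26022 (iv F263195)) (tt N25994 (iv F263099)) (tt N23684 (iv D57627)) (tt N26023 D58793) (tt N24236 F258541) (tt N26020 (iv F263184)) (tt N24857 F258542) (tt N23686 F258543))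
theorem Q24859 : ∀ i, i < 24859 → P i := stepQ 24858 Q24858 (allL N24858 (tt N24394 F258544) (tt N24095 F258545) (tt N23686 F258546) (tt N26024 D58794) (tt N23685 (iv D57628)) (tt N26025 D58795) (tt N24100 F258547) (tt N25670 (iv F261448)) (tt N23687 F258548) (tt N26022 (iv F263198)))
theorem Q24860 : ∀ i, i < 24860 → P i := stepQ 24859 Q24859 (allL N24859 (tt N25815 (iv F262230)) (tt N26016 (iv F263158)) (tt N26025 (iv F263209)) (tt N25997 (iv F263108)) (tt N24859 F258549) (tt N23686 (iv D57629)) (tt N26018 (iv F263175)) (tt N25920 (iv F262801)) (tt N23688 F258550) (tt N26023 (iv F263201)))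
theorem Q24861 : ∀ i, i < 24861 → P i := stepQ 24860 Q24860 (allL N24860 (tt N23958 F258551) (tt N24146 F258552) (tt N23688 F258553) (tt N23799 F258554) (tt N24860 F258555) (tt N23687 (iv D57630)) (tt N26017 (iv F263169)) (tt N23800 F258556) (tt N26025 (iv F263212)) (tt N24860 F258557))
theorem Q24862 : ∀ i, i < 24862 → P i := stepQ 24861 Q24861 (allL N24861 (tt N24133 F258558) (tt N23695 F258559) (tt N26026 D58796) (tt N23689 (iv D57631)) (tt N23740 F258560) (tt N25702 (iv F261649)) (tt N25880 (iv F262598)) (tt N23692 F258561) (tt N25823 (iv F262285)) (tt N24252 F258562))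
theorem Q24863 : ∀ i, i < 24863 → P i := stepQ 24862 Q24862 (allL N24862 (tt N24127 F258563) (tt N23919 F258564) (tt N26027 D58797) (tt N23690 (iv D57632)) (tt N26028 D58798) (tt N23904 F258565) (tt N24036 F258566) (tt N25788 (iv F262108)) (tt N24337 F258567) (tt N24004 F258568))
theorem Q24864 : ∀ i, i < 24864 → P i := stepQ 24863 Q24863 (allL N24863 (tt N24145 F258569) (tt N23942 F258570) (tt N23743 F258571) (tt N26028 (iv F263225)) (tt N23691 (iv D57633)) (tt N23938 F258572) (tt N24046 F258573) (tt N25821 (iv F262268)) (tt N24863 F258574) (tt N24005 F258575))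
theorem Q24865 : ∀ i, i < 24865 → P i := stepQ 24864 Q24864 (allL N24864 (tt N24134 F258576) (tt N26029 D58799) (tt N23692 (iv D57634)) (tt N26027 (iv F263218)) (tt N23744 F258577) (tt N25703 (iv F261656)) (tt N24040 F258578) (tt N26026 (iv F263215)) (tt N25824 (iv F262292)) (tt N24263 F258579))
theorem Q24866 : ∀ i, i < 24866 → P i := stepQ 24865 Q24865 (allL N24865 (tt N23715 F258580) (tt N25880 (iv F262596)) (tt N26030 D58800) (tt N23694 (iv D57635)) (tt N23767 F258581) (tt N25876 (iv F262579)) (tt N23695 F258582) (tt N24238 F258583) (tt N25831 (iv F262342)) (tt N24247 F258584))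
theorem Q24867 : ∀ i, i < 24867 → P i := stepQ 24866 Q24866 (allL N24866 (tt N23718 F258585) (tt N26031 D58801) (tt N23695 (iv D57636)) (tt N24243 F258586) (tt N23775 F258587) (tt N25861 (iv F262505)) (tt N26030 (iv F263237)) (tt N23697 F258588) (tt N25832 (iv F262349)) (tt N24256 F258589))
theorem Q24868 : ∀ i, i < 24868 → P i := stepQ 24867 Q24867 (allL N24867 (tt N23725 F258590) (tt N26032 D58802) (tt N23696 (iv D57637)) (tt N24244 F258591) (tt N26033 D58803) (tt N23697 F258592) (tt N25685 (iv F261548)) (tt N25861 (iv F262507)) (tt N25835 (iv F262368)) (tt N24266 F258593))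
theorem Q24869 : ∀ i, i < 24869 → P i := stepQ 24868 Q24868 (allL N24868 (tt N23726 F258594) (tt N25704 (iv F261661)) (tt N26033 (iv F263248)) (tt N23698 F258595) (tt N23696 (iv D57638)) (tt N23786 F258596) (tt N25686 (iv F261556)) (tt N25862 (iv F262514)) (tt N25836 (iv F262375)) (tt N24267 F258597))
theorem Q24870 : ∀ i, i < 24870 → P i := stepQ 24869 Q24869 (allL N24869 (tt N26034 D58804) (tt N23697 (iv D57639)) (tt N26029 (iv F263230)) (tt N24245 F258598) (tt N23787 F258599) (tt N26032 (iv F263245)) (tt N24240 F258600) (tt N26031 (iv F263242)) (tt N25837 (iv F262378)) (tt N24268 F258601))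
theorem Q24871 : ∀ i, i < 24871 → P i := stepQ 24870 Q24870 (allL N24870 (tt N24253 F258602) (tt N25597 (iv F261008)) (tt N24164 F258603) (tt N26035 D58805) (tt N24870 F258604) (tt N23700 F258605) (tt N25838 (iv F262384)) (tt N23703 F258606) (tt N23699 (iv D57640)) (tt N25677 (iv F261501)))
theorem Q24872 : ∀ i, i < 24872 → P i := stepQ 24871 Q24871 (allL N24871 (tt N24254 F258607) (tt N25598 (iv F261016)) (tt N26036 D58806) (tt N23700 (iv D57641)) (tt N23811 F258608) (tt N26035 (iv F263257)) (tt N25673 (iv F261467)) (tt N23704 F258609) (tt N23708 F258610) (tt N25678 (iv F261508)))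
theorem Q24873 : ∀ i, i < 24873 → P i := stepQ 24872 Q24872 (allL N24872 (tt N24173 F258611) (tt N25632 (iv F261230)) (tt N26037 D58807) (tt N23701 (iv D57642)) (tt N26038 D58808) (tt N25946 (iv F262915)) (tt N23717 F258612) (tt N25979 (iv F263041)) (tt N24157 F258613) (tt N25840 (iv F262397)))
theorem Q24874 : ∀ i, i < 24874 → P i := stepQ 24873 Q24873 (allL N24873 (tt N24184 F258614) (tt N25659 (iv F261372)) (tt N23824 F258615) (tt N26038 (iv F263269)) (tt N23702 (iv D57643)) (tt N26039 D58809) (tt N23728 F258616) (tt N25596 (iv F261006)) (tt N23732 F258617) (tt N25841 (iv F262402)))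
theorem Q24875 : ∀ i, i < 24875 → P i := stepQ 24874 Q24874 (allL N24874 (tt N24264 F258618) (tt N25605 (iv F261064)) (tt N26040 D58810) (tt N23703 (iv D57644)) (tt N26041 D58811) (tt N23704 F258619) (tt N25682 (iv F261530)) (tt N26035 (iv F263258)) (tt N23709 F258620) (tt N25842 (iv F262408)))
theorem Q24876 : ∀ i, i < 24876 → P i := stepQ 24875 Q24875 (allL N24875 (tt N24265 F258621) (tt N26042 D58812) (tt N23704 (iv D57645)) (tt N26037 (iv F263265)) (tt N23827 F258622) (tt N26040 (iv F263278)) (tt N24241 F258623) (tt N26036 (iv F263262)) (tt N23710 F258624) (tt N25843 (iv F262413)))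
theorem Q24877 : ∀ i, i < 24877 → P i := stepQ 24876 Q24876 (allL N24876 (tt N24246 F258625) (tt N24199 F258626) (tt N24237 F258627) (tt N26043 D58813) (tt N24876 F258628) (tt N23706 F258629) (tt N25839 (iv F262392)) (tt N23741 F258630) (tt N23705 (iv D57646)) (tt N23714 F258631))
theorem Q24878 : ∀ i, i < 24878 → P i := stepQ 24877 Q24877 (allL N24877 (tt N24247 F258632) (tt N25607 (iv F261075)) (tt N26044 D58814) (tt N23706 (iv D57647)) (tt N23831 F258633) (tt N26043 (iv F263289)) (tt N23708 F258634) (tt N24242 F258635) (tt N25673 (iv F261469)) (tt N23715 F258636))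
theorem Q24879 : ∀ i, i < 24879 → P i := stepQ 24878 Q24878 (allL N24878 (tt N24255 F258637) (tt N25612 (iv F261112)) (tt N26045 D58815) (tt N23707 (iv D57648)) (tt N26046 D58816) (tt N23708 F258638) (tt N25840 (iv F262396)) (tt N23709 F258639) (tt N26035 (iv F263259)) (tt N23717 F258640))
theorem Q24880 : ∀ i, i < 24880 → P i := stepQ 24879 Q24879 (allL N24879 (tt N24256 F258641) (tt N26047 D58817) (tt N23708 (iv D57649)) (tt N24239 F258642) (tt N23839 F258643) (tt N26045 (iv F263301)) (tt N26044 (iv F263296)) (tt N23710 F258644) (tt N26036 (iv F263263)) (tt N23718 F258645))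
theorem Q24881 : ∀ i, i < 24881 → P i := stepQ 24880 Q24880 (allL N24880 (tt N24266 F258646) (tt N26048 D58818) (tt N23709 (iv D57650)) (tt N24011 F258647) (tt N26049 D58819) (tt N23710 F258648) (tt N25683 (iv F261537)) (tt N26045 (iv F263302)) (tt N26040 (iv F263279)) (tt N23725 F258649))
theorem Q24882 : ∀ i, i < 24882 → P i := stepQ 24881 Q24881 (allL N24881 (tt N24267 F258650) (tt N25620 (iv F261156)) (tt N26049 (iv F263317)) (tt N23712 F258651) (tt N23709 (iv D57651)) (tt N23852 F258652) (tt N25684 (iv F261543)) (tt N26046 (iv F263307)) (tt N26041 (iv F263283)) (tt N23726 F258653))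
theorem Q24883 : ∀ i, i < 24883 → P i := stepQ 24882 Q24882 (allL N24882 (tt N26050 D58820) (tt N23710 (iv D57652)) (tt N25621 (iv F261161)) (tt N24240 F258654) (tt N23853 F258655) (tt N26048 (iv F263314)) (tt N24245 F258656) (tt N26047 (iv F263311)) (tt N26042 (iv F263286)) (tt N23727 F258657))
theorem Q24884 : ∀ i, i < 24884 → P i := stepQ 24883 Q24883 (allL N24883 (tt N24272 F258658) (tt N25625 (iv F261187)) (tt N24140 F258659) (tt N26046 (iv F263305)) (tt N23711 (iv D57653)) (tt N23859 F258660) (tt N25841 (iv F262400)) (tt N23712 F258661) (tt N24883 F258662) (tt N23728 F258663))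
theorem Q24885 : ∀ i, i < 24885 → P i := stepQ 24884 Q24884 (allL N24884 (tt N24242 F258664) (tt N23751 F258665) (tt N26051 D58821) (tt N23713 (iv D57654)) (tt N24261 F258666) (tt N25682 (iv F261529)) (tt N23716 F258667) (tt N24247 F258668) (tt N23736 F258669) (tt N24238 F258670))
theorem Q24886 : ∀ i, i < 24886 → P i := stepQ 24885 Q24885 (allL N24885 (tt N25876 (iv F262578)) (tt N24200 F258671) (tt N26052 D58822) (tt N23714 (iv D57655)) (tt N26053 D58823) (tt N23715 F258672) (tt N25946 (iv F262916)) (tt N24249 F258673) (tt N24197 F258674) (tt N26043 (iv F263292)))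
theorem Q24887 : ∀ i, i < 24887 → P i := stepQ 24886 Q24886 (allL N24886 (tt N26030 (iv F263234)) (tt N26054 D58824) (tt N23715 (iv D57656)) (tt N26051 (iv F263327)) (tt N23877 F258675) (tt N26052 (iv F263333)) (tt N23718 F258676) (tt N24250 F258677) (tt N25857 (iv F262489)) (tt N26044 (iv F263298)))
theorem Q24888 : ∀ i, i < 24888 → P i := stepQ 24887 Q24887 (allL N24887 (tt N24243 F258678) (tt N26055 D58825) (tt N23716 (iv D57657)) (tt N23718 F258679) (tt N24277 F258680) (tt N24241 F258681) (tt N26051 (iv F263329)) (tt N23722 F258682) (tt N24244 F258683) (tt N24239 F258684))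
theorem Q24889 : ∀ i, i < 24889 → P i := stepQ 24888 Q24888 (allL N24888 (tt N25861 (iv F262503)) (tt N26056 D58826) (tt N23717 (iv D57658)) (tt N24241 F258685) (tt N26057 D58827) (tt N23718 F258686) (tt N26037 (iv F263266)) (tt N23725 F258687) (tt N25833 (iv F262355)) (tt N26045 (iv F263303)))
theorem Q24890 : ∀ i, i < 24890 → P i := stepQ 24889 Q24889 (allL N24889 (tt N25862 (iv F262510)) (tt N25634 (iv F261239)) (tt N26057 (iv F263354)) (tt N23728 F258688) (tt N23717 (iv D57659)) (tt N23895 F258689) (tt N26038 (iv F263270)) (tt N23726 F258690) (tt N25834 (iv F262362)) (tt N26046 (iv F263308)))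
theorem Q24891 : ∀ i, i < 24891 → P i := stepQ 24890 Q24890 (allL N24890 (tt N26058 D58828) (tt N23718 (iv D57660)) (tt N25635 (iv F261244)) (tt N26055 (iv F263345)) (tt N23896 F258691) (tt N26056 (iv F263352)) (tt N26054 (iv F263342)) (tt N23727 F258692) (tt N25858 (iv F262493)) (tt N26047 (iv F263312)))
theorem Q24892 : ∀ i, i < 24892 → P i := stepQ 24891 Q24891 (allL N24891 (tt N24091 F258693) (tt N26059 D58829) (tt N23719 (iv D57661)) (tt N25638 (iv F261262)) (tt N24244 F258694) (tt N24015 F258695) (tt N24263 F258696) (tt N24276 F258697) (tt N24277 F258698) (tt N24040 F258699))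
theorem Q24893 : ∀ i, i < 24893 → P i := stepQ 24892 Q24892 (allL N24892 (tt N24241 F258700) (tt N26060 D58830) (tt N23720 (iv D57662)) (tt N25861 (iv F262504)) (tt N24276 F258701) (tt N24243 F258702) (tt N24265 F258703) (tt N24244 F258704) (tt N23722 F258705) (tt N24258 F258706))
theorem Q24894 : ∀ i, i < 24894 → P i := stepQ 24893 Q24893 (allL N24893 (tt N24244 F258707) (tt N26061 D58831) (tt N23721 (iv D57663)) (tt N23725 F258708) (tt N24091 F258709) (tt N23722 F258710) (tt N25674 (iv F261475)) (tt N24241 F258711) (tt N24243 F258712) (tt N24011 F258713))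
theorem Q24895 : ∀ i, i < 24895 → P i := stepQ 24894 Q24894 (allL N24894 (tt N26062 D58832) (tt N23722 (iv D57664)) (tt N26059 (iv F263360)) (tt N23727 F258714) (tt N24278 F258715) (tt N26061 (iv F263377)) (tt N24268 F258716) (tt N26055 (iv F263348)) (tt N26060 (iv F263372)) (tt N24240 F258717))
theorem Q24896 : ∀ i, i < 24896 → P i := stepQ 24895 Q24895 (allL N24895 (tt N24217 F258718) (tt N23774 F258719) (tt N26063 D58833) (tt N23723 (iv D57665)) (tt N26064 D58834) (tt N23740 F258720) (tt N25979 (iv F263040)) (tt N23724 F258721) (tt N24215 F258722) (tt N25679 (iv F261514)))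
theorem Q24897 : ∀ i, i < 24897 → P i := stepQ 24896 Q24896 (allL N24896 (tt N25685 (iv F261545)) (tt N26065 D58835) (tt N23724 (iv D57666)) (tt N25674 (iv F261472)) (tt N26066 D58836) (tt N23744 F258723) (tt N23725 F258724) (tt N26063 (iv F263388)) (tt N25866 (iv F262532)) (tt N25683 (iv F261538)))
theorem Q24898 : ∀ i, i < 24898 → P i := stepQ 24897 Q24897 (allL N24897 (tt N25686 (iv F261552)) (tt N23786 F258725) (tt N26066 (iv F263398)) (tt N23730 F258726) (tt N23724 (iv D57667)) (tt N25704 (iv F261663)) (tt N23726 F258727) (tt N26064 (iv F263393)) (tt N25867 (iv F262539)) (tt N25684 (iv F261544)))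
theorem Q24899 : ∀ i, i < 24899 → P i := stepQ 24898 Q24898 (allL N24898 (tt N26067 D58837) (tt N23725 (iv D57668)) (tt N25651 (iv F261329)) (tt N26061 (iv F263375)) (tt N26068 D58838) (tt N23727 F258728) (tt N26065 (iv F263397)) (tt N26056 (iv F263353)) (tt N25868 (iv F262541)) (tt N26048 (iv F263315)))
theorem Q24900 : ∀ i, i < 24900 → P i := stepQ 24899 Q24899 (allL N24899 (tt N26033 (iv F263247)) (tt N26068 (iv F263401)) (tt N23726 F258729) (tt N26069 D58839) (tt N23725 (iv D57669)) (tt N23924 F258730) (tt N26066 (iv F263399)) (tt N26057 (iv F263357)) (tt N25869 (iv F262544)) (tt N26049 (iv F263320)))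
theorem Q24901 : ∀ i, i < 24901 → P i := stepQ 24900 Q24900 (allL N24900 (tt N23727 (iv D57670)) (tt N26034 (iv F263251)) (tt N25653 (iv F261337)) (tt N26062 (iv F263382)) (tt N23925 F258731) (tt N26067 (iv F263400)) (tt N24270 F258732) (tt N26058 (iv F263359)) (tt N25870 (iv F262547)) (tt N26050 (iv F263325)))
theorem Q24902 : ∀ i, i < 24902 → P i := stepQ 24901 Q24901 (allL N24901 (tt N24235 F258733) (tt N23793 F258734) (tt N25774 (iv F262036)) (tt N26064 (iv F263392)) (tt N23729 (iv D57671)) (tt N25708 (iv F261683)) (tt N25596 (iv F261005)) (tt N23730 F258735) (tt N23733 F258736) (tt N25680 (iv F261521)))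
theorem Q24903 : ∀ i, i < 24903 → P i := stepQ 24902 Q24902 (allL N24902 (tt N25639 (iv F261267)) (tt N25806 (iv F262197)) (tt N26069 (iv F263403)) (tt N23731 (iv D57672)) (tt N24087 F258737) (tt N23948 F258738) (tt N25794 (iv F262138)) (tt N24301 F258739) (tt N26070 D58840) (tt N24129 F258740))
theorem Q24904 : ∀ i, i < 24904 → P i := stepQ 24903 Q24903 (allL N24903 (tt N24185 F258741) (tt N25665 (iv F261408)) (tt N23973 F258742) (tt N24162 F258743) (tt N24903 F258744) (tt N23732 (iv D57673)) (tt N23955 F258745) (tt N25578 (iv F260888)) (tt N26039 (iv F263276)) (tt N24903 F258746))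
theorem Q24905 : ∀ i, i < 24905 → P i := stepQ 24904 Q24904 (allL N24904 (tt N25670 (iv F261444)) (tt N25822 (iv F262272)) (tt N25814 (iv F262224)) (tt N26070 (iv F263408)) (tt N24388 F258747) (tt N23963 F258748) (tt N25771 (iv F262022)) (tt N24394 F258749) (tt N23734 (iv D57674)) (tt N26071 D58841))
theorem Q24906 : ∀ i, i < 24906 → P i := stepQ 24905 Q24905 (allL N24905 (tt N25673 (iv F261463)) (tt N23756 F258750) (tt N26072 D58842) (tt N23735 (iv D57675)) (tt N24252 F258751) (tt N25679 (iv F261511)) (tt N24254 F258752) (tt N23736 F258753) (tt N24247 F258754) (tt N23740 F258755))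
theorem Q24907 : ∀ i, i < 24907 → P i := stepQ 24906 Q24906 (allL N24906 (tt N25674 (iv F261471)) (tt N26073 D58843) (tt N23736 (iv D57676)) (tt N25685 (iv F261546)) (tt N24263 F258756) (tt N25683 (iv F261536)) (tt N24244 F258757) (tt N26072 (iv F263422)) (tt N26051 (iv F263331)) (tt N23744 F258758))
theorem Q24908 : ∀ i, i < 24908 → P i := stepQ 24907 Q24907 (allL N24907 (tt N25678 (iv F261502)) (tt N23767 F258759) (tt N26074 D58844) (tt N23737 (iv D57677)) (tt N25880 (iv F262597)) (tt N25847 (iv F262434)) (tt N23740 F258760) (tt N24257 F258761) (tt N25825 (iv F262300)) (tt N24254 F258762))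
theorem Q24909 : ∀ i, i < 24909 → P i := stepQ 24908 Q24908 (allL N24908 (tt N25679 (iv F261509)) (tt N24222 F258763) (tt N26075 D58845) (tt N23738 (iv D57678)) (tt N26076 D58846) (tt N25673 (iv F261466)) (tt N25982 (iv F263055)) (tt N23742 F258764) (tt N26043 (iv F263291)) (tt N24217 F258765))
theorem Q24910 : ∀ i, i < 24910 → P i := stepQ 24909 Q24909 (allL N24909 (tt N25680 (iv F261515)) (tt N24236 F258766) (tt N25821 (iv F262265)) (tt N26076 (iv F263436)) (tt N23739 (iv D57679)) (tt N25763 (iv F261978)) (tt N26021 (iv F263189)) (tt N23743 F258767) (tt N24909 F258768) (tt N24235 F258769))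
theorem Q24911 : ∀ i, i < 24911 → P i := stepQ 24910 Q24910 (allL N24910 (tt N25681 (iv F261522)) (tt N26077 D58847) (tt N23740 (iv D57680)) (tt N26075 (iv F263432)) (tt N26026 (iv F263214)) (tt N26063 (iv F263387)) (tt N26074 (iv F263429)) (tt N23744 F258770) (tt N25873 (iv F262563)) (tt N26072 (iv F263424)))
theorem Q24912 : ∀ i, i < 24912 → P i := stepQ 24911 Q24911 (allL N24911 (tt N25682 (iv F261527)) (tt N25688 (iv F261564)) (tt N26078 D58848) (tt N23741 (iv D57681)) (tt N26079 D58849) (tt N24242 F258771) (tt N24264 F258772) (tt N26043 (iv F263290)) (tt N23742 F258773) (tt N24249 F258774))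
theorem Q24913 : ∀ i, i < 24913 → P i := stepQ 24912 Q24912 (allL N24912 (tt N25683 (iv F261534)) (tt N26080 D58850) (tt N23742 (iv D57682)) (tt N23744 F258775) (tt N26081 D58851) (tt N25674 (iv F261474)) (tt N24266 F258776) (tt N26075 (iv F263433)) (tt N26078 (iv F263443)) (tt N25685 (iv F261551)))
theorem Q24914 : ∀ i, i < 24914 → P i := stepQ 24913 Q24913 (allL N24913 (tt N25684 (iv F261539)) (tt N25695 (iv F261609)) (tt N26081 (iv F263452)) (tt N23743 F258777) (tt N23742 (iv D57683)) (tt N25757 (iv F261949)) (tt N24267 F258778) (tt N26076 (iv F263437)) (tt N26079 (iv F263448)) (tt N25686 (iv F261559)))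
theorem Q24915 : ∀ i, i < 24915 → P i := stepQ 24914 Q24914 (allL N24914 (tt N26082 D58852) (tt N23744 (iv D57684)) (tt N23787 F258779) (tt N26080 (iv F263450)) (tt N26029 (iv F263231)) (tt N26065 (iv F263396)) (tt N24269 F258780) (tt N26077 (iv F263440)) (tt N25879 (iv F262594)) (tt N26073 (iv F263428)))
theorem Q24916 : ∀ i, i < 24916 → P i := stepQ 24915 Q24915 (allL N24915 (tt N23810 F258781) (tt N24246 F258782) (tt N24113 F258783) (tt N26083 D58853) (tt N24915 F258784) (tt N23746 F258785) (tt N25967 (iv F262998)) (tt N23750 F258786) (tt N23745 (iv D57685)) (tt N25874 (iv F262571)))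
theorem Q24917 : ∀ i, i < 24917 → P i := stepQ 24916 Q24916 (allL N24916 (tt N23811 F258787) (tt N24247 F258788) (tt N26084 D58854) (tt N23746 (iv D57686)) (tt N24254 F258789) (tt N26083 (iv F263458)) (tt N24252 F258790) (tt N23751 F258791) (tt N23756 F258792) (tt N25880 (iv F262601)))
theorem Q24918 : ∀ i, i < 24918 → P i := stepQ 24917 Q24917 (allL N24917 (tt N23822 F258793) (tt N24102 F258794) (tt N23750 F258795) (tt N26085 D58855) (tt N24917 F258796) (tt N23748 F258797) (tt N25602 (iv F261050)) (tt N24113 F258798) (tt N23747 (iv D57687)) (tt N25882 (iv F262617)))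
theorem Q24919 : ∀ i, i < 24919 → P i := stepQ 24918 Q24918 (allL N24918 (tt N23823 F258799) (tt N24104 F258800) (tt N26086 D58856) (tt N23748 (iv D57688)) (tt N26087 D58857) (tt N26085 (iv F263469)) (tt N24274 F258801) (tt N24115 F258802) (tt N24099 F258803) (tt N25883 (iv F262622)))
theorem Q24920 : ∀ i, i < 24920 → P i := stepQ 24919 Q24919 (allL N24919 (tt N23824 F258804) (tt N24148 F258805) (tt N24184 F258806) (tt N26087 (iv F263479)) (tt N23749 (iv D57689)) (tt N26088 D58858) (tt N24275 F258807) (tt N24152 F258808) (tt N23969 F258809) (tt N25884 (iv F262629)))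
theorem Q24921 : ∀ i, i < 24921 → P i := stepQ 24920 Q24920 (allL N24920 (tt N23826 F258810) (tt N25682 (iv F261528)) (tt N26089 D58859) (tt N23750 (iv D57690)) (tt N26090 D58860) (tt N23751 F258811) (tt N25605 (iv F261066)) (tt N26083 (iv F263459)) (tt N23757 F258812) (tt N25885 (iv F262635)))
theorem Q24922 : ∀ i, i < 24922 → P i := stepQ 24921 Q24921 (allL N24921 (tt N23827 F258813) (tt N26091 D58861) (tt N23751 (iv D57691)) (tt N26086 (iv F263473)) (tt N24265 F258814) (tt N26089 (iv F263490)) (tt N24276 F258815) (tt N26084 (iv F263465)) (tt N23758 F258816) (tt N25886 (iv F262640)))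
theorem Q24923 : ∀ i, i < 24923 → P i := stepQ 24922 Q24922 (allL N24922 (tt N23830 F258817) (tt N24253 F258818) (tt N23899 F258819) (tt N26092 D58862) (tt N24922 F258820) (tt N23753 F258821) (tt N25939 (iv F262888)) (tt N24260 F258822) (tt N23752 (iv D57692)) (tt N23766 F258823))
theorem Q24924 : ∀ i, i < 24924 → P i := stepQ 24923 Q24923 (allL N24923 (tt N23831 F258824) (tt N24254 F258825) (tt N26093 D58863) (tt N23753 (iv D57693)) (tt N24247 F258826) (tt N26092 (iv F263501)) (tt N23756 F258827) (tt N24261 F258828) (tt N24252 F258829) (tt N23767 F258830))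
theorem Q24925 : ∀ i, i < 24925 → P i := stepQ 24924 Q24924 (allL N24924 (tt N23837 F258831) (tt N25675 (iv F261479)) (tt N24351 F258832) (tt N26094 D58864) (tt N23759 F258833) (tt N25939 (iv F262887)) (tt N23755 F258834) (tt N25611 (iv F261109)) (tt N23754 (iv D57694)) (tt N23773 F258835))
theorem Q24926 : ∀ i, i < 24926 → P i := stepQ 24925 Q24925 (allL N24925 (tt N23838 F258836) (tt N25679 (iv F261510)) (tt N26095 D58865) (tt N23755 (iv D57695)) (tt N26096 D58866) (tt N23756 F258837) (tt N26094 (iv F263513)) (tt N23757 F258838) (tt N26083 (iv F263460)) (tt N23774 F258839))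
theorem Q24927 : ∀ i, i < 24927 → P i := stepQ 24926 Q24926 (allL N24926 (tt N23839 F258840) (tt N26097 D58867) (tt N23756 (iv D57696)) (tt N24349 F258841) (tt N24256 F258842) (tt N26095 (iv F263517)) (tt N26093 (iv F263508)) (tt N23758 F258843) (tt N26084 (iv F263466)) (tt N23775 F258844))
theorem Q24928 : ∀ i, i < 24928 → P i := stepQ 24927 Q24927 (allL N24927 (tt N23851 F258845) (tt N26098 D58868) (tt N23757 (iv D57697)) (tt N24377 F258846) (tt N26099 D58869) (tt N23758 F258847) (tt N25619 (iv F261153)) (tt N26095 (iv F263518)) (tt N26089 (iv F263491)) (tt N23785 F258848))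
theorem Q24929 : ∀ i, i < 24929 → P i := stepQ 24928 Q24928 (allL N24928 (tt N23852 F258849) (tt N25684 (iv F261540)) (tt N26099 (iv F263533)) (tt N23763 F258850) (tt N23757 (iv D57698)) (tt N24267 F258851) (tt N25620 (iv F261159)) (tt N26096 (iv F263523)) (tt N26090 (iv F263495)) (tt N23786 F258852))
theorem Q24930 : ∀ i, i < 24930 → P i := stepQ 24929 Q24929 (allL N24929 (tt N26100 D58870) (tt N23758 (iv D57699)) (tt N26073 (iv F263425)) (tt N24376 F258853) (tt N24268 F258854) (tt N26098 (iv F263530)) (tt N24278 F258855) (tt N26097 (iv F263527)) (tt N26091 (iv F263498)) (tt N23787 F258856))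
theorem Q24931 : ∀ i, i < 24931 → P i := stepQ 24930 Q24930 (allL N24930 (tt N23857 F258857) (tt N25676 (iv F261487)) (tt N26101 D58871) (tt N23759 (iv D57700)) (tt N26102 D58872) (tt N24930 F258858) (tt N23760 F258859) (tt N25623 (iv F261176)) (tt N24930 F258860) (tt N23791 F258861))
theorem Q24932 : ∀ i, i < 24932 → P i := stepQ 24931 Q24931 (allL N24931 (tt N23858 F258862) (tt N25622 (iv F261166)) (tt N23760 (iv D57701)) (tt N24044 F258863) (tt N26103 D58873) (tt N23761 F258864) (tt N26101 (iv F263544)) (tt N23762 F258865) (tt N24931 F258866) (tt N23792 F258867))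
theorem Q24933 : ∀ i, i < 24933 → P i := stepQ 24932 Q24932 (allL N24932 (tt N23859 F258868) (tt N25680 (iv F261516)) (tt N26103 (iv F263552)) (tt N26096 (iv F263521)) (tt N23760 (iv D57702)) (tt N24272 F258869) (tt N26102 (iv F263548)) (tt N23763 F258870) (tt N24932 F258871) (tt N23793 F258872))
theorem Q24934 : ∀ i, i < 24934 → P i := stepQ 24933 Q24933 (allL N24933 (tt N23867 F258873) (tt N25618 (iv F261144)) (tt N23763 F258874) (tt N26104 D58874) (tt N23762 (iv D57703)) (tt N24046 F258875) (tt N25626 (iv F261196)) (tt N26103 (iv F263554)) (tt N24933 F258876) (tt N23796 F258877))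
theorem Q24935 : ∀ i, i < 24935 → P i := stepQ 24934 Q24934 (allL N24934 (tt N23872 F258878) (tt N23908 F258879) (tt N23766 F258880) (tt N26105 D58875) (tt N24934 F258881) (tt N23765 F258882) (tt N25921 (iv F262807)) (tt N24120 F258883) (tt N23764 (iv D57704)) (tt N23899 F258884))
theorem Q24936 : ∀ i, i < 24936 → P i := stepQ 24935 Q24935 (allL N24935 (tt N23873 F258885) (tt N23910 F258886) (tt N26106 D58876) (tt N23765 (iv D57705)) (tt N24304 F258887) (tt N26105 (iv F263563)) (tt N23772 F258888) (tt N24279 F258889) (tt N25800 (iv F262175)) (tt N23900 F258890))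
theorem Q24937 : ∀ i, i < 24937 → P i := stepQ 24936 Q24936 (allL N24936 (tt N23876 F258891) (tt N25847 (iv F262433)) (tt N26107 D58877) (tt N23766 (iv D57706)) (tt N26108 D58878) (tt N23767 F258892) (tt N25940 (iv F262894)) (tt N24280 F258893) (tt N25845 (iv F262423)) (tt N26092 (iv F263504)))
theorem Q24938 : ∀ i, i < 24938 → P i := stepQ 24937 Q24937 (allL N24937 (tt N23877 F258894) (tt N26109 D58879) (tt N23767 (iv D57707)) (tt N26106 (iv F263568)) (tt N26030 (iv F263236)) (tt N26107 (iv F263574)) (tt N23775 F258895) (tt N24281 F258896) (tt N25900 (iv F262713)) (tt N26093 (iv F263511)))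
theorem Q24939 : ∀ i, i < 24939 → P i := stepQ 24938 Q24938 (allL N24938 (tt N23884 F258897) (tt N24319 F258898) (tt N25765 (iv F261990)) (tt N26110 D58880) (tt N24938 F258899) (tt N23769 F258900) (tt N25922 (iv F262815)) (tt N23780 F258901) (tt N23768 (iv D57708)) (tt N24313 F258902))
theorem Q24940 : ∀ i, i < 24940 → P i := stepQ 24939 Q24939 (allL N24939 (tt N23886 F258903) (tt N24321 F258904) (tt N26111 D58881) (tt N23769 (iv D57709)) (tt N24308 F258905) (tt N26110 (iv F263583)) (tt N25800 (iv F262173)) (tt N23782 F258906) (tt N23772 F258907) (tt N24314 F258908))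
theorem Q24941 : ∀ i, i < 24941 → P i := stepQ 24940 Q24940 (allL N24940 (tt N23888 F258909) (tt N24362 F258910) (tt N23773 F258911) (tt N26112 D58882) (tt N23788 F258912) (tt N25921 (iv F262806)) (tt N23771 F258913) (tt N25599 (iv F261028)) (tt N23770 (iv D57710)) (tt N24351 F258914))
theorem Q24942 : ∀ i, i < 24942 → P i := stepQ 24941 Q24941 (allL N24941 (tt N23889 F258915) (tt N24364 F258916) (tt N26113 D58883) (tt N23771 (iv D57711)) (tt N26114 D58884) (tt N23772 F258917) (tt N26112 (iv F263594)) (tt N23783 F258918) (tt N26110 (iv F263585)) (tt N24350 F258919))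
theorem Q24943 : ∀ i, i < 24943 → P i := stepQ 24942 Q24942 (allL N24942 (tt N23890 F258920) (tt N26115 D58885) (tt N23772 (iv D57712)) (tt N23775 F258921) (tt N24309 F258922) (tt N26113 (iv F263598)) (tt N26106 (iv F263570)) (tt N23784 F258923) (tt N26111 (iv F263590)) (tt N24349 F258924))
theorem Q24944 : ∀ i, i < 24944 → P i := stepQ 24943 Q24943 (allL N24943 (tt N23893 F258925) (tt N25979 (iv F263038)) (tt N26116 D58886) (tt N23773 (iv D57713)) (tt N26117 D58887) (tt N25940 (iv F262893)) (tt N23774 F258926) (tt N25632 (iv F261233)) (tt N25902 (iv F262722)) (tt N26094 (iv F263514)))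
theorem Q24945 : ∀ i, i < 24945 → P i := stepQ 24944 Q24944 (allL N24944 (tt N23894 F258927) (tt N26118 D58888) (tt N23774 (iv D57714)) (tt N26113 (iv F263597)) (tt N26119 D58889) (tt N23775 F258928) (tt N26116 (iv F263613)) (tt N23785 F258929) (tt N25903 (iv F262727)) (tt N26095 (iv F263519)))
theorem Q24946 : ∀ i, i < 24946 → P i := stepQ 24945 Q24945 (allL N24945 (tt N23895 F258930) (tt N26064 (iv F263391)) (tt N26119 (iv F263620)) (tt N23793 F258931) (tt N23774 (iv D57715)) (tt N25862 (iv F262512)) (tt N26117 (iv F263616)) (tt N23786 F258932) (tt N25865 (iv F262527)) (tt N26096 (iv F263524)))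
theorem Q24947 : ∀ i, i < 24947 → P i := stepQ 24946 Q24946 (allL N24946 (tt N26120 D58890) (tt N23775 (iv D57716)) (tt N26077 (iv F263439)) (tt N26115 (iv F263608)) (tt N26031 (iv F263241)) (tt N26118 (iv F263617)) (tt N26109 (iv F263579)) (tt N23787 F258933) (tt N25904 (iv F262729)) (tt N26097 (iv F263528)))
theorem Q24948 : ∀ i, i < 24948 → P i := stepQ 24947 Q24947 (allL N24947 (tt N25636 (iv F261247)) (tt N23888 F258934) (tt N23777 F258935) (tt N26121 D58891) (tt N23802 F258936) (tt N24085 F258937) (tt N23880 F258938) (tt N24298 F258939) (tt N23776 (iv D57717)) (tt N24084 F258940))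
theorem Q24949 : ∀ i, i < 24949 → P i := stepQ 24948 Q24948 (allL N24948 (tt N25747 (iv F261894)) (tt N23782 F258941) (tt N26122 D58892) (tt N23777 (iv D57718)) (tt N24314 F258942) (tt N25691 (iv F261584)) (tt N24286 F258943) (tt N24321 F258944) (tt N23778 F258945) (tt N24308 F258946))
theorem Q24950 : ∀ i, i < 24950 → P i := stepQ 24949 Q24949 (allL N24949 (tt N25751 (iv F261914)) (tt N26123 D58893) (tt N23778 (iv D57719)) (tt N25694 (iv F261603)) (tt N24316 F258947) (tt N25692 (iv F261591)) (tt N24287 F258948) (tt N24367 F258949) (tt N26122 (iv F263633)) (tt N24345 F258950))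
theorem Q24951 : ∀ i, i < 24951 → P i := stepQ 24950 Q24950 (allL N24950 (tt N23908 F258951) (tt N24064 F258952) (tt N25731 (iv F261809)) (tt N26124 D58894) (tt N24950 F258953) (tt N23781 F258954) (tt N25640 (iv F261279)) (tt N24313 F258955) (tt N23779 (iv D57720)) (tt N23780 F258956))
theorem Q24952 : ∀ i, i < 24952 → P i := stepQ 24951 Q24951 (allL N24951 (tt N23909 F258957) (tt N25691 (iv F261583)) (tt N26125 D58895) (tt N23780 (iv D57721)) (tt N26126 D58896) (tt N23782 F258958) (tt N25641 (iv F261285)) (tt N26110 (iv F263584)) (tt N23783 F258959) (tt N26124 (iv F263645)))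
theorem Q24953 : ∀ i, i < 24953 → P i := stepQ 24952 Q24952 (allL N24952 (tt N23910 F258960) (tt N24308 F258961) (tt N26127 D58897) (tt N23781 (iv D57722)) (tt N24321 F258962) (tt N26124 (iv F263642)) (tt N24288 F258963) (tt N24314 F258964) (tt N24307 F258965) (tt N23782 F258966))
theorem Q24954 : ∀ i, i < 24954 → P i := stepQ 24953 Q24953 (allL N24953 (tt N23911 F258967) (tt N26128 D58898) (tt N23782 (iv D57723)) (tt N25780 (iv F262067)) (tt N24322 F258968) (tt N26125 (iv F263647)) (tt N24289 F258969) (tt N26111 (iv F263589)) (tt N23784 F258970) (tt N26127 (iv F263658)))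
theorem Q24955 : ∀ i, i < 24955 → P i := stepQ 24954 Q24954 (allL N24954 (tt N23915 F258971) (tt N26129 D58899) (tt N23783 (iv D57724)) (tt N23785 F258972) (tt N26130 D58900) (tt N23784 F258973) (tt N25645 (iv F261305)) (tt N26113 (iv F263599)) (tt N26125 (iv F263648)) (tt N24377 F258974))
theorem Q24956 : ∀ i, i < 24956 → P i := stepQ 24955 Q24955 (allL N24955 (tt N23916 F258975) (tt N25693 (iv F261596)) (tt N26130 (iv F263666)) (tt N23795 F258976) (tt N23783 (iv D57725)) (tt N24326 F258977) (tt N25646 (iv F261310)) (tt N26114 (iv F263605)) (tt N26126 (iv F263652)) (tt N24374 F258978))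
theorem Q24957 : ∀ i, i < 24957 → P i := stepQ 24956 Q24956 (allL N24956 (tt N26131 D58901) (tt N23784 (iv D57726)) (tt N26123 (iv F263635)) (tt N23787 F258979) (tt N24327 F258980) (tt N26129 (iv F263663)) (tt N24290 F258981) (tt N26115 (iv F263610)) (tt N26128 (iv F263661)) (tt N24376 F258982))
theorem Q24958 : ∀ i, i < 24958 → P i := stepQ 24957 Q24957 (allL N24957 (tt N26132 D58902) (tt N23785 (iv D57727)) (tt N26065 (iv F263395)) (tt N26129 (iv F263662)) (tt N26133 D58903) (tt N23787 F258983) (tt N25651 (iv F261331)) (tt N26118 (iv F263618)) (tt N25914 (iv F262769)) (tt N26098 (iv F263531)))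
theorem Q24959 : ∀ i, i < 24959 → P i := stepQ 24958 Q24958 (allL N24958 (tt N23924 F258984) (tt N26133 (iv F263676)) (tt N23786 F258985) (tt N26134 D58904) (tt N23785 (iv D57728)) (tt N26033 (iv F263249)) (tt N25652 (iv F261335)) (tt N26119 (iv F263621)) (tt N25915 (iv F262772)) (tt N26099 (iv F263535)))
theorem Q24960 : ∀ i, i < 24960 → P i := stepQ 24959 Q24959 (allL N24959 (tt N23787 (iv D57729)) (tt N23925 F258986) (tt N26082 (iv F263454)) (tt N26131 (iv F263670)) (tt N26034 (iv F263253)) (tt N26132 (iv F263675)) (tt N24291 F258987) (tt N26120 (iv F263623)) (tt N25916 (iv F262775)) (tt N26100 (iv F263540)))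
theorem Q24961 : ∀ i, i < 24961 → P i := stepQ 24960 Q24960 (allL N24960 (tt N23928 F258988) (tt N24397 F258989) (tt N26135 D58905) (tt N23788 (iv D57730)) (tt N26136 D58906) (tt N24960 F258990) (tt N23789 F258991) (tt N25600 (iv F261034)) (tt N24960 F258992) (tt N24384 F258993))
theorem Q24962 : ∀ i, i < 24962 → P i := stepQ 24961 Q24961 (allL N24961 (tt N23929 F258994) (tt N25656 (iv F261353)) (tt N23789 (iv D57731)) (tt N23792 F258995) (tt N26137 D58907) (tt N23790 F258996) (tt N26135 (iv F263682)) (tt N23794 F258997) (tt N24961 F258998) (tt N24044 F258999))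
theorem Q24963 : ∀ i, i < 24963 → P i := stepQ 24962 Q24962 (allL N24962 (tt N23930 F259000) (tt N24399 F259001) (tt N26137 (iv F263691)) (tt N26114 (iv F263603)) (tt N23789 (iv D57732)) (tt N24066 F259002) (tt N26136 (iv F263687)) (tt N23795 F259003) (tt N24962 F259004) (tt N24383 F259005))
theorem Q24964 : ∀ i, i < 24964 → P i := stepQ 24963 Q24963 (allL N24963 (tt N23932 F259006) (tt N25657 (iv F261360)) (tt N23791 (iv D57733)) (tt N26135 (iv F263680)) (tt N26138 D58908) (tt N24963 F259007) (tt N23792 F259008) (tt N25658 (iv F261369)) (tt N23797 F259009) (tt N26101 (iv F263546)))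
theorem Q24965 : ∀ i, i < 24965 → P i := stepQ 24964 Q24964 (allL N24964 (tt N23933 F259010) (tt N25596 (iv F261002)) (tt N26138 (iv F263697)) (tt N26117 (iv F263615)) (tt N23791 (iv D57734)) (tt N26139 D58909) (tt N23793 F259011) (tt N25659 (iv F261374)) (tt N23798 F259012) (tt N26102 (iv F263550)))
theorem Q24966 : ∀ i, i < 24966 → P i := stepQ 24965 Q24965 (allL N24965 (tt N23935 F259013) (tt N25631 (iv F261224)) (tt N23793 F259014) (tt N26140 D58910) (tt N23792 (iv D57735)) (tt N24275 F259015) (tt N26138 (iv F263698)) (tt N23796 F259016) (tt N23799 F259017) (tt N26103 (iv F263556)))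
theorem Q24967 : ∀ i, i < 24967 → P i := stepQ 24966 Q24966 (allL N24966 (tt N23941 F259018) (tt N25662 (iv F261390)) (tt N23795 F259019) (tt N26141 D58911) (tt N23794 (iv D57736)) (tt N24014 F259020) (tt N25661 (iv F261386)) (tt N26137 (iv F263693)) (tt N24966 F259021) (tt N24039 F259022))
theorem Q24968 : ∀ i, i < 24968 → P i := stepQ 24967 Q24967 (allL N24967 (tt N23948 F259023) (tt N25649 (iv F261319)) (tt N26134 (iv F263678)) (tt N23796 (iv D57737)) (tt N26141 (iv F263708)) (tt N25639 F261273) (tt N25663 (iv F261398)) (tt N26140 (iv F263706)) (tt N26142 D58912) (tt N26104 (iv F263560)))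
theorem Q24969 : ∀ i, i < 24969 → P i := stepQ 24968 Q24968 (allL N24968 (tt N23954 F259024) (tt N25668 (iv F261429)) (tt N23798 F259025) (tt N26017 (iv F263166)) (tt N23797 (iv D57738)) (tt N26143 D58913) (tt N23799 F259026) (tt N25664 (iv F261403)) (tt N26138 (iv F263699)) (tt N24968 F259027))
theorem Q24970 : ∀ i, i < 24970 → P i := stepQ 24969 Q24969 (allL N24969 (tt N23955 F259028) (tt N25578 (iv F260883)) (tt N26143 (iv F263715)) (tt N24186 F259029) (tt N24969 F259030) (tt N23798 (iv D57739)) (tt N24185 F259031) (tt N25665 (iv F261413)) (tt N26139 (iv F263703)) (tt N24969 F259032))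
theorem Q24971 : ∀ i, i < 24971 → P i := stepQ 24970 Q24970 (allL N24970 (tt N23963 F259033) (tt N25672 (iv F261458)) (tt N25920 (iv F262798)) (tt N26142 (iv F263712)) (tt N24970 F259034) (tt N25670 F261450) (tt N25667 (iv F261426)) (tt N26025 (iv F263211)) (tt N23800 (iv D57740)) (tt N26144 D58914))
theorem Q24972 : ∀ i, i < 24972 → P i := stepQ 24971 Q24971 (allL N24971 (tt N25669 (iv F261436)) (tt N23928 F259035) (tt N24395 F259036) (tt N23802 (iv D57741)) (tt N26071 (iv F263414)) (tt N24971 F259037) (tt N23926 F259038) (tt N24393 F259039) (tt N24971 F259040) (tt N24388 F259041))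
theorem Q24973 : ∀ i, i < 24973 → P i := stepQ 24972 Q24972 (allL N24972 (tt N24252 F259042) (tt N24328 F259043) (tt N26145 D58915) (tt N23803 (iv D57742)) (tt N25673 (iv F261465)) (tt N25755 (iv F261935)) (tt N23811 F259044) (tt N24090 F259045) (tt N23831 F259046) (tt N24133 F259047))
theorem Q24974 : ∀ i, i < 24974 → P i := stepQ 24973 Q24973 (allL N24973 (tt N24031 F259048) (tt N23807 F259049) (tt N25709 (iv F261690)) (tt N26146 D58916) (tt N23805 F259050) (tt N24318 F259051) (tt N23843 F259052) (tt N23816 F259053) (tt N23804 (iv D57743)) (tt N25718 (iv F261754)))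
theorem Q24975 : ∀ i, i < 24975 → P i := stepQ 24974 Q24974 (allL N24974 (tt N24113 F259054) (tt N24318 F259055) (tt N23810 F259056) (tt N26147 D58917) (tt N24974 F259057) (tt N23807 F259058) (tt N24313 F259059) (tt N23822 F259060) (tt N23806 (iv D57744)) (tt N25922 (iv F262817)))
theorem Q24976 : ∀ i, i < 24976 → P i := stepQ 24975 Q24975 (allL N24975 (tt N24115 F259061) (tt N26146 (iv F263730)) (tt N26148 D58918) (tt N23807 (iv D57745)) (tt N25819 (iv F262256)) (tt N26147 (iv F263737)) (tt N25785 (iv F262089)) (tt N23823 F259062) (tt N24112 F259063) (tt N25923 (iv F262821)))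
theorem Q24977 : ∀ i, i < 24977 → P i := stepQ 24976 Q24976 (allL N24976 (tt N25967 (iv F262993)) (tt N25715 (iv F261730)) (tt N24313 F259064) (tt N26149 D58919) (tt N24976 F259065) (tt N24312 F259066) (tt N23810 F259067) (tt N25731 (iv F261813)) (tt N23809 (iv D57746)) (tt N25765 (iv F261995)))
theorem Q24978 : ∀ i, i < 24978 → P i := stepQ 24977 Q24977 (allL N24977 (tt N26083 (iv F263456)) (tt N25716 (iv F261738)) (tt N26150 D58920) (tt N23810 (iv D57747)) (tt N26151 D58921) (tt N23811 F259068) (tt N26149 (iv F263746)) (tt N23826 F259069) (tt N23838 F259070) (tt N25924 (iv F262826)))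
theorem Q24979 : ∀ i, i < 24979 → P i := stepQ 24978 Q24978 (allL N24978 (tt N26084 (iv F263461)) (tt N26152 D58922) (tt N23811 (iv D57748)) (tt N26148 (iv F263742)) (tt N26036 (iv F263261)) (tt N26150 (iv F263748)) (tt N26145 (iv F263725)) (tt N23827 F259071) (tt N23839 F259072) (tt N25925 (iv F262830)))
theorem Q24980 : ∀ i, i < 24980 → P i := stepQ 24979 Q24979 (allL N24979 (tt N23816 F259073) (tt N24025 F259074) (tt N25718 (iv F261749)) (tt N26153 D58923) (tt N23813 F259075) (tt N25608 (iv F261086)) (tt N24292 F259076) (tt N24031 F259077) (tt N23812 (iv D57749)) (tt N25709 (iv F261695)))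
theorem Q24981 : ∀ i, i < 24981 → P i := stepQ 24980 Q24980 (allL N24980 (tt N23817 F259078) (tt N24050 F259079) (tt N26154 D58924) (tt N23813 (iv D57750)) (tt N26155 D58925) (tt N24980 F259080) (tt N24293 F259081) (tt N24053 F259082) (tt N23970 F259083) (tt N25710 (iv F261702)))
theorem Q24982 : ∀ i, i < 24982 → P i := stepQ 24981 Q24981 (allL N24981 (tt N24022 F259084) (tt N23820 F259085) (tt N23849 F259086) (tt N26156 D58926) (tt N23861 F259087) (tt N24323 F259088) (tt N24294 F259089) (tt N23846 F259090) (tt N23814 (iv D57751)) (tt N23913 F259091))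
theorem Q24983 : ∀ i, i < 24983 → P i := stepQ 24982 Q24982 (allL N24982 (tt N25608 (iv F261082)) (tt N23822 F259092) (tt N25614 (iv F261122)) (tt N26157 D58927) (tt N24982 F259093) (tt N23816 F259094) (tt N25711 (iv F261708)) (tt N24318 F259095) (tt N23815 (iv D57752)) (tt N25601 (iv F261044)))
theorem Q24984 : ∀ i, i < 24984 → P i := stepQ 24983 Q24983 (allL N24983 (tt N26153 (iv F263756)) (tt N23823 F259096) (tt N26158 D58928) (tt N23816 (iv D57753)) (tt N26159 D58929) (tt N26157 (iv F263780)) (tt N24295 F259097) (tt N26146 (iv F263733)) (tt N26156 (iv F263777)) (tt N25926 (iv F262833)))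
theorem Q24985 : ∀ i, i < 24985 → P i := stepQ 24984 Q24984 (allL N24984 (tt N26154 (iv F263761)) (tt N25658 (iv F261366)) (tt N23817 (iv D57754)) (tt N25721 (iv F261765)) (tt N26160 D58930) (tt N24984 F259098) (tt N24296 F259099) (tt N25657 (iv F261363)) (tt N23971 F259100) (tt N25927 (iv F262838)))
theorem Q24986 : ∀ i, i < 24986 → P i := stepQ 24985 Q24985 (allL N24985 (tt N26155 (iv F263767)) (tt N23824 F259101) (tt N26160 (iv F263787)) (tt N26159 (iv F263785)) (tt N23817 (iv D57755)) (tt N26161 D58931) (tt N24297 F259102) (tt N25778 (iv F262058)) (tt N23972 F259103) (tt N25928 (iv F262842)))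
theorem Q24987 : ∀ i, i < 24987 → P i := stepQ 24986 Q24986 (allL N24986 (tt N24098 F259104) (tt N24323 F259105) (tt N23843 F259106) (tt N26162 D58932) (tt N24137 F259107) (tt N23820 F259108) (tt N25709 (iv F261693)) (tt N24111 F259109) (tt N23818 (iv D57756)) (tt N24292 F259110))
theorem Q24988 : ∀ i, i < 24988 → P i := stepQ 24987 Q24987 (allL N24987 (tt N24073 F259111) (tt N23913 F259112) (tt N23844 F259113) (tt N26163 D58933) (tt N23937 F259114) (tt N24292 F259115) (tt N24298 F259116) (tt N23901 F259117) (tt N23819 (iv D57757)) (tt N23820 F259118))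
theorem Q24989 : ∀ i, i < 24989 → P i := stepQ 24988 Q24988 (allL N24988 (tt N24099 F259119) (tt N26156 (iv F263773)) (tt N26164 D58934) (tt N23820 (iv D57758)) (tt N25817 (iv F262245)) (tt N26162 (iv F263795)) (tt N24299 F259120) (tt N24112 F259121) (tt N23823 F259122) (tt N26163 (iv F263804)))
theorem Q24990 : ∀ i, i < 24990 → P i := stepQ 24989 Q24989 (allL N24989 (tt N25602 (iv F261045)) (tt N25711 (iv F261704)) (tt N23825 F259123) (tt N26165 D58935) (tt N24989 F259124) (tt N24069 F259125) (tt N23822 F259126) (tt N25640 (iv F261280)) (tt N23821 (iv D57759)) (tt N24093 F259127))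
theorem Q24991 : ∀ i, i < 24991 → P i := stepQ 24990 Q24990 (allL N24990 (tt N26085 (iv F263467)) (tt N26157 (iv F263779)) (tt N26166 D58936) (tt N23822 (iv D57760)) (tt N26167 D58937) (tt N23823 F259128) (tt N26165 (iv F263811)) (tt N26147 (iv F263739)) (tt N26162 (iv F263797)) (tt N25931 (iv F262855)))
theorem Q24992 : ∀ i, i < 24992 → P i := stepQ 24991 Q24991 (allL N24991 (tt N26086 (iv F263472)) (tt N26168 D58938) (tt N23823 (iv D57761)) (tt N23827 F259129) (tt N26169 D58939) (tt N26166 (iv F263814)) (tt N24300 F259130) (tt N26148 (iv F263743)) (tt N26164 (iv F263809)) (tt N25932 (iv F262858)))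
theorem Q24993 : ∀ i, i < 24993 → P i := stepQ 24992 Q24992 (allL N24992 (tt N26087 (iv F263477)) (tt N26159 (iv F263784)) (tt N26169 (iv F263818)) (tt N23824 F259131) (tt N23823 (iv D57762)) (tt N26170 D58940) (tt N24301 F259132) (tt N25819 (iv F262257)) (tt N25817 (iv F262248)) (tt N25933 (iv F262861)))
theorem Q24994 : ∀ i, i < 24994 → P i := stepQ 24993 Q24993 (allL N24993 (tt N26088 (iv F263483)) (tt N26161 (iv F263790)) (tt N26039 (iv F263273)) (tt N26170 (iv F263820)) (tt N24993 F259133) (tt N23824 (iv D57763)) (tt N26171 D58941) (tt N25667 (iv F261427)) (tt N23973 F259134) (tt N25934 (iv F262864)))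
theorem Q24995 : ∀ i, i < 24995 → P i := stepQ 24994 Q24994 (allL N24994 (tt N25605 (iv F261063)) (tt N24305 F259135) (tt N26172 D58942) (tt N23825 (iv D57764)) (tt N26173 D58943) (tt N24071 F259136) (tt N23826 F259137) (tt N25732 (iv F261817)) (tt N23850 F259138) (tt N24096 F259139))
theorem Q24996 : ∀ i, i < 24996 → P i := stepQ 24995 Q24995 (allL N24995 (tt N26089 (iv F263489)) (tt N26174 D58944) (tt N23826 (iv D57765)) (tt N26166 (iv F263813)) (tt N26175 D58945) (tt N23827 F259140) (tt N26172 (iv F263826)) (tt N26150 (iv F263749)) (tt N23851 F259141) (tt N25935 (iv F262868)))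
theorem Q24997 : ∀ i, i < 24997 → P i := stepQ 24996 Q24996 (allL N24996 (tt N26090 (iv F263492)) (tt N25729 (iv F261798)) (tt N26175 (iv F263836)) (tt N24996 F259142) (tt N23826 (iv D57766)) (tt N26041 (iv F263282)) (tt N26173 (iv F263831)) (tt N26151 (iv F263752)) (tt N23852 F259143) (tt N25936 (iv F262873)))
theorem Q24998 : ∀ i, i < 24998 → P i := stepQ 24997 Q24997 (allL N24997 (tt N26176 D58946) (tt N23827 (iv D57767)) (tt N25730 (iv F261803)) (tt N26168 (iv F263816)) (tt N26042 (iv F263284)) (tt N26174 (iv F263834)) (tt N24302 F259144) (tt N26152 (iv F263754)) (tt N23853 F259145) (tt N25937 (iv F262877)))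
theorem Q24999 : ∀ i, i < 24999 → P i := stepQ 24998 Q24998 (allL N24998 (tt N23900 F259146) (tt N25747 (iv F261895)) (tt N26177 D58947) (tt N23828 (iv D57768)) (tt N24279 F259147) (tt N25744 (iv F261878)) (tt N23835 F259148) (tt N24304 F259149) (tt N23897 F259150) (tt N23873 F259151))
theorem Q25000 : ∀ i, i < 25000 → P i := stepQ 24999 Q24999 (allL N24999 (tt N25939 (iv F262883)) (tt N25731 (iv F261808)) (tt N24080 F259152) (tt N26178 D58948) (tt N24999 F259153) (tt N23837 F259154) (tt N23830 F259155) (tt N25715 (iv F261735)) (tt N23829 (iv D57769)) (tt N23875 F259156))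
theorem Q25001 : ∀ i, i < 25001 → P i := stepQ 25000 Q25000 (allL N25000 (tt N26092 (iv F263499)) (tt N25732 (iv F261815)) (tt N26179 D58949) (tt N23830 (iv D57770)) (tt N26180 D58950) (tt N23831 F259157) (tt N26178 (iv F263848)) (tt N24305 F259158) (tt N25755 (iv F261938)) (tt N23876 F259159))
theorem Q25002 : ∀ i, i < 25002 → P i := stepQ 25001 Q25001 (allL N25001 (tt N26093 (iv F263505)) (tt N26181 D58951) (tt N23831 (iv D57771)) (tt N26177 (iv F263841)) (tt N26044 (iv F263295)) (tt N26179 (iv F263851)) (tt N23839 F259160) (tt N24306 F259161) (tt N26145 (iv F263727)) (tt N23877 F259162))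
theorem Q25003 : ∀ i, i < 25003 → P i := stepQ 25002 Q25002 (allL N25002 (tt N24286 F259163) (tt N23835 F259164) (tt N26182 D58952) (tt N23832 (iv D57772)) (tt N24282 F259165) (tt N25770 (iv F262013)) (tt N25747 (iv F261898)) (tt N23841 F259166) (tt N24285 F259167) (tt N23881 F259168))
theorem Q25004 : ∀ i, i < 25004 → P i := stepQ 25003 Q25003 (allL N25003 (tt N24351 F259169) (tt N24084 F259170) (tt N23837 F259171) (tt N26183 D58953) (tt N23854 F259172) (tt N24080 F259173) (tt N23834 F259174) (tt N24294 F259175) (tt N23833 (iv D57773)) (tt N23888 F259176))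
theorem Q25005 : ∀ i, i < 25005 → P i := stepQ 25004 Q25004 (allL N25004 (tt N24350 F259177) (tt N25770 (iv F262012)) (tt N26184 D58954) (tt N23834 (iv D57774)) (tt N25799 (iv F262165)) (tt N23835 F259178) (tt N26183 (iv F263868)) (tt N23847 F259179) (tt N24356 F259180) (tt N23889 F259181))
theorem Q25006 : ∀ i, i < 25006 → P i := stepQ 25005 Q25005 (allL N25005 (tt N24349 F259182) (tt N26185 D58955) (tt N23835 (iv D57775)) (tt N23839 F259183) (tt N24283 F259184) (tt N26184 (iv F263874)) (tt N26177 (iv F263843)) (tt N23848 F259185) (tt N24357 F259186) (tt N23890 F259187))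
theorem Q25007 : ∀ i, i < 25007 → P i := stepQ 25006 Q25006 (allL N25006 (tt N25611 (iv F261103)) (tt N24312 F259188) (tt N24294 F259189) (tt N26186 D58956) (tt N23856 F259190) (tt N25715 (iv F261733)) (tt N23849 F259191) (tt N23837 F259192) (tt N23836 (iv D57776)) (tt N23892 F259193))
theorem Q25008 : ∀ i, i < 25008 → P i := stepQ 25007 Q25007 (allL N25007 (tt N26094 (iv F263512)) (tt N25740 (iv F261859)) (tt N26187 D58957) (tt N23837 (iv D57777)) (tt N26188 D58958) (tt N26178 (iv F263847)) (tt N23838 F259194) (tt N26186 (iv F263885)) (tt N26149 (iv F263747)) (tt N23893 F259195))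
theorem Q25009 : ∀ i, i < 25009 → P i := stepQ 25008 Q25008 (allL N25008 (tt N26095 (iv F263515)) (tt N26189 D58959) (tt N23838 (iv D57778)) (tt N26184 (iv F263873)) (tt N26190 D58960) (tt N23839 F259196) (tt N26187 (iv F263887)) (tt N23851 F259197) (tt N26150 (iv F263750)) (tt N23894 F259198))
theorem Q25010 : ∀ i, i < 25010 → P i := stepQ 25009 Q25009 (allL N25009 (tt N26096 (iv F263520)) (tt N25742 (iv F261869)) (tt N26190 (iv F263895)) (tt N23859 F259199) (tt N23838 (iv D57779)) (tt N26046 (iv F263306)) (tt N26188 (iv F263890)) (tt N23852 F259200) (tt N26151 (iv F263753)) (tt N23895 F259201))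
theorem Q25011 : ∀ i, i < 25011 → P i := stepQ 25010 Q25010 (allL N25010 (tt N26191 D58961) (tt N23839 (iv D57780)) (tt N25743 (iv F261873)) (tt N26185 (iv F263878)) (tt N26047 (iv F263310)) (tt N26189 (iv F263892)) (tt N26181 (iv F263857)) (tt N23853 F259202) (tt N26152 (iv F263755)) (tt N23896 F259203))
theorem Q25012 : ∀ i, i < 25012 → P i := stepQ 25011 Q25011 (allL N25011 (tt N24282 F259204) (tt N23845 F259205) (tt N26192 D58962) (tt N23840 (iv D57781)) (tt N24286 F259206) (tt N25785 (iv F262088)) (tt N24314 F259207) (tt N24285 F259208) (tt N23841 F259209) (tt N25800 (iv F262176)))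
theorem Q25013 : ∀ i, i < 25013 → P i := stepQ 25012 Q25012 (allL N25012 (tt N25791 (iv F262121)) (tt N26193 D58963) (tt N23841 (iv D57782)) (tt N25745 (iv F261884)) (tt N24287 F259210) (tt N25786 (iv F262095)) (tt N24316 F259211) (tt N26182 (iv F263862)) (tt N26192 (iv F263904)) (tt N23903 F259212))
theorem Q25014 : ∀ i, i < 25014 → P i := stepQ 25013 Q25013 (allL N25013 (tt N24062 F259213) (tt N24126 F259214) (tt N24292 F259215) (tt N26194 D58964) (tt N24061 F259216) (tt N23844 F259217) (tt N25718 (iv F261752)) (tt N24116 F259218) (tt N23842 (iv D57783)) (tt N23843 F259219))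
theorem Q25015 : ∀ i, i < 25015 → P i := stepQ 25014 Q25014 (allL N25014 (tt N24343 F259220) (tt N25785 (iv F262087)) (tt N26195 D58965) (tt N23843 (iv D57784)) (tt N25777 (iv F262052)) (tt N23845 F259221) (tt N26146 (iv F263732)) (tt N24356 F259222) (tt N23847 F259223) (tt N26194 (iv F263914)))
theorem Q25016 : ∀ i, i < 25016 → P i := stepQ 25015 Q25015 (allL N25015 (tt N24307 F259224) (tt N25800 (iv F262170)) (tt N26196 D58966) (tt N23844 (iv D57785)) (tt N24288 F259225) (tt N26194 (iv F263911)) (tt N24321 F259226) (tt N24311 F259227) (tt N23910 F259228) (tt N23845 F259229))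
theorem Q25017 : ∀ i, i < 25017 → P i := stepQ 25016 Q25016 (allL N25016 (tt N24344 F259230) (tt N26197 D58967) (tt N23845 (iv D57786)) (tt N26164 (iv F263806)) (tt N24289 F259231) (tt N26195 (iv F263916)) (tt N24322 F259232) (tt N24357 F259233) (tt N23848 F259234) (tt N26196 (iv F263924)))
theorem Q25018 : ∀ i, i < 25018 → P i := stepQ 25017 Q25017 (allL N25017 (tt N24032 F259235) (tt N24112 F259236) (tt N26198 D58968) (tt N23846 (iv D57787)) (tt N25818 (iv F262251)) (tt N24324 F259237) (tt N23847 F259238) (tt N26156 (iv F263776)) (tt N26146 (iv F263734)) (tt N23914 F259239))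
theorem Q25019 : ∀ i, i < 25019 → P i := stepQ 25018 Q25018 (allL N25018 (tt N24377 F259240) (tt N26199 D58969) (tt N23847 (iv D57788)) (tt N23851 F259241) (tt N26200 D58970) (tt N23848 F259242) (tt N26198 (iv F263932)) (tt N26184 (iv F263875)) (tt N26195 (iv F263918)) (tt N23915 F259243))
theorem Q25020 : ∀ i, i < 25020 → P i := stepQ 25019 Q25019 (allL N25019 (tt N24374 F259244) (tt N25787 (iv F262099)) (tt N26200 (iv F263938)) (tt N23862 F259245) (tt N23847 (iv D57789)) (tt N24007 F259246) (tt N25818 (iv F262252)) (tt N25799 (iv F262166)) (tt N25777 (iv F262054)) (tt N23916 F259247))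
theorem Q25021 : ∀ i, i < 25021 → P i := stepQ 25020 Q25020 (allL N25020 (tt N26201 D58971) (tt N23848 (iv D57790)) (tt N26193 (iv F263905)) (tt N23853 F259248) (tt N24290 F259249) (tt N26199 (iv F263935)) (tt N24327 F259250) (tt N26185 (iv F263880)) (tt N26197 (iv F263928)) (tt N23917 F259251))
theorem Q25022 : ∀ i, i < 25022 → P i := stepQ 25021 Q25021 (allL N25021 (tt N25612 (iv F261111)) (tt N25755 (iv F261934)) (tt N26202 D58972) (tt N23849 (iv D57791)) (tt N26203 D58973) (tt N24328 F259252) (tt N26186 (iv F263884)) (tt N23850 F259253) (tt N25732 (iv F261818)) (tt N23920 F259254))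
theorem Q25023 : ∀ i, i < 25023 → P i := stepQ 25022 Q25022 (allL N25022 (tt N25619 (iv F261150)) (tt N26204 D58974) (tt N23850 (iv D57792)) (tt N26198 (iv F263930)) (tt N26205 D58975) (tt N24329 F259255) (tt N23851 F259256) (tt N26202 (iv F263948)) (tt N26172 (iv F263827)) (tt N23921 F259257))
theorem Q25024 : ∀ i, i < 25024 → P i := stepQ 25023 Q25023 (allL N25023 (tt N25620 (iv F261155)) (tt N25757 (iv F261947)) (tt N26205 (iv F263957)) (tt N23865 F259258) (tt N23850 (iv D57793)) (tt N25695 (iv F261611)) (tt N23852 F259259) (tt N26203 (iv F263952)) (tt N26173 (iv F263832)) (tt N23922 F259260))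
theorem Q25025 : ∀ i, i < 25025 → P i := stepQ 25024 Q25024 (allL N25024 (tt N26206 D58976) (tt N23851 (iv D57794)) (tt N25758 (iv F261953)) (tt N26199 (iv F263934)) (tt N26207 D58977) (tt N23853 F259261) (tt N26204 (iv F263955)) (tt N26189 (iv F263893)) (tt N26174 (iv F263835)) (tt N23923 F259262))
theorem Q25026 : ∀ i, i < 25026 → P i := stepQ 25025 Q25025 (allL N25025 (tt N26099 (iv F263532)) (tt N26207 (iv F263962)) (tt N23852 F259263) (tt N26208 D58978) (tt N23851 (iv D57795)) (tt N26049 (iv F263319)) (tt N26205 (iv F263958)) (tt N26190 (iv F263896)) (tt N26175 (iv F263837)) (tt N23924 F259264))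
theorem Q25027 : ∀ i, i < 25027 → P i := stepQ 25026 Q25026 (allL N25026 (tt N23853 (iv D57796)) (tt N26100 (iv F263536)) (tt N25760 (iv F261958)) (tt N26201 (iv F263943)) (tt N26050 (iv F263323)) (tt N26206 (iv F263960)) (tt N24331 F259265) (tt N26191 (iv F263898)) (tt N26176 (iv F263839)) (tt N23925 F259266))
theorem Q25028 : ∀ i, i < 25028 → P i := stepQ 25027 Q25027 (allL N25027 (tt N24384 F259267) (tt N24388 F259268) (tt N24141 (iv F259274)) (tt N23854 (iv D57797)) (tt N25822 (iv F262274)) (tt N25027 F259269) (tt N23855 F259270) (tt N24390 F259271) (tt N24009 F259272) (tt N23928 F259273))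
theorem Q25029 : ∀ i, i < 25029 → P i := stepQ 25028 Q25028 (allL N25028 (tt N25623 (iv F261172)) (tt N24395 F259275) (tt N26209 D58979) (tt N23856 (iv D57798)) (tt N26210 D58980) (tt N25028 F259276) (tt N23863 F259277) (tt N23857 F259278) (tt N25028 F259279) (tt N23931 F259280))
theorem Q25030 : ∀ i, i < 25030 → P i := stepQ 25029 Q25029 (allL N25029 (tt N26101 (iv F263541)) (tt N26211 D58981) (tt N23857 (iv D57799)) (tt N24141 F259281) (tt N26212 D58982) (tt N25029 F259282) (tt N23858 F259283) (tt N26209 (iv F263972)) (tt N25029 F259284) (tt N23932 F259285))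
theorem Q25031 : ∀ i, i < 25031 → P i := stepQ 25030 Q25030 (allL N25030 (tt N26102 (iv F263547)) (tt N25761 (iv F261962)) (tt N26212 (iv F263987)) (tt N26188 (iv F263889)) (tt N23857 (iv D57800)) (tt N26213 D58983) (tt N23859 F259286) (tt N26210 (iv F263977)) (tt N25030 F259287) (tt N23933 F259288))
theorem Q25032 : ∀ i, i < 25032 → P i := stepQ 25031 Q25031 (allL N25031 (tt N25654 (iv F261340)) (tt N23858 (iv D57801)) (tt N23939 F259289) (tt N23943 F259290) (tt N26214 D58984) (tt N23860 F259291) (tt N26211 (iv F263983)) (tt N23866 F259292) (tt N25031 F259293) (tt N23934 F259294))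
theorem Q25033 : ∀ i, i < 25033 → P i := stepQ 25032 Q25032 (allL N25032 (tt N26103 (iv F263551)) (tt N26214 (iv F263994)) (tt N23859 F259295) (tt N26215 D58985) (tt N23858 (iv D57802)) (tt N24140 F259296) (tt N26212 (iv F263988)) (tt N23867 F259297) (tt N25032 F259298) (tt N23935 F259299))
theorem Q25034 : ∀ i, i < 25034 → P i := stepQ 25033 Q25033 (allL N25033 (tt N25624 (iv F261179)) (tt N23929 F259300) (tt N23863 (iv D57803)) (tt N23934 F259301) (tt N26216 D58986) (tt N23868 F259302) (tt N26209 (iv F263971)) (tt N23864 F259303) (tt N25033 F259304) (tt N23943 F259305))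
theorem Q25035 : ∀ i, i < 25035 → P i := stepQ 25034 Q25034 (allL N25034 (tt N25625 (iv F261186)) (tt N25763 (iv F261976)) (tt N26216 (iv F264005)) (tt N26203 (iv F263950)) (tt N23863 (iv D57804)) (tt N24236 F259306) (tt N26210 (iv F263976)) (tt N23865 F259307) (tt N25034 F259308) (tt N23944 F259309))
theorem Q25036 : ∀ i, i < 25036 → P i := stepQ 25035 Q25035 (allL N25035 (tt N25626 (iv F261192)) (tt N23941 F259310) (tt N23865 F259311) (tt N26217 D58987) (tt N23864 (iv D57805)) (tt N24083 F259312) (tt N23867 F259313) (tt N26216 (iv F264007)) (tt N25035 F259314) (tt N23945 F259315))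
theorem Q25037 : ∀ i, i < 25037 → P i := stepQ 25036 Q25036 (allL N25036 (tt N25661 (iv F261382)) (tt N23867 F259316) (tt N23940 F259317) (tt N26218 D58988) (tt N23866 (iv D57806)) (tt N24143 F259318) (tt N23941 F259319) (tt N26214 (iv F263997)) (tt N25036 F259320) (tt N23947 F259321))
theorem Q25038 : ∀ i, i < 25038 → P i := stepQ 25037 Q25037 (allL N25037 (tt N26104 (iv F263557)) (tt N26218 (iv F264015)) (tt N26208 (iv F263964)) (tt N23867 (iv D57807)) (tt N24132 F259322) (tt N24129 F259323) (tt N26217 (iv F264013)) (tt N26215 (iv F264002)) (tt N26219 D58989) (tt N23948 F259324))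
theorem Q25039 : ∀ i, i < 25039 → P i := stepQ 25038 Q25038 (allL N25038 (tt N24308 F259325) (tt N23873 F259326) (tt N26220 D58990) (tt N23869 (iv D57808)) (tt N23886 F259327) (tt N25748 (iv F261904)) (tt N23881 F259328) (tt N23912 F259329) (tt N23891 F259330) (tt N25747 (iv F261901)))
theorem Q25040 : ∀ i, i < 25040 → P i := stepQ 25039 Q25039 (allL N25039 (tt N25800 (iv F262169)) (tt N23891 F259331) (tt N26221 D58991) (tt N23870 (iv D57809)) (tt N23881 F259332) (tt N25788 (iv F262106)) (tt N23886 F259333) (tt N23904 F259334) (tt N23873 F259335) (tt N24282 F259336))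
theorem Q25041 : ∀ i, i < 25041 → P i := stepQ 25040 Q25040 (allL N25040 (tt N25921 (iv F262802)) (tt N24085 F259337) (tt N23875 F259338) (tt N26222 D58992) (tt N25040 F259339) (tt N23888 F259340) (tt N23872 F259341) (tt N25881 (iv F262608)) (tt N23871 (iv D57810)) (tt N24080 F259342))
theorem Q25042 : ∀ i, i < 25042 → P i := stepQ 25041 Q25041 (allL N25041 (tt N26105 (iv F263561)) (tt N25748 (iv F261903)) (tt N26223 D58993) (tt N23872 (iv D57811)) (tt N26224 D58994) (tt N23873 F259343) (tt N26222 (iv F264035)) (tt N24337 F259344) (tt N25788 (iv F262109)) (tt N25744 (iv F261882)))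
theorem Q25043 : ∀ i, i < 25043 → P i := stepQ 25042 Q25042 (allL N25042 (tt N26106 (iv F263567)) (tt N26225 D58995) (tt N23873 (iv D57812)) (tt N23877 F259345) (tt N26226 D58996) (tt N26223 (iv F264039)) (tt N23890 F259346) (tt N24338 F259347) (tt N26221 (iv F264031)) (tt N26177 (iv F263846)))
theorem Q25044 : ∀ i, i < 25044 → P i := stepQ 25043 Q25043 (allL N25043 (tt N24304 F259348) (tt N23886 F259349) (tt N26226 (iv F264047)) (tt N23874 F259350) (tt N23873 (iv D57813)) (tt N26227 D58997) (tt N23891 F259351) (tt N23900 F259352) (tt N23881 F259353) (tt N24279 F259354))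
theorem Q25045 : ∀ i, i < 25045 → P i := stepQ 25044 Q25044 (allL N25044 (tt N24303 F259355) (tt N23884 F259356) (tt N24260 F259357) (tt N26227 (iv F264055)) (tt N25044 F259358) (tt N23874 (iv D57814)) (tt N24121 F259359) (tt N23899 F259360) (tt N23879 F259361) (tt N24120 F259362))
theorem Q25046 : ∀ i, i < 25046 → P i := stepQ 25045 Q25045 (allL N25045 (tt N25940 (iv F262891)) (tt N25766 (iv F261997)) (tt N26228 D58998) (tt N23875 (iv D57815)) (tt N26229 D58999) (tt N23893 F259363) (tt N23876 F259364) (tt N25891 (iv F262668)) (tt N25887 (iv F262646)) (tt N26178 (iv F263850)))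
theorem Q25047 : ∀ i, i < 25047 → P i := stepQ 25046 Q25046 (allL N25046 (tt N26107 (iv F263573)) (tt N26230 D59000) (tt N23876 (iv D57816)) (tt N26223 (iv F264038)) (tt N26231 D59001) (tt N23877 F259365) (tt N26228 (iv F264061)) (tt N24340 F259366) (tt N25964 (iv F262983)) (tt N26179 (iv F263853)))
theorem Q25048 : ∀ i, i < 25048 → P i := stepQ 25047 Q25047 (allL N25047 (tt N26108 (iv F263576)) (tt N25768 (iv F262003)) (tt N26231 (iv F264066)) (tt N25047 F259367) (tt N23876 (iv D57817)) (tt N26053 (iv F263338)) (tt N26229 (iv F264063)) (tt N24341 F259368) (tt N25965 (iv F262988)) (tt N26180 (iv F263856)))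
theorem Q25049 : ∀ i, i < 25049 → P i := stepQ 25048 Q25048 (allL N25048 (tt N26232 D59002) (tt N23877 (iv D57818)) (tt N25769 (iv F262008)) (tt N26225 (iv F264043)) (tt N26054 (iv F263341)) (tt N26230 (iv F264064)) (tt N23896 F259369) (tt N24342 F259370) (tt N25966 (iv F262992)) (tt N26181 (iv F263859)))
theorem Q25050 : ∀ i, i < 25050 → P i := stepQ 25049 Q25049 (allL N25049 (tt N23881 F259371) (tt N24288 F259372) (tt N26233 D59003) (tt N23878 (iv D57819)) (tt N25800 (iv F262171)) (tt N25734 (iv F261826)) (tt N24308 F259373) (tt N23897 F259374) (tt N24304 F259375) (tt N24286 F259376))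
theorem Q25051 : ∀ i, i < 25051 → P i := stepQ 25050 Q25050 (allL N25050 (tt N25734 (iv F261824)) (tt N23889 F259377) (tt N26234 D59004) (tt N23880 (iv D57820)) (tt N26235 D59005) (tt N23881 F259378) (tt N26121 (iv F263626)) (tt N23902 F259379) (tt N26227 (iv F264058)) (tt N25770 (iv F262017)))
theorem Q25052 : ∀ i, i < 25052 → P i := stepQ 25051 Q25051 (allL N25051 (tt N26233 (iv F264070)) (tt N26236 D59006) (tt N23881 (iv D57821)) (tt N25772 (iv F262026)) (tt N26221 (iv F264028)) (tt N26234 (iv F264076)) (tt N26220 (iv F264025)) (tt N23903 F259380) (tt N26226 (iv F264051)) (tt N26182 (iv F263864)))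
theorem Q25053 : ∀ i, i < 25053 → P i := stepQ 25052 Q25052 (allL N25052 (tt N25922 (iv F262810)) (tt N24121 F259381) (tt N25874 (iv F262566)) (tt N26237 D59007) (tt N25052 F259382) (tt N24114 F259383) (tt N23884 F259384) (tt N25882 (iv F262616)) (tt N23882 (iv D57822)) (tt N24113 F259385))
theorem Q25054 : ∀ i, i < 25054 → P i := stepQ 25053 Q25053 (allL N25053 (tt N24313 F259386) (tt N24120 F259387) (tt N25967 (iv F262995)) (tt N26238 D59008) (tt N25053 F259388) (tt N23885 F259389) (tt N24113 F259390) (tt N23908 F259391) (tt N23883 (iv D57823)) (tt N23884 F259392))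
theorem Q25055 : ∀ i, i < 25055 → P i := stepQ 25054 Q25054 (allL N25054 (tt N26110 (iv F263581)) (tt N26227 (iv F264054)) (tt N26239 D59009) (tt N23884 (iv D57824)) (tt N26240 D59010) (tt N23886 F259393) (tt N26237 (iv F264085)) (tt N23909 F259394) (tt N23889 F259395) (tt N26238 (iv F264094)))
theorem Q25056 : ∀ i, i < 25056 → P i := stepQ 25055 Q25055 (allL N25055 (tt N24314 F259396) (tt N24279 F259397) (tt N26241 D59011) (tt N23885 (iv D57825)) (tt N25747 (iv F261896)) (tt N26238 (iv F264090)) (tt N24282 F259398) (tt N23910 F259399) (tt N24311 F259400) (tt N23886 F259401))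
theorem Q25057 : ∀ i, i < 25057 → P i := stepQ 25056 Q25056 (allL N25056 (tt N26111 (iv F263587)) (tt N26242 D59012) (tt N23886 (iv D57826)) (tt N25970 (iv F263010)) (tt N26220 (iv F264024)) (tt N26239 (iv F264095)) (tt N26221 (iv F264029)) (tt N23911 F259402) (tt N23890 F259403) (tt N26241 (iv F264105)))
theorem Q25058 : ∀ i, i < 25058 → P i := stepQ 25057 Q25057 (allL N25057 (tt N25599 (iv F261022)) (tt N24298 F259404) (tt N23892 F259405) (tt N26243 D59013) (tt N23927 F259406) (tt N25881 (iv F262606)) (tt N23913 F259407) (tt N23888 F259408) (tt N23887 (iv D57827)) (tt N24294 F259409))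
theorem Q25059 : ∀ i, i < 25059 → P i := stepQ 25058 Q25058 (allL N25058 (tt N26112 (iv F263592)) (tt N26121 (iv F263624)) (tt N26244 D59014) (tt N23888 (iv D57828)) (tt N26245 D59015) (tt N26222 (iv F264034)) (tt N23889 F259410) (tt N26243 (iv F264110)) (tt N26237 (iv F264086)) (tt N26183 (iv F263871)))
theorem Q25060 : ∀ i, i < 25060 → P i := stepQ 25059 Q25059 (allL N25059 (tt N26113 (iv F263596)) (tt N26246 D59016) (tt N23889 (iv D57829)) (tt N23894 F259411) (tt N26247 D59017) (tt N23890 F259412) (tt N26244 (iv F264113)) (tt N23915 F259413) (tt N26239 (iv F264097)) (tt N26184 (iv F263877)))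
theorem Q25061 : ∀ i, i < 25061 → P i := stepQ 25060 Q25060 (allL N25060 (tt N26114 (iv F263601)) (tt N26235 (iv F264078)) (tt N26247 (iv F264119)) (tt N23930 F259414) (tt N23889 (iv D57830)) (tt N25796 (iv F262148)) (tt N26245 (iv F264115)) (tt N23916 F259415) (tt N26240 (iv F264100)) (tt N25799 (iv F262168)))
theorem Q25062 : ∀ i, i < 25062 → P i := stepQ 25061 Q25061 (allL N25061 (tt N26248 D59018) (tt N23890 (iv D57831)) (tt N26236 (iv F264081)) (tt N23896 F259416) (tt N26249 D59019) (tt N26246 (iv F264117)) (tt N26225 (iv F264044)) (tt N23917 F259417) (tt N26242 (iv F264107)) (tt N26185 (iv F263882)))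
theorem Q25063 : ∀ i, i < 25063 → P i := stepQ 25062 Q25062 (allL N25062 (tt N24309 F259418) (tt N26249 (iv F264123)) (tt N23891 F259419) (tt N24277 F259420) (tt N23890 (iv D57832)) (tt N25795 (iv F262142)) (tt N26226 (iv F264049)) (tt N23918 F259421) (tt N26220 (iv F264027)) (tt N24283 F259422))
theorem Q25064 : ∀ i, i < 25064 → P i := stepQ 25063 Q25063 (allL N25063 (tt N25632 (iv F261229)) (tt N25779 (iv F262061)) (tt N26250 D59020) (tt N23892 (iv D57833)) (tt N26251 D59021) (tt N25891 (iv F262666)) (tt N23920 F259423) (tt N23893 F259424) (tt N25892 (iv F262676)) (tt N26186 (iv F263886)))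
theorem Q25065 : ∀ i, i < 25065 → P i := stepQ 25064 Q25064 (allL N25064 (tt N26116 (iv F263612)) (tt N26252 D59022) (tt N23893 (iv D57834)) (tt N26244 (iv F264112)) (tt N26253 D59023) (tt N26228 (iv F264060)) (tt N23894 F259425) (tt N26250 (iv F264128)) (tt N25905 (iv F262731)) (tt N26187 (iv F263888)))
theorem Q25066 : ∀ i, i < 25066 → P i := stepQ 25065 Q25065 (allL N25065 (tt N26117 (iv F263614)) (tt N25781 (iv F262071)) (tt N26253 (iv F264134)) (tt N23933 F259426) (tt N23893 (iv D57835)) (tt N26254 D59024) (tt N23895 F259427) (tt N26251 (iv F264131)) (tt N25906 (iv F262736)) (tt N26188 (iv F263891)))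
theorem Q25067 : ∀ i, i < 25067 → P i := stepQ 25066 Q25066 (allL N25066 (tt N26255 D59025) (tt N23894 (iv D57836)) (tt N25782 (iv F262075)) (tt N26246 (iv F264116)) (tt N26256 D59026) (tt N23896 F259428) (tt N26252 (iv F264133)) (tt N23923 F259429) (tt N25976 (iv F263031)) (tt N26189 (iv F263894)))
theorem Q25068 : ∀ i, i < 25068 → P i := stepQ 25067 Q25067 (allL N25067 (tt N26119 (iv F263619)) (tt N26256 (iv F264139)) (tt N23895 F259430) (tt N26257 D59027) (tt N23894 (iv D57837)) (tt N26057 (iv F263356)) (tt N26253 (iv F264135)) (tt N23924 F259431) (tt N25977 (iv F263034)) (tt N26190 (iv F263897)))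
theorem Q25069 : ∀ i, i < 25069 → P i := stepQ 25068 Q25068 (allL N25068 (tt N23896 (iv D57838)) (tt N26120 (iv F263622)) (tt N25784 (iv F262084)) (tt N26248 (iv F264121)) (tt N26058 (iv F263358)) (tt N26255 (iv F264137)) (tt N26232 (iv F264068)) (tt N23925 F259432) (tt N25978 (iv F263036)) (tt N26191 (iv F263899)))
theorem Q25070 : ∀ i, i < 25070 → P i := stepQ 25069 Q25069 (allL N25069 (tt N23903 F259433) (tt N26258 D59028) (tt N23897 (iv D57839)) (tt N25786 (iv F262094)) (tt N25801 (iv F262179)) (tt N25745 (iv F261885)) (tt N24357 F259434) (tt N26233 (iv F264072)) (tt N26177 (iv F263845)) (tt N25791 (iv F262128)))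
theorem Q25071 : ∀ i, i < 25071 → P i := stepQ 25070 Q25070 (allL N25070 (tt N24080 F259435) (tt N23907 F259436) (tt N25939 (iv F262885)) (tt N26259 D59029) (tt N25070 F259437) (tt N24351 F259438) (tt N23899 F259439) (tt N25929 (iv F262849)) (tt N23898 (iv D57840)) (tt N25921 (iv F262809)))
theorem Q25072 : ∀ i, i < 25072 → P i := stepQ 25071 Q25071 (allL N25071 (tt N25744 (iv F261876)) (tt N23909 F259440) (tt N26260 D59030) (tt N23899 (iv D57841)) (tt N26261 D59031) (tt N23900 F259441) (tt N26259 (iv F264148)) (tt N26227 (iv F264057)) (tt N23902 F259442) (tt N26105 (iv F263566)))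
theorem Q25073 : ∀ i, i < 25073 → P i := stepQ 25072 Q25072 (allL N25072 (tt N26177 (iv F263840)) (tt N26262 D59032) (tt N23900 (iv D57842)) (tt N26093 (iv F263506)) (tt N24338 F259443) (tt N26260 (iv F264150)) (tt N24349 F259444) (tt N26226 (iv F264050)) (tt N23903 F259445) (tt N26106 (iv F263572)))
theorem Q25074 : ∀ i, i < 25074 → P i := stepQ 25073 Q25073 (allL N25073 (tt N24082 F259446) (tt N23914 F259447) (tt N26263 D59033) (tt N23901 (iv D57843)) (tt N25764 (iv F261985)) (tt N24358 F259448) (tt N23902 F259449) (tt N26163 (iv F263803)) (tt N26259 (iv F264149)) (tt N24112 F259450))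
theorem Q25075 : ∀ i, i < 25075 → P i := stepQ 25074 Q25074 (allL N25074 (tt N25745 (iv F261883)) (tt N26264 D59034) (tt N23902 (iv D57844)) (tt N25791 (iv F262122)) (tt N26265 D59035) (tt N23903 F259451) (tt N26263 (iv F264163)) (tt N26234 (iv F264077)) (tt N26260 (iv F264151)) (tt N25786 (iv F262097)))
theorem Q25076 : ∀ i, i < 25076 → P i := stepQ 25075 Q25075 (allL N25075 (tt N25746 (iv F261888)) (tt N23916 F259452) (tt N26265 (iv F264167)) (tt N23938 F259453) (tt N23902 (iv D57845)) (tt N26028 (iv F263226)) (tt N25764 (iv F261986)) (tt N26235 (iv F264080)) (tt N26261 (iv F264155)) (tt N25787 (iv F262103)))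
theorem Q25077 : ∀ i, i < 25077 → P i := stepQ 25076 Q25076 (allL N25076 (tt N26266 D59036) (tt N23903 (iv D57846)) (tt N23917 F259454) (tt N25792 (iv F262130)) (tt N26267 D59037) (tt N26264 (iv F264166)) (tt N24361 F259455) (tt N26236 (iv F264082)) (tt N26262 (iv F264159)) (tt N26193 (iv F263908)))
theorem Q25078 : ∀ i, i < 25078 → P i := stepQ 25077 Q25077 (allL N25077 (tt N25801 (iv F262177)) (tt N26267 (iv F264170)) (tt N23904 F259456) (tt N25703 (iv F261655)) (tt N23903 (iv D57847)) (tt N26027 (iv F263219)) (tt N24345 F259457) (tt N26221 (iv F264030)) (tt N24338 F259458) (tt N24287 F259459))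
theorem Q25079 : ∀ i, i < 25079 → P i := stepQ 25078 Q25078 (allL N25078 (tt N24093 F259460) (tt N25929 (iv F262844)) (tt N24020 F259461) (tt N26268 D59038) (tt N25078 F259462) (tt N24018 F259463) (tt N25882 (iv F262615)) (tt N23907 F259464) (tt N23905 (iv D57848)) (tt N25602 (iv F261052)))
theorem Q25080 : ∀ i, i < 25080 → P i := stepQ 25079 Q25079 (allL N25079 (tt N25640 (iv F261274)) (tt N25921 (iv F262803)) (tt N25597 (iv F261009)) (tt N26269 D59039) (tt N25079 F259465) (tt N24362 F259466) (tt N23908 F259467) (tt N25602 (iv F261051)) (tt N23906 (iv D57849)) (tt N23907 F259468))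
theorem Q25081 : ∀ i, i < 25081 → P i := stepQ 25080 Q25080 (allL N25080 (tt N25641 (iv F261282)) (tt N26259 (iv F264146)) (tt N26270 D59040) (tt N23907 (iv D57850)) (tt N26271 D59041) (tt N24363 F259469) (tt N23909 F259470) (tt N26268 (iv F264177)) (tt N23914 F259471) (tt N26269 (iv F264181)))
theorem Q25082 : ∀ i, i < 25082 → P i := stepQ 25081 Q25081 (allL N25081 (tt N26124 (iv F263640)) (tt N26105 (iv F263562)) (tt N26272 D59042) (tt N23908 (iv D57851)) (tt N26273 D59043) (tt N23910 F259472) (tt N26269 (iv F264180)) (tt N26238 (iv F264092)) (tt N26194 (iv F263913)) (tt N23909 F259473))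
theorem Q25083 : ∀ i, i < 25083 → P i := stepQ 25082 Q25082 (allL N25082 (tt N26125 (iv F263646)) (tt N26274 D59044) (tt N23909 (iv D57852)) (tt N25991 (iv F263091)) (tt N26275 D59045) (tt N23911 F259474) (tt N26270 (iv F264183)) (tt N26239 (iv F264096)) (tt N23915 F259475) (tt N26272 (iv F264189)))
theorem Q25084 : ∀ i, i < 25084 → P i := stepQ 25083 Q25083 (allL N25083 (tt N26126 (iv F263649)) (tt N26261 (iv F264152)) (tt N26275 (iv F264194)) (tt N25083 F259476) (tt N23909 (iv D57853)) (tt N26276 D59046) (tt N26271 (iv F264186)) (tt N26240 (iv F264099)) (tt N23916 F259477) (tt N26273 (iv F264191)))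
theorem Q25085 : ∀ i, i < 25085 → P i := stepQ 25084 Q25084 (allL N25084 (tt N26127 (iv F263653)) (tt N26277 D59047) (tt N23910 (iv D57854)) (tt N25993 (iv F263096)) (tt N26278 D59048) (tt N26272 (iv F264188)) (tt N24367 F259478) (tt N26241 (iv F264103)) (tt N26196 (iv F263923)) (tt N23911 F259479))
theorem Q25086 : ∀ i, i < 25086 → P i := stepQ 25085 Q25085 (allL N25085 (tt N24321 F259480) (tt N24304 F259481) (tt N26278 (iv F264204)) (tt N23965 F259482) (tt N23910 (iv D57855)) (tt N25736 (iv F261839)) (tt N24307 F259483) (tt N25747 (iv F261899)) (tt N24288 F259484) (tt N23912 F259485))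
theorem Q25087 : ∀ i, i < 25087 → P i := stepQ 25086 Q25086 (allL N25086 (tt N26279 D59049) (tt N23911 (iv D57856)) (tt N26262 (iv F264156)) (tt N25995 (iv F263102)) (tt N26280 D59050) (tt N26274 (iv F264192)) (tt N24368 F259486) (tt N26242 (iv F264106)) (tt N23917 F259487) (tt N26277 (iv F264202)))
theorem Q25088 : ∀ i, i < 25088 → P i := stepQ 25087 Q25087 (allL N25087 (tt N24322 F259488) (tt N26280 (iv F264210)) (tt N23912 F259489) (tt N26281 D59051) (tt N23911 (iv D57857)) (tt N26282 D59052) (tt N24344 F259490) (tt N26220 (iv F264026)) (tt N23918 F259491) (tt N26278 (iv F264207)))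
theorem Q25089 : ∀ i, i < 25089 → P i := stepQ 25088 Q25088 (allL N25088 (tt N24320 F259492) (tt N24337 F259493) (tt N26282 (iv F264219)) (tt N23967 F259494) (tt N26276 (iv F264199)) (tt N23912 (iv D57858)) (tt N25615 (iv F261131)) (tt N25748 (iv F261906)) (tt N23919 F259495) (tt N25736 (iv F261842)))
theorem Q25090 : ∀ i, i < 25090 → P i := stepQ 25089 Q25089 (allL N25089 (tt N25628 (iv F261206)) (tt N26163 (iv F263800)) (tt N26283 D59053) (tt N23913 (iv D57859)) (tt N26284 D59054) (tt N24369 F259496) (tt N26243 (iv F264109)) (tt N23914 F259497) (tt N26268 (iv F264178)) (tt N26156 (iv F263778)))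
theorem Q25091 : ∀ i, i < 25091 → P i := stepQ 25090 Q25090 (allL N25090 (tt N25645 (iv F261302)) (tt N26285 D59055) (tt N23914 (iv D57860)) (tt N23921 F259498) (tt N26286 D59056) (tt N24370 F259499) (tt N23915 F259500) (tt N26283 (iv F264223)) (tt N26270 (iv F264184)) (tt N26198 (iv F263933)))
theorem Q25092 : ∀ i, i < 25092 → P i := stepQ 25091 Q25091 (allL N25091 (tt N25646 (iv F261307)) (tt N25764 (iv F261984)) (tt N26286 (iv F264229)) (tt N23940 F259501) (tt N23914 (iv D57861)) (tt N26287 D59057) (tt N23916 F259502) (tt N26284 (iv F264225)) (tt N26271 (iv F264187)) (tt N25818 (iv F262253)))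
theorem Q25093 : ∀ i, i < 25093 → P i := stepQ 25092 Q25092 (allL N25092 (tt N26288 D59058) (tt N23915 (iv D57862)) (tt N26264 (iv F264165)) (tt N23923 F259503) (tt N26289 D59059) (tt N23917 F259504) (tt N26285 (iv F264228)) (tt N26246 (iv F264118)) (tt N26274 (iv F264193)) (tt N26199 (iv F263936)))
theorem Q25094 : ∀ i, i < 25094 → P i := stepQ 25093 Q25093 (allL N25093 (tt N26130 (iv F263665)) (tt N26289 (iv F264235)) (tt N23916 F259505) (tt N26290 D59060) (tt N23915 (iv D57863)) (tt N26291 D59061) (tt N26286 (iv F264230)) (tt N26247 (iv F264120)) (tt N26275 (iv F264195)) (tt N26200 (iv F263940)))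
theorem Q25095 : ∀ i, i < 25095 → P i := stepQ 25094 Q25094 (allL N25094 (tt N24326 F259506) (tt N26028 (iv F263224)) (tt N26291 (iv F264241)) (tt N23942 F259507) (tt N23919 F259508) (tt N23916 (iv D57864)) (tt N25617 (iv F261141)) (tt N25796 (iv F262150)) (tt N26276 (iv F264200)) (tt N24007 F259509))
theorem Q25096 : ∀ i, i < 25096 → P i := stepQ 25095 Q25095 (allL N25095 (tt N23917 (iv D57865)) (tt N26131 (iv F263669)) (tt N26266 (iv F264168)) (tt N23925 F259510) (tt N26292 D59062) (tt N26288 (iv F264234)) (tt N24375 F259511) (tt N26248 (iv F264122)) (tt N26279 (iv F264209)) (tt N26201 (iv F263946)))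
theorem Q25097 : ∀ i, i < 25097 → P i := stepQ 25096 Q25096 (allL N25096 (tt N26292 (iv F264245)) (tt N23918 F259512) (tt N26267 (iv F264171)) (tt N24278 F259513) (tt N23917 (iv D57866)) (tt N26293 D59063) (tt N24376 F259514) (tt N26249 (iv F264125)) (tt N26280 (iv F264213)) (tt N24290 F259515))
theorem Q25098 : ∀ i, i < 25098 → P i := stepQ 25097 Q25097 (allL N25097 (tt N24325 F259516) (tt N26293 (iv F264250)) (tt N23919 F259517) (tt N24001 F259518) (tt N26291 (iv F264243)) (tt N23918 (iv D57867)) (tt N25616 (iv F261136)) (tt N25795 (iv F262144)) (tt N26282 (iv F264220)) (tt N24006 F259519))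
theorem Q25099 : ∀ i, i < 25099 → P i := stepQ 25098 Q25098 (allL N25098 (tt N25633 (iv F261235)) (tt N26294 D59064) (tt N23920 (iv D57868)) (tt N26283 (iv F264221)) (tt N26295 D59065) (tt N24378 F259520) (tt N26250 (iv F264127)) (tt N23921 F259521) (tt N26007 (iv F263134)) (tt N26202 (iv F263949)))
theorem Q25100 : ∀ i, i < 25100 → P i := stepQ 25099 Q25099 (allL N25099 (tt N25634 (iv F261238)) (tt N25808 (iv F262205)) (tt N26295 (iv F264255)) (tt N23944 F259522) (tt N23920 (iv D57869)) (tt N24224 F259523) (tt N26251 (iv F264130)) (tt N23922 F259524) (tt N24230 F259525) (tt N26203 (iv F263953)))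
theorem Q25101 : ∀ i, i < 25101 → P i := stepQ 25100 Q25100 (allL N25100 (tt N26296 D59066) (tt N23921 (iv D57870)) (tt N25809 (iv F262210)) (tt N26285 (iv F264226)) (tt N26297 D59067) (tt N24379 F259526) (tt N23923 F259527) (tt N26294 (iv F264254)) (tt N26008 (iv F263137)) (tt N26204 (iv F263956)))
theorem Q25102 : ∀ i, i < 25102 → P i := stepQ 25101 Q25101 (allL N25101 (tt N25652 (iv F261332)) (tt N26297 (iv F264261)) (tt N23922 F259528) (tt N26298 D59068) (tt N23921 (iv D57871)) (tt N25706 (iv F261674)) (tt N23924 F259529) (tt N26295 (iv F264257)) (tt N26009 (iv F263142)) (tt N26205 (iv F263959)))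
theorem Q25103 : ∀ i, i < 25103 → P i := stepQ 25102 Q25102 (allL N25102 (tt N23923 (iv D57872)) (tt N26132 (iv F263674)) (tt N25811 (iv F262215)) (tt N26288 (iv F264233)) (tt N26299 D59069) (tt N23925 F259530) (tt N26296 (iv F264260)) (tt N26255 (iv F264138)) (tt N26010 (iv F263144)) (tt N26206 (iv F263961)))
theorem Q25104 : ∀ i, i < 25104 → P i := stepQ 25103 Q25103 (allL N25103 (tt N26299 (iv F264266)) (tt N23924 F259531) (tt N25812 (iv F262218)) (tt N26300 D59070) (tt N23923 (iv D57873)) (tt N26068 (iv F263402)) (tt N26297 (iv F264262)) (tt N26256 (iv F264140)) (tt N26011 (iv F263146)) (tt N26207 (iv F263963)))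
theorem Q25105 : ∀ i, i < 25105 → P i := stepQ 25104 Q25104 (allL N25104 (tt N26134 (iv F263677)) (tt N26300 (iv F264267)) (tt N23948 F259532) (tt N23924 (iv D57874)) (tt N26290 (iv F264237)) (tt N26069 (iv F263405)) (tt N26298 (iv F264265)) (tt N26257 (iv F264143)) (tt N26301 D59071) (tt N26208 (iv F263967)))
theorem Q25106 : ∀ i, i < 25106 → P i := stepQ 25105 Q25105 (allL N25105 (tt N25735 (iv F261830)) (tt N23930 F259533) (tt N25763 (iv F261977)) (tt N26235 (iv F264079)) (tt N23926 (iv D57875)) (tt N25821 (iv F262266)) (tt N26071 (iv F263416)) (tt N23938 F259534) (tt N25105 F259535) (tt N25771 (iv F262025)))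
theorem Q25107 : ∀ i, i < 25107 → P i := stepQ 25106 Q25106 (allL N25106 (tt N25600 (iv F261030)) (tt N24393 F259536) (tt N26211 (iv F263980)) (tt N23927 (iv D57876)) (tt N26302 D59072) (tt N25106 F259537) (tt N23939 F259538) (tt N23928 F259539) (tt N25106 F259540) (tt N24390 F259541))
theorem Q25108 : ∀ i, i < 25108 → P i := stepQ 25107 Q25107 (allL N25107 (tt N26135 (iv F263679)) (tt N26209 (iv F263968)) (tt N23928 (iv D57877)) (tt N23932 F259542) (tt N26303 D59073) (tt N25107 F259543) (tt N23929 F259544) (tt N26211 (iv F263984)) (tt N25107 F259545) (tt N24141 F259546))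
theorem Q25109 : ∀ i, i < 25109 → P i := stepQ 25108 Q25108 (allL N25108 (tt N26136 (iv F263685)) (tt N26071 (iv F263412)) (tt N26303 (iv F264274)) (tt N26245 (iv F264114)) (tt N23928 (iv D57878)) (tt N26304 D59074) (tt N23930 F259547) (tt N26302 (iv F264271)) (tt N25108 F259548) (tt N25822 (iv F262278)))
theorem Q25110 : ∀ i, i < 25110 → P i := stepQ 25109 Q25109 (allL N25109 (tt N26137 (iv F263690)) (tt N26216 (iv F264004)) (tt N23930 F259549) (tt N26305 D59075) (tt N23929 (iv D57879)) (tt N24078 F259550) (tt N26303 (iv F264275)) (tt N23941 F259551) (tt N25109 F259552) (tt N24108 F259553))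
theorem Q25111 : ∀ i, i < 25111 → P i := stepQ 25110 Q25110 (allL N25110 (tt N25658 (iv F261365)) (tt N24141 F259554) (tt N23931 (iv D57880)) (tt N26211 (iv F263981)) (tt N26306 D59076) (tt N25110 F259555) (tt N23943 F259556) (tt N23932 F259557) (tt N23951 F259558) (tt N26209 (iv F263974)))
theorem Q25112 : ∀ i, i < 25112 → P i := stepQ 25111 Q25111 (allL N25111 (tt N25659 (iv F261371)) (tt N25814 (iv F262223)) (tt N26306 (iv F264288)) (tt N26251 (iv F264129)) (tt N23931 (iv D57881)) (tt N26018 (iv F263174)) (tt N23944 F259559) (tt N23933 F259560) (tt N23952 F259561) (tt N26210 (iv F263979)))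
theorem Q25113 : ∀ i, i < 25113 → P i := stepQ 25112 Q25112 (allL N25112 (tt N26307 D59077) (tt N23932 (iv D57882)) (tt N24390 F259562) (tt N26209 (iv F263969)) (tt N26308 D59078) (tt N25112 F259563) (tt N23934 F259564) (tt N24141 F259565) (tt N23953 F259566) (tt N26211 (iv F263986)))
theorem Q25114 : ∀ i, i < 25114 → P i := stepQ 25113 Q25113 (allL N25113 (tt N26138 (iv F263696)) (tt N26308 (iv F264298)) (tt N23933 F259567) (tt N26309 D59079) (tt N23932 (iv D57883)) (tt N26171 (iv F263823)) (tt N23935 F259568) (tt N26306 (iv F264290)) (tt N23954 F259569) (tt N26212 (iv F263990)))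
theorem Q25115 : ∀ i, i < 25115 → P i := stepQ 25114 Q25114 (allL N25114 (tt N26139 (iv F263700)) (tt N25815 (iv F262231)) (tt N26171 (iv F263821)) (tt N26254 (iv F264136)) (tt N25114 F259570) (tt N23933 (iv D57884)) (tt N26039 (iv F263275)) (tt N26018 (iv F263176)) (tt N23955 F259571) (tt N26213 (iv F263993)))
theorem Q25116 : ∀ i, i < 25116 → P i := stepQ 25115 Q25115 (allL N25115 (tt N23934 (iv D57885)) (tt N24381 F259572) (tt N24023 F259573) (tt N25624 (iv F261181)) (tt N26310 D59080) (tt N23936 F259574) (tt N26307 (iv F264295)) (tt N23946 F259575) (tt N23956 F259576) (tt N25654 (iv F261346)))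
theorem Q25117 : ∀ i, i < 25117 → P i := stepQ 25116 Q25116 (allL N25116 (tt N26310 (iv F264304)) (tt N23935 F259577) (tt N25816 (iv F262238)) (tt N26311 D59081) (tt N23934 (iv D57886)) (tt N24297 F259578) (tt N26308 (iv F264300)) (tt N23947 F259579) (tt N23957 F259580) (tt N26214 (iv F263999)))
theorem Q25118 : ∀ i, i < 25118 → P i := stepQ 25117 Q25117 (allL N25117 (tt N26140 (iv F263704)) (tt N26311 (iv F264310)) (tt N26257 (iv F264141)) (tt N23935 (iv D57887)) (tt N26305 (iv F264283)) (tt N24301 F259581) (tt N26309 (iv F264303)) (tt N23948 F259582) (tt N26312 D59082) (tt N26215 (iv F264003)))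
theorem Q25119 : ∀ i, i < 25119 → P i := stepQ 25118 Q25118 (allL N25118 (tt N25655 (iv F261347)) (tt N25762 (iv F261969)) (tt N26214 (iv F263995)) (tt N26284 (iv F264224)) (tt N23939 (iv D57888)) (tt N26313 D59083) (tt N26302 (iv F264270)) (tt N23940 F259583) (tt N25118 F259584) (tt N25816 (iv F262243)))
theorem Q25120 : ∀ i, i < 25120 → P i := stepQ 25119 Q25119 (allL N25119 (tt N25662 (iv F261389)) (tt N25626 (iv F261193)) (tt N24143 F259585) (tt N26287 (iv F264231)) (tt N23950 F259586) (tt N23940 (iv D57889)) (tt N25618 (iv F261147)) (tt N26313 (iv F264318)) (tt N25119 F259587) (tt N25650 (iv F261327)))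
theorem Q25121 : ∀ i, i < 25121 → P i := stepQ 25120 Q25120 (allL N25120 (tt N26141 (iv F263707)) (tt N26217 (iv F264010)) (tt N26290 (iv F264236)) (tt N23941 (iv D57890)) (tt N23948 F259588) (tt N24089 F259589) (tt N26218 (iv F264018)) (tt N26305 (iv F264285)) (tt N26314 D59084) (tt N24132 F259590))
theorem Q25122 : ∀ i, i < 25122 → P i := stepQ 25121 Q25121 (allL N25121 (tt N25660 (iv F261376)) (tt N24108 F259591) (tt N23944 F259592) (tt N26315 D59085) (tt N23943 (iv D57891)) (tt N24100 F259593) (tt N26306 (iv F264289)) (tt N23945 F259594) (tt N23959 F259595) (tt N26216 (iv F264009)))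
theorem Q25123 : ∀ i, i < 25123 → P i := stepQ 25122 Q25122 (allL N25122 (tt N25663 (iv F261396)) (tt N24132 F259596) (tt N26298 (iv F264263)) (tt N23945 (iv D57892)) (tt N26218 (iv F264016)) (tt N24119 F259597) (tt N23948 F259598) (tt N26315 (iv F264326)) (tt N26316 D59086) (tt N26217 (iv F264014)))
theorem Q25124 : ∀ i, i < 25124 → P i := stepQ 25123 Q25123 (allL N25123 (tt N23947 F259599) (tt N24386 F259600) (tt N24033 F259601) (tt N26317 D59087) (tt N23946 (iv D57893)) (tt N24385 F259602) (tt N24039 F259603) (tt N26310 (iv F264308)) (tt N23961 F259604) (tt N25661 (iv F261388)))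
theorem Q25125 : ∀ i, i < 25125 → P i := stepQ 25124 Q25124 (allL N25124 (tt N26317 (iv F264331)) (tt N23948 F259605) (tt N26318 D59088) (tt N23947 (iv D57894)) (tt N26217 (iv F264011)) (tt N25806 (iv F262200)) (tt N24132 F259606) (tt N26311 (iv F264312)) (tt N26319 D59089) (tt N26218 (iv F264019)))
theorem Q25126 : ∀ i, i < 25126 → P i := stepQ 25125 Q25125 (allL N25125 (tt N26142 (iv F263711)) (tt N26319 (iv F264336)) (tt N26301 (iv F264268)) (tt N23963 F259607) (tt N26314 (iv F264322)) (tt N26070 (iv F263410)) (tt N26316 (iv F264330)) (tt N26312 (iv F264315)) (tt N23948 (iv D57895)) (tt N26320 D59090))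
theorem Q25127 : ∀ i, i < 25127 → P i := stepQ 25126 Q25126 (allL N25126 (tt N25656 (iv F261352)) (tt N25624 (iv F261180)) (tt N24139 F259608) (tt N24381 F259609) (tt N26313 (iv F264317)) (tt N23949 (iv D57896)) (tt N25927 (iv F262836)) (tt N23950 F259610) (tt N25126 F259611) (tt N24296 F259612))
theorem Q25128 : ∀ i, i < 25128 → P i := stepQ 25127 Q25127 (allL N25127 (tt N25664 (iv F261399)) (tt N24150 F259613) (tt N23952 F259614) (tt N26143 (iv F263716)) (tt N23951 (iv D57897)) (tt N26017 (iv F263168)) (tt N23959 F259615) (tt N23954 F259616) (tt N26306 (iv F264291)) (tt N25127 F259617))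
theorem Q25129 : ∀ i, i < 25129 → P i := stepQ 25128 Q25128 (allL N25128 (tt N23953 (iv D57898)) (tt N24054 F259618) (tt N24047 F259619) (tt N25128 F259620) (tt N26321 D59091) (tt N25128 F259621) (tt N23956 F259622) (tt N24060 F259623) (tt N26307 (iv F264297)) (tt N25128 F259624))
theorem Q25130 : ∀ i, i < 25130 → P i := stepQ 25129 Q25129 (allL N25129 (tt N26321 (iv F264340)) (tt N23954 F259625) (tt N24391 F259626) (tt N26322 D59092) (tt N23953 (iv D57899)) (tt N26323 D59093) (tt N23957 F259627) (tt N24150 F259628) (tt N26308 (iv F264302)) (tt N25129 F259629))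
theorem Q25131 : ∀ i, i < 25131 → P i := stepQ 25130 Q25130 (allL N25130 (tt N26017 (iv F263164)) (tt N26322 (iv F264346)) (tt N25665 (iv F261409)) (tt N23954 (iv D57900)) (tt N25130 F259630) (tt N25664 F261406) (tt N23958 F259631) (tt N26143 (iv F263719)) (tt N26324 D59094) (tt N25130 F259632))
theorem Q25132 : ∀ i, i < 25132 → P i := stepQ 25131 Q25131 (allL N25131 (tt N26143 (iv F263713)) (tt N26323 (iv F264353)) (tt N23955 F259633) (tt N25664 (iv F261405)) (tt N25131 F259634) (tt N23954 (iv D57901)) (tt N23973 F259635) (tt N26017 (iv F263170)) (tt N26171 (iv F263824)) (tt N25131 F259636))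
theorem Q25133 : ∀ i, i < 25133 → P i := stepQ 25132 Q25132 (allL N25132 (tt N23957 F259637) (tt N24401 F259638) (tt N24049 F259639) (tt N26325 D59095) (tt N23956 (iv D57902)) (tt N24389 F259640) (tt N26321 (iv F264343)) (tt N23961 F259641) (tt N26310 (iv F264309)) (tt N25132 F259642))
theorem Q25134 : ∀ i, i < 25134 → P i := stepQ 25133 Q25133 (allL N25133 (tt N26325 (iv F264362)) (tt N23958 F259643) (tt N26323 (iv F264354)) (tt N23957 (iv D57903)) (tt N25133 F259644) (tt N24391 F259645) (tt N26322 (iv F264349)) (tt N23962 F259646) (tt N26326 D59096) (tt N25133 F259647))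
theorem Q25135 : ∀ i, i < 25135 → P i := stepQ 25134 Q25134 (allL N25134 (tt N26025 (iv F263207)) (tt N26326 (iv F264368)) (tt N25815 (iv F262232)) (tt N26312 (iv F264313)) (tt N25134 F259648) (tt N24394 F259649) (tt N26324 (iv F264361)) (tt N23963 F259650) (tt N23958 (iv D57904)) (tt N26327 D59097))
theorem Q25136 : ∀ i, i < 25136 → P i := stepQ 25135 Q25135 (allL N25135 (tt N23973 F259651) (tt N24149 F259652) (tt N24185 F259653) (tt N23959 (iv D57905)) (tt N25135 F259654) (tt N23969 F259655) (tt N26143 (iv F263718)) (tt N23960 F259656) (tt N26088 (iv F263488)) (tt N25135 F259657))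
theorem Q25137 : ∀ i, i < 25137 → P i := stepQ 25136 Q25136 (allL N25136 (tt N25667 (iv F261423)) (tt N24154 F259658) (tt N26016 (iv F263159)) (tt N26316 (iv F264328)) (tt N25136 F259659) (tt N24152 F259660) (tt N23963 F259661) (tt N26088 (iv F263487)) (tt N23960 (iv D57906)) (tt N26328 D59098))
theorem Q25138 : ∀ i, i < 25138 → P i := stepQ 25137 Q25137 (allL N25137 (tt N23962 F259662) (tt N24400 F259663) (tt N26329 D59099) (tt N23961 (iv D57907)) (tt N25137 F259664) (tt N24396 F259665) (tt N24058 F259666) (tt N26325 (iv F264366)) (tt N26330 D59100) (tt N25137 F259667))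
theorem Q25139 : ∀ i, i < 25139 → P i := stepQ 25138 Q25138 (allL N25138 (tt N26329 (iv F264381)) (tt N26017 (iv F263165)) (tt N23962 (iv D57908)) (tt N25668 (iv F261431)) (tt N25138 F259668) (tt N24150 F259669) (tt N24146 F259670) (tt N26323 (iv F264358)) (tt N26331 D59101) (tt N25138 F259671))
theorem Q25140 : ∀ i, i < 25140 → P i := stepQ 25139 Q25139 (allL N25139 (tt N26330 (iv F264387)) (tt N23963 F259672) (tt N26331 (iv F264392)) (tt N26319 (iv F264337)) (tt N25139 F259673) (tt N25822 (iv F262275)) (tt N24154 F259674) (tt N26326 (iv F264371)) (tt N23962 (iv D57909)) (tt N26304 (iv F264282)))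
theorem Q25141 : ∀ i, i < 25141 → P i := stepQ 25140 Q25140 (allL N25140 (tt N26144 (iv F263721)) (tt N26304 (iv F264278)) (tt N26019 (iv F263177)) (tt N26320 (iv F264339)) (tt N25140 F259675) (tt N26071 (iv F263415)) (tt N26328 (iv F264379)) (tt N26327 (iv F264374)) (tt N25140 F259676) (tt N23963 (iv D57910)))
theorem Q25142 : ∀ i, i < 25142 → P i := stepQ 25141 Q25141 (allL N25141 (tt N24298 F259677) (tt N24069 F259678) (tt N23965 F259679) (tt N26332 D59102) (tt N23964 (iv D57911)) (tt N25711 (iv F261707)) (tt N24073 F259680) (tt N25636 (iv F261253)) (tt N23974 F259681) (tt N23966 F259682))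
theorem Q25143 : ∀ i, i < 25143 → P i := stepQ 25142 Q25142 (allL N25142 (tt N24299 F259683) (tt N24094 F259684) (tt N26281 (iv F264215)) (tt N23966 (iv D57912)) (tt N26024 (iv F263204)) (tt N26333 D59103) (tt N24099 F259685) (tt N25637 (iv F261259)) (tt N24274 F259686) (tt N26332 (iv F264399)))
theorem Q25144 : ∀ i, i < 25144 → P i := stepQ 25143 Q25143 (allL N25143 (tt N24076 F259687) (tt N24093 F259688) (tt N23967 F259689) (tt N26333 (iv F264402)) (tt N25143 F259690) (tt N23966 (iv D57913)) (tt N25601 (iv F261042)) (tt N24012 F259691) (tt N23968 F259692) (tt N25711 (iv F261710)))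
theorem Q25145 : ∀ i, i < 25145 → P i := stepQ 25144 Q25144 (allL N25144 (tt N23971 F259693) (tt N24060 F259694) (tt N23970 (iv D57914)) (tt N25144 F259695) (tt N26334 D59104) (tt N25144 F259696) (tt N24059 F259697) (tt N24054 F259698) (tt N26154 (iv F263766)) (tt N25144 F259699))
theorem Q25146 : ∀ i, i < 25146 → P i := stepQ 25145 Q25145 (allL N25145 (tt N23972 F259700) (tt N24051 F259701) (tt N26334 (iv F264407)) (tt N24049 F259702) (tt N23970 (iv D57915)) (tt N26335 D59105) (tt N24389 F259703) (tt N24055 F259704) (tt N26155 (iv F263771)) (tt N25145 F259705))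
theorem Q25147 : ∀ i, i < 25147 → P i := stepQ 25146 Q25146 (allL N25146 (tt N26334 (iv F264405)) (tt N25664 (iv F261400)) (tt N23972 F259706) (tt N26323 (iv F264355)) (tt N23971 (iv D57916)) (tt N26322 F264352) (tt N24392 F259707) (tt N25668 (iv F261434)) (tt N26160 (iv F263789)) (tt N25146 F259708))
theorem Q25148 : ∀ i, i < 25148 → P i := stepQ 25147 Q25147 (allL N25147 (tt N26335 (iv F264411)) (tt N23973 F259709) (tt N26322 (iv F264347)) (tt N24392 F259710) (tt N25147 F259711) (tt N23972 (iv D57917)) (tt N26323 (iv F264357)) (tt N25666 (iv F261421)) (tt N26161 (iv F263792)) (tt N25147 F259712))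
theorem Q25149 : ∀ i, i < 25149 → P i := stepQ 25148 Q25148 (allL N25148 (tt N23983 F259713) (tt N26336 D59106) (tt N23975 (iv D57918)) (tt N25581 (iv F260906)) (tt N23980 F259714) (tt N24190 F259715) (tt N25568 (iv F260817)) (tt N23979 F259716) (tt N24030 F259717) (tt N23976 F259718))
theorem Q25150 : ∀ i, i < 25150 → P i := stepQ 25149 Q25149 (allL N25149 (tt N26337 D59107) (tt N23976 (iv D57919)) (tt N24179 F259719) (tt N25586 (iv F260942)) (tt N23993 F259720) (tt N24196 F259721) (tt N25576 (iv F260872)) (tt N25587 (iv F260951)) (tt N24008 F259722) (tt N26336 (iv F264422)))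
theorem Q25151 : ∀ i, i < 25151 → P i := stepQ 25150 Q25150 (allL N25150 (tt N24178 F259723) (tt N26338 D59108) (tt N23977 (iv D57920)) (tt N25947 (iv F262920)) (tt N23992 F259724) (tt N24159 F259725) (tt N25579 (iv F260894)) (tt N24167 F259726) (tt N24011 F259727) (tt N24169 F259728))
theorem Q25152 : ∀ i, i < 25152 → P i := stepQ 25151 Q25151 (allL N25151 (tt N23992 F259729) (tt N26339 D59109) (tt N23978 (iv D57921)) (tt N25582 (iv F260914)) (tt N24178 F259730) (tt N23979 F259731) (tt N25824 (iv F262291)) (tt N24190 F259732) (tt N24040 F259733) (tt N24192 F259734))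
theorem Q25153 : ∀ i, i < 25153 → P i := stepQ 25152 Q25152 (allL N25152 (tt N26340 D59110) (tt N23979 (iv D57922)) (tt N26338 (iv F264428)) (tt N25584 (iv F260928)) (tt N24233 F259735) (tt N26339 (iv F264436)) (tt N25580 (iv F260901)) (tt N26336 (iv F264420)) (tt N24041 F259736) (tt N25587 (iv F260953)))
theorem Q25154 : ∀ i, i < 25154 → P i := stepQ 25153 Q25153 (allL N25153 (tt N26341 D59111) (tt N23980 (iv D57923)) (tt N24204 F259737) (tt N25580 (iv F260898)) (tt N26336 (iv F264418)) (tt N24214 F259738) (tt N25584 (iv F260929)) (tt N24233 F259739) (tt N24354 F259740) (tt N23993 F259741))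
theorem Q25155 : ∀ i, i < 25155 → P i := stepQ 25154 Q25154 (allL N25154 (tt N25568 (iv F260814)) (tt N26342 D59112) (tt N23981 (iv D57924)) (tt N25571 (iv F260838)) (tt N23990 F259742) (tt N25958 (iv F262963)) (tt N23983 F259743) (tt N25573 (iv F260856)) (tt N24097 F259744) (tt N24232 F259745))
theorem Q25156 : ∀ i, i < 25156 → P i := stepQ 25155 Q25155 (allL N25155 (tt N25581 (iv F260905)) (tt N26343 D59113) (tt N23982 (iv D57925)) (tt N23983 F259746) (tt N25573 (iv F260854)) (tt N24201 F259747) (tt N25571 (iv F260840)) (tt N23990 F259748) (tt N25627 (iv F261205)) (tt N24226 F259749))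
theorem Q25157 : ∀ i, i < 25157 → P i := stepQ 25156 Q25156 (allL N25156 (tt N26344 D59114) (tt N23983 (iv D57926)) (tt N24214 F259750) (tt N26343 (iv F264453)) (tt N25587 (iv F260948)) (tt N24204 F259751) (tt N26342 (iv F264450)) (tt N23993 F259752) (tt N24110 F259753) (tt N24233 F259754))
theorem Q25158 : ∀ i, i < 25158 → P i := stepQ 25157 Q25157 (allL N25157 (tt N25851 (iv F262453)) (tt N23989 F259755) (tt N26345 D59115) (tt N23984 (iv D57927)) (tt N26346 D59116) (tt N23985 F259756) (tt N25828 (iv F262319)) (tt N24197 F259757) (tt N24249 F259758) (tt N24210 F259759))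
theorem Q25159 : ∀ i, i < 25159 → P i := stepQ 25158 Q25158 (allL N25158 (tt N25872 (iv F262554)) (tt N26347 D59117) (tt N23985 (iv D57928)) (tt N24219 F259760) (tt N24209 F259761) (tt N26345 (iv F264463)) (tt N24169 F259762) (tt N25857 (iv F262488)) (tt N24250 F259763) (tt N25579 (iv F260897)))
theorem Q25160 : ∀ i, i < 25160 → P i := stepQ 25159 Q25159 (allL N25159 (tt N24339 F259764) (tt N24249 F259765) (tt N26348 D59118) (tt N23986 (iv D57929)) (tt N26349 D59119) (tt N23987 F259766) (tt N24280 F259767) (tt N24200 F259768) (tt N23989 F259769) (tt N25688 (iv F261569)))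
theorem Q25161 : ∀ i, i < 25161 → P i := stepQ 25160 Q25160 (allL N25160 (tt N24353 F259770) (tt N26350 D59120) (tt N23987 (iv D57930)) (tt N24124 F259771) (tt N24097 F259772) (tt N26348 (iv F264480)) (tt N24002 F259773) (tt N25627 (iv F261204)) (tt N23990 F259774) (tt N25689 (iv F261575)))
theorem Q25162 : ∀ i, i < 25162 → P i := stepQ 25161 Q25161 (allL N25161 (tt N24208 F259775) (tt N25828 (iv F262317)) (tt N26351 D59121) (tt N23988 (iv D57931)) (tt N26352 D59122) (tt N24191 F259776) (tt N23989 F259777) (tt N25845 (iv F262422)) (tt N24280 F259778) (tt N24206 F259779))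
theorem Q25163 : ∀ i, i < 25163 → P i := stepQ 25162 Q25162 (allL N25162 (tt N25582 (iv F260913)) (tt N26353 D59123) (tt N23989 (iv D57932)) (tt N23992 F259780) (tt N26354 D59124) (tt N23990 F259781) (tt N26351 (iv F264499)) (tt N24201 F259782) (tt N26348 (iv F264483)) (tt N24212 F259783))
theorem Q25164 : ∀ i, i < 25164 → P i := stepQ 25163 Q25163 (allL N25163 (tt N25583 (iv F260920)) (tt N26346 (iv F264467)) (tt N26354 (iv F264511)) (tt N23996 F259784) (tt N23989 (iv D57933)) (tt N25959 (iv F262969)) (tt N26352 (iv F264504)) (tt N24202 F259785) (tt N26349 (iv F264490)) (tt N24213 F259786))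
theorem Q25165 : ∀ i, i < 25165 → P i := stepQ 25164 Q25164 (allL N25164 (tt N26355 D59125) (tt N23990 (iv D57934)) (tt N26347 (iv F264473)) (tt N23993 F259787) (tt N26342 (iv F264449)) (tt N26353 (iv F264508)) (tt N25587 (iv F260950)) (tt N26343 (iv F264455)) (tt N26350 (iv F264495)) (tt N25580 (iv F260904)))
theorem Q25166 : ∀ i, i < 25166 → P i := stepQ 25165 Q25165 (allL N25165 (tt N25824 (iv F262287)) (tt N26356 D59126) (tt N23991 (iv D57935)) (tt N26351 (iv F264497)) (tt N25579 (iv F260892)) (tt N25589 (iv F260964)) (tt N23992 F259788) (tt N25938 (iv F262880)) (tt N24134 F259789) (tt N24209 F259790))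
theorem Q25167 : ∀ i, i < 25167 → P i := stepQ 25166 Q25166 (allL N25166 (tt N26357 D59127) (tt N23992 (iv D57936)) (tt N24233 F259791) (tt N26353 (iv F264507)) (tt N26338 (iv F264429)) (tt N23993 F259792) (tt N26356 (iv F264516)) (tt N24204 F259793) (tt N24135 F259794) (tt N24214 F259795))
theorem Q25168 : ∀ i, i < 25168 → P i := stepQ 25167 Q25167 (allL N25167 (tt N23993 (iv D57937)) (tt N26340 (iv F264440)) (tt N24234 F259796) (tt N26355 (iv F264514)) (tt N26337 (iv F264425)) (tt N26357 (iv F264520)) (tt N25593 (iv F260986)) (tt N26344 (iv F264459)) (tt N24136 F259797) (tt N26341 (iv F264447)))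
theorem Q25169 : ∀ i, i < 25169 → P i := stepQ 25168 Q25168 (allL N25168 (tt N25855 (iv F262468)) (tt N23996 F259798) (tt N25846 (iv F262427)) (tt N26346 (iv F264468)) (tt N23994 (iv D57938)) (tt N25585 (iv F260936)) (tt N25830 (iv F262332)) (tt N24198 F259799) (tt N25168 F259800) (tt N24211 F259801))
theorem Q25170 : ∀ i, i < 25170 → P i := stepQ 25169 Q25169 (allL N25169 (tt N25585 (iv F260932)) (tt N25830 (iv F262329)) (tt N24198 F259802) (tt N26352 (iv F264503)) (tt N23995 (iv D57939)) (tt N25855 (iv F262471)) (tt N23996 F259803) (tt N25846 (iv F262430)) (tt N25169 F259804) (tt N24207 F259805))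
theorem Q25171 : ∀ i, i < 25171 → P i := stepQ 25170 Q25170 (allL N25170 (tt N24077 F259806) (tt N25628 (iv F261207)) (tt N26358 D59128) (tt N23997 (iv D57940)) (tt N26359 D59129) (tt N24274 F259807) (tt N25603 (iv F261054)) (tt N24013 F259808) (tt N26333 (iv F264404)) (tt N24027 F259809))
theorem Q25172 : ∀ i, i < 25172 → P i := stepQ 25171 Q25171 (allL N25171 (tt N24078 F259810) (tt N25655 (iv F261348)) (tt N24066 F259811) (tt N26359 (iv F264530)) (tt N23998 (iv D57941)) (tt N26137 (iv F263692)) (tt N25604 (iv F261059)) (tt N24014 F259812) (tt N25171 F259813) (tt N24028 F259814))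
theorem Q25173 : ∀ i, i < 25173 → P i := stepQ 25172 Q25172 (allL N25172 (tt N24079 F259815) (tt N26360 D59130) (tt N23999 (iv D57942)) (tt N26358 (iv F264525)) (tt N24067 F259816) (tt N24276 F259817) (tt N25606 (iv F261071)) (tt N24015 F259818) (tt N24001 F259819) (tt N24030 F259820))
theorem Q25174 : ∀ i, i < 25174 → P i := stepQ 25173 Q25173 (allL N25173 (tt N24067 F259821) (tt N26361 D59131) (tt N24000 (iv D57943)) (tt N25795 (iv F262141)) (tt N24079 F259822) (tt N24277 F259823) (tt N25689 (iv F261573)) (tt N24001 F259824) (tt N24015 F259825) (tt N24002 F259826))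
theorem Q25175 : ∀ i, i < 25175 → P i := stepQ 25174 Q25174 (allL N25174 (tt N26362 D59132) (tt N24001 (iv D57944)) (tt N24245 F259827) (tt N26293 (iv F264251)) (tt N24092 F259828) (tt N24278 F259829) (tt N25621 (iv F261163)) (tt N26361 (iv F264542)) (tt N26360 (iv F264537)) (tt N24008 F259830))
theorem Q25176 : ∀ i, i < 25176 → P i := stepQ 25175 Q25175 (allL N25175 (tt N26363 D59133) (tt N24002 (iv D57945)) (tt N24259 F259831) (tt N25797 (iv F262152)) (tt N24110 F259832) (tt N24284 F259833) (tt N26350 (iv F264494)) (tt N24008 F259834) (tt N25587 (iv F260952)) (tt N26361 (iv F264544)))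
theorem Q25177 : ∀ i, i < 25177 → P i := stepQ 25176 Q25176 (allL N25176 (tt N24004 F259835) (tt N24356 F259836) (tt N26364 D59134) (tt N24003 (iv D57946)) (tt N25794 (iv F262137)) (tt N24285 F259837) (tt N24087 F259838) (tt N25785 (iv F262090)) (tt N25770 (iv F262016)) (tt N24127 F259839))
theorem Q25178 : ∀ i, i < 25178 → P i := stepQ 25177 Q25177 (allL N25177 (tt N26364 (iv F264555)) (tt N26365 D59135) (tt N24004 (iv D57947)) (tt N24263 F259840) (tt N26366 D59136) (tt N24287 F259841) (tt N25638 (iv F261264)) (tt N25789 (iv F262114)) (tt N25772 (iv F262029)) (tt N26027 (iv F263222)))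
theorem Q25179 : ∀ i, i < 25179 → P i := stepQ 25178 Q25178 (allL N25178 (tt N25794 (iv F262134)) (tt N24007 F259842) (tt N26366 (iv F264563)) (tt N24005 F259843) (tt N24004 (iv D57948)) (tt N25787 (iv F262101)) (tt N25639 (iv F261270)) (tt N25790 (iv F262119)) (tt N25773 (iv F262033)) (tt N26028 (iv F263229)))
theorem Q25180 : ∀ i, i < 25180 → P i := stepQ 25179 Q25179 (allL N25179 (tt N26367 D59137) (tt N24006 (iv D57949)) (tt N26365 (iv F264560)) (tt N24008 F259844) (tt N26368 D59138) (tt N24290 F259845) (tt N25647 (iv F261313)) (tt N25797 (iv F262155)) (tt N25775 (iv F262045)) (tt N26293 (iv F264252)))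
theorem Q25181 : ∀ i, i < 25181 → P i := stepQ 25180 Q25180 (allL N25180 (tt N24373 F259846) (tt N26368 (iv F264567)) (tt N24007 F259847) (tt N24131 F259848) (tt N24006 (iv D57950)) (tt N26200 (iv F263939)) (tt N25648 (iv F261317)) (tt N25798 (iv F262161)) (tt N25776 (iv F262049)) (tt N26291 (iv F264244)))
theorem Q25182 : ∀ i, i < 25182 → P i := stepQ 25181 Q25181 (allL N25181 (tt N24008 (iv D57951)) (tt N24380 F259849) (tt N24270 F259850) (tt N26367 (iv F264565)) (tt N24136 F259851) (tt N24291 F259852) (tt N25653 (iv F261339)) (tt N26363 (iv F264554)) (tt N26337 (iv F264427)) (tt N26362 (iv F264549)))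
theorem Q25183 : ∀ i, i < 25183 → P i := stepQ 25182 Q25182 (allL N25182 (tt N24258 F259853) (tt N26369 D59139) (tt N24010 (iv D57952)) (tt N26045 (iv F263300)) (tt N24109 F259854) (tt N24239 F259855) (tt N25843 (iv F262411)) (tt N24011 F259856) (tt N24167 F259857) (tt N24241 F259858))
theorem Q25184 : ∀ i, i < 25184 → P i := stepQ 25183 Q25183 (allL N25183 (tt N26370 D59140) (tt N24011 (iv D57953)) (tt N24041 F259859) (tt N26048 (iv F263313)) (tt N24135 F259860) (tt N24240 F259861) (tt N25687 (iv F261562)) (tt N26369 (iv F264572)) (tt N26338 (iv F264432)) (tt N26061 (iv F263380)))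
theorem Q25185 : ∀ i, i < 25185 → P i := stepQ 25184 Q25184 (allL N25184 (tt N24086 F259862) (tt N25641 (iv F261283)) (tt N26371 D59141) (tt N24012 (iv D57954)) (tt N26372 D59142) (tt N25637 (iv F261257)) (tt N25691 (iv F261585)) (tt N26333 (iv F264403)) (tt N24013 F259863) (tt N25723 (iv F261777)))
theorem Q25186 : ∀ i, i < 25186 → P i := stepQ 25185 Q25185 (allL N25185 (tt N24088 F259864) (tt N26373 D59143) (tt N24013 (iv D57955)) (tt N24015 F259865) (tt N26374 D59144) (tt N25638 (iv F261263)) (tt N25692 (iv F261592)) (tt N26358 (iv F264527)) (tt N26371 (iv F264580)) (tt N24037 F259866))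
theorem Q25187 : ∀ i, i < 25187 → P i := stepQ 25186 Q25186 (allL N25186 (tt N24089 F259867) (tt N25646 (iv F261308)) (tt N26374 (iv F264587)) (tt N24014 F259868) (tt N24013 (iv D57956)) (tt N26141 (iv F263709)) (tt N25693 (iv F261599)) (tt N26359 (iv F264531)) (tt N26372 (iv F264583)) (tt N24038 F259869))
theorem Q25188 : ∀ i, i < 25188 → P i := stepQ 25187 Q25187 (allL N25187 (tt N26375 D59145) (tt N24015 (iv D57957)) (tt N26061 (iv F263374)) (tt N26373 (iv F264584)) (tt N24330 F259870) (tt N26059 (iv F263362)) (tt N25696 (iv F261616)) (tt N26360 (iv F264536)) (tt N26361 (iv F264543)) (tt N24041 F259871))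
theorem Q25189 : ∀ i, i < 25189 → P i := stepQ 25188 Q25188 (allL N25188 (tt N24294 F259872) (tt N24018 F259873) (tt N25611 (iv F261105)) (tt N26376 D59146) (tt N24017 F259874) (tt N25929 (iv F262847)) (tt N24022 F259875) (tt N24351 F259876) (tt N24016 (iv D57958)) (tt N25599 (iv F261029)))
theorem Q25190 : ∀ i, i < 25190 → P i := stepQ 25189 Q25189 (allL N25189 (tt N24390 F259877) (tt N24019 F259878) (tt N26307 (iv F264293)) (tt N24017 (iv D57959)) (tt N26377 D59147) (tt N25189 F259879) (tt N24023 F259880) (tt N24384 F259881) (tt N24047 F259882) (tt N25600 (iv F261036)))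
theorem Q25191 : ∀ i, i < 25191 → P i := stepQ 25190 Q25190 (allL N25190 (tt N24094 F259883) (tt N26376 (iv F264594)) (tt N26378 D59148) (tt N24018 (iv D57960)) (tt N26379 D59149) (tt N26268 (iv F264176)) (tt N24027 F259884) (tt N24363 F259885) (tt N24369 F259886) (tt N25603 (iv F261056)))
theorem Q25192 : ∀ i, i < 25192 → P i := stepQ 25191 Q25191 (allL N25191 (tt N24095 F259887) (tt N26377 (iv F264599)) (tt N24057 F259888) (tt N26379 (iv F264609)) (tt N24019 (iv D57961)) (tt N26380 D59150) (tt N24028 F259889) (tt N24398 F259890) (tt N24048 F259891) (tt N25604 (iv F261062)))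
theorem Q25193 : ∀ i, i < 25193 → P i := stepQ 25192 Q25192 (allL N25192 (tt N24096 F259892) (tt N25842 (iv F262404)) (tt N26381 D59151) (tt N24020 (iv D57962)) (tt N26382 D59152) (tt N24021 F259893) (tt N25885 (iv F262633)) (tt N25697 (iv F261621)) (tt N25567 (iv F260812)) (tt N25605 (iv F261068)))
theorem Q25194 : ∀ i, i < 25194 → P i := stepQ 25193 Q25193 (allL N25193 (tt N24097 F259894) (tt N26383 D59153) (tt N24021 (iv D57963)) (tt N26378 (iv F264604)) (tt N24353 F259895) (tt N26381 (iv F264619)) (tt N24030 F259896) (tt N25698 (iv F261627)) (tt N25568 (iv F260819)) (tt N25606 (iv F261073)))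
theorem Q25195 : ∀ i, i < 25195 → P i := stepQ 25194 Q25194 (allL N25194 (tt N26156 (iv F263772)) (tt N24027 F259897) (tt N26384 D59154) (tt N24022 (iv D57964)) (tt N26385 D59155) (tt N25609 (iv F261092)) (tt N26376 (iv F264595)) (tt N24032 F259898) (tt N26153 (iv F263760)) (tt N25628 (iv F261211)))
theorem Q25196 : ∀ i, i < 25196 → P i := stepQ 25195 Q25195 (allL N25195 (tt N25816 (iv F262236)) (tt N24028 F259899) (tt N26310 (iv F264306)) (tt N26385 (iv F264627)) (tt N24023 (iv D57965)) (tt N26386 D59156) (tt N26377 (iv F264600)) (tt N24033 F259900) (tt N24049 F259901) (tt N25655 (iv F261351)))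
theorem Q25197 : ∀ i, i < 25197 → P i := stepQ 25196 Q25196 (allL N25196 (tt N24102 F259902) (tt N25608 (iv F261083)) (tt N24187 F259903) (tt N26387 D59157) (tt N25196 F259904) (tt N24025 F259905) (tt N25881 (iv F262607)) (tt N24034 F259906) (tt N24024 (iv D57966)) (tt N25712 (iv F261718)))
theorem Q25198 : ∀ i, i < 25198 → P i := stepQ 25197 Q25197 (allL N25197 (tt N24104 F259907) (tt N26153 (iv F263757)) (tt N26388 D59158) (tt N24025 (iv D57967)) (tt N26389 D59159) (tt N26387 (iv F264636)) (tt N24369 F259908) (tt N24035 F259909) (tt N24027 F259910) (tt N25713 (iv F261722)))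
theorem Q25199 : ∀ i, i < 25199 → P i := stepQ 25198 Q25198 (allL N25198 (tt N24105 F259911) (tt N25609 (iv F261091)) (tt N26390 D59160) (tt N24026 (iv D57968)) (tt N26391 D59161) (tt N24027 F259912) (tt N25883 (iv F262620)) (tt N24036 F259913) (tt N26387 (iv F264638)) (tt N24274 F259914))
theorem Q25200 : ∀ i, i < 25200 → P i := stepQ 25199 Q25199 (allL N25199 (tt N24106 F259915) (tt N26392 D59162) (tt N24027 (iv D57969)) (tt N24030 F259916) (tt N26393 D59163) (tt N26390 (iv F264651)) (tt N26378 (iv F264605)) (tt N24037 F259917) (tt N26388 (iv F264643)) (tt N26358 (iv F264528)))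
theorem Q25201 : ∀ i, i < 25201 → P i := stepQ 25200 Q25200 (allL N25200 (tt N24107 F259918) (tt N26385 (iv F264626)) (tt N26393 (iv F264661)) (tt N24028 F259919) (tt N24027 (iv D57970)) (tt N26394 D59164) (tt N26379 (iv F264610)) (tt N24038 F259920) (tt N26389 (iv F264648)) (tt N26359 (iv F264532)))
theorem Q25202 : ∀ i, i < 25202 → P i := stepQ 25201 Q25201 (allL N25201 (tt N24108 F259921) (tt N26386 (iv F264630)) (tt N24383 F259922) (tt N26394 (iv F264665)) (tt N24044 F259923) (tt N24028 (iv D57971)) (tt N26395 D59165) (tt N24039 F259924) (tt N24052 F259925) (tt N26137 (iv F263695)))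
theorem Q25203 : ∀ i, i < 25203 → P i := stepQ 25202 Q25202 (allL N25202 (tt N24109 F259926) (tt N26396 D59166) (tt N24029 (iv D57972)) (tt N26390 (iv F264650)) (tt N24258 F259927) (tt N24030 F259928) (tt N25886 (iv F262638)) (tt N24040 F259929) (tt N24190 F259930) (tt N24276 F259931))
theorem Q25204 : ∀ i, i < 25204 → P i := stepQ 25203 Q25203 (allL N25203 (tt N26397 D59167) (tt N24030 (iv D57973)) (tt N26369 (iv F264569)) (tt N26392 (iv F264658)) (tt N24354 F259932) (tt N26396 (iv F264673)) (tt N26383 (iv F264624)) (tt N24041 F259933) (tt N26336 (iv F264421)) (tt N26360 (iv F264538)))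
theorem Q25205 : ∀ i, i < 25205 → P i := stepQ 25204 Q25204 (allL N25204 (tt N26146 (iv F263729)) (tt N24035 F259934) (tt N26398 D59168) (tt N24031 (iv D57974)) (tt N26399 D59169) (tt N25615 (iv F261130)) (tt N24343 F259935) (tt N26153 (iv F263759)) (tt N24032 F259936) (tt N25720 (iv F261764)))
theorem Q25206 : ∀ i, i < 25206 → P i := stepQ 25205 Q25205 (allL N25205 (tt N26198 (iv F263929)) (tt N26400 D59170) (tt N24032 (iv D57975)) (tt N25619 (iv F261151)) (tt N26401 D59171) (tt N25616 (iv F261135)) (tt N24377 F259937) (tt N26384 (iv F264625)) (tt N26398 (iv F264681)) (tt N25645 (iv F261306)))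
theorem Q25207 : ∀ i, i < 25207 → P i := stepQ 25206 Q25206 (allL N25206 (tt N25818 (iv F262249)) (tt N24038 F259938) (tt N26401 (iv F264688)) (tt N24033 F259939) (tt N24032 (iv D57976)) (tt N26402 D59172) (tt N24374 F259940) (tt N26385 (iv F264628)) (tt N26399 (iv F264685)) (tt N25646 (iv F261311)))
theorem Q25208 : ∀ i, i < 25208 → P i := stepQ 25207 Q25207 (allL N25207 (tt N25650 (iv F261321)) (tt N24039 F259941) (tt N24385 F259942) (tt N26402 (iv F264691)) (tt N24045 F259943) (tt N24033 (iv D57977)) (tt N24386 F259944) (tt N26386 (iv F264633)) (tt N24056 F259945) (tt N25662 (iv F261395)))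
theorem Q25209 : ∀ i, i < 25209 → P i := stepQ 25208 Q25208 (allL N25208 (tt N24122 F259946) (tt N25615 (iv F261129)) (tt N26403 D59173) (tt N24034 (iv D57978)) (tt N26404 D59174) (tt N24035 F259947) (tt N24337 F259948) (tt N26387 (iv F264637)) (tt N24036 F259949) (tt N25724 (iv F261781)))
theorem Q25210 : ∀ i, i < 25210 → P i := stepQ 25209 Q25209 (allL N25209 (tt N24124 F259950) (tt N26405 D59175) (tt N24035 (iv D57979)) (tt N24353 F259951) (tt N26406 D59176) (tt N26403 (iv F264695)) (tt N24346 F259952) (tt N26388 (iv F264642)) (tt N24037 F259953) (tt N25725 (iv F261785)))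
theorem Q25211 : ∀ i, i < 25211 → P i := stepQ 25210 Q25210 (allL N25210 (tt N24125 F259954) (tt N26399 (iv F264682)) (tt N26406 (iv F264706)) (tt N24057 F259955) (tt N24035 (iv D57980)) (tt N26407 D59177) (tt N24347 F259956) (tt N26389 (iv F264647)) (tt N24038 F259957) (tt N25726 (iv F261789)))
theorem Q25212 : ∀ i, i < 25212 → P i := stepQ 25211 Q25211 (allL N25211 (tt N24128 F259958) (tt N26408 D59178) (tt N24036 (iv D57981)) (tt N24040 F259959) (tt N26409 D59179) (tt N24037 F259960) (tt N26027 (iv F263220)) (tt N26390 (iv F264652)) (tt N26403 (iv F264697)) (tt N25638 (iv F261266)))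
theorem Q25213 : ∀ i, i < 25213 → P i := stepQ 25212 Q25212 (allL N25212 (tt N24129 F259961) (tt N25617 (iv F261139)) (tt N26409 (iv F264715)) (tt N24046 F259962) (tt N24036 (iv D57982)) (tt N26104 (iv F263559)) (tt N26028 (iv F263227)) (tt N26391 (iv F264656)) (tt N26404 (iv F264701)) (tt N25639 (iv F261272)))
theorem Q25214 : ∀ i, i < 25214 → P i := stepQ 25213 Q25213 (allL N25213 (tt N26410 D59180) (tt N24037 (iv D57983)) (tt N26400 (iv F264686)) (tt N24041 F259963) (tt N26411 D59181) (tt N26408 (iv F264713)) (tt N25700 (iv F261637)) (tt N26392 (iv F264659)) (tt N26405 (iv F264704)) (tt N26373 (iv F264585)))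
theorem Q25215 : ∀ i, i < 25215 → P i := stepQ 25214 Q25214 (allL N25214 (tt N24131 F259964) (tt N26411 (iv F264719)) (tt N24038 F259965) (tt N24373 F259966) (tt N24037 (iv D57984)) (tt N26412 D59182) (tt N25701 (iv F261644)) (tt N26393 (iv F264663)) (tt N26406 (iv F264708)) (tt N26374 (iv F264589)))
theorem Q25216 : ∀ i, i < 25216 → P i := stepQ 25215 Q25215 (allL N25215 (tt N24132 F259967) (tt N26402 (iv F264690)) (tt N26412 (iv F264722)) (tt N24039 F259968) (tt N26104 (iv F263558)) (tt N24038 (iv D57985)) (tt N26317 (iv F264334)) (tt N26394 (iv F264666)) (tt N26407 (iv F264711)) (tt N26141 (iv F263710)))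
theorem Q25217 : ∀ i, i < 25217 → P i := stepQ 25216 Q25216 (allL N25216 (tt N26413 D59183) (tt N24040 (iv D57986)) (tt N24240 F259969) (tt N26408 (iv F264712)) (tt N24269 F259970) (tt N24041 F259971) (tt N26029 (iv F263232)) (tt N26396 (iv F264674)) (tt N26339 (iv F264438)) (tt N26059 (iv F263366)))
theorem Q25218 : ∀ i, i < 25218 → P i := stepQ 25217 Q25217 (allL N25217 (tt N24041 (iv D57987)) (tt N24136 F259972) (tt N26370 (iv F264576)) (tt N26410 (iv F264718)) (tt N24380 F259973) (tt N26413 (iv F264727)) (tt N25707 (iv F261679)) (tt N26397 (iv F264679)) (tt N26340 (iv F264442)) (tt N26375 (iv F264592)))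
theorem Q25219 : ∀ i, i < 25219 → P i := stepQ 25218 Q25218 (allL N25218 (tt N24296 F259974) (tt N24044 F259975) (tt N24293 F259976) (tt N25622 (iv F261168)) (tt N26386 (iv F264632)) (tt N24042 (iv D57988)) (tt N26154 (iv F263764)) (tt N24045 F259977) (tt N24059 F259978) (tt N25656 (iv F261358)))
theorem Q25220 : ∀ i, i < 25220 → P i := stepQ 25219 Q25219 (allL N25219 (tt N24140 F259979) (tt N25610 (iv F261097)) (tt N24272 F259980) (tt N26391 (iv F264655)) (tt N24043 (iv D57989)) (tt N26103 (iv F263553)) (tt N25884 (iv F262626)) (tt N24046 F259981) (tt N25219 F259982) (tt N24275 F259983))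
theorem Q25221 : ∀ i, i < 25221 → P i := stepQ 25220 Q25220 (allL N25220 (tt N24141 F259984) (tt N26154 (iv F263762)) (tt N24384 F259985) (tt N26101 (iv F263542)) (tt N26395 (iv F264669)) (tt N25220 F259986) (tt N24044 (iv D57990)) (tt N26307 (iv F264296)) (tt N24060 F259987) (tt N26135 (iv F263684)))
theorem Q25222 : ∀ i, i < 25222 → P i := stepQ 25221 Q25221 (allL N25221 (tt N24391 F259988) (tt N24048 F259989) (tt N26321 (iv F264342)) (tt N24389 F259990) (tt N24047 (iv D57991)) (tt N26325 (iv F264365)) (tt N24049 F259991) (tt N24396 F259992) (tt N26377 (iv F264602)) (tt N25221 F259993))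
theorem Q25223 : ∀ i, i < 25223 → P i := stepQ 25222 Q25222 (allL N25222 (tt N24146 F259994) (tt N26325 (iv F264363)) (tt N24058 F259995) (tt N24401 F259996) (tt N25222 F259997) (tt N24048 (iv D57992)) (tt N26329 (iv F264385)) (tt N24400 F259998) (tt N26380 (iv F264617)) (tt N25222 F259999))
theorem Q25224 : ∀ i, i < 25224 → P i := stepQ 25223 Q25223 (allL N25223 (tt N24392 F260000) (tt N24052 F260001) (tt N24389 F260002) (tt N26335 (iv F264413)) (tt N24059 F260003) (tt N24049 (iv D57993)) (tt N26334 (iv F264408)) (tt N24056 F260004) (tt N26386 (iv F264634)) (tt N25223 F260005))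
theorem Q25225 : ∀ i, i < 25225 → P i := stepQ 25224 Q25224 (allL N25224 (tt N24148 F260006) (tt N26155 (iv F263768)) (tt N24398 F260007) (tt N26389 (iv F264645)) (tt N24050 (iv D57994)) (tt N26414 D59184) (tt N24387 F260008) (tt N24057 F260009) (tt N24051 F260010) (tt N25714 (iv F261728)))
theorem Q25226 : ∀ i, i < 25226 → P i := stepQ 25225 Q25225 (allL N25225 (tt N24149 F260011) (tt N26335 (iv F264412)) (tt N24400 F260012) (tt N24052 F260013) (tt N25225 F260014) (tt N24051 (iv D57995)) (tt N26415 D59185) (tt N24058 F260015) (tt N26414 (iv F264732)) (tt N25225 F260016))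
theorem Q25227 : ∀ i, i < 25227 → P i := stepQ 25226 Q25226 (allL N25226 (tt N24150 F260017) (tt N26334 (iv F264406)) (tt N24396 F260018) (tt N26415 (iv F264735)) (tt N24060 F260019) (tt N26329 (iv F264384)) (tt N24052 (iv D57996)) (tt N26321 (iv F264344)) (tt N26395 (iv F264670)) (tt N25226 F260020))
theorem Q25228 : ∀ i, i < 25228 → P i := stepQ 25227 Q25227 (allL N25227 (tt N25657 (iv F261359)) (tt N26307 (iv F264292)) (tt N24053 (iv D57997)) (tt N25927 (iv F262834)) (tt N26416 D59186) (tt N25227 F260021) (tt N24381 F260022) (tt N26154 (iv F263765)) (tt N24054 F260023) (tt N25721 (iv F261769)))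
theorem Q25229 : ∀ i, i < 25229 → P i := stepQ 25228 Q25228 (allL N25228 (tt N25778 (iv F262055)) (tt N24057 F260024) (tt N26416 (iv F264739)) (tt N26399 (iv F264683)) (tt N24053 (iv D57998)) (tt N26417 D59187) (tt N24382 F260025) (tt N26155 (iv F263770)) (tt N24055 F260026) (tt N25722 (iv F261773)))
theorem Q25230 : ∀ i, i < 25230 → P i := stepQ 25229 Q25229 (allL N25229 (tt N25668 (iv F261428)) (tt N26321 (iv F264341)) (tt N24055 F260027) (tt N26329 (iv F264382)) (tt N24054 (iv D57999)) (tt N26415 (iv F264737)) (tt N24401 F260028) (tt N26334 (iv F264409)) (tt N26416 (iv F264741)) (tt N25229 F260029))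
theorem Q25231 : ∀ i, i < 25231 → P i := stepQ 25230 Q25230 (allL N25230 (tt N25666 (iv F261415)) (tt N24058 F260030) (tt N26415 (iv F264734)) (tt N24056 F260031) (tt N25230 F260032) (tt N24055 (iv D58000)) (tt N24400 F260033) (tt N26335 (iv F264415)) (tt N26417 (iv F264745)) (tt N25230 F260034))
theorem Q25232 : ∀ i, i < 25232 → P i := stepQ 25231 Q25231 (allL N25231 (tt N24154 F260035) (tt N26417 (iv F264742)) (tt N26380 (iv F264614)) (tt N26407 (iv F264710)) (tt N25231 F260036) (tt N24057 (iv D58001)) (tt N26330 (iv F264391)) (tt N26414 (iv F264731)) (tt N24058 F260037) (tt N25727 (iv F261793)))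
theorem Q25233 : ∀ i, i < 25233 → P i := stepQ 25232 Q25232 (allL N25232 (tt N26194 (iv F263909)) (tt N24065 F260038) (tt N26418 D59188) (tt N24062 (iv D58002)) (tt N26419 D59189) (tt N24307 F260039) (tt N25720 (iv F261763)) (tt N24315 F260040) (tt N26124 (iv F263644)) (tt N24343 F260041))
theorem Q25234 : ∀ i, i < 25234 → P i := stepQ 25233 Q25233 (allL N25233 (tt N25622 (iv F261165)) (tt N25654 (iv F261341)) (tt N24063 (iv D58003)) (tt N24296 F260042) (tt N26420 D59190) (tt N24332 F260043) (tt N25721 (iv F261767)) (tt N24333 F260044) (tt N25233 F260045) (tt N24381 F260046))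
theorem Q25235 : ∀ i, i < 25235 → P i := stepQ 25234 Q25234 (allL N25234 (tt N25739 (iv F261852)) (tt N24066 F260047) (tt N26420 (iv F264755)) (tt N26419 (iv F264751)) (tt N24063 (iv D58004)) (tt N24399 F260048) (tt N25722 (iv F261771)) (tt N24334 F260049) (tt N25234 F260050) (tt N24382 F260051))
theorem Q25236 : ∀ i, i < 25236 → P i := stepQ 25235 Q25235 (allL N25235 (tt N25748 (iv F261902)) (tt N26124 (iv F263641)) (tt N26421 D59191) (tt N24064 (iv D58005)) (tt N26422 D59192) (tt N24308 F260052) (tt N25723 (iv F261775)) (tt N24320 F260053) (tt N24065 F260054) (tt N25691 (iv F261588)))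
theorem Q25237 : ∀ i, i < 25237 → P i := stepQ 25236 Q25236 (allL N25236 (tt N25795 (iv F262140)) (tt N26423 D59193) (tt N24065 (iv D58006)) (tt N24067 F260055) (tt N26424 D59194) (tt N24309 F260056) (tt N25725 (iv F261784)) (tt N24325 F260057) (tt N26421 (iv F264763)) (tt N24346 F260058))
theorem Q25238 : ∀ i, i < 25238 → P i := stepQ 25237 Q25237 (allL N25237 (tt N25796 (iv F262146)) (tt N26419 (iv F264750)) (tt N26424 (iv F264771)) (tt N24066 F260059) (tt N24065 (iv D58007)) (tt N26114 (iv F263604)) (tt N25726 (iv F261788)) (tt N24326 F260060) (tt N26422 (iv F264766)) (tt N24347 F260061))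
theorem Q25239 : ∀ i, i < 25239 → P i := stepQ 25238 Q25238 (allL N25238 (tt N26425 D59195) (tt N24067 (iv D58008)) (tt N24302 F260062) (tt N26423 (iv F264767)) (tt N26360 (iv F264534)) (tt N24310 F260063) (tt N25730 (iv F261804)) (tt N24330 F260064) (tt N24092 F260065) (tt N24354 F260066))
theorem Q25240 : ∀ i, i < 25240 → P i := stepQ 25239 Q25239 (allL N25239 (tt N25601 (iv F261037)) (tt N25712 (iv F261712)) (tt N24318 F260067) (tt N26426 D59196) (tt N25239 F260068) (tt N25709 (iv F261692)) (tt N24076 F260069) (tt N25614 (iv F261126)) (tt N24068 (iv D58009)) (tt N25608 (iv F261089)))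
theorem Q25241 : ∀ i, i < 25241 → P i := stepQ 25240 Q25240 (allL N25240 (tt N25603 (iv F261053)) (tt N26332 (iv F264397)) (tt N26427 D59197) (tt N24069 (iv D58010)) (tt N26428 D59198) (tt N26165 (iv F263810)) (tt N24077 F260070) (tt N25642 (iv F261290)) (tt N26426 (iv F264780)) (tt N24094 F260071))
theorem Q25242 : ∀ i, i < 25242 → P i := stepQ 25241 Q25241 (allL N25241 (tt N25604 (iv F261057)) (tt N26022 (iv F263194)) (tt N24153 F260072) (tt N26428 (iv F264784)) (tt N24070 (iv D58011)) (tt N26429 D59199) (tt N24078 F260073) (tt N25671 (iv F261454)) (tt N25241 F260074) (tt N24095 F260075))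
theorem Q25243 : ∀ i, i < 25243 → P i := stepQ 25242 Q25242 (allL N25242 (tt N25606 (iv F261069)) (tt N26430 D59200) (tt N24071 (iv D58012)) (tt N26427 (iv F264781)) (tt N25689 (iv F261572)) (tt N26172 (iv F263825)) (tt N24079 F260076) (tt N25733 (iv F261821)) (tt N24329 F260077) (tt N24097 F260078))
theorem Q25244 : ∀ i, i < 25244 → P i := stepQ 25243 Q25243 (allL N25243 (tt N25929 (iv F262843)) (tt N24076 F260079) (tt N25715 (iv F261731)) (tt N26431 D59201) (tt N25243 F260080) (tt N24294 F260081) (tt N25712 (iv F261716)) (tt N24080 F260082) (tt N24072 (iv D58013)) (tt N25881 (iv F262609)))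
theorem Q25245 : ∀ i, i < 25245 → P i := stepQ 25244 Q25244 (allL N25244 (tt N26163 (iv F263799)) (tt N24077 F260083) (tt N26432 D59202) (tt N24073 (iv D58014)) (tt N26433 D59203) (tt N24295 F260084) (tt N26332 (iv F264398)) (tt N24082 F260085) (tt N26431 (iv F264798)) (tt N24099 F260086))
theorem Q25246 : ∀ i, i < 25246 → P i := stepQ 25245 Q25245 (allL N25245 (tt N25762 (iv F261968)) (tt N24078 F260087) (tt N24236 F260088) (tt N26433 (iv F264804)) (tt N24074 (iv D58015)) (tt N26216 (iv F264006)) (tt N26022 (iv F263196)) (tt N24083 F260089) (tt N25245 F260090) (tt N24100 F260091))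
theorem Q25247 : ∀ i, i < 25247 → P i := stepQ 25246 Q25246 (allL N25246 (tt N25711 (iv F261703)) (tt N25881 (iv F262603)) (tt N24319 F260092) (tt N26434 D59204) (tt N25246 F260093) (tt N24298 F260094) (tt N25608 (iv F261087)) (tt N24085 F260095) (tt N24075 (iv D58016)) (tt N24076 F260096))
theorem Q25248 : ∀ i, i < 25248 → P i := stepQ 25247 Q25247 (allL N25247 (tt N26333 (iv F264400)) (tt N26431 (iv F264795)) (tt N26435 D59205) (tt N24076 (iv D58017)) (tt N26436 D59206) (tt N24299 F260097) (tt N26426 (iv F264779)) (tt N24086 F260098) (tt N24077 F260099) (tt N26434 (iv F264810)))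
theorem Q25249 : ∀ i, i < 25249 → P i := stepQ 25248 Q25248 (allL N25248 (tt N26358 (iv F264524)) (tt N26437 D59207) (tt N24077 (iv D58018)) (tt N24079 F260100) (tt N26438 D59208) (tt N24300 F260101) (tt N26427 (iv F264782)) (tt N24088 F260102) (tt N26435 (iv F264814)) (tt N24106 F260103))
theorem Q25250 : ∀ i, i < 25250 → P i := stepQ 25249 Q25249 (allL N25249 (tt N26359 (iv F264529)) (tt N26433 (iv F264803)) (tt N26438 (iv F264822)) (tt N24078 F260104) (tt N24077 (iv D58019)) (tt N26305 (iv F264284)) (tt N26428 (iv F264785)) (tt N24089 F260105) (tt N26436 (iv F264817)) (tt N24107 F260106))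
theorem Q25251 : ∀ i, i < 25251 → P i := stepQ 25250 Q25250 (allL N25250 (tt N26439 D59209) (tt N24079 (iv D58020)) (tt N24310 F260107) (tt N26437 (iv F264818)) (tt N26361 (iv F264540)) (tt N24302 F260108) (tt N26430 (iv F264792)) (tt N24092 F260109) (tt N24330 F260110) (tt N24110 F260111))
theorem Q25252 : ∀ i, i < 25252 → P i := stepQ 25251 Q25251 (allL N25251 (tt N26259 (iv F264145)) (tt N24086 F260112) (tt N26440 D59210) (tt N24080 (iv D58021)) (tt N26441 D59211) (tt N26183 (iv F263867)) (tt N25744 (iv F261879)) (tt N26431 (iv F264797)) (tt N24082 F260113) (tt N26222 (iv F264037)))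
theorem Q25253 : ∀ i, i < 25253 → P i := stepQ 25252 Q25252 (allL N25252 (tt N24358 F260114) (tt N24087 F260115) (tt N26442 D59212) (tt N24081 (iv D58022)) (tt N25806 (iv F262199)) (tt N24082 F260116) (tt N24356 F260117) (tt N24295 F260118) (tt N26183 (iv F263870)) (tt N24117 F260119))
theorem Q25254 : ∀ i, i < 25254 → P i := stepQ 25253 Q25253 (allL N25253 (tt N26263 (iv F264160)) (tt N26443 D59213) (tt N24082 (iv D58023)) (tt N24316 F260120) (tt N26444 D59214) (tt N26442 (iv F264836)) (tt N25745 (iv F261886)) (tt N26432 (iv F264801)) (tt N26440 (iv F264830)) (tt N24118 F260121))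
theorem Q25255 : ∀ i, i < 25255 → P i := stepQ 25254 Q25254 (allL N25254 (tt N25764 (iv F261983)) (tt N24089 F260122) (tt N26444 (iv F264843)) (tt N24083 F260123) (tt N24082 (iv D58024)) (tt N26217 (iv F264012)) (tt N25746 (iv F261892)) (tt N26433 (iv F264805)) (tt N26441 (iv F264833)) (tt N24119 F260124))
theorem Q25256 : ∀ i, i < 25256 → P i := stepQ 25255 Q25255 (allL N25255 (tt N25637 (iv F261255)) (tt N26183 (iv F263866)) (tt N26445 D59215) (tt N24084 (iv D58025)) (tt N26070 (iv F263409)) (tt N24086 F260125) (tt N25770 (iv F262014)) (tt N24299 F260126) (tt N24087 F260127) (tt N26121 (iv F263629)))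
theorem Q25257 : ∀ i, i < 25257 → P i := stepQ 25256 Q25256 (allL N25256 (tt N25723 (iv F261774)) (tt N26222 (iv F264033)) (tt N26446 D59216) (tt N24085 (iv D58026)) (tt N26447 D59217) (tt N26121 (iv F263625)) (tt N25748 (iv F261905)) (tt N26434 (iv F264808)) (tt N24123 F260128) (tt N24086 F260129))
theorem Q25258 : ∀ i, i < 25258 → P i := stepQ 25257 Q25257 (allL N25257 (tt N26371 (iv F264579)) (tt N26448 D59218) (tt N24086 (iv D58027)) (tt N26421 (iv F264760)) (tt N26449 D59219) (tt N26445 (iv F264846)) (tt N25749 (iv F261909)) (tt N26435 (iv F264813)) (tt N24088 F260130) (tt N26446 (iv F264850)))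
theorem Q25259 : ∀ i, i < 25259 → P i := stepQ 25258 Q25258 (allL N25258 (tt N26372 (iv F264581)) (tt N26441 (iv F264831)) (tt N26449 (iv F264855)) (tt N25258 F260131) (tt N24086 (iv D58028)) (tt N26314 (iv F264323)) (tt N25750 (iv F261912)) (tt N26436 (iv F264816)) (tt N24089 F260132) (tt N26447 (iv F264853)))
theorem Q25260 : ∀ i, i < 25260 → P i := stepQ 25259 Q25259 (allL N25259 (tt N25638 (iv F261261)) (tt N26450 D59220) (tt N24087 (iv D58029)) (tt N24091 F260133) (tt N26069 (iv F263404)) (tt N24088 F260134) (tt N26364 (iv F264558)) (tt N24300 F260135) (tt N26445 (iv F264848)) (tt N24128 F260136))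
theorem Q25261 : ∀ i, i < 25261 → P i := stepQ 25260 Q25260 (allL N25260 (tt N26451 D59221) (tt N24088 (iv D58030)) (tt N26443 (iv F264840)) (tt N24092 F260137) (tt N26452 D59222) (tt N26450 (iv F264858)) (tt N25752 (iv F261922)) (tt N26437 (iv F264820)) (tt N26448 (iv F264854)) (tt N24130 F260138))
theorem Q25262 : ∀ i, i < 25262 → P i := stepQ 25261 Q25261 (allL N25261 (tt N26374 (iv F264586)) (tt N26452 (iv F264863)) (tt N24089 F260139) (tt N26291 (iv F264242)) (tt N24088 (iv D58031)) (tt N26290 F264239) (tt N25753 (iv F261925)) (tt N26438 (iv F264823)) (tt N26449 (iv F264856)) (tt N24131 F260140))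
theorem Q25263 : ∀ i, i < 25263 → P i := stepQ 25262 Q25262 (allL N25262 (tt N24263 F260141) (tt N26453 D59223) (tt N24090 (iv D58032)) (tt N26364 (iv F264556)) (tt N25674 (iv F261473)) (tt N25756 (iv F261942)) (tt N24091 F260142) (tt N26145 (iv F263726)) (tt N24306 F260143) (tt N24134 F260144))
theorem Q25264 : ∀ i, i < 25264 → P i := stepQ 25263 Q25263 (allL N25263 (tt N26454 D59224) (tt N24091 (iv D58033)) (tt N24330 F260145) (tt N26450 (iv F264857)) (tt N26061 (iv F263376)) (tt N24092 F260146) (tt N26453 (iv F264866)) (tt N24302 F260147) (tt N24310 F260148) (tt N24135 F260149))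
theorem Q25265 : ∀ i, i < 25265 → P i := stepQ 25264 Q25264 (allL N25264 (tt N24092 (iv D58034)) (tt N26375 (iv F264590)) (tt N24331 F260150) (tt N26451 (iv F264861)) (tt N26362 (iv F264547)) (tt N26454 (iv F264870)) (tt N25760 (iv F261959)) (tt N26439 (iv F264827)) (tt N26425 (iv F264777)) (tt N24136 F260151))
theorem Q25266 : ∀ i, i < 25266 → P i := stepQ 25265 Q25265 (allL N25265 (tt N26268 (iv F264175)) (tt N26333 (iv F264401)) (tt N26455 D59225) (tt N24093 (iv D58035)) (tt N26456 D59226) (tt N24094 F260152) (tt N25931 (iv F262854)) (tt N25641 (iv F261286)) (tt N25628 (iv F261210)) (tt N26165 (iv F263812)))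
theorem Q25267 : ∀ i, i < 25267 → P i := stepQ 25266 Q25266 (allL N25266 (tt N26378 (iv F264603)) (tt N26457 D59227) (tt N24094 (iv D58036)) (tt N24097 F260153) (tt N26458 D59228) (tt N26455 (iv F264875)) (tt N24106 F260154) (tt N25643 (iv F261295)) (tt N25629 (iv F261216)) (tt N26427 (iv F264783)))
theorem Q25268 : ∀ i, i < 25268 → P i := stepQ 25267 Q25267 (allL N25267 (tt N26379 (iv F264608)) (tt N26024 (iv F263203)) (tt N26458 (iv F264879)) (tt N24095 F260155) (tt N24094 (iv D58037)) (tt N26459 D59229) (tt N24107 F260156) (tt N25644 (iv F261300)) (tt N25630 (iv F261222)) (tt N26428 (iv F264786)))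
theorem Q25269 : ∀ i, i < 25269 → P i := stepQ 25268 Q25268 (allL N25268 (tt N26380 (iv F264613)) (tt N26025 (iv F263208)) (tt N24154 F260157) (tt N26459 (iv F264882)) (tt N25268 F260158) (tt N24095 (iv D58038)) (tt N26331 (iv F264395)) (tt N25672 (iv F261461)) (tt N24146 F260159) (tt N26429 (iv F264790)))
theorem Q25270 : ∀ i, i < 25270 → P i := stepQ 25269 Q25269 (allL N25269 (tt N26381 (iv F264618)) (tt N26460 D59230) (tt N24096 (iv D58039)) (tt N26455 (iv F264874)) (tt N26461 D59231) (tt N24097 F260160) (tt N25935 (iv F262866)) (tt N25767 (iv F262002)) (tt N25958 (iv F262965)) (tt N26172 (iv F263828)))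
theorem Q25271 : ∀ i, i < 25271 → P i := stepQ 25270 Q25270 (allL N25270 (tt N26382 (iv F264620)) (tt N24341 F260161) (tt N26461 (iv F264885)) (tt N25270 F260162) (tt N24096 (iv D58040)) (tt N26349 (iv F264487)) (tt N25936 (iv F262871)) (tt N25768 (iv F262006)) (tt N25959 (iv F262972)) (tt N26173 (iv F263833)))
theorem Q25272 : ∀ i, i < 25272 → P i := stepQ 25271 Q25271 (allL N25271 (tt N26462 D59232) (tt N24097 (iv D58041)) (tt N24342 F260163) (tt N26457 (iv F264877)) (tt N26350 (iv F264493)) (tt N26460 (iv F264884)) (tt N24110 F260164) (tt N25769 (iv F262010)) (tt N26342 (iv F264451)) (tt N26430 (iv F264794)))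
theorem Q25273 : ∀ i, i < 25273 → P i := stepQ 25272 Q25272 (allL N25272 (tt N26162 (iv F263793)) (tt N24105 F260165) (tt N26463 D59233) (tt N24098 (iv D58042)) (tt N26464 D59234) (tt N24099 F260166) (tt N25926 (iv F262832)) (tt N24117 F260167) (tt N26085 (iv F263471)) (tt N24295 F260168))
theorem Q25274 : ∀ i, i < 25274 → P i := stepQ 25273 Q25273 (allL N25273 (tt N26164 (iv F263805)) (tt N26465 D59235) (tt N24099 (iv D58043)) (tt N24344 F260169) (tt N26466 D59236) (tt N26463 (iv F264889)) (tt N26281 (iv F264216)) (tt N24118 F260170) (tt N26086 (iv F263476)) (tt N26432 (iv F264802)))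
theorem Q25275 : ∀ i, i < 25275 → P i := stepQ 25274 Q25274 (allL N25274 (tt N25817 (iv F262244)) (tt N24107 F260171) (tt N26466 (iv F264899)) (tt N24100 F260172) (tt N24099 (iv D58044)) (tt N26315 (iv F264325)) (tt N26024 (iv F263205)) (tt N24119 F260173) (tt N26087 (iv F263482)) (tt N26433 (iv F264806)))
theorem Q25276 : ∀ i, i < 25276 → P i := stepQ 25275 Q25275 (allL N25275 (tt N25712 (iv F261711)) (tt N25882 (iv F262611)) (tt N24199 F260174) (tt N26467 D59237) (tt N25275 F260175) (tt N24103 F260176) (tt N25929 (iv F262848)) (tt N24121 F260177) (tt N24101 (iv D58045)) (tt N24102 F260178))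
theorem Q25277 : ∀ i, i < 25277 → P i := stepQ 25276 Q25276 (allL N25276 (tt N26387 (iv F264635)) (tt N26085 (iv F263468)) (tt N26468 D59238) (tt N24102 (iv D58046)) (tt N26469 D59239) (tt N24104 F260179) (tt N25930 (iv F262851)) (tt N24122 F260180) (tt N24105 F260181) (tt N26467 (iv F264905)))
theorem Q25278 : ∀ i, i < 25278 → P i := stepQ 25277 Q25277 (allL N25277 (tt N25713 (iv F261719)) (tt N25883 (iv F262619)) (tt N26470 D59240) (tt N24103 (iv D58047)) (tt N26471 D59241) (tt N26467 (iv F264902)) (tt N25609 (iv F261093)) (tt N24123 F260182) (tt N26434 (iv F264809)) (tt N24104 F260183))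
theorem Q25279 : ∀ i, i < 25279 → P i := stepQ 25278 Q25278 (allL N25278 (tt N26388 (iv F264639)) (tt N26472 D59242) (tt N24104 (iv D58048)) (tt N25627 (iv F261200)) (tt N26473 D59243) (tt N26468 (iv F264907)) (tt N25629 (iv F261214)) (tt N24124 F260184) (tt N24106 F260185) (tt N26470 (iv F264914)))
theorem Q25280 : ∀ i, i < 25280 → P i := stepQ 25279 Q25279 (allL N25279 (tt N26389 (iv F264644)) (tt N26087 (iv F263478)) (tt N26473 (iv F264920)) (tt N24148 F260186) (tt N24104 (iv D58049)) (tt N26474 D59244) (tt N25630 (iv F261220)) (tt N24125 F260187) (tt N24107 F260188) (tt N26471 (iv F264917)))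
theorem Q25281 : ∀ i, i < 25281 → P i := stepQ 25280 Q25280 (allL N25280 (tt N26390 (iv F264649)) (tt N26475 D59245) (tt N24105 (iv D58050)) (tt N24109 F260189) (tt N26476 D59246) (tt N24106 F260190) (tt N25932 (iv F262857)) (tt N24128 F260191) (tt N26468 (iv F264909)) (tt N24300 F260192))
theorem Q25282 : ∀ i, i < 25282 → P i := stepQ 25281 Q25281 (allL N25281 (tt N26391 (iv F264654)) (tt N26464 (iv F264892)) (tt N26476 (iv F264930)) (tt N24140 F260193) (tt N24105 (iv D58051)) (tt N26215 (iv F264001)) (tt N25933 (iv F262860)) (tt N24129 F260194) (tt N26469 (iv F264912)) (tt N24301 F260195))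
theorem Q25283 : ∀ i, i < 25283 → P i := stepQ 25282 Q25282 (allL N25282 (tt N26477 D59247) (tt N24106 (iv D58052)) (tt N26465 (iv F264896)) (tt N24110 F260196) (tt N26478 D59248) (tt N26475 (iv F264927)) (tt N26457 (iv F264878)) (tt N24130 F260197) (tt N26472 (iv F264919)) (tt N26437 (iv F264821)))
theorem Q25284 : ∀ i, i < 25284 → P i := stepQ 25283 Q25283 (allL N25283 (tt N26393 (iv F264660)) (tt N26478 (iv F264935)) (tt N24107 F260198) (tt N25798 (iv F262159)) (tt N24106 (iv D58053)) (tt N26479 D59249) (tt N26458 (iv F264881)) (tt N24131 F260199) (tt N26473 (iv F264922)) (tt N26438 (iv F264824)))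
theorem Q25285 : ∀ i, i < 25285 → P i := stepQ 25284 Q25284 (allL N25284 (tt N26394 (iv F264664)) (tt N26315 (iv F264324)) (tt N26479 (iv F264937)) (tt N24108 F260200) (tt N26215 (iv F264000)) (tt N24107 (iv D58054)) (tt N26480 D59250) (tt N24132 F260201) (tt N26474 (iv F264925)) (tt N26305 (iv F264286)))
theorem Q25286 : ∀ i, i < 25286 → P i := stepQ 25285 Q25285 (allL N25285 (tt N26395 (iv F264667)) (tt N26306 (iv F264287)) (tt N25822 (iv F262273)) (tt N26480 (iv F264939)) (tt N24141 F260202) (tt N26331 (iv F264394)) (tt N24108 (iv D58055)) (tt N26308 (iv F264301)) (tt N24150 F260203) (tt N26303 (iv F264277)))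
theorem Q25287 : ∀ i, i < 25287 → P i := stepQ 25286 Q25286 (allL N25286 (tt N26481 D59251) (tt N24109 (iv D58056)) (tt N24354 F260204) (tt N26475 (iv F264926)) (tt N26369 (iv F264570)) (tt N24110 F260205) (tt N25937 (iv F262875)) (tt N24135 F260206) (tt N24204 F260207) (tt N24302 F260208))
theorem Q25288 : ∀ i, i < 25288 → P i := stepQ 25287 Q25287 (allL N25287 (tt N24110 (iv D58057)) (tt N26397 (iv F264677)) (tt N24355 F260209) (tt N26477 (iv F264933)) (tt N26363 (iv F264552)) (tt N26481 (iv F264941)) (tt N26462 (iv F264887)) (tt N24136 F260210) (tt N26344 (iv F264460)) (tt N26439 (iv F264829)))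
theorem Q25289 : ∀ i, i < 25289 → P i := stepQ 25288 Q25288 (allL N25288 (tt N24117 F260211) (tt N24324 F260212) (tt N26482 D59252) (tt N24111 (iv D58058)) (tt N26483 D59253) (tt N24112 F260213) (tt N24315 F260214) (tt N26162 (iv F263796)) (tt N26147 (iv F263740)) (tt N24358 F260215))
theorem Q25290 : ∀ i, i < 25290 → P i := stepQ 25289 Q25289 (allL N25289 (tt N24118 F260216) (tt N26484 D59254) (tt N24112 (iv D58059)) (tt N24357 F260217) (tt N25813 (iv F262221)) (tt N26482 (iv F264947)) (tt N25786 (iv F262096)) (tt N26164 (iv F263808)) (tt N26148 (iv F263744)) (tt N26263 (iv F264164)))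
theorem Q25291 : ∀ i, i < 25291 → P i := stepQ 25290 Q25290 (allL N25290 (tt N26147 (iv F263735)) (tt N24122 F260218) (tt N26485 D59255) (tt N24113 (iv D58060)) (tt N26486 D59256) (tt N24115 F260219) (tt N26238 (iv F264091)) (tt N26085 (iv F263470)) (tt N24117 F260220) (tt N26237 (iv F264087)))
theorem Q25292 : ∀ i, i < 25292 → P i := stepQ 25291 Q25291 (allL N25291 (tt N25923 (iv F262818)) (tt N24123 F260221) (tt N26487 D59257) (tt N24114 (iv D58061)) (tt N26488 D59258) (tt N26237 (iv F264084)) (tt N25788 (iv F262107)) (tt N25883 (iv F262621)) (tt N26222 (iv F264036)) (tt N24115 F260222))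
theorem Q25293 : ∀ i, i < 25293 → P i := stepQ 25292 Q25292 (allL N25292 (tt N26148 (iv F263741)) (tt N26489 D59259) (tt N24115 (iv D58062)) (tt N26084 (iv F263462)) (tt N26490 D59260) (tt N26485 (iv F264956)) (tt N25789 (iv F262113)) (tt N26086 (iv F263475)) (tt N24118 F260223) (tt N26487 (iv F264961)))
theorem Q25294 : ∀ i, i < 25294 → P i := stepQ 25293 Q25293 (allL N25293 (tt N25819 (iv F262254)) (tt N24125 F260224) (tt N26490 (iv F264967)) (tt N24152 F260225) (tt N24115 (iv D58063)) (tt N26316 (iv F264329)) (tt N25790 (iv F262118)) (tt N26087 (iv F263481)) (tt N24119 F260226) (tt N26488 (iv F264964)))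
theorem Q25295 : ∀ i, i < 25295 → P i := stepQ 25294 Q25294 (allL N25294 (tt N24315 F260227) (tt N24127 F260228) (tt N26491 D59261) (tt N24116 (iv D58064)) (tt N25754 (iv F261930)) (tt N24311 F260229) (tt N24117 F260230) (tt N26194 (iv F263912)) (tt N26238 (iv F264093)) (tt N24356 F260231))
theorem Q25296 : ∀ i, i < 25296 → P i := stepQ 25295 Q25295 (allL N25295 (tt N26482 (iv F264945)) (tt N26492 D59262) (tt N24117 (iv D58065)) (tt N24359 F260232) (tt N26493 D59263) (tt N24118 F260233) (tt N26491 (iv F264972)) (tt N26463 (iv F264890)) (tt N26485 (iv F264957)) (tt N26442 (iv F264839)))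
theorem Q25297 : ∀ i, i < 25297 → P i := stepQ 25296 Q25296 (allL N25296 (tt N26483 (iv F264950)) (tt N24129 F260234) (tt N26493 (iv F264977)) (tt N24143 F260235) (tt N24117 (iv D58066)) (tt N26218 (iv F264017)) (tt N25754 F261932) (tt N26464 (iv F264894)) (tt N26486 (iv F264960)) (tt N25806 (iv F262201)))
theorem Q25298 : ∀ i, i < 25298 → P i := stepQ 25297 Q25297 (allL N25297 (tt N26494 D59264) (tt N24118 (iv D58067)) (tt N24130 F260236) (tt N24361 F260237) (tt N26495 D59265) (tt N26492 (iv F264976)) (tt N25792 (iv F262131)) (tt N26465 (iv F264898)) (tt N26489 (iv F264966)) (tt N26443 (iv F264842)))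
theorem Q25299 : ∀ i, i < 25299 → P i := stepQ 25298 Q25298 (allL N25298 (tt N25813 (iv F262219)) (tt N26495 (iv F264980)) (tt N24119 F260238) (tt N25706 (iv F261673)) (tt N24118 (iv D58068)) (tt N26298 (iv F264264)) (tt N25793 (iv F262133)) (tt N26466 (iv F264901)) (tt N26490 (iv F264968)) (tt N26444 (iv F264844)))
theorem Q25300 : ∀ i, i < 25300 → P i := stepQ 25299 Q25299 (allL N25299 (tt N24337 F260239) (tt N26238 (iv F264089)) (tt N26496 D59266) (tt N24120 (iv D58069)) (tt N26497 D59267) (tt N24279 F260240) (tt N24122 F260241) (tt N26105 (iv F263564)) (tt N24127 F260242) (tt N26227 (iv F264059)))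
theorem Q25301 : ∀ i, i < 25301 → P i := stepQ 25300 Q25300 (allL N25300 (tt N25724 (iv F261778)) (tt N26237 (iv F264083)) (tt N26498 D59268) (tt N24121 (iv D58070)) (tt N26499 D59269) (tt N24123 F260243) (tt N26227 (iv F264056)) (tt N26467 (iv F264903)) (tt N26121 (iv F263628)) (tt N24122 F260244))
theorem Q25302 : ∀ i, i < 25302 → P i := stepQ 25301 Q25301 (allL N25301 (tt N26403 (iv F264693)) (tt N26500 D59270) (tt N24122 (iv D58071)) (tt N26348 (iv F264479)) (tt N26501 D59271) (tt N24124 F260245) (tt N26496 (iv F264985)) (tt N26468 (iv F264908)) (tt N24128 F260246) (tt N26498 (iv F264992)))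
theorem Q25303 : ∀ i, i < 25303 → P i := stepQ 25302 Q25302 (allL N25302 (tt N26404 (iv F264698)) (tt N26486 (iv F264958)) (tt N26501 (iv F264997)) (tt N25302 F260247) (tt N24122 (iv D58072)) (tt N26219 (iv F264022)) (tt N26497 (iv F264989)) (tt N26469 (iv F264911)) (tt N24129 F260248) (tt N26499 (iv F264994)))
theorem Q25304 : ∀ i, i < 25304 → P i := stepQ 25303 Q25303 (allL N25303 (tt N25725 (iv F261782)) (tt N26502 D59272) (tt N24123 (iv D58073)) (tt N25689 (iv F261571)) (tt N26503 D59273) (tt N26498 (iv F264991)) (tt N25795 (iv F262143)) (tt N26470 (iv F264913)) (tt N26446 (iv F264849)) (tt N24124 F260249))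
theorem Q25305 : ∀ i, i < 25305 → P i := stepQ 25304 Q25304 (allL N25304 (tt N25726 (iv F261786)) (tt N26488 (iv F264962)) (tt N26503 (iv F265000)) (tt N24153 F260250) (tt N24123 (iv D58074)) (tt N26504 D59274) (tt N25796 (iv F262149)) (tt N26471 (iv F264916)) (tt N26447 (iv F264852)) (tt N24125 F260251))
theorem Q25306 : ∀ i, i < 25306 → P i := stepQ 25305 Q25305 (allL N25305 (tt N26505 D59275) (tt N24124 (iv D58075)) (tt N26489 (iv F264965)) (tt N26350 (iv F264492)) (tt N26506 D59276) (tt N26500 (iv F264995)) (tt N25797 (iv F262154)) (tt N26472 (iv F264918)) (tt N24130 F260252) (tt N26502 (iv F264999)))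
theorem Q25307 : ∀ i, i < 25307 → P i := stepQ 25306 Q25306 (allL N25306 (tt N26406 (iv F264705)) (tt N26506 (iv F265005)) (tt N24125 F260253) (tt N26458 (iv F264880)) (tt N24124 (iv D58076)) (tt N26507 D59277) (tt N25798 (iv F262160)) (tt N26473 (iv F264921)) (tt N24131 F260254) (tt N26503 (iv F265001)))
theorem Q25308 : ∀ i, i < 25308 → P i := stepQ 25307 Q25307 (allL N25307 (tt N26407 (iv F264709)) (tt N26316 (iv F264327)) (tt N26507 (iv F265007)) (tt N24154 F260255) (tt N26219 (iv F264021)) (tt N24125 (iv D58077)) (tt N26319 (iv F264338)) (tt N26474 (iv F264924)) (tt N24132 F260256) (tt N26504 (iv F265003)))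
theorem Q25309 : ∀ i, i < 25309 → P i := stepQ 25308 Q25308 (allL N25308 (tt N25788 (iv F262104)) (tt N26194 (iv F263910)) (tt N26508 D59278) (tt N24126 (iv D58078)) (tt N26509 D59279) (tt N25800 (iv F262172)) (tt N25923 (iv F262819)) (tt N24127 F260257) (tt N26105 (iv F263565)) (tt N25785 (iv F262092)))
theorem Q25310 : ∀ i, i < 25310 → P i := stepQ 25309 Q25309 (allL N25309 (tt N26027 (iv F263217)) (tt N26510 D59280) (tt N24127 (iv D58079)) (tt N24134 F260258) (tt N26511 D59281) (tt N25801 (iv F262180)) (tt N24128 F260259) (tt N26508 (iv F265010)) (tt N26496 (iv F264986)) (tt N26364 (iv F264559)))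
theorem Q25311 : ∀ i, i < 25311 → P i := stepQ 25310 Q25310 (allL N25310 (tt N26028 (iv F263223)) (tt N25754 (iv F261928)) (tt N26511 (iv F265015)) (tt N24145 F260260) (tt N24127 (iv D58080)) (tt N25746 (iv F261891)) (tt N24129 F260261) (tt N26509 (iv F265012)) (tt N26497 (iv F264990)) (tt N25794 (iv F262139)))
theorem Q25312 : ∀ i, i < 25312 → P i := stepQ 25311 Q25311 (allL N25311 (tt N26512 D59282) (tt N24128 (iv D58081)) (tt N26492 (iv F264974)) (tt N24135 F260262) (tt N26513 D59283) (tt N24130 F260263) (tt N26510 (iv F265014)) (tt N26475 (iv F264928)) (tt N26500 (iv F264996)) (tt N26450 (iv F264860)))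
theorem Q25313 : ∀ i, i < 25313 → P i := stepQ 25312 Q25312 (allL N25312 (tt N26409 (iv F264714)) (tt N26513 (iv F265019)) (tt N24129 F260264) (tt N26049 (iv F263318)) (tt N24128 (iv D58082)) (tt N26208 (iv F263966)) (tt N26511 (iv F265016)) (tt N26476 (iv F264931)) (tt N26501 (iv F264998)) (tt N26069 (iv F263407)))
theorem Q25314 : ∀ i, i < 25314 → P i := stepQ 25313 Q25313 (allL N25313 (tt N24130 (iv D58083)) (tt N26410 (iv F264717)) (tt N26494 (iv F264978)) (tt N24136 F260265) (tt N26514 D59284) (tt N26512 (iv F265018)) (tt N25803 (iv F262190)) (tt N26477 (iv F264934)) (tt N26505 (iv F265004)) (tt N26451 (iv F264862)))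
theorem Q25315 : ∀ i, i < 25315 → P i := stepQ 25314 Q25314 (allL N25314 (tt N26514 (iv F265020)) (tt N24131 F260266) (tt N26495 (iv F264981)) (tt N26368 (iv F264568)) (tt N24130 (iv D58084)) (tt N26515 D59285) (tt N25804 (iv F262192)) (tt N26478 (iv F264936)) (tt N26506 (iv F265006)) (tt N26452 (iv F264864)))
theorem Q25316 : ∀ i, i < 25316 → P i := stepQ 25315 Q25315 (allL N25315 (tt N26412 (iv F264721)) (tt N26515 (iv F265021)) (tt N24132 F260267) (tt N26200 F263941) (tt N26208 (iv F263965)) (tt N24131 (iv D58085)) (tt N26318 (iv F264335)) (tt N26479 (iv F264938)) (tt N26507 (iv F265008)) (tt N26290 (iv F264238)))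
theorem Q25317 : ∀ i, i < 25317 → P i := stepQ 25316 Q25316 (allL N25316 (tt N26026 (iv F263213)) (tt N26516 D59286) (tt N24133 (iv D58086)) (tt N26508 (iv F265009)) (tt N25681 (iv F261523)) (tt N25807 (iv F262203)) (tt N25925 (iv F262827)) (tt N24134 F260268) (tt N25938 (iv F262881)) (tt N26145 (iv F263728)))
theorem Q25318 : ∀ i, i < 25318 → P i := stepQ 25317 Q25317 (allL N25317 (tt N26517 D59287) (tt N24134 (iv D58087)) (tt N24379 F260269) (tt N26510 (iv F265013)) (tt N25687 (iv F261561)) (tt N25809 (iv F262211)) (tt N24135 F260270) (tt N26516 (iv F265023)) (tt N26356 (iv F264517)) (tt N26453 (iv F264868)))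
theorem Q25319 : ∀ i, i < 25319 → P i := stepQ 25318 Q25318 (allL N25318 (tt N24135 (iv D58088)) (tt N26413 (iv F264724)) (tt N24380 F260271) (tt N26512 (iv F265017)) (tt N26370 (iv F264577)) (tt N24136 F260272) (tt N26517 (iv F265025)) (tt N26481 (iv F264942)) (tt N26357 (iv F264522)) (tt N26454 (iv F264873)))
theorem Q25320 : ∀ i, i < 25320 → P i := stepQ 25319 Q25319 (allL N25319 (tt N24139 F260273) (tt N24335 F260274) (tt N25656 (iv F261354)) (tt N24137 (iv D58089)) (tt N26518 D59288) (tt N24138 F260275) (tt N25710 (iv F261699)) (tt N24142 F260276) (tt N25319 F260277) (tt N24293 F260278))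
theorem Q25321 : ∀ i, i < 25321 → P i := stepQ 25320 Q25320 (allL N25320 (tt N26518 (iv F265026)) (tt N24140 F260279) (tt N26313 (iv F264316)) (tt N26464 (iv F264893)) (tt N24139 (iv D58090)) (tt N26214 (iv F263996)) (tt N25928 (iv F262840)) (tt N24143 F260280) (tt N25320 F260281) (tt N24297 F260282))
theorem Q25322 : ∀ i, i < 25322 → P i := stepQ 25321 Q25321 (allL N25321 (tt N24143 F260283) (tt N24336 F260284) (tt N25662 (iv F261391)) (tt N26483 (iv F264952)) (tt N24142 (iv D58091)) (tt N25661 (iv F261385)) (tt N24334 F260285) (tt N26518 (iv F265028)) (tt N25321 F260286) (tt N24385 F260287))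
theorem Q25323 : ∀ i, i < 25323 → P i := stepQ 25322 Q25322 (allL N25322 (tt N25821 (iv F262263)) (tt N25739 (iv F261853)) (tt N25680 (iv F261517)) (tt N26509 (iv F265011)) (tt N24144 (iv D58092)) (tt N25735 (iv F261833)) (tt N25820 (iv F262260)) (tt N24145 F260288) (tt N25322 F260289) (tt N25774 (iv F262041)))
theorem Q25324 : ∀ i, i < 25324 → P i := stepQ 25323 Q25323 (allL N25323 (tt N25714 (iv F261723)) (tt N25884 (iv F262624)) (tt N25671 (iv F261452)) (tt N26471 (iv F264915)) (tt N24147 (iv D58093)) (tt N26519 D59289) (tt N25610 (iv F261099)) (tt N24153 F260290) (tt N25323 F260291) (tt N24148 F260292))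
theorem Q25325 : ∀ i, i < 25325 → P i := stepQ 25324 Q25324 (allL N25324 (tt N26414 (iv F264728)) (tt N26088 (iv F263484)) (tt N25672 (iv F261459)) (tt N26474 (iv F264923)) (tt N25324 F260293) (tt N24148 (iv D58094)) (tt N26520 D59290) (tt N24154 F260294) (tt N24149 F260295) (tt N26519 (iv F265034)))
theorem Q25326 : ∀ i, i < 25326 → P i := stepQ 25325 Q25325 (allL N25325 (tt N26415 (iv F264733)) (tt N26143 (iv F263714)) (tt N25666 (iv F261417)) (tt N24150 F260296) (tt N25325 F260297) (tt N25668 (iv F261433)) (tt N24149 (iv D58095)) (tt N26322 (iv F264350)) (tt N26520 (iv F265036)) (tt N25325 F260298))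
theorem Q25327 : ∀ i, i < 25327 → P i := stepQ 25326 Q25326 (allL N25326 (tt N25820 (iv F262258)) (tt N24153 F260299) (tt N26021 (iv F263188)) (tt N26488 (iv F264963)) (tt N24151 (iv D58096)) (tt N26328 (iv F264378)) (tt N25821 (iv F262267)) (tt N25884 (iv F262627)) (tt N25326 F260300) (tt N24152 F260301))
theorem Q25328 : ∀ i, i < 25328 → P i := stepQ 25327 Q25327 (allL N25327 (tt N25727 (iv F261790)) (tt N26328 (iv F264376)) (tt N26429 (iv F264787)) (tt N26504 (iv F265002)) (tt N25327 F260302) (tt N24153 (iv D58097)) (tt N26304 (iv F264280)) (tt N26519 (iv F265032)) (tt N25327 F260303) (tt N24154 F260304))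
theorem Q25329 : ∀ i, i < 25329 → P i := stepQ 25328 Q25328 (allL N25328 (tt N24167 F260305) (tt N26521 D59291) (tt N24155 (iv D58098)) (tt N25985 (iv F263068)) (tt N24190 F260306) (tt N24169 F260307) (tt N25829 (iv F262325)) (tt N24178 F260308) (tt N24258 F260309) (tt N24159 F260310))
theorem Q25330 : ∀ i, i < 25330 → P i := stepQ 25329 Q25329 (allL N25329 (tt N24169 F260311) (tt N26522 D59292) (tt N24156 (iv D58099)) (tt N25980 (iv F263044)) (tt N24192 F260312) (tt N24167 F260313) (tt N25872 (iv F262557)) (tt N24159 F260314) (tt N24239 F260315) (tt N24178 F260316))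
theorem Q25331 : ∀ i, i < 25331 → P i := stepQ 25330 Q25330 (allL N25330 (tt N24175 F260317) (tt N26523 D59293) (tt N24157 (iv D58100)) (tt N24159 F260318) (tt N26524 D59294) (tt N25947 (iv F262921)) (tt N25833 (iv F262353)) (tt N25980 (iv F263047)) (tt N26037 (iv F263267)) (tt N25985 (iv F263071)))
theorem Q25332 : ∀ i, i < 25332 → P i := stepQ 25331 Q25331 (allL N25331 (tt N24176 F260319) (tt N25954 (iv F262951)) (tt N26524 (iv F265051)) (tt N24158 F260320) (tt N24157 (iv D58101)) (tt N26525 D59295) (tt N25834 (iv F262360)) (tt N25595 (iv F260999)) (tt N26038 (iv F263271)) (tt N25986 (iv F263076)))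
theorem Q25333 : ∀ i, i < 25333 → P i := stepQ 25332 Q25332 (allL N25332 (tt N24177 F260321) (tt N25907 (iv F262738)) (tt N24195 F260322) (tt N26525 (iv F265054)) (tt N24160 F260323) (tt N24158 (iv D58102)) (tt N25908 (iv F262749)) (tt N25577 (iv F260879)) (tt N24162 F260324) (tt N26013 (iv F263155)))
theorem Q25334 : ∀ i, i < 25334 → P i := stepQ 25333 Q25333 (allL N25333 (tt N26526 D59296) (tt N24159 (iv D58103)) (tt N26339 (iv F264434)) (tt N26523 (iv F265049)) (tt N24196 F260325) (tt N26338 (iv F264430)) (tt N25837 (iv F262377)) (tt N26522 (iv F265046)) (tt N24240 F260326) (tt N26521 (iv F265042)))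
theorem Q25335 : ∀ i, i < 25335 → P i := stepQ 25334 Q25334 (allL N25334 (tt N25838 (iv F262379)) (tt N25939 (iv F262884)) (tt N25677 (iv F261496)) (tt N26527 D59297) (tt N25334 F260327) (tt N25675 (iv F261482)) (tt N24253 F260328) (tt N25839 (iv F262393)) (tt N24163 (iv D58104)) (tt N24164 F260329))
theorem Q25336 : ∀ i, i < 25336 → P i := stepQ 25335 Q25335 (allL N25335 (tt N25981 (iv F263049)) (tt N25940 (iv F262892)) (tt N26528 D59298) (tt N24164 (iv D58105)) (tt N26529 D59299) (tt N25979 (iv F263039)) (tt N25847 (iv F262435)) (tt N25946 (iv F262917)) (tt N24165 F260330) (tt N26527 (iv F265060)))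
theorem Q25337 : ∀ i, i < 25337 → P i := stepQ 25336 Q25336 (allL N25336 (tt N25985 (iv F263067)) (tt N26530 D59300) (tt N24165 (iv D58106)) (tt N24167 F260331) (tt N26531 D59301) (tt N25980 (iv F263045)) (tt N25848 (iv F262440)) (tt N25947 (iv F262923)) (tt N26528 (iv F265061)) (tt N24175 F260332))
theorem Q25338 : ∀ i, i < 25338 → P i := stepQ 25337 Q25337 (allL N25337 (tt N25986 (iv F263072)) (tt N25942 (iv F262900)) (tt N26531 (iv F265066)) (tt N24166 F260333) (tt N24165 (iv D58107)) (tt N26532 D59302) (tt N25849 (iv F262443)) (tt N25948 (iv F262929)) (tt N26529 (iv F265063)) (tt N24176 F260334))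
theorem Q25339 : ∀ i, i < 25339 → P i := stepQ 25338 Q25338 (allL N25338 (tt N26013 (iv F263148)) (tt N25899 (iv F262703)) (tt N24203 F260335) (tt N26532 (iv F265069)) (tt N24168 F260336) (tt N24166 (iv D58108)) (tt N25917 (iv F262780)) (tt N25949 (iv F262936)) (tt N25338 F260337) (tt N24177 F260338))
theorem Q25340 : ∀ i, i < 25340 → P i := stepQ 25339 Q25339 (allL N25339 (tt N26533 D59303) (tt N24167 (iv D58109)) (tt N26336 (iv F264417)) (tt N26530 (iv F265064)) (tt N24204 F260339) (tt N26522 (iv F265045)) (tt N25854 (iv F262466)) (tt N26338 (iv F264431)) (tt N26369 (iv F264573)) (tt N24179 F260340))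
theorem Q25341 : ∀ i, i < 25341 → P i := stepQ 25340 Q25340 (allL N25340 (tt N26534 D59304) (tt N24169 (iv D58110)) (tt N25587 (iv F260946)) (tt N25987 (iv F263078)) (tt N24214 F260341) (tt N26521 (iv F265039)) (tt N26347 (iv F264476)) (tt N24179 F260342) (tt N24259 F260343) (tt N26338 (iv F264433)))
theorem Q25342 : ∀ i, i < 25342 → P i := stepQ 25341 Q25341 (allL N25341 (tt N25839 (iv F262387)) (tt N25967 (iv F262994)) (tt N24248 F260344) (tt N26535 D59305) (tt N25341 F260345) (tt N24172 F260346) (tt N24246 F260347) (tt N25838 (iv F262385)) (tt N24170 (iv D58111)) (tt N24171 F260348))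
theorem Q25343 : ∀ i, i < 25343 → P i := stepQ 25342 Q25342 (allL N25342 (tt N25946 (iv F262913)) (tt N25968 (iv F263001)) (tt N26536 D59306) (tt N24171 (iv D58112)) (tt N26537 D59307) (tt N24173 F260349) (tt N25876 (iv F262580)) (tt N25981 (iv F263052)) (tt N24174 F260350) (tt N26535 (iv F265078)))
theorem Q25344 : ∀ i, i < 25344 → P i := stepQ 25343 Q25343 (allL N25343 (tt N25840 (iv F262395)) (tt N25969 (iv F263006)) (tt N26538 D59308) (tt N24172 (iv D58113)) (tt N26539 D59309) (tt N26535 (iv F265076)) (tt N24255 F260351) (tt N25982 (iv F263056)) (tt N26527 (iv F265059)) (tt N24173 F260352))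
theorem Q25345 : ∀ i, i < 25345 → P i := stepQ 25344 Q25344 (allL N25344 (tt N26037 (iv F263264)) (tt N26540 D59310) (tt N24173 (iv D58114)) (tt N24265 F260353) (tt N26541 D59311) (tt N26536 (iv F265080)) (tt N25861 (iv F262506)) (tt N25983 (iv F263060)) (tt N24175 F260354) (tt N26538 (iv F265086)))
theorem Q25346 : ∀ i, i < 25346 → P i := stepQ 25345 Q25345 (allL N25345 (tt N26038 (iv F263268)) (tt N25971 (iv F263013)) (tt N26541 (iv F265092)) (tt N24184 F260355) (tt N24173 (iv D58115)) (tt N26542 D59312) (tt N25862 (iv F262513)) (tt N25984 (iv F263065)) (tt N24176 F260356) (tt N26539 (iv F265089)))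
theorem Q25347 : ∀ i, i < 25347 → P i := stepQ 25346 Q25346 (allL N25346 (tt N25947 (iv F262919)) (tt N26543 D59313) (tt N24174 (iv D58116)) (tt N24178 F260357) (tt N26544 D59314) (tt N24175 F260358) (tt N25877 (iv F262586)) (tt N25985 (iv F263070)) (tt N26536 (iv F265081)) (tt N25980 (iv F263048)))
theorem Q25348 : ∀ i, i < 25348 → P i := stepQ 25347 Q25347 (allL N25347 (tt N25948 (iv F262925)) (tt N25973 (iv F263020)) (tt N26544 (iv F265098)) (tt N24180 F260359) (tt N24174 (iv D58117)) (tt N26545 D59315) (tt N25878 (iv F262590)) (tt N25986 (iv F263075)) (tt N26537 (iv F265083)) (tt N25595 (iv F261000)))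
theorem Q25349 : ∀ i, i < 25349 → P i := stepQ 25348 Q25348 (allL N25348 (tt N26546 D59316) (tt N24175 (iv D58118)) (tt N25974 (iv F263023)) (tt N24179 F260360) (tt N26547 D59317) (tt N26543 (iv F265097)) (tt N25863 (iv F262518)) (tt N25987 (iv F263080)) (tt N26540 (iv F265091)) (tt N26530 (iv F265065)))
theorem Q25350 : ∀ i, i < 25350 → P i := stepQ 25349 Q25349 (allL N25349 (tt N26524 (iv F265050)) (tt N26547 (iv F265102)) (tt N24176 F260361) (tt N24229 F260362) (tt N24175 (iv D58119)) (tt N26548 D59318) (tt N25864 (iv F262521)) (tt N25988 (iv F263084)) (tt N26541 (iv F265093)) (tt N26531 (iv F265068)))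
theorem Q25351 : ∀ i, i < 25351 → P i := stepQ 25350 Q25350 (allL N25350 (tt N26525 (iv F265053)) (tt N25919 (iv F262793)) (tt N26548 (iv F265104)) (tt N24177 F260363) (tt N26545 (iv F265100)) (tt N24176 (iv D58120)) (tt N26549 D59319) (tt N25989 (iv F263088)) (tt N26542 (iv F265095)) (tt N26532 (iv F265070)))
theorem Q25352 : ∀ i, i < 25352 → P i := stepQ 25351 Q25351 (allL N25351 (tt N25908 (iv F262745)) (tt N25577 (iv F260875)) (tt N24231 F260364) (tt N26549 (iv F265106)) (tt N24182 F260365) (tt N25594 (iv F260991)) (tt N24177 (iv D58121)) (tt N25907 (iv F262742)) (tt N24186 F260366) (tt N25917 (iv F262783)))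
theorem Q25353 : ∀ i, i < 25353 → P i := stepQ 25352 Q25352 (allL N25352 (tt N26550 D59320) (tt N24178 (iv D58122)) (tt N24196 F260367) (tt N26543 (iv F265096)) (tt N26339 (iv F264435)) (tt N24179 F260368) (tt N25879 (iv F262593)) (tt N26521 (iv F265040)) (tt N24269 F260369) (tt N26522 (iv F265048)))
theorem Q25354 : ∀ i, i < 25354 → P i := stepQ 25353 Q25353 (allL N25353 (tt N24179 (iv D58123)) (tt N26526 (iv F265055)) (tt N26337 (iv F264424)) (tt N26546 (iv F265101)) (tt N24234 F260370) (tt N26550 (iv F265108)) (tt N25870 (iv F262546)) (tt N26534 (iv F265074)) (tt N24270 F260371) (tt N26533 (iv F265072)))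
theorem Q25355 : ∀ i, i < 25355 → P i := stepQ 25354 Q25354 (allL N25354 (tt N25949 (iv F262931)) (tt N25917 (iv F262777)) (tt N25569 (iv F260823)) (tt N26545 (iv F265099)) (tt N24181 F260372) (tt N24180 (iv D58124)) (tt N25899 (iv F262706)) (tt N26013 (iv F263153)) (tt N25354 F260373) (tt N25577 (iv F260881)))
theorem Q25356 : ∀ i, i < 25356 → P i := stepQ 25355 Q25355 (allL N25355 (tt N25841 (iv F262398)) (tt N26020 (iv F263182)) (tt N25884 (iv F262625)) (tt N26539 (iv F265087)) (tt N24183 (iv D58125)) (tt N26551 D59321) (tt N24272 F260374) (tt N26021 (iv F263190)) (tt N25355 F260375) (tt N24184 F260376))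
theorem Q25357 : ∀ i, i < 25357 → P i := stepQ 25356 Q25356 (allL N25356 (tt N26039 (iv F263272)) (tt N25920 (iv F262797)) (tt N26088 (iv F263485)) (tt N26542 (iv F265094)) (tt N25356 F260377) (tt N24184 (iv D58126)) (tt N26139 (iv F263702)) (tt N26016 (iv F263163)) (tt N24185 F260378) (tt N26551 (iv F265112)))
theorem Q25358 : ∀ i, i < 25358 → P i := stepQ 25357 Q25357 (allL N25357 (tt N24200 F260379) (tt N25924 (iv F262822)) (tt N26552 D59322) (tt N24187 (iv D58127)) (tt N26553 D59323) (tt N24352 F260380) (tt N25891 (iv F262667)) (tt N24339 F260381) (tt N24188 F260382) (tt N25716 (iv F261742)))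
theorem Q25359 : ∀ i, i < 25359 → P i := stepQ 25358 Q25358 (allL N25358 (tt N24201 F260383) (tt N26554 D59324) (tt N24188 (iv D58128)) (tt N24190 F260384) (tt N26555 D59325) (tt N25581 (iv F260908)) (tt N25893 (iv F262680)) (tt N25582 (iv F260917)) (tt N26552 (iv F265116)) (tt N24193 F260385))
theorem Q25360 : ∀ i, i < 25360 → P i := stepQ 25359 Q25359 (allL N25359 (tt N24202 F260386) (tt N25944 (iv F262907)) (tt N26555 (iv F265124)) (tt N24189 F260387) (tt N24188 (iv D58129)) (tt N25999 (iv F263115)) (tt N25894 (iv F262684)) (tt N25583 (iv F260924)) (tt N26553 (iv F265120)) (tt N24194 F260388))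
theorem Q25361 : ∀ i, i < 25361 → P i := stepQ 25360 Q25360 (allL N25360 (tt N26556 D59326) (tt N24190 (iv D58130)) (tt N26522 (iv F265043)) (tt N26554 (iv F265121)) (tt N26521 (iv F265038)) (tt N26336 (iv F264419)) (tt N25898 (iv F262700)) (tt N26339 (iv F264437)) (tt N26396 (iv F264675)) (tt N24196 F260389))
theorem Q25362 : ∀ i, i < 25362 → P i := stepQ 25361 Q25361 (allL N25361 (tt N24209 F260390) (tt N26557 D59327) (tt N24191 (iv D58131)) (tt N25589 (iv F260963)) (tt N25872 (iv F262556)) (tt N26351 (iv F264498)) (tt N24192 F260391) (tt N25900 (iv F262712)) (tt N24281 F260392) (tt N25824 (iv F262293)))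
theorem Q25363 : ∀ i, i < 25363 → P i := stepQ 25362 Q25362 (allL N25362 (tt N26558 D59328) (tt N24192 (iv D58132)) (tt N26521 (iv F265037)) (tt N25591 (iv F260977)) (tt N26522 (iv F265044)) (tt N25587 (iv F260949)) (tt N26557 (iv F265128)) (tt N24196 F260393) (tt N24284 F260394) (tt N26339 (iv F264439)))
theorem Q25364 : ∀ i, i < 25364 → P i := stepQ 25363 Q25363 (allL N25363 (tt N26559 D59329) (tt N24193 (iv D58133)) (tt N25976 (iv F263028)) (tt N24196 F260395) (tt N26560 D59330) (tt N25586 (iv F260943)) (tt N25911 (iv F262761)) (tt N25591 (iv F260979)) (tt N25782 (iv F262079)) (tt N26554 (iv F265122)))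
theorem Q25365 : ∀ i, i < 25365 → P i := stepQ 25364 Q25364 (allL N25364 (tt N24229 F260396) (tt N26560 (iv F265135)) (tt N24194 F260397) (tt N26524 (iv F265052)) (tt N24193 (iv D58134)) (tt N26561 D59331) (tt N25912 (iv F262764)) (tt N25592 (iv F260983)) (tt N25783 (iv F262083)) (tt N26555 (iv F265125)))
theorem Q25366 : ∀ i, i < 25366 → P i := stepQ 25365 Q25365 (allL N25365 (tt N24230 F260398) (tt N25834 (iv F262357)) (tt N26561 (iv F265137)) (tt N24195 F260399) (tt N25570 (iv F260831)) (tt N24194 (iv D58135)) (tt N25954 (iv F262953)) (tt N25575 (iv F260868)) (tt N25634 (iv F261243)) (tt N25999 (iv F263117)))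
theorem Q25367 : ∀ i, i < 25367 → P i := stepQ 25366 Q25366 (allL N25366 (tt N24196 (iv D58136)) (tt N24234 F260400) (tt N26550 (iv F265107)) (tt N26559 (iv F265134)) (tt N26526 (iv F265056)) (tt N26337 (iv F264426)) (tt N25916 (iv F262774)) (tt N26558 (iv F265131)) (tt N24291 F260401) (tt N26556 (iv F265127)))
theorem Q25368 : ∀ i, i < 25368 → P i := stepQ 25367 Q25367 (allL N25367 (tt N25877 (iv F262584)) (tt N26562 D59332) (tt N24197 (iv D58137)) (tt N25579 (iv F260891)) (tt N26563 D59333) (tt N25857 (iv F262486)) (tt N25947 (iv F262922)) (tt N26345 (iv F264464)) (tt N26052 (iv F263335)) (tt N24219 F260402))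
theorem Q25369 : ∀ i, i < 25369 → P i := stepQ 25368 Q25368 (allL N25368 (tt N25878 (iv F262588)) (tt N24202 F260403) (tt N26563 (iv F265140)) (tt N24198 F260404) (tt N24197 (iv D58138)) (tt N25965 (iv F262986)) (tt N25948 (iv F262928)) (tt N26346 (iv F264470)) (tt N26053 (iv F263340)) (tt N24220 F260405))
theorem Q25370 : ∀ i, i < 25370 → P i := stepQ 25369 Q25369 (allL N25369 (tt N25846 (iv F262425)) (tt N24203 F260406) (tt N25855 (iv F262470)) (tt N25965 (iv F262985)) (tt N24205 F260407) (tt N24198 (iv D58139)) (tt N25856 (iv F262480)) (tt N25585 (iv F260938)) (tt N25369 F260408) (tt N24221 F260409))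
theorem Q25371 : ∀ i, i < 25371 → P i := stepQ 25370 Q25370 (allL N25370 (tt N25716 (iv F261737)) (tt N26043 (iv F263288)) (tt N26564 D59334) (tt N24199 (iv D58140)) (tt N26565 D59335) (tt N25607 (iv F261077)) (tt N25950 (iv F262939)) (tt N25688 (iv F261567)) (tt N24222 F260410) (tt N24200 F260411))
theorem Q25372 : ∀ i, i < 25372 → P i := stepQ 25371 Q25371 (allL N25371 (tt N26552 (iv F265113)) (tt N26566 D59336) (tt N24200 (iv D58141)) (tt N26468 (iv F264906)) (tt N26567 D59337) (tt N25627 (iv F261202)) (tt N25951 (iv F262942)) (tt N26348 (iv F264482)) (tt N24201 F260412) (tt N26564 (iv F265143)))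
theorem Q25373 : ∀ i, i < 25373 → P i := stepQ 25372 Q25372 (allL N25372 (tt N26553 (iv F265117)) (tt N26053 (iv F263336)) (tt N26567 (iv F265148)) (tt N25372 F260413) (tt N24200 (iv D58142)) (tt N25768 (iv F262005)) (tt N25952 (iv F262945)) (tt N26349 (iv F264489)) (tt N24202 F260414) (tt N26565 (iv F265146)))
theorem Q25374 : ∀ i, i < 25374 → P i := stepQ 25373 Q25373 (allL N25373 (tt N26568 D59338) (tt N24201 (iv D58143)) (tt N26562 (iv F265138)) (tt N24204 F260415) (tt N26569 D59339) (tt N26343 (iv F264454)) (tt N25955 (iv F262956)) (tt N26353 (iv F264509)) (tt N26566 (iv F265147)) (tt N24228 F260416))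
theorem Q25375 : ∀ i, i < 25375 → P i := stepQ 25374 Q25374 (allL N25374 (tt N26555 (iv F265123)) (tt N26569 (iv F265152)) (tt N24202 F260417) (tt N26531 (iv F265067)) (tt N24201 (iv D58144)) (tt N26570 D59340) (tt N25956 (iv F262959)) (tt N26354 (iv F264512)) (tt N26567 (iv F265149)) (tt N24229 F260418))
theorem Q25376 : ∀ i, i < 25376 → P i := stepQ 25375 Q25375 (allL N25375 (tt N25999 (iv F263113)) (tt N25965 (iv F262984)) (tt N26570 (iv F265154)) (tt N24203 F260419) (tt N25572 (iv F260846)) (tt N24202 (iv D58145)) (tt N25910 (iv F262758)) (tt N25959 (iv F262971)) (tt N25768 (iv F262007)) (tt N24230 F260420))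
theorem Q25377 : ∀ i, i < 25377 → P i := stepQ 25376 Q25376 (allL N25376 (tt N24204 (iv D58146)) (tt N26556 (iv F265126)) (tt N26341 (iv F264443)) (tt N26568 (iv F265150)) (tt N26533 (iv F265071)) (tt N26344 (iv F264458)) (tt N25962 (iv F262978)) (tt N26357 (iv F264521)) (tt N26481 (iv F264943)) (tt N24234 F260421))
theorem Q25378 : ∀ i, i < 25378 → P i := stepQ 25377 Q25377 (allL N25377 (tt N25589 (iv F260962)) (tt N26571 D59341) (tt N24206 (iv D58147)) (tt N24209 F260422) (tt N26572 D59342) (tt N25824 (iv F262290)) (tt N24212 F260423) (tt N25859 (iv F262496)) (tt N25703 (iv F261658)) (tt N26351 (iv F264501)))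
theorem Q25379 : ∀ i, i < 25379 → P i := stepQ 25378 Q25378 (allL N25378 (tt N25590 (iv F260968)) (tt N25836 (iv F262370)) (tt N26572 (iv F265158)) (tt N24207 F260424) (tt N24206 (iv D58148)) (tt N25867 (iv F262536)) (tt N24213 F260425) (tt N25860 (iv F262502)) (tt N25704 (iv F261665)) (tt N26352 (iv F264506)))
theorem Q25380 : ∀ i, i < 25380 → P i := stepQ 25379 Q25379 (allL N25379 (tt N26351 (iv F264496)) (tt N26573 D59343) (tt N24208 (iv D58149)) (tt N25824 (iv F262288)) (tt N26574 D59344) (tt N24209 F260426) (tt N25582 (iv F260916)) (tt N25964 (iv F262982)) (tt N24340 F260427) (tt N25589 (iv F260967)))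
theorem Q25381 : ∀ i, i < 25381 → P i := stepQ 25380 Q25380 (allL N25380 (tt N26352 (iv F264502)) (tt N25959 (iv F262967)) (tt N26574 (iv F265163)) (tt N25585 (iv F260935)) (tt N24208 (iv D58150)) (tt N26346 (iv F264469)) (tt N25583 (iv F260923)) (tt N25965 (iv F262987)) (tt N24341 F260428) (tt N25590 (iv F260975)))
theorem Q25382 : ∀ i, i < 25382 → P i := stepQ 25381 Q25381 (allL N25381 (tt N26575 D59345) (tt N24209 (iv D58151)) (tt N26342 (iv F264448)) (tt N26571 (iv F265156)) (tt N26347 (iv F264475)) (tt N26573 (iv F265161)) (tt N24214 F260429) (tt N25966 (iv F262991)) (tt N24342 F260430) (tt N26356 (iv F264518)))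
theorem Q25383 : ∀ i, i < 25383 → P i := stepQ 25382 Q25382 (allL N25382 (tt N25866 (iv F262528)) (tt N26576 D59346) (tt N24210 (iv D58152)) (tt N25857 (iv F262484)) (tt N26577 D59347) (tt N25579 (iv F260893)) (tt N25835 (iv F262366)) (tt N24219 F260431) (tt N25685 (iv F261550)) (tt N26345 (iv F264466)))
theorem Q25384 : ∀ i, i < 25384 → P i := stepQ 25383 Q25383 (allL N25383 (tt N25867 (iv F262533)) (tt N24213 F260432) (tt N26577 (iv F265169)) (tt N24211 F260433) (tt N24210 (iv D58153)) (tt N25590 (iv F260971)) (tt N25836 (iv F262373)) (tt N24220 F260434) (tt N25686 (iv F261558)) (tt N26346 (iv F264472)))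
theorem Q25385 : ∀ i, i < 25385 → P i := stepQ 25384 Q25384 (allL N25384 (tt N26578 D59348) (tt N24212 (iv D58154)) (tt N26576 (iv F265167)) (tt N24214 F260435) (tt N26579 D59349) (tt N25580 (iv F260900)) (tt N26571 (iv F265157)) (tt N24228 F260436) (tt N25705 (iv F261670)) (tt N26353 (iv F264510)))
theorem Q25386 : ∀ i, i < 25386 → P i := stepQ 25385 Q25385 (allL N25385 (tt N25592 (iv F260981)) (tt N26579 (iv F265173)) (tt N24213 F260437) (tt N25988 (iv F263082)) (tt N24212 (iv D58155)) (tt N26009 (iv F263139)) (tt N26572 (iv F265160)) (tt N24229 F260438) (tt N25706 (iv F261676)) (tt N26354 (iv F264513)))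
theorem Q25387 : ∀ i, i < 25387 → P i := stepQ 25386 Q25386 (allL N25386 (tt N24214 (iv D58156)) (tt N26558 (iv F265130)) (tt N26344 (iv F264457)) (tt N26578 (iv F265171)) (tt N26534 (iv F265073)) (tt N26341 (iv F264444)) (tt N26575 (iv F265165)) (tt N24234 F260439) (tt N24355 F260440) (tt N26357 (iv F264523)))
theorem Q25388 : ∀ i, i < 25388 → P i := stepQ 25387 Q25387 (allL N25387 (tt N24219 F260441) (tt N26580 D59350) (tt N24215 (iv D58157)) (tt N25872 (iv F262555)) (tt N26581 D59351) (tt N25873 (iv F262561)) (tt N25980 (iv F263046)) (tt N25866 (iv F262531)) (tt N26063 (iv F263389)) (tt N25877 (iv F262587)))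
theorem Q25389 : ∀ i, i < 25389 → P i := stepQ 25388 Q25388 (allL N25388 (tt N24220 F260442) (tt N25865 (iv F262523)) (tt N26581 (iv F265176)) (tt N24216 F260443) (tt N24215 (iv D58158)) (tt N25860 (iv F262500)) (tt N25595 (iv F260998)) (tt N25867 (iv F262538)) (tt N26064 (iv F263394)) (tt N25878 (iv F262591)))
theorem Q25390 : ∀ i, i < 25390 → P i := stepQ 25389 Q25389 (allL N25389 (tt N26063 (iv F263386)) (tt N26582 D59352) (tt N24217 (iv D58159)) (tt N26072 (iv F263419)) (tt N26583 D59353) (tt N25681 (iv F261524)) (tt N25983 (iv F263059)) (tt N25685 (iv F261549)) (tt N24219 F260444) (tt N26075 (iv F263434)))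
theorem Q25391 : ∀ i, i < 25391 → P i := stepQ 25390 Q25390 (allL N25390 (tt N26064 (iv F263390)) (tt N24224 F260445) (tt N26583 (iv F265179)) (tt N24235 F260446) (tt N24217 (iv D58160)) (tt N25808 (iv F262207)) (tt N25984 (iv F263064)) (tt N25686 (iv F261557)) (tt N24220 F260447) (tt N26076 (iv F263438)))
theorem Q25392 : ∀ i, i < 25392 → P i := stepQ 25391 Q25391 (allL N25391 (tt N25873 (iv F262560)) (tt N26584 D59354) (tt N24218 (iv D58161)) (tt N26345 (iv F264462)) (tt N25938 (iv F262878)) (tt N24219 F260448) (tt N25844 (iv F262415)) (tt N25579 (iv F260895)) (tt N25681 (iv F261526)) (tt N25857 (iv F262490)))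
theorem Q25393 : ∀ i, i < 25393 → P i := stepQ 25392 Q25392 (allL N25392 (tt N26585 D59355) (tt N24219 (iv D58162)) (tt N24228 F260449) (tt N26347 (iv F264474)) (tt N26586 D59356) (tt N26584 (iv F265182)) (tt N25987 (iv F263079)) (tt N26576 (iv F265168)) (tt N26582 (iv F265178)) (tt N26562 (iv F265139)))
theorem Q25394 : ∀ i, i < 25394 → P i := stepQ 25393 Q25393 (allL N25393 (tt N26581 (iv F265175)) (tt N26586 (iv F265184)) (tt N24220 F260450) (tt N26572 (iv F265159)) (tt N24219 (iv D58163)) (tt N26587 D59357) (tt N25988 (iv F263083)) (tt N26577 (iv F265170)) (tt N26583 (iv F265180)) (tt N26563 (iv F265141)))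
theorem Q25395 : ∀ i, i < 25395 → P i := stepQ 25394 Q25394 (allL N25394 (tt N25860 (iv F262497)) (tt N24230 F260451) (tt N26587 (iv F265186)) (tt N24221 F260452) (tt N25588 (iv F260956)) (tt N24220 (iv D58164)) (tt N25871 (iv F262552)) (tt N25590 (iv F260973)) (tt N25808 (iv F262209)) (tt N25965 (iv F262989)))
theorem Q25396 : ∀ i, i < 25396 → P i := stepQ 25395 Q25395 (allL N25395 (tt N25741 (iv F261863)) (tt N26588 D59358) (tt N24222 (iv D58165)) (tt N24367 F260453) (tt N26589 D59359) (tt N25690 (iv F261579)) (tt N25993 (iv F263097)) (tt N25694 (iv F261606)) (tt N26564 (iv F265142)) (tt N24223 F260454))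
theorem Q25397 : ∀ i, i < 25397 → P i := stepQ 25396 Q25396 (allL N25396 (tt N25742 (iv F261868)) (tt N26076 (iv F263435)) (tt N26589 (iv F265189)) (tt N24236 F260455) (tt N24222 (iv D58166)) (tt N26203 (iv F263951)) (tt N25994 (iv F263100)) (tt N25695 (iv F261613)) (tt N26565 (iv F265145)) (tt N24224 F260456))
theorem Q25398 : ∀ i, i < 25398 → P i := stepQ 25397 Q25397 (allL N25397 (tt N26590 D59360) (tt N24223 (iv D58167)) (tt N26582 (iv F265177)) (tt N24368 F260457) (tt N26591 D59361) (tt N25699 (iv F261631)) (tt N25995 (iv F263103)) (tt N25705 (iv F261669)) (tt N24228 F260458) (tt N26588 (iv F265188)))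
theorem Q25399 : ∀ i, i < 25399 → P i := stepQ 25398 Q25398 (allL N25398 (tt N25783 (iv F262080)) (tt N26591 (iv F265193)) (tt N24224 F260459) (tt N26466 (iv F264900)) (tt N24223 (iv D58168)) (tt N26295 (iv F264256)) (tt N25996 (iv F263106)) (tt N25706 (iv F261675)) (tt N24229 F260460) (tt N26589 (iv F265190)))
theorem Q25400 : ∀ i, i < 25400 → P i := stepQ 25399 Q25399 (allL N25399 (tt N25573 (iv F260852)) (tt N26592 D59362) (tt N24225 (iv D58169)) (tt N24232 F260461) (tt N25581 (iv F260907)) (tt N25998 (iv F263111)) (tt N24226 F260462) (tt N25568 (iv F260818)) (tt N25698 (iv F261628)) (tt N25571 (iv F260843)))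
theorem Q25401 : ∀ i, i < 25401 → P i := stepQ 25400 Q25400 (allL N25400 (tt N26593 D59363) (tt N24226 (iv D58170)) (tt N26584 (iv F265181)) (tt N24233 F260463) (tt N26594 D59364) (tt N24228 F260464) (tt N26592 (iv F265196)) (tt N25580 (iv F260902)) (tt N25699 (iv F261633)) (tt N26343 (iv F264456)))
theorem Q25402 : ∀ i, i < 25402 → P i := stepQ 25401 Q25401 (allL N25401 (tt N25571 (iv F260837)) (tt N26594 (iv F265199)) (tt N24227 F260465) (tt N25568 (iv F260815)) (tt N24226 (iv D58171)) (tt N26007 (iv F263132)) (tt N25581 (iv F260909)) (tt N24232 F260466) (tt N24378 F260467) (tt N25573 (iv F260858)))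
theorem Q25403 : ∀ i, i < 25403 → P i := stepQ 25402 Q25402 (allL N25402 (tt N24228 (iv D58172)) (tt N26559 (iv F265133)) (tt N26585 (iv F265183)) (tt N24234 F260468) (tt N26595 D59365) (tt N26593 (iv F265198)) (tt N26003 (iv F263124)) (tt N26578 (iv F265172)) (tt N26590 (iv F265192)) (tt N26568 (iv F265151)))
theorem Q25404 : ∀ i, i < 25404 → P i := stepQ 25403 Q25403 (allL N25403 (tt N26595 (iv F265202)) (tt N24229 F260469) (tt N26586 (iv F265185)) (tt N26547 (iv F265103)) (tt N24228 (iv D58173)) (tt N26596 D59366) (tt N26004 (iv F263126)) (tt N26579 (iv F265174)) (tt N26591 (iv F265194)) (tt N26569 (iv F265153)))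
theorem Q25405 : ∀ i, i < 25405 → P i := stepQ 25404 Q25404 (allL N25404 (tt N26561 (iv F265136)) (tt N26596 (iv F265203)) (tt N24230 F260470) (tt N26548 (iv F265105)) (tt N26007 (iv F263131)) (tt N24229 (iv D58174)) (tt N26597 D59367) (tt N26009 (iv F263141)) (tt N26295 (iv F264258)) (tt N26570 (iv F265155)))
theorem Q25406 : ∀ i, i < 25406 → P i := stepQ 25405 Q25405 (allL N25405 (tt N25954 (iv F262950)) (tt N25871 (iv F262549)) (tt N26597 (iv F265204)) (tt N24231 F260471) (tt N25892 (iv F262672)) (tt N26006 (iv F263130)) (tt N24230 (iv D58175)) (tt N25906 (iv F262735)) (tt N26251 (iv F264132)) (tt N25910 (iv F262759)))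
theorem Q25407 : ∀ i, i < 25407 → P i := stepQ 25406 Q25406 (allL N25406 (tt N26598 D59368) (tt N24232 (iv D58176)) (tt N26356 (iv F264515)) (tt N26592 (iv F265195)) (tt N25580 (iv F260899)) (tt N26008 (iv F263135)) (tt N24233 F260472) (tt N26594 (iv F265200)) (tt N24379 F260473) (tt N26342 (iv F264452)))
theorem Q25408 : ∀ i, i < 25408 → P i := stepQ 25407 Q25407 (allL N25407 (tt N24233 (iv D58177)) (tt N26337 (iv F264423)) (tt N26357 (iv F264519)) (tt N26593 (iv F265197)) (tt N26340 (iv F264441)) (tt N24234 F260474) (tt N26598 (iv F265205)) (tt N26341 (iv F264445)) (tt N24380 F260475) (tt N26344 (iv F264461)))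
theorem Q25409 : ∀ i, i < 25409 → P i := stepQ 25408 Q25408 (allL N25408 (tt N24249 F260476) (tt N25885 (iv F262631)) (tt N26599 D59369) (tt N24237 (iv D58178)) (tt N26600 D59370) (tt N24238 F260477) (tt N25842 (iv F262406)) (tt N25876 (iv F262581)) (tt N25851 (iv F262458)) (tt N25682 (iv F261533)))
theorem Q25410 : ∀ i, i < 25410 → P i := stepQ 25409 Q25409 (allL N25409 (tt N24250 F260478) (tt N26601 D59371) (tt N24238 (iv D58179)) (tt N26044 (iv F263294)) (tt N24281 F260479) (tt N26599 (iv F265208)) (tt N24239 F260480) (tt N26030 (iv F263238)) (tt N25872 (iv F262558)) (tt N26051 (iv F263332)))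
theorem Q25411 : ∀ i, i < 25411 → P i := stepQ 25410 Q25410 (allL N25410 (tt N26602 D59372) (tt N24239 (iv D58180)) (tt N26396 (iv F264671)) (tt N26047 (iv F263309)) (tt N24284 F260481) (tt N26369 (iv F264571)) (tt N26601 (iv F265213)) (tt N24240 F260482) (tt N26522 (iv F265047)) (tt N26055 (iv F263350)))
theorem Q25412 : ∀ i, i < 25412 → P i := stepQ 25411 Q25411 (allL N25411 (tt N24240 (iv D58181)) (tt N24270 F260483) (tt N26413 (iv F264725)) (tt N26050 (iv F263322)) (tt N24291 F260484) (tt N26370 (iv F264578)) (tt N26034 (iv F263254)) (tt N26602 (iv F265216)) (tt N26526 (iv F265057)) (tt N26062 (iv F263385)))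
theorem Q25413 : ∀ i, i < 25413 → P i := stepQ 25412 Q25412 (allL N25412 (tt N26603 D59373) (tt N24241 (iv D58182)) (tt N26360 (iv F264533)) (tt N26056 (iv F263351)) (tt N24302 F260485) (tt N26055 (iv F263347)) (tt N26042 (iv F263285)) (tt N26061 (iv F263378)) (tt N24245 F260486) (tt N26369 (iv F264574)))
theorem Q25414 : ∀ i, i < 25414 → P i := stepQ 25413 Q25413 (allL N25413 (tt N26051 (iv F263326)) (tt N26604 D59374) (tt N24242 (iv D58183)) (tt N26030 (iv F263235)) (tt N24306 F260487) (tt N26078 (iv F263441)) (tt N24243 F260488) (tt N26044 (iv F263297)) (tt N25674 (iv F261476)) (tt N24250 F260489))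
theorem Q25415 : ∀ i, i < 25415 → P i := stepQ 25414 Q25414 (allL N25414 (tt N26605 D59375) (tt N24243 (iv D58184)) (tt N26361 (iv F264539)) (tt N26031 (iv F263240)) (tt N24310 F260490) (tt N26060 (iv F263369)) (tt N26604 (iv F265220)) (tt N24245 F260491) (tt N26061 (iv F263379)) (tt N24259 F260492))
theorem Q25416 : ∀ i, i < 25416 → P i := stepQ 25415 Q25415 (allL N25415 (tt N26606 D59376) (tt N24244 (iv D58185)) (tt N24278 F260493) (tt N26032 (iv F263244)) (tt N26059 (iv F263361)) (tt N24245 F260494) (tt N26073 (iv F263427)) (tt N26060 (iv F263371)) (tt N26055 (iv F263349)) (tt N24269 F260495))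
theorem Q25417 : ∀ i, i < 25417 → P i := stepQ 25416 Q25416 (allL N25416 (tt N24245 (iv D58186)) (tt N26062 (iv F263381)) (tt N26362 (iv F264546)) (tt N26034 (iv F263252)) (tt N24331 F260496) (tt N26606 (iv F265226)) (tt N26050 (iv F263324)) (tt N26605 (iv F265223)) (tt N26603 (iv F265218)) (tt N24270 F260497))
theorem Q25418 : ∀ i, i < 25418 → P i := stepQ 25417 Q25417 (allL N25417 (tt N26043 (iv F263287)) (tt N26083 (iv F263457)) (tt N26607 D59377) (tt N24246 (iv D58187)) (tt N26608 D59378) (tt N24247 F260498) (tt N26535 (iv F265077)) (tt N25682 (iv F261531)) (tt N25679 (iv F261513)) (tt N25876 (iv F262583)))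
theorem Q25419 : ∀ i, i < 25419 → P i := stepQ 25418 Q25418 (allL N25418 (tt N26044 (iv F263293)) (tt N26609 D59379) (tt N24247 (iv D58188)) (tt N24250 F260499) (tt N26093 (iv F263507)) (tt N26607 (iv F265229)) (tt N24256 F260500) (tt N26051 (iv F263330)) (tt N26072 (iv F263423)) (tt N26030 (iv F263239)))
theorem Q25420 : ∀ i, i < 25420 → P i := stepQ 25419 Q25419 (allL N25419 (tt N25842 (iv F262403)) (tt N24280 F260501) (tt N26610 D59380) (tt N24248 (iv D58189)) (tt N26611 D59381) (tt N24257 F260502) (tt N24249 F260503) (tt N25847 (iv F262436)) (tt N25828 (iv F262321)) (tt N24264 F260504))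
theorem Q25421 : ∀ i, i < 25421 → P i := stepQ 25420 Q25420 (allL N25420 (tt N26599 (iv F265207)) (tt N26612 D59382) (tt N24249 (iv D58190)) (tt N26607 (iv F265228)) (tt N26613 D59383) (tt N24250 F260505) (tt N26610 (iv F265234)) (tt N26052 (iv F263334)) (tt N26345 (iv F264465)) (tt N26078 (iv F263444)))
theorem Q25422 : ∀ i, i < 25422 → P i := stepQ 25421 Q25421 (allL N25421 (tt N26600 (iv F265209)) (tt N26349 (iv F264485)) (tt N26613 (iv F265241)) (tt N25421 F260506) (tt N24249 (iv D58191)) (tt N24341 F260507) (tt N26611 (iv F265238)) (tt N26053 (iv F263339)) (tt N26346 (iv F264471)) (tt N26079 (iv F263449)))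
theorem Q25423 : ∀ i, i < 25423 → P i := stepQ 25422 Q25422 (allL N25422 (tt N26614 D59384) (tt N24250 (iv D58192)) (tt N26350 (iv F264491)) (tt N26609 (iv F265231)) (tt N24342 F260508) (tt N26612 (iv F265240)) (tt N24259 F260509) (tt N26054 (iv F263343)) (tt N26347 (iv F264477)) (tt N26604 (iv F265221)))
theorem Q25424 : ∀ i, i < 25424 → P i := stepQ 25423 Q25423 (allL N25423 (tt N25755 (iv F261933)) (tt N24255 F260510) (tt N26615 D59385) (tt N24251 (iv D58193)) (tt N26616 D59386) (tt N24252 F260511) (tt N25969 (iv F263007)) (tt N24262 F260512) (tt N26092 (iv F263503)) (tt N25702 (iv F261653)))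
theorem Q25425 : ∀ i, i < 25425 → P i := stepQ 25424 Q25424 (allL N25424 (tt N26145 (iv F263724)) (tt N26617 D59387) (tt N24252 (iv D58194)) (tt N25789 (iv F262111)) (tt N26072 (iv F263420)) (tt N26615 (iv F265246)) (tt N26084 (iv F263464)) (tt N24263 F260513) (tt N26093 (iv F263510)) (tt N26026 (iv F263216)))
theorem Q25426 : ∀ i, i < 25426 → P i := stepQ 25425 Q25425 (allL N25425 (tt N26035 (iv F263256)) (tt N26092 (iv F263500)) (tt N26618 D59388) (tt N24253 (iv D58195)) (tt N26619 D59389) (tt N24254 F260514) (tt N26527 (iv F265058)) (tt N24264 F260515) (tt N24255 F260516) (tt N25847 (iv F262438)))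
theorem Q25427 : ∀ i, i < 25427 → P i := stepQ 25426 Q25426 (allL N25426 (tt N26036 (iv F263260)) (tt N26620 D59390) (tt N24254 (iv D58196)) (tt N25983 (iv F263058)) (tt N26084 (iv F263463)) (tt N26618 (iv F265253)) (tt N26072 (iv F263421)) (tt N24265 F260517) (tt N24256 F260518) (tt N26074 (iv F263431)))
theorem Q25428 : ∀ i, i < 25428 → P i := stepQ 25427 Q25427 (allL N25427 (tt N26045 (iv F263299)) (tt N26621 D59391) (tt N24255 (iv D58197)) (tt N24258 F260519) (tt N26622 D59392) (tt N24256 F260520) (tt N26538 (iv F265085)) (tt N24266 F260521) (tt N26618 (iv F265255)) (tt N25861 (iv F262509)))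
theorem Q25429 : ∀ i, i < 25429 → P i := stepQ 25428 Q25428 (allL N25428 (tt N26046 (iv F263304)) (tt N26616 (iv F265248)) (tt N26622 (iv F265264)) (tt N24272 F260522) (tt N24255 (iv D58198)) (tt N26096 (iv F263522)) (tt N26539 (iv F265088)) (tt N24267 F260523) (tt N26619 (iv F265258)) (tt N25862 (iv F262516)))
theorem Q25430 : ∀ i, i < 25430 → P i := stepQ 25429 Q25429 (allL N25429 (tt N26623 D59393) (tt N24256 (iv D58199)) (tt N26617 (iv F265251)) (tt N24259 F260524) (tt N26097 (iv F263526)) (tt N26621 (iv F265262)) (tt N26609 (iv F265232)) (tt N24268 F260525) (tt N26620 (iv F265260)) (tt N26031 (iv F263243)))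
theorem Q25431 : ∀ i, i < 25431 → P i := stepQ 25430 Q25430 (allL N25430 (tt N25843 (iv F262409)) (tt N26624 D59394) (tt N24257 (iv D58200)) (tt N26538 (iv F265084)) (tt N25886 (iv F262637)) (tt N26610 (iv F265233)) (tt N24258 F260526) (tt N26074 (iv F263430)) (tt N25829 (iv F262326)) (tt N24265 F260527))
theorem Q25432 : ∀ i, i < 25432 → P i := stepQ 25431 Q25431 (allL N25431 (tt N26625 D59395) (tt N24258 (iv D58201)) (tt N24284 F260528) (tt N26621 (iv F265261)) (tt N26396 (iv F264672)) (tt N24259 F260529) (tt N26624 (iv F265269)) (tt N24269 F260530) (tt N26521 (iv F265041)) (tt N26060 (iv F263373)))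
theorem Q25433 : ∀ i, i < 25433 → P i := stepQ 25432 Q25432 (allL N25432 (tt N24259 (iv D58202)) (tt N26602 (iv F265214)) (tt N26363 (iv F264551)) (tt N26623 (iv F265266)) (tt N24355 F260531) (tt N26625 (iv F265272)) (tt N26614 (iv F265244)) (tt N24270 F260532) (tt N26534 (iv F265075)) (tt N26605 (iv F265224)))
theorem Q25434 : ∀ i, i < 25434 → P i := stepQ 25433 Q25433 (allL N25433 (tt N24305 F260533) (tt N24264 F260534) (tt N26626 D59396) (tt N24260 (iv D58203)) (tt N26627 D59397) (tt N24261 F260535) (tt N25688 (iv F261566)) (tt N26092 (iv F263502)) (tt N24262 F260536) (tt N24280 F260537))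
theorem Q25435 : ∀ i, i < 25435 → P i := stepQ 25434 Q25434 (allL N25434 (tt N24306 F260538) (tt N26628 D59398) (tt N24261 (iv D58204)) (tt N26226 (iv F264048)) (tt N26051 (iv F263328)) (tt N26626 (iv F265275)) (tt N24277 F260539) (tt N26093 (iv F263509)) (tt N24263 F260540) (tt N24281 F260541))
theorem Q25436 : ∀ i, i < 25436 → P i := stepQ 25435 Q25435 (allL N25435 (tt N25756 (iv F261940)) (tt N26629 D59399) (tt N24262 (iv D58205)) (tt N24287 F260542) (tt N26630 D59400) (tt N24263 F260543) (tt N25694 (iv F261605)) (tt N26615 (iv F265247)) (tt N26626 (iv F265276)) (tt N25703 (iv F261659)))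
theorem Q25437 : ∀ i, i < 25437 → P i := stepQ 25436 Q25436 (allL N25436 (tt N25757 (iv F261946)) (tt N24267 F260544) (tt N26630 (iv F265290)) (tt N24273 F260545) (tt N24262 (iv D58206)) (tt N25684 (iv F261542)) (tt N25695 (iv F261612)) (tt N26616 (iv F265250)) (tt N26627 (iv F265281)) (tt N25704 (iv F261666)))
theorem Q25438 : ∀ i, i < 25438 → P i := stepQ 25437 Q25437 (allL N25437 (tt N26631 D59401) (tt N24263 (iv D58207)) (tt N24268 F260546) (tt N26365 (iv F264561)) (tt N26073 (iv F263426)) (tt N26629 (iv F265289)) (tt N26059 (iv F263363)) (tt N26617 (iv F265252)) (tt N26628 (iv F265285)) (tt N26029 (iv F263233)))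
theorem Q25439 : ∀ i, i < 25439 → P i := stepQ 25438 Q25438 (allL N25438 (tt N26040 (iv F263277)) (tt N26632 D59402) (tt N24264 (iv D58208)) (tt N26536 (iv F265079)) (tt N26633 D59403) (tt N24265 F260547) (tt N26078 (iv F263442)) (tt N26618 (iv F265254)) (tt N24266 F260548) (tt N26610 (iv F265235)))
theorem Q25440 : ∀ i, i < 25440 → P i := stepQ 25439 Q25439 (allL N25439 (tt N26041 (iv F263280)) (tt N26627 (iv F265279)) (tt N26633 (iv F265294)) (tt N25439 F260549) (tt N24264 (iv D58209)) (tt N26090 (iv F263494)) (tt N26079 (iv F263447)) (tt N26619 (iv F265257)) (tt N24267 F260550) (tt N26611 (iv F265239)))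
theorem Q25441 : ∀ i, i < 25441 → P i := stepQ 25440 Q25440 (allL N25440 (tt N26634 D59404) (tt N24265 (iv D58210)) (tt N26628 (iv F265283)) (tt N26540 (iv F265090)) (tt N26091 (iv F263496)) (tt N26632 (iv F265292)) (tt N26060 (iv F263370)) (tt N26620 (iv F265259)) (tt N24268 F260551) (tt N26624 (iv F265270)))
theorem Q25442 : ∀ i, i < 25442 → P i := stepQ 25441 Q25441 (allL N25441 (tt N26635 D59405) (tt N24266 (iv D58211)) (tt N26629 (iv F265287)) (tt N24269 F260552) (tt N26636 D59406) (tt N24268 F260553) (tt N26080 (iv F263451)) (tt N26621 (iv F265263)) (tt N26632 (iv F265293)) (tt N26032 (iv F263246)))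
theorem Q25443 : ∀ i, i < 25443 → P i := stepQ 25442 Q25442 (allL N25442 (tt N26049 (iv F263316)) (tt N26636 (iv F265299)) (tt N24267 F260554) (tt N26409 (iv F264716)) (tt N24266 (iv D58212)) (tt N26099 (iv F263534)) (tt N26081 (iv F263453)) (tt N26622 (iv F265265)) (tt N26633 (iv F265295)) (tt N26033 (iv F263250)))
theorem Q25444 : ∀ i, i < 25444 → P i := stepQ 25443 Q25443 (allL N25443 (tt N24268 (iv D58213)) (tt N26050 (iv F263321)) (tt N26631 (iv F265291)) (tt N24270 F260555) (tt N26100 (iv F263538)) (tt N26635 (iv F265298)) (tt N26062 (iv F263384)) (tt N26623 (iv F265267)) (tt N26634 (iv F265296)) (tt N26034 (iv F263255)))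
theorem Q25445 : ∀ i, i < 25445 → P i := stepQ 25444 Q25444 (allL N25444 (tt N24269 (iv D58214)) (tt N26370 (iv F264575)) (tt N24291 F260556) (tt N26635 (iv F265297)) (tt N26413 (iv F264726)) (tt N24270 F260557) (tt N26082 (iv F263455)) (tt N26625 (iv F265273)) (tt N26550 (iv F265109)) (tt N26606 (iv F265227)))
theorem Q25446 : ∀ i, i < 25446 → P i := stepQ 25445 Q25445 (allL N25445 (tt N25763 (iv F261975)) (tt N24272 F260558) (tt N25735 (iv F261832)) (tt N26616 (iv F265249)) (tt N24271 (iv D58215)) (tt N25680 (iv F261518)) (tt N26020 (iv F263183)) (tt N24273 F260559) (tt N25445 F260560) (tt N25708 (iv F261687)))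
theorem Q25447 : ∀ i, i < 25447 → P i := stepQ 25446 Q25446 (allL N25446 (tt N24300 F260561) (tt N26637 D59407) (tt N24274 (iv D58216)) (tt N24276 F260562) (tt N26638 D59408) (tt N26358 (iv F264526)) (tt N26086 (iv F263474)) (tt N25638 (iv F261265)) (tt N26281 (iv F264217)) (tt N26390 (iv F264653)))
theorem Q25448 : ∀ i, i < 25448 → P i := stepQ 25447 Q25447 (allL N25447 (tt N24301 F260563) (tt N25630 (iv F261218)) (tt N26638 (iv F265302)) (tt N24275 F260564) (tt N24274 (iv D58217)) (tt N26140 (iv F263705)) (tt N26087 (iv F263480)) (tt N25639 (iv F261271)) (tt N26024 (iv F263206)) (tt N26391 (iv F264657)))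
theorem Q25449 : ∀ i, i < 25449 → P i := stepQ 25448 Q25448 (allL N25448 (tt N26639 D59409) (tt N24276 (iv D58218)) (tt N26055 (iv F263344)) (tt N26637 (iv F265300)) (tt N26060 (iv F263368)) (tt N26360 (iv F264535)) (tt N26091 (iv F263497)) (tt N26059 (iv F263364)) (tt N24278 F260565) (tt N26396 (iv F264676)))
theorem Q25450 : ∀ i, i < 25450 → P i := stepQ 25449 Q25449 (allL N25449 (tt N26640 D59410) (tt N24277 (iv D58219)) (tt N26060 (iv F263367)) (tt N26249 (iv F264124)) (tt N26055 (iv F263346)) (tt N26361 (iv F264541)) (tt N26628 (iv F265284)) (tt N24278 F260566) (tt N26059 (iv F263365)) (tt N24284 F260567))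
theorem Q25451 : ∀ i, i < 25451 → P i := stepQ 25450 Q25450 (allL N25450 (tt N24278 (iv D58220)) (tt N24331 F260568) (tt N26606 (iv F265225)) (tt N26292 (iv F264247)) (tt N26062 (iv F263383)) (tt N26362 (iv F264548)) (tt N26100 (iv F263539)) (tt N26640 (iv F265306)) (tt N26639 (iv F265304)) (tt N24291 F260569))
theorem Q25452 : ∀ i, i < 25452 → P i := stepQ 25451 Q25451 (allL N25451 (tt N24338 F260570) (tt N26641 D59411) (tt N24279 (iv D58221)) (tt N24281 F260571) (tt N26177 (iv F263842)) (tt N26496 (iv F264984)) (tt N24283 F260572) (tt N26106 (iv F263571)) (tt N25801 (iv F262182)) (tt N26226 (iv F264052)))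
theorem Q25453 : ∀ i, i < 25453 → P i := stepQ 25452 Q25452 (allL N25452 (tt N24340 F260573) (tt N26642 D59412) (tt N24280 (iv D58222)) (tt N26496 (iv F264983)) (tt N26643 D59413) (tt N24281 F260574) (tt N26348 (iv F264481)) (tt N26107 (iv F263575)) (tt N26351 (iv F264500)) (tt N26626 (iv F265277)))
theorem Q25454 : ∀ i, i < 25454 → P i := stepQ 25453 Q25453 (allL N25453 (tt N24341 F260575) (tt N26611 (iv F265236)) (tt N26643 (iv F265312)) (tt N25453 F260576) (tt N24280 (iv D58223)) (tt N26600 (iv F265211)) (tt N26349 (iv F264488)) (tt N26108 (iv F263578)) (tt N26352 (iv F264505)) (tt N26627 (iv F265282)))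
theorem Q25455 : ∀ i, i < 25455 → P i := stepQ 25454 Q25454 (allL N25454 (tt N26644 D59414) (tt N24281 (iv D58224)) (tt N26624 (iv F265268)) (tt N26641 (iv F265308)) (tt N26601 (iv F265212)) (tt N26642 (iv F265310)) (tt N24284 F260577) (tt N26109 (iv F263580)) (tt N26557 (iv F265129)) (tt N26628 (iv F265286)))
theorem Q25456 : ∀ i, i < 25456 → P i := stepQ 25455 Q25455 (allL N25455 (tt N26192 (iv F263900)) (tt N26645 D59415) (tt N24282 (iv D58225)) (tt N26615 (iv F265245)) (tt N26182 (iv F263861)) (tt N25789 (iv F262112)) (tt N26241 (iv F264102)) (tt N24287 F260578) (tt N25791 (iv F262127)) (tt N26221 (iv F264032)))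
theorem Q25457 : ∀ i, i < 25457 → P i := stepQ 25456 Q25456 (allL N25456 (tt N26646 D59416) (tt N24283 (iv D58226)) (tt N26645 (iv F265315)) (tt N24284 F260579) (tt N26185 (iv F263879)) (tt N25797 (iv F262153)) (tt N26641 (iv F265309)) (tt N24290 F260580) (tt N25802 (iv F262188)) (tt N26249 (iv F264126)))
theorem Q25458 : ∀ i, i < 25458 → P i := stepQ 25457 Q25457 (allL N25457 (tt N24284 (iv D58227)) (tt N24355 F260581) (tt N26625 (iv F265271)) (tt N26646 (iv F265318)) (tt N26602 (iv F265215)) (tt N26363 (iv F264553)) (tt N26644 (iv F265314)) (tt N24291 F260582) (tt N26558 (iv F265132)) (tt N26640 (iv F265307)))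
theorem Q25459 : ∀ i, i < 25459 → P i := stepQ 25458 Q25458 (allL N25458 (tt N24287 F260583) (tt N26647 D59417) (tt N24285 (iv D58228)) (tt N25756 (iv F261941)) (tt N25791 (iv F262123)) (tt N26364 (iv F264557)) (tt N25751 (iv F261918)) (tt N26192 (iv F263903)) (tt N26182 (iv F263863)) (tt N25801 (iv F262183)))
theorem Q25460 : ∀ i, i < 25460 → P i := stepQ 25459 Q25459 (allL N25459 (tt N26182 (iv F263860)) (tt N26648 D59418) (tt N24286 (iv D58229)) (tt N26234 (iv F264075)) (tt N26192 (iv F263901)) (tt N25772 (iv F262027)) (tt N26122 (iv F263631)) (tt N25791 (iv F262126)) (tt N24287 F260584) (tt N26233 (iv F264074)))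
theorem Q25461 : ∀ i, i < 25461 → P i := stepQ 25460 Q25460 (allL N25460 (tt N26649 D59419) (tt N24287 (iv D58230)) (tt N24290 F260585) (tt N26629 (iv F265288)) (tt N26193 (iv F263906)) (tt N26365 (iv F264562)) (tt N26123 (iv F263637)) (tt N26645 (iv F265316)) (tt N26648 (iv F265322)) (tt N26267 (iv F264174)))
theorem Q25462 : ∀ i, i < 25462 → P i := stepQ 25461 Q25461 (allL N25461 (tt N24367 F260586) (tt N26650 D59420) (tt N24288 (iv D58231)) (tt N25741 (iv F261864)) (tt N26196 (iv F263920)) (tt N25737 (iv F261845)) (tt N26127 (iv F263655)) (tt N25751 (iv F261919)) (tt N26278 (iv F264206)) (tt N24289 F260587))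
theorem Q25463 : ∀ i, i < 25463 → P i := stepQ 25462 Q25462 (allL N25462 (tt N26651 D59421) (tt N24289 (iv D58232)) (tt N26648 (iv F265321)) (tt N25782 (iv F262076)) (tt N26197 (iv F263925)) (tt N25775 (iv F262043)) (tt N26128 (iv F263660)) (tt N25802 (iv F262187)) (tt N24290 F260588) (tt N26650 (iv F265324)))
theorem Q25464 : ∀ i, i < 25464 → P i := stepQ 25463 Q25463 (allL N25463 (tt N24290 (iv D58233)) (tt N24375 F260589) (tt N26649 (iv F265323)) (tt N24291 F260590) (tt N26201 (iv F263944)) (tt N26367 (iv F264566)) (tt N26131 (iv F263672)) (tt N26646 (iv F265319)) (tt N26651 (iv F265326)) (tt N26292 (iv F264249)))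
theorem Q25465 : ∀ i, i < 25465 → P i := stepQ 25464 Q25464 (allL N25464 (tt N24295 F260591) (tt N24369 F260592) (tt N26652 D59422) (tt N24292 (iv D58234)) (tt N26653 D59423) (tt N26163 (iv F263801)) (tt N26153 (iv F263758)) (tt N24358 F260593) (tt N26376 (iv F264597)) (tt N26162 (iv F263798)))
theorem Q25466 : ∀ i, i < 25466 → P i := stepQ 25465 Q25465 (allL N25465 (tt N24297 F260594) (tt N24387 F260595) (tt N26386 (iv F264631)) (tt N26653 (iv F265331)) (tt N24293 (iv D58235)) (tt N26310 (iv F264307)) (tt N26155 (iv F263769)) (tt N24385 F260596) (tt N24389 F260597) (tt N26518 (iv F265030)))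
theorem Q25467 : ∀ i, i < 25467 → P i := stepQ 25466 Q25466 (allL N25466 (tt N26376 (iv F264593)) (tt N24299 F260598) (tt N26654 D59424) (tt N24294 (iv D58236)) (tt N26655 D59425) (tt N26431 (iv F264796)) (tt N26156 (iv F263775)) (tt N26183 (iv F263869)) (tt N24295 F260599) (tt N26243 (iv F264111)))
theorem Q25468 : ∀ i, i < 25468 → P i := stepQ 25467 Q25467 (allL N25467 (tt N26652 (iv F265327)) (tt N26656 D59426) (tt N24295 (iv D58237)) (tt N26418 (iv F264746)) (tt N26657 D59427) (tt N26432 (iv F264800)) (tt N26158 (iv F263783)) (tt N26442 (iv F264838)) (tt N26654 (iv F265333)) (tt N26463 (iv F264891)))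
theorem Q25469 : ∀ i, i < 25469 → P i := stepQ 25468 Q25468 (allL N25468 (tt N26653 (iv F265329)) (tt N24301 F260600) (tt N26657 (iv F265338)) (tt N24297 F260601) (tt N24295 (iv D58238)) (tt N26311 (iv F264311)) (tt N26159 (iv F263786)) (tt N25806 F262202) (tt N26655 (iv F265336)) (tt N26464 (iv F264895)))
theorem Q25470 : ∀ i, i < 25470 → P i := stepQ 25469 Q25469 (allL N25469 (tt N26386 (iv F264629)) (tt N25660 (iv F261377)) (tt N24297 F260602) (tt N26658 D59428) (tt N24296 (iv D58239)) (tt N25816 (iv F262239)) (tt N26160 (iv F263788)) (tt N25650 F261328) (tt N24392 F260603) (tt N26313 (iv F264320)))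
theorem Q25471 : ∀ i, i < 25471 → P i := stepQ 25470 Q25470 (allL N25470 (tt N26332 (iv F264396)) (tt N26243 (iv F264108)) (tt N26659 D59429) (tt N24298 (iv D58240)) (tt N26660 D59430) (tt N26434 (iv F264807)) (tt N26163 (iv F263802)) (tt N26121 (iv F263627)) (tt N26467 (iv F264904)) (tt N24299 F260604))
theorem Q25472 : ∀ i, i < 25472 → P i := stepQ 25471 Q25471 (allL N25471 (tt N26281 (iv F264214)) (tt N26661 D59431) (tt N24299 (iv D58241)) (tt N24322 F260605) (tt N26662 D59432) (tt N26435 (iv F264812)) (tt N26164 (iv F263807)) (tt N26445 (iv F264847)) (tt N24300 F260606) (tt N26659 (iv F265340)))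
theorem Q25473 : ∀ i, i < 25473 → P i := stepQ 25472 Q25472 (allL N25472 (tt N26024 (iv F263202)) (tt N26655 (iv F265334)) (tt N26662 (iv F265345)) (tt N24394 F260607) (tt N24299 (iv D58242)) (tt N26312 (iv F264314)) (tt N25817 (iv F262246)) (tt N26070 (iv F263411)) (tt N24301 F260608) (tt N26660 (iv F265342)))
theorem Q25474 : ∀ i, i < 25474 → P i := stepQ 25473 Q25473 (allL N25473 (tt N26663 D59433) (tt N24300 (iv D58243)) (tt N26656 (iv F265337)) (tt N24302 F260609) (tt N26664 D59434) (tt N26437 (iv F264819)) (tt N26168 (iv F263817)) (tt N26450 (iv F264859)) (tt N26661 (iv F265344)) (tt N26475 (iv F264929)))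
theorem Q25475 : ∀ i, i < 25475 → P i := stepQ 25474 Q25474 (allL N25474 (tt N26638 (iv F265301)) (tt N26664 (iv F265348)) (tt N24301 F260610) (tt N26057 (iv F263355)) (tt N24300 (iv D58244)) (tt N26257 (iv F264142)) (tt N26169 (iv F263819)) (tt N26069 (iv F263406)) (tt N26662 (iv F265346)) (tt N26476 (iv F264932)))
theorem Q25476 : ∀ i, i < 25476 → P i := stepQ 25475 Q25475 (allL N25475 (tt N24302 (iv D58245)) (tt N26639 (iv F265303)) (tt N26425 (iv F264774)) (tt N26663 (iv F265347)) (tt N26603 (iv F265217)) (tt N26439 (iv F264826)) (tt N26176 (iv F263838)) (tt N26454 (iv F264871)) (tt N24331 F260611) (tt N26481 (iv F264944)))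
theorem Q25477 : ∀ i, i < 25477 → P i := stepQ 25476 Q25476 (allL N25476 (tt N26227 (iv F264053)) (tt N25736 (iv F261838)) (tt N26665 D59435) (tt N24303 (iv D58246)) (tt N26666 D59436) (tt N24304 F260612) (tt N25724 (iv F261780)) (tt N25744 (iv F261880)) (tt N25734 (iv F261828)) (tt N24337 F260613))
theorem Q25478 : ∀ i, i < 25478 → P i := stepQ 25477 Q25477 (allL N25477 (tt N26226 (iv F264046)) (tt N26667 D59437) (tt N24304 (iv D58247)) (tt N24306 F260614) (tt N26106 (iv F263569)) (tt N26665 (iv F265350)) (tt N24309 F260615) (tt N26177 (iv F263844)) (tt N26233 (iv F264073)) (tt N24338 F260616))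
theorem Q25479 : ∀ i, i < 25479 → P i := stepQ 25478 Q25478 (allL N25478 (tt N26626 (iv F265274)) (tt N26668 D59438) (tt N24305 (iv D58248)) (tt N26665 (iv F265349)) (tt N26669 D59439) (tt N24306 F260617) (tt N25728 (iv F261795)) (tt N26179 (iv F263852)) (tt N25756 (iv F261944)) (tt N24340 F260618))
theorem Q25480 : ∀ i, i < 25480 → P i := stepQ 25479 Q25479 (allL N25479 (tt N26627 (iv F265278)) (tt N26173 (iv F263829)) (tt N26669 (iv F265359)) (tt N25479 F260619) (tt N24305 (iv D58249)) (tt N26079 (iv F263446)) (tt N25729 (iv F261800)) (tt N26180 (iv F263855)) (tt N25757 (iv F261951)) (tt N24341 F260620))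
theorem Q25481 : ∀ i, i < 25481 → P i := stepQ 25480 Q25480 (allL N25480 (tt N26670 D59440) (tt N24306 (iv D58250)) (tt N26430 (iv F264791)) (tt N26667 (iv F265354)) (tt N26604 (iv F265219)) (tt N26668 (iv F265357)) (tt N24310 F260621) (tt N26181 (iv F263858)) (tt N26453 (iv F264867)) (tt N24342 F260622))
theorem Q25482 : ∀ i, i < 25482 → P i := stepQ 25481 Q25481 (allL N25481 (tt N26196 (iv F263919)) (tt N26671 D59441) (tt N24307 (iv D58251)) (tt N26432 (iv F264799)) (tt N24367 F260623) (tt N26418 (iv F264747)) (tt N26278 (iv F264205)) (tt N24316 F260624) (tt N26127 (iv F263657)) (tt N24344 F260625))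
theorem Q25483 : ∀ i, i < 25483 → P i := stepQ 25482 Q25482 (allL N25482 (tt N26220 (iv F264023)) (tt N26672 D59442) (tt N24308 (iv D58252)) (tt N26445 (iv F264845)) (tt N26111 (iv F263588)) (tt N26421 (iv F264761)) (tt N26233 (iv F264071)) (tt N24322 F260626) (tt N24309 F260627) (tt N26122 (iv F263634)))
theorem Q25484 : ∀ i, i < 25484 → P i := stepQ 25483 Q25483 (allL N25483 (tt N26673 D59443) (tt N24309 (iv D58253)) (tt N26671 (iv F265363)) (tt N24310 F260628) (tt N26115 (iv F263609)) (tt N26423 (iv F264768)) (tt N26667 (iv F265355)) (tt N24327 F260629) (tt N26672 (iv F265368)) (tt N24348 F260630))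
theorem Q25485 : ∀ i, i < 25485 → P i := stepQ 25484 Q25484 (allL N25484 (tt N24310 (iv D58254)) (tt N26640 (iv F265305)) (tt N26439 (iv F264825)) (tt N26673 (iv F265369)) (tt N26605 (iv F265222)) (tt N26425 (iv F264775)) (tt N26670 (iv F265361)) (tt N24331 F260631) (tt N26454 (iv F264872)) (tt N24355 F260632))
theorem Q25486 : ∀ i, i < 25486 → P i := stepQ 25485 Q25485 (allL N25485 (tt N24316 F260633) (tt N26674 D59444) (tt N24311 (iv D58255)) (tt N26263 (iv F264161)) (tt N25751 (iv F261916)) (tt N26491 (iv F264971)) (tt N25791 (iv F262125)) (tt N26196 (iv F263922)) (tt N26241 (iv F264104)) (tt N24357 F260634))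
theorem Q25487 : ∀ i, i < 25487 → P i := stepQ 25486 Q25486 (allL N25486 (tt N25969 (iv F263005)) (tt N26186 (iv F263883)) (tt N26675 D59445) (tt N24312 (iv D58256)) (tt N26676 D59446) (tt N26149 (iv F263745)) (tt N25755 (iv F261936)) (tt N25740 (iv F261861)) (tt N26178 (iv F263849)) (tt N25779 (iv F262065)))
theorem Q25488 : ∀ i, i < 25488 → P i := stepQ 25487 Q25487 (allL N25487 (tt N26238 (iv F264088)) (tt N24320 F260635) (tt N26677 D59447) (tt N24313 (iv D58257)) (tt N26678 D59448) (tt N24314 F260636) (tt N26147 (iv F263738)) (tt N26124 (iv F263643)) (tt N24315 F260637) (tt N26110 (iv F263586)))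
theorem Q25489 : ∀ i, i < 25489 → P i := stepQ 25488 Q25488 (allL N25488 (tt N26241 (iv F264101)) (tt N26679 D59449) (tt N24314 (iv D58258)) (tt N26675 (iv F265373)) (tt N26122 (iv F263630)) (tt N26677 (iv F265375)) (tt N26192 (iv F263902)) (tt N26127 (iv F263656)) (tt N24316 F260638) (tt N26111 (iv F263591)))
theorem Q25490 : ∀ i, i < 25490 → P i := stepQ 25489 Q25489 (allL N25489 (tt N26491 (iv F264969)) (tt N26680 D59450) (tt N24315 (iv D58259)) (tt N26442 (iv F264835)) (tt N26681 D59451) (tt N24316 F260639) (tt N26482 (iv F264948)) (tt N26418 (iv F264748)) (tt N26677 (iv F265376)) (tt N24359 F260640))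
theorem Q25491 : ∀ i, i < 25491 → P i := stepQ 25490 Q25490 (allL N25490 (tt N25754 (iv F261927)) (tt N24326 F260641) (tt N26681 (iv F265385)) (tt N24334 F260642) (tt N24315 (iv D58260)) (tt N25693 (iv F261598)) (tt N26483 (iv F264953)) (tt N26419 (iv F264753)) (tt N26678 (iv F265379)) (tt N24360 F260643))
theorem Q25492 : ∀ i, i < 25492 → P i := stepQ 25491 Q25491 (allL N25491 (tt N26682 D59452) (tt N24316 (iv D58261)) (tt N24327 F260644) (tt N26443 (iv F264841)) (tt N26123 (iv F263636)) (tt N26680 (iv F265383)) (tt N26193 (iv F263907)) (tt N26671 (iv F265365)) (tt N26679 (iv F265381)) (tt N24361 F260645))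
theorem Q25493 : ∀ i, i < 25493 → P i := stepQ 25492 Q25492 (allL N25492 (tt N25614 (iv F261120)) (tt N25922 (iv F262811)) (tt N25608 (iv F261084)) (tt N26683 D59453) (tt N25492 F260646) (tt N25718 (iv F261751)) (tt N24319 F260647) (tt N25601 (iv F261043)) (tt N24317 (iv D58262)) (tt N24318 F260648))
theorem Q25494 : ∀ i, i < 25494 → P i := stepQ 25493 Q25493 (allL N25493 (tt N25615 (iv F261128)) (tt N26147 (iv F263736)) (tt N26684 D59454) (tt N24318 (iv D58263)) (tt N26685 D59455) (tt N26146 (iv F263731)) (tt N24320 F260649) (tt N26157 (iv F263781)) (tt N24324 F260650) (tt N26683 (iv F265391)))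
theorem Q25495 : ∀ i, i < 25495 → P i := stepQ 25494 Q25494 (allL N25494 (tt N25736 (iv F261837)) (tt N26110 (iv F263582)) (tt N26686 D59456) (tt N24319 (iv D58264)) (tt N26687 D59457) (tt N24321 F260651) (tt N26683 (iv F265389)) (tt N25691 (iv F261586)) (tt N24364 F260652) (tt N24320 F260653))
theorem Q25496 : ∀ i, i < 25496 → P i := stepQ 25495 Q25495 (allL N25495 (tt N26282 (iv F264218)) (tt N26688 D59458) (tt N24320 (iv D58265)) (tt N26435 (iv F264811)) (tt N26689 D59459) (tt N24322 F260654) (tt N26684 (iv F265392)) (tt N26421 (iv F264762)) (tt N24325 F260655) (tt N26686 (iv F265399)))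
theorem Q25497 : ∀ i, i < 25497 → P i := stepQ 25496 Q25496 (allL N25496 (tt N26276 (iv F264196)) (tt N26678 (iv F265377)) (tt N26689 (iv F265405)) (tt N25496 F260656) (tt N24320 (iv D58266)) (tt N26126 (iv F263651)) (tt N26685 (iv F265395)) (tt N26422 (iv F264765)) (tt N24326 F260657) (tt N26687 (iv F265402)))
theorem Q25498 : ∀ i, i < 25498 → P i := stepQ 25497 Q25497 (allL N25497 (tt N26278 (iv F264203)) (tt N26690 D59460) (tt N24321 (iv D58267)) (tt N26659 (iv F265339)) (tt N26127 (iv F263654)) (tt N26686 (iv F265397)) (tt N26196 (iv F263921)) (tt N26122 (iv F263632)) (tt N24367 F260658) (tt N24322 F260659))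
theorem Q25499 : ∀ i, i < 25499 → P i := stepQ 25498 Q25498 (allL N25498 (tt N26691 D59461) (tt N24322 (iv D58268)) (tt N26679 (iv F265380)) (tt N26661 (iv F265343)) (tt N26128 (iv F263659)) (tt N26688 (iv F265403)) (tt N26197 (iv F263926)) (tt N26672 (iv F265367)) (tt N24327 F260660) (tt N26690 (iv F265408)))
theorem Q25500 : ∀ i, i < 25500 → P i := stepQ 25499 Q25499 (allL N25499 (tt N25609 (iv F261090)) (tt N26162 (iv F263794)) (tt N26692 D59462) (tt N24323 (iv D58269)) (tt N26693 D59463) (tt N26156 (iv F263774)) (tt N25713 (iv F261720)) (tt N24324 F260661) (tt N26157 (iv F263782)) (tt N24369 F260662))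
theorem Q25501 : ∀ i, i < 25501 → P i := stepQ 25500 Q25500 (allL N25500 (tt N25616 (iv F261133)) (tt N26694 D59464) (tt N24324 (iv D58270)) (tt N24329 F260663) (tt N26695 D59465) (tt N26198 (iv F263931)) (tt N24325 F260664) (tt N26692 (iv F265411)) (tt N26684 (iv F265393)) (tt N24370 F260665))
theorem Q25502 : ∀ i, i < 25502 → P i := stepQ 25501 Q25501 (allL N25501 (tt N25617 (iv F261138)) (tt N26483 (iv F264951)) (tt N26695 (iv F265419)) (tt N24336 F260666) (tt N24324 (iv D58271)) (tt N26696 D59466) (tt N24326 F260667) (tt N26693 (iv F265414)) (tt N26685 (iv F265396)) (tt N24371 F260668))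
theorem Q25503 : ∀ i, i < 25503 → P i := stepQ 25502 Q25502 (allL N25502 (tt N26697 D59467) (tt N24325 (iv D58272)) (tt N26680 (iv F265382)) (tt N24330 F260669) (tt N26698 D59468) (tt N24327 F260670) (tt N26694 (iv F265417)) (tt N26423 (iv F264769)) (tt N26688 (iv F265404)) (tt N24372 F260671))
theorem Q25504 : ∀ i, i < 25504 → P i := stepQ 25503 Q25503 (allL N25503 (tt N26291 (iv F264240)) (tt N26698 (iv F265427)) (tt N24326 F260672) (tt N26374 (iv F264588)) (tt N24325 (iv D58273)) (tt N26130 (iv F263667)) (tt N26695 (iv F265420)) (tt N26424 (iv F264772)) (tt N26689 (iv F265406)) (tt N24373 F260673))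
theorem Q25505 : ∀ i, i < 25505 → P i := stepQ 25504 Q25504 (allL N25504 (tt N24327 (iv D58274)) (tt N26292 (iv F264246)) (tt N26682 (iv F265387)) (tt N24331 F260674) (tt N26131 (iv F263671)) (tt N26697 (iv F265425)) (tt N26201 (iv F263945)) (tt N26673 (iv F265370)) (tt N26691 (iv F265409)) (tt N24375 F260675))
theorem Q25506 : ∀ i, i < 25506 → P i := stepQ 25505 Q25505 (allL N25505 (tt N25613 (iv F261116)) (tt N26699 D59469) (tt N24328 (iv D58275)) (tt N26692 (iv F265410)) (tt N25690 (iv F261578)) (tt N26202 (iv F263947)) (tt N25717 (iv F261743)) (tt N24329 F260676) (tt N25733 (iv F261822)) (tt N24378 F260677))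
theorem Q25507 : ∀ i, i < 25507 → P i := stepQ 25506 Q25506 (allL N25506 (tt N26700 D59470) (tt N24329 (iv D58276)) (tt N26453 (iv F264865)) (tt N26694 (iv F265416)) (tt N25696 (iv F261615)) (tt N26204 (iv F263954)) (tt N24330 F260678) (tt N26699 (iv F265429)) (tt N26430 (iv F264793)) (tt N24379 F260679))
theorem Q25508 : ∀ i, i < 25508 → P i := stepQ 25507 Q25507 (allL N25507 (tt N24330 (iv D58277)) (tt N26362 (iv F264545)) (tt N26454 (iv F264869)) (tt N26697 (iv F265424)) (tt N26375 (iv F264591)) (tt N24331 F260680) (tt N26700 (iv F265431)) (tt N26425 (iv F264776)) (tt N26439 (iv F264828)) (tt N24380 F260681))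
theorem Q25509 : ∀ i, i < 25509 → P i := stepQ 25508 Q25508 (allL N25508 (tt N25618 (iv F261143)) (tt N25661 (iv F261383)) (tt N24334 F260682) (tt N26696 (iv F265422)) (tt N24333 (iv D58278)) (tt N24336 F260683) (tt N25662 (iv F261393)) (tt N26420 (iv F264757)) (tt N25508 F260684) (tt N24386 F260685))
theorem Q25510 : ∀ i, i < 25510 → P i := stepQ 25509 Q25509 (allL N25509 (tt N25610 (iv F261096)) (tt N26518 (iv F265027)) (tt N24399 F260686) (tt N26693 (iv F265413)) (tt N24335 (iv D58279)) (tt N26420 (iv F264756)) (tt N25714 (iv F261725)) (tt N24336 F260687) (tt N25509 F260688) (tt N24387 F260689))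
theorem Q25511 : ∀ i, i < 25511 → P i := stepQ 25510 Q25510 (allL N25510 (tt N26496 (iv F264982)) (tt N26701 D59471) (tt N24337 (iv D58280)) (tt N24340 F260690) (tt N26702 D59472) (tt N24338 F260691) (tt N26403 (iv F264696)) (tt N26223 (iv F264040)) (tt N26027 (iv F263221)) (tt N26665 (iv F265351)))
theorem Q25512 : ∀ i, i < 25512 → P i := stepQ 25511 Q25511 (allL N25511 (tt N26497 (iv F264987)) (tt N26276 (iv F264197)) (tt N26702 (iv F265435)) (tt N25511 F260692) (tt N24337 (iv D58281)) (tt N26261 (iv F264154)) (tt N26404 (iv F264700)) (tt N26224 (iv F264042)) (tt N26028 (iv F263228)) (tt N26666 (iv F265353)))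
theorem Q25513 : ∀ i, i < 25513 → P i := stepQ 25512 Q25512 (allL N25512 (tt N26703 D59473) (tt N24338 (iv D58282)) (tt N26280 (iv F264211)) (tt N24342 F260693) (tt N26262 (iv F264157)) (tt N26701 (iv F265434)) (tt N24348 F260694) (tt N26225 (iv F264045)) (tt N26267 (iv F264173)) (tt N26667 (iv F265356)))
theorem Q25514 : ∀ i, i < 25514 → P i := stepQ 25513 Q25513 (allL N25513 (tt N26348 (iv F264478)) (tt N26704 D59474) (tt N24339 (iv D58283)) (tt N26403 (iv F264694)) (tt N26705 D59475) (tt N24353 F260695) (tt N24340 F260696) (tt N26552 (iv F265115)) (tt N25582 (iv F260918)) (tt N25728 (iv F261797)))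
theorem Q25515 : ∀ i, i < 25515 → P i := stepQ 25514 Q25514 (allL N25514 (tt N26349 (iv F264484)) (tt N25936 (iv F262869)) (tt N26705 (iv F265440)) (tt N25514 F260697) (tt N24339 (iv D58284)) (tt N26382 (iv F264622)) (tt N24341 F260698) (tt N26553 (iv F265119)) (tt N25583 (iv F260925)) (tt N25729 (iv F261802)))
theorem Q25516 : ∀ i, i < 25516 → P i := stepQ 25515 Q25515 (allL N25515 (tt N26706 D59476) (tt N24340 (iv D58285)) (tt N26460 (iv F264883)) (tt N26701 (iv F265433)) (tt N26707 D59477) (tt N24342 F260699) (tt N26704 (iv F265439)) (tt N26230 (iv F264065)) (tt N26573 (iv F265162)) (tt N26668 (iv F265358)))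
theorem Q25517 : ∀ i, i < 25517 → P i := stepQ 25516 Q25516 (allL N25516 (tt N26643 (iv F265311)) (tt N26707 (iv F265443)) (tt N24341 F260700) (tt N26708 D59478) (tt N24340 (iv D58286)) (tt N26613 (iv F265242)) (tt N26705 (iv F265441)) (tt N26231 (iv F264067)) (tt N26574 (iv F265164)) (tt N26669 (iv F265360)))
theorem Q25518 : ∀ i, i < 25518 → P i := stepQ 25517 Q25517 (allL N25517 (tt N24342 (iv D58287)) (tt N26644 (iv F265313)) (tt N26462 (iv F264886)) (tt N26703 (iv F265436)) (tt N26614 (iv F265243)) (tt N26706 (iv F265442)) (tt N24355 F260701) (tt N26232 (iv F264069)) (tt N26575 (iv F265166)) (tt N26670 (iv F265362)))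
theorem Q25519 : ∀ i, i < 25519 → P i := stepQ 25518 Q25518 (allL N25518 (tt N26195 (iv F263915)) (tt N26709 D59479) (tt N24343 (iv D58288)) (tt N26463 (iv F264888)) (tt N26710 D59480) (tt N24344 F260702) (tt N26398 (iv F264680)) (tt N24359 F260703) (tt N24377 F260704) (tt N26418 (iv F264749)))
theorem Q25520 : ∀ i, i < 25520 → P i := stepQ 25519 Q25519 (allL N25519 (tt N25777 (iv F262050)) (tt N24347 F260705) (tt N26710 (iv F265449)) (tt N24382 F260706) (tt N24343 (iv D58289)) (tt N24366 F260707) (tt N26399 (iv F264684)) (tt N24360 F260708) (tt N24374 F260709) (tt N26419 (iv F264754)))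
theorem Q25521 : ∀ i, i < 25521 → P i := stepQ 25520 Q25520 (allL N25520 (tt N26711 D59481) (tt N24344 (iv D58290)) (tt N24348 F260710) (tt N26465 (iv F264897)) (tt N24368 F260711) (tt N26709 (iv F265446)) (tt N26280 (iv F264212)) (tt N24361 F260712) (tt N24376 F260713) (tt N26671 (iv F265366)))
theorem Q25522 : ∀ i, i < 25522 → P i := stepQ 25521 Q25521 (allL N25521 (tt N26712 D59482) (tt N24345 (iv D58291)) (tt N24376 F260714) (tt N25705 (iv F261667)) (tt N24361 F260715) (tt N25700 (iv F261636)) (tt N26267 (iv F264172)) (tt N24368 F260716) (tt N24348 F260717) (tt N26123 (iv F263639)))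
theorem Q25523 : ∀ i, i < 25523 → P i := stepQ 25522 Q25522 (allL N25522 (tt N26713 D59483) (tt N24346 (iv D58292)) (tt N26709 (iv F265445)) (tt N24354 F260718) (tt N26714 D59484) (tt N24348 F260719) (tt N26405 (iv F264703)) (tt N24372 F260720) (tt N25700 (iv F261639)) (tt N26423 (iv F264770)))
theorem Q25524 : ∀ i, i < 25524 → P i := stepQ 25523 Q25523 (allL N25523 (tt N25798 (iv F262157)) (tt N26714 (iv F265464)) (tt N24347 F260721) (tt N26393 (iv F264662)) (tt N24346 (iv D58293)) (tt N26715 D59485) (tt N26406 (iv F264707)) (tt N24373 F260722) (tt N25701 (iv F261646)) (tt N26424 (iv F264773)))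
theorem Q25525 : ∀ i, i < 25525 → P i := stepQ 25524 Q25524 (allL N25524 (tt N25799 (iv F262163)) (tt N24366 F260723) (tt N26715 (iv F265466)) (tt N24383 F260724) (tt N24350 F260725) (tt N24347 (iv D58294)) (tt N26716 D59486) (tt N24374 F260726) (tt N24360 F260727) (tt N26114 (iv F263606)))
theorem Q25526 : ∀ i, i < 25526 → P i := stepQ 25525 Q25525 (allL N25525 (tt N24348 (iv D58295)) (tt N26646 (iv F265317)) (tt N26711 (iv F265453)) (tt N24355 F260728) (tt N26717 D59487) (tt N26713 (iv F265462)) (tt N26703 (iv F265437)) (tt N24375 F260729) (tt N26712 (iv F265460)) (tt N26673 (iv F265371)))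
theorem Q25527 : ∀ i, i < 25527 → P i := stepQ 25526 Q25526 (allL N25526 (tt N26717 (iv F265474)) (tt N24349 F260730) (tt N24368 F260731) (tt N26097 (iv F263525)) (tt N24348 (iv D58296)) (tt N26718 D59488) (tt N26262 (iv F264158)) (tt N24376 F260732) (tt N24361 F260733) (tt N26115 (iv F263611)))
theorem Q25528 : ∀ i, i < 25528 → P i := stepQ 25527 Q25527 (allL N25527 (tt N26184 (iv F263872)) (tt N26718 (iv F265478)) (tt N24350 F260734) (tt N26095 (iv F263516)) (tt N26715 (iv F265467)) (tt N24349 (iv D58297)) (tt N26719 D59489) (tt N24377 F260735) (tt N24359 F260736) (tt N26113 (iv F263600)))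
theorem Q25529 : ∀ i, i < 25529 → P i := stepQ 25528 Q25528 (allL N25528 (tt N26183 (iv F263865)) (tt N24363 F260737) (tt N26719 (iv F265482)) (tt N24351 F260738) (tt N26716 (iv F265472)) (tt N26259 (iv F264147)) (tt N24350 (iv D58298)) (tt N26376 (iv F264596)) (tt N24358 F260739) (tt N26112 (iv F263595)))
theorem Q25530 : ∀ i, i < 25530 → P i := stepQ 25529 Q25529 (allL N25529 (tt N25627 (iv F261199)) (tt N26720 D59490) (tt N24352 (iv D58299)) (tt N26388 (iv F264640)) (tt N25698 (iv F261625)) (tt N26552 (iv F265114)) (tt N24378 F260740) (tt N24353 F260741) (tt N25581 (iv F260911)) (tt N25717 (iv F261746)))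
theorem Q25531 : ∀ i, i < 25531 → P i := stepQ 25530 Q25530 (allL N25530 (tt N26721 D59491) (tt N24353 (iv D58300)) (tt N25937 (iv F262874)) (tt N26405 (iv F264702)) (tt N26383 (iv F264623)) (tt N26704 (iv F265438)) (tt N24354 F260742) (tt N26720 (iv F265485)) (tt N25584 (iv F260930)) (tt N25730 (iv F261806)))
theorem Q25532 : ∀ i, i < 25532 → P i := stepQ 25531 Q25531 (allL N25531 (tt N24354 (iv D58301)) (tt N26363 (iv F264550)) (tt N26481 (iv F264940)) (tt N26713 (iv F265461)) (tt N26397 (iv F264678)) (tt N24355 F260743) (tt N26721 (iv F265486)) (tt N24380 F260744) (tt N26341 (iv F264446)) (tt N26425 (iv F264778)))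
theorem Q25533 : ∀ i, i < 25533 → P i := stepQ 25532 Q25532 (allL N25532 (tt N24359 F260745) (tt N26722 D59492) (tt N24356 (iv D58302)) (tt N26482 (iv F264946)) (tt N25805 (iv F262195)) (tt N24357 F260746) (tt N26442 (iv F264837)) (tt N26195 (iv F263917)) (tt N26184 (iv F263876)) (tt N26491 (iv F264973)))
theorem Q25534 : ∀ i, i < 25534 → P i := stepQ 25533 Q25533 (allL N25533 (tt N26723 D59493) (tt N24357 (iv D58303)) (tt N26647 (iv F265320)) (tt N26484 (iv F264955)) (tt N25802 (iv F262185)) (tt N26722 (iv F265487)) (tt N26258 (iv F264144)) (tt N26197 (iv F263927)) (tt N26185 (iv F263881)) (tt N26674 (iv F265372)))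
theorem Q25535 : ∀ i, i < 25535 → P i := stepQ 25534 Q25534 (allL N25534 (tt N26442 (iv F264834)) (tt N26724 D59494) (tt N24358 (iv D58304)) (tt N26491 (iv F264970)) (tt N26725 D59495) (tt N26263 (iv F264162)) (tt N24359 F260747) (tt N26652 (iv F265328)) (tt N26719 (iv F265483)) (tt N26482 (iv F264949)))
theorem Q25536 : ∀ i, i < 25536 → P i := stepQ 25535 Q25535 (allL N25535 (tt N25806 (iv F262196)) (tt N24371 F260748) (tt N26725 (iv F265491)) (tt N24385 F260749) (tt N24358 (iv D58305)) (tt N26317 (iv F264333)) (tt N24360 F260750) (tt N26653 (iv F265332)) (tt N26716 (iv F265473)) (tt N26483 (iv F264954)))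
theorem Q25537 : ∀ i, i < 25537 → P i := stepQ 25536 Q25536 (allL N25536 (tt N26726 D59496) (tt N24359 (iv D58306)) (tt N24372 F260751) (tt N26492 (iv F264975)) (tt N26727 D59497) (tt N24361 F260752) (tt N26724 (iv F265490)) (tt N26709 (iv F265447)) (tt N26718 (iv F265481)) (tt N26680 (iv F265384)))
theorem Q25538 : ∀ i, i < 25538 → P i := stepQ 25537 Q25537 (allL N25537 (tt N25805 (iv F262193)) (tt N26727 (iv F265495)) (tt N24360 F260753) (tt N26728 D59498) (tt N24359 (iv D58307)) (tt N25701 (iv F261643)) (tt N26725 (iv F265492)) (tt N26710 (iv F265451)) (tt N26715 (iv F265469)) (tt N26681 (iv F265386)))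
theorem Q25539 : ∀ i, i < 25539 → P i := stepQ 25538 Q25538 (allL N25538 (tt N24361 (iv D58308)) (tt N26723 (iv F265488)) (tt N24375 F260754) (tt N26494 (iv F264979)) (tt N26712 (iv F265458)) (tt N26726 (iv F265494)) (tt N26266 (iv F264169)) (tt N26711 (iv F265455)) (tt N26717 (iv F265477)) (tt N26682 (iv F265388)))
theorem Q25540 : ∀ i, i < 25540 → P i := stepQ 25539 Q25539 (allL N25539 (tt N25642 (iv F261288)) (tt N26112 (iv F263593)) (tt N26729 D59499) (tt N24362 (iv D58309)) (tt N26730 D59500) (tt N26269 (iv F264179)) (tt N24364 F260755) (tt N25603 (iv F261055)) (tt N26683 (iv F265390)) (tt N24363 F260756))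
theorem Q25541 : ∀ i, i < 25541 → P i := stepQ 25540 Q25540 (allL N25540 (tt N25643 (iv F261292)) (tt N26731 D59501) (tt N24363 (iv D58310)) (tt N25698 (iv F261624)) (tt N26732 D59502) (tt N26270 (iv F264182)) (tt N24365 F260757) (tt N26378 (iv F264606)) (tt N24370 F260758) (tt N26729 (iv F265500)))
theorem Q25542 : ∀ i, i < 25542 → P i := stepQ 25541 Q25541 (allL N25541 (tt N25644 (iv F261297)) (tt N26716 (iv F265470)) (tt N26732 (iv F265506)) (tt N24398 F260759) (tt N24363 (iv D58311)) (tt N26733 D59503) (tt N24366 F260760) (tt N26379 (iv F264611)) (tt N24371 F260761) (tt N26730 (iv F265503)))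
theorem Q25543 : ∀ i, i < 25543 → P i := stepQ 25542 Q25542 (allL N25542 (tt N25737 (iv F261843)) (tt N26734 D59504) (tt N24364 (iv D58312)) (tt N25690 (iv F261577)) (tt N26735 D59505) (tt N24367 F260762) (tt N26729 (iv F265499)) (tt N25692 (iv F261593)) (tt N26686 (iv F265398)) (tt N24365 F260763))
theorem Q25544 : ∀ i, i < 25544 → P i := stepQ 25543 Q25543 (allL N25543 (tt N25738 (iv F261848)) (tt N26114 (iv F263602)) (tt N26735 (iv F265513)) (tt N24399 F260764) (tt N24364 (iv D58313)) (tt N26419 (iv F264752)) (tt N26730 (iv F265502)) (tt N25693 (iv F261600)) (tt N26687 (iv F265401)) (tt N24366 F260765))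
theorem Q25545 : ∀ i, i < 25545 → P i := stepQ 25544 Q25544 (allL N25544 (tt N26736 D59506) (tt N24365 (iv D58314)) (tt N26718 (iv F265479)) (tt N25699 (iv F261629)) (tt N26737 D59507) (tt N24368 F260766) (tt N26731 (iv F265504)) (tt N25700 (iv F261638)) (tt N24372 F260767) (tt N26734 (iv F265512)))
theorem Q25546 : ∀ i, i < 25546 → P i := stepQ 25545 Q25545 (allL N25545 (tt N25776 (iv F262046)) (tt N26737 (iv F265517)) (tt N24366 F260768) (tt N26738 D59508) (tt N24365 (iv D58315)) (tt N26710 (iv F265450)) (tt N26732 (iv F265507)) (tt N25701 (iv F261645)) (tt N24373 F260769) (tt N26735 (iv F265514)))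
theorem Q25547 : ∀ i, i < 25547 → P i := stepQ 25546 Q25546 (allL N25546 (tt N26739 D59509) (tt N24367 (iv D58316)) (tt N26115 (iv F263607)) (tt N26588 (iv F265187)) (tt N26671 (iv F265364)) (tt N26734 (iv F265511)) (tt N26277 (iv F264201)) (tt N26123 (iv F263638)) (tt N26690 (iv F265407)) (tt N24368 F260770))
theorem Q25548 : ∀ i, i < 25548 → P i := stepQ 25547 Q25547 (allL N25547 (tt N24368 (iv D58317)) (tt N26651 (iv F265325)) (tt N26717 (iv F265475)) (tt N26590 (iv F265191)) (tt N26711 (iv F265454)) (tt N26736 (iv F265515)) (tt N26279 (iv F264208)) (tt N26712 (iv F265459)) (tt N24375 F260771) (tt N26739 (iv F265522)))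
theorem Q25549 : ∀ i, i < 25549 → P i := stepQ 25548 Q25548 (allL N25548 (tt N25629 (iv F261212)) (tt N26740 D59510) (tt N24369 (iv D58318)) (tt N24378 F260772) (tt N26738 (iv F265520)) (tt N26283 (iv F264222)) (tt N26388 (iv F264641)) (tt N24370 F260773) (tt N26378 (iv F264607)) (tt N26692 (iv F265412)))
theorem Q25550 : ∀ i, i < 25550 → P i := stepQ 25549 Q25549 (allL N25549 (tt N25630 (iv F261217)) (tt N26653 (iv F265330)) (tt N26738 (iv F265519)) (tt N24387 F260774) (tt N24369 (iv D58319)) (tt N26741 D59511) (tt N26389 (iv F264646)) (tt N24371 F260775) (tt N26379 (iv F264612)) (tt N26693 (iv F265415)))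
theorem Q25551 : ∀ i, i < 25551 → P i := stepQ 25550 Q25550 (allL N25550 (tt N26742 D59512) (tt N24370 (iv D58320)) (tt N26724 (iv F265489)) (tt N24379 F260776) (tt N26743 D59513) (tt N26285 (iv F264227)) (tt N24372 F260777) (tt N26740 (iv F265524)) (tt N26731 (iv F265505)) (tt N26694 (iv F265418)))
theorem Q25552 : ∀ i, i < 25552 → P i := stepQ 25551 Q25551 (allL N25551 (tt N25648 (iv F261314)) (tt N26743 (iv F265529)) (tt N24371 F260778) (tt N25701 (iv F261642)) (tt N24370 (iv D58321)) (tt N26728 (iv F265498)) (tt N24373 F260779) (tt N26738 (iv F265521)) (tt N26732 (iv F265508)) (tt N26695 (iv F265421)))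
theorem Q25553 : ∀ i, i < 25553 → P i := stepQ 25552 Q25552 (allL N25552 (tt N25649 (iv F261318)) (tt N26317 (iv F264332)) (tt N26728 (iv F265497)) (tt N24386 F260780) (tt N26287 (iv F264232)) (tt N24371 (iv D58322)) (tt N26402 (iv F264692)) (tt N26741 (iv F265526)) (tt N26733 (iv F265510)) (tt N26696 (iv F265423)))
theorem Q25554 : ∀ i, i < 25554 → P i := stepQ 25553 Q25553 (allL N25553 (tt N24372 (iv D58323)) (tt N26367 (iv F264564)) (tt N26726 (iv F265493)) (tt N24380 F260781) (tt N26744 D59514) (tt N24375 F260782) (tt N26742 (iv F265528)) (tt N26713 (iv F265463)) (tt N26736 (iv F265516)) (tt N26697 (iv F265426)))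
theorem Q25555 : ∀ i, i < 25555 → P i := stepQ 25554 Q25554 (allL N25554 (tt N26744 (iv F265531)) (tt N24373 F260783) (tt N26727 (iv F265496)) (tt N26411 (iv F264720)) (tt N24372 (iv D58324)) (tt N26745 D59515) (tt N26743 (iv F265530)) (tt N26714 (iv F265465)) (tt N26737 (iv F265518)) (tt N26698 (iv F265428)))
theorem Q25556 : ∀ i, i < 25556 → P i := stepQ 25555 Q25555 (allL N25555 (tt N26200 (iv F263937)) (tt N26745 (iv F265532)) (tt N24374 F260784) (tt N26412 (iv F264723)) (tt N24377 F260785) (tt N24373 (iv D58325)) (tt N26401 (iv F264689)) (tt N26715 (iv F265468)) (tt N26710 (iv F265452)) (tt N26130 (iv F263668)))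
theorem Q25557 : ∀ i, i < 25557 → P i := stepQ 25556 Q25556 (allL N25556 (tt N24376 F260786) (tt N26201 (iv F263942)) (tt N26712 (iv F265457)) (tt N26100 (iv F263537)) (tt N24375 (iv D58326)) (tt N26746 D59516) (tt N26292 (iv F264248)) (tt N26717 (iv F265476)) (tt N26711 (iv F265456)) (tt N26131 (iv F263673)))
theorem Q25558 : ∀ i, i < 25558 → P i := stepQ 25557 Q25557 (allL N25557 (tt N26746 (iv F265534)) (tt N24377 F260787) (tt N25700 (iv F261634)) (tt N26098 (iv F263529)) (tt N26745 (iv F265533)) (tt N24376 (iv D58327)) (tt N26400 (iv F264687)) (tt N26718 (iv F265480)) (tt N26709 (iv F265448)) (tt N26129 (iv F263664)))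
theorem Q25559 : ∀ i, i < 25559 → P i := stepQ 25558 Q25558 (allL N25558 (tt N26747 D59517) (tt N24378 (iv D58328)) (tt N26516 (iv F265022)) (tt N26740 (iv F265523)) (tt N25699 (iv F261630)) (tt N26294 (iv F264253)) (tt N26720 (iv F265484)) (tt N24379 F260788) (tt N26594 (iv F265201)) (tt N26699 (iv F265430)))
theorem Q25560 : ∀ i, i < 25560 → P i := stepQ 25559 Q25559 (allL N25559 (tt N24379 (iv D58329)) (tt N25653 (iv F261336)) (tt N26517 (iv F265024)) (tt N26742 (iv F265527)) (tt N25707 (iv F261678)) (tt N26296 (iv F264259)) (tt N24380 F260789) (tt N26747 (iv F265535)) (tt N26598 (iv F265206)) (tt N26700 (iv F265432)))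
theorem Q25561 : ∀ i, i < 25561 → P i := stepQ 25560 Q25560 (allL N25560 (tt N25631 (iv F261223)) (tt N26310 (iv F264305)) (tt N24382 F260790) (tt N26741 (iv F265525)) (tt N24381 (iv D58330)) (tt N24387 F260791) (tt N26416 (iv F264740)) (tt N24386 F260792) (tt N24401 F260793) (tt N26420 (iv F264759)))
theorem Q25562 : ∀ i, i < 25562 → P i := stepQ 25561 Q25561 (allL N25561 (tt N25822 (iv F262271)) (tt N24398 F260794) (tt N26395 (iv F264668)) (tt N26716 (iv F265471)) (tt N24384 F260795) (tt N26330 (iv F264390)) (tt N24383 (iv D58331)) (tt N26377 (iv F264601)) (tt N24396 F260796) (tt N26136 (iv F263689)))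
theorem Q25563 : ∀ i, i < 25563 → P i := stepQ 25562 Q25562 (allL N25562 (tt N26377 (iv F264598)) (tt N24394 F260797) (tt N26308 (iv F264299)) (tt N26655 (iv F265335)) (tt N24390 (iv D58332)) (tt N26326 (iv F264370)) (tt N25816 (iv F262240)) (tt N25822 (iv F262276)) (tt N24391 F260798) (tt N26302 (iv F264273)))
theorem Q25564 : ∀ i, i < 25564 → P i := stepQ 25563 Q25563 (allL N25563 (tt N26022 (iv F263193)) (tt N26302 (iv F264269)) (tt N25761 (iv F261963)) (tt N26660 (iv F265341)) (tt N24393 (iv D58333)) (tt N26327 (iv F264373)) (tt N25762 (iv F261971)) (tt N26071 (iv F263417)) (tt N25563 F260799) (tt N24394 F260800))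
theorem Q25565 : ∀ i, i < 25565 → P i := stepQ 25564 Q25564 (allL N25564 (tt N26020 (iv F263181)) (tt N26210 (iv F263975)) (tt N26071 (iv F263413)) (tt N26676 (iv F265374)) (tt N24395 (iv D58334)) (tt N26019 (iv F263179)) (tt N25763 (iv F261979)) (tt N25761 (iv F261965)) (tt N25564 F260801) (tt N25814 (iv F262228)))
theorem Q25566 : ∀ i, i < 25566 → P i := stepQ 25565 Q25565 (allL N25565 (tt N25671 (iv F261451)) (tt N26136 (iv F263686)) (tt N25714 (iv F261724)) (tt N26730 (iv F265501)) (tt N24397 (iv D58335)) (tt N26748 D59518) (tt N24399 F260802) (tt N25604 (iv F261060)) (tt N25565 F260803) (tt N24398 F260804))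
theorem Q25567 : ∀ i, i < 25567 → P i := stepQ 25566 Q25566 (allL N25566 (tt N25672 (iv F261457)) (tt N26330 (iv F264388)) (tt N26414 (iv F264729)) (tt N26733 (iv F265509)) (tt N25566 F260805) (tt N24398 (iv D58336)) (tt N26417 (iv F264744)) (tt N26380 (iv F264616)) (tt N24400 F260806) (tt N26748 (iv F265538)))
theorem Q25568 : ∀ i, i < 25568 → P i := stepQ 25567 Q25567 (allL N25567 (tt N24793 F260807) (tt N24690 F260808) (tt N26749 D59519) (tt N24402 (iv D58337)) (tt N26750 D59520) (tt N24403 F260809) (tt N24734 F260810) (tt N24828 F260811) (tt N25192 F260812) (tt N24409 F260813))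
theorem Q25569 : ∀ i, i < 25569 → P i := stepQ 25568 Q25568 (allL N25568 (tt N25154 F260814) (tt N26751 D59521) (tt N24403 (iv D58338)) (tt N25401 F260815) (tt N24419 F260816) (tt N26749 (iv F265541)) (tt N25148 F260817) (tt N25399 F260818) (tt N25193 F260819) (tt N24410 F260820))
theorem Q25570 : ∀ i, i < 25570 → P i := stepQ 25569 Q25569 (allL N25569 (tt N24800 F260821) (tt N24695 F260822) (tt N25354 F260823) (tt N26750 (iv F265548)) (tt N24404 (iv D58339)) (tt N24421 F260824) (tt N24738 F260825) (tt N24844 F260826) (tt N25569 F260827) (tt N24413 F260828))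
theorem Q25571 : ∀ i, i < 25571 → P i := stepQ 25570 Q25570 (allL N25570 (tt N24835 F260829) (tt N24672 F260830) (tt N26752 D59522) (tt N24405 (iv D58340)) (tt N25365 F260831) (tt N24406 F260832) (tt N24789 F260833) (tt N24409 F260834) (tt N24469 F260835) (tt N24828 F260836))
theorem Q25572 : ∀ i, i < 25572 → P i := stepQ 25571 Q25571 (allL N25571 (tt N25401 F260837) (tt N26753 D59523) (tt N24406 (iv D58341)) (tt N25154 F260838) (tt N24422 F260839) (tt N26752 (iv F265564)) (tt N25155 F260840) (tt N24410 F260841) (tt N24470 F260842) (tt N25399 F260843))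
theorem Q25573 : ∀ i, i < 25573 → P i := stepQ 25572 Q25572 (allL N25572 (tt N24828 F260844) (tt N24802 F260845) (tt N26754 D59524) (tt N24407 (iv D58342)) (tt N25375 F260846) (tt N24408 F260847) (tt N24747 F260848) (tt N24793 F260849) (tt N24602 F260850) (tt N24835 F260851))
theorem Q25574 : ∀ i, i < 25574 → P i := stepQ 25573 Q25573 (allL N25573 (tt N25399 F260852) (tt N26755 D59525) (tt N24408 (iv D58343)) (tt N24410 F260853) (tt N25155 F260854) (tt N26754 (iv F265579)) (tt N24422 F260855) (tt N25154 F260856) (tt N24603 F260857) (tt N25401 F260858))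
theorem Q25575 : ∀ i, i < 25575 → P i := stepQ 25574 Q25574 (allL N25574 (tt N24836 F260859) (tt N26756 D59526) (tt N24409 (iv D58344)) (tt N26754 (iv F265577)) (tt N26757 D59527) (tt N24410 F260860) (tt N24751 F260861) (tt N26752 (iv F265566)) (tt N24483 F260862) (tt N26749 (iv F265545)))
theorem Q25576 : ∀ i, i < 25576 → P i := stepQ 25575 Q25575 (allL N25575 (tt N24837 F260863) (tt N24706 F260864) (tt N26757 (iv F265596)) (tt N24413 F260865) (tt N24409 (iv D58345)) (tt N24427 F260866) (tt N24752 F260867) (tt N25365 F260868) (tt N24484 F260869) (tt N26750 (iv F265553)))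
theorem Q25577 : ∀ i, i < 25577 → P i := stepQ 25576 Q25576 (allL N25576 (tt N26758 D59528) (tt N24410 (iv D58346)) (tt N24707 F260870) (tt N26755 (iv F265585)) (tt N24428 F260871) (tt N26756 (iv F265592)) (tt N25149 F260872) (tt N26753 (iv F265573)) (tt N24485 F260873) (tt N26751 (iv F265560)))
theorem Q25578 : ∀ i, i < 25578 → P i := stepQ 25577 Q25577 (allL N25577 (tt N24822 F260874) (tt N25351 F260875) (tt N24413 F260876) (tt N26759 D59529) (tt N24412 (iv D58347)) (tt N24431 F260877) (tt N24758 F260878) (tt N25332 F260879) (tt N24414 F260880) (tt N25354 F260881))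
theorem Q25579 : ∀ i, i < 25579 → P i := stepQ 25578 Q25578 (allL N25578 (tt N24848 F260882) (tt N24969 F260883) (tt N24502 F260884) (tt N24414 (iv D58348)) (tt N25578 F260885) (tt N24433 F260886) (tt N24759 F260887) (tt N24903 F260888) (tt N26760 D59530) (tt N25578 F260889))
theorem Q25580 : ∀ i, i < 25580 → P i := stepQ 25579 Q25579 (allL N25579 (tt N24718 F260890) (tt N26761 D59531) (tt N24415 (iv D58349)) (tt N25367 F260891) (tt N25165 F260892) (tt N25382 F260893) (tt N25150 F260894) (tt N25391 F260895) (tt N24524 F260896) (tt N25158 F260897))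
theorem Q25581 : ∀ i, i < 25581 → P i := stepQ 25580 Q25580 (allL N25580 (tt N26762 D59532) (tt N24416 (iv D58350)) (tt N26761 (iv F265620)) (tt N25153 F260898) (tt N25406 F260899) (tt N25384 F260900) (tt N25152 F260901) (tt N25400 F260902) (tt N24544 F260903) (tt N25164 F260904))
theorem Q25582 : ∀ i, i < 25582 → P i := stepQ 25581 Q25581 (allL N25581 (tt N25155 F260905) (tt N26763 D59533) (tt N24417 (iv D58351)) (tt N25148 F260906) (tt N25399 F260907) (tt N25358 F260908) (tt N25401 F260909) (tt N24419 F260910) (tt N25529 F260911) (tt N24422 F260912))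
theorem Q25583 : ∀ i, i < 25583 → P i := stepQ 25582 Q25582 (allL N25582 (tt N25162 F260913) (tt N26764 D59534) (tt N24418 (iv D58352)) (tt N25151 F260914) (tt N26765 D59535) (tt N24419 F260915) (tt N25379 F260916) (tt N25358 F260917) (tt N25513 F260918) (tt N24426 F260919))
theorem Q25584 : ∀ i, i < 25584 → P i := stepQ 25583 Q25583 (allL N25583 (tt N25163 F260920) (tt N24795 F260921) (tt N26765 (iv F265652)) (tt N24421 F260922) (tt N24418 (iv D58353)) (tt N26750 (iv F265549)) (tt N25380 F260923) (tt N25359 F260924) (tt N25514 F260925) (tt N24427 F260926))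
theorem Q25585 : ∀ i, i < 25585 → P i := stepQ 25584 Q25584 (allL N25584 (tt N26766 D59536) (tt N24419 (iv D58354)) (tt N24796 F260927) (tt N25152 F260928) (tt N26751 (iv F265556)) (tt N26764 (iv F265646)) (tt N25153 F260929) (tt N26763 (iv F265641)) (tt N25530 F260930) (tt N24428 F260931))
theorem Q25586 : ∀ i, i < 25586 → P i := stepQ 25585 Q25585 (allL N25585 (tt N25169 F260932) (tt N24800 F260933) (tt N24717 F260934) (tt N25380 F260935) (tt N24420 (iv D58355)) (tt N25168 F260936) (tt N24421 F260937) (tt N25369 F260938) (tt N25585 F260939) (tt N24429 F260940))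
theorem Q25587 : ∀ i, i < 25587 → P i := stepQ 25586 Q25586 (allL N25586 (tt N26767 D59537) (tt N24422 (iv D58356)) (tt N24813 F260941) (tt N25149 F260942) (tt N26753 (iv F265571)) (tt N25363 F260943) (tt N26755 (iv F265587)) (tt N24428 F260944) (tt N24615 F260945) (tt N26763 (iv F265643)))
theorem Q25588 : ∀ i, i < 25588 → P i := stepQ 25587 Q25587 (allL N25587 (tt N26768 D59538) (tt N24423 (iv D58357)) (tt N25340 F260946) (tt N24428 F260947) (tt N25156 F260948) (tt N25362 F260949) (tt N25164 F260950) (tt N25149 F260951) (tt N25175 F260952) (tt N25152 F260953))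
theorem Q25589 : ∀ i, i < 25589 → P i := stepQ 25588 Q25588 (allL N25588 (tt N24698 F260954) (tt N24835 F260955) (tt N26769 D59539) (tt N24424 (iv D58358)) (tt N25394 F260956) (tt N24777 F260957) (tt N24740 F260958) (tt N24425 F260959) (tt N24635 F260960) (tt N24802 F260961))
theorem Q25590 : ∀ i, i < 25590 → P i := stepQ 25589 Q25589 (allL N25589 (tt N25377 F260962) (tt N26770 D59540) (tt N24425 (iv D58359)) (tt N25361 F260963) (tt N26771 D59541) (tt N25165 F260964) (tt N24426 F260965) (tt N26769 (iv F265684)) (tt N24636 F260966) (tt N25379 F260967))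
theorem Q25591 : ∀ i, i < 25591 → P i := stepQ 25590 Q25590 (allL N25590 (tt N25378 F260968) (tt N24837 F260969) (tt N26771 (iv F265694)) (tt N24429 F260970) (tt N24425 (iv D58360)) (tt N25383 F260971) (tt N24427 F260972) (tt N25394 F260973) (tt N24637 F260974) (tt N25380 F260975))
theorem Q25592 : ∀ i, i < 25592 → P i := stepQ 25591 Q25591 (allL N25591 (tt N26772 D59542) (tt N24426 (iv D58361)) (tt N24838 F260976) (tt N25362 F260977) (tt N26773 D59543) (tt N24428 F260978) (tt N26770 (iv F265690)) (tt N25363 F260979) (tt N24638 F260980) (tt N26764 (iv F265650)))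
theorem Q25593 : ∀ i, i < 25593 → P i := stepQ 25592 Q25592 (allL N25592 (tt N25385 F260981) (tt N26773 (iv F265707)) (tt N24427 F260982) (tt N26774 D59544) (tt N24426 (iv D58362)) (tt N26757 (iv F265597)) (tt N26771 (iv F265697)) (tt N25364 F260983) (tt N24639 F260984) (tt N26765 (iv F265657)))
theorem Q25594 : ∀ i, i < 25594 → P i := stepQ 25593 Q25593 (allL N25593 (tt N24428 (iv D58363)) (tt N26762 (iv F265628)) (tt N24840 F260985) (tt N26768 (iv F265672)) (tt N26758 (iv F265603)) (tt N26772 (iv F265704)) (tt N25167 F260986) (tt N26767 (iv F265668)) (tt N24640 F260987) (tt N26766 (iv F265663)))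
theorem Q25595 : ∀ i, i < 25595 → P i := stepQ 25594 Q25594 (allL N25594 (tt N24746 F260988) (tt N24431 F260989) (tt N24834 F260990) (tt N26775 D59545) (tt N24430 (iv D58364)) (tt N25351 F260991) (tt N24703 F260992) (tt N24799 F260993) (tt N24432 F260994) (tt N24841 F260995))
theorem Q25596 : ∀ i, i < 25596 → P i := stepQ 25595 Q25595 (allL N25595 (tt N24821 F260996) (tt N26775 (iv F265718)) (tt N26774 (iv F265712)) (tt N24431 (iv D58365)) (tt N24815 F260997) (tt N26759 (iv F265609)) (tt N25388 F260998) (tt N25331 F260999) (tt N26776 D59546) (tt N25347 F261000))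
theorem Q25597 : ∀ i, i < 25597 → P i := stepQ 25596 Q25596 (allL N25596 (tt N24855 F261001) (tt N24964 F261002) (tt N24656 F261003) (tt N26776 (iv F265727)) (tt N24853 F261004) (tt N26760 (iv F265617)) (tt N24901 F261005) (tt N24873 F261006) (tt N24433 (iv D58366)) (tt N26777 D59547))
theorem Q25598 : ∀ i, i < 25598 → P i := stepQ 25597 Q25597 (allL N25597 (tt N24568 F261007) (tt N24870 F261008) (tt N25079 F261009) (tt N26778 D59548) (tt N25597 F261010) (tt N24435 F261011) (tt N24823 F261012) (tt N24442 F261013) (tt N24434 (iv D58367)) (tt N24535 F261014))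
theorem Q25599 : ∀ i, i < 25599 → P i := stepQ 25598 Q25598 (allL N25598 (tt N24569 F261015) (tt N24871 F261016) (tt N26779 D59549) (tt N24435 (iv D58368)) (tt N24556 F261017) (tt N26778 (iv F265740)) (tt N24528 F261018) (tt N24443 F261019) (tt N24450 F261020) (tt N24536 F261021))
theorem Q25600 : ∀ i, i < 25600 → P i := stepQ 25599 Q25599 (allL N25599 (tt N25057 F261022) (tt N24440 F261023) (tt N24468 F261024) (tt N26780 D59550) (tt N24437 F261025) (tt N24771 F261026) (tt N24465 F261027) (tt N24940 F261028) (tt N24436 (iv D58369)) (tt N25188 F261029))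
theorem Q25601 : ∀ i, i < 25601 → P i := stepQ 25600 Q25600 (allL N25600 (tt N25106 F261030) (tt N24441 F261031) (tt N26781 D59551) (tt N24437 (iv D58370)) (tt N26782 D59552) (tt N25600 F261032) (tt N24486 F261033) (tt N24960 F261034) (tt N25600 F261035) (tt N25189 F261036))
theorem Q25602 : ∀ i, i < 25602 → P i := stepQ 25601 Q25601 (allL N25601 (tt N25239 F261037) (tt N24772 F261038) (tt N24452 F261039) (tt N26783 D59553) (tt N25601 F261040) (tt N24768 F261041) (tt N25143 F261042) (tt N25492 F261043) (tt N24438 (iv D58371)) (tt N24982 F261044))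
theorem Q25603 : ∀ i, i < 25603 → P i := stepQ 25602 Q25602 (allL N25602 (tt N24989 F261045) (tt N24771 F261046) (tt N24442 F261047) (tt N26784 D59554) (tt N25602 F261048) (tt N24440 F261049) (tt N24917 F261050) (tt N25079 F261051) (tt N24439 (iv D58372)) (tt N25078 F261052))
theorem Q25604 : ∀ i, i < 25604 → P i := stepQ 25603 Q25603 (allL N25603 (tt N25240 F261053) (tt N26780 (iv F265753)) (tt N26785 D59555) (tt N24440 (iv D58373)) (tt N26786 D59556) (tt N26784 (iv F265782)) (tt N25170 F261054) (tt N25539 F261055) (tt N26783 (iv F265778)) (tt N25190 F261056))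
theorem Q25605 : ∀ i, i < 25605 → P i := stepQ 25604 Q25604 (allL N25604 (tt N25241 F261057) (tt N26782 (iv F265768)) (tt N24564 F261058) (tt N26786 (iv F265793)) (tt N24441 (iv D58374)) (tt N26787 D59557) (tt N25171 F261059) (tt N25565 F261060) (tt N25604 F261061) (tt N25191 F261062))
theorem Q25606 : ∀ i, i < 25606 → P i := stepQ 25605 Q25605 (allL N25605 (tt N24994 F261063) (tt N24874 F261064) (tt N26788 D59558) (tt N24442 (iv D58375)) (tt N26789 D59559) (tt N24443 F261065) (tt N24920 F261066) (tt N26778 (iv F265742)) (tt N24455 F261067) (tt N25192 F261068))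
theorem Q25607 : ∀ i, i < 25607 → P i := stepQ 25606 Q25606 (allL N25606 (tt N25242 F261069) (tt N26790 D59560) (tt N24443 (iv D58376)) (tt N26785 (iv F265788)) (tt N24566 F261070) (tt N26788 (iv F265804)) (tt N25172 F261071) (tt N26779 (iv F265749)) (tt N24456 F261072) (tt N25193 F261073))
theorem Q25608 : ∀ i, i < 25608 → P i := stepQ 25607 Q25607 (allL N25607 (tt N24556 F261074) (tt N24877 F261075) (tt N26791 D59561) (tt N24444 (iv D58377)) (tt N24569 F261076) (tt N25370 F261077) (tt N24450 F261078) (tt N24527 F261079) (tt N24528 F261080) (tt N24464 F261081))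
theorem Q25609 : ∀ i, i < 25609 → P i := stepQ 25608 Q25608 (allL N25608 (tt N24982 F261082) (tt N25196 F261083) (tt N25492 F261084) (tt N26792 D59562) (tt N25608 F261085) (tt N24979 F261086) (tt N25246 F261087) (tt N24452 F261088) (tt N24445 (iv D58378)) (tt N25239 F261089))
theorem Q25610 : ∀ i, i < 25610 → P i := stepQ 25609 Q25609 (allL N25609 (tt N25499 F261090) (tt N25198 F261091) (tt N26793 D59563) (tt N24446 (iv D58379)) (tt N26794 D59564) (tt N25194 F261092) (tt N25277 F261093) (tt N24453 F261094) (tt N26792 (iv F265833)) (tt N24466 F261095))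
theorem Q25611 : ∀ i, i < 25611 → P i := stepQ 25610 Q25610 (allL N25610 (tt N25509 F261096) (tt N25219 F261097) (tt N24574 F261098) (tt N26794 (iv F265843)) (tt N24447 (iv D58380)) (tt N26795 D59565) (tt N25323 F261099) (tt N24454 F261100) (tt N25610 F261101) (tt N24467 F261102))
theorem Q25612 : ∀ i, i < 25612 → P i := stepQ 25611 Q25611 (allL N25611 (tt N25006 F261103) (tt N24679 F261104) (tt N25188 F261105) (tt N26796 D59566) (tt N24458 F261106) (tt N24787 F261107) (tt N24449 F261108) (tt N24924 F261109) (tt N24448 (iv D58381)) (tt N24468 F261110))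
theorem Q25613 : ∀ i, i < 25613 → P i := stepQ 25612 Q25612 (allL N25612 (tt N25021 F261111) (tt N24878 F261112) (tt N26797 D59567) (tt N24449 (iv D58382)) (tt N26798 D59568) (tt N24450 F261113) (tt N26796 (iv F265857)) (tt N24455 F261114) (tt N26778 (iv F265743)) (tt N24469 F261115))
theorem Q25614 : ∀ i, i < 25614 → P i := stepQ 25613 Q25613 (allL N25613 (tt N25505 F261116) (tt N26799 D59569) (tt N24450 (iv D58383)) (tt N26793 (iv F265836)) (tt N24577 F261117) (tt N26797 (iv F265863)) (tt N26791 (iv F265824)) (tt N24456 F261118) (tt N26779 (iv F265750)) (tt N24470 F261119))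
theorem Q25615 : ∀ i, i < 25615 → P i := stepQ 25614 Q25614 (allL N25614 (tt N25492 F261120) (tt N24562 F261121) (tt N24982 F261122) (tt N26800 D59570) (tt N25614 F261123) (tt N24559 F261124) (tt N24572 F261125) (tt N25239 F261126) (tt N24451 (iv D58384)) (tt N24452 F261127))
theorem Q25616 : ∀ i, i < 25616 → P i := stepQ 25615 Q25615 (allL N25615 (tt N25493 F261128) (tt N25208 F261129) (tt N26801 D59571) (tt N24452 (iv D58385)) (tt N26802 D59572) (tt N25204 F261130) (tt N25088 F261131) (tt N26792 (iv F265832)) (tt N24453 F261132) (tt N26800 (iv F265882)))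
theorem Q25617 : ∀ i, i < 25617 → P i := stepQ 25616 Q25616 (allL N25616 (tt N25500 F261133) (tt N26803 D59573) (tt N24453 (iv D58386)) (tt N24456 F261134) (tt N26804 D59574) (tt N25205 F261135) (tt N25097 F261136) (tt N26793 (iv F265839)) (tt N26801 (iv F265886)) (tt N24480 F261137))
theorem Q25618 : ∀ i, i < 25618 → P i := stepQ 25617 Q25617 (allL N25617 (tt N25501 F261138) (tt N25212 F261139) (tt N26804 (iv F265898)) (tt N24454 F261140) (tt N24453 (iv D58387)) (tt N26805 D59575) (tt N25094 F261141) (tt N26794 (iv F265845)) (tt N26802 (iv F265891)) (tt N24481 F261142))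
theorem Q25619 : ∀ i, i < 25619 → P i := stepQ 25618 Q25618 (allL N25618 (tt N25508 F261143) (tt N24933 F261144) (tt N24587 F261145) (tt N26805 (iv F265904)) (tt N24461 F261146) (tt N24454 (iv D58388)) (tt N25119 F261147) (tt N26795 (iv F265851)) (tt N25618 F261148) (tt N24482 F261149))
theorem Q25620 : ∀ i, i < 25620 → P i := stepQ 25619 Q25619 (allL N25619 (tt N25022 F261150) (tt N26806 D59576) (tt N24455 (iv D58389)) (tt N25205 F261151) (tt N26807 D59577) (tt N24456 F261152) (tt N24927 F261153) (tt N26797 (iv F265864)) (tt N26788 (iv F265806)) (tt N24483 F261154))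
theorem Q25621 : ∀ i, i < 25621 → P i := stepQ 25620 Q25620 (allL N25620 (tt N25023 F261155) (tt N24881 F261156) (tt N26807 (iv F265914)) (tt N24463 F261157) (tt N24455 (iv D58390)) (tt N24591 F261158) (tt N24928 F261159) (tt N26798 (iv F265870)) (tt N26789 (iv F265813)) (tt N24484 F261160))
theorem Q25622 : ∀ i, i < 25622 → P i := stepQ 25621 Q25621 (allL N25621 (tt N26808 D59578) (tt N24456 (iv D58391)) (tt N24882 F261161) (tt N26803 (iv F265893)) (tt N24592 F261162) (tt N26806 (iv F265910)) (tt N25174 F261163) (tt N26799 (iv F265874)) (tt N26790 (iv F265818)) (tt N24485 F261164))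
theorem Q25623 : ∀ i, i < 25623 → P i := stepQ 25622 Q25622 (allL N25622 (tt N25233 F261165) (tt N24931 F261166) (tt N24593 F261167) (tt N25218 F261168) (tt N26795 (iv F265850)) (tt N24457 (iv D58392)) (tt N26809 D59579) (tt N24461 F261169) (tt N25622 F261170) (tt N24489 F261171))
theorem Q25624 : ∀ i, i < 25624 → P i := stepQ 25623 Q25623 (allL N25623 (tt N25028 F261172) (tt N24680 F261173) (tt N26810 D59580) (tt N24458 (iv D58393)) (tt N26811 D59581) (tt N25623 F261174) (tt N24459 F261175) (tt N24930 F261176) (tt N25623 F261177) (tt N24490 F261178))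
theorem Q25625 : ∀ i, i < 25625 → P i := stepQ 25624 Q25624 (allL N25624 (tt N25033 F261179) (tt N25126 F261180) (tt N24459 (iv D58394)) (tt N25115 F261181) (tt N26812 D59582) (tt N24460 F261182) (tt N26810 (iv F265935)) (tt N24462 F261183) (tt N25624 F261184) (tt N24491 F261185))
theorem Q25626 : ∀ i, i < 25626 → P i := stepQ 25625 Q25625 (allL N25625 (tt N25034 F261186) (tt N24883 F261187) (tt N26812 (iv F265947)) (tt N26798 (iv F265868)) (tt N24459 (iv D58395)) (tt N24596 F261188) (tt N26811 (iv F265941)) (tt N24463 F261189) (tt N25625 F261190) (tt N24492 F261191))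
theorem Q25627 : ∀ i, i < 25627 → P i := stepQ 25626 Q25626 (allL N25626 (tt N25035 F261192) (tt N25119 F261193) (tt N24463 F261194) (tt N26813 D59583) (tt N24462 (iv D58396)) (tt N24599 F261195) (tt N24933 F261196) (tt N26812 (iv F265949)) (tt N25626 F261197) (tt N24497 F261198))
theorem Q25628 : ∀ i, i < 25628 → P i := stepQ 25627 Q25627 (allL N25627 (tt N25529 F261199) (tt N26814 D59584) (tt N24464 (iv D58397)) (tt N25278 F261200) (tt N24603 F261201) (tt N25371 F261202) (tt N24470 F261203) (tt N25160 F261204) (tt N25155 F261205) (tt N26791 (iv F265827)))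
theorem Q25629 : ∀ i, i < 25629 → P i := stepQ 25628 Q25628 (allL N25628 (tt N25089 F261206) (tt N25170 F261207) (tt N26815 D59585) (tt N24465 (iv D58398)) (tt N26816 D59586) (tt N24466 F261208) (tt N26780 (iv F265755)) (tt N24479 F261209) (tt N25265 F261210) (tt N25194 F261211))
theorem Q25630 : ∀ i, i < 25630 → P i := stepQ 25629 Q25629 (allL N25629 (tt N25548 F261212) (tt N26817 D59587) (tt N24466 (iv D58399)) (tt N24470 F261213) (tt N26818 D59588) (tt N26815 (iv F265967)) (tt N25278 F261214) (tt N24480 F261215) (tt N25266 F261216) (tt N26793 (iv F265840)))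
theorem Q25631 : ∀ i, i < 25631 → P i := stepQ 25630 Q25630 (allL N25630 (tt N25549 F261217) (tt N25447 F261218) (tt N26818 (iv F265983)) (tt N24467 F261219) (tt N24466 (iv D58400)) (tt N26819 D59589) (tt N25279 F261220) (tt N24481 F261221) (tt N25267 F261222) (tt N26794 (iv F265846)))
theorem Q25632 : ∀ i, i < 25632 → P i := stepQ 25631 Q25631 (allL N25631 (tt N25560 F261223) (tt N24965 F261224) (tt N24610 F261225) (tt N26819 (iv F265990)) (tt N24489 F261226) (tt N24467 (iv D58401)) (tt N26820 D59590) (tt N24482 F261227) (tt N24503 F261228) (tt N26795 (iv F265853)))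
theorem Q25633 : ∀ i, i < 25633 → P i := stepQ 25632 Q25632 (allL N25632 (tt N25063 F261229) (tt N24872 F261230) (tt N26821 D59591) (tt N24468 (iv D58402)) (tt N26822 D59592) (tt N24788 F261231) (tt N24469 F261232) (tt N24943 F261233) (tt N24789 F261234) (tt N26796 (iv F265860)))
theorem Q25634 : ∀ i, i < 25634 → P i := stepQ 25633 Q25633 (allL N25633 (tt N25098 F261235) (tt N26823 D59593) (tt N24469 (iv D58403)) (tt N26815 (iv F265966)) (tt N26824 D59594) (tt N24470 F261236) (tt N26821 (iv F266002)) (tt N24483 F261237) (tt N26752 (iv F265567)) (tt N26797 (iv F265865)))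
theorem Q25635 : ∀ i, i < 25635 → P i := stepQ 25634 Q25634 (allL N25634 (tt N25099 F261238) (tt N24889 F261239) (tt N26824 (iv F266015)) (tt N24492 F261240) (tt N24469 (iv D58404)) (tt N24614 F261241) (tt N26822 (iv F266008)) (tt N24484 F261242) (tt N25365 F261243) (tt N26798 (iv F265871)))
theorem Q25636 : ∀ i, i < 25636 → P i := stepQ 25635 Q25635 (allL N25635 (tt N26825 D59595) (tt N24470 (iv D58405)) (tt N24890 F261244) (tt N26817 (iv F265978)) (tt N24615 F261245) (tt N26823 (iv F266012)) (tt N26814 (iv F265962)) (tt N24485 F261246) (tt N26753 (iv F265574)) (tt N26799 (iv F265875)))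
theorem Q25637 : ∀ i, i < 25637 → P i := stepQ 25636 Q25636 (allL N25636 (tt N24947 F261247) (tt N24477 F261248) (tt N24581 F261249) (tt N26826 D59596) (tt N24504 F261250) (tt N24561 F261251) (tt N24570 F261252) (tt N25141 F261253) (tt N24471 (iv D58406)) (tt N24472 F261254))
theorem Q25638 : ∀ i, i < 25638 → P i := stepQ 25637 Q25637 (allL N25637 (tt N25255 F261255) (tt N24478 F261256) (tt N26827 D59597) (tt N24472 (iv D58407)) (tt N26828 D59598) (tt N25184 F261257) (tt N24606 F261258) (tt N25142 F261259) (tt N24473 F261260) (tt N26826 (iv F266029)))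
theorem Q25639 : ∀ i, i < 25639 → P i := stepQ 25638 Q25638 (allL N25638 (tt N25259 F261261) (tt N26829 D59599) (tt N24473 (iv D58408)) (tt N24891 F261262) (tt N26830 D59600) (tt N25185 F261263) (tt N25177 F261264) (tt N25446 F261265) (tt N26827 (iv F266035)) (tt N25211 F261266))
theorem Q25640 : ∀ i, i < 25640 → P i := stepQ 25639 Q25639 (allL N25639 (tt N24902 F261267) (tt N24481 F261268) (tt N26830 (iv F266050)) (tt N24474 F261269) (tt N24473 (iv D58409)) (tt N24967 (iv F261273)) (tt N25178 F261270) (tt N25447 F261271) (tt N26828 (iv F266041)) (tt N25212 F261272))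
theorem Q25641 : ∀ i, i < 25641 → P i := stepQ 25640 Q25640 (allL N25640 (tt N25079 F261274) (tt N24561 F261275) (tt N24568 F261276) (tt N26831 D59601) (tt N25640 F261277) (tt N24477 F261278) (tt N24950 F261279) (tt N24989 F261280) (tt N24475 (iv D58410)) (tt N24476 F261281))
theorem Q25642 : ∀ i, i < 25642 → P i := stepQ 25641 Q25641 (allL N25641 (tt N25080 F261282) (tt N25184 F261283) (tt N26832 D59602) (tt N24476 (iv D58411)) (tt N26833 D59603) (tt N24478 F261284) (tt N24951 F261285) (tt N25265 F261286) (tt N24479 F261287) (tt N26831 (iv F266062)))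
theorem Q25643 : ∀ i, i < 25643 → P i := stepQ 25642 Q25642 (allL N25642 (tt N25539 F261288) (tt N26826 (iv F266024)) (tt N26834 D59604) (tt N24477 (iv D58412)) (tt N26835 D59605) (tt N26831 (iv F266058)) (tt N24573 F261289) (tt N25240 F261290) (tt N26800 (iv F265881)) (tt N24478 F261291))
theorem Q25644 : ∀ i, i < 25644 → P i := stepQ 25643 Q25643 (allL N25643 (tt N25540 F261292) (tt N26836 D59606) (tt N24478 (iv D58413)) (tt N24603 F261293) (tt N26837 D59607) (tt N26832 (iv F266065)) (tt N24608 F261294) (tt N25266 F261295) (tt N24480 F261296) (tt N26834 (iv F266079)))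
theorem Q25645 : ∀ i, i < 25645 → P i := stepQ 25644 Q25644 (allL N25644 (tt N25541 F261297) (tt N26828 (iv F266037)) (tt N26837 (iv F266090)) (tt N24508 F261298) (tt N24478 (iv D58414)) (tt N26838 D59608) (tt N24609 F261299) (tt N25267 F261300) (tt N24481 F261301) (tt N26835 (iv F266084)))
theorem Q25646 : ∀ i, i < 25646 → P i := stepQ 25645 Q25645 (allL N25645 (tt N25090 F261302) (tt N26839 D59609) (tt N24479 (iv D58415)) (tt N24483 F261303) (tt N26840 D59610) (tt N24480 F261304) (tt N24954 F261305) (tt N26815 (iv F265968)) (tt N26832 (iv F266068)) (tt N25205 F261306))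
theorem Q25647 : ∀ i, i < 25647 → P i := stepQ 25646 Q25646 (allL N25646 (tt N25091 F261307) (tt N25186 F261308) (tt N26840 (iv F266106)) (tt N24494 F261309) (tt N24479 (iv D58416)) (tt N26841 D59611) (tt N24955 F261310) (tt N26816 (iv F265974)) (tt N26833 (iv F266074)) (tt N25206 F261311))
theorem Q25648 : ∀ i, i < 25648 → P i := stepQ 25647 Q25647 (allL N25647 (tt N26842 D59612) (tt N24480 (iv D58417)) (tt N26829 (iv F266043)) (tt N24485 F261312) (tt N26843 D59613) (tt N26839 (iv F266102)) (tt N25179 F261313) (tt N26817 (iv F265980)) (tt N26836 (iv F266088)) (tt N26803 (iv F265896)))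
theorem Q25649 : ∀ i, i < 25649 → P i := stepQ 25648 Q25648 (allL N25648 (tt N25551 F261314) (tt N26843 (iv F266118)) (tt N24481 F261315) (tt N24632 F261316) (tt N24480 (iv D58418)) (tt N26844 D59614) (tt N25180 F261317) (tt N26818 (iv F265986)) (tt N26837 (iv F266094)) (tt N26804 (iv F265901)))
theorem Q25650 : ∀ i, i < 25650 → P i := stepQ 25649 Q25649 (allL N25649 (tt N25552 F261318) (tt N24967 F261319) (tt N26844 (iv F266122)) (tt N24482 F261320) (tt N26841 (iv F266112)) (tt N24481 (iv D58419)) (tt N26845 D59615) (tt N26819 (iv F265991)) (tt N26838 (iv F266099)) (tt N26805 (iv F265907)))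
theorem Q25651 : ∀ i, i < 25651 → P i := stepQ 25650 Q25650 (allL N25650 (tt N25207 F261321) (tt N24497 F261322) (tt N24634 F261323) (tt N26845 (iv F266126)) (tt N24496 F261324) (tt N24648 F261325) (tt N24482 (iv D58420)) (tt N25469 (iv F261328)) (tt N24501 F261326) (tt N25119 F261327))
theorem Q25652 : ∀ i, i < 25652 → P i := stepQ 25651 Q25651 (allL N25651 (tt N26846 D59616) (tt N24483 (iv D58421)) (tt N24898 F261329) (tt N26839 (iv F266101)) (tt N26847 D59617) (tt N24485 F261330) (tt N24957 F261331) (tt N26823 (iv F266013)) (tt N26756 (iv F265594)) (tt N26806 (iv F265912)))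
theorem Q25653 : ∀ i, i < 25653 → P i := stepQ 25652 Q25652 (allL N25652 (tt N25101 F261332) (tt N26847 (iv F266135)) (tt N24484 F261333) (tt N26848 D59618) (tt N24483 (iv D58422)) (tt N24639 F261334) (tt N24958 F261335) (tt N26824 (iv F266017)) (tt N26757 (iv F265600)) (tt N26807 (iv F265917)))
theorem Q25654 : ∀ i, i < 25654 → P i := stepQ 25653 Q25653 (allL N25653 (tt N24485 (iv D58423)) (tt N25559 F261336) (tt N24900 F261337) (tt N26842 (iv F266116)) (tt N24640 F261338) (tt N26846 (iv F266133)) (tt N25181 F261339) (tt N26825 (iv F266022)) (tt N26758 (iv F265605)) (tt N26808 (iv F265922)))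
theorem Q25655 : ∀ i, i < 25655 → P i := stepQ 25654 Q25654 (allL N25654 (tt N25031 F261340) (tt N25233 F261341) (tt N24486 (iv D58424)) (tt N24491 F261342) (tt N26849 D59619) (tt N24487 F261343) (tt N26781 (iv F265763)) (tt N24493 F261344) (tt N25654 F261345) (tt N25115 F261346))
theorem Q25656 : ∀ i, i < 25656 → P i := stepQ 25655 Q25655 (allL N25655 (tt N25118 F261347) (tt N25171 F261348) (tt N26849 (iv F266145)) (tt N26816 (iv F265973)) (tt N24486 (iv D58425)) (tt N26850 D59620) (tt N26782 (iv F265769)) (tt N24494 F261349) (tt N25655 F261350) (tt N25195 F261351))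
theorem Q25657 : ∀ i, i < 25657 → P i := stepQ 25656 Q25656 (allL N25656 (tt N25126 F261352) (tt N24961 F261353) (tt N25319 F261354) (tt N24489 F261355) (tt N26850 (iv F266153)) (tt N24488 (iv D58426)) (tt N26851 D59621) (tt N24495 F261356) (tt N25656 F261357) (tt N25218 F261358))
theorem Q25658 : ∀ i, i < 25658 → P i := stepQ 25657 Q25657 (allL N25657 (tt N25227 F261359) (tt N24963 F261360) (tt N24642 F261361) (tt N26851 (iv F266160)) (tt N26820 (iv F265996)) (tt N25657 F261362) (tt N24489 (iv D58427)) (tt N24984 F261363) (tt N24510 F261364) (tt N26809 (iv F265930)))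
theorem Q25659 : ∀ i, i < 25659 → P i := stepQ 25658 Q25658 (allL N25658 (tt N25110 F261365) (tt N24984 F261366) (tt N24490 (iv D58428)) (tt N26781 (iv F265761)) (tt N26852 D59622) (tt N25658 F261367) (tt N24491 F261368) (tt N24963 F261369) (tt N24498 F261370) (tt N26810 (iv F265938)))
theorem Q25660 : ∀ i, i < 25660 → P i := stepQ 25659 Q25659 (allL N25659 (tt N25111 F261371) (tt N24873 F261372) (tt N26852 (iv F266167)) (tt N26822 (iv F266007)) (tt N24490 (iv D58429)) (tt N26853 D59623) (tt N24492 F261373) (tt N24964 F261374) (tt N24499 F261375) (tt N26811 (iv F265944)))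
theorem Q25661 : ∀ i, i < 25661 → P i := stepQ 25660 Q25660 (allL N25660 (tt N25121 F261376) (tt N25469 F261377) (tt N24492 F261378) (tt N26854 D59624) (tt N24491 (iv D58430)) (tt N24646 F261379) (tt N26852 (iv F266168)) (tt N24497 F261380) (tt N24500 F261381) (tt N26812 (iv F265951)))
theorem Q25662 : ∀ i, i < 25662 → P i := stepQ 25661 Q25661 (allL N25661 (tt N25036 F261382) (tt N25508 F261383) (tt N24494 F261384) (tt N26855 D59625) (tt N24493 (iv D58431)) (tt N25321 F261385) (tt N24966 F261386) (tt N26849 (iv F266147)) (tt N25661 F261387) (tt N25123 F261388))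
theorem Q25663 : ∀ i, i < 25663 → P i := stepQ 25662 Q25662 (allL N25662 (tt N25119 F261389) (tt N24966 F261390) (tt N25321 F261391) (tt N26841 (iv F266111)) (tt N24495 F261392) (tt N24494 (iv D58432)) (tt N25508 F261393) (tt N26850 (iv F266154)) (tt N25662 F261394) (tt N25207 F261395))
theorem Q25664 : ∀ i, i < 25664 → P i := stepQ 25663 Q25663 (allL N25663 (tt N25122 F261396) (tt N26845 (iv F266125)) (tt N26848 (iv F266140)) (tt N24497 (iv D58433)) (tt N26855 (iv F266186)) (tt N24649 F261397) (tt N24967 F261398) (tt N26854 (iv F266182)) (tt N26856 D59626) (tt N26813 (iv F265957)))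
theorem Q25665 : ∀ i, i < 25665 → P i := stepQ 25664 Q25664 (allL N25664 (tt N25127 F261399) (tt N25146 F261400) (tt N24499 F261401) (tt N25131 F261405) (tt N24498 (iv D58434)) (tt N25130 (iv F261406)) (tt N24500 F261402) (tt N24968 F261403) (tt N26852 (iv F266170)) (tt N25664 F261404))
theorem Q25666 : ∀ i, i < 25666 → P i := stepQ 25665 Q25665 (allL N25665 (tt N24849 F261407) (tt N24903 F261408) (tt N25130 F261409) (tt N24760 F261410) (tt N25665 F261411) (tt N24499 (iv D58435)) (tt N24651 F261412) (tt N24969 F261413) (tt N26853 (iv F266178)) (tt N25665 F261414))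
theorem Q25667 : ∀ i, i < 25667 → P i := stepQ 25666 Q25666 (allL N25666 (tt N25230 F261415) (tt N24502 F261416) (tt N25325 F261417) (tt N24501 (iv D58436)) (tt N25666 F261418) (tt N24655 F261419) (tt N24509 F261420) (tt N25147 F261421) (tt N26857 D59627) (tt N25666 F261422))
theorem Q25668 : ∀ i, i < 25668 → P i := stepQ 25667 Q25667 (allL N25667 (tt N25136 F261423) (tt N26857 (iv F266196)) (tt N26760 (iv F265615)) (tt N26856 (iv F266191)) (tt N25667 F261424) (tt N24656 F261425) (tt N24970 F261426) (tt N24993 F261427) (tt N24502 (iv D58437)) (tt N26858 D59628))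
theorem Q25669 : ∀ i, i < 25669 → P i := stepQ 25668 Q25668 (allL N25668 (tt N25229 F261428) (tt N24968 F261429) (tt N24655 F261430) (tt N25138 F261431) (tt N24510 F261432) (tt N25325 F261433) (tt N24503 (iv D58438)) (tt N25146 F261434) (tt N26820 (iv F265999)) (tt N25668 F261435))
theorem Q25670 : ∀ i, i < 25670 → P i := stepQ 25669 Q25669 (allL N25669 (tt N24971 F261436) (tt N24507 F261437) (tt N24851 F261438) (tt N24504 (iv D58439)) (tt N26859 D59629) (tt N25669 F261439) (tt N24571 F261440) (tt N24856 F261441) (tt N25669 F261442) (tt N24505 F261443))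
theorem Q25671 : ∀ i, i < 25671 → P i := stepQ 25670 Q25670 (allL N25670 (tt N24904 F261444) (tt N24508 F261445) (tt N24852 F261446) (tt N26828 (iv F266038)) (tt N24505 (iv D58440)) (tt N24970 (iv F261450)) (tt N24607 F261447) (tt N24858 F261448) (tt N24506 F261449) (tt N26859 (iv F266214)))
theorem Q25672 : ∀ i, i < 25672 → P i := stepQ 25671 Q25671 (allL N25671 (tt N25565 F261451) (tt N26859 (iv F266209)) (tt N25323 F261452) (tt N26835 (iv F266081)) (tt N24507 (iv D58441)) (tt N26860 D59630) (tt N24574 F261453) (tt N25241 F261454) (tt N25671 F261455) (tt N24508 F261456))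
theorem Q25673 : ∀ i, i < 25673 → P i := stepQ 25672 Q25672 (allL N25672 (tt N25566 F261457) (tt N24970 F261458) (tt N25324 F261459) (tt N26838 (iv F266097)) (tt N25672 F261460) (tt N24508 (iv D58442)) (tt N26857 (iv F266200)) (tt N25268 F261461) (tt N24509 F261462) (tt N26860 (iv F266222)))
theorem Q25674 : ∀ i, i < 25674 → P i := stepQ 25673 Q25673 (allL N25673 (tt N24905 F261463) (tt N24528 F261464) (tt N26861 D59631) (tt N24511 (iv D58443)) (tt N24972 F261465) (tt N24908 F261466) (tt N24871 F261467) (tt N24512 F261468) (tt N24877 F261469) (tt N24519 F261470))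
theorem Q25675 : ∀ i, i < 25675 → P i := stepQ 25674 Q25674 (allL N25674 (tt N24906 F261471) (tt N26862 D59632) (tt N24512 (iv D58444)) (tt N24896 F261472) (tt N25262 F261473) (tt N24912 F261474) (tt N24893 F261475) (tt N26861 (iv F266228)) (tt N25413 F261476) (tt N24524 F261477))
theorem Q25676 : ∀ i, i < 25676 → P i := stepQ 25675 Q25675 (allL N25675 (tt N24817 F261478) (tt N24924 F261479) (tt N24516 F261480) (tt N26863 D59633) (tt N24514 F261481) (tt N25334 F261482) (tt N24517 F261483) (tt N24679 F261484) (tt N24513 (iv D58445)) (tt N24814 F261485))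
theorem Q25677 : ∀ i, i < 25677 → P i := stepQ 25676 Q25676 (allL N25676 (tt N24854 F261486) (tt N24930 F261487) (tt N24765 F261488) (tt N24514 (iv D58446)) (tt N26777 (iv F265734)) (tt N25676 F261489) (tt N24518 F261490) (tt N24680 F261491) (tt N25676 F261492) (tt N24853 F261493))
theorem Q25678 : ∀ i, i < 25678 → P i := stepQ 25677 Q25677 (allL N25677 (tt N24686 F261494) (tt N24535 F261495) (tt N25334 F261496) (tt N26864 D59634) (tt N25677 F261497) (tt N24516 F261498) (tt N24816 F261499) (tt N24681 F261500) (tt N24515 (iv D58447)) (tt N24870 F261501))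
theorem Q25679 : ∀ i, i < 25679 → P i := stepQ 25678 Q25678 (allL N25678 (tt N24907 F261502) (tt N24536 F261503) (tt N26865 D59635) (tt N24516 (iv D58448)) (tt N24767 F261504) (tt N26864 (iv F266247)) (tt N24519 F261505) (tt N24682 F261506) (tt N24683 F261507) (tt N24871 F261508))
theorem Q25680 : ∀ i, i < 25680 → P i := stepQ 25679 Q25679 (allL N25679 (tt N24908 F261509) (tt N24925 F261510) (tt N26866 D59636) (tt N24517 (iv D58449)) (tt N26867 D59637) (tt N24905 F261511) (tt N26863 (iv F266241)) (tt N24521 F261512) (tt N25417 F261513) (tt N24895 F261514))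
theorem Q25681 : ∀ i, i < 25681 → P i := stepQ 25680 Q25680 (allL N25680 (tt N24909 F261515) (tt N24932 F261516) (tt N25322 F261517) (tt N26867 (iv F266266)) (tt N24518 (iv D58450)) (tt N25445 F261518) (tt N26777 (iv F265735)) (tt N24522 F261519) (tt N25680 F261520) (tt N24901 F261521))
theorem Q25682 : ∀ i, i < 25682 → P i := stepQ 25681 Q25681 (allL N25681 (tt N24910 F261522) (tt N26868 D59638) (tt N24519 (iv D58451)) (tt N26866 (iv F266259)) (tt N25316 F261523) (tt N25389 F261524) (tt N26865 (iv F266254)) (tt N24524 F261525) (tt N25391 F261526) (tt N26861 (iv F266230)))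
theorem Q25683 : ∀ i, i < 25683 → P i := stepQ 25682 Q25682 (allL N25682 (tt N24911 F261527) (tt N24920 F261528) (tt N26869 D59639) (tt N24520 (iv D58452)) (tt N26870 D59640) (tt N24884 F261529) (tt N24874 F261530) (tt N25417 F261531) (tt N24521 F261532) (tt N25408 F261533))
theorem Q25684 : ∀ i, i < 25684 → P i := stepQ 25683 Q25683 (allL N25683 (tt N24912 F261534) (tt N26871 D59641) (tt N24521 (iv D58453)) (tt N24524 F261535) (tt N26872 D59642) (tt N24906 F261536) (tt N24880 F261537) (tt N26866 (iv F266261)) (tt N26869 (iv F266281)) (tt N24896 F261538))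
theorem Q25685 : ∀ i, i < 25685 → P i := stepQ 25684 Q25684 (allL N25684 (tt N24913 F261539) (tt N24928 F261540) (tt N26872 (iv F266297)) (tt N24522 F261541) (tt N24521 (iv D58454)) (tt N25436 F261542) (tt N24881 F261543) (tt N26867 (iv F266268)) (tt N26870 (iv F266289)) (tt N24897 F261544))
theorem Q25686 : ∀ i, i < 25686 → P i := stepQ 25685 Q25685 (allL N25685 (tt N24896 F261545) (tt N26873 D59643) (tt N24523 (iv D58455)) (tt N24906 F261546) (tt N26874 D59644) (tt N24524 F261547) (tt N24867 F261548) (tt N25389 F261549) (tt N25382 F261550) (tt N24912 F261551))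
theorem Q25687 : ∀ i, i < 25687 → P i := stepQ 25686 Q25686 (allL N25686 (tt N24897 F261552) (tt N24543 F261553) (tt N26874 (iv F266310)) (tt N24525 F261554) (tt N24523 (iv D58456)) (tt N24637 F261555) (tt N24868 F261556) (tt N25390 F261557) (tt N25383 F261558) (tt N24913 F261559))
theorem Q25688 : ∀ i, i < 25688 → P i := stepQ 25687 Q25687 (allL N25687 (tt N26875 D59645) (tt N24524 (iv D58457)) (tt N24544 F261560) (tt N26871 (iv F266292)) (tt N25317 F261561) (tt N26873 (iv F266304)) (tt N25183 F261562) (tt N26868 (iv F266274)) (tt N26761 (iv F265626)) (tt N26862 (iv F266237)))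
theorem Q25689 : ∀ i, i < 25689 → P i := stepQ 25688 Q25688 (allL N25688 (tt N24565 F261563) (tt N24911 F261564) (tt N26876 D59646) (tt N24526 (iv D58458)) (tt N26877 D59647) (tt N24527 F261565) (tt N25433 F261566) (tt N25370 F261567) (tt N24532 F261568) (tt N25159 F261569))
theorem Q25690 : ∀ i, i < 25690 → P i := stepQ 25689 Q25689 (allL N25689 (tt N24566 F261570) (tt N26878 D59648) (tt N24527 (iv D58459)) (tt N25303 F261571) (tt N25242 F261572) (tt N26876 (iv F266323)) (tt N25173 F261573) (tt N26791 (iv F265825)) (tt N24533 F261574) (tt N25160 F261575))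
theorem Q25691 : ∀ i, i < 25691 → P i := stepQ 25690 Q25690 (allL N25690 (tt N24577 F261576) (tt N26879 D59649) (tt N24528 (iv D58460)) (tt N25542 F261577) (tt N25505 F261578) (tt N25395 F261579) (tt N26779 (iv F265748)) (tt N24533 F261580) (tt N26791 (iv F265826)) (tt N24537 F261581))
theorem Q25692 : ∀ i, i < 25692 → P i := stepQ 25691 Q25691 (allL N25691 (tt N24583 F261582) (tt N24951 F261583) (tt N26880 D59650) (tt N24529 (iv D58461)) (tt N26881 D59651) (tt N24948 F261584) (tt N25184 F261585) (tt N25494 F261586) (tt N24530 F261587) (tt N25235 F261588))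
theorem Q25693 : ∀ i, i < 25693 → P i := stepQ 25692 Q25692 (allL N25692 (tt N24585 F261589) (tt N26882 D59652) (tt N24530 (iv D58462)) (tt N24533 F261590) (tt N26883 D59653) (tt N24949 F261591) (tt N25185 F261592) (tt N25542 F261593) (tt N26880 (iv F266352)) (tt N24538 F261594))
theorem Q25694 : ∀ i, i < 25694 → P i := stepQ 25693 Q25693 (allL N25693 (tt N24586 F261595) (tt N24955 F261596) (tt N26883 (iv F266369)) (tt N24531 F261597) (tt N24530 (iv D58463)) (tt N25490 F261598) (tt N25186 F261599) (tt N25543 F261600) (tt N26881 (iv F266360)) (tt N24539 F261601))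
theorem Q25695 : ∀ i, i < 25695 → P i := stepQ 25694 Q25694 (allL N25694 (tt N24590 F261602) (tt N26884 D59654) (tt N24532 (iv D58464)) (tt N24949 F261603) (tt N26885 D59655) (tt N24533 F261604) (tt N25435 F261605) (tt N25395 F261606) (tt N26876 (iv F266326)) (tt N24542 F261607))
theorem Q25696 : ∀ i, i < 25696 → P i := stepQ 25695 Q25695 (allL N25695 (tt N24591 F261608) (tt N24913 F261609) (tt N26885 (iv F266382)) (tt N24534 F261610) (tt N24532 (iv D58465)) (tt N25023 F261611) (tt N25436 F261612) (tt N25396 F261613) (tt N26877 (iv F266334)) (tt N24543 F261614))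
theorem Q25697 : ∀ i, i < 25697 → P i := stepQ 25696 Q25696 (allL N25696 (tt N26886 D59656) (tt N24533 (iv D58466)) (tt N26862 (iv F266231)) (tt N26882 (iv F266363)) (tt N25506 F261615) (tt N26884 (iv F266377)) (tt N25187 F261616) (tt N26879 (iv F266345)) (tt N26878 (iv F266340)) (tt N24544 F261617))
theorem Q25698 : ∀ i, i < 25698 → P i := stepQ 25697 Q25697 (allL N25697 (tt N24602 F261618) (tt N26864 (iv F266246)) (tt N26887 D59657) (tt N24535 (iv D58467)) (tt N26888 D59658) (tt N24536 F261619) (tt N24824 F261620) (tt N25192 F261621) (tt N24828 F261622) (tt N26778 (iv F265744)))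
theorem Q25699 : ∀ i, i < 25699 → P i := stepQ 25698 Q25698 (allL N25698 (tt N24603 F261623) (tt N26889 D59659) (tt N24536 (iv D58468)) (tt N25540 F261624) (tt N25529 F261625) (tt N26887 (iv F266394)) (tt N24537 F261626) (tt N25193 F261627) (tt N25399 F261628) (tt N26779 (iv F265751)))
theorem Q25700 : ∀ i, i < 25700 → P i := stepQ 25699 Q25699 (allL N25699 (tt N26890 D59660) (tt N24537 (iv D58469)) (tt N26868 (iv F266271)) (tt N25544 F261629) (tt N25558 F261630) (tt N25397 F261631) (tt N26889 (iv F266406)) (tt N24544 F261632) (tt N25400 F261633) (tt N26879 (iv F266346)))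
theorem Q25701 : ∀ i, i < 25701 → P i := stepQ 25700 Q25700 (allL N25700 (tt N26891 D59661) (tt N24538 (iv D58470)) (tt N25557 F261634) (tt N24544 F261635) (tt N26892 D59662) (tt N25521 F261636) (tt N25213 F261637) (tt N25544 F261638) (tt N25522 F261639) (tt N26882 (iv F266367)))
theorem Q25702 : ∀ i, i < 25702 → P i := stepQ 25701 Q25701 (allL N25701 (tt N24632 F261640) (tt N26892 (iv F266422)) (tt N24539 F261641) (tt N25551 F261642) (tt N24538 (iv D58471)) (tt N25537 F261643) (tt N25214 F261644) (tt N25545 F261645) (tt N25523 F261646) (tt N26883 (iv F266374)))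
theorem Q25703 : ∀ i, i < 25703 → P i := stepQ 25702 Q25702 (allL N25702 (tt N24635 F261647) (tt N24700 F261648) (tt N26893 D59663) (tt N24540 (iv D58472)) (tt N26894 D59664) (tt N24861 F261649) (tt N24807 F261650) (tt N24541 F261651) (tt N24698 F261652) (tt N25423 F261653))
theorem Q25704 : ∀ i, i < 25704 → P i := stepQ 25703 Q25703 (allL N25703 (tt N24636 F261654) (tt N26895 D59665) (tt N24541 (iv D58473)) (tt N25077 F261655) (tt N26896 D59666) (tt N24864 F261656) (tt N24542 F261657) (tt N26893 (iv F266433)) (tt N25377 F261658) (tt N25435 F261659))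
theorem Q25705 : ∀ i, i < 25705 → P i := stepQ 25704 Q25704 (allL N25704 (tt N24637 F261660) (tt N24868 F261661) (tt N26896 (iv F266451)) (tt N24546 F261662) (tt N24541 (iv D58474)) (tt N24897 F261663) (tt N24543 F261664) (tt N26894 (iv F266441)) (tt N25378 F261665) (tt N25436 F261666))
theorem Q25706 : ∀ i, i < 25706 → P i := stepQ 25705 Q25705 (allL N25705 (tt N26897 D59667) (tt N24542 (iv D58475)) (tt N26873 (iv F266302)) (tt N25521 F261667) (tt N26898 D59668) (tt N24544 F261668) (tt N26895 (iv F266447)) (tt N25397 F261669) (tt N25384 F261670) (tt N26884 (iv F266380)))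
theorem Q25707 : ∀ i, i < 25707 → P i := stepQ 25706 Q25706 (allL N25706 (tt N24639 F261671) (tt N26898 (iv F266462)) (tt N24543 F261672) (tt N25298 F261673) (tt N24542 (iv D58476)) (tt N25101 F261674) (tt N26896 (iv F266454)) (tt N25398 F261675) (tt N25385 F261676) (tt N26885 (iv F266387)))
theorem Q25708 : ∀ i, i < 25708 → P i := stepQ 25707 Q25707 (allL N25707 (tt N24544 (iv D58477)) (tt N24640 F261677) (tt N26875 (iv F266318)) (tt N26891 (iv F266417)) (tt N25559 F261678) (tt N26897 (iv F266459)) (tt N25217 F261679) (tt N26890 (iv F266413)) (tt N26762 (iv F265634)) (tt N26886 (iv F266391)))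
theorem Q25709 : ∀ i, i < 25709 → P i := stepQ 25708 Q25708 (allL N25708 (tt N24647 F261680) (tt N24710 F261681) (tt N24607 F261682) (tt N26894 (iv F266438)) (tt N24545 (iv D58478)) (tt N24901 F261683) (tt N24852 F261684) (tt N24546 F261685) (tt N24547 F261686) (tt N25445 F261687))
theorem Q25710 : ∀ i, i < 25710 → P i := stepQ 25709 Q25709 (allL N25709 (tt N24768 F261688) (tt N24552 F261689) (tt N24973 F261690) (tt N26899 D59669) (tt N24549 F261691) (tt N25239 F261692) (tt N24986 F261693) (tt N24559 F261694) (tt N24548 (iv D58479)) (tt N24979 F261695))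
theorem Q25711 : ∀ i, i < 25711 → P i := stepQ 25710 Q25710 (allL N25710 (tt N24769 F261696) (tt N24553 F261697) (tt N26851 (iv F266159)) (tt N24549 (iv D58480)) (tt N26900 D59670) (tt N25710 F261698) (tt N25319 F261699) (tt N24560 F261700) (tt N25710 F261701) (tt N24980 F261702))
theorem Q25712 : ∀ i, i < 25712 → P i := stepQ 25711 Q25711 (allL N25711 (tt N25246 F261703) (tt N24989 F261704) (tt N24572 F261705) (tt N26901 D59671) (tt N25711 F261706) (tt N25141 F261707) (tt N24982 F261708) (tt N24561 F261709) (tt N24550 (iv D58481)) (tt N25143 F261710))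
theorem Q25713 : ∀ i, i < 25713 → P i := stepQ 25712 Q25712 (allL N25712 (tt N25275 F261711) (tt N25239 F261712) (tt N24555 F261713) (tt N26902 D59672) (tt N25712 F261714) (tt N24552 F261715) (tt N25243 F261716) (tt N24562 F261717) (tt N24551 (iv D58482)) (tt N25196 F261718))
theorem Q25714 : ∀ i, i < 25714 → P i := stepQ 25713 Q25713 (allL N25713 (tt N25277 F261719) (tt N26899 (iv F266468)) (tt N26903 D59673) (tt N24552 (iv D58483)) (tt N26904 D59674) (tt N26902 (iv F266489)) (tt N25499 F261720) (tt N24563 F261721) (tt N26901 (iv F266485)) (tt N25197 F261722))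
theorem Q25715 : ∀ i, i < 25715 → P i := stepQ 25714 Q25714 (allL N25714 (tt N25323 F261723) (tt N26900 (iv F266475)) (tt N25565 F261724) (tt N26904 (iv F266500)) (tt N24553 (iv D58484)) (tt N26905 D59675) (tt N25509 F261725) (tt N24564 F261726) (tt N25714 F261727) (tt N25224 F261728))
theorem Q25716 : ∀ i, i < 25716 → P i := stepQ 25715 Q25715 (allL N25715 (tt N24787 F261729) (tt N24976 F261730) (tt N25243 F261731) (tt N26906 D59676) (tt N25715 F261732) (tt N25006 F261733) (tt N24555 F261734) (tt N24999 F261735) (tt N24554 (iv D58485)) (tt N24730 F261736))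
theorem Q25717 : ∀ i, i < 25717 → P i := stepQ 25716 Q25716 (allL N25716 (tt N25370 F261737) (tt N24977 F261738) (tt N26907 D59677) (tt N24555 (iv D58486)) (tt N26908 D59678) (tt N24556 F261739) (tt N26906 (iv F266513)) (tt N24565 F261740) (tt N24576 F261741) (tt N25357 F261742))
theorem Q25718 : ∀ i, i < 25718 → P i := stepQ 25717 Q25717 (allL N25717 (tt N26791 (iv F265820)) (tt N26909 D59679) (tt N24556 (iv D58487)) (tt N26903 (iv F266495)) (tt N26779 (iv F265747)) (tt N26907 (iv F266518)) (tt N25505 F261743) (tt N24566 F261744) (tt N24577 F261745) (tt N25529 F261746))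
theorem Q25719 : ∀ i, i < 25719 → P i := stepQ 25718 Q25718 (allL N25718 (tt N24559 F261747) (tt N24764 F261748) (tt N24979 F261749) (tt N26910 D59680) (tt N24558 F261750) (tt N25492 F261751) (tt N25013 F261752) (tt N24768 F261753) (tt N24557 (iv D58488)) (tt N24973 F261754))
theorem Q25720 : ∀ i, i < 25720 → P i := stepQ 25719 Q25719 (allL N25719 (tt N24560 F261755) (tt N24765 F261756) (tt N26809 (iv F265925)) (tt N24558 (iv D58489)) (tt N26911 D59681) (tt N25719 F261757) (tt N24593 F261758) (tt N24769 F261759) (tt N25719 F261760) (tt N24642 F261761))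
theorem Q25721 : ∀ i, i < 25721 → P i := stepQ 25720 Q25720 (allL N25720 (tt N26910 (iv F266533)) (tt N24563 F261762) (tt N26912 D59682) (tt N24559 (iv D58490)) (tt N26913 D59683) (tt N26800 (iv F265878)) (tt N25232 F261763) (tt N26899 (iv F266471)) (tt N26831 (iv F266061)) (tt N25204 F261764))
theorem Q25722 : ∀ i, i < 25722 → P i := stepQ 25721 Q25721 (allL N25721 (tt N26809 (iv F265923)) (tt N26781 (iv F265760)) (tt N24560 (iv D58491)) (tt N24984 F261765) (tt N26914 D59684) (tt N25721 F261766) (tt N25233 F261767) (tt N26851 (iv F266162)) (tt N25721 F261768) (tt N25227 F261769))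
theorem Q25723 : ∀ i, i < 25723 → P i := stepQ 25722 Q25722 (allL N25722 (tt N26911 (iv F266540)) (tt N24564 F261770) (tt N26914 (iv F266553)) (tt N26913 (iv F266550)) (tt N24560 (iv D58492)) (tt N26915 D59685) (tt N25234 F261771) (tt N26900 (iv F266477)) (tt N25722 F261772) (tt N25228 F261773))
theorem Q25724 : ∀ i, i < 25724 → P i := stepQ 25723 Q25723 (allL N25723 (tt N25256 F261774) (tt N26831 (iv F266057)) (tt N26916 D59686) (tt N24561 (iv D58493)) (tt N26917 D59687) (tt N26826 (iv F266025)) (tt N25235 F261775) (tt N26901 (iv F266484)) (tt N24563 F261776) (tt N25184 F261777))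
theorem Q25725 : ∀ i, i < 25725 → P i := stepQ 25724 Q25724 (allL N25724 (tt N25300 F261778) (tt N26800 (iv F265877)) (tt N26918 D59688) (tt N24562 (iv D58494)) (tt N26919 D59689) (tt N24563 F261779) (tt N25476 F261780) (tt N26902 (iv F266491)) (tt N26826 (iv F266028)) (tt N25208 F261781))
theorem Q25726 : ∀ i, i < 25726 → P i := stepQ 25725 Q25725 (allL N25725 (tt N25303 F261782) (tt N26920 D59690) (tt N24563 (iv D58495)) (tt N24566 F261783) (tt N26921 D59691) (tt N26918 (iv F266574)) (tt N25236 F261784) (tt N26903 (iv F266497)) (tt N26916 (iv F266565)) (tt N25209 F261785))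
theorem Q25727 : ∀ i, i < 25727 → P i := stepQ 25726 Q25726 (allL N25726 (tt N25304 F261786) (tt N26913 (iv F266549)) (tt N26921 (iv F266585)) (tt N24564 F261787) (tt N24563 (iv D58496)) (tt N26922 D59692) (tt N25237 F261788) (tt N26904 (iv F266502)) (tt N26917 (iv F266570)) (tt N25210 F261789))
theorem Q25728 : ∀ i, i < 25728 → P i := stepQ 25727 Q25727 (allL N25727 (tt N25327 F261790) (tt N26915 (iv F266557)) (tt N26787 (iv F265798)) (tt N26922 (iv F266589)) (tt N25727 F261791) (tt N24564 (iv D58497)) (tt N26923 D59693) (tt N26905 (iv F266507)) (tt N25727 F261792) (tt N25231 F261793))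
theorem Q25729 : ∀ i, i < 25729 → P i := stepQ 25728 Q25728 (allL N25728 (tt N26876 (iv F266321)) (tt N26924 D59694) (tt N24565 (iv D58498)) (tt N26918 (iv F266573)) (tt N26925 D59695) (tt N24566 F261794) (tt N25478 F261795) (tt N26907 (iv F266519)) (tt N24590 F261796) (tt N25513 F261797))
theorem Q25730 : ∀ i, i < 25730 → P i := stepQ 25729 Q25729 (allL N25729 (tt N26877 (iv F266328)) (tt N24996 F261798) (tt N26925 (iv F266602)) (tt N25729 F261799) (tt N24565 (iv D58499)) (tt N26789 (iv F265811)) (tt N25479 F261800) (tt N26908 (iv F266525)) (tt N24591 F261801) (tt N25514 F261802))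
theorem Q25731 : ∀ i, i < 25731 → P i := stepQ 25730 Q25730 (allL N25730 (tt N26926 D59696) (tt N24566 (iv D58500)) (tt N24997 F261803) (tt N26920 (iv F266581)) (tt N26790 (iv F265816)) (tt N26924 (iv F266598)) (tt N25238 F261804) (tt N26909 (iv F266530)) (tt N24592 F261805) (tt N25530 F261806))
theorem Q25732 : ∀ i, i < 25732 → P i := stepQ 25731 Q25731 (allL N25731 (tt N24823 F261807) (tt N24999 F261808) (tt N24950 F261809) (tt N26927 D59697) (tt N25731 F261810) (tt N24575 F261811) (tt N24568 F261812) (tt N24976 F261813) (tt N24567 (iv D58501)) (tt N24601 F261814))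
theorem Q25733 : ∀ i, i < 25733 → P i := stepQ 25732 Q25732 (allL N25732 (tt N26778 (iv F265738)) (tt N25000 F261815) (tt N26928 D59698) (tt N24568 (iv D58502)) (tt N26929 D59699) (tt N24569 F261816) (tt N26927 (iv F266613)) (tt N24994 F261817) (tt N25021 F261818) (tt N24602 F261819))
theorem Q25734 : ∀ i, i < 25734 → P i := stepQ 25733 Q25733 (allL N25733 (tt N26779 (iv F265745)) (tt N26930 D59700) (tt N24569 (iv D58503)) (tt N26834 (iv F266076)) (tt N26791 (iv F265822)) (tt N26928 (iv F266617)) (tt N24577 F261820) (tt N25242 F261821) (tt N25505 F261822) (tt N24603 F261823))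
theorem Q25735 : ∀ i, i < 25735 → P i := stepQ 25734 Q25734 (allL N25734 (tt N25050 F261824) (tt N24573 F261825) (tt N26931 D59701) (tt N24570 (iv D58504)) (tt N26932 D59702) (tt N25049 F261826) (tt N26826 (iv F266026)) (tt N24579 F261827) (tt N25476 F261828) (tt N24606 F261829))
theorem Q25736 : ∀ i, i < 25736 → P i := stepQ 25735 Q25735 (allL N25735 (tt N25105 F261830) (tt N24574 F261831) (tt N25445 F261832) (tt N26932 (iv F266640)) (tt N24571 (iv D58505)) (tt N25322 F261833) (tt N26859 (iv F266211)) (tt N24580 F261834) (tt N25735 F261835) (tt N24607 F261836))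
theorem Q25737 : ∀ i, i < 25737 → P i := stepQ 25736 Q25736 (allL N25736 (tt N25494 F261837) (tt N25476 F261838) (tt N26933 D59703) (tt N24572 (iv D58506)) (tt N26934 D59704) (tt N25085 F261839) (tt N26800 (iv F265879)) (tt N24583 F261840) (tt N24573 F261841) (tt N25088 F261842))
theorem Q25738 : ∀ i, i < 25738 → P i := stepQ 25737 Q25737 (allL N25737 (tt N25542 F261843) (tt N26935 D59705) (tt N24573 (iv D58507)) (tt N24577 F261844) (tt N26936 D59706) (tt N25461 F261845) (tt N26834 (iv F266077)) (tt N24585 F261846) (tt N26933 (iv F266648)) (tt N24608 F261847))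
theorem Q25739 : ∀ i, i < 25739 → P i := stepQ 25738 Q25738 (allL N25738 (tt N25543 F261848) (tt N26932 (iv F266639)) (tt N26936 (iv F266662)) (tt N24574 F261849) (tt N24573 (iv D58508)) (tt N26937 D59707) (tt N26835 (iv F266082)) (tt N24586 F261850) (tt N26934 (iv F266655)) (tt N24609 F261851))
theorem Q25740 : ∀ i, i < 25740 → P i := stepQ 25739 Q25739 (allL N25739 (tt N25234 F261852) (tt N25322 F261853) (tt N26795 (iv F265849)) (tt N26937 (iv F266667)) (tt N24593 F261854) (tt N24574 (iv D58509)) (tt N26911 (iv F266542)) (tt N24587 F261855) (tt N25739 F261856) (tt N24610 F261857))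
theorem Q25741 : ∀ i, i < 25741 → P i := stepQ 25740 Q25740 (allL N25740 (tt N24825 F261858) (tt N25007 F261859) (tt N26938 D59708) (tt N24575 (iv D58510)) (tt N26939 D59709) (tt N26927 (iv F266612)) (tt N24576 F261860) (tt N25486 F261861) (tt N26906 (iv F266515)) (tt N24612 F261862))
theorem Q25742 : ∀ i, i < 25742 → P i := stepQ 25741 Q25741 (allL N25741 (tt N25395 F261863) (tt N26940 D59710) (tt N24576 (iv D58511)) (tt N25461 F261864) (tt N26941 D59711) (tt N24577 F261865) (tt N26938 (iv F266674)) (tt N24590 F261866) (tt N26907 (iv F266520)) (tt N24613 F261867))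
theorem Q25743 : ∀ i, i < 25743 → P i := stepQ 25742 Q25742 (allL N25742 (tt N25396 F261868) (tt N25009 F261869) (tt N26941 (iv F266689)) (tt N24596 F261870) (tt N24576 (iv D58512)) (tt N26798 (iv F265869)) (tt N26939 (iv F266680)) (tt N24591 F261871) (tt N26908 (iv F266526)) (tt N24614 F261872))
theorem Q25744 : ∀ i, i < 25744 → P i := stepQ 25743 Q25743 (allL N25743 (tt N26942 D59712) (tt N24577 (iv D58513)) (tt N25010 F261873) (tt N26935 (iv F266657)) (tt N26799 (iv F265873)) (tt N26940 (iv F266685)) (tt N26930 (iv F266628)) (tt N24592 F261874) (tt N26909 (iv F266531)) (tt N24615 F261875))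
theorem Q25745 : ∀ i, i < 25745 → P i := stepQ 25744 Q25744 (allL N25744 (tt N25071 F261876) (tt N24583 F261877) (tt N26943 D59713) (tt N24578 (iv D58514)) (tt N26944 D59714) (tt N24998 F261878) (tt N25251 F261879) (tt N25476 F261880) (tt N24579 F261881) (tt N25041 F261882))
theorem Q25746 : ∀ i, i < 25746 → P i := stepQ 25745 Q25745 (allL N25745 (tt N25074 F261883) (tt N26945 D59715) (tt N24579 (iv D58515)) (tt N25012 F261884) (tt N26946 D59716) (tt N25069 F261885) (tt N25253 F261886) (tt N26931 (iv F266635)) (tt N26943 (iv F266700)) (tt N24622 F261887))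
theorem Q25747 : ∀ i, i < 25747 → P i := stepQ 25746 Q25746 (allL N25746 (tt N25075 F261888) (tt N24586 F261889) (tt N26946 (iv F266716)) (tt N24580 F261890) (tt N24579 (iv D58516)) (tt N25310 F261891) (tt N25254 F261892) (tt N26932 (iv F266642)) (tt N26944 (iv F266708)) (tt N24623 F261893))
theorem Q25748 : ∀ i, i < 25748 → P i := stepQ 25747 Q25747 (allL N25747 (tt N24948 F261894) (tt N24998 F261895) (tt N26947 D59717) (tt N24581 (iv D58517)) (tt N25055 F261896) (tt N24583 F261897) (tt N25002 F261898) (tt N25085 F261899) (tt N24584 F261900) (tt N25038 F261901))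
theorem Q25749 : ∀ i, i < 25749 → P i := stepQ 25748 Q25748 (allL N25748 (tt N25235 F261902) (tt N25041 F261903) (tt N26948 D59718) (tt N24582 (iv D58518)) (tt N26949 D59719) (tt N25038 F261904) (tt N25256 F261905) (tt N25088 F261906) (tt N24625 F261907) (tt N24583 F261908))
theorem Q25750 : ∀ i, i < 25750 → P i := stepQ 25749 Q25749 (allL N25749 (tt N26880 (iv F266347)) (tt N26950 D59720) (tt N24583 (iv D58519)) (tt N26916 (iv F266563)) (tt N26951 D59721) (tt N26947 (iv F266723)) (tt N25257 F261909) (tt N26933 (iv F266647)) (tt N24585 F261910) (tt N26948 (iv F266734)))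
theorem Q25751 : ∀ i, i < 25751 → P i := stepQ 25750 Q25750 (allL N25750 (tt N26881 (iv F266354)) (tt N26944 (iv F266703)) (tt N26951 (iv F266745)) (tt N25750 F261911) (tt N24583 (iv D58520)) (tt N26952 D59722) (tt N25258 F261912) (tt N26934 (iv F266654)) (tt N24586 F261913) (tt N26949 (iv F266742)))
theorem Q25752 : ∀ i, i < 25752 → P i := stepQ 25751 Q25751 (allL N25751 (tt N24949 F261914) (tt N26953 D59723) (tt N24584 (iv D58521)) (tt N24590 F261915) (tt N25485 F261916) (tt N24585 F261917) (tt N25458 F261918) (tt N25461 F261919) (tt N26947 (iv F266726)) (tt N24630 F261920))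
theorem Q25753 : ∀ i, i < 25753 → P i := stepQ 25752 Q25752 (allL N25752 (tt N26954 D59724) (tt N24585 (iv D58522)) (tt N26945 (iv F266710)) (tt N24592 F261921) (tt N26955 D59725) (tt N26953 (iv F266759)) (tt N25260 F261922) (tt N26935 (iv F266659)) (tt N26950 (iv F266744)) (tt N24631 F261923))
theorem Q25754 : ∀ i, i < 25754 → P i := stepQ 25753 Q25753 (allL N25753 (tt N26883 (iv F266368)) (tt N26955 (iv F266766)) (tt N24586 F261924) (tt N26804 (iv F265899)) (tt N24585 (iv D58523)) (tt N26956 D59726) (tt N25261 F261925) (tt N26936 (iv F266663)) (tt N26951 (iv F266747)) (tt N24632 F261926))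
theorem Q25755 : ∀ i, i < 25755 → P i := stepQ 25754 Q25754 (allL N25754 (tt N25490 F261927) (tt N25310 F261928) (tt N26956 (iv F266770)) (tt N24587 F261929) (tt N25294 F261930) (tt N24586 (iv D58524)) (tt N25296 (iv F261932)) (tt N26937 (iv F266669)) (tt N26952 (iv F266753)) (tt N24633 F261931))
theorem Q25756 : ∀ i, i < 25756 → P i := stepQ 25755 Q25755 (allL N25755 (tt N25423 F261933) (tt N25021 F261934) (tt N26957 D59727) (tt N24588 (iv D58525)) (tt N26958 D59728) (tt N24972 F261935) (tt N25486 F261936) (tt N24589 F261937) (tt N25000 F261938) (tt N24635 F261939))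
theorem Q25757 : ∀ i, i < 25757 → P i := stepQ 25756 Q25756 (allL N25756 (tt N25435 F261940) (tt N26959 D59729) (tt N24589 (iv D58526)) (tt N25458 F261941) (tt N26960 D59730) (tt N25262 F261942) (tt N24590 F261943) (tt N26957 (iv F266778)) (tt N25478 F261944) (tt N24636 F261945))
theorem Q25758 : ∀ i, i < 25758 → P i := stepQ 25757 Q25757 (allL N25757 (tt N25436 F261946) (tt N25023 F261947) (tt N26960 (iv F266796)) (tt N24598 F261948) (tt N24589 (iv D58527)) (tt N24913 F261949) (tt N24591 F261950) (tt N26958 (iv F266786)) (tt N25479 F261951) (tt N24637 F261952))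
theorem Q25759 : ∀ i, i < 25759 → P i := stepQ 25758 Q25758 (allL N25758 (tt N26961 D59731) (tt N24590 (iv D58528)) (tt N25024 F261953) (tt N26953 (iv F266757)) (tt N26962 D59732) (tt N24592 F261954) (tt N26959 (iv F266792)) (tt N26940 (iv F266686)) (tt N26924 (iv F266600)) (tt N24638 F261955))
theorem Q25760 : ∀ i, i < 25760 → P i := stepQ 25759 Q25759 (allL N25759 (tt N26885 (iv F266381)) (tt N26962 (iv F266805)) (tt N24591 F261956) (tt N26963 D59733) (tt N24590 (iv D58529)) (tt N26807 (iv F265915)) (tt N26960 (iv F266799)) (tt N26941 (iv F266690)) (tt N26925 (iv F266604)) (tt N24639 F261957))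
theorem Q25761 : ∀ i, i < 25761 → P i := stepQ 25760 Q25760 (allL N25760 (tt N24592 (iv D58530)) (tt N26886 (iv F266388)) (tt N25026 F261958) (tt N26954 (iv F266763)) (tt N26808 (iv F265920)) (tt N26961 (iv F266803)) (tt N25264 F261959) (tt N26942 (iv F266693)) (tt N26926 (iv F266608)) (tt N24640 F261960))
theorem Q25762 : ∀ i, i < 25762 → P i := stepQ 25761 Q25761 (allL N25761 (tt N24857 F261961) (tt N25030 F261962) (tt N25563 F261963) (tt N26939 (iv F266679)) (tt N24594 (iv D58531)) (tt N26964 D59734) (tt N24596 F261964) (tt N25564 F261965) (tt N25761 F261966) (tt N24644 F261967))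
theorem Q25763 : ∀ i, i < 25763 → P i := stepQ 25762 Q25762 (allL N25762 (tt N25245 F261968) (tt N25118 F261969) (tt N24596 F261970) (tt N26965 D59735) (tt N24595 (iv D58532)) (tt N26812 (iv F265948)) (tt N25563 F261971) (tt N24599 F261972) (tt N25762 F261973) (tt N24646 F261974))
theorem Q25764 : ∀ i, i < 25764 → P i := stepQ 25763 Q25763 (allL N25763 (tt N25445 F261975) (tt N25034 F261976) (tt N25105 F261977) (tt N26958 (iv F266783)) (tt N24597 (iv D58533)) (tt N24909 F261978) (tt N25564 F261979) (tt N24598 F261980) (tt N25763 F261981) (tt N24647 F261982))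
theorem Q25765 : ∀ i, i < 25765 → P i := stepQ 25764 Q25764 (allL N25764 (tt N25254 F261983) (tt N25091 F261984) (tt N26963 (iv F266809)) (tt N24599 (iv D58534)) (tt N25073 F261985) (tt N26813 (iv F265955)) (tt N25075 F261986) (tt N26965 (iv F266824)) (tt N26966 D59736) (tt N24649 F261987))
theorem Q25766 : ∀ i, i < 25766 → P i := stepQ 25765 Q25765 (allL N25765 (tt N24805 F261988) (tt N24730 F261989) (tt N24938 F261990) (tt N26967 D59737) (tt N25765 F261991) (tt N24611 F261992) (tt N24766 F261993) (tt N24601 F261994) (tt N24600 (iv D58535)) (tt N24976 F261995))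
theorem Q25767 : ∀ i, i < 25767 → P i := stepQ 25766 Q25766 (allL N25766 (tt N24824 F261996) (tt N25045 F261997) (tt N26968 D59738) (tt N24601 (iv D58536)) (tt N26969 D59739) (tt N24612 F261998) (tt N24602 F261999) (tt N26967 (iv F266835)) (tt N24747 F262000) (tt N26927 (iv F266616)))
theorem Q25768 : ∀ i, i < 25768 → P i := stepQ 25767 Q25767 (allL N25767 (tt N26887 (iv F266392)) (tt N26970 D59740) (tt N24602 (iv D58537)) (tt N26832 (iv F266064)) (tt N26971 D59741) (tt N24603 F262001) (tt N26968 (iv F266841)) (tt N25269 F262002) (tt N26754 (iv F265582)) (tt N26928 (iv F266620)))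
theorem Q25769 : ∀ i, i < 25769 → P i := stepQ 25768 Q25768 (allL N25768 (tt N26888 (iv F266398)) (tt N25047 F262003) (tt N26971 (iv F266851)) (tt N25768 F262004) (tt N24602 (iv D58538)) (tt N25372 F262005) (tt N26969 (iv F266846)) (tt N25270 F262006) (tt N25375 F262007) (tt N26929 (iv F266626)))
theorem Q25770 : ∀ i, i < 25770 → P i := stepQ 25769 Q25769 (allL N25769 (tt N26972 D59742) (tt N24603 (iv D58539)) (tt N25048 F262008) (tt N26836 (iv F266085)) (tt N26814 (iv F265960)) (tt N26970 (iv F266849)) (tt N24615 F262009) (tt N25271 F262010) (tt N26755 (iv F265589)) (tt N26930 (iv F266631)))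
theorem Q25771 : ∀ i, i < 25771 → P i := stepQ 25770 Q25770 (allL N25770 (tt N24606 F262011) (tt N25004 F262012) (tt N26973 D59743) (tt N24604 (iv D58540)) (tt N26974 D59744) (tt N25002 F262013) (tt N25255 F262014) (tt N24617 F262015) (tt N25176 F262016) (tt N25050 F262017))
theorem Q25772 : ∀ i, i < 25772 → P i := stepQ 25771 Q25771 (allL N25771 (tt N24607 F262018) (tt N24660 F262019) (tt N24647 F262020) (tt N26974 (iv F266867)) (tt N24605 (iv D58541)) (tt N24658 F262021) (tt N24904 F262022) (tt N24618 F262023) (tt N24653 F262024) (tt N25105 F262025))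
theorem Q25773 : ∀ i, i < 25773 → P i := stepQ 25772 Q25772 (allL N25772 (tt N26973 (iv F266858)) (tt N26975 D59745) (tt N24606 (iv D58542)) (tt N25051 F262026) (tt N26976 D59746) (tt N25459 F262027) (tt N26827 (iv F266033)) (tt N24622 F262028) (tt N25177 F262029) (tt N26931 (iv F266637)))
theorem Q25774 : ∀ i, i < 25774 → P i := stepQ 25773 Q25773 (allL N25773 (tt N26974 (iv F266865)) (tt N24609 F262030) (tt N26976 (iv F266878)) (tt N24607 F262031) (tt N24606 (iv D58543)) (tt N26977 D59747) (tt N26828 (iv F266039)) (tt N24623 F262032) (tt N25178 F262033) (tt N26932 (iv F266644)))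
theorem Q25775 : ∀ i, i < 25775 → P i := stepQ 25774 Q25774 (allL N25774 (tt N24658 F262034) (tt N24610 F262035) (tt N24901 F262036) (tt N26977 (iv F266883)) (tt N24641 F262037) (tt N24607 (iv D58544)) (tt N24656 F262038) (tt N24624 F262039) (tt N24654 F262040) (tt N25322 F262041))
theorem Q25776 : ∀ i, i < 25776 → P i := stepQ 25775 Q25775 (allL N25775 (tt N26978 D59748) (tt N24608 (iv D58545)) (tt N26975 (iv F266873)) (tt N24615 F262042) (tt N26979 D59749) (tt N25462 F262043) (tt N26836 (iv F266086)) (tt N24631 F262044) (tt N25179 F262045) (tt N26935 (iv F266660)))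
theorem Q25777 : ∀ i, i < 25777 → P i := stepQ 25776 Q25776 (allL N25776 (tt N25545 F262046) (tt N26979 (iv F266894)) (tt N24609 F262047) (tt N26818 (iv F265984)) (tt N24608 (iv D58546)) (tt N26980 D59750) (tt N26837 (iv F266092)) (tt N24632 F262048) (tt N25180 F262049) (tt N26936 (iv F266664)))
theorem Q25778 : ∀ i, i < 25778 → P i := stepQ 25777 Q25777 (allL N25777 (tt N25519 F262050) (tt N26977 (iv F266882)) (tt N26980 (iv F266898)) (tt N24610 F262051) (tt N25014 F262052) (tt N24609 (iv D58547)) (tt N26981 D59751) (tt N24633 F262053) (tt N25019 F262054) (tt N26937 (iv F266671)))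
theorem Q25779 : ∀ i, i < 25779 → P i := stepQ 25778 Q25778 (allL N25778 (tt N25228 F262055) (tt N24656 F262056) (tt N26820 (iv F265995)) (tt N26981 (iv F266904)) (tt N24642 F262057) (tt N26857 (iv F266199)) (tt N24610 (iv D58548)) (tt N24985 F262058) (tt N24655 F262059) (tt N26911 (iv F266545)))
theorem Q25780 : ∀ i, i < 25780 → P i := stepQ 25779 Q25779 (allL N25779 (tt N24807 F262060) (tt N25063 F262061) (tt N26982 D59752) (tt N24611 (iv D58549)) (tt N26983 D59753) (tt N26967 (iv F266833)) (tt N24635 F262062) (tt N24612 F262063) (tt N24740 F262064) (tt N25486 F262065))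
theorem Q25781 : ∀ i, i < 25781 → P i := stepQ 25780 Q25780 (allL N25780 (tt N24826 F262066) (tt N26984 D59754) (tt N24612 (iv D58550)) (tt N24953 F262067) (tt N26985 D59755) (tt N26968 (iv F266840)) (tt N24613 F262068) (tt N26982 (iv F266911)) (tt N24748 F262069) (tt N26938 (iv F266676)))
theorem Q25782 : ∀ i, i < 25782 → P i := stepQ 25781 Q25781 (allL N25781 (tt N24827 F262070) (tt N25065 F262071) (tt N26985 (iv F266927)) (tt N24644 F262072) (tt N24612 (iv D58551)) (tt N26986 D59756) (tt N24614 F262073) (tt N26983 (iv F266918)) (tt N24749 F262074) (tt N26939 (iv F266682)))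
theorem Q25783 : ∀ i, i < 25783 → P i := stepQ 25782 Q25782 (allL N25782 (tt N26987 D59757) (tt N24613 (iv D58552)) (tt N25066 F262075) (tt N25462 F262076) (tt N26988 D59758) (tt N24615 F262077) (tt N26984 (iv F266924)) (tt N24638 F262078) (tt N25363 F262079) (tt N26940 (iv F266687)))
theorem Q25784 : ∀ i, i < 25784 → P i := stepQ 25783 Q25783 (allL N25783 (tt N25398 F262080) (tt N26988 (iv F266942)) (tt N24614 F262081) (tt N26989 D59759) (tt N24613 (iv D58553)) (tt N26824 (iv F266016)) (tt N26985 (iv F266929)) (tt N24639 F262082) (tt N25364 F262083) (tt N26941 (iv F266691)))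
theorem Q25785 : ∀ i, i < 25785 → P i := stepQ 25784 Q25784 (allL N25784 (tt N24615 (iv D58554)) (tt N26890 (iv F266409)) (tt N25068 F262084) (tt N26978 (iv F266890)) (tt N26825 (iv F266021)) (tt N26987 (iv F266939)) (tt N26972 (iv F266856)) (tt N24640 F262085) (tt N26767 (iv F265669)) (tt N26942 (iv F266694)))
theorem Q25786 : ∀ i, i < 25786 → P i := stepQ 25785 Q25785 (allL N25785 (tt N24620 F262086) (tt N25014 F262087) (tt N26990 D59760) (tt N24616 (iv D58555)) (tt N26977 (iv F266884)) (tt N25011 F262088) (tt N24975 F262089) (tt N25176 F262090) (tt N24617 F262091) (tt N25308 F262092))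
theorem Q25787 : ∀ i, i < 25787 → P i := stepQ 25786 Q25786 (allL N25786 (tt N24622 F262093) (tt N26991 D59761) (tt N24617 (iv D58556)) (tt N25069 F262094) (tt N26992 D59762) (tt N25012 F262095) (tt N25289 F262096) (tt N26973 (iv F266862)) (tt N26990 (iv F266957)) (tt N25074 F262097))
theorem Q25788 : ∀ i, i < 25788 → P i := stepQ 25787 Q25787 (allL N25787 (tt N24623 F262098) (tt N25019 F262099) (tt N26992 (iv F266965)) (tt N24618 F262100) (tt N24617 (iv D58557)) (tt N25178 F262101) (tt N24649 F262102) (tt N26974 (iv F266870)) (tt N26977 (iv F266887)) (tt N25075 F262103))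
theorem Q25789 : ∀ i, i < 25789 → P i := stepQ 25788 Q25788 (allL N25788 (tt N25308 F262104) (tt N24625 F262105) (tt N26993 D59763) (tt N24619 (iv D58558)) (tt N26994 D59764) (tt N25039 F262106) (tt N25291 F262107) (tt N24862 F262108) (tt N25041 F262109) (tt N24620 F262110))
theorem Q25790 : ∀ i, i < 25790 → P i := stepQ 25789 Q25789 (allL N25789 (tt N26990 (iv F266952)) (tt N26995 D59765) (tt N24620 (iv D58559)) (tt N25424 F262111) (tt N26996 D59766) (tt N25455 F262112) (tt N25292 F262113) (tt N25177 F262114) (tt N24622 F262115) (tt N26993 (iv F266976)))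
theorem Q25791 : ∀ i, i < 25791 → P i := stepQ 25790 Q25790 (allL N25790 (tt N26977 (iv F266881)) (tt N24627 F262116) (tt N26996 (iv F266991)) (tt N24658 F262117) (tt N24620 (iv D58560)) (tt N26974 (iv F266868)) (tt N25293 F262118) (tt N25178 F262119) (tt N24623 F262120) (tt N26994 (iv F266984)))
theorem Q25792 : ∀ i, i < 25792 → P i := stepQ 25791 Q25791 (allL N25791 (tt N25012 F262121) (tt N26997 D59767) (tt N24621 (iv D58561)) (tt N25074 F262122) (tt N25458 F262123) (tt N24622 F262124) (tt N25485 F262125) (tt N25459 F262126) (tt N25455 F262127) (tt N25069 F262128))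
theorem Q25793 : ∀ i, i < 25793 → P i := stepQ 25792 Q25792 (allL N25792 (tt N26998 D59768) (tt N24622 (iv D58562)) (tt N24631 F262129) (tt N25076 F262130) (tt N26999 D59769) (tt N26997 (iv F266999)) (tt N25297 F262131) (tt N26975 (iv F266876)) (tt N26995 (iv F266990)) (tt N26945 (iv F266714)))
theorem Q25794 : ∀ i, i < 25794 → P i := stepQ 25793 Q25793 (allL N25793 (tt N26992 (iv F266964)) (tt N26999 (iv F267007)) (tt N24623 F262132) (tt N26896 (iv F266452)) (tt N24622 (iv D58563)) (tt N27000 D59770) (tt N25298 F262133) (tt N26976 (iv F266879)) (tt N26996 (iv F266995)) (tt N26946 (iv F266720)))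
theorem Q25795 : ∀ i, i < 25795 → P i := stepQ 25794 Q25794 (allL N25794 (tt N25178 F262134) (tt N24633 F262135) (tt N27000 (iv F267011)) (tt N24624 F262136) (tt N25176 F262137) (tt N24623 (iv D58564)) (tt N24902 F262138) (tt N26977 (iv F266886)) (tt N26974 (iv F266871)) (tt N25310 F262139))
theorem Q25796 : ∀ i, i < 25796 → P i := stepQ 25795 Q25795 (allL N25795 (tt N25236 F262140) (tt N27001 D59771) (tt N24625 (iv D58565)) (tt N25173 F262141) (tt N27002 D59772) (tt N25062 F262142) (tt N25303 F262143) (tt N25097 F262144) (tt N26948 (iv F266733)) (tt N24626 F262145))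
theorem Q25797 : ∀ i, i < 25797 → P i := stepQ 25796 Q25796 (allL N25796 (tt N25237 F262146) (tt N26994 (iv F266978)) (tt N27002 (iv F267022)) (tt N24659 F262147) (tt N24625 (iv D58566)) (tt N25060 F262148) (tt N25304 F262149) (tt N25094 F262150) (tt N26949 (iv F266741)) (tt N24627 F262151))
theorem Q25798 : ∀ i, i < 25798 → P i := stepQ 25797 Q25797 (allL N25797 (tt N27003 D59773) (tt N24626 (iv D58567)) (tt N26995 (iv F266985)) (tt N25175 F262152) (tt N27004 D59774) (tt N25456 F262153) (tt N25305 F262154) (tt N25179 F262155) (tt N24631 F262156) (tt N27001 (iv F267020)))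
theorem Q25799 : ∀ i, i < 25799 → P i := stepQ 25798 Q25798 (allL N25798 (tt N25523 F262157) (tt N27004 (iv F267034)) (tt N24627 F262158) (tt N25283 F262159) (tt N24626 (iv D58568)) (tt N27005 D59775) (tt N25306 F262160) (tt N25180 F262161) (tt N24632 F262162) (tt N27002 (iv F267027)))
theorem Q25800 : ∀ i, i < 25800 → P i := stepQ 25799 Q25799 (allL N25799 (tt N25524 F262163) (tt N26974 (iv F266866)) (tt N27005 (iv F267040)) (tt N24660 F262164) (tt N25004 F262165) (tt N24627 (iv D58569)) (tt N27006 D59776) (tt N25019 F262166) (tt N24633 F262167) (tt N25060 F262168))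
theorem Q25801 : ∀ i, i < 25801 → P i := stepQ 25800 Q25800 (allL N25800 (tt N25039 F262169) (tt N25015 F262170) (tt N27007 D59777) (tt N24628 (iv D58570)) (tt N25049 F262171) (tt N25308 F262172) (tt N24939 F262173) (tt N24629 F262174) (tt N24935 F262175) (tt N25011 F262176))
theorem Q25802 : ∀ i, i < 25802 → P i := stepQ 25801 Q25801 (allL N25801 (tt N25077 F262177) (tt N27008 D59778) (tt N24629 (iv D58571)) (tt N24636 F262178) (tt N25069 F262179) (tt N25309 F262180) (tt N24630 F262181) (tt N27007 (iv F267059)) (tt N25451 F262182) (tt N25458 F262183))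
theorem Q25803 : ∀ i, i < 25803 → P i := stepQ 25802 Q25802 (allL N25802 (tt N27009 D59779) (tt N24630 (iv D58572)) (tt N26997 (iv F266996)) (tt N24638 F262184) (tt N25533 F262185) (tt N24631 F262186) (tt N27008 (iv F267066)) (tt N25462 F262187) (tt N25456 F262188) (tt N26953 (iv F266762)))
theorem Q25804 : ∀ i, i < 25804 → P i := stepQ 25803 Q25803 (allL N25803 (tt N24631 (iv D58573)) (tt N26891 (iv F266415)) (tt N26998 (iv F267004)) (tt N24640 F262189) (tt N27010 D59780) (tt N27009 (iv F267072)) (tt N25313 F262190) (tt N26978 (iv F266892)) (tt N27003 (iv F267033)) (tt N26954 (iv F266765)))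
theorem Q25805 : ∀ i, i < 25805 → P i := stepQ 25804 Q25804 (allL N25804 (tt N27010 (iv F267075)) (tt N24632 F262191) (tt N26999 (iv F267008)) (tt N26843 (iv F266119)) (tt N24631 (iv D58574)) (tt N27011 D59781) (tt N25314 F262192) (tt N26979 (iv F266895)) (tt N27004 (iv F267038)) (tt N26955 (iv F266768)))
theorem Q25806 : ∀ i, i < 25806 → P i := stepQ 25805 Q25805 (allL N25805 (tt N25537 F262193) (tt N27011 (iv F267077)) (tt N24633 F262194) (tt N26844 (iv F266123)) (tt N25532 F262195) (tt N24632 (iv D58575)) (tt N27012 D59782) (tt N26980 (iv F266900)) (tt N27005 (iv F267044)) (tt N26956 (iv F266772)))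
theorem Q25807 : ∀ i, i < 25807 → P i := stepQ 25806 Q25806 (allL N25806 (tt N25535 F262196) (tt N24902 F262197) (tt N27012 (iv F267080)) (tt N24634 F262198) (tt N25252 F262199) (tt N25124 F262200) (tt N24633 (iv D58576)) (tt N25468 (iv F262202)) (tt N27006 (iv F267051)) (tt N25296 F262201))
theorem Q25808 : ∀ i, i < 25808 → P i := stepQ 25807 Q25807 (allL N25807 (tt N26893 (iv F266429)) (tt N27013 D59783) (tt N24635 (iv D58577)) (tt N27007 (iv F267055)) (tt N27014 D59784) (tt N25316 F262203) (tt N26982 (iv F266910)) (tt N24636 F262204) (tt N26769 (iv F265685)) (tt N26957 (iv F266780)))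
theorem Q25809 : ∀ i, i < 25809 → P i := stepQ 25808 Q25808 (allL N25808 (tt N26894 (iv F266436)) (tt N25099 F262205) (tt N27014 (iv F267088)) (tt N24647 F262206) (tt N24635 (iv D58578)) (tt N25390 F262207) (tt N26983 (iv F266917)) (tt N24637 F262208) (tt N25394 F262209) (tt N26958 (iv F266788)))
theorem Q25810 : ∀ i, i < 25810 → P i := stepQ 25809 Q25809 (allL N25809 (tt N27015 D59785) (tt N24636 (iv D58579)) (tt N25100 F262210) (tt N27008 (iv F267063)) (tt N27016 D59786) (tt N25317 F262211) (tt N24638 F262212) (tt N27013 (iv F267087)) (tt N26770 (iv F265691)) (tt N26959 (iv F266794)))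
theorem Q25811 : ∀ i, i < 25811 → P i := stepQ 25810 Q25810 (allL N25810 (tt N26896 (iv F266450)) (tt N27016 (iv F267095)) (tt N24637 F262213) (tt N26992 (iv F266966)) (tt N24636 (iv D58580)) (tt N26874 (iv F266312)) (tt N24639 F262214) (tt N27014 (iv F267090)) (tt N26771 (iv F265699)) (tt N26960 (iv F266801)))
theorem Q25812 : ∀ i, i < 25812 → P i := stepQ 25811 Q25811 (allL N25811 (tt N24638 (iv D58581)) (tt N26897 (iv F266457)) (tt N25102 F262215) (tt N27009 (iv F267070)) (tt N27017 D59787) (tt N24640 F262216) (tt N27015 (iv F267094)) (tt N26987 (iv F266940)) (tt N26772 (iv F265706)) (tt N26961 (iv F266804)))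
theorem Q25813 : ∀ i, i < 25813 → P i := stepQ 25812 Q25812 (allL N25812 (tt N27017 (iv F267098)) (tt N24639 F262217) (tt N25103 F262218) (tt N27018 D59788) (tt N24638 (iv D58582)) (tt N26847 (iv F266137)) (tt N27016 (iv F267097)) (tt N26988 (iv F266944)) (tt N26773 (iv F265710)) (tt N26962 (iv F266807)))
theorem Q25814 : ∀ i, i < 25814 → P i := stepQ 25813 Q25813 (allL N25813 (tt N25298 F262219) (tt N27018 (iv F267100)) (tt N24649 F262220) (tt N24639 (iv D58583)) (tt N25289 F262221) (tt N26848 (iv F266141)) (tt N26992 (iv F266968)) (tt N26989 (iv F266950)) (tt N27019 D59789) (tt N26963 (iv F266812)))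
theorem Q25815 : ∀ i, i < 25815 → P i := stepQ 25814 Q25814 (allL N25814 (tt N24852 F262222) (tt N25111 F262223) (tt N24904 F262224) (tt N26983 (iv F266916)) (tt N24643 (iv D58584)) (tt N24850 (iv F262229)) (tt N24647 F262225) (tt N24644 F262226) (tt N24650 F262227) (tt N25564 F262228))
theorem Q25816 : ∀ i, i < 25816 → P i := stepQ 25815 Q25815 (allL N25815 (tt N24859 F262230) (tt N25114 F262231) (tt N25134 F262232) (tt N26986 (iv F266933)) (tt N25815 F262233) (tt N24644 (iv D58585)) (tt N26853 (iv F266176)) (tt N24850 F262234) (tt N24651 F262235) (tt N26964 (iv F266819)))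
theorem Q25817 : ∀ i, i < 25817 → P i := stepQ 25816 Q25816 (allL N25816 (tt N25195 F262236) (tt N24646 F262237) (tt N25116 F262238) (tt N27020 D59790) (tt N24645 (iv D58586)) (tt N25469 F262239) (tt N25562 F262240) (tt N24648 F262241) (tt N24652 F262242) (tt N25118 F262243))
theorem Q25818 : ∀ i, i < 25818 → P i := stepQ 25817 Q25817 (allL N25817 (tt N25274 F262244) (tt N27020 (iv F267107)) (tt N26989 (iv F266947)) (tt N24646 (iv D58587)) (tt N24988 F262245) (tt N26854 (iv F266181)) (tt N25472 F262246) (tt N24649 F262247) (tt N24992 F262248) (tt N26965 (iv F266825)))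
theorem Q25819 : ∀ i, i < 25819 → P i := stepQ 25818 Q25818 (allL N25818 (tt N25206 F262249) (tt N24649 F262250) (tt N27021 D59791) (tt N24648 (iv D58588)) (tt N25017 F262251) (tt N26845 (iv F266128)) (tt N25019 F262252) (tt N27020 (iv F267111)) (tt N26981 (iv F266907)) (tt N25091 F262253))
theorem Q25820 : ∀ i, i < 25820 → P i := stepQ 25819 Q25819 (allL N25819 (tt N25293 F262254) (tt N26981 (iv F266903)) (tt N27019 (iv F267103)) (tt N24656 F262255) (tt N24975 F262256) (tt N26856 (iv F266192)) (tt N26977 (iv F266885)) (tt N24992 F262257) (tt N24649 (iv D58589)) (tt N27022 D59792))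
theorem Q25821 : ∀ i, i < 25821 → P i := stepQ 25820 Q25820 (allL N25820 (tt N25326 F262258) (tt N26911 (iv F266541)) (tt N26777 (iv F265733)) (tt N27022 (iv F267120)) (tt N24765 F262259) (tt N26858 (iv F266204)) (tt N25322 F262260) (tt N24774 F262261) (tt N25820 F262262) (tt N24656 (iv D58590)))
theorem Q25822 : ∀ i, i < 25822 → P i := stepQ 25821 Q25821 (allL N25821 (tt N25322 F262263) (tt N24659 F262264) (tt N24909 F262265) (tt N26994 (iv F266979)) (tt N24657 (iv D58591)) (tt N25105 F262266) (tt N25326 F262267) (tt N24863 F262268) (tt N25821 F262269) (tt N24658 F262270))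
theorem Q25823 : ∀ i, i < 25823 → P i := stepQ 25822 Q25822 (allL N25822 (tt N25561 F262271) (tt N24904 F262272) (tt N25285 F262273) (tt N27006 (iv F267048)) (tt N25027 F262274) (tt N25139 F262275) (tt N24660 (iv D58592)) (tt N25562 F262276) (tt N24661 F262277) (tt N25108 F262278))
theorem Q25824 : ∀ i, i < 25824 → P i := stepQ 25823 Q25823 (allL N25823 (tt N24777 F262279) (tt N24671 F262280) (tt N27023 D59793) (tt N24662 (iv D58593)) (tt N24712 F262281) (tt N24698 F262282) (tt N24727 F262283) (tt N24663 F262284) (tt N24861 F262285) (tt N24739 F262286))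
theorem Q25825 : ∀ i, i < 25825 → P i := stepQ 25824 Q25824 (allL N25824 (tt N25165 F262287) (tt N27024 D59794) (tt N24663 (iv D58594)) (tt N25379 F262288) (tt N24718 F262289) (tt N25377 F262290) (tt N25151 F262291) (tt N27023 (iv F267129)) (tt N24864 F262292) (tt N25361 F262293))
theorem Q25826 : ∀ i, i < 25826 → P i := stepQ 25825 Q25825 (allL N25825 (tt N24683 F262294) (tt N24739 F262295) (tt N27025 D59795) (tt N24664 (iv D58595)) (tt N24727 F262296) (tt N24687 F262297) (tt N24712 F262298) (tt N24668 F262299) (tt N24907 F262300) (tt N24671 F262301))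
theorem Q25827 : ∀ i, i < 25827 → P i := stepQ 25826 Q25826 (allL N25826 (tt N24687 F262302) (tt N24828 F262303) (tt N27026 D59796) (tt N24665 (iv D58596)) (tt N27027 D59797) (tt N24683 F262304) (tt N24819 F262305) (tt N24690 F262306) (tt N26864 (iv F266250)) (tt N24672 F262307))
theorem Q25828 : ∀ i, i < 25828 → P i := stepQ 25827 Q25827 (allL N25827 (tt N24688 F262308) (tt N24844 F262309) (tt N24733 F262310) (tt N27027 (iv F267155)) (tt N24666 (iv D58597)) (tt N24797 F262311) (tt N24842 F262312) (tt N24695 F262313) (tt N25827 F262314) (tt N24673 F262315))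
theorem Q25829 : ∀ i, i < 25829 → P i := stepQ 25828 Q25828 (allL N25828 (tt N24690 F262316) (tt N25161 F262317) (tt N27028 D59798) (tt N24667 (iv D58598)) (tt N27029 D59799) (tt N24668 F262318) (tt N25157 F262319) (tt N24687 F262320) (tt N25419 F262321) (tt N24674 F262322))
theorem Q25830 : ∀ i, i < 25830 → P i := stepQ 25829 Q25829 (allL N25829 (tt N24691 F262323) (tt N27030 D59800) (tt N24668 (iv D58599)) (tt N27026 (iv F267148)) (tt N24735 F262324) (tt N27028 (iv F267162)) (tt N25328 F262325) (tt N27025 (iv F267144)) (tt N25430 F262326) (tt N24675 F262327))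
theorem Q25831 : ∀ i, i < 25831 → P i := stepQ 25830 Q25830 (allL N25830 (tt N24695 F262328) (tt N25169 F262329) (tt N24781 F262330) (tt N27029 (iv F267169)) (tt N24669 (iv D58600)) (tt N24738 F262331) (tt N25168 F262332) (tt N24688 F262333) (tt N25830 F262334) (tt N24676 F262335))
theorem Q25832 : ∀ i, i < 25832 → P i := stepQ 25831 Q25831 (allL N25831 (tt N24696 F262336) (tt N24727 F262337) (tt N27031 D59801) (tt N24670 (iv D58601)) (tt N24739 F262338) (tt N24716 F262339) (tt N24671 F262340) (tt N24711 F262341) (tt N24865 F262342) (tt N24712 F262343))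
theorem Q25833 : ∀ i, i < 25833 → P i := stepQ 25832 Q25832 (allL N25832 (tt N24697 F262344) (tt N27032 D59802) (tt N24671 (iv D58602)) (tt N24705 F262345) (tt N24743 F262346) (tt N24701 F262347) (tt N27031 (iv F267184)) (tt N24675 F262348) (tt N24866 F262349) (tt N27025 (iv F267146)))
theorem Q25834 : ∀ i, i < 25834 → P i := stepQ 25833 Q25833 (allL N25833 (tt N24701 F262350) (tt N27033 D59803) (tt N24672 (iv D58603)) (tt N24675 F262351) (tt N27034 D59804) (tt N24697 F262352) (tt N25330 F262353) (tt N24705 F262354) (tt N24888 F262355) (tt N27026 (iv F267152)))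
theorem Q25835 : ∀ i, i < 25835 → P i := stepQ 25834 Q25834 (allL N25834 (tt N24702 F262356) (tt N25365 F262357) (tt N27034 (iv F267199)) (tt N24673 F262358) (tt N24672 (iv D58604)) (tt N24812 F262359) (tt N25331 F262360) (tt N24706 F262361) (tt N24889 F262362) (tt N27027 (iv F267159)))
theorem Q25836 : ∀ i, i < 25836 → P i := stepQ 25835 Q25835 (allL N25835 (tt N24705 F262363) (tt N27035 D59805) (tt N24674 (iv D58605)) (tt N24697 F262364) (tt N27036 D59806) (tt N24675 F262365) (tt N25382 F262366) (tt N24701 F262367) (tt N24867 F262368) (tt N27028 (iv F267166)))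
theorem Q25837 : ∀ i, i < 25837 → P i := stepQ 25836 Q25836 (allL N25836 (tt N24706 F262369) (tt N25378 F262370) (tt N27036 (iv F267212)) (tt N24676 F262371) (tt N24674 (iv D58606)) (tt N24752 F262372) (tt N25383 F262373) (tt N24702 F262374) (tt N24868 F262375) (tt N27029 (iv F267174)))
theorem Q25838 : ∀ i, i < 25838 → P i := stepQ 25837 Q25837 (allL N25837 (tt N27037 D59807) (tt N24675 (iv D58607)) (tt N27024 (iv F267132)) (tt N27033 (iv F267193)) (tt N24753 F262376) (tt N27035 (iv F267207)) (tt N25333 F262377) (tt N27032 (iv F267191)) (tt N24869 F262378) (tt N27030 (iv F267179)))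
theorem Q25839 : ∀ i, i < 25839 → P i := stepQ 25838 Q25838 (allL N25838 (tt N25334 F262379) (tt N24823 F262380) (tt N24686 F262381) (tt N27038 D59808) (tt N25838 F262382) (tt N24817 F262383) (tt N24870 F262384) (tt N25341 F262385) (tt N24677 (iv D58608)) (tt N24816 F262386))
theorem Q25840 : ∀ i, i < 25840 → P i := stepQ 25839 Q25839 (allL N25839 (tt N25341 F262387) (tt N24787 F262388) (tt N24681 F262389) (tt N27039 D59809) (tt N25839 F262390) (tt N24679 F262391) (tt N24876 F262392) (tt N25334 F262393) (tt N24678 (iv D58609)) (tt N24784 F262394))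
theorem Q25841 : ∀ i, i < 25841 → P i := stepQ 25840 Q25840 (allL N25840 (tt N25343 F262395) (tt N26796 (iv F265855)) (tt N27040 D59810) (tt N24679 (iv D58610)) (tt N27041 D59811) (tt N27039 (iv F267231)) (tt N24878 F262396) (tt N26863 (iv F266242)) (tt N27038 (iv F267227)) (tt N24872 F262397))
theorem Q25842 : ∀ i, i < 25842 → P i := stepQ 25841 Q25841 (allL N25841 (tt N25355 F262398) (tt N26811 (iv F265940)) (tt N24774 F262399) (tt N27041 (iv F267241)) (tt N24680 (iv D58611)) (tt N27042 D59812) (tt N24883 F262400) (tt N26777 (iv F265736)) (tt N25841 F262401) (tt N24873 F262402))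
theorem Q25843 : ∀ i, i < 25843 → P i := stepQ 25842 Q25842 (allL N25842 (tt N25419 F262403) (tt N25192 F262404) (tt N27043 D59813) (tt N24681 (iv D58612)) (tt N27044 D59814) (tt N24682 F262405) (tt N25408 F262406) (tt N26864 (iv F266249)) (tt N24690 F262407) (tt N24874 F262408))
theorem Q25844 : ∀ i, i < 25844 → P i := stepQ 25843 Q25843 (allL N25843 (tt N25430 F262409) (tt N27045 D59815) (tt N24682 (iv D58613)) (tt N27040 (iv F267237)) (tt N24776 F262410) (tt N27043 (iv F267251)) (tt N25182 F262411) (tt N26865 (iv F266255)) (tt N24691 F262412) (tt N24875 F262413))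
theorem Q25845 : ∀ i, i < 25845 → P i := stepQ 25844 Q25844 (allL N25844 (tt N27025 (iv F267139)) (tt N27046 D59816) (tt N24683 (iv D58614)) (tt N27028 (iv F267161)) (tt N24783 F262414) (tt N27026 (iv F267149)) (tt N25391 F262415) (tt N24691 F262416) (tt N26865 (iv F266256)) (tt N24697 F262417))
theorem Q25846 : ∀ i, i < 25846 → P i := stepQ 25845 Q25845 (allL N25845 (tt N24802 F262418) (tt N24687 F262419) (tt N27047 D59817) (tt N24684 (iv D58615)) (tt N27048 D59818) (tt N24739 F262420) (tt N24780 F262421) (tt N25161 F262422) (tt N24936 F262423) (tt N24698 F262424))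
theorem Q25847 : ∀ i, i < 25847 → P i := stepQ 25846 Q25846 (allL N25846 (tt N25369 F262425) (tt N24688 F262426) (tt N25168 F262427) (tt N27048 (iv F267281)) (tt N24685 (iv D58616)) (tt N24717 F262428) (tt N24781 F262429) (tt N25169 F262430) (tt N25846 F262431) (tt N24699 F262432))
theorem Q25848 : ∀ i, i < 25848 → P i := stepQ 25847 Q25847 (allL N25847 (tt N26864 (iv F266245)) (tt N24936 F262433) (tt N27049 D59819) (tt N24686 (iv D58617)) (tt N27050 D59820) (tt N24907 F262434) (tt N25335 F262435) (tt N25419 F262436) (tt N24687 F262437) (tt N25425 F262438))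
theorem Q25849 : ∀ i, i < 25849 → P i := stepQ 25848 Q25848 (allL N25848 (tt N27026 (iv F267147)) (tt N27051 D59821) (tt N24687 (iv D58618)) (tt N24691 F262439) (tt N27052 D59822) (tt N27025 (iv F267142)) (tt N25336 F262440) (tt N27028 (iv F267164)) (tt N27049 (iv F267290)) (tt N24701 F262441))
theorem Q25850 : ∀ i, i < 25850 → P i := stepQ 25849 Q25849 (allL N25849 (tt N27027 (iv F267153)) (tt N27048 (iv F267280)) (tt N27052 (iv F267301)) (tt N24688 F262442) (tt N24687 (iv D58619)) (tt N27053 D59823) (tt N25337 F262443) (tt N27029 (iv F267172)) (tt N27050 (iv F267296)) (tt N24702 F262444))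
theorem Q25851 : ∀ i, i < 25851 → P i := stepQ 25850 Q25850 (allL N25850 (tt N24797 F262445) (tt N24717 F262446) (tt N24792 F262447) (tt N27053 (iv F267307)) (tt N24692 F262448) (tt N24688 (iv D58620)) (tt N24841 (iv F262452)) (tt N24738 F262449) (tt N25850 F262450) (tt N24703 F262451))
theorem Q25852 : ∀ i, i < 25852 → P i := stepQ 25851 Q25851 (allL N25851 (tt N25157 F262453) (tt N24734 F262454) (tt N27054 D59824) (tt N24689 (iv D58621)) (tt N27055 D59825) (tt N24711 F262455) (tt N24690 F262456) (tt N24716 F262457) (tt N25408 F262458) (tt N24704 F262459))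
theorem Q25853 : ∀ i, i < 25853 → P i := stepQ 25852 Q25852 (allL N25852 (tt N27028 (iv F267160)) (tt N27056 D59826) (tt N24690 (iv D58622)) (tt N27025 (iv F267140)) (tt N27057 D59827) (tt N24691 F262460) (tt N27054 (iv F267315)) (tt N27026 (iv F267151)) (tt N27043 (iv F267253)) (tt N24705 F262461))
theorem Q25854 : ∀ i, i < 25854 → P i := stepQ 25853 Q25853 (allL N25853 (tt N27029 (iv F267167)) (tt N26750 (iv F265547)) (tt N27057 (iv F267329)) (tt N24695 F262462) (tt N24690 (iv D58623)) (tt N24795 F262463) (tt N27055 (iv F267323)) (tt N27027 (iv F267158)) (tt N27044 (iv F267260)) (tt N24706 F262464))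
theorem Q25855 : ∀ i, i < 25855 → P i := stepQ 25854 Q25854 (allL N25854 (tt N27058 D59828) (tt N24691 (iv D58624)) (tt N26751 (iv F265554)) (tt N27051 (iv F267298)) (tt N24796 F262465) (tt N27056 (iv F267327)) (tt N25339 F262466) (tt N27046 (iv F267270)) (tt N27045 (iv F267265)) (tt N24707 F262467))
theorem Q25856 : ∀ i, i < 25856 → P i := stepQ 25855 Q25855 (allL N25855 (tt N25168 F262468) (tt N24738 F262469) (tt N25369 F262470) (tt N27055 (iv F267321)) (tt N24693 (iv D58625)) (tt N25169 F262471) (tt N24695 F262472) (tt N24717 F262473) (tt N25855 F262474) (tt N24708 F262475))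
theorem Q25857 : ∀ i, i < 25857 → P i := stepQ 25856 Q25856 (allL N25856 (tt N24781 F262476) (tt N24756 F262477) (tt N24695 F262478) (tt N27059 D59829) (tt N24694 (iv D58626)) (tt N24801 F262479) (tt N25369 F262480) (tt N24733 F262481) (tt N25856 F262482) (tt N24709 F262483))
theorem Q25858 : ∀ i, i < 25858 → P i := stepQ 25857 Q25857 (allL N25857 (tt N27031 (iv F267180)) (tt N27060 D59830) (tt N24696 (iv D58627)) (tt N25382 F262484) (tt N24803 F262485) (tt N25367 F262486) (tt N24697 F262487) (tt N25158 F262488) (tt N24886 F262489) (tt N25391 F262490))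
theorem Q25859 : ∀ i, i < 25859 → P i := stepQ 25858 Q25858 (allL N25858 (tt N27061 D59831) (tt N24697 (iv D58628)) (tt N26753 (iv F265569)) (tt N27035 (iv F267206)) (tt N24813 F262491) (tt N27033 (iv F267194)) (tt N27060 (iv F267347)) (tt N24707 F262492) (tt N24890 F262493) (tt N27046 (iv F267271)))
theorem Q25860 : ∀ i, i < 25860 → P i := stepQ 25859 Q25859 (allL N25859 (tt N26769 (iv F265679)) (tt N27062 D59832) (tt N24698 (iv D58629)) (tt N24803 F262494) (tt N27063 D59833) (tt N27023 (iv F267127)) (tt N24809 F262495) (tt N25377 F262496) (tt N26893 (iv F266434)) (tt N27047 (iv F267278)))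
theorem Q25861 : ∀ i, i < 25861 → P i := stepQ 25860 Q25860 (allL N25860 (tt N25394 F262497) (tt N24702 F262498) (tt N27063 (iv F267359)) (tt N24699 F262499) (tt N24698 (iv D58630)) (tt N25388 F262500) (tt N24810 F262501) (tt N25378 F262502) (tt N26894 (iv F266442)) (tt N27048 (iv F267286)))
theorem Q25862 : ∀ i, i < 25862 → P i := stepQ 25861 Q25861 (allL N25861 (tt N24888 F262503) (tt N27064 D59834) (tt N24700 (iv D58631)) (tt N24892 F262504) (tt N27065 D59835) (tt N24866 F262505) (tt N25344 F262506) (tt N24867 F262507) (tt N24701 F262508) (tt N25427 F262509))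
theorem Q25863 : ∀ i, i < 25863 → P i := stepQ 25862 Q25862 (allL N25862 (tt N24889 F262510) (tt N26894 (iv F266437)) (tt N27065 (iv F267371)) (tt N24710 F262511) (tt N24700 (iv D58632)) (tt N24945 F262512) (tt N25345 F262513) (tt N24868 F262514) (tt N24702 F262515) (tt N25428 F262516))
theorem Q25864 : ∀ i, i < 25864 → P i := stepQ 25863 Q25863 (allL N25863 (tt N27066 D59836) (tt N24701 (iv D58633)) (tt N27062 (iv F267354)) (tt N24707 F262517) (tt N27067 D59837) (tt N27032 (iv F267190)) (tt N25348 F262518) (tt N27035 (iv F267209)) (tt N27064 (iv F267368)) (tt N27051 (iv F267300)))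
theorem Q25865 : ∀ i, i < 25865 → P i := stepQ 25864 Q25864 (allL N25864 (tt N27034 (iv F267198)) (tt N27067 (iv F267380)) (tt N24702 F262519) (tt N24832 F262520) (tt N24701 (iv D58634)) (tt N27068 D59838) (tt N25349 F262521) (tt N27036 (iv F267216)) (tt N27065 (iv F267376)) (tt N27052 (iv F267304)))
theorem Q25866 : ∀ i, i < 25866 → P i := stepQ 25865 Q25865 (allL N25865 (tt N24812 F262522) (tt N25388 F262523) (tt N27068 (iv F267384)) (tt N24703 F262524) (tt N24742 F262525) (tt N24702 (iv D58635)) (tt N26775 (iv F265721)) (tt N24752 F262526) (tt N24945 F262527) (tt N27053 (iv F267310)))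
theorem Q25867 : ∀ i, i < 25867 → P i := stepQ 25866 Q25866 (allL N25866 (tt N25382 F262528) (tt N27069 D59839) (tt N24704 (iv D58636)) (tt N27031 (iv F267181)) (tt N27070 D59840) (tt N24718 F262529) (tt N24705 F262530) (tt N25387 F262531) (tt N24896 F262532) (tt N27054 (iv F267318)))
theorem Q25868 : ∀ i, i < 25868 → P i := stepQ 25867 Q25867 (allL N25867 (tt N25383 F262533) (tt N24752 F262534) (tt N27070 (iv F267395)) (tt N24708 F262535) (tt N24704 (iv D58637)) (tt N25378 F262536) (tt N24706 F262537) (tt N25388 F262538) (tt N24897 F262539) (tt N27055 (iv F267326)))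
theorem Q25869 : ∀ i, i < 25869 → P i := stepQ 25868 Q25868 (allL N25868 (tt N27071 D59841) (tt N24705 (iv D58638)) (tt N26756 (iv F265591)) (tt N27032 (iv F267188)) (tt N27072 D59842) (tt N24707 F262540) (tt N27069 (iv F267391)) (tt N27033 (iv F267196)) (tt N24898 F262541) (tt N27056 (iv F267328)))
theorem Q25870 : ∀ i, i < 25870 → P i := stepQ 25869 Q25869 (allL N25869 (tt N27036 (iv F267211)) (tt N27072 (iv F267403)) (tt N24706 F262542) (tt N27073 D59843) (tt N24705 (iv D58639)) (tt N24839 F262543) (tt N27070 (iv F267398)) (tt N27034 (iv F267203)) (tt N24899 F262544) (tt N27057 (iv F267331)))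
theorem Q25871 : ∀ i, i < 25871 → P i := stepQ 25870 Q25870 (allL N25870 (tt N24707 (iv D58640)) (tt N27037 (iv F267218)) (tt N26758 (iv F265602)) (tt N27066 (iv F267378)) (tt N24840 F262545) (tt N27071 (iv F267401)) (tt N25353 F262546) (tt N27061 (iv F267352)) (tt N24900 F262547) (tt N27058 (iv F267334)))
theorem Q25872 : ∀ i, i < 25872 → P i := stepQ 25871 Q25871 (allL N25871 (tt N24810 F262548) (tt N25405 F262549) (tt N27073 (iv F267407)) (tt N24709 (iv D58641)) (tt N24740 F262550) (tt N24847 F262551) (tt N25394 F262552) (tt N24749 F262553) (tt N26983 (iv F266919)) (tt N27059 (iv F267341)))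
theorem Q25873 : ∀ i, i < 25873 → P i := stepQ 25872 Q25872 (allL N25872 (tt N25158 F262554) (tt N27074 D59844) (tt N24711 (iv D58642)) (tt N25387 F262555) (tt N25361 F262556) (tt N27054 (iv F267314)) (tt N25329 F262557) (tt N27031 (iv F267185)) (tt N25409 F262558) (tt N24718 F262559))
theorem Q25874 : ∀ i, i < 25874 → P i := stepQ 25873 Q25873 (allL N25873 (tt N25391 F262560) (tt N27075 D59845) (tt N24712 (iv D58643)) (tt N27054 (iv F267313)) (tt N27023 (iv F267126)) (tt N25387 F262561) (tt N27025 (iv F267143)) (tt N24718 F262562) (tt N24910 F262563) (tt N27031 (iv F267187)))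
theorem Q25875 : ∀ i, i < 25875 → P i := stepQ 25874 Q25874 (allL N25874 (tt N24766 F262564) (tt N24715 F262565) (tt N25052 F262566) (tt N27076 D59846) (tt N25874 F262567) (tt N24719 F262568) (tt N24805 F262569) (tt N24724 F262570) (tt N24713 (iv D58644)) (tt N24915 F262571))
theorem Q25876 : ∀ i, i < 25876 → P i := stepQ 25875 Q25875 (allL N25875 (tt N24782 F262572) (tt N24716 F262573) (tt N27077 D59847) (tt N24714 (iv D58645)) (tt N27053 (iv F267308)) (tt N24727 F262574) (tt N24808 F262575) (tt N24734 F262576) (tt N27076 (iv F267427)) (tt N24742 F262577))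
theorem Q25877 : ∀ i, i < 25877 → P i := stepQ 25876 Q25876 (allL N25876 (tt N24885 F262578) (tt N27076 (iv F267423)) (tt N27078 D59848) (tt N24715 (iv D58646)) (tt N27079 D59849) (tt N24865 F262579) (tt N25342 F262580) (tt N25408 F262581) (tt N24716 F262582) (tt N25417 F262583))
theorem Q25878 : ∀ i, i < 25878 → P i := stepQ 25877 Q25877 (allL N25877 (tt N25367 F262584) (tt N27080 D59850) (tt N24716 (iv D58647)) (tt N24718 F262585) (tt N27081 D59851) (tt N27031 (iv F267183)) (tt N25346 F262586) (tt N27054 (iv F267316)) (tt N27078 (iv F267440)) (tt N25387 F262587))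
theorem Q25879 : ∀ i, i < 25879 → P i := stepQ 25878 Q25878 (allL N25878 (tt N25368 F262588) (tt N27053 (iv F267306)) (tt N27081 (iv F267453)) (tt N24717 F262589) (tt N24716 (iv D58648)) (tt N27048 (iv F267282)) (tt N25347 F262590) (tt N27055 (iv F267324)) (tt N27079 (iv F267447)) (tt N25388 F262591))
theorem Q25880 : ∀ i, i < 25880 → P i := stepQ 25879 Q25879 (allL N25879 (tt N27082 D59852) (tt N24718 (iv D58649)) (tt N24753 F262592) (tt N27080 (iv F267449)) (tt N27024 (iv F267134)) (tt N27069 (iv F267390)) (tt N25352 F262593) (tt N27075 (iv F267420)) (tt N24914 F262594) (tt N27074 (iv F267417)))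
theorem Q25881 : ∀ i, i < 25881 → P i := stepQ 25880 Q25880 (allL N25880 (tt N24767 F262595) (tt N24865 F262596) (tt N27083 D59853) (tt N24719 (iv D58650)) (tt N24907 F262597) (tt N27076 (iv F267424)) (tt N24861 F262598) (tt N24725 F262599) (tt N24727 F262600) (tt N24916 F262601))
theorem Q25882 : ∀ i, i < 25882 → P i := stepQ 25881 Q25881 (allL N25881 (tt N24771 F262602) (tt N25246 F262603) (tt N24730 F262604) (tt N27084 D59854) (tt N25881 F262605) (tt N25057 F262606) (tt N25196 F262607) (tt N25040 F262608) (tt N24720 (iv D58651)) (tt N25243 F262609))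
theorem Q25883 : ∀ i, i < 25883 → P i := stepQ 25882 Q25882 (allL N25882 (tt N24772 F262610) (tt N25275 F262611) (tt N24724 F262612) (tt N27085 D59855) (tt N25882 F262613) (tt N24722 F262614) (tt N25078 F262615) (tt N25052 F262616) (tt N24721 (iv D58652)) (tt N24917 F262617))
theorem Q25884 : ∀ i, i < 25884 → P i := stepQ 25883 Q25883 (allL N25883 (tt N24773 F262618) (tt N25277 F262619) (tt N27086 D59856) (tt N24722 (iv D58653)) (tt N27087 D59857) (tt N27085 (iv F267476)) (tt N25198 F262620) (tt N25291 F262621) (tt N27084 (iv F267472)) (tt N24918 F262622))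
theorem Q25885 : ∀ i, i < 25885 → P i := stepQ 25884 Q25884 (allL N25884 (tt N24774 F262623) (tt N25323 F262624) (tt N25355 F262625) (tt N27087 (iv F267488)) (tt N24723 (iv D58654)) (tt N27088 D59858) (tt N25219 F262626) (tt N25326 F262627) (tt N25884 F262628) (tt N24919 F262629))
theorem Q25886 : ∀ i, i < 25886 → P i := stepQ 25885 Q25885 (allL N25885 (tt N24775 F262630) (tt N25408 F262631) (tt N27089 D59859) (tt N24724 (iv D58655)) (tt N27090 D59860) (tt N24725 F262632) (tt N25192 F262633) (tt N27076 (iv F267426)) (tt N24734 F262634) (tt N24920 F262635))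
theorem Q25887 : ∀ i, i < 25887 → P i := stepQ 25886 Q25886 (allL N25886 (tt N24776 F262636) (tt N27091 D59861) (tt N24725 (iv D58656)) (tt N27086 (iv F267482)) (tt N25430 F262637) (tt N27089 (iv F267500)) (tt N25202 F262638) (tt N27083 (iv F267464)) (tt N24735 F262639) (tt N24921 F262640))
theorem Q25888 : ∀ i, i < 25888 → P i := stepQ 25887 Q25887 (allL N25887 (tt N24780 F262641) (tt N24747 F262642) (tt N27092 D59862) (tt N24726 (iv D58657)) (tt N27059 (iv F267337)) (tt N24744 F262643) (tt N24802 F262644) (tt N24732 F262645) (tt N25045 F262646) (tt N24740 F262647))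
theorem Q25889 : ∀ i, i < 25889 → P i := stepQ 25888 Q25888 (allL N25888 (tt N24783 F262648) (tt N27093 D59863) (tt N24727 (iv D58658)) (tt N27092 (iv F267517)) (tt N27025 (iv F267141)) (tt N27077 (iv F267431)) (tt N27023 (iv F267128)) (tt N24735 F262649) (tt N27083 (iv F267465)) (tt N24743 F262650))
theorem Q25890 : ∀ i, i < 25890 → P i := stepQ 25889 Q25889 (allL N25889 (tt N24808 F262651) (tt N24732 F262652) (tt N27094 D59864) (tt N24728 (iv D58659)) (tt N27095 D59865) (tt N24740 F262653) (tt N24782 F262654) (tt N24747 F262655) (tt N26967 (iv F266836)) (tt N24744 F262656))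
theorem Q25891 : ∀ i, i < 25891 → P i := stepQ 25890 Q25890 (allL N25890 (tt N24841 F262657) (tt N24733 F262658) (tt N24846 F262659) (tt N27095 (iv F267533)) (tt N24729 (iv D58660)) (tt N24845 F262660) (tt N24797 F262661) (tt N24756 F262662) (tt N25890 F262663) (tt N24746 F262664))
theorem Q25892 : ∀ i, i < 25892 → P i := stepQ 25891 Q25891 (allL N25891 (tt N24788 F262665) (tt N26967 (iv F266832)) (tt N27096 D59866) (tt N24730 (iv D58661)) (tt N27097 D59867) (tt N25063 F262666) (tt N25357 F262667) (tt N25045 F262668) (tt N24732 F262669) (tt N26906 (iv F266516)))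
theorem Q25893 : ∀ i, i < 25893 → P i := stepQ 25892 Q25892 (allL N25892 (tt N24789 F262670) (tt N24740 F262671) (tt N27098 D59868) (tt N24731 (iv D58662)) (tt N25405 F262672) (tt N24732 F262673) (tt N24835 F262674) (tt N24744 F262675) (tt N25063 F262676) (tt N24747 F262677))
theorem Q25894 : ∀ i, i < 25894 → P i := stepQ 25893 Q25893 (allL N25893 (tt N24790 F262678) (tt N27099 D59869) (tt N24732 (iv D58663)) (tt N24735 F262679) (tt N27100 D59870) (tt N27098 (iv F267551)) (tt N25358 F262680) (tt N27092 (iv F267520)) (tt N27096 (iv F267542)) (tt N24748 F262681))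
theorem Q25895 : ∀ i, i < 25895 → P i := stepQ 25894 Q25894 (allL N25894 (tt N24791 F262682) (tt N27095 (iv F267532)) (tt N27100 (iv F267560)) (tt N24733 F262683) (tt N24732 (iv D58664)) (tt N27101 D59871) (tt N25359 F262684) (tt N27059 (iv F267340)) (tt N27097 (iv F267547)) (tt N24749 F262685))
theorem Q25896 : ∀ i, i < 25896 → P i := stepQ 25895 Q25895 (allL N25895 (tt N24792 F262686) (tt N24845 F262687) (tt N24797 F262688) (tt N27101 (iv F267565)) (tt N24736 F262689) (tt N24733 (iv D58665)) (tt N24846 F262690) (tt N24801 F262691) (tt N25895 F262692) (tt N24750 F262693))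
theorem Q25897 : ∀ i, i < 25897 → P i := stepQ 25896 Q25896 (allL N25896 (tt N24794 F262694) (tt N27102 D59872) (tt N24734 (iv D58666)) (tt N27098 (iv F267549)) (tt N27103 D59873) (tt N24735 F262695) (tt N26749 (iv F265542)) (tt N27077 (iv F267433)) (tt N27089 (iv F267502)) (tt N24751 F262696))
theorem Q25898 : ∀ i, i < 25898 → P i := stepQ 25897 Q25897 (allL N25897 (tt N24795 F262697) (tt N27055 (iv F267320)) (tt N27103 (iv F267573)) (tt N24738 F262698) (tt N24734 (iv D58667)) (tt N27029 (iv F267170)) (tt N26750 (iv F265550)) (tt N27053 (iv F267309)) (tt N27090 (iv F267509)) (tt N24752 F262699))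
theorem Q25899 : ∀ i, i < 25899 → P i := stepQ 25898 Q25898 (allL N25898 (tt N27104 D59874) (tt N24735 (iv D58668)) (tt N27074 (iv F267412)) (tt N27099 (iv F267556)) (tt N27030 (iv F267176)) (tt N27102 (iv F267570)) (tt N25360 F262700) (tt N27093 (iv F267523)) (tt N27091 (iv F267514)) (tt N24753 F262701))
theorem Q25900 : ∀ i, i < 25900 → P i := stepQ 25899 Q25899 (allL N25899 (tt N24801 F262702) (tt N25338 F262703) (tt N24738 F262704) (tt N27105 D59875) (tt N24737 (iv D58669)) (tt N24781 F262705) (tt N25354 F262706) (tt N24792 F262707) (tt N25899 F262708) (tt N24758 F262709))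
theorem Q25901 : ∀ i, i < 25901 → P i := stepQ 25900 Q25900 (allL N25900 (tt N24803 F262710) (tt N27106 D59876) (tt N24739 (iv D58670)) (tt N26769 (iv F265680)) (tt N27031 (iv F267182)) (tt N27047 (iv F267274)) (tt N24743 F262711) (tt N25361 F262712) (tt N24937 F262713) (tt N27023 (iv F267131)))
theorem Q25902 : ∀ i, i < 25902 → P i := stepQ 25901 Q25901 (allL N25901 (tt N24809 F262714) (tt N27107 D59877) (tt N24740 (iv D58671)) (tt N24743 F262715) (tt N27073 (iv F267408)) (tt N27094 (iv F267527)) (tt N26769 (iv F265683)) (tt N24748 F262716) (tt N26982 (iv F266912)) (tt N27092 (iv F267522)))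
theorem Q25903 : ∀ i, i < 25903 → P i := stepQ 25902 Q25902 (allL N25902 (tt N24744 F262717) (tt N24815 F262718) (tt N27108 D59878) (tt N24741 (iv D58672)) (tt N26775 (iv F265719)) (tt N24780 F262719) (tt N24742 F262720) (tt N24789 F262721) (tt N24943 F262722) (tt N24808 F262723))
theorem Q25904 : ∀ i, i < 25904 → P i := stepQ 25903 Q25903 (allL N25903 (tt N24811 F262724) (tt N27109 D59879) (tt N24742 (iv D58673)) (tt N27094 (iv F267526)) (tt N27068 (iv F267386)) (tt N24743 F262725) (tt N27108 (iv F267593)) (tt N24751 F262726) (tt N24944 F262727) (tt N27077 (iv F267434)))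
theorem Q25905 : ∀ i, i < 25905 → P i := stepQ 25904 Q25904 (allL N25904 (tt N27110 D59880) (tt N24743 (iv D58674)) (tt N27075 (iv F267418)) (tt N27107 (iv F267588)) (tt N27032 (iv F267189)) (tt N27109 (iv F267598)) (tt N27106 (iv F267585)) (tt N24753 F262728) (tt N24946 F262729) (tt N27093 (iv F267524)))
theorem Q25906 : ∀ i, i < 25906 → P i := stepQ 25905 Q25905 (allL N25905 (tt N27108 (iv F267590)) (tt N27111 D59881) (tt N24744 (iv D58675)) (tt N27077 (iv F267430)) (tt N27112 D59882) (tt N27092 (iv F267518)) (tt N24811 F262730) (tt N27098 (iv F267553)) (tt N25064 F262731) (tt N27094 (iv F267530)))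
theorem Q25907 : ∀ i, i < 25907 → P i := stepQ 25906 Q25906 (allL N25906 (tt N26775 (iv F265717)) (tt N24749 F262732) (tt N27112 (iv F267607)) (tt N24746 F262733) (tt N24744 (iv D58676)) (tt N27113 D59883) (tt N24812 F262734) (tt N25405 F262735) (tt N25065 F262736) (tt N27095 (iv F267537)))
theorem Q25908 : ∀ i, i < 25908 → P i := stepQ 25907 Q25907 (allL N25907 (tt N24834 F262737) (tt N25332 F262738) (tt N24746 F262739) (tt N27114 D59884) (tt N24745 (iv D58677)) (tt N24799 F262740) (tt N24750 F262741) (tt N25351 F262742) (tt N24760 F262743) (tt N24846 F262744))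
theorem Q25909 : ∀ i, i < 25909 → P i := stepQ 25908 Q25908 (allL N25908 (tt N25351 F262745) (tt N24750 F262746) (tt N24799 F262747) (tt N27113 (iv F267613)) (tt N24754 F262748) (tt N24746 (iv D58678)) (tt N25332 F262749) (tt N24834 F262750) (tt N24761 F262751) (tt N24845 F262752))
theorem Q25910 : ∀ i, i < 25910 → P i := stepQ 25909 Q25909 (allL N25909 (tt N24829 F262753) (tt N27115 D59885) (tt N24747 (iv D58679)) (tt N24751 F262754) (tt N27116 D59886) (tt N24748 F262755) (tt N26754 (iv F265580)) (tt N27094 (iv F267529)) (tt N26968 (iv F266842)) (tt N27098 (iv F267555)))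
theorem Q25911 : ∀ i, i < 25911 → P i := stepQ 25910 Q25910 (allL N25910 (tt N24830 F262756) (tt N27059 (iv F267336)) (tt N27116 (iv F267629)) (tt N24756 F262757) (tt N24747 (iv D58680)) (tt N27117 D59887) (tt N25375 F262758) (tt N27095 (iv F267536)) (tt N26969 (iv F266847)) (tt N25405 F262759))
theorem Q25912 : ∀ i, i < 25912 → P i := stepQ 25911 Q25911 (allL N25911 (tt N27118 D59888) (tt N24748 (iv D58681)) (tt N27111 (iv F267604)) (tt N24753 F262760) (tt N27119 D59889) (tt N27115 (iv F267627)) (tt N25363 F262761) (tt N27107 (iv F267589)) (tt N26984 (iv F266925)) (tt N27099 (iv F267558)))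
theorem Q25913 : ∀ i, i < 25913 → P i := stepQ 25912 Q25912 (allL N25912 (tt N24832 F262762) (tt N27119 (iv F267642)) (tt N24749 F262763) (tt N27034 (iv F267200)) (tt N24748 (iv D58682)) (tt N27120 D59890) (tt N25364 F262764) (tt N27073 (iv F267411)) (tt N26985 (iv F266930)) (tt N27100 (iv F267562)))
theorem Q25914 : ∀ i, i < 25914 → P i := stepQ 25913 Q25913 (allL N25913 (tt N24833 F262765) (tt N27113 (iv F267612)) (tt N27120 (iv F267645)) (tt N24750 F262766) (tt N27117 (iv F267635)) (tt N24749 (iv D58683)) (tt N27114 (iv F267623)) (tt N24847 F262767) (tt N26986 (iv F266935)) (tt N27101 (iv F267569)))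
theorem Q25915 : ∀ i, i < 25915 → P i := stepQ 25914 Q25914 (allL N25914 (tt N27121 D59891) (tt N24751 (iv D58684)) (tt N27069 (iv F267389)) (tt N27115 (iv F267626)) (tt N27122 D59892) (tt N24753 F262768) (tt N26756 (iv F265593)) (tt N27109 (iv F267599)) (tt N24957 F262769) (tt N27102 (iv F267571)))
theorem Q25916 : ∀ i, i < 25916 → P i := stepQ 25915 Q25915 (allL N25915 (tt N24839 F262770) (tt N27122 (iv F267651)) (tt N24752 F262771) (tt N27123 D59893) (tt N24751 (iv D58685)) (tt N27036 (iv F267214)) (tt N26757 (iv F265598)) (tt N27068 (iv F267387)) (tt N24958 F262772) (tt N27103 (iv F267574)))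
theorem Q25917 : ∀ i, i < 25917 → P i := stepQ 25916 Q25916 (allL N25916 (tt N24753 (iv D58686)) (tt N24840 F262773) (tt N27082 (iv F267457)) (tt N27118 (iv F267640)) (tt N27037 (iv F267219)) (tt N27121 (iv F267649)) (tt N25366 F262774) (tt N27110 (iv F267602)) (tt N24959 F262775) (tt N27104 (iv F267577)))
theorem Q25918 : ∀ i, i < 25918 → P i := stepQ 25917 Q25917 (allL N25917 (tt N24845 F262776) (tt N25354 F262777) (tt N24756 F262778) (tt N27124 D59894) (tt N24755 (iv D58687)) (tt N24841 F262779) (tt N25338 F262780) (tt N24846 F262781) (tt N25917 F262782) (tt N25351 F262783))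
theorem Q25919 : ∀ i, i < 25919 → P i := stepQ 25918 Q25918 (allL N25918 (tt N24846 F262784) (tt N24801 F262785) (tt N24841 F262786) (tt N27117 (iv F267634)) (tt N24757 F262787) (tt N24756 (iv D58688)) (tt N24792 F262788) (tt N24845 F262789) (tt N25918 F262790) (tt N24834 F262791))
theorem Q25920 : ∀ i, i < 25920 → P i := stepQ 25919 Q25919 (allL N25919 (tt N24847 F262792) (tt N25350 F262793) (tt N27123 (iv F267654)) (tt N24758 (iv D58689)) (tt N27124 (iv F267659)) (tt N24810 F262794) (tt N26759 (iv F265610)) (tt N24833 F262795) (tt N27125 D59895) (tt N27105 (iv F267584)))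
theorem Q25921 : ∀ i, i < 25921 → P i := stepQ 25920 Q25920 (allL N25920 (tt N24850 F262796) (tt N25356 F262797) (tt N24970 F262798) (tt N27125 (iv F267666)) (tt N25920 F262799) (tt N24852 F262800) (tt N26760 (iv F265618)) (tt N24859 F262801) (tt N24759 (iv D58690)) (tt N27126 D59896))
theorem Q25922 : ∀ i, i < 25922 → P i := stepQ 25921 Q25921 (allL N25921 (tt N25040 F262802) (tt N25079 F262803) (tt N24779 F262804) (tt N27127 D59897) (tt N25921 F262805) (tt N24940 F262806) (tt N24934 F262807) (tt N24771 F262808) (tt N24762 (iv D58691)) (tt N25070 F262809))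
theorem Q25923 : ∀ i, i < 25923 → P i := stepQ 25922 Q25922 (allL N25922 (tt N25052 F262810) (tt N25492 F262811) (tt N24766 F262812) (tt N27128 D59898) (tt N25922 F262813) (tt N24764 F262814) (tt N24938 F262815) (tt N24772 F262816) (tt N24763 (iv D58692)) (tt N24974 F262817))
theorem Q25924 : ∀ i, i < 25924 → P i := stepQ 25923 Q25923 (allL N25923 (tt N25291 F262818) (tt N26910 (iv F266534)) (tt N27129 D59899) (tt N24764 (iv D58693)) (tt N27022 (iv F267121)) (tt N27128 (iv F267685)) (tt N25308 F262819) (tt N24773 F262820) (tt N27127 (iv F267681)) (tt N24975 F262821))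
theorem Q25925 : ∀ i, i < 25925 → P i := stepQ 25924 Q25924 (allL N25924 (tt N27076 (iv F267422)) (tt N25357 F262822) (tt N27130 D59900) (tt N24766 (iv D58694)) (tt N27131 D59901) (tt N24767 F262823) (tt N26967 (iv F266834)) (tt N24775 F262824) (tt N24782 F262825) (tt N24977 F262826))
theorem Q25926 : ∀ i, i < 25926 → P i := stepQ 25925 Q25925 (allL N25925 (tt N27083 (iv F267460)) (tt N27132 D59902) (tt N24767 (iv D58695)) (tt N27129 (iv F267691)) (tt N26865 (iv F266253)) (tt N27130 (iv F267695)) (tt N25316 F262827) (tt N24776 F262828) (tt N24783 F262829) (tt N24978 F262830))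
theorem Q25927 : ∀ i, i < 25927 → P i := stepQ 25926 Q25926 (allL N25926 (tt N26899 (iv F266467)) (tt N24773 F262831) (tt N27133 D59903) (tt N24768 (iv D58696)) (tt N27134 D59904) (tt N26783 (iv F265775)) (tt N25272 F262832) (tt N26910 (iv F266537)) (tt N26784 (iv F265785)) (tt N24983 F262833))
theorem Q25928 : ∀ i, i < 25928 → P i := stepQ 25927 Q25927 (allL N25927 (tt N26851 (iv F266157)) (tt N26810 (iv F265932)) (tt N24769 (iv D58697)) (tt N25227 F262834) (tt N27135 D59905) (tt N25927 F262835) (tt N25126 F262836) (tt N26809 (iv F265928)) (tt N25927 F262837) (tt N24984 F262838))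
theorem Q25929 : ∀ i, i < 25929 → P i := stepQ 25928 Q25928 (allL N25928 (tt N26900 (iv F266474)) (tt N24774 F262839) (tt N27135 (iv F267716)) (tt N27134 (iv F267713)) (tt N24769 (iv D58698)) (tt N27136 D59906) (tt N25320 F262840) (tt N26911 (iv F266543)) (tt N25928 F262841) (tt N24985 F262842))
theorem Q25930 : ∀ i, i < 25930 → P i := stepQ 25929 Q25929 (allL N25929 (tt N25243 F262843) (tt N25078 F262844) (tt N24787 F262845) (tt N27137 D59907) (tt N25929 F262846) (tt N25188 F262847) (tt N25275 F262848) (tt N25070 F262849) (tt N24770 (iv D58699)) (tt N24771 F262850))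
theorem Q25931 : ∀ i, i < 25931 → P i := stepQ 25930 Q25930 (allL N25930 (tt N27084 (iv F267467)) (tt N26784 (iv F265781)) (tt N27138 D59908) (tt N24771 (iv D58700)) (tt N27139 D59909) (tt N26780 (iv F265754)) (tt N25276 F262851) (tt N27127 (iv F267680)) (tt N24773 F262852) (tt N27137 (iv F267730)))
theorem Q25932 : ∀ i, i < 25932 → P i := stepQ 25931 Q25931 (allL N25931 (tt N27085 (iv F267474)) (tt N26783 (iv F265774)) (tt N27140 D59910) (tt N24772 (iv D58701)) (tt N27141 D59911) (tt N24773 F262853) (tt N25265 F262854) (tt N27128 (iv F267687)) (tt N26780 (iv F265757)) (tt N24990 F262855))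
theorem Q25933 : ∀ i, i < 25933 → P i := stepQ 25932 Q25932 (allL N25932 (tt N27086 (iv F267481)) (tt N27142 D59912) (tt N24773 (iv D58702)) (tt N24776 F262856) (tt N27143 D59913) (tt N27140 (iv F267738)) (tt N25280 F262857) (tt N27129 (iv F267693)) (tt N27138 (iv F267733)) (tt N24991 F262858))
theorem Q25934 : ∀ i, i < 25934 → P i := stepQ 25933 Q25933 (allL N25933 (tt N27087 (iv F267486)) (tt N27134 (iv F267712)) (tt N27143 (iv F267747)) (tt N24774 F262859) (tt N24773 (iv D58703)) (tt N27144 D59914) (tt N25281 F262860) (tt N27022 (iv F267123)) (tt N27139 (iv F267736)) (tt N24992 F262861))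
theorem Q25935 : ∀ i, i < 25935 → P i := stepQ 25934 Q25934 (allL N25934 (tt N27088 (iv F267492)) (tt N27136 (iv F267720)) (tt N27042 (iv F267245)) (tt N27144 (iv F267750)) (tt N25934 F262862) (tt N24774 (iv D58704)) (tt N27145 D59915) (tt N26858 (iv F266206)) (tt N25934 F262863) (tt N24993 F262864))
theorem Q25936 : ∀ i, i < 25936 → P i := stepQ 25935 Q25935 (allL N25935 (tt N27089 (iv F267499)) (tt N27146 D59916) (tt N24775 (iv D58705)) (tt N27140 (iv F267737)) (tt N27147 D59917) (tt N24776 F262865) (tt N25269 F262866) (tt N27130 (iv F267696)) (tt N24794 F262867) (tt N24995 F262868))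
theorem Q25937 : ∀ i, i < 25937 → P i := stepQ 25936 Q25936 (allL N25936 (tt N27090 (iv F267504)) (tt N25514 F262869) (tt N27147 (iv F267762)) (tt N25936 F262870) (tt N24775 (iv D58706)) (tt N27044 (iv F267258)) (tt N25270 F262871) (tt N27131 (iv F267701)) (tt N24795 F262872) (tt N24996 F262873))
theorem Q25938 : ∀ i, i < 25938 → P i := stepQ 25937 Q25937 (allL N25937 (tt N27148 D59918) (tt N24776 (iv D58707)) (tt N25530 F262874) (tt N27142 (iv F267744)) (tt N27045 (iv F267263)) (tt N27146 (iv F267758)) (tt N25286 F262875) (tt N27132 (iv F267706)) (tt N24796 F262876) (tt N24997 F262877))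
theorem Q25939 : ∀ i, i < 25939 → P i := stepQ 25938 Q25938 (allL N25938 (tt N27023 (iv F267124)) (tt N27149 D59919) (tt N24777 (iv D58708)) (tt N27047 (iv F267273)) (tt N25391 F262878) (tt N26769 (iv F265682)) (tt N24783 F262879) (tt N25165 F262880) (tt N25316 F262881) (tt N24803 F262882))
theorem Q25940 : ∀ i, i < 25940 → P i := stepQ 25939 Q25939 (allL N25939 (tt N24999 F262883) (tt N25334 F262884) (tt N25070 F262885) (tt N27150 D59920) (tt N25939 F262886) (tt N24924 F262887) (tt N24922 F262888) (tt N24787 F262889) (tt N24778 (iv D58709)) (tt N24779 F262890))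
theorem Q25941 : ∀ i, i < 25941 → P i := stepQ 25940 Q25940 (allL N25940 (tt N25045 F262891) (tt N25335 F262892) (tt N27151 D59921) (tt N24779 (iv D58710)) (tt N27152 D59922) (tt N24943 F262893) (tt N24936 F262894) (tt N24788 F262895) (tt N24780 F262896) (tt N27150 (iv F267782)))
theorem Q25942 : ∀ i, i < 25942 → P i := stepQ 25941 Q25941 (allL N25941 (tt N27092 (iv F267516)) (tt N27153 D59923) (tt N24780 (iv D58711)) (tt N24783 F262897) (tt N27154 D59924) (tt N27108 (iv F267592)) (tt N27047 (iv F267275)) (tt N24790 F262898) (tt N27151 (iv F267787)) (tt N24809 F262899))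
theorem Q25943 : ∀ i, i < 25943 → P i := stepQ 25942 Q25942 (allL N25942 (tt N27059 (iv F267335)) (tt N25337 F262900) (tt N27154 (iv F267798)) (tt N24781 F262901) (tt N24780 (iv D58712)) (tt N27105 (iv F267581)) (tt N27048 (iv F267283)) (tt N24791 F262902) (tt N27152 (iv F267793)) (tt N24810 F262903))
theorem Q25944 : ∀ i, i < 25944 → P i := stepQ 25943 Q25943 (allL N25943 (tt N27077 (iv F267429)) (tt N27155 D59925) (tt N24782 (iv D58713)) (tt N27108 (iv F267591)) (tt N27156 D59926) (tt N24783 F262904) (tt N27094 (iv F267528)) (tt N24794 F262905) (tt N27130 (iv F267697)) (tt N24811 F262906))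
theorem Q25945 : ∀ i, i < 25945 → P i := stepQ 25944 Q25944 (allL N25944 (tt N27053 (iv F267305)) (tt N25359 F262907) (tt N27156 (iv F267805)) (tt N24797 F262908) (tt N24782 (iv D58714)) (tt N27027 (iv F267156)) (tt N27095 (iv F267535)) (tt N24795 F262909) (tt N27131 (iv F267702)) (tt N24812 F262910))
theorem Q25946 : ∀ i, i < 25946 → P i := stepQ 25945 Q25945 (allL N25945 (tt N27157 D59927) (tt N24783 (iv D58715)) (tt N26763 (iv F265636)) (tt N27153 (iv F267795)) (tt N27046 (iv F267268)) (tt N27155 (iv F267802)) (tt N27149 (iv F267772)) (tt N24796 F262911) (tt N27132 (iv F267707)) (tt N24813 F262912))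
theorem Q25947 : ∀ i, i < 25947 → P i := stepQ 25946 Q25946 (allL N25946 (tt N25342 F262913) (tt N24788 F262914) (tt N27158 D59928) (tt N24784 (iv D58716)) (tt N27159 D59929) (tt N24872 F262915) (tt N24885 F262916) (tt N25335 F262917) (tt N24785 F262918) (tt N27039 (iv F267235)))
theorem Q25948 : ∀ i, i < 25948 → P i := stepQ 25947 Q25947 (allL N25947 (tt N25346 F262919) (tt N27160 D59930) (tt N24785 (iv D58717)) (tt N25150 F262920) (tt N27161 D59931) (tt N25330 F262921) (tt N25367 F262922) (tt N25336 F262923) (tt N27158 (iv F267815)) (tt N24820 F262924))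
theorem Q25949 : ∀ i, i < 25949 → P i := stepQ 25948 Q25948 (allL N25948 (tt N25347 F262925) (tt N24791 F262926) (tt N27161 (iv F267829)) (tt N24786 F262927) (tt N24785 (iv D58718)) (tt N27162 D59932) (tt N25368 F262928) (tt N25337 F262929) (tt N27159 (iv F267821)) (tt N24821 F262930))
theorem Q25950 : ∀ i, i < 25950 → P i := stepQ 25949 Q25949 (allL N25949 (tt N25354 F262931) (tt N24792 F262932) (tt N24800 F262933) (tt N27162 (iv F267836)) (tt N24798 F262934) (tt N24786 (iv D58719)) (tt N24801 F262935) (tt N25338 F262936) (tt N25949 F262937) (tt N24822 F262938))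
theorem Q25951 : ∀ i, i < 25951 → P i := stepQ 25950 Q25950 (allL N25950 (tt N26906 (iv F266510)) (tt N27039 (iv F267230)) (tt N27163 D59933) (tt N24787 (iv D58720)) (tt N27164 D59934) (tt N26796 (iv F265856)) (tt N25370 F262939) (tt N27150 (iv F267780)) (tt N24825 F262940) (tt N24788 F262941))
theorem Q25952 : ∀ i, i < 25952 → P i := stepQ 25951 Q25951 (allL N25951 (tt N27096 (iv F267538)) (tt N27165 D59935) (tt N24788 (iv D58721)) (tt N27138 (iv F267731)) (tt N27166 D59936) (tt N26821 (iv F266001)) (tt N25371 F262942) (tt N27151 (iv F267786)) (tt N24790 F262943) (tt N27163 (iv F267843)))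
theorem Q25953 : ∀ i, i < 25953 → P i := stepQ 25952 Q25952 (allL N25952 (tt N27097 (iv F267543)) (tt N27159 (iv F267817)) (tt N27166 (iv F267850)) (tt N25952 F262944) (tt N24788 (iv D58722)) (tt N27167 D59937) (tt N25372 F262945) (tt N27152 (iv F267792)) (tt N24791 F262946) (tt N27164 (iv F267847)))
theorem Q25954 : ∀ i, i < 25954 → P i := stepQ 25953 Q25953 (allL N25953 (tt N27098 (iv F267548)) (tt N27168 D59938) (tt N24789 (iv D58723)) (tt N24794 F262947) (tt N27169 D59939) (tt N24790 F262948) (tt N26752 (iv F265565)) (tt N27108 (iv F267594)) (tt N26821 (iv F266004)) (tt N24829 F262949))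
theorem Q25955 : ∀ i, i < 25955 → P i := stepQ 25954 Q25954 (allL N25954 (tt N25405 F262950) (tt N25331 F262951) (tt N27169 (iv F267860)) (tt N24799 F262952) (tt N24789 (iv D58724)) (tt N27114 (iv F267622)) (tt N25365 F262953) (tt N26775 (iv F265722)) (tt N26822 (iv F266010)) (tt N24830 F262954))
theorem Q25956 : ∀ i, i < 25956 → P i := stepQ 25955 Q25955 (allL N25955 (tt N27170 D59940) (tt N24790 (iv D58725)) (tt N27160 (iv F267822)) (tt N24796 F262955) (tt N27171 D59941) (tt N27168 (iv F267857)) (tt N25373 F262956) (tt N27153 (iv F267796)) (tt N27165 (iv F267849)) (tt N24831 F262957))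
theorem Q25957 : ∀ i, i < 25957 → P i := stepQ 25956 Q25956 (allL N25956 (tt N27100 (iv F267559)) (tt N27171 (iv F267866)) (tt N24791 F262958) (tt N27052 (iv F267302)) (tt N24790 (iv D58726)) (tt N27172 D59942) (tt N25374 F262959) (tt N27154 (iv F267799)) (tt N27166 (iv F267852)) (tt N24832 F262960))
theorem Q25958 : ∀ i, i < 25958 → P i := stepQ 25957 Q25957 (allL N25957 (tt N27101 (iv F267563)) (tt N27162 (iv F267835)) (tt N27172 (iv F267869)) (tt N24792 F262961) (tt N27114 (iv F267621)) (tt N24791 (iv D58727)) (tt N27117 (iv F267636)) (tt N27105 (iv F267583)) (tt N27167 (iv F267854)) (tt N24833 F262962))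
theorem Q25959 : ∀ i, i < 25959 → P i := stepQ 25958 Q25958 (allL N25958 (tt N26749 (iv F265539)) (tt N27173 D59943) (tt N24793 (iv D58728)) (tt N26752 (iv F265562)) (tt N27174 D59944) (tt N25154 F262963) (tt N24794 F262964) (tt N26754 (iv F265581)) (tt N25269 F262965) (tt N24836 F262966))
theorem Q25960 : ∀ i, i < 25960 → P i := stepQ 25959 Q25959 (allL N25959 (tt N26750 (iv F265546)) (tt N25380 F262967) (tt N27174 (iv F267876)) (tt N24800 F262968) (tt N24793 (iv D58729)) (tt N25163 F262969) (tt N24795 F262970) (tt N25375 F262971) (tt N25270 F262972) (tt N24837 F262973))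
theorem Q25961 : ∀ i, i < 25961 → P i := stepQ 25960 Q25960 (allL N25960 (tt N27175 D59945) (tt N24794 (iv D58730)) (tt N26764 (iv F265644)) (tt N27168 (iv F267856)) (tt N27176 D59946) (tt N24796 F262974) (tt N27173 (iv F267873)) (tt N27155 (iv F267803)) (tt N27146 (iv F267760)) (tt N24838 F262975))
theorem Q25962 : ∀ i, i < 25962 → P i := stepQ 25961 Q25961 (allL N25961 (tt N27103 (iv F267572)) (tt N27176 (iv F267884)) (tt N24795 F262976) (tt N27177 D59947) (tt N24794 (iv D58731)) (tt N27057 (iv F267330)) (tt N27174 (iv F267878)) (tt N27156 (iv F267806)) (tt N27147 (iv F267764)) (tt N24839 F262977))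
theorem Q25963 : ∀ i, i < 25963 → P i := stepQ 25962 Q25962 (allL N25962 (tt N24796 (iv D58732)) (tt N27104 (iv F267575)) (tt N26766 (iv F265659)) (tt N27170 (iv F267863)) (tt N27058 (iv F267332)) (tt N27175 (iv F267882)) (tt N25376 F262978) (tt N27157 (iv F267808)) (tt N27148 (iv F267768)) (tt N24840 F262979))
theorem Q25964 : ∀ i, i < 25964 → P i := stepQ 25963 Q25963 (allL N25963 (tt N27105 (iv F267578)) (tt N27117 (iv F267633)) (tt N27177 (iv F267886)) (tt N24801 (iv D58733)) (tt N27113 (iv F267614)) (tt N27059 (iv F267338)) (tt N27162 (iv F267838)) (tt N27101 (iv F267568)) (tt N27178 D59948) (tt N24847 F262980))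
theorem Q25965 : ∀ i, i < 25965 → P i := stepQ 25964 Q25964 (allL N25964 (tt N27047 (iv F267272)) (tt N27179 D59949) (tt N24802 (iv D58734)) (tt N27023 (iv F267125)) (tt N27180 D59950) (tt N24803 F262981) (tt N27092 (iv F267519)) (tt N25379 F262982) (tt N25046 F262983) (tt N26769 (iv F265686)))
theorem Q25966 : ∀ i, i < 25966 → P i := stepQ 25965 Q25965 (allL N25965 (tt N27048 (iv F267279)) (tt N25375 F262984) (tt N27180 (iv F267894)) (tt N25369 F262985) (tt N24802 (iv D58735)) (tt N25368 F262986) (tt N27059 (iv F267339)) (tt N25380 F262987) (tt N25047 F262988) (tt N25394 F262989))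
theorem Q25967 : ∀ i, i < 25967 → P i := stepQ 25966 Q25966 (allL N25966 (tt N27181 D59951) (tt N24803 (iv D58736)) (tt N26755 (iv F265584)) (tt N27062 (iv F267355)) (tt N27060 (iv F267345)) (tt N27179 (iv F267891)) (tt N24813 F262990) (tt N25381 F262991) (tt N25048 F262992) (tt N27149 (iv F267775)))
theorem Q25968 : ∀ i, i < 25968 → P i := stepQ 25967 Q25967 (allL N25967 (tt N24976 F262993) (tt N25341 F262994) (tt N25053 F262995) (tt N27182 D59952) (tt N25967 F262996) (tt N24806 F262997) (tt N24915 F262998) (tt N24823 F262999) (tt N24804 (iv D58737)) (tt N24805 F263000))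
theorem Q25969 : ∀ i, i < 25969 → P i := stepQ 25968 Q25968 (allL N25968 (tt N26967 (iv F266831)) (tt N25342 F263001) (tt N27183 D59953) (tt N24805 (iv D58738)) (tt N27184 D59954) (tt N24807 F263002) (tt N27076 (iv F267425)) (tt N24824 F263003) (tt N24808 F263004) (tt N27182 (iv F267908)))
theorem Q25970 : ∀ i, i < 25970 → P i := stepQ 25969 Q25969 (allL N25969 (tt N25486 F263005) (tt N25343 F263006) (tt N27185 D59955) (tt N24806 (iv D58739)) (tt N27186 D59956) (tt N27182 (iv F267904)) (tt N25423 F263007) (tt N24825 F263008) (tt N27150 (iv F267781)) (tt N24807 F263009))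
theorem Q25971 : ∀ i, i < 25971 → P i := stepQ 25970 Q25970 (allL N25970 (tt N26982 (iv F266908)) (tt N27187 D59957) (tt N24807 (iv D58740)) (tt N25056 F263010) (tt N27188 D59958) (tt N27183 (iv F267910)) (tt N26893 (iv F266432)) (tt N24826 F263011) (tt N24809 F263012) (tt N27185 (iv F267921)))
theorem Q25972 : ∀ i, i < 25972 → P i := stepQ 25971 Q25971 (allL N25971 (tt N26983 (iv F266914)) (tt N25345 F263013) (tt N27188 (iv F267932)) (tt N24852 F263014) (tt N24807 (iv D58741)) (tt N27125 (iv F267667)) (tt N26894 (iv F266440)) (tt N24827 F263015) (tt N24810 F263016) (tt N27186 (iv F267927)))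
theorem Q25973 : ∀ i, i < 25973 → P i := stepQ 25972 Q25972 (allL N25972 (tt N27094 (iv F267525)) (tt N27189 D59959) (tt N24808 (iv D58742)) (tt N24811 F263017) (tt N27190 D59960) (tt N24809 F263018) (tt N27077 (iv F267432)) (tt N24829 F263019) (tt N27183 (iv F267912)) (tt N27108 (iv F267596)))
theorem Q25974 : ∀ i, i < 25974 → P i := stepQ 25973 Q25973 (allL N25973 (tt N27095 (iv F267531)) (tt N25347 F263020) (tt N27190 (iv F267939)) (tt N24841 F263021) (tt N24808 (iv D58743)) (tt N27124 (iv F267660)) (tt N27053 F267311) (tt N24830 F263022) (tt N27184 (iv F267916)) (tt N26775 (iv F265724)))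
theorem Q25975 : ∀ i, i < 25975 → P i := stepQ 25974 Q25974 (allL N25974 (tt N27191 D59961) (tt N24809 (iv D58744)) (tt N25348 F263023) (tt N24813 F263024) (tt N27192 D59962) (tt N27189 (iv F267937)) (tt N27062 (iv F267356)) (tt N24831 F263025) (tt N27187 (iv F267931)) (tt N27153 (iv F267797)))
theorem Q25976 : ∀ i, i < 25976 → P i := stepQ 25975 Q25975 (allL N25975 (tt N27073 (iv F267406)) (tt N27192 (iv F267944)) (tt N24810 F263026) (tt N27036 (iv F267213)) (tt N24809 (iv D58745)) (tt N27123 (iv F267655)) (tt N27063 (iv F267362)) (tt N24832 F263027) (tt N27188 (iv F267934)) (tt N27154 (iv F267800)))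
theorem Q25977 : ∀ i, i < 25977 → P i := stepQ 25976 Q25976 (allL N25976 (tt N27193 D59963) (tt N24811 (iv D58746)) (tt N25363 F263028) (tt N27189 (iv F267936)) (tt N27194 D59964) (tt N24813 F263029) (tt N27111 (iv F267605)) (tt N24838 F263030) (tt N25066 F263031) (tt N27155 (iv F267804)))
theorem Q25978 : ∀ i, i < 25978 → P i := stepQ 25977 Q25977 (allL N25977 (tt N27068 (iv F267383)) (tt N27194 (iv F267951)) (tt N24812 F263032) (tt N27120 (iv F267646)) (tt N24811 (iv D58747)) (tt N27034 (iv F267201)) (tt N27112 (iv F267608)) (tt N24839 F263033) (tt N25067 F263034) (tt N27156 (iv F267807)))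
theorem Q25979 : ∀ i, i < 25979 → P i := stepQ 25978 Q25978 (allL N25978 (tt N24813 (iv D58748)) (tt N27110 (iv F267601)) (tt N26767 (iv F265665)) (tt N27191 (iv F267942)) (tt N27061 (iv F267351)) (tt N27193 (iv F267948)) (tt N27181 (iv F267899)) (tt N24840 F263035) (tt N25068 F263036) (tt N27157 (iv F267809)))
theorem Q25980 : ∀ i, i < 25980 → P i := stepQ 25979 Q25979 (allL N25979 (tt N24818 F263037) (tt N24943 F263038) (tt N27195 D59965) (tt N24814 (iv D58749)) (tt N26776 (iv F265728)) (tt N25335 F263039) (tt N24895 F263040) (tt N24872 F263041) (tt N24815 F263042) (tt N26863 (iv F266244)))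
theorem Q25981 : ∀ i, i < 25981 → P i := stepQ 25980 Q25980 (allL N25980 (tt N24820 F263043) (tt N27196 D59966) (tt N24815 (iv D58750)) (tt N25329 F263044) (tt N26774 (iv F265713)) (tt N25336 F263045) (tt N25387 F263046) (tt N25330 F263047) (tt N27195 (iv F267960)) (tt N25346 F263048))
theorem Q25982 : ∀ i, i < 25982 → P i := stepQ 25981 Q25981 (allL N25981 (tt N25335 F263049) (tt N24824 F263050) (tt N27197 D59967) (tt N24816 (iv D58751)) (tt N27198 D59968) (tt N24818 F263051) (tt N26864 (iv F266248)) (tt N25342 F263052) (tt N24819 F263053) (tt N27038 (iv F267228)))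
theorem Q25983 : ∀ i, i < 25983 → P i := stepQ 25982 Q25982 (allL N25982 (tt N26863 (iv F266238)) (tt N24825 F263054) (tt N27199 D59969) (tt N24817 (iv D58752)) (tt N27200 D59970) (tt N27038 (iv F267224)) (tt N24908 F263055) (tt N25343 F263056) (tt N27039 (iv F267234)) (tt N24818 F263057))
theorem Q25984 : ∀ i, i < 25984 → P i := stepQ 25983 Q25983 (allL N25983 (tt N27195 (iv F267955)) (tt N27201 D59971) (tt N24818 (iv D58753)) (tt N25426 F263058) (tt N27202 D59972) (tt N27197 (iv F267968)) (tt N25389 F263059) (tt N25344 F263060) (tt N24820 F263061) (tt N27199 (iv F267979)))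
theorem Q25985 : ∀ i, i < 25985 → P i := stepQ 25984 Q25984 (allL N25984 (tt N26776 (iv F265725)) (tt N24827 F263062) (tt N27202 (iv F267990)) (tt N24855 F263063) (tt N24818 (iv D58754)) (tt N27203 D59973) (tt N25390 F263064) (tt N25345 F263065) (tt N24821 F263066) (tt N27200 (iv F267984)))
theorem Q25986 : ∀ i, i < 25986 → P i := stepQ 25985 Q25985 (allL N25985 (tt N25336 F263067) (tt N27204 D59974) (tt N24819 (iv D58755)) (tt N25328 F263068) (tt N27205 D59975) (tt N24820 F263069) (tt N27026 (iv F267150)) (tt N25346 F263070) (tt N27197 (iv F267970)) (tt N25330 F263071))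
theorem Q25987 : ∀ i, i < 25987 → P i := stepQ 25986 Q25986 (allL N25986 (tt N25337 F263072) (tt N24830 F263073) (tt N27205 (iv F268006)) (tt N24842 F263074) (tt N24819 (iv D58756)) (tt N27206 D59976) (tt N27027 (iv F267157)) (tt N25347 F263075) (tt N27198 (iv F267975)) (tt N25331 F263076))
theorem Q25988 : ∀ i, i < 25988 → P i := stepQ 25987 Q25987 (allL N25987 (tt N27207 D59977) (tt N24820 (iv D58757)) (tt N24831 F263077) (tt N25340 F263078) (tt N27208 D59978) (tt N27204 (iv F268002)) (tt N25392 F263079) (tt N25348 F263080) (tt N27201 (iv F267989)) (tt N27160 (iv F267827)))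
theorem Q25989 : ∀ i, i < 25989 → P i := stepQ 25988 Q25988 (allL N25988 (tt N26774 (iv F265711)) (tt N27208 (iv F268021)) (tt N24821 F263081) (tt N25385 F263082) (tt N24820 (iv D58758)) (tt N27209 D59979) (tt N25393 F263083) (tt N25349 F263084) (tt N27202 (iv F267994)) (tt N27161 (iv F267833)))
theorem Q25990 : ∀ i, i < 25990 → P i := stepQ 25989 Q25989 (allL N25989 (tt N26759 (iv F265606)) (tt N24833 F263085) (tt N27209 (iv F268026)) (tt N24822 F263086) (tt N27206 (iv F268013)) (tt N24821 (iv D58759)) (tt N24847 F263087) (tt N25350 F263088) (tt N27203 (iv F267999)) (tt N27162 (iv F267840)))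
theorem Q25991 : ∀ i, i < 25991 → P i := stepQ 25990 Q25990 (allL N25990 (tt N26927 (iv F266610)) (tt N27038 (iv F267223)) (tt N27210 D59980) (tt N24823 (iv D58760)) (tt N27211 D59981) (tt N24825 F263089) (tt N26778 (iv F265741)) (tt N27182 (iv F267906)) (tt N26796 (iv F265859)) (tt N24824 F263090))
theorem Q25992 : ∀ i, i < 25992 → P i := stepQ 25991 Q25991 (allL N25991 (tt N26968 (iv F266838)) (tt N27212 D59982) (tt N24824 (iv D58761)) (tt N25082 F263091) (tt N27213 D59983) (tt N24826 F263092) (tt N26887 (iv F266395)) (tt N27183 (iv F267911)) (tt N24829 F263093) (tt N27210 (iv F268032)))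
theorem Q25993 : ∀ i, i < 25993 → P i := stepQ 25992 Q25992 (allL N25992 (tt N26969 (iv F266843)) (tt N27198 (iv F267972)) (tt N27213 (iv F268038)) (tt N25992 F263094) (tt N24824 (iv D58762)) (tt N27214 D59984) (tt N26888 (iv F266401)) (tt N27184 (iv F267915)) (tt N24830 F263095) (tt N27211 (iv F268034)))
theorem Q25994 : ∀ i, i < 25994 → P i := stepQ 25993 Q25993 (allL N25993 (tt N26938 (iv F266672)) (tt N27215 D59985) (tt N24825 (iv D58763)) (tt N25084 F263096) (tt N27216 D59986) (tt N27210 (iv F268031)) (tt N25395 F263097) (tt N27185 (iv F267920)) (tt N27163 (iv F267842)) (tt N24826 F263098))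
theorem Q25995 : ∀ i, i < 25995 → P i := stepQ 25994 Q25994 (allL N25994 (tt N26939 (iv F266677)) (tt N27200 (iv F267980)) (tt N27216 (iv F268046)) (tt N24857 F263099) (tt N24825 (iv D58764)) (tt N27217 D59987) (tt N25396 F263100) (tt N27186 (iv F267926)) (tt N27164 (iv F267846)) (tt N24827 F263101))
theorem Q25996 : ∀ i, i < 25996 → P i := stepQ 25995 Q25995 (allL N25995 (tt N27218 D59988) (tt N24826 (iv D58765)) (tt N27201 (iv F267985)) (tt N25086 F263102) (tt N27219 D59989) (tt N27212 (iv F268036)) (tt N25397 F263103) (tt N27187 (iv F267930)) (tt N24831 F263104) (tt N27215 (iv F268045)))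
theorem Q25997 : ∀ i, i < 25997 → P i := stepQ 25996 Q25996 (allL N25996 (tt N26985 (iv F266926)) (tt N27219 (iv F268054)) (tt N24827 F263105) (tt N27220 D59990) (tt N24826 (iv D58766)) (tt N27221 D59991) (tt N25398 F263106) (tt N27188 (iv F267933)) (tt N24832 F263107) (tt N27216 (iv F268048)))
theorem Q25998 : ∀ i, i < 25998 → P i := stepQ 25997 Q25997 (allL N25997 (tt N26986 (iv F266931)) (tt N27203 (iv F267995)) (tt N27221 (iv F268062)) (tt N24859 F263108) (tt N27214 (iv F268041)) (tt N24827 (iv D58767)) (tt N27222 D59992) (tt N27125 (iv F267668)) (tt N24833 F263109) (tt N27217 (iv F268050)))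
theorem Q25999 : ∀ i, i < 25999 → P i := stepQ 25998 Q25998 (allL N25998 (tt N26754 (iv F265576)) (tt N27223 D59993) (tt N24828 (iv D58768)) (tt N24836 F263110) (tt N27224 D59994) (tt N25399 F263111) (tt N24829 F263112) (tt N26749 (iv F265543)) (tt N26887 (iv F266397)) (tt N26752 (iv F265568)))
theorem Q26000 : ∀ i, i < 26000 → P i := stepQ 25999 Q25999 (allL N25999 (tt N25375 F263113) (tt N27027 (iv F267154)) (tt N27224 (iv F268073)) (tt N24844 F263114) (tt N24828 (iv D58769)) (tt N25359 F263115) (tt N24830 F263116) (tt N26750 (iv F265551)) (tt N26888 (iv F266403)) (tt N25365 F263117))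
theorem Q26001 : ∀ i, i < 26001 → P i := stepQ 26000 Q26000 (allL N26000 (tt N27225 D59995) (tt N24829 (iv D58770)) (tt N27204 (iv F268000)) (tt N24838 F263118) (tt N27226 D59996) (tt N24831 F263119) (tt N27223 (iv F268071)) (tt N27189 (iv F267938)) (tt N27212 (iv F268037)) (tt N27168 (iv F267858)))
theorem Q26002 : ∀ i, i < 26002 → P i := stepQ 26001 Q26001 (allL N26001 (tt N27116 (iv F267628)) (tt N27226 (iv F268079)) (tt N24830 F263120) (tt N27227 D59997) (tt N24829 (iv D58771)) (tt N27228 D59998) (tt N27224 (iv F268075)) (tt N27190 (iv F267940)) (tt N27213 (iv F268039)) (tt N27169 (iv F267862)))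
theorem Q26003 : ∀ i, i < 26003 → P i := stepQ 26002 Q26002 (allL N26002 (tt N27117 (iv F267632)) (tt N27206 (iv F268011)) (tt N27228 (iv F268082)) (tt N24846 F263121) (tt N24833 F263122) (tt N24830 (iv D58772)) (tt N27101 (iv F267567)) (tt N27124 (iv F267662)) (tt N27214 (iv F268042)) (tt N27114 (iv F267625)))
theorem Q26004 : ∀ i, i < 26004 → P i := stepQ 26003 Q26003 (allL N26003 (tt N24831 (iv D58773)) (tt N27118 (iv F267639)) (tt N27207 (iv F268017)) (tt N24840 F263123) (tt N27229 D59999) (tt N27225 (iv F268078)) (tt N25402 F263124) (tt N27191 (iv F267943)) (tt N27218 (iv F268053)) (tt N27170 (iv F267865)))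
theorem Q26005 : ∀ i, i < 26005 → P i := stepQ 26004 Q26004 (allL N26004 (tt N27229 (iv F268084)) (tt N24832 F263125) (tt N27208 (iv F268022)) (tt N27067 (iv F267381)) (tt N24831 (iv D58774)) (tt N27230 D60000) (tt N25403 F263126) (tt N27192 (iv F267946)) (tt N27219 (iv F268056)) (tt N27171 (iv F267868)))
theorem Q26006 : ∀ i, i < 26006 → P i := stepQ 26005 Q26005 (allL N26005 (tt N27120 (iv F267644)) (tt N27230 (iv F268086)) (tt N24833 F263127) (tt N27068 (iv F267385)) (tt N27228 (iv F268083)) (tt N24832 (iv D58775)) (tt N27231 D60001) (tt N27123 (iv F267656)) (tt N27221 (iv F268063)) (tt N27172 (iv F267870)))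
theorem Q26007 : ∀ i, i < 26007 → P i := stepQ 26006 Q26006 (allL N26006 (tt N27114 (iv F267619)) (tt N24847 F263128) (tt N27231 (iv F268087)) (tt N24834 F263129) (tt N27101 (iv F267566)) (tt N25405 F263130) (tt N24833 (iv D58776)) (tt N27113 (iv F267616)) (tt N27222 (iv F268067)) (tt N27117 (iv F267638)))
theorem Q26008 : ∀ i, i < 26008 → P i := stepQ 26007 Q26007 (allL N26007 (tt N26752 (iv F265561)) (tt N27232 D60002) (tt N24835 (iv D58777)) (tt N26749 (iv F265540)) (tt N25404 F263131) (tt N25401 F263132) (tt N27098 (iv F267552)) (tt N24836 F263133) (tt N25098 F263134) (tt N26754 (iv F265583)))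
theorem Q26009 : ∀ i, i < 26009 → P i := stepQ 26008 Q26008 (allL N26008 (tt N27233 D60003) (tt N24836 (iv D58778)) (tt N26770 (iv F265687)) (tt N27223 (iv F268069)) (tt N27234 D60004) (tt N25406 F263135) (tt N24838 F263136) (tt N27232 (iv F268091)) (tt N25100 F263137) (tt N27173 (iv F267875)))
theorem Q26010 : ∀ i, i < 26010 → P i := stepQ 26009 Q26009 (allL N26009 (tt N26757 (iv F265595)) (tt N27234 (iv F268096)) (tt N24837 F263138) (tt N27209 (iv F268027)) (tt N24836 (iv D58779)) (tt N25385 F263139) (tt N24839 F263140) (tt N25404 F263141) (tt N25101 F263142) (tt N27174 (iv F267881)))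
theorem Q26011 : ∀ i, i < 26011 → P i := stepQ 26010 Q26010 (allL N26010 (tt N24838 (iv D58780)) (tt N27121 (iv F267648)) (tt N26772 (iv F265702)) (tt N27225 (iv F268077)) (tt N27235 D60005) (tt N24840 F263143) (tt N27233 (iv F268094)) (tt N27193 (iv F267949)) (tt N25102 F263144) (tt N27175 (iv F267883)))
theorem Q26012 : ∀ i, i < 26012 → P i := stepQ 26011 Q26011 (allL N26011 (tt N27235 (iv F268101)) (tt N24839 F263145) (tt N26773 (iv F265708)) (tt N27236 D60006) (tt N24838 (iv D58781)) (tt N27072 (iv F267404)) (tt N27234 (iv F268098)) (tt N27194 (iv F267953)) (tt N25103 F263146) (tt N27176 (iv F267885)))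
theorem Q26013 : ∀ i, i < 26013 → P i := stepQ 26012 Q26012 (allL N26012 (tt N27123 (iv F267653)) (tt N27236 (iv F268103)) (tt N24847 F263147) (tt N24839 (iv D58782)) (tt N27227 (iv F268081)) (tt N27073 (iv F267409)) (tt N27209 (iv F268028)) (tt N27120 (iv F267647)) (tt N27237 D60007) (tt N27177 (iv F267887)))
theorem Q26014 : ∀ i, i < 26014 → P i := stepQ 26013 Q26013 (allL N26013 (tt N25338 F263148) (tt N24846 F263149) (tt N24844 F263150) (tt N27206 (iv F268012)) (tt N24843 F263151) (tt N24842 (iv D58783)) (tt N24845 F263152) (tt N25354 F263153) (tt N26013 F263154) (tt N25332 F263155))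
theorem Q26015 : ∀ i, i < 26015 → P i := stepQ 26014 Q26014 (allL N26014 (tt N27124 (iv F267657)) (tt N27101 (iv F267564)) (tt N27227 (iv F268080)) (tt N24845 (iv D58784)) (tt N24847 F263156) (tt N27095 (iv F267534)) (tt N27206 (iv F268014)) (tt N27117 (iv F267637)) (tt N27238 D60008) (tt N27113 (iv F267618)))
theorem Q26016 : ∀ i, i < 26016 → P i := stepQ 26015 Q26015 (allL N26015 (tt N27125 (iv F267664)) (tt N27222 (iv F268064)) (tt N27237 (iv F268104)) (tt N24850 F263157) (tt N27238 (iv F268107)) (tt N26983 F266921) (tt N27203 (iv F267997)) (tt N26986 (iv F266934)) (tt N24847 (iv D58785)) (tt N27239 D60009))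
theorem Q26017 : ∀ i, i < 26017 → P i := stepQ 26016 Q26016 (allL N26016 (tt N26760 (iv F265613)) (tt N24859 F263158) (tt N25136 F263159) (tt N27203 (iv F267996)) (tt N26016 F263160) (tt N24855 F263161) (tt N24850 F263162) (tt N25356 F263163) (tt N24848 (iv D58786)) (tt N27240 D60010))
theorem Q26018 : ∀ i, i < 26018 → P i := stepQ 26017 Q26017 (allL N26017 (tt N25130 F263164) (tt N25138 F263165) (tt N24849 (iv D58787)) (tt N24968 F263166) (tt N26017 F263167) (tt N25127 F263168) (tt N24860 F263169) (tt N25131 F263170) (tt N27241 D60011) (tt N26017 F263171))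
theorem Q26019 : ∀ i, i < 26019 → P i := stepQ 26018 Q26018 (allL N26018 (tt N26853 (iv F266172)) (tt N24850 F263172) (tt N27241 (iv F268119)) (tt N27222 (iv F268065)) (tt N26018 F263173) (tt N25111 F263174) (tt N24859 F263175) (tt N25114 F263176) (tt N24849 (iv D58788)) (tt N27242 D60012))
theorem Q26020 : ∀ i, i < 26020 → P i := stepQ 26019 Q26019 (allL N26019 (tt N27126 (iv F267669)) (tt N27242 (iv F268124)) (tt N25140 F263177) (tt N27239 (iv F268108)) (tt N26019 F263178) (tt N25564 F263179) (tt N27240 (iv F268114)) (tt N26964 (iv F266817)) (tt N26019 F263180) (tt N24850 (iv D58789)))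
theorem Q26021 : ∀ i, i < 26021 → P i := stepQ 26020 Q26020 (allL N26020 (tt N25564 F263181) (tt N25355 F263182) (tt N26859 (iv F266210)) (tt N27186 (iv F267924)) (tt N24851 (iv D58790)) (tt N27126 (iv F267673)) (tt N25445 F263183) (tt N24857 F263184) (tt N26020 F263185) (tt N24852 F263186))
theorem Q26022 : ∀ i, i < 26022 → P i := stepQ 26021 Q26021 (allL N26021 (tt N26777 (iv F265731)) (tt N24857 F263187) (tt N25326 F263188) (tt N27200 (iv F267981)) (tt N24854 (iv D58791)) (tt N27240 (iv F268113)) (tt N24909 F263189) (tt N25355 F263190) (tt N26021 F263191) (tt N24855 F263192))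
theorem Q26023 : ∀ i, i < 26023 → P i := stepQ 26022 Q26022 (allL N26022 (tt N25563 F263193) (tt N25241 F263194) (tt N24857 F263195) (tt N27243 D60013) (tt N24856 (iv D58792)) (tt N27244 D60014) (tt N25245 F263196) (tt N26859 (iv F266212)) (tt N26022 F263197) (tt N24858 F263198))
theorem Q26024 : ∀ i, i < 26024 → P i := stepQ 26023 Q26023 (allL N26023 (tt N26964 (iv F266813)) (tt N27240 (iv F268110)) (tt N27244 (iv F268137)) (tt N27217 (iv F268049)) (tt N26023 F263199) (tt N24857 (iv D58793)) (tt N27242 (iv F268127)) (tt N27126 (iv F267674)) (tt N26023 F263200) (tt N24859 F263201))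
theorem Q26025 : ∀ i, i < 26025 → P i := stepQ 26024 Q26024 (allL N26024 (tt N25472 F263202) (tt N25267 F263203) (tt N27220 (iv F268058)) (tt N24858 (iv D58794)) (tt N25142 F263204) (tt N27245 D60015) (tt N25274 F263205) (tt N26828 (iv F266040)) (tt N25447 F263206) (tt N27243 (iv F268134)))
theorem Q26026 : ∀ i, i < 26026 → P i := stepQ 26025 Q26025 (allL N26025 (tt N25134 F263207) (tt N25268 F263208) (tt N24859 F263209) (tt N27245 (iv F268144)) (tt N26025 F263210) (tt N24858 (iv D58795)) (tt N27241 (iv F268122)) (tt N24970 F263211) (tt N24860 F263212) (tt N27244 (iv F268141)))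
theorem Q26027 : ∀ i, i < 26027 → P i := stepQ 26026 Q26026 (allL N26026 (tt N25316 F263213) (tt N27246 D60016) (tt N24861 (iv D58796)) (tt N26993 (iv F266971)) (tt N24910 F263214) (tt N26893 (iv F266431)) (tt N27083 (iv F267463)) (tt N24864 F263215) (tt N27023 (iv F267130)) (tt N25424 F263216))
theorem Q26028 : ∀ i, i < 26028 → P i := stepQ 26027 Q26027 (allL N26027 (tt N25309 F263217) (tt N27247 D60017) (tt N24862 (iv D58797)) (tt N24864 F263218) (tt N27248 D60018) (tt N25077 F263219) (tt N25211 F263220) (tt N26993 (iv F266974)) (tt N25510 F263221) (tt N25177 F263222))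
theorem Q26029 : ∀ i, i < 26029 → P i := stepQ 26028 Q26028 (allL N26028 (tt N25310 F263223) (tt N25094 F263224) (tt N27248 (iv F268158)) (tt N24863 F263225) (tt N24862 (iv D58798)) (tt N25075 F263226) (tt N25212 F263227) (tt N26994 (iv F266982)) (tt N25511 F263228) (tt N25178 F263229))
theorem Q26030 : ∀ i, i < 26030 → P i := stepQ 26029 Q26029 (allL N26029 (tt N27249 D60019) (tt N24864 (iv D58799)) (tt N24869 F263230) (tt N27247 (iv F268152)) (tt N24914 F263231) (tt N26895 (iv F266446)) (tt N25216 F263232) (tt N27246 (iv F268149)) (tt N27024 (iv F267137)) (tt N25437 F263233))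
theorem Q26031 : ∀ i, i < 26031 → P i := stepQ 26030 Q26030 (allL N26030 (tt N24886 F263234) (tt N27250 D60020) (tt N24865 (iv D58800)) (tt N25413 F263235) (tt N24937 F263236) (tt N27078 (iv F267437)) (tt N24866 F263237) (tt N25409 F263238) (tt N27031 (iv F267186)) (tt N25418 F263239))
theorem Q26032 : ∀ i, i < 26032 → P i := stepQ 26031 Q26031 (allL N26031 (tt N27251 D60021) (tt N24866 (iv D58801)) (tt N27246 (iv F268147)) (tt N25414 F263240) (tt N24946 F263241) (tt N27064 (iv F267365)) (tt N27250 (iv F268171)) (tt N24869 F263242) (tt N27032 (iv F267192)) (tt N25429 F263243))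
theorem Q26033 : ∀ i, i < 26033 → P i := stepQ 26032 Q26032 (allL N26032 (tt N27252 D60022) (tt N24867 (iv D58802)) (tt N26895 (iv F266444)) (tt N25415 F263244) (tt N27253 D60023) (tt N24869 F263245) (tt N26873 (iv F266305)) (tt N27064 (iv F267367)) (tt N27035 (iv F267210)) (tt N25441 F263246))
theorem Q26034 : ∀ i, i < 26034 → P i := stepQ 26033 Q26033 (allL N26033 (tt N24899 F263247) (tt N27253 (iv F268183)) (tt N24868 F263248) (tt N26830 (iv F266051)) (tt N24867 (iv D58803)) (tt N24958 F263249) (tt N26874 (iv F266313)) (tt N27065 (iv F267375)) (tt N27036 (iv F267217)) (tt N25442 F263250))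
theorem Q26035 : ∀ i, i < 26035 → P i := stepQ 26034 Q26034 (allL N26034 (tt N24869 (iv D58804)) (tt N24900 F263251) (tt N27249 (iv F268165)) (tt N25416 F263252) (tt N24959 F263253) (tt N27252 (iv F268181)) (tt N25411 F263254) (tt N27251 (iv F268177)) (tt N27037 (iv F267221)) (tt N25443 F263255))
theorem Q26036 : ∀ i, i < 26036 → P i := stepQ 26035 Q26035 (allL N26035 (tt N25425 F263256) (tt N26778 (iv F265739)) (tt N27254 D60024) (tt N24870 (iv D58805)) (tt N27255 D60025) (tt N24871 F263257) (tt N27038 (iv F267225)) (tt N24874 F263258) (tt N24878 F263259) (tt N26864 (iv F266251)))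
theorem Q26037 : ∀ i, i < 26037 → P i := stepQ 26036 Q26036 (allL N26036 (tt N25426 F263260) (tt N27256 D60026) (tt N24871 (iv D58806)) (tt N27195 (iv F267956)) (tt N24978 F263261) (tt N27254 (iv F268188)) (tt N26861 (iv F266227)) (tt N24875 F263262) (tt N24879 F263263) (tt N26865 (iv F266257)))
theorem Q26038 : ∀ i, i < 26038 → P i := stepQ 26037 Q26037 (allL N26037 (tt N25344 F263264) (tt N27257 D60027) (tt N24872 (iv D58807)) (tt N24875 F263265) (tt N27258 D60028) (tt N27158 (iv F267812)) (tt N24888 F263266) (tt N27195 (iv F267959)) (tt N25330 F263267) (tt N27040 (iv F267239)))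
theorem Q26039 : ∀ i, i < 26039 → P i := stepQ 26038 Q26038 (allL N26038 (tt N25345 F263268) (tt N26822 (iv F266006)) (tt N27258 (iv F268203)) (tt N24873 F263269) (tt N24872 (iv D58808)) (tt N27259 D60029) (tt N24889 F263270) (tt N26776 (iv F265730)) (tt N25331 F263271) (tt N27041 (iv F267243)))
theorem Q26040 : ∀ i, i < 26040 → P i := stepQ 26039 Q26039 (allL N26039 (tt N25356 F263272) (tt N26853 (iv F266173)) (tt N24993 F263273) (tt N27259 (iv F268208)) (tt N26039 F263274) (tt N24873 (iv D58809)) (tt N25114 F263275) (tt N26760 (iv F265619)) (tt N24903 F263276) (tt N27042 (iv F267249)))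
theorem Q26041 : ∀ i, i < 26041 → P i := stepQ 26040 Q26040 (allL N26040 (tt N25438 F263277) (tt N27260 D60030) (tt N24874 (iv D58810)) (tt N27158 (iv F267811)) (tt N27261 D60031) (tt N24875 F263278) (tt N26869 (iv F266279)) (tt N27254 (iv F268189)) (tt N24880 F263279) (tt N27043 (iv F267254)))
theorem Q26042 : ∀ i, i < 26042 → P i := stepQ 26041 Q26041 (allL N26041 (tt N25439 F263280) (tt N26789 (iv F265809)) (tt N27261 (iv F268214)) (tt N26041 F263281) (tt N24874 (iv D58811)) (tt N24996 F263282) (tt N26870 (iv F266287)) (tt N27255 (iv F268194)) (tt N24881 F263283) (tt N27044 (iv F267261)))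
theorem Q26043 : ∀ i, i < 26043 → P i := stepQ 26042 Q26042 (allL N26042 (tt N27262 D60032) (tt N24875 (iv D58812)) (tt N26790 (iv F265815)) (tt N27257 (iv F268199)) (tt N24997 F263284) (tt N27260 (iv F268211)) (tt N25412 F263285) (tt N27256 (iv F268197)) (tt N24882 F263286) (tt N27045 (iv F267266)))
theorem Q26044 : ∀ i, i < 26044 → P i := stepQ 26043 Q26043 (allL N26043 (tt N25417 F263287) (tt N25370 F263288) (tt N27263 D60033) (tt N24876 (iv D58813)) (tt N27264 D60034) (tt N24877 F263289) (tt N27039 (iv F267232)) (tt N24911 F263290) (tt N24908 F263291) (tt N24885 F263292))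
theorem Q26045 : ∀ i, i < 26045 → P i := stepQ 26044 Q26044 (allL N26044 (tt N25418 F263293) (tt N27265 D60035) (tt N24877 (iv D58814)) (tt N25409 F263294) (tt N25001 F263295) (tt N27263 (iv F268223)) (tt N24879 F263296) (tt N25413 F263297) (tt N26861 (iv F266229)) (tt N24886 F263298))
theorem Q26046 : ∀ i, i < 26046 → P i := stepQ 26045 Q26045 (allL N26045 (tt N25427 F263299) (tt N27266 D60036) (tt N24878 (iv D58815)) (tt N25182 F263300) (tt N27267 D60037) (tt N24879 F263301) (tt N27040 (iv F267238)) (tt N24880 F263302) (tt N27254 (iv F268190)) (tt N24888 F263303))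
theorem Q26047 : ∀ i, i < 26047 → P i := stepQ 26046 Q26046 (allL N26046 (tt N25428 F263304) (tt N26798 (iv F265867)) (tt N27267 (iv F268244)) (tt N24883 F263305) (tt N24878 (iv D58816)) (tt N25009 F263306) (tt N27041 (iv F267242)) (tt N24881 F263307) (tt N27255 (iv F268195)) (tt N24889 F263308))
theorem Q26048 : ∀ i, i < 26048 → P i := stepQ 26047 Q26047 (allL N26047 (tt N27268 D60038) (tt N24879 (iv D58817)) (tt N26799 (iv F265872)) (tt N25410 F263309) (tt N25010 F263310) (tt N27266 (iv F268240)) (tt N27265 (iv F268236)) (tt N24882 F263311) (tt N27256 (iv F268198)) (tt N24890 F263312))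
theorem Q26049 : ∀ i, i < 26049 → P i := stepQ 26048 Q26048 (allL N26048 (tt N27269 D60039) (tt N24880 (iv D58818)) (tt N26806 (iv F265908)) (tt N25183 F263313) (tt N27270 D60040) (tt N24882 F263314) (tt N26871 (iv F266294)) (tt N27266 (iv F268241)) (tt N27260 (iv F268212)) (tt N24898 F263315))
theorem Q26050 : ∀ i, i < 26050 → P i := stepQ 26049 Q26049 (allL N26049 (tt N25442 F263316) (tt N27270 (iv F268258)) (tt N24881 F263317) (tt N25312 F263318) (tt N24880 (iv D58819)) (tt N25025 F263319) (tt N26872 (iv F266300)) (tt N27267 (iv F268247)) (tt N27261 (iv F268216)) (tt N24899 F263320))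
theorem Q26051 : ∀ i, i < 26051 → P i := stepQ 26050 Q26050 (allL N26050 (tt N24882 (iv D58820)) (tt N25443 F263321) (tt N26808 (iv F265919)) (tt N25411 F263322) (tt N25026 F263323) (tt N27269 (iv F268256)) (tt N25416 F263324) (tt N27268 (iv F268252)) (tt N27262 (iv F268220)) (tt N24900 F263325))
theorem Q26052 : ∀ i, i < 26052 → P i := stepQ 26051 Q26051 (allL N26051 (tt N25413 F263326) (tt N27271 D60041) (tt N24884 (iv D58821)) (tt N24886 F263327) (tt N25434 F263328) (tt N26869 (iv F266278)) (tt N24887 F263329) (tt N25418 F263330) (tt N24906 F263331) (tt N25409 F263332))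
theorem Q26053 : ∀ i, i < 26053 → P i := stepQ 26052 Q26052 (allL N26052 (tt N27078 (iv F267435)) (tt N27272 D60042) (tt N24885 (iv D58822)) (tt N26869 (iv F266277)) (tt N27273 D60043) (tt N24886 F263333) (tt N27158 (iv F267813)) (tt N25420 F263334) (tt N25367 F263335) (tt N27263 (iv F268226)))
theorem Q26054 : ∀ i, i < 26054 → P i := stepQ 26053 Q26053 (allL N26053 (tt N27079 (iv F267442)) (tt N25372 F263336) (tt N27273 (iv F268273)) (tt N26053 F263337) (tt N24885 (iv D58823)) (tt N25047 F263338) (tt N27159 (iv F267819)) (tt N25421 F263339) (tt N25368 F263340) (tt N27264 (iv F268233)))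
theorem Q26055 : ∀ i, i < 26055 → P i := stepQ 26054 Q26054 (allL N26054 (tt N27274 D60044) (tt N24886 (iv D58824)) (tt N26814 (iv F265958)) (tt N27271 (iv F268263)) (tt N25048 F263341) (tt N27272 (iv F268270)) (tt N24890 F263342) (tt N25422 F263343) (tt N27060 (iv F267349)) (tt N27265 (iv F268238)))
theorem Q26056 : ∀ i, i < 26056 → P i := stepQ 26055 Q26055 (allL N26055 (tt N27275 D60045) (tt N24887 (iv D58825)) (tt N25448 F263344) (tt N24890 F263345) (tt N25449 F263346) (tt N25412 F263347) (tt N27271 (iv F268265)) (tt N24894 F263348) (tt N25415 F263349) (tt N25410 F263350))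
theorem Q26057 : ∀ i, i < 26057 → P i := stepQ 26056 Q26056 (allL N26056 (tt N27276 D60046) (tt N24888 (iv D58826)) (tt N26823 (iv F266011)) (tt N25412 F263351) (tt N27277 D60047) (tt N24890 F263352) (tt N27257 (iv F268200)) (tt N24898 F263353) (tt N27033 (iv F267197)) (tt N27266 (iv F268242)))
theorem Q26058 : ∀ i, i < 26058 → P i := stepQ 26057 Q26057 (allL N26057 (tt N27065 (iv F267370)) (tt N27277 (iv F268291)) (tt N24889 F263354) (tt N25474 F263355) (tt N24888 (iv D58827)) (tt N25067 F263356) (tt N27258 (iv F268205)) (tt N24899 F263357) (tt N27034 (iv F267204)) (tt N27267 (iv F268248)))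
theorem Q26059 : ∀ i, i < 26059 → P i := stepQ 26058 Q26058 (allL N26058 (tt N24890 (iv D58828)) (tt N27251 (iv F268174)) (tt N26825 (iv F266020)) (tt N27275 (iv F268282)) (tt N25068 F263358) (tt N27276 (iv F268289)) (tt N27274 (iv F268278)) (tt N24900 F263359) (tt N27061 (iv F267353)) (tt N27268 (iv F268253)))
theorem Q26060 : ∀ i, i < 26060 → P i := stepQ 26059 Q26059 (allL N26059 (tt N27278 D60048) (tt N24891 (iv D58829)) (tt N24894 F263360) (tt N26829 (iv F266044)) (tt N25415 F263361) (tt N25187 F263362) (tt N25437 F263363) (tt N25448 F263364) (tt N25449 F263365) (tt N25216 F263366))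
theorem Q26061 : ∀ i, i < 26061 → P i := stepQ 26060 Q26060 (allL N26060 (tt N27279 D60049) (tt N24892 (iv D58830)) (tt N25449 F263367) (tt N27064 (iv F267364)) (tt N25448 F263368) (tt N25414 F263369) (tt N25440 F263370) (tt N25415 F263371) (tt N24894 F263372) (tt N25431 F263373))
theorem Q26062 : ∀ i, i < 26062 → P i := stepQ 26061 Q26061 (allL N26061 (tt N27280 D60050) (tt N24893 (iv D58831)) (tt N25187 F263374) (tt N24898 F263375) (tt N25263 F263376) (tt N24894 F263377) (tt N26862 (iv F266235)) (tt N25412 F263378) (tt N25414 F263379) (tt N25183 F263380))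
theorem Q26063 : ∀ i, i < 26063 → P i := stepQ 26062 Q26062 (allL N26062 (tt N24894 (iv D58832)) (tt N25416 F263381) (tt N27278 (iv F268296)) (tt N24900 F263382) (tt N25450 F263383) (tt N27280 (iv F268315)) (tt N25443 F263384) (tt N27275 (iv F268285)) (tt N27279 (iv F268309)) (tt N25411 F263385))
theorem Q26064 : ∀ i, i < 26064 → P i := stepQ 26063 Q26063 (allL N26063 (tt N25389 F263386) (tt N27281 D60051) (tt N24895 (iv D58833)) (tt N26861 (iv F266224)) (tt N27282 D60052) (tt N24910 F263387) (tt N27195 (iv F267958)) (tt N24896 F263388) (tt N25387 F263389) (tt N26866 (iv F266263)))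
theorem Q26065 : ∀ i, i < 26065 → P i := stepQ 26064 Q26064 (allL N26064 (tt N25390 F263390) (tt N24945 F263391) (tt N27282 (iv F268324)) (tt N24901 F263392) (tt N24895 (iv D58834)) (tt N26894 (iv F266439)) (tt N26776 (iv F265729)) (tt N24897 F263393) (tt N25388 F263394) (tt N26867 (iv F266270)))
theorem Q26066 : ∀ i, i < 26066 → P i := stepQ 26065 Q26065 (allL N26065 (tt N27283 D60053) (tt N24896 (iv D58835)) (tt N24957 F263395) (tt N26862 (iv F266232)) (tt N27284 D60054) (tt N24914 F263396) (tt N24898 F263397) (tt N27281 (iv F268321)) (tt N27069 (iv F267393)) (tt N26871 (iv F266295)))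
theorem Q26067 : ∀ i, i < 26067 → P i := stepQ 26066 Q26066 (allL N26066 (tt N26874 (iv F266309)) (tt N27284 (iv F268330)) (tt N24897 F263398) (tt N27000 (iv F267012)) (tt N24896 (iv D58836)) (tt N26896 (iv F266453)) (tt N24899 F263399) (tt N27282 (iv F268325)) (tt N27070 (iv F267400)) (tt N26872 (iv F266301)))
theorem Q26068 : ∀ i, i < 26068 → P i := stepQ 26067 Q26067 (allL N26067 (tt N24898 (iv D58837)) (tt N27252 (iv F268179)) (tt N26846 (iv F266132)) (tt N27280 (iv F268313)) (tt N27285 D60055) (tt N24900 F263400) (tt N27283 (iv F268329)) (tt N27276 (iv F268290)) (tt N27071 (iv F267402)) (tt N27269 (iv F268257)))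
theorem Q26069 : ∀ i, i < 26069 → P i := stepQ 26068 Q26068 (allL N26068 (tt N27285 (iv F268333)) (tt N24899 F263401) (tt N26847 (iv F266136)) (tt N27286 D60056) (tt N24898 (iv D58838)) (tt N25103 F263402) (tt N27284 (iv F268332)) (tt N27277 (iv F268294)) (tt N27072 (iv F267405)) (tt N27270 (iv F268261)))
theorem Q26070 : ∀ i, i < 26070 → P i := stepQ 26069 Q26069 (allL N26069 (tt N26830 (iv F266049)) (tt N27286 (iv F268335)) (tt N24902 F263403) (tt N24899 (iv D58839)) (tt N25259 F263404) (tt N25104 F263405) (tt N27000 (iv F267014)) (tt N25474 F263406) (tt N27287 D60057) (tt N25312 F263407))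
theorem Q26071 : ∀ i, i < 26071 → P i := stepQ 26070 Q26070 (allL N26070 (tt N26828 (iv F266036)) (tt N27006 (iv F267047)) (tt N27287 (iv F268340)) (tt N24904 F263408) (tt N25255 F263409) (tt N25125 F263410) (tt N26974 (iv F266869)) (tt N25472 F263411) (tt N24902 (iv D58840)) (tt N27288 D60058))
theorem Q26072 : ∀ i, i < 26072 → P i := stepQ 26071 Q26071 (allL N26071 (tt N26859 (iv F266208)) (tt N25108 F263412) (tt N25564 F263413) (tt N27288 (iv F268345)) (tt N24971 F263414) (tt N25140 F263415) (tt N25105 F263416) (tt N25563 F263417) (tt N26071 F263418) (tt N24904 (iv D58841)))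
theorem Q26073 : ∀ i, i < 26073 → P i := stepQ 26072 Q26072 (allL N26072 (tt N26861 (iv F266223)) (tt N27289 D60059) (tt N24905 (iv D58842)) (tt N25389 F263419) (tt N25424 F263420) (tt N26866 (iv F266260)) (tt N25426 F263421) (tt N24906 F263422) (tt N25418 F263423) (tt N24910 F263424))
theorem Q26074 : ∀ i, i < 26074 → P i := stepQ 26073 Q26073 (allL N26073 (tt N27290 D60060) (tt N24906 (iv D58843)) (tt N24929 F263425) (tt N26873 (iv F266303)) (tt N25437 F263426) (tt N26871 (iv F266293)) (tt N25415 F263427) (tt N27289 (iv F268355)) (tt N27271 (iv F268267)) (tt N24914 F263428))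
theorem Q26075 : ∀ i, i < 26075 → P i := stepQ 26074 Q26074 (allL N26074 (tt N26865 (iv F266252)) (tt N27291 D60061) (tt N24907 (iv D58844)) (tt N27199 (iv F267976)) (tt N27083 (iv F267462)) (tt N27049 (iv F267287)) (tt N24910 F263429) (tt N25430 F263430) (tt N27025 (iv F267145)) (tt N25426 F263431))
theorem Q26076 : ∀ i, i < 26076 → P i := stepQ 26075 Q26075 (allL N26075 (tt N26866 (iv F266258)) (tt N27292 D60062) (tt N24908 (iv D58845)) (tt N24910 F263432) (tt N27293 D60063) (tt N26861 (iv F266226)) (tt N27199 (iv F267977)) (tt N24912 F263433) (tt N27263 (iv F268225)) (tt N25389 F263434))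
theorem Q26077 : ∀ i, i < 26077 → P i := stepQ 26076 Q26076 (allL N26076 (tt N26867 (iv F266264)) (tt N25396 F263435) (tt N27293 (iv F268370)) (tt N24909 F263436) (tt N24908 (iv D58846)) (tt N26958 (iv F266784)) (tt N27200 (iv F267982)) (tt N24913 F263437) (tt N27264 (iv F268232)) (tt N25390 F263438))
theorem Q26078 : ∀ i, i < 26078 → P i := stepQ 26077 Q26077 (allL N26077 (tt N27294 D60064) (tt N24910 (iv D58847)) (tt N24946 F263439) (tt N27292 (iv F268367)) (tt N27246 (iv F268148)) (tt N27281 (iv F268320)) (tt N27291 (iv F268363)) (tt N24914 F263440) (tt N27075 (iv F267421)) (tt N27289 (iv F268357)))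
theorem Q26079 : ∀ i, i < 26079 → P i := stepQ 26078 Q26078 (allL N26078 (tt N26869 (iv F266276)) (tt N27295 D60065) (tt N24911 (iv D58848)) (tt N27078 (iv F267436)) (tt N27296 D60066) (tt N25413 F263441) (tt N25438 F263442) (tt N27263 (iv F268224)) (tt N24912 F263443) (tt N25420 F263444))
theorem Q26080 : ∀ i, i < 26080 → P i := stepQ 26079 Q26079 (allL N26079 (tt N26870 (iv F266283)) (tt N26877 (iv F266329)) (tt N27296 (iv F268379)) (tt N26079 F263445) (tt N24911 (iv D58849)) (tt N25479 F263446) (tt N25439 F263447) (tt N27264 (iv F268231)) (tt N24913 F263448) (tt N25421 F263449))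
theorem Q26081 : ∀ i, i < 26081 → P i := stepQ 26080 Q26080 (allL N26080 (tt N27297 D60067) (tt N24912 (iv D58850)) (tt N26884 (iv F266375)) (tt N24914 F263450) (tt N27298 D60068) (tt N26862 (iv F266234)) (tt N25441 F263451) (tt N27292 (iv F268368)) (tt N27295 (iv F268377)) (tt N26873 (iv F266308)))
theorem Q26082 : ∀ i, i < 26082 → P i := stepQ 26081 Q26081 (allL N26081 (tt N26872 (iv F266296)) (tt N27298 (iv F268386)) (tt N24913 F263452) (tt N27248 (iv F268159)) (tt N24912 (iv D58851)) (tt N26960 (iv F266798)) (tt N25442 F263453) (tt N27293 (iv F268371)) (tt N27296 (iv F268382)) (tt N26874 (iv F266316)))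
theorem Q26083 : ∀ i, i < 26083 → P i := stepQ 26082 Q26082 (allL N26082 (tt N24914 (iv D58852)) (tt N26875 (iv F266317)) (tt N24959 F263454) (tt N27297 (iv F268384)) (tt N27249 (iv F268166)) (tt N27283 (iv F268328)) (tt N25444 F263455) (tt N27294 (iv F268374)) (tt N27082 (iv F267459)) (tt N27290 (iv F268361)))
theorem Q26084 : ∀ i, i < 26084 → P i := stepQ 26083 Q26083 (allL N26083 (tt N24977 F263456) (tt N25417 F263457) (tt N27299 D60069) (tt N24915 (iv D58853)) (tt N27300 D60070) (tt N24916 F263458) (tt N27182 (iv F267905)) (tt N24920 F263459) (tt N24925 F263460) (tt N27076 (iv F267428)))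
theorem Q26085 : ∀ i, i < 26085 → P i := stepQ 26084 Q26084 (allL N26084 (tt N24978 F263461) (tt N27301 D60071) (tt N24916 (iv D58854)) (tt N25292 F263462) (tt N25426 F263463) (tt N27299 (iv F268390)) (tt N25424 F263464) (tt N24921 F263465) (tt N24926 F263466) (tt N27083 (iv F267466)))
theorem Q26086 : ∀ i, i < 26086 → P i := stepQ 26085 Q26085 (allL N26085 (tt N24990 F263467) (tt N25276 F263468) (tt N27302 D60072) (tt N24917 (iv D58855)) (tt N27303 D60073) (tt N24918 F263469) (tt N26784 (iv F265783)) (tt N25290 F263470) (tt N25272 F263471) (tt N27085 (iv F267480)))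
theorem Q26087 : ∀ i, i < 26087 → P i := stepQ 26086 Q26086 (allL N26086 (tt N24991 F263472) (tt N27304 D60074) (tt N24918 (iv D58856)) (tt N24921 F263473) (tt N27305 D60075) (tt N27302 (iv F268407)) (tt N25446 F263474) (tt N25292 F263475) (tt N25273 F263476) (tt N27086 (iv F267485)))
theorem Q26088 : ∀ i, i < 26088 → P i := stepQ 26087 Q26087 (allL N26087 (tt N24992 F263477) (tt N25279 F263478) (tt N27305 (iv F268421)) (tt N24919 F263479) (tt N24918 (iv D58857)) (tt N27306 D60076) (tt N25447 F263480) (tt N25293 F263481) (tt N25274 F263482) (tt N27087 (iv F267491)))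
theorem Q26089 : ∀ i, i < 26089 → P i := stepQ 26088 Q26088 (allL N26088 (tt N24993 F263483) (tt N25324 F263484) (tt N25356 F263485) (tt N27306 (iv F268428)) (tt N26088 F263486) (tt N24919 (iv D58858)) (tt N27307 D60077) (tt N25136 F263487) (tt N25135 F263488) (tt N27088 (iv F267498)))
theorem Q26090 : ∀ i, i < 26090 → P i := stepQ 26089 Q26089 (allL N26089 (tt N24995 F263489) (tt N27308 D60078) (tt N24920 (iv D58859)) (tt N27302 (iv F268406)) (tt N27309 D60079) (tt N24921 F263490) (tt N26788 (iv F265805)) (tt N27299 (iv F268391)) (tt N24927 F263491) (tt N27089 (iv F267503)))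
theorem Q26091 : ∀ i, i < 26091 → P i := stepQ 26090 Q26090 (allL N26090 (tt N24996 F263492) (tt N26870 (iv F266284)) (tt N27309 (iv F268441)) (tt N26090 F263493) (tt N24920 (iv D58860)) (tt N25439 F263494) (tt N26789 (iv F265812)) (tt N27300 (iv F268397)) (tt N24928 F263495) (tt N27090 (iv F267510)))
theorem Q26092 : ∀ i, i < 26092 → P i := stepQ 26091 Q26091 (allL N26091 (tt N27310 D60080) (tt N24921 (iv D58861)) (tt N27271 (iv F268262)) (tt N27304 (iv F268416)) (tt N25440 F263496) (tt N27308 (iv F268438)) (tt N25448 F263497) (tt N27301 (iv F268403)) (tt N24929 F263498) (tt N27091 (iv F267515)))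
theorem Q26093 : ∀ i, i < 26093 → P i := stepQ 26092 Q26092 (allL N26092 (tt N25000 F263499) (tt N25425 F263500) (tt N27311 D60081) (tt N24922 (iv D58862)) (tt N27312 D60082) (tt N24923 F263501) (tt N27150 (iv F267779)) (tt N25433 F263502) (tt N25423 F263503) (tt N24936 F263504))
theorem Q26094 : ∀ i, i < 26094 → P i := stepQ 26093 Q26093 (allL N26093 (tt N25001 F263505) (tt N27313 D60083) (tt N24923 (iv D58863)) (tt N25072 F263506) (tt N25418 F263507) (tt N27311 (iv F268450)) (tt N24926 F263508) (tt N25434 F263509) (tt N25424 F263510) (tt N24937 F263511))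
theorem Q26095 : ∀ i, i < 26095 → P i := stepQ 26094 Q26094 (allL N26094 (tt N25007 F263512) (tt N26863 (iv F266239)) (tt N27314 D60084) (tt N24924 (iv D58864)) (tt N27315 D60085) (tt N27150 (iv F267778)) (tt N24925 F263513) (tt N26796 (iv F265858)) (tt N27182 (iv F267907)) (tt N24943 F263514))
theorem Q26096 : ∀ i, i < 26096 → P i := stepQ 26095 Q26095 (allL N26095 (tt N25008 F263515) (tt N27316 D60086) (tt N24925 (iv D58865)) (tt N25527 F263516) (tt N27317 D60087) (tt N24926 F263517) (tt N27314 (iv F268470)) (tt N24927 F263518) (tt N27299 (iv F268392)) (tt N24944 F263519))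
theorem Q26097 : ∀ i, i < 26097 → P i := stepQ 26096 Q26096 (allL N26096 (tt N25009 F263520) (tt N26867 (iv F266265)) (tt N27317 (iv F268481)) (tt N24932 F263521) (tt N24925 (iv D58866)) (tt N25428 F263522) (tt N27315 (iv F268474)) (tt N24928 F263523) (tt N27300 (iv F268398)) (tt N24945 F263524))
theorem Q26098 : ∀ i, i < 26098 → P i := stepQ 26097 Q26097 (allL N26097 (tt N27318 D60088) (tt N24926 (iv D58867)) (tt N27289 (iv F268351)) (tt N25526 F263525) (tt N25429 F263526) (tt N27316 (iv F268477)) (tt N27313 (iv F268464)) (tt N24929 F263527) (tt N27301 (iv F268404)) (tt N24946 F263528))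
theorem Q26099 : ∀ i, i < 26099 → P i := stepQ 26098 Q26098 (allL N26098 (tt N27319 D60089) (tt N24927 (iv D58868)) (tt N26871 (iv F266291)) (tt N25557 F263529) (tt N27320 D60090) (tt N24929 F263530) (tt N26806 (iv F265911)) (tt N27316 (iv F268478)) (tt N27308 (iv F268439)) (tt N24957 F263531))
theorem Q26100 : ∀ i, i < 26100 → P i := stepQ 26099 Q26099 (allL N26099 (tt N25025 F263532) (tt N27320 (iv F268494)) (tt N24928 F263533) (tt N27321 D60091) (tt N24927 (iv D58869)) (tt N25442 F263534) (tt N26807 (iv F265916)) (tt N27317 (iv F268483)) (tt N27309 (iv F268443)) (tt N24958 F263535))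
theorem Q26101 : ∀ i, i < 26101 → P i := stepQ 26100 Q26100 (allL N26100 (tt N24929 (iv D58870)) (tt N25026 F263536) (tt N27290 (iv F268358)) (tt N25556 F263537) (tt N25443 F263538) (tt N27319 (iv F268492)) (tt N25450 F263539) (tt N27318 (iv F268488)) (tt N27310 (iv F268447)) (tt N24959 F263540))
theorem Q26102 : ∀ i, i < 26102 → P i := stepQ 26101 Q26101 (allL N26101 (tt N25029 F263541) (tt N26809 (iv F265924)) (tt N24930 (iv D58871)) (tt N25220 F263542) (tt N27322 D60092) (tt N26101 F263543) (tt N24931 F263544) (tt N26810 (iv F265936)) (tt N26101 F263545) (tt N24963 F263546))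
theorem Q26103 : ∀ i, i < 26103 → P i := stepQ 26102 Q26102 (allL N26102 (tt N25030 F263547) (tt N26777 (iv F265732)) (tt N27322 (iv F268503)) (tt N27315 (iv F268473)) (tt N24930 (iv D58872)) (tt N27323 D60093) (tt N24932 F263548) (tt N26811 (iv F265942)) (tt N26102 F263549) (tt N24964 F263550))
theorem Q26104 : ∀ i, i < 26104 → P i := stepQ 26103 Q26103 (allL N26103 (tt N25032 F263551) (tt N26795 (iv F265848)) (tt N24932 F263552) (tt N27324 D60094) (tt N24931 (iv D58873)) (tt N25219 F263553) (tt N27322 (iv F268504)) (tt N24933 F263554) (tt N26103 F263555) (tt N24965 F263556))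
theorem Q26105 : ∀ i, i < 26105 → P i := stepQ 26104 Q26104 (allL N26104 (tt N25037 F263557) (tt N26805 (iv F265903)) (tt N27321 (iv F268498)) (tt N24933 (iv D58874)) (tt N25215 F263558) (tt N25212 F263559) (tt N26813 (iv F265956)) (tt N27324 (iv F268515)) (tt N27325 D60095) (tt N24967 F263560))
theorem Q26106 : ∀ i, i < 26106 → P i := stepQ 26105 Q26105 (allL N26105 (tt N25041 F263561) (tt N25081 F263562) (tt N27326 D60096) (tt N24934 (iv D58875)) (tt N27327 D60097) (tt N24935 F263563) (tt N27127 (iv F267679)) (tt N25299 F263564) (tt N25308 F263565) (tt N25071 F263566))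
theorem Q26107 : ∀ i, i < 26107 → P i := stepQ 26106 Q26106 (allL N26106 (tt N25042 F263567) (tt N27328 D60098) (tt N24935 (iv D58876)) (tt N24937 F263568) (tt N25477 F263569) (tt N27326 (iv F268523)) (tt N24942 F263570) (tt N25451 F263571) (tt N27007 (iv F267060)) (tt N25072 F263572))
theorem Q26108 : ∀ i, i < 26108 → P i := stepQ 26107 Q26107 (allL N26107 (tt N25046 F263573) (tt N27329 D60099) (tt N24936 (iv D58877)) (tt N27326 (iv F268522)) (tt N27330 D60100) (tt N24937 F263574) (tt N27151 (iv F267785)) (tt N25452 F263575) (tt N27047 (iv F267277)) (tt N27311 (iv F268453)))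
theorem Q26109 : ∀ i, i < 26109 → P i := stepQ 26108 Q26108 (allL N26108 (tt N25047 F263576) (tt N27050 (iv F267292)) (tt N27330 (iv F268543)) (tt N26108 F263577) (tt N24936 (iv D58878)) (tt N27079 (iv F267444)) (tt N27152 (iv F267791)) (tt N25453 F263578) (tt N27048 (iv F267285)) (tt N27312 (iv F268460)))
theorem Q26110 : ∀ i, i < 26110 → P i := stepQ 26109 Q26109 (allL N26109 (tt N27331 D60101) (tt N24937 (iv D58879)) (tt N27291 (iv F268362)) (tt N27328 (iv F268535)) (tt N27250 (iv F268170)) (tt N27329 (iv F268540)) (tt N24946 F263579) (tt N25454 F263580) (tt N27106 (iv F267587)) (tt N27313 (iv F268467)))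
theorem Q26111 : ∀ i, i < 26111 → P i := stepQ 26110 Q26110 (allL N26110 (tt N25054 F263581) (tt N25494 F263582) (tt N27332 D60102) (tt N24938 (iv D58880)) (tt N27333 D60103) (tt N24939 F263583) (tt N27128 (iv F267686)) (tt N24951 F263584) (tt N24941 F263585) (tt N25487 F263586))
theorem Q26112 : ∀ i, i < 26112 → P i := stepQ 26111 Q26111 (allL N26111 (tt N25056 F263587) (tt N27334 D60104) (tt N24939 (iv D58881)) (tt N26982 (iv F266909)) (tt N25482 F263588) (tt N27332 (iv F268549)) (tt N27007 (iv F267058)) (tt N24953 F263589) (tt N24942 F263590) (tt N25488 F263591))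
theorem Q26113 : ∀ i, i < 26113 → P i := stepQ 26112 Q26112 (allL N26112 (tt N25058 F263592) (tt N25539 F263593) (tt N27335 D60105) (tt N24940 (iv D58882)) (tt N27336 D60106) (tt N27127 (iv F267678)) (tt N24941 F263594) (tt N26780 (iv F265756)) (tt N27128 (iv F267688)) (tt N25528 F263595))
theorem Q26114 : ∀ i, i < 26114 → P i := stepQ 26113 Q26113 (allL N26113 (tt N25059 F263596) (tt N27337 D60107) (tt N24941 (iv D58883)) (tt N24944 F263597) (tt N27338 D60108) (tt N24942 F263598) (tt N27335 (iv F268567)) (tt N24954 F263599) (tt N27332 (iv F268551)) (tt N25527 F263600))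
theorem Q26115 : ∀ i, i < 26115 → P i := stepQ 26114 Q26114 (allL N26114 (tt N25060 F263601) (tt N25543 F263602) (tt N27338 (iv F268580)) (tt N24962 F263603) (tt N24941 (iv D58884)) (tt N25237 F263604) (tt N27336 (iv F268572)) (tt N24955 F263605) (tt N27333 (iv F268558)) (tt N25524 F263606))
theorem Q26116 : ∀ i, i < 26116 → P i := stepQ 26115 Q26115 (allL N26115 (tt N27339 D60109) (tt N24942 (iv D58885)) (tt N25546 F263607) (tt N24946 F263608) (tt N25483 F263609) (tt N27337 (iv F268576)) (tt N27328 (iv F268537)) (tt N24956 F263610) (tt N27334 (iv F268563)) (tt N25526 F263611))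
theorem Q26117 : ∀ i, i < 26117 → P i := stepQ 26116 Q26116 (allL N26116 (tt N25064 F263612) (tt N27340 D60110) (tt N24943 (iv D58886)) (tt N27335 (iv F268566)) (tt N27341 D60111) (tt N27151 (iv F267784)) (tt N24944 F263613) (tt N26821 (iv F266003)) (tt N27108 (iv F267595)) (tt N27314 (iv F268471)))
theorem Q26118 : ∀ i, i < 26118 → P i := stepQ 26117 Q26117 (allL N26117 (tt N25065 F263614) (tt N26776 (iv F265726)) (tt N27341 (iv F268592)) (tt N24964 F263615) (tt N24943 (iv D58887)) (tt N27342 D60112) (tt N24945 F263616) (tt N26822 (iv F266009)) (tt N26775 (iv F265723)) (tt N27315 (iv F268475)))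
theorem Q26119 : ∀ i, i < 26119 → P i := stepQ 26118 Q26118 (allL N26118 (tt N27343 D60113) (tt N24944 (iv D58888)) (tt N27281 (iv F268319)) (tt N27337 (iv F268575)) (tt N27344 D60114) (tt N24946 F263617) (tt N27340 (iv F268590)) (tt N24957 F263618) (tt N27109 (iv F267600)) (tt N27316 (iv F268479)))
theorem Q26120 : ∀ i, i < 26120 → P i := stepQ 26119 Q26119 (allL N26119 (tt N25067 F263619) (tt N27344 (iv F268601)) (tt N24945 F263620) (tt N27345 D60115) (tt N24944 (iv D58889)) (tt N27065 (iv F267373)) (tt N27341 (iv F268593)) (tt N24958 F263621) (tt N27068 (iv F267388)) (tt N27317 (iv F268484)))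
theorem Q26121 : ∀ i, i < 26121 → P i := stepQ 26120 Q26120 (allL N26120 (tt N24946 (iv D58890)) (tt N25068 F263622) (tt N27294 (iv F268373)) (tt N27339 (iv F268586)) (tt N27251 (iv F268176)) (tt N27343 (iv F268599)) (tt N27331 (iv F268546)) (tt N24959 F263623) (tt N27110 (iv F267603)) (tt N27318 (iv F268489)))
theorem Q26122 : ∀ i, i < 26122 → P i := stepQ 26121 Q26121 (allL N26121 (tt N26826 (iv F266023)) (tt N25058 F263624) (tt N27346 D60116) (tt N24947 (iv D58891)) (tt N27288 (iv F268346)) (tt N25256 F263625) (tt N25050 F263626) (tt N25470 F263627) (tt N25300 F263628) (tt N25255 F263629))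
theorem Q26123 : ∀ i, i < 26123 → P i := stepQ 26122 Q26122 (allL N26122 (tt N26947 (iv F266721)) (tt N27347 D60117) (tt N24948 (iv D58892)) (tt N27346 (iv F268607)) (tt N25488 F263630) (tt N26880 (iv F266349)) (tt N25459 F263631) (tt N25497 F263632) (tt N24949 F263633) (tt N25482 F263634))
theorem Q26124 : ∀ i, i < 26124 → P i := stepQ 26123 Q26123 (allL N26123 (tt N27348 D60118) (tt N24949 (iv D58893)) (tt N24956 F263635) (tt N26884 (iv F266376)) (tt N25491 F263636) (tt N26882 (iv F266364)) (tt N25460 F263637) (tt N25546 F263638) (tt N27347 (iv F268617)) (tt N25521 F263639))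
theorem Q26125 : ∀ i, i < 26125 → P i := stepQ 26124 Q26124 (allL N26124 (tt N25081 F263640) (tt N25235 F263641) (tt N27349 D60119) (tt N24950 (iv D58894)) (tt N27350 D60120) (tt N24952 F263642) (tt N26831 (iv F266059)) (tt N25487 F263643) (tt N25232 F263644) (tt N24951 F263645))
theorem Q26126 : ∀ i, i < 26126 → P i := stepQ 26125 Q26125 (allL N26125 (tt N25082 F263646) (tt N27351 D60121) (tt N24951 (iv D58895)) (tt N26968 (iv F266839)) (tt N27352 D60122) (tt N24953 F263647) (tt N26832 (iv F266066)) (tt N27332 (iv F268550)) (tt N24954 F263648) (tt N27349 (iv F268628)))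
theorem Q26127 : ∀ i, i < 26127 → P i := stepQ 26126 Q26126 (allL N26126 (tt N25083 F263649) (tt N26881 (iv F266355)) (tt N27352 (iv F268639)) (tt N26126 F263650) (tt N24951 (iv D58896)) (tt N25496 F263651) (tt N26833 (iv F266072)) (tt N27333 (iv F268557)) (tt N24955 F263652) (tt N27350 (iv F268635)))
theorem Q26128 : ∀ i, i < 26128 → P i := stepQ 26127 Q26127 (allL N26127 (tt N25084 F263653) (tt N27353 D60123) (tt N24952 (iv D58897)) (tt N26938 (iv F266673)) (tt N25497 F263654) (tt N27349 (iv F268625)) (tt N25461 F263655) (tt N25488 F263656) (tt N25481 F263657) (tt N24953 F263658))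
theorem Q26129 : ∀ i, i < 26129 → P i := stepQ 26128 Q26128 (allL N26128 (tt N27354 D60124) (tt N24953 (iv D58898)) (tt N27347 (iv F268613)) (tt N26984 (iv F266923)) (tt N25498 F263659) (tt N27351 (iv F268636)) (tt N25462 F263660) (tt N27334 (iv F268562)) (tt N24956 F263661) (tt N27353 (iv F268647)))
theorem Q26130 : ∀ i, i < 26130 → P i := stepQ 26129 Q26129 (allL N26129 (tt N27355 D60125) (tt N24954 (iv D58899)) (tt N26882 (iv F266362)) (tt N24957 F263662) (tt N27356 D60126) (tt N24956 F263663) (tt N26839 (iv F266103)) (tt N27337 (iv F268577)) (tt N27351 (iv F268637)) (tt N25557 F263664))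
theorem Q26131 : ∀ i, i < 26131 → P i := stepQ 26130 Q26130 (allL N26130 (tt N25093 F263665) (tt N27356 (iv F268656)) (tt N24955 F263666) (tt N27357 D60127) (tt N24954 (iv D58900)) (tt N25503 F263667) (tt N26840 (iv F266107)) (tt N27338 (iv F268582)) (tt N27352 (iv F268641)) (tt N25555 F263668))
theorem Q26132 : ∀ i, i < 26132 → P i := stepQ 26131 Q26131 (allL N26131 (tt N24956 (iv D58901)) (tt N25095 F263669) (tt N27348 (iv F268619)) (tt N24959 F263670) (tt N25504 F263671) (tt N27355 (iv F268654)) (tt N25463 F263672) (tt N27339 (iv F268588)) (tt N27354 (iv F268651)) (tt N25556 F263673))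
theorem Q26133 : ∀ i, i < 26133 → P i := stepQ 26132 Q26132 (allL N26132 (tt N24957 (iv D58902)) (tt N25102 F263674) (tt N27283 (iv F268327)) (tt N27355 (iv F268653)) (tt N27358 D60128) (tt N24959 F263675) (tt N26846 (iv F266134)) (tt N27343 (iv F268600)) (tt N27121 (iv F267650)) (tt N27319 (iv F268493)))
theorem Q26134 : ∀ i, i < 26134 → P i := stepQ 26133 Q26133 (allL N26133 (tt N27358 (iv F268664)) (tt N24958 F263676) (tt N27284 (iv F268331)) (tt N27359 D60129) (tt N24957 (iv D58903)) (tt N27253 (iv F268184)) (tt N26847 (iv F266138)) (tt N27344 (iv F268602)) (tt N27122 (iv F267652)) (tt N27320 (iv F268496)))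
theorem Q26135 : ∀ i, i < 26135 → P i := stepQ 26134 Q26134 (allL N26134 (tt N25104 F263677) (tt N27359 (iv F268666)) (tt N24967 F263678) (tt N24958 (iv D58904)) (tt N27357 (iv F268661)) (tt N26830 F266055) (tt N26848 (iv F266142)) (tt N27345 (iv F268606)) (tt N27360 D60130) (tt N27321 (iv F268501)))
theorem Q26136 : ∀ i, i < 26136 → P i := stepQ 26135 Q26135 (allL N26135 (tt N25107 F263679) (tt N26851 (iv F266158)) (tt N24960 (iv D58905)) (tt N24963 F263680) (tt N27361 D60131) (tt N26135 F263681) (tt N24961 F263682) (tt N26781 (iv F265764)) (tt N26135 F263683) (tt N25220 F263684))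
theorem Q26137 : ∀ i, i < 26137 → P i := stepQ 26136 Q26136 (allL N26136 (tt N25108 F263685) (tt N25565 F263686) (tt N27361 (iv F268670)) (tt N27336 (iv F268571)) (tt N24960 (iv D58906)) (tt N26923 (iv F266594)) (tt N24962 F263687) (tt N26782 (iv F265770)) (tt N26136 F263688) (tt N25561 F263689))
theorem Q26138 : ∀ i, i < 26138 → P i := stepQ 26137 Q26137 (allL N26137 (tt N25109 F263690) (tt N26850 (iv F266151)) (tt N24962 F263691) (tt N27362 D60132) (tt N24961 (iv D58907)) (tt N25171 F263692) (tt N27361 (iv F268671)) (tt N24966 F263693) (tt N26137 F263694) (tt N25201 F263695))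
theorem Q26139 : ∀ i, i < 26139 → P i := stepQ 26138 Q26138 (allL N26138 (tt N25113 F263696) (tt N26820 (iv F265994)) (tt N24964 F263697) (tt N27363 D60133) (tt N24963 (iv D58908)) (tt N27307 (iv F268435)) (tt N24965 F263698) (tt N26852 (iv F266169)) (tt N24968 F263699) (tt N27322 (iv F268506)))
theorem Q26140 : ∀ i, i < 26140 → P i := stepQ 26139 Q26139 (allL N26139 (tt N25114 F263700) (tt N26760 (iv F265614)) (tt N27307 (iv F268433)) (tt N27342 (iv F268595)) (tt N26139 F263701) (tt N24964 (iv D58909)) (tt N25356 F263702) (tt N26853 (iv F266177)) (tt N24969 F263703) (tt N27323 (iv F268511)))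
theorem Q26141 : ∀ i, i < 26141 → P i := stepQ 26140 Q26140 (allL N26140 (tt N25117 F263704) (tt N26819 (iv F265989)) (tt N27345 (iv F268604)) (tt N24965 (iv D58910)) (tt N27362 (iv F268675)) (tt N25447 F263705) (tt N27363 (iv F268680)) (tt N24967 F263706) (tt N27245 (iv F268146)) (tt N27324 (iv F268516)))
theorem Q26142 : ∀ i, i < 26142 → P i := stepQ 26141 Q26141 (allL N26141 (tt N25120 F263707) (tt N26841 (iv F266110)) (tt N27357 (iv F268660)) (tt N24966 (iv D58911)) (tt N24967 F263708) (tt N25186 F263709) (tt N26855 (iv F266188)) (tt N27362 (iv F268677)) (tt N27364 D60134) (tt N25215 F263710))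
theorem Q26143 : ∀ i, i < 26143 → P i := stepQ 26142 Q26142 (allL N26142 (tt N25125 F263711) (tt N26838 (iv F266096)) (tt N27360 (iv F268668)) (tt N24970 F263712) (tt N27364 (iv F268683)) (tt N26828 F266042) (tt N26856 (iv F266193)) (tt N27245 (iv F268145)) (tt N24967 (iv D58912)) (tt N27365 D60135))
theorem Q26144 : ∀ i, i < 26144 → P i := stepQ 26143 Q26143 (allL N26143 (tt N25131 F263713) (tt N25325 F263714) (tt N24969 F263715) (tt N25127 F263716) (tt N26143 F263717) (tt N24968 (iv D58913)) (tt N25135 F263718) (tt N25130 F263719) (tt N27307 (iv F268437)) (tt N26143 F263720))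
theorem Q26145 : ∀ i, i < 26145 → P i := stepQ 26144 Q26144 (allL N26144 (tt N25140 F263721) (tt N26860 (iv F266217)) (tt N27126 (iv F267671)) (tt N27365 (iv F268686)) (tt N26144 F263722) (tt N26859 F266215) (tt N26858 (iv F266205)) (tt N27244 (iv F268139)) (tt N26144 F263723) (tt N24970 (iv D58914)))
theorem Q26146 : ∀ i, i < 26146 → P i := stepQ 26145 Q26145 (allL N26145 (tt N25424 F263724) (tt N27366 D60136) (tt N24972 (iv D58915)) (tt N26990 (iv F266953)) (tt N26861 (iv F266225)) (tt N26957 (iv F266776)) (tt N24978 F263725) (tt N25262 F263726) (tt N25001 F263727) (tt N25316 F263728))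
theorem Q26147 : ∀ i, i < 26147 → P i := stepQ 26146 Q26146 (allL N26146 (tt N25204 F263729) (tt N24975 F263730) (tt N27367 D60137) (tt N24973 (iv D58916)) (tt N26981 (iv F266905)) (tt N25493 F263731) (tt N25014 F263732) (tt N24983 F263733) (tt N25017 F263734) (tt N26910 (iv F266539)))
theorem Q26148 : ∀ i, i < 26148 → P i := stepQ 26147 Q26147 (allL N26147 (tt N25290 F263735) (tt N25493 F263736) (tt N27368 D60138) (tt N24974 (iv D58917)) (tt N27369 D60139) (tt N24975 F263737) (tt N25487 F263738) (tt N24990 F263739) (tt N25288 F263740) (tt N27128 (iv F267689)))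
theorem Q26149 : ∀ i, i < 26149 → P i := stepQ 26148 Q26148 (allL N26148 (tt N25292 F263741) (tt N27370 D60140) (tt N24975 (iv D58918)) (tt N24978 F263742) (tt N27019 (iv F267104)) (tt N27368 (iv F268699)) (tt N26990 (iv F266955)) (tt N24991 F263743) (tt N25289 F263744) (tt N27129 (iv F267694)))
theorem Q26150 : ∀ i, i < 26150 → P i := stepQ 26149 Q26149 (allL N26149 (tt N27182 (iv F267902)) (tt N26906 (iv F266511)) (tt N27371 D60141) (tt N24976 (iv D58919)) (tt N27372 D60142) (tt N25486 F263745) (tt N24977 F263746) (tt N26927 (iv F266614)) (tt N25007 F263747) (tt N26967 (iv F266837)))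
theorem Q26151 : ∀ i, i < 26151 → P i := stepQ 26150 Q26150 (allL N26150 (tt N27299 (iv F268388)) (tt N27373 D60143) (tt N24977 (iv D58920)) (tt N27368 (iv F268698)) (tt N27374 D60144) (tt N24978 F263748) (tt N27371 (iv F268714)) (tt N24995 F263749) (tt N25008 F263750) (tt N27130 (iv F267698)))
theorem Q26152 : ∀ i, i < 26152 → P i := stepQ 26151 Q26151 (allL N26151 (tt N27300 (iv F268393)) (tt N26908 (iv F266523)) (tt N27374 (iv F268722)) (tt N26151 F263751) (tt N24977 (iv D58921)) (tt N27255 (iv F268193)) (tt N27372 (iv F268717)) (tt N24996 F263752) (tt N25009 F263753) (tt N27131 (iv F267703)))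
theorem Q26153 : ∀ i, i < 26153 → P i := stepQ 26152 Q26152 (allL N26152 (tt N27375 D60145) (tt N24978 (iv D58922)) (tt N26909 (iv F266528)) (tt N27370 (iv F268709)) (tt N27256 (iv F268196)) (tt N27373 (iv F268719)) (tt N27366 (iv F268688)) (tt N24997 F263754) (tt N25010 F263755) (tt N27132 (iv F267708)))
theorem Q26154 : ∀ i, i < 26154 → P i := stepQ 26153 Q26153 (allL N26153 (tt N24983 F263756) (tt N25197 F263757) (tt N27376 D60146) (tt N24979 (iv D58923)) (tt N27377 D60147) (tt N26792 (iv F265830)) (tt N25464 F263758) (tt N25204 F263759) (tt N25194 F263760) (tt N26899 (iv F266473)))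
theorem Q26155 : ∀ i, i < 26155 → P i := stepQ 26154 Q26154 (allL N26154 (tt N24984 F263761) (tt N25220 F263762) (tt N24980 (iv D58924)) (tt N26809 (iv F265926)) (tt N27378 D60148) (tt N26154 F263763) (tt N25218 F263764) (tt N25227 F263765) (tt N25144 F263766) (tt N26851 (iv F266164)))
theorem Q26156 : ∀ i, i < 26156 → P i := stepQ 26155 Q26155 (allL N26155 (tt N24985 F263767) (tt N25224 F263768) (tt N27378 (iv F268739)) (tt N27377 (iv F268733)) (tt N24980 (iv D58925)) (tt N27379 D60149) (tt N25465 F263769) (tt N25228 F263770) (tt N25145 F263771) (tt N26900 (iv F266479)))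
theorem Q26157 : ∀ i, i < 26157 → P i := stepQ 26156 Q26156 (allL N26156 (tt N25194 F263772) (tt N24988 F263773) (tt N27380 D60150) (tt N24981 (iv D58926)) (tt N27020 (iv F267108)) (tt N25499 F263774) (tt N25466 F263775) (tt N25017 F263776) (tt N24983 F263777) (tt N25089 F263778))
theorem Q26158 : ∀ i, i < 26158 → P i := stepQ 26157 Q26157 (allL N26157 (tt N26792 (iv F265828)) (tt N24990 F263779) (tt N27381 D60151) (tt N24982 (iv D58927)) (tt N27382 D60152) (tt N24983 F263780) (tt N26901 (iv F266483)) (tt N25493 F263781) (tt N25499 F263782) (tt N26783 (iv F265779)))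
theorem Q26159 : ∀ i, i < 26159 → P i := stepQ 26158 Q26158 (allL N26158 (tt N27376 (iv F268727)) (tt N27383 D60153) (tt N24983 (iv D58928)) (tt N26912 (iv F266546)) (tt N27384 D60154) (tt N27381 (iv F268755)) (tt N25467 F263783) (tt N27367 (iv F268695)) (tt N27380 (iv F268753)) (tt N27133 (iv F267711)))
theorem Q26160 : ∀ i, i < 26160 → P i := stepQ 26159 Q26159 (allL N26159 (tt N27377 (iv F268731)) (tt N24992 F263784) (tt N27384 (iv F268764)) (tt N24985 F263785) (tt N24983 (iv D58929)) (tt N27385 D60155) (tt N25468 F263786) (tt N26981 (iv F266906)) (tt N27020 (iv F267112)) (tt N27134 (iv F267715)))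
theorem Q26161 : ∀ i, i < 26161 → P i := stepQ 26160 Q26160 (allL N26160 (tt N27378 (iv F268737)) (tt N26852 (iv F266166)) (tt N24985 F263787) (tt N27386 D60156) (tt N24984 (iv D58930)) (tt N27387 D60157) (tt N25469 F263788) (tt N26820 (iv F265998)) (tt N25146 F263789) (tt N27135 (iv F267719)))
theorem Q26162 : ∀ i, i < 26162 → P i := stepQ 26161 Q26161 (allL N26161 (tt N27379 (iv F268743)) (tt N24993 F263790) (tt N27387 (iv F268771)) (tt N27385 (iv F268767)) (tt N26161 F263791) (tt N24985 (iv D58931)) (tt N27388 D60158) (tt N26857 (iv F266201)) (tt N25147 F263792) (tt N27136 (iv F267723)))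
theorem Q26163 : ∀ i, i < 26163 → P i := stepQ 26162 Q26162 (allL N26162 (tt N25272 F263793) (tt N25499 F263794) (tt N27389 D60159) (tt N24986 (iv D58932)) (tt N27390 D60160) (tt N24988 F263795) (tt N26899 (iv F266470)) (tt N25288 F263796) (tt N24990 F263797) (tt N25464 F263798))
theorem Q26164 : ∀ i, i < 26164 → P i := stepQ 26163 Q26163 (allL N26163 (tt N25244 F263799) (tt N25089 F263800) (tt N27391 D60161) (tt N24987 (iv D58933)) (tt N26965 (iv F266822)) (tt N25464 F263801) (tt N25470 F263802) (tt N25073 F263803) (tt N27137 (iv F267729)) (tt N24988 F263804))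
theorem Q26165 : ∀ i, i < 26165 → P i := stepQ 26164 Q26164 (allL N26164 (tt N25273 F263805) (tt N27392 D60162) (tt N24988 (iv D58934)) (tt N25016 F263806) (tt N26989 (iv F266948)) (tt N27389 (iv F268784)) (tt N25471 F263807) (tt N25289 F263808) (tt N24991 F263809) (tt N27391 (iv F268799)))
theorem Q26166 : ∀ i, i < 26166 → P i := stepQ 26165 Q26165 (allL N26165 (tt N26784 (iv F265780)) (tt N26901 (iv F266481)) (tt N27393 D60163) (tt N24989 (iv D58935)) (tt N27394 D60164) (tt N25240 F263810) (tt N24990 F263811) (tt N26831 (iv F266060)) (tt N26899 (iv F266472)) (tt N25265 F263812))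
theorem Q26167 : ∀ i, i < 26167 → P i := stepQ 26166 Q26166 (allL N26166 (tt N27302 (iv F268405)) (tt N27395 D60165) (tt N24990 (iv D58936)) (tt N24995 F263813) (tt N27396 D60166) (tt N24991 F263814) (tt N27393 (iv F268806)) (tt N27368 (iv F268701)) (tt N27389 (iv F268786)) (tt N27140 (iv F267740)))
theorem Q26168 : ∀ i, i < 26168 → P i := stepQ 26167 Q26167 (allL N26167 (tt N27303 (iv F268410)) (tt N27382 (iv F268758)) (tt N27396 (iv F268813)) (tt N26167 F263815) (tt N24990 (iv D58937)) (tt N27397 D60167) (tt N27394 (iv F268809)) (tt N27369 (iv F268707)) (tt N27390 (iv F268792)) (tt N27141 (iv F267743)))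
theorem Q26169 : ∀ i, i < 26169 → P i := stepQ 26168 Q26168 (allL N26168 (tt N27398 D60168) (tt N24991 (iv D58938)) (tt N27383 (iv F268762)) (tt N24997 F263816) (tt N27399 D60169) (tt N27395 (iv F268812)) (tt N25473 F263817) (tt N27370 (iv F268710)) (tt N27392 (iv F268803)) (tt N27142 (iv F267746)))
theorem Q26170 : ∀ i, i < 26170 → P i := stepQ 26169 Q26169 (allL N26169 (tt N27305 (iv F268420)) (tt N27399 (iv F268818)) (tt N24992 F263818) (tt N27258 (iv F268204)) (tt N24991 (iv D58939)) (tt N27400 D60170) (tt N25474 F263819) (tt N27019 (iv F267105)) (tt N26989 F266951) (tt N27143 (iv F267749)))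
theorem Q26171 : ∀ i, i < 26171 → P i := stepQ 26170 Q26170 (allL N26170 (tt N27306 (iv F268426)) (tt N27385 (iv F268766)) (tt N27400 (iv F268820)) (tt N24993 F263820) (tt N27397 (iv F268815)) (tt N24992 (iv D58940)) (tt N27401 D60171) (tt N26856 (iv F266194)) (tt N26854 (iv F266183)) (tt N27144 (iv F267751)))
theorem Q26172 : ∀ i, i < 26172 → P i := stepQ 26171 Q26171 (allL N26171 (tt N27307 (iv F268431)) (tt N27388 (iv F268776)) (tt N25114 F263821) (tt N27401 (iv F268821)) (tt N26171 F263822) (tt N25113 F263823) (tt N24993 (iv D58941)) (tt N27241 (iv F268123)) (tt N25131 F263824) (tt N27145 (iv F267756)))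
theorem Q26173 : ∀ i, i < 26173 → P i := stepQ 26172 Q26172 (allL N26172 (tt N26788 (iv F265803)) (tt N27402 D60172) (tt N24994 (iv D58942)) (tt N27393 (iv F268804)) (tt N27403 D60173) (tt N25242 F263825) (tt N24995 F263826) (tt N26928 (iv F266618)) (tt N25022 F263827) (tt N25269 F263828))
theorem Q26174 : ∀ i, i < 26174 → P i := stepQ 26173 Q26173 (allL N26173 (tt N26789 (iv F265808)) (tt N25479 F263829) (tt N27403 (iv F268828)) (tt N26173 F263830) (tt N24994 (iv D58943)) (tt N26877 (iv F266331)) (tt N24996 F263831) (tt N26929 (iv F266624)) (tt N25023 F263832) (tt N25270 F263833))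
theorem Q26175 : ∀ i, i < 26175 → P i := stepQ 26174 Q26174 (allL N26174 (tt N27404 D60174) (tt N24995 (iv D58944)) (tt N26924 (iv F266597)) (tt N27395 (iv F268811)) (tt N27405 D60175) (tt N24997 F263834) (tt N27402 (iv F268825)) (tt N27373 (iv F268720)) (tt N25024 F263835) (tt N27146 (iv F267761)))
theorem Q26176 : ∀ i, i < 26176 → P i := stepQ 26175 Q26175 (allL N26175 (tt N27309 (iv F268440)) (tt N27405 (iv F268834)) (tt N24996 F263836) (tt N27406 D60176) (tt N24995 (iv D58945)) (tt N27261 (iv F268215)) (tt N27403 (iv F268829)) (tt N27374 (iv F268723)) (tt N25025 F263837) (tt N27147 (iv F267765)))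
theorem Q26177 : ∀ i, i < 26177 → P i := stepQ 26176 Q26176 (allL N26176 (tt N24997 (iv D58946)) (tt N27310 (iv F268444)) (tt N26926 (iv F266606)) (tt N27398 (iv F268816)) (tt N27262 (iv F268218)) (tt N27404 (iv F268832)) (tt N25475 F263838) (tt N27375 (iv F268725)) (tt N25026 F263839) (tt N27148 (iv F267769)))
theorem Q26178 : ∀ i, i < 26178 → P i := stepQ 26177 Q26177 (allL N26177 (tt N25072 F263840) (tt N27407 D60177) (tt N24998 (iv D58947)) (tt N25001 F263841) (tt N25451 F263842) (tt N26943 (iv F266697)) (tt N25005 F263843) (tt N25477 F263844) (tt N25069 F263845) (tt N25042 F263846))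
theorem Q26179 : ∀ i, i < 26179 → P i := stepQ 26178 Q26178 (allL N26178 (tt N27150 (iv F267776)) (tt N26927 (iv F266611)) (tt N27408 D60178) (tt N24999 (iv D58948)) (tt N27409 D60179) (tt N25007 F263847) (tt N25000 F263848) (tt N26906 (iv F266514)) (tt N25486 F263849) (tt N25045 F263850))
theorem Q26180 : ∀ i, i < 26180 → P i := stepQ 26179 Q26179 (allL N26179 (tt N27311 (iv F268448)) (tt N27410 D60180) (tt N25000 (iv D58949)) (tt N26943 (iv F266696)) (tt N27411 D60181) (tt N25001 F263851) (tt N27408 (iv F268845)) (tt N25478 F263852) (tt N26957 (iv F266779)) (tt N25046 F263853))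
theorem Q26181 : ∀ i, i < 26181 → P i := stepQ 26180 Q26180 (allL N26180 (tt N27312 (iv F268454)) (tt N26929 (iv F266621)) (tt N27411 (iv F268855)) (tt N26180 F263854) (tt N25000 (iv D58950)) (tt N27264 (iv F268230)) (tt N27409 (iv F268849)) (tt N25479 F263855) (tt N26958 (iv F266787)) (tt N25047 F263856))
theorem Q26182 : ∀ i, i < 26182 → P i := stepQ 26181 Q26181 (allL N26181 (tt N27412 D60182) (tt N25001 (iv D58951)) (tt N26930 (iv F266627)) (tt N27407 (iv F268837)) (tt N27265 (iv F268235)) (tt N27410 (iv F268852)) (tt N25010 F263857) (tt N25480 F263858) (tt N27366 (iv F268690)) (tt N25048 F263859))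
theorem Q26183 : ∀ i, i < 26183 → P i := stepQ 26182 Q26182 (allL N26182 (tt N25459 F263860) (tt N27413 D60183) (tt N25002 (iv D58952)) (tt N26931 (iv F266633)) (tt N25455 F263861) (tt N26973 (iv F266860)) (tt N26947 (iv F266724)) (tt N25012 F263862) (tt N25458 F263863) (tt N25051 F263864))
theorem Q26184 : ∀ i, i < 26184 → P i := stepQ 26183 Q26183 (allL N26183 (tt N25528 F263865) (tt N25255 F263866) (tt N27414 D60184) (tt N25003 (iv D58953)) (tt N27006 (iv F267049)) (tt N25251 F263867) (tt N25004 F263868) (tt N25466 F263869) (tt N25252 F263870) (tt N25058 F263871))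
theorem Q26185 : ∀ i, i < 26185 → P i := stepQ 26184 Q26184 (allL N26184 (tt N25527 F263872) (tt N27415 D60185) (tt N25004 (iv D58954)) (tt N25008 F263873) (tt N27005 (iv F267042)) (tt N25005 F263874) (tt N27414 (iv F268869)) (tt N25018 F263875) (tt N25532 F263876) (tt N25059 F263877))
theorem Q26186 : ∀ i, i < 26186 → P i := stepQ 26185 Q26185 (allL N26185 (tt N27416 D60186) (tt N25005 (iv D58955)) (tt N27413 (iv F268861)) (tt N25010 F263878) (tt N25456 F263879) (tt N27415 (iv F268874)) (tt N27407 (iv F268839)) (tt N25020 F263880) (tt N25533 F263881) (tt N25061 F263882))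
theorem Q26187 : ∀ i, i < 26187 → P i := stepQ 26186 Q26186 (allL N26186 (tt N26796 (iv F265854)) (tt N25486 F263883) (tt N27417 D60187) (tt N25006 (iv D58956)) (tt N27418 D60188) (tt N26906 (iv F266512)) (tt N25021 F263884) (tt N25007 F263885) (tt N26927 (iv F266615)) (tt N25063 F263886))
theorem Q26188 : ∀ i, i < 26188 → P i := stepQ 26187 Q26187 (allL N26187 (tt N27314 (iv F268468)) (tt N27419 D60189) (tt N25007 (iv D58957)) (tt N27414 (iv F268867)) (tt N27420 D60190) (tt N27408 (iv F268844)) (tt N25008 F263887) (tt N27417 (iv F268886)) (tt N27371 (iv F268715)) (tt N25064 F263888))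
theorem Q26189 : ∀ i, i < 26189 → P i := stepQ 26188 Q26188 (allL N26188 (tt N27315 (iv F268472)) (tt N26939 (iv F266678)) (tt N27420 (iv F268895)) (tt N25030 F263889) (tt N25007 (iv D58958)) (tt N27421 D60191) (tt N25009 F263890) (tt N27418 (iv F268891)) (tt N27372 (iv F268718)) (tt N25065 F263891))
theorem Q26190 : ∀ i, i < 26190 → P i := stepQ 26189 Q26189 (allL N26189 (tt N27422 D60192) (tt N25008 (iv D58959)) (tt N26940 (iv F266683)) (tt N27415 (iv F268873)) (tt N27423 D60193) (tt N25010 F263892) (tt N27419 (iv F268893)) (tt N25024 F263893) (tt N27373 (iv F268721)) (tt N25066 F263894))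
theorem Q26191 : ∀ i, i < 26191 → P i := stepQ 26190 Q26190 (allL N26190 (tt N27317 (iv F268480)) (tt N27423 (iv F268903)) (tt N25009 F263895) (tt N27424 D60194) (tt N25008 (iv D58960)) (tt N27267 (iv F268246)) (tt N27420 (iv F268896)) (tt N25025 F263896) (tt N27374 (iv F268724)) (tt N25067 F263897))
theorem Q26192 : ∀ i, i < 26192 → P i := stepQ 26191 Q26191 (allL N26191 (tt N25010 (iv D58961)) (tt N27318 (iv F268485)) (tt N26942 (iv F266692)) (tt N27416 (iv F268879)) (tt N27268 (iv F268251)) (tt N27422 (iv F268900)) (tt N27412 (iv F268858)) (tt N25026 F263898) (tt N27375 (iv F268726)) (tt N25068 F263899))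
theorem Q26193 : ∀ i, i < 26193 → P i := stepQ 26192 Q26192 (allL N26192 (tt N25455 F263900) (tt N27425 D60195) (tt N25011 (iv D58962)) (tt N26957 (iv F266775)) (tt N25459 F263901) (tt N26990 (iv F266954)) (tt N25488 F263902) (tt N25458 F263903) (tt N25012 F263904) (tt N27007 (iv F267061)))
theorem Q26194 : ∀ i, i < 26194 → P i := stepQ 26193 Q26193 (allL N26193 (tt N27426 D60196) (tt N25012 (iv D58963)) (tt N25020 F263905) (tt N26945 (iv F266711)) (tt N25460 F263906) (tt N26991 (iv F266961)) (tt N25491 F263907) (tt N27413 (iv F268863)) (tt N27425 (iv F268915)) (tt N25076 F263908))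
theorem Q26195 : ∀ i, i < 26195 → P i := stepQ 26194 Q26194 (allL N26194 (tt N25232 F263909) (tt N25308 F263910) (tt N27427 D60197) (tt N25013 (iv D58964)) (tt N26937 (iv F266668)) (tt N25015 F263911) (tt N26910 (iv F266536)) (tt N25294 F263912) (tt N25081 F263913) (tt N25014 F263914))
theorem Q26196 : ∀ i, i < 26196 → P i := stepQ 26195 Q26195 (allL N26195 (tt N25518 F263915) (tt N27428 D60198) (tt N25014 (iv D58965)) (tt N27389 (iv F268783)) (tt N26980 (iv F266899)) (tt N25016 F263916) (tt N27367 (iv F268694)) (tt N25532 F263917) (tt N25018 F263918) (tt N27427 (iv F268925)))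
theorem Q26197 : ∀ i, i < 26197 → P i := stepQ 26196 Q26196 (allL N26196 (tt N25481 F263919) (tt N27429 D60199) (tt N25015 (iv D58966)) (tt N27391 (iv F268795)) (tt N25461 F263920) (tt N27427 (iv F268922)) (tt N25497 F263921) (tt N25485 F263922) (tt N25084 F263923) (tt N25016 F263924))
theorem Q26198 : ∀ i, i < 26198 → P i := stepQ 26197 Q26197 (allL N26197 (tt N27430 D60200) (tt N25016 (iv D58967)) (tt N27425 (iv F268911)) (tt N27392 (iv F268800)) (tt N25462 F263925) (tt N27428 (iv F268926)) (tt N25498 F263926) (tt N25533 F263927) (tt N25020 F263928) (tt N27429 (iv F268933)))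
theorem Q26199 : ∀ i, i < 26199 → P i := stepQ 26198 Q26198 (allL N26198 (tt N25205 F263929) (tt N27431 D60201) (tt N25017 (iv D58968)) (tt N25022 F263930) (tt N27021 (iv F267116)) (tt N25500 F263931) (tt N25018 F263932) (tt N27380 (iv F268752)) (tt N27367 (iv F268696)) (tt N25090 F263933))
theorem Q26200 : ∀ i, i < 26200 → P i := stepQ 26199 Q26199 (allL N26199 (tt N27432 D60202) (tt N25018 (iv D58969)) (tt N26991 (iv F266959)) (tt N25024 F263934) (tt N27433 D60203) (tt N25020 F263935) (tt N27431 (iv F268942)) (tt N27415 (iv F268875)) (tt N27428 (iv F268928)) (tt N25092 F263936))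
theorem Q26201 : ∀ i, i < 26201 → P i := stepQ 26200 Q26200 (allL N26200 (tt N25555 F263937) (tt N27433 (iv F268948)) (tt N25019 F263938) (tt N25315 (iv F263941)) (tt N25018 (iv D58970)) (tt N25180 F263939) (tt N27021 (iv F267117)) (tt N27005 (iv F267043)) (tt N26980 (iv F266901)) (tt N25093 F263940))
theorem Q26202 : ∀ i, i < 26202 → P i := stepQ 26201 Q26201 (allL N26201 (tt N25020 (iv D58971)) (tt N25556 F263942) (tt N27426 (iv F268916)) (tt N25026 F263943) (tt N25463 F263944) (tt N27432 (iv F268946)) (tt N25504 F263945) (tt N27416 (iv F268881)) (tt N27430 (iv F268938)) (tt N25095 F263946))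
theorem Q26203 : ∀ i, i < 26203 → P i := stepQ 26202 Q26202 (allL N26202 (tt N26797 (iv F265861)) (tt N27434 D60204) (tt N25021 (iv D58972)) (tt N27380 (iv F268749)) (tt N27435 D60205) (tt N25505 F263947) (tt N27417 (iv F268885)) (tt N25022 F263948) (tt N26928 (iv F266619)) (tt N25098 F263949))
theorem Q26204 : ∀ i, i < 26204 → P i := stepQ 26203 Q26203 (allL N26203 (tt N26798 (iv F265866)) (tt N26958 (iv F266782)) (tt N27435 (iv F268955)) (tt N25034 F263950) (tt N25021 (iv D58973)) (tt N25396 F263951) (tt N27418 (iv F268890)) (tt N25023 F263952) (tt N26929 (iv F266625)) (tt N25099 F263953))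
theorem Q26205 : ∀ i, i < 26205 → P i := stepQ 26204 Q26204 (allL N26204 (tt N27436 D60206) (tt N25022 (iv D58974)) (tt N26959 (iv F266789)) (tt N27431 (iv F268940)) (tt N27437 D60207) (tt N25506 F263954) (tt N25024 F263955) (tt N27434 (iv F268953)) (tt N27402 (iv F268826)) (tt N25100 F263956))
theorem Q26206 : ∀ i, i < 26206 → P i := stepQ 26205 Q26205 (allL N26205 (tt N26807 (iv F265913)) (tt N27437 (iv F268962)) (tt N25023 F263957) (tt N27438 D60208) (tt N25022 (iv D58975)) (tt N26885 (iv F266384)) (tt N25025 F263958) (tt N27435 (iv F268957)) (tt N27403 (iv F268830)) (tt N25101 F263959))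
theorem Q26207 : ∀ i, i < 26207 → P i := stepQ 26206 Q26206 (allL N26206 (tt N25024 (iv D58976)) (tt N27319 (iv F268490)) (tt N26961 (iv F266802)) (tt N27432 (iv F268945)) (tt N27439 D60209) (tt N25026 F263960) (tt N27436 (iv F268960)) (tt N27422 (iv F268901)) (tt N27404 (iv F268833)) (tt N25102 F263961))
theorem Q26208 : ∀ i, i < 26208 → P i := stepQ 26207 Q26207 (allL N26207 (tt N27439 (iv F268970)) (tt N25025 F263962) (tt N26962 (iv F266806)) (tt N27440 D60210) (tt N25024 (iv D58977)) (tt N27270 (iv F268260)) (tt N27437 (iv F268963)) (tt N27423 (iv F268904)) (tt N27405 (iv F268835)) (tt N25103 F263963))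
theorem Q26209 : ∀ i, i < 26209 → P i := stepQ 26208 Q26208 (allL N26208 (tt N27321 (iv F268497)) (tt N27440 (iv F268972)) (tt N25037 F263964) (tt N25025 (iv D58978)) (tt N25315 F263965) (tt N25312 F263966) (tt N27438 (iv F268968)) (tt N27424 (iv F268909)) (tt N27441 D60211) (tt N25104 F263967))
theorem Q26210 : ∀ i, i < 26210 → P i := stepQ 26209 Q26209 (allL N26209 (tt N26810 (iv F265931)) (tt N25107 F263968) (tt N25028 (iv D58979)) (tt N25112 F263969) (tt N27442 D60212) (tt N26209 F263970) (tt N25033 F263971) (tt N25029 F263972) (tt N26209 F263973) (tt N25110 F263974))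
theorem Q26211 : ∀ i, i < 26211 → P i := stepQ 26210 Q26210 (allL N26210 (tt N26811 (iv F265939)) (tt N25564 F263975) (tt N27442 (iv F268980)) (tt N27418 (iv F268889)) (tt N25028 (iv D58980)) (tt N27242 (iv F268126)) (tt N25034 F263976) (tt N25030 F263977) (tt N26210 F263978) (tt N25111 F263979))
theorem Q26212 : ∀ i, i < 26212 → P i := stepQ 26211 Q26211 (allL N26211 (tt N26781 (iv F265759)) (tt N25029 (iv D58981)) (tt N25106 F263980) (tt N25110 F263981) (tt N27443 D60213) (tt N26211 F263982) (tt N25031 F263983) (tt N25107 F263984) (tt N26211 F263985) (tt N25112 F263986))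
theorem Q26213 : ∀ i, i < 26213 → P i := stepQ 26212 Q26212 (allL N26212 (tt N27322 (iv F268502)) (tt N27443 (iv F268985)) (tt N25030 F263987) (tt N27444 D60214) (tt N25029 (iv D58982)) (tt N27145 (iv F267754)) (tt N25032 F263988) (tt N27442 (iv F268982)) (tt N26212 F263989) (tt N25113 F263990))
theorem Q26214 : ∀ i, i < 26214 → P i := stepQ 26213 Q26213 (allL N26213 (tt N27323 (iv F268507)) (tt N26964 (iv F266814)) (tt N27145 (iv F267752)) (tt N27421 (iv F268898)) (tt N26213 F263991) (tt N25030 (iv D58983)) (tt N27042 (iv F267247)) (tt N27242 (iv F268128)) (tt N26213 F263992) (tt N25114 F263993))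
theorem Q26215 : ∀ i, i < 26215 → P i := stepQ 26214 Q26214 (allL N26214 (tt N26849 (iv F266143)) (tt N25032 F263994) (tt N25118 F263995) (tt N27445 D60215) (tt N25031 (iv D58984)) (tt N25320 F263996) (tt N27443 (iv F268987)) (tt N25036 F263997) (tt N26214 F263998) (tt N25116 F263999))
theorem Q26216 : ∀ i, i < 26216 → P i := stepQ 26215 Q26215 (allL N26215 (tt N27324 (iv F268512)) (tt N27445 (iv F268994)) (tt N27424 (iv F268906)) (tt N25032 (iv D58985)) (tt N25284 F264000) (tt N25281 F264001) (tt N27444 (iv F268992)) (tt N25037 F264002) (tt N27446 D60216) (tt N25117 F264003))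
theorem Q26217 : ∀ i, i < 26217 → P i := stepQ 26216 Q26216 (allL N26216 (tt N26812 (iv F265945)) (tt N25109 F264004) (tt N25034 F264005) (tt N27447 D60217) (tt N25033 (iv D58986)) (tt N25245 F264006) (tt N27442 (iv F268981)) (tt N25035 F264007) (tt N26216 F264008) (tt N25121 F264009))
theorem Q26218 : ∀ i, i < 26218 → P i := stepQ 26217 Q26217 (allL N26217 (tt N26813 (iv F265952)) (tt N25120 F264010) (tt N27438 (iv F268965)) (tt N25035 (iv D58987)) (tt N25124 F264011) (tt N25254 F264012) (tt N25037 F264013) (tt N27447 (iv F269006)) (tt N27448 D60218) (tt N25122 F264014))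
theorem Q26219 : ∀ i, i < 26219 → P i := stepQ 26218 Q26218 (allL N26218 (tt N26855 (iv F266184)) (tt N25037 F264015) (tt N27449 D60219) (tt N25036 (iv D58988)) (tt N25122 F264016) (tt N25296 F264017) (tt N25120 F264018) (tt N27445 (iv F268997)) (tt N27450 D60220) (tt N25124 F264019))
theorem Q26220 : ∀ i, i < 26220 → P i := stepQ 26219 Q26219 (allL N26219 (tt N27325 (iv F268517)) (tt N27450 (iv F269018)) (tt N27441 (iv F268976)) (tt N26219 F264020) (tt N25307 F264021) (tt N25302 F264022) (tt N27448 (iv F269012)) (tt N27446 (iv F269002)) (tt N25037 (iv D58989)) (tt N27451 D60221))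
theorem Q26221 : ∀ i, i < 26221 → P i := stepQ 26220 Q26220 (allL N26220 (tt N25482 F264023) (tt N27452 D60222) (tt N25038 (iv D58990)) (tt N26827 (iv F266031)) (tt N25056 F264024) (tt N26948 (iv F266730)) (tt N25051 F264025) (tt N25087 F264026) (tt N25062 F264027) (tt N26947 (iv F266727)))
theorem Q26222 : ∀ i, i < 26222 → P i := stepQ 26221 Q26221 (allL N26221 (tt N27007 (iv F267054)) (tt N27453 D60223) (tt N25039 (iv D58991)) (tt N26893 (iv F266430)) (tt N25051 F264028) (tt N26993 (iv F266972)) (tt N25056 F264029) (tt N25077 F264030) (tt N25042 F264031) (tt N25455 F264032))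
theorem Q26223 : ∀ i, i < 26223 → P i := stepQ 26222 Q26222 (allL N26222 (tt N27127 (iv F267676)) (tt N25256 F264033) (tt N27454 D60224) (tt N25040 (iv D58992)) (tt N27455 D60225) (tt N25058 F264034) (tt N25041 F264035) (tt N27084 (iv F267471)) (tt N25291 F264036) (tt N25251 F264037))
theorem Q26224 : ∀ i, i < 26224 → P i := stepQ 26223 Q26223 (allL N26223 (tt N27326 (iv F268521)) (tt N27456 D60226) (tt N25041 (iv D58993)) (tt N25046 F264038) (tt N27457 D60227) (tt N25042 F264039) (tt N27454 (iv F269040)) (tt N25510 F264040) (tt N26993 (iv F266975)) (tt N26943 (iv F266701)))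
theorem Q26225 : ∀ i, i < 26225 → P i := stepQ 26224 Q26224 (allL N26224 (tt N27327 (iv F268527)) (tt N26949 (iv F266736)) (tt N27457 (iv F269051)) (tt N26224 F264041) (tt N25041 (iv D58994)) (tt N27458 D60228) (tt N27455 (iv F269045)) (tt N25511 F264042) (tt N26994 (iv F266983)) (tt N26944 (iv F266709)))
theorem Q26226 : ∀ i, i < 26226 → P i := stepQ 26225 Q26225 (allL N26225 (tt N27459 D60229) (tt N25042 (iv D58995)) (tt N27452 (iv F269027)) (tt N25048 F264043) (tt N27460 D60230) (tt N27456 (iv F269049)) (tt N25061 F264044) (tt N25512 F264045) (tt N27453 (iv F269036)) (tt N27407 (iv F268842)))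
theorem Q26227 : ∀ i, i < 26227 → P i := stepQ 26226 Q26226 (allL N26226 (tt N25477 F264046) (tt N27460 (iv F269064)) (tt N25043 F264047) (tt N25434 F264048) (tt N25042 (iv D58996)) (tt N27461 D60231) (tt N25062 F264049) (tt N25072 F264050) (tt N25051 F264051) (tt N25451 F264052))
theorem Q26228 : ∀ i, i < 26228 → P i := stepQ 26227 Q26227 (allL N26227 (tt N25476 F264053) (tt N25054 F264054) (tt N27461 (iv F269072)) (tt N25044 F264055) (tt N27458 (iv F269056)) (tt N25043 (iv D58997)) (tt N25300 F264056) (tt N25071 F264057) (tt N25050 F264058) (tt N25299 F264059))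
theorem Q26229 : ∀ i, i < 26229 → P i := stepQ 26228 Q26228 (allL N26228 (tt N27151 (iv F267783)) (tt N27462 D60232) (tt N25045 (iv D58998)) (tt N27454 (iv F269038)) (tt N27463 D60233) (tt N25064 F264060) (tt N25046 F264061) (tt N27096 (iv F267541)) (tt N27092 (iv F267521)) (tt N27408 (iv F268847)))
theorem Q26230 : ∀ i, i < 26230 → P i := stepQ 26229 Q26229 (allL N26229 (tt N27152 (iv F267788)) (tt N26969 (iv F266844)) (tt N27463 (iv F269080)) (tt N26229 F264062) (tt N25045 (iv D58999)) (tt N27178 (iv F267890)) (tt N25047 F264063) (tt N27097 (iv F267546)) (tt N27059 F267342) (tt N27409 (iv F268851)))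
theorem Q26231 : ∀ i, i < 26231 → P i := stepQ 26230 Q26230 (allL N26230 (tt N27464 D60234) (tt N25046 (iv D59000)) (tt N26970 (iv F266848)) (tt N27456 (iv F269048)) (tt N27465 D60235) (tt N25048 F264064) (tt N27462 (iv F269079)) (tt N25515 F264065) (tt N27179 (iv F267893)) (tt N27410 (iv F268854)))
theorem Q26232 : ∀ i, i < 26232 → P i := stepQ 26231 Q26231 (allL N26231 (tt N27330 (iv F268542)) (tt N27465 (iv F269084)) (tt N25047 F264066) (tt N27466 D60236) (tt N25046 (iv D59001)) (tt N27273 (iv F268274)) (tt N27463 (iv F269081)) (tt N25516 F264067) (tt N27180 (iv F267897)) (tt N27411 (iv F268857)))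
theorem Q26233 : ∀ i, i < 26233 → P i := stepQ 26232 Q26232 (allL N26232 (tt N25048 (iv D59002)) (tt N27331 (iv F268545)) (tt N26972 (iv F266855)) (tt N27459 (iv F269061)) (tt N27274 (iv F268277)) (tt N27464 (iv F269082)) (tt N25068 F264068) (tt N25517 F264069) (tt N27181 (iv F267901)) (tt N27412 (iv F268860)))
theorem Q26234 : ∀ i, i < 26234 → P i := stepQ 26233 Q26233 (allL N26233 (tt N25051 F264070) (tt N27467 D60237) (tt N25049 (iv D59003)) (tt N26973 (iv F266859)) (tt N27007 (iv F267056)) (tt N26931 (iv F266634)) (tt N25482 F264071) (tt N25069 F264072) (tt N25477 F264073) (tt N25459 F264074))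
theorem Q26235 : ∀ i, i < 26235 → P i := stepQ 26234 Q26234 (allL N26234 (tt N26931 (iv F266632)) (tt N27468 D60238) (tt N25050 (iv D59004)) (tt N25459 F264075) (tt N27469 D60239) (tt N25051 F264076) (tt N27346 (iv F268609)) (tt N25074 F264077) (tt N27461 (iv F269076)) (tt N26973 (iv F266864)))
theorem Q26236 : ∀ i, i < 26236 → P i := stepQ 26235 Q26235 (allL N26235 (tt N26932 (iv F266638)) (tt N25060 F264078) (tt N27469 (iv F269097)) (tt N25105 F264079) (tt N25050 (iv D59005)) (tt N26994 (iv F266980)) (tt N27288 (iv F268348)) (tt N25075 F264080) (tt N27458 (iv F269058)) (tt N26974 (iv F266872)))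
theorem Q26237 : ∀ i, i < 26237 → P i := stepQ 26236 Q26236 (allL N26236 (tt N27470 D60240) (tt N25051 (iv D59006)) (tt N25061 F264081) (tt N26975 (iv F266874)) (tt N27453 (iv F269033)) (tt N27468 (iv F269095)) (tt N27452 (iv F269029)) (tt N25076 F264082) (tt N27460 (iv F269069)) (tt N27413 (iv F268865)))
theorem Q26238 : ∀ i, i < 26238 → P i := stepQ 26237 Q26237 (allL N26237 (tt N27128 (iv F267683)) (tt N25300 F264083) (tt N27471 D60241) (tt N25052 (iv D59007)) (tt N27472 D60242) (tt N25291 F264084) (tt N25054 F264085) (tt N27085 (iv F267478)) (tt N25058 F264086) (tt N25290 F264087))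
theorem Q26239 : ∀ i, i < 26239 → P i := stepQ 26238 Q26238 (allL N26238 (tt N25487 F264088) (tt N25299 F264089) (tt N27473 D60243) (tt N25053 (iv D59008)) (tt N26952 (iv F266751)) (tt N25055 F264090) (tt N25290 F264091) (tt N25081 F264092) (tt N25294 F264093) (tt N25054 F264094))
theorem Q26240 : ∀ i, i < 26240 → P i := stepQ 26239 Q26239 (allL N26239 (tt N27332 (iv F268548)) (tt N27474 D60244) (tt N25054 (iv D59009)) (tt N27183 (iv F267909)) (tt N27475 D60245) (tt N25056 F264095) (tt N27471 (iv F269102)) (tt N25082 F264096) (tt N25059 F264097) (tt N27473 (iv F269115)))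
theorem Q26241 : ∀ i, i < 26241 → P i := stepQ 26240 Q26240 (allL N26240 (tt N27333 (iv F268553)) (tt N27458 (iv F269054)) (tt N27475 (iv F269119)) (tt N26240 F264098) (tt N25054 (iv D59010)) (tt N26949 (iv F266738)) (tt N27472 (iv F269107)) (tt N25083 F264099) (tt N25060 F264100) (tt N26952 (iv F266754)))
theorem Q26242 : ∀ i, i < 26242 → P i := stepQ 26241 Q26241 (allL N26241 (tt N25488 F264101) (tt N27476 D60246) (tt N25055 (iv D59011)) (tt N27185 (iv F267918)) (tt N26947 (iv F266722)) (tt N27473 (iv F269111)) (tt N25455 F264102) (tt N25084 F264103) (tt N25485 F264104) (tt N25056 F264105))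
theorem Q26243 : ∀ i, i < 26243 → P i := stepQ 26242 Q26242 (allL N26242 (tt N27477 D60247) (tt N25056 (iv D59012)) (tt N27460 (iv F269065)) (tt N27187 (iv F267929)) (tt N27452 (iv F269028)) (tt N27474 (iv F269116)) (tt N27453 (iv F269034)) (tt N25086 F264106) (tt N25061 F264107) (tt N27476 (iv F269126)))
theorem Q26244 : ∀ i, i < 26244 → P i := stepQ 26243 Q26243 (allL N26243 (tt N26780 (iv F265752)) (tt N25470 F264108) (tt N27478 D60248) (tt N25057 (iv D59013)) (tt N27479 D60249) (tt N27084 (iv F267469)) (tt N25089 F264109) (tt N25058 F264110) (tt N27085 (iv F267479)) (tt N25466 F264111))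
theorem Q26245 : ∀ i, i < 26245 → P i := stepQ 26244 Q26244 (allL N26244 (tt N27335 (iv F268565)) (tt N27480 D60250) (tt N25058 (iv D59014)) (tt N25064 F264112) (tt N27481 D60251) (tt N27454 (iv F269039)) (tt N25059 F264113) (tt N27478 (iv F269131)) (tt N27471 (iv F269103)) (tt N27414 (iv F268872)))
theorem Q26246 : ∀ i, i < 26246 → P i := stepQ 26245 Q26245 (allL N26245 (tt N27336 (iv F268569)) (tt N27288 (iv F268344)) (tt N27481 (iv F269140)) (tt N25108 F264114) (tt N25058 (iv D59015)) (tt N27482 D60252) (tt N25060 F264115) (tt N27479 (iv F269136)) (tt N27472 (iv F269108)) (tt N27006 (iv F267052)))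
theorem Q26247 : ∀ i, i < 26247 → P i := stepQ 26246 Q26246 (allL N26246 (tt N27483 D60253) (tt N25059 (iv D59016)) (tt N27468 (iv F269093)) (tt N25066 F264116) (tt N27484 D60254) (tt N25061 F264117) (tt N27480 (iv F269139)) (tt N25092 F264118) (tt N27474 (iv F269118)) (tt N27415 (iv F268877)))
theorem Q26248 : ∀ i, i < 26248 → P i := stepQ 26247 Q26247 (allL N26247 (tt N27338 (iv F268579)) (tt N27484 (iv F269149)) (tt N25060 F264119) (tt N27485 D60255) (tt N25059 (iv D59017)) (tt N27002 (iv F267024)) (tt N27481 (iv F269141)) (tt N25093 F264120) (tt N27475 (iv F269121)) (tt N27005 (iv F267045)))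
theorem Q26249 : ∀ i, i < 26249 → P i := stepQ 26248 Q26248 (allL N26248 (tt N25061 (iv D59018)) (tt N27339 (iv F268584)) (tt N27470 (iv F269099)) (tt N25068 F264121) (tt N27486 D60256) (tt N27483 (iv F269147)) (tt N27459 (iv F269062)) (tt N25095 F264122) (tt N27477 (iv F269128)) (tt N27416 (iv F268883)))
theorem Q26250 : ∀ i, i < 26250 → P i := stepQ 26249 Q26249 (allL N26249 (tt N27486 (iv F269156)) (tt N25062 F264123) (tt N27453 (iv F269032)) (tt N25449 F264124) (tt N25061 (iv D59019)) (tt N27001 (iv F267017)) (tt N27460 (iv F269067)) (tt N25096 F264125) (tt N27452 (iv F269031)) (tt N25456 F264126))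
theorem Q26251 : ∀ i, i < 26251 → P i := stepQ 26250 Q26250 (allL N26250 (tt N26821 (iv F266000)) (tt N27487 D60257) (tt N25063 (iv D59020)) (tt N27478 (iv F269129)) (tt N27488 D60258) (tt N27096 (iv F267539)) (tt N25098 F264127) (tt N25064 F264128) (tt N27098 (iv F267554)) (tt N27417 (iv F268887)))
theorem Q26252 : ∀ i, i < 26252 → P i := stepQ 26251 Q26251 (allL N26251 (tt N26822 (iv F266005)) (tt N26983 (iv F266915)) (tt N27488 (iv F269163)) (tt N25111 F264129) (tt N25063 (iv D59021)) (tt N27222 (iv F268066)) (tt N25099 F264130) (tt N25065 F264131) (tt N25405 F264132) (tt N27418 (iv F268892)))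
theorem Q26253 : ∀ i, i < 26253 → P i := stepQ 26252 Q26252 (allL N26252 (tt N27489 D60259) (tt N25064 (iv D59022)) (tt N26984 (iv F266922)) (tt N27480 (iv F269138)) (tt N27490 D60260) (tt N27462 (iv F269078)) (tt N25066 F264133) (tt N27487 (iv F269162)) (tt N27111 (iv F267606)) (tt N27419 (iv F268894)))
theorem Q26254 : ∀ i, i < 26254 → P i := stepQ 26253 Q26253 (allL N26253 (tt N27341 (iv F268591)) (tt N27490 (iv F269168)) (tt N25065 F264134) (tt N27491 D60261) (tt N25064 (iv D59023)) (tt N27492 D60262) (tt N25067 F264135) (tt N27488 (iv F269165)) (tt N27112 (iv F267610)) (tt N27420 (iv F268897)))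
theorem Q26255 : ∀ i, i < 26255 → P i := stepQ 26254 Q26254 (allL N26254 (tt N27342 (iv F268594)) (tt N26986 (iv F266932)) (tt N27492 (iv F269172)) (tt N25114 F264136) (tt N27178 (iv F267889)) (tt N25065 (iv D59024)) (tt N27259 (iv F268209)) (tt N27222 F268068) (tt N27113 (iv F267617)) (tt N27421 (iv F268899)))
theorem Q26256 : ∀ i, i < 26256 → P i := stepQ 26255 Q26255 (allL N26255 (tt N25066 (iv D59025)) (tt N27343 (iv F268598)) (tt N26987 (iv F266937)) (tt N27483 (iv F269146)) (tt N27493 D60263) (tt N25068 F264137) (tt N27489 (iv F269167)) (tt N25102 F264138) (tt N27193 (iv F267950)) (tt N27422 (iv F268902)))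
theorem Q26257 : ∀ i, i < 26257 → P i := stepQ 26256 Q26256 (allL N26256 (tt N27493 (iv F269173)) (tt N25067 F264139) (tt N26988 (iv F266943)) (tt N27494 D60264) (tt N25066 (iv D59026)) (tt N27277 (iv F268293)) (tt N27490 (iv F269169)) (tt N25103 F264140) (tt N27194 (iv F267954)) (tt N27423 (iv F268905)))
theorem Q26258 : ∀ i, i < 26258 → P i := stepQ 26257 Q26257 (allL N26257 (tt N27345 (iv F268603)) (tt N27494 (iv F269175)) (tt N25117 F264141) (tt N25067 (iv D59027)) (tt N27485 (iv F269152)) (tt N25474 F264142) (tt N27491 (iv F269171)) (tt N25104 F264143) (tt N27495 D60265) (tt N27424 (iv F268910)))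
theorem Q26259 : ∀ i, i < 26259 → P i := stepQ 26258 Q26258 (allL N26258 (tt N27496 D60266) (tt N25069 (iv D59028)) (tt N26953 (iv F266756)) (tt N26991 (iv F266960)) (tt N27008 (iv F267064)) (tt N26945 (iv F266712)) (tt N25533 F264144) (tt N27467 (iv F269090)) (tt N27407 (iv F268841)) (tt N26997 (iv F267003)))
theorem Q26260 : ∀ i, i < 26260 → P i := stepQ 26259 Q26259 (allL N26259 (tt N25251 F264145) (tt N25080 F264146) (tt N27497 D60267) (tt N25070 (iv D59029)) (tt N26966 (iv F266829)) (tt N25528 F264147) (tt N25071 F264148) (tt N27137 (iv F267728)) (tt N25073 F264149) (tt N27127 (iv F267682)))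
theorem Q26261 : ∀ i, i < 26261 → P i := stepQ 26260 Q26260 (allL N26260 (tt N26943 (iv F266695)) (tt N27498 D60268) (tt N25071 (iv D59030)) (tt N27311 (iv F268449)) (tt N27499 D60269) (tt N25072 F264150) (tt N27497 (iv F269185)) (tt N27461 (iv F269075)) (tt N25074 F264151) (tt N27326 (iv F268526)))
theorem Q26262 : ∀ i, i < 26262 → P i := stepQ 26261 Q26261 (allL N26261 (tt N26944 (iv F266702)) (tt N25083 F264152) (tt N27499 (iv F269190)) (tt N26261 F264153) (tt N25071 (iv D59031)) (tt N25511 F264154) (tt N26966 (iv F266830)) (tt N27458 (iv F269057)) (tt N25075 F264155) (tt N27327 (iv F268533)))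
theorem Q26263 : ∀ i, i < 26263 → P i := stepQ 26262 Q26262 (allL N26262 (tt N27500 D60270) (tt N25072 (iv D59032)) (tt N25086 F264156) (tt N27313 (iv F268462)) (tt N25512 F264157) (tt N27498 (iv F269188)) (tt N25526 F264158) (tt N27460 (iv F269068)) (tt N25076 F264159) (tt N27328 (iv F268539)))
theorem Q26264 : ∀ i, i < 26264 → P i := stepQ 26263 Q26263 (allL N26263 (tt N25253 F264160) (tt N27501 D60271) (tt N25073 (iv D59033)) (tt N25485 F264161) (tt N26963 (iv F266810)) (tt N25534 F264162) (tt N25074 F264163) (tt N27391 (iv F268798)) (tt N27497 (iv F269186)) (tt N25289 F264164))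
theorem Q26265 : ∀ i, i < 26265 → P i := stepQ 26264 Q26264 (allL N26264 (tt N27502 D60272) (tt N25074 (iv D59034)) (tt N25092 F264165) (tt N26997 (iv F266997)) (tt N27503 D60273) (tt N25076 F264166) (tt N27501 (iv F269200)) (tt N27468 (iv F269096)) (tt N27498 (iv F269189)) (tt N26991 (iv F266963)))
theorem Q26266 : ∀ i, i < 26266 → P i := stepQ 26265 Q26265 (allL N26265 (tt N26946 (iv F266715)) (tt N27503 (iv F269204)) (tt N25075 F264167) (tt N26960 (iv F266797)) (tt N25074 (iv D59035)) (tt N27248 (iv F268160)) (tt N26963 (iv F266811)) (tt N27469 (iv F269098)) (tt N27499 (iv F269192)) (tt N26992 (iv F266969)))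
theorem Q26267 : ∀ i, i < 26267 → P i := stepQ 26266 Q26266 (allL N26266 (tt N25076 (iv D59036)) (tt N27496 (iv F269181)) (tt N25095 F264168) (tt N26998 (iv F267005)) (tt N27504 D60274) (tt N27502 (iv F269203)) (tt N25538 F264169) (tt N27470 (iv F269100)) (tt N27500 (iv F269196)) (tt N27426 (iv F268919)))
theorem Q26268 : ∀ i, i < 26268 → P i := stepQ 26267 Q26267 (allL N26267 (tt N27504 (iv F269206)) (tt N25077 F264170) (tt N25096 F264171) (tt N26895 (iv F266445)) (tt N25076 (iv D59037)) (tt N27247 (iv F268153)) (tt N25521 F264172) (tt N27453 (iv F269035)) (tt N25512 F264173) (tt N25460 F264174))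
theorem Q26269 : ∀ i, i < 26269 → P i := stepQ 26268 Q26268 (allL N26268 (tt N25265 F264175) (tt N27137 (iv F267725)) (tt N27505 D60275) (tt N25078 (iv D59038)) (tt N27506 D60276) (tt N25190 F264176) (tt N27085 (iv F267477)) (tt N25080 F264177) (tt N25089 F264178) (tt N26784 (iv F265786)))
theorem Q26270 : ∀ i, i < 26270 → P i := stepQ 26269 Q26269 (allL N26269 (tt N26831 (iv F266056)) (tt N27127 (iv F267677)) (tt N27507 D60277) (tt N25079 (iv D59039)) (tt N27508 D60278) (tt N25539 F264179) (tt N25081 F264180) (tt N26784 (iv F265784)) (tt N26910 (iv F266538)) (tt N25080 F264181))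
theorem Q26271 : ∀ i, i < 26271 → P i := stepQ 26270 Q26270 (allL N26270 (tt N26832 (iv F266063)) (tt N27509 D60279) (tt N25080 (iv D59040)) (tt N26887 (iv F266393)) (tt N27510 D60280) (tt N25540 F264182) (tt N25082 F264183) (tt N27505 (iv F269214)) (tt N25090 F264184) (tt N27507 (iv F269222)))
theorem Q26272 : ∀ i, i < 26272 → P i := stepQ 26271 Q26271 (allL N26271 (tt N26833 (iv F266069)) (tt N26966 (iv F266827)) (tt N27510 (iv F269229)) (tt N26271 F264185) (tt N25080 (iv D59041)) (tt N27511 D60281) (tt N25083 F264186) (tt N27506 (iv F269218)) (tt N25091 F264187) (tt N27508 (iv F269225)))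
theorem Q26273 : ∀ i, i < 26273 → P i := stepQ 26272 Q26272 (allL N26272 (tt N27349 (iv F268624)) (tt N27512 D60282) (tt N25081 (iv D59042)) (tt N27210 (iv F268030)) (tt N27513 D60283) (tt N25084 F264188) (tt N27507 (iv F269221)) (tt N27473 (iv F269113)) (tt N27427 (iv F268924)) (tt N25082 F264189))
theorem Q26274 : ∀ i, i < 26274 → P i := stepQ 26273 Q26273 (allL N26273 (tt N27350 (iv F268629)) (tt N27327 (iv F268528)) (tt N27513 (iv F269237)) (tt N26273 F264190) (tt N25081 (iv D59043)) (tt N26934 (iv F266653)) (tt N27508 (iv F269224)) (tt N26952 (iv F266752)) (tt N26937 (iv F266670)) (tt N25083 F264191))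
theorem Q26275 : ∀ i, i < 26275 → P i := stepQ 26274 Q26274 (allL N26274 (tt N27514 D60284) (tt N25082 (iv D59044)) (tt N27498 (iv F269187)) (tt N27212 (iv F268035)) (tt N27515 D60285) (tt N25086 F264192) (tt N27509 (iv F269227)) (tt N27474 (iv F269117)) (tt N25092 F264193) (tt N27512 (iv F269236)))
theorem Q26276 : ∀ i, i < 26276 → P i := stepQ 26275 Q26275 (allL N26275 (tt N27352 (iv F268638)) (tt N27515 (iv F269241)) (tt N25083 F264194) (tt N27516 D60286) (tt N25082 (iv D59045)) (tt N27517 D60287) (tt N27510 (iv F269230)) (tt N27475 (iv F269120)) (tt N25093 F264195) (tt N27513 (iv F269238)))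
theorem Q26277 : ∀ i, i < 26277 → P i := stepQ 26276 Q26276 (allL N26276 (tt N25496 F264196) (tt N25511 F264197) (tt N27517 (iv F269245)) (tt N26276 F264198) (tt N25088 F264199) (tt N25083 (iv D59046)) (tt N26802 (iv F265890)) (tt N26949 (iv F266740)) (tt N25094 F264200) (tt N26934 (iv F266656)))
theorem Q26278 : ∀ i, i < 26278 → P i := stepQ 26277 Q26277 (allL N26277 (tt N27518 D60288) (tt N25084 (iv D59047)) (tt N27328 (iv F268534)) (tt N27215 (iv F268043)) (tt N27519 D60289) (tt N27512 (iv F269235)) (tt N25546 F264201) (tt N27476 (iv F269124)) (tt N27429 (iv F268932)) (tt N25086 F264202))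
theorem Q26279 : ∀ i, i < 26279 → P i := stepQ 26278 Q26278 (allL N26278 (tt N25497 F264203) (tt N27519 (iv F269250)) (tt N25085 F264204) (tt N27520 D60290) (tt N25084 (iv D59048)) (tt N26933 (iv F266646)) (tt N25481 F264205) (tt N26947 (iv F266725)) (tt N25461 F264206) (tt N25087 F264207))
theorem Q26280 : ∀ i, i < 26280 → P i := stepQ 26279 Q26279 (allL N26279 (tt N25086 (iv D59049)) (tt N27354 (iv F268648)) (tt N27500 (iv F269193)) (tt N27218 (iv F268051)) (tt N27521 D60291) (tt N27514 (iv F269239)) (tt N25547 F264208) (tt N27477 (iv F269127)) (tt N25095 F264209) (tt N27518 (iv F269249)))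
theorem Q26281 : ∀ i, i < 26281 → P i := stepQ 26280 Q26280 (allL N26280 (tt N27521 (iv F269259)) (tt N25087 F264210) (tt N25512 F264211) (tt N27522 D60292) (tt N25086 (iv D59050)) (tt N27523 D60293) (tt N25520 F264212) (tt N27452 (iv F269030)) (tt N25096 F264213) (tt N27519 (iv F269254)))
theorem Q26282 : ∀ i, i < 26282 → P i := stepQ 26281 Q26281 (allL N26281 (tt N25471 F264214) (tt N27522 (iv F269264)) (tt N25142 F264215) (tt N25087 (iv D59051)) (tt N27220 (iv F268059)) (tt N27524 D60294) (tt N25273 F264216) (tt N26827 (iv F266034)) (tt N25446 F264217) (tt N27520 (iv F269258)))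
theorem Q26283 : ∀ i, i < 26283 → P i := stepQ 26282 Q26282 (allL N26282 (tt N25495 F264218) (tt N27523 (iv F269268)) (tt N25088 F264219) (tt N27524 (iv F269273)) (tt N27517 (iv F269246)) (tt N25087 (iv D59052)) (tt N26801 (iv F265885)) (tt N26948 (iv F266732)) (tt N25097 F264220) (tt N26933 (iv F266649)))
theorem Q26284 : ∀ i, i < 26284 → P i := stepQ 26283 Q26283 (allL N26283 (tt N26815 (iv F265965)) (tt N27525 D60295) (tt N25089 (iv D59053)) (tt N25098 F264221) (tt N27526 D60296) (tt N25548 F264222) (tt N27478 (iv F269130)) (tt N25090 F264223) (tt N27505 (iv F269215)) (tt N27380 (iv F268754)))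
theorem Q26285 : ∀ i, i < 26285 → P i := stepQ 26284 Q26284 (allL N26284 (tt N26816 (iv F265971)) (tt N26965 (iv F266821)) (tt N27526 (iv F269279)) (tt N25118 F264224) (tt N25089 (iv D59054)) (tt N27527 D60297) (tt N27479 (iv F269135)) (tt N25091 F264225) (tt N27506 (iv F269219)) (tt N27020 (iv F267113)))
theorem Q26286 : ∀ i, i < 26286 → P i := stepQ 26285 Q26285 (allL N26285 (tt N27528 D60298) (tt N25090 (iv D59055)) (tt N27501 (iv F269197)) (tt N25100 F264226) (tt N27529 D60299) (tt N25550 F264227) (tt N25092 F264228) (tt N27525 (iv F269278)) (tt N27509 (iv F269228)) (tt N27431 (iv F268943)))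
theorem Q26287 : ∀ i, i < 26287 → P i := stepQ 26286 Q26286 (allL N26286 (tt N26840 (iv F266105)) (tt N27529 (iv F269288)) (tt N25091 F264229) (tt N27449 (iv F269013)) (tt N25090 (iv D59056)) (tt N27530 D60300) (tt N25093 F264230) (tt N27526 (iv F269280)) (tt N27510 (iv F269231)) (tt N27021 (iv F267118)))
theorem Q26288 : ∀ i, i < 26288 → P i := stepQ 26287 Q26287 (allL N26287 (tt N26841 (iv F266109)) (tt N26813 (iv F265953)) (tt N27530 (iv F269290)) (tt N25119 F264231) (tt N25552 F264232) (tt N25091 (iv D59057)) (tt N26805 (iv F265906)) (tt N27527 (iv F269283)) (tt N27511 (iv F269234)) (tt N26845 (iv F266129)))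
theorem Q26289 : ∀ i, i < 26289 → P i := stepQ 26288 Q26288 (allL N26288 (tt N25092 (iv D59058)) (tt N27355 (iv F268652)) (tt N27502 (iv F269202)) (tt N25102 F264233) (tt N27531 D60301) (tt N25095 F264234) (tt N27528 (iv F269287)) (tt N27483 (iv F269148)) (tt N27514 (iv F269240)) (tt N27432 (iv F268947)))
theorem Q26290 : ∀ i, i < 26290 → P i := stepQ 26289 Q26289 (allL N26289 (tt N27531 (iv F269293)) (tt N25093 F264235) (tt N27503 (iv F269205)) (tt N27532 D60302) (tt N25092 (iv D59059)) (tt N27533 D60303) (tt N27529 (iv F269289)) (tt N27484 (iv F269150)) (tt N27515 (iv F269242)) (tt N27433 (iv F268950)))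
theorem Q26291 : ∀ i, i < 26291 → P i := stepQ 26290 Q26290 (allL N26290 (tt N27357 (iv F268659)) (tt N27532 (iv F269294)) (tt N25120 F264236) (tt N25093 (iv D59060)) (tt N25104 F264237) (tt N25261 (iv F264239)) (tt N27449 (iv F269016)) (tt N27485 (iv F269154)) (tt N27534 D60304) (tt N25315 F264238))
theorem Q26292 : ∀ i, i < 26292 → P i := stepQ 26291 Q26291 (allL N26291 (tt N25503 F264240) (tt N27533 (iv F269298)) (tt N25094 F264241) (tt N25261 F264242) (tt N25097 F264243) (tt N25093 (iv D59061)) (tt N26804 (iv F265900)) (tt N27002 (iv F267026)) (tt N27517 (iv F269247)) (tt N25180 F264244))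
theorem Q26293 : ∀ i, i < 26293 → P i := stepQ 26292 Q26292 (allL N26292 (tt N25096 F264245) (tt N25504 F264246) (tt N27504 (iv F269207)) (tt N25450 F264247) (tt N25095 (iv D59062)) (tt N27535 D60305) (tt N25556 F264248) (tt N27486 (iv F269159)) (tt N27521 (iv F269263)) (tt N25463 F264249))
theorem Q26294 : ∀ i, i < 26294 → P i := stepQ 26293 Q26293 (allL N26293 (tt N27535 (iv F269305)) (tt N25097 F264250) (tt N27247 (iv F268151)) (tt N25174 F264251) (tt N27533 (iv F269300)) (tt N25096 (iv D59063)) (tt N26803 (iv F265895)) (tt N27001 (iv F267019)) (tt N27523 (iv F269270)) (tt N25179 F264252))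
theorem Q26295 : ∀ i, i < 26295 → P i := stepQ 26294 Q26294 (allL N26294 (tt N27536 D60306) (tt N25098 (iv D59064)) (tt N27013 (iv F267085)) (tt N27525 (iv F269276)) (tt N27537 D60307) (tt N25558 F264253) (tt N27487 (iv F269161)) (tt N25100 F264254) (tt N27232 (iv F268092)) (tt N27434 (iv F268954)))
theorem Q26296 : ∀ i, i < 26296 → P i := stepQ 26295 Q26295 (allL N26295 (tt N26824 (iv F266014)) (tt N27537 (iv F269311)) (tt N25099 F264255) (tt N27538 D60308) (tt N25098 (iv D59065)) (tt N25398 F264256) (tt N27488 (iv F269164)) (tt N25101 F264257) (tt N25404 F264258) (tt N27435 (iv F268958)))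
theorem Q26297 : ∀ i, i < 26297 → P i := stepQ 26296 Q26296 (allL N26296 (tt N25100 (iv D59066)) (tt N26846 (iv F266131)) (tt N27015 (iv F267092)) (tt N27528 (iv F269285)) (tt N27539 D60309) (tt N25559 F264259) (tt N25102 F264260) (tt N27536 (iv F269310)) (tt N27233 (iv F268095)) (tt N27436 (iv F268961)))
theorem Q26298 : ∀ i, i < 26298 → P i := stepQ 26297 Q26297 (allL N26297 (tt N27539 (iv F269318)) (tt N25101 F264261) (tt N27016 (iv F267096)) (tt N27540 D60310) (tt N25100 (iv D59067)) (tt N26898 (iv F266464)) (tt N25103 F264262) (tt N27537 (iv F269313)) (tt N27234 (iv F268100)) (tt N27437 (iv F268964)))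
theorem Q26299 : ∀ i, i < 26299 → P i := stepQ 26298 Q26298 (allL N26298 (tt N26848 (iv F266139)) (tt N27540 (iv F269320)) (tt N25122 F264263) (tt N25101 (iv D59068)) (tt N27449 (iv F269014)) (tt N25298 F264264) (tt N25104 F264265) (tt N27538 (iv F269317)) (tt N27541 D60311) (tt N27438 (iv F268969)))
theorem Q26300 : ∀ i, i < 26300 → P i := stepQ 26299 Q26299 (allL N26299 (tt N25103 F264266) (tt N27358 (iv F268665)) (tt N27017 (iv F267099)) (tt N27542 D60312) (tt N25102 (iv D59069)) (tt N27285 (iv F268334)) (tt N27539 (iv F269319)) (tt N27493 (iv F269174)) (tt N27235 (iv F268102)) (tt N27439 (iv F268971)))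
theorem Q26301 : ∀ i, i < 26301 → P i := stepQ 26300 Q26300 (allL N26300 (tt N27542 (iv F269327)) (tt N25104 F264267) (tt N27543 D60313) (tt N25103 (iv D59070)) (tt N27532 (iv F269295)) (tt N27286 (iv F268337)) (tt N27540 (iv F269322)) (tt N27494 (iv F269177)) (tt N27544 D60314) (tt N27440 (iv F268975)))
theorem Q26302 : ∀ i, i < 26302 → P i := stepQ 26301 Q26301 (allL N26301 (tt N27360 (iv F268667)) (tt N27544 (iv F269330)) (tt N25125 F264268) (tt N27237 (iv F268105)) (tt N27534 (iv F269303)) (tt N27287 (iv F268342)) (tt N27541 (iv F269326)) (tt N27495 (iv F269180)) (tt N25104 (iv D59071)) (tt N27545 D60315))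
theorem Q26303 : ∀ i, i < 26303 → P i := stepQ 26302 Q26302 (allL N26302 (tt N26782 (iv F265767)) (tt N25563 F264269) (tt N27443 (iv F268986)) (tt N27479 (iv F269134)) (tt N25106 (iv D59072)) (tt N27546 D60316) (tt N25118 F264270) (tt N25108 F264271) (tt N26302 F264272) (tt N25562 F264273))
theorem Q26304 : ∀ i, i < 26304 → P i := stepQ 26303 Q26303 (allL N26303 (tt N27361 (iv F268669)) (tt N27442 (iv F268979)) (tt N25108 F264274) (tt N27547 D60317) (tt N25107 (iv D59073)) (tt N27548 D60318) (tt N25109 F264275) (tt N27443 (iv F268988)) (tt N26303 F264276) (tt N25285 F264277))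
theorem Q26305 : ∀ i, i < 26305 → P i := stepQ 26304 Q26304 (allL N26304 (tt N26923 (iv F266591)) (tt N25140 F264278) (tt N27548 (iv F269340)) (tt N27482 (iv F269143)) (tt N26304 F264279) (tt N25108 (iv D59074)) (tt N25327 F264280) (tt N27546 (iv F269334)) (tt N26304 F264281) (tt N25139 F264282))
theorem Q26306 : ∀ i, i < 26306 → P i := stepQ 26305 Q26305 (allL N26305 (tt N27362 (iv F268674)) (tt N27447 (iv F269003)) (tt N27485 (iv F269151)) (tt N25109 (iv D59075)) (tt N25117 F264283) (tt N25249 F264284) (tt N27547 (iv F269338)) (tt N25120 F264285) (tt N27549 D60319) (tt N25284 F264286))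
theorem Q26307 : ∀ i, i < 26307 → P i := stepQ 26306 Q26306 (allL N26306 (tt N26852 (iv F266165)) (tt N25285 F264287) (tt N25111 F264288) (tt N27550 D60320) (tt N25110 (iv D59076)) (tt N27241 (iv F268121)) (tt N25121 F264289) (tt N25113 F264290) (tt N25127 F264291) (tt N27442 (iv F268984)))
theorem Q26308 : ∀ i, i < 26308 → P i := stepQ 26307 Q26307 (allL N26307 (tt N25112 (iv D59077)) (tt N25227 F264292) (tt N25189 F264293) (tt N26810 (iv F265933)) (tt N27551 D60321) (tt N26307 F264294) (tt N25115 F264295) (tt N25220 F264296) (tt N25128 F264297) (tt N26781 (iv F265766)))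
theorem Q26309 : ∀ i, i < 26309 → P i := stepQ 26308 Q26308 (allL N26308 (tt N27551 (iv F269352)) (tt N25113 F264298) (tt N25562 F264299) (tt N27552 D60322) (tt N25112 (iv D59078)) (tt N27388 (iv F268779)) (tt N25116 F264300) (tt N25285 F264301) (tt N25129 F264302) (tt N27443 (iv F268990)))
theorem Q26310 : ∀ i, i < 26310 → P i := stepQ 26309 Q26309 (allL N26309 (tt N27363 (iv F268679)) (tt N27552 (iv F269358)) (tt N27491 (iv F269170)) (tt N25113 (iv D59079)) (tt N27547 (iv F269337)) (tt N27401 (iv F268822)) (tt N25117 F264303) (tt N27550 (iv F269351)) (tt N27553 D60323) (tt N27444 (iv F268993)))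
theorem Q26311 : ∀ i, i < 26311 → P i := stepQ 26310 Q26310 (allL N26310 (tt N25116 F264304) (tt N25560 F264305) (tt N25195 F264306) (tt N27554 D60324) (tt N25115 (iv D59080)) (tt N25465 F264307) (tt N27551 (iv F269355)) (tt N25123 F264308) (tt N25132 F264309) (tt N26849 (iv F266149)))
theorem Q26312 : ∀ i, i < 26312 → P i := stepQ 26311 Q26311 (allL N26311 (tt N27554 (iv F269363)) (tt N25117 F264310) (tt N27555 D60325) (tt N25116 (iv D59081)) (tt N27447 (iv F269004)) (tt N25468 F264311) (tt N27552 (iv F269359)) (tt N25124 F264312) (tt N27556 D60326) (tt N27445 (iv F268998)))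
theorem Q26313 : ∀ i, i < 26313 → P i := stepQ 26312 Q26312 (allL N26312 (tt N27245 (iv F268142)) (tt N27556 (iv F269369)) (tt N27495 (iv F269178)) (tt N25134 F264313) (tt N27549 (iv F269346)) (tt N25472 F264314) (tt N27553 (iv F269362)) (tt N25125 F264315) (tt N25117 (iv D59082)) (tt N27557 D60327))
theorem Q26314 : ∀ i, i < 26314 → P i := stepQ 26313 Q26313 (allL N26313 (tt N26850 (iv F266150)) (tt N26812 (iv F265946)) (tt N25320 F264316) (tt N27527 (iv F269281)) (tt N25126 F264317) (tt N25118 (iv D59083)) (tt N27135 (iv F267717)) (tt N25119 F264318) (tt N26313 F264319) (tt N25469 F264320))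
theorem Q26315 : ∀ i, i < 26315 → P i := stepQ 26314 Q26314 (allL N26314 (tt N27364 (iv F268681)) (tt N27448 (iv F269008)) (tt N27534 (iv F269302)) (tt N26314 F264321) (tt N25125 F264322) (tt N25258 F264323) (tt N27450 (iv F269022)) (tt N27549 (iv F269348)) (tt N25120 (iv D59084)) (tt N27558 D60328))
theorem Q26316 : ∀ i, i < 26316 → P i := stepQ 26315 Q26315 (allL N26315 (tt N26854 (iv F266179)) (tt N25284 F264324) (tt N27538 (iv F269315)) (tt N25121 (iv D59085)) (tt N27445 (iv F268995)) (tt N25274 F264325) (tt N27550 (iv F269350)) (tt N25122 F264326) (tt N27306 (iv F268430)) (tt N27447 (iv F269007)))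
theorem Q26317 : ∀ i, i < 26317 → P i := stepQ 26316 Q26316 (allL N26316 (tt N26856 (iv F266190)) (tt N25307 F264327) (tt N27541 (iv F269324)) (tt N25136 F264328) (tt N27450 (iv F269020)) (tt N25293 F264329) (tt N25125 F264330) (tt N27306 (iv F268429)) (tt N25122 (iv D59086)) (tt N27559 D60329))
theorem Q26318 : ∀ i, i < 26318 → P i := stepQ 26317 Q26317 (allL N26317 (tt N25124 F264331) (tt N25552 F264332) (tt N27560 D60330) (tt N25123 (iv D59087)) (tt N26813 (iv F265954)) (tt N25535 F264333) (tt N25215 F264334) (tt N27554 (iv F269366)) (tt N27561 D60331) (tt N26855 (iv F266189)))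
theorem Q26319 : ∀ i, i < 26319 → P i := stepQ 26318 Q26318 (allL N26318 (tt N27560 (iv F269384)) (tt N27543 (iv F269328)) (tt N25124 (iv D59088)) (tt N27021 (iv F267115)) (tt N27438 (iv F268966)) (tt N27012 (iv F267082)) (tt N25315 F264335) (tt N27555 (iv F269368)) (tt N27562 D60332) (tt N27449 (iv F269017)))
theorem Q26320 : ∀ i, i < 26320 → P i := stepQ 26319 Q26319 (allL N26319 (tt N27561 (iv F269388)) (tt N25125 F264336) (tt N27562 (iv F269393)) (tt N25139 F264337) (tt N27448 (iv F269010)) (tt N27006 (iv F267050)) (tt N25307 F264338) (tt N27556 (iv F269372)) (tt N25124 (iv D59089)) (tt N27482 (iv F269145)))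
theorem Q26321 : ∀ i, i < 26321 → P i := stepQ 26320 Q26320 (allL N26320 (tt N27365 (iv F268685)) (tt N27482 (iv F269142)) (tt N27545 (iv F269331)) (tt N25140 F264339) (tt N27558 (iv F269377)) (tt N27288 (iv F268347)) (tt N27559 (iv F269383)) (tt N27557 (iv F269375)) (tt N27451 (iv F269026)) (tt N25125 (iv D59090)))
theorem Q26322 : ∀ i, i < 26322 → P i := stepQ 26321 Q26321 (allL N26321 (tt N25129 F264340) (tt N25229 F264341) (tt N25221 F264342) (tt N27563 D60333) (tt N25128 (iv D59091)) (tt N27564 D60334) (tt N25132 F264343) (tt N25226 F264344) (tt N27551 (iv F269357)) (tt N26321 F264345))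
theorem Q26323 : ∀ i, i < 26323 → P i := stepQ 26322 Q26322 (allL N26322 (tt N27563 (iv F269395)) (tt N25130 F264346) (tt N25147 F264347) (tt N25129 (iv D59092)) (tt N26322 F264348) (tt N25146 (iv F264352)) (tt N25133 F264349) (tt N25325 F264350) (tt N27387 (iv F268775)) (tt N26322 F264351))
theorem Q26324 : ∀ i, i < 26324 → P i := stepQ 26323 Q26323 (allL N26323 (tt N27564 (iv F269403)) (tt N25131 F264353) (tt N25133 F264354) (tt N25146 F264355) (tt N26323 F264356) (tt N25129 (iv D59093)) (tt N25147 F264357) (tt N25138 F264358) (tt N27388 (iv F268781)) (tt N26323 F264359))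
theorem Q26325 : ∀ i, i < 26325 → P i := stepQ 26324 Q26324 (allL N26324 (tt N27241 (iv F268117)) (tt N27387 (iv F268770)) (tt N26853 (iv F266174)) (tt N27553 (iv F269361)) (tt N26324 F264360) (tt N26852 F266171) (tt N25134 F264361) (tt N27307 (iv F268436)) (tt N25130 (iv D59094)) (tt N27565 D60335))
theorem Q26326 : ∀ i, i < 26326 → P i := stepQ 26325 Q26325 (allL N26325 (tt N25133 F264362) (tt N25222 F264363) (tt N27564 (iv F269405)) (tt N25132 (iv D59095)) (tt N26325 F264364) (tt N25221 F264365) (tt N27563 (iv F269399)) (tt N25137 F264366) (tt N27566 D60336) (tt N26325 F264367))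
theorem Q26327 : ∀ i, i < 26327 → P i := stepQ 26326 Q26326 (allL N26326 (tt N27566 (iv F269414)) (tt N25134 F264368) (tt N27388 (iv F268777)) (tt N27556 (iv F269370)) (tt N26326 F264369) (tt N25562 F264370) (tt N27387 (iv F268773)) (tt N25139 F264371) (tt N25133 (iv D59096)) (tt N27546 (iv F269336)))
theorem Q26328 : ∀ i, i < 26328 → P i := stepQ 26327 Q26327 (allL N26327 (tt N27244 (iv F268135)) (tt N27546 (iv F269332)) (tt N26964 (iv F266815)) (tt N27557 (iv F269373)) (tt N26327 F264372) (tt N25563 F264373) (tt N27565 (iv F269412)) (tt N25140 F264374) (tt N26327 F264375) (tt N25134 (iv D59097)))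
theorem Q26329 : ∀ i, i < 26329 → P i := stepQ 26328 Q26328 (allL N26328 (tt N26858 (iv F266202)) (tt N25327 F264376) (tt N27240 (iv F268111)) (tt N27559 (iv F269381)) (tt N26328 F264377) (tt N25326 F264378) (tt N25140 F264379) (tt N27088 (iv F267496)) (tt N26328 F264380) (tt N25136 (iv D59098)))
theorem Q26330 : ∀ i, i < 26330 → P i := stepQ 26329 Q26329 (allL N26329 (tt N25138 F264381) (tt N27563 (iv F269396)) (tt N25137 (iv D59099)) (tt N25229 F264382) (tt N26329 F264383) (tt N25226 F264384) (tt N25222 F264385) (tt N27564 (iv F269409)) (tt N27567 D60337) (tt N26329 F264386))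
theorem Q26331 : ∀ i, i < 26331 → P i := stepQ 26330 Q26330 (allL N26330 (tt N25139 F264387) (tt N25566 F264388) (tt N27567 (iv F269420)) (tt N27561 (iv F269390)) (tt N26330 F264389) (tt N25561 F264390) (tt N25231 F264391) (tt N27566 (iv F269418)) (tt N25137 (iv D59100)) (tt N26923 (iv F266596)))
theorem Q26332 : ∀ i, i < 26332 → P i := stepQ 26331 Q26331 (allL N26331 (tt N27567 (iv F269419)) (tt N27241 (iv F268118)) (tt N25139 F264392) (tt N27568 D60338) (tt N26331 F264393) (tt N25285 F264394) (tt N25268 F264395) (tt N27388 (iv F268780)) (tt N25138 (iv D59101)) (tt N27548 (iv F269344)))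
theorem Q26333 : ∀ i, i < 26333 → P i := stepQ 26332 Q26332 (allL N26332 (tt N25470 F264396) (tt N25240 F264397) (tt N27520 (iv F269256)) (tt N25141 (iv D59102)) (tt N27243 (iv F268132)) (tt N26901 (iv F266482)) (tt N25244 F264398) (tt N26826 (iv F266027)) (tt N26902 (iv F266492)) (tt N25142 F264399))
theorem Q26334 : ∀ i, i < 26334 → P i := stepQ 26333 Q26333 (allL N26333 (tt N25247 F264400) (tt N25265 F264401) (tt N27524 (iv F269272)) (tt N25143 F264402) (tt N27569 D60339) (tt N25142 (iv D59103)) (tt N26783 (iv F265776)) (tt N25184 F264403) (tt N25170 F264404) (tt N26901 (iv F266486)))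
theorem Q26335 : ∀ i, i < 26335 → P i := stepQ 26334 Q26334 (allL N26334 (tt N25146 F264405) (tt N25226 F264406) (tt N25145 F264407) (tt N27564 (iv F269406)) (tt N25144 (iv D59104)) (tt N27563 F269402) (tt N25223 F264408) (tt N25229 F264409) (tt N27378 (iv F268742)) (tt N26334 F264410))
theorem Q26336 : ∀ i, i < 26336 → P i := stepQ 26335 Q26335 (allL N26335 (tt N25147 F264411) (tt N25225 F264412) (tt N27563 (iv F269397)) (tt N25223 F264413) (tt N26335 F264414) (tt N25145 (iv D59105)) (tt N27564 (iv F269408)) (tt N25230 F264415) (tt N27379 (iv F268747)) (tt N26335 F264416))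
theorem Q26337 : ∀ i, i < 26337 → P i := stepQ 26336 Q26336 (allL N26336 (tt N27570 D60340) (tt N25148 (iv D59106)) (tt N25339 F264417) (tt N26763 (iv F265637)) (tt N25153 F264418) (tt N25360 F264419) (tt N26751 (iv F265557)) (tt N25152 F264420) (tt N25203 F264421) (tt N25149 F264422))
theorem Q26338 : ∀ i, i < 26338 → P i := stepQ 26337 Q26337 (allL N26337 (tt N25149 (iv D59107)) (tt N25407 F264423) (tt N25353 F264424) (tt N26767 (iv F265666)) (tt N25167 F264425) (tt N25366 F264426) (tt N26758 (iv F265604)) (tt N26768 (iv F265676)) (tt N25181 F264427) (tt N27570 (iv F269437)))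
theorem Q26339 : ∀ i, i < 26339 → P i := stepQ 26338 Q26338 (allL N26338 (tt N27571 D60341) (tt N25150 (iv D59108)) (tt N25152 F264428) (tt N27160 (iv F267823)) (tt N25166 F264429) (tt N25333 F264430) (tt N26761 (iv F265624)) (tt N25339 F264431) (tt N25183 F264432) (tt N25340 F264433))
theorem Q26340 : ∀ i, i < 26340 → P i := stepQ 26339 Q26339 (allL N26339 (tt N27572 D60342) (tt N25151 (iv D59109)) (tt N25333 F264434) (tt N26764 (iv F265645)) (tt N25352 F264435) (tt N25152 F264436) (tt N27024 (iv F267136)) (tt N25360 F264437) (tt N25216 F264438) (tt N25362 F264439))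
theorem Q26341 : ∀ i, i < 26341 → P i := stepQ 26340 Q26340 (allL N26340 (tt N25152 (iv D59110)) (tt N25167 F264440) (tt N27571 (iv F269439)) (tt N26766 (iv F265660)) (tt N25407 F264441) (tt N27572 (iv F269448)) (tt N26762 (iv F265632)) (tt N27570 (iv F269435)) (tt N25217 F264442) (tt N26768 (iv F265678)))
theorem Q26342 : ∀ i, i < 26342 → P i := stepQ 26341 Q26341 (allL N26341 (tt N25153 (iv D59111)) (tt N26768 (iv F265670)) (tt N25376 F264443) (tt N26762 (iv F265629)) (tt N27570 (iv F269433)) (tt N25386 F264444) (tt N26766 (iv F265661)) (tt N25407 F264445) (tt N25531 F264446) (tt N25167 F264447))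
theorem Q26343 : ∀ i, i < 26343 → P i := stepQ 26342 Q26342 (allL N26342 (tt N27573 D60343) (tt N25154 (iv D59112)) (tt N25381 F264448) (tt N26753 (iv F265570)) (tt N25164 F264449) (tt N27173 (iv F267872)) (tt N25156 F264450) (tt N26755 (iv F265588)) (tt N25271 F264451) (tt N25406 F264452))
theorem Q26344 : ∀ i, i < 26344 → P i := stepQ 26343 Q26343 (allL N26343 (tt N27574 D60344) (tt N25155 (iv D59113)) (tt N27060 (iv F267343)) (tt N25156 F264453) (tt N26755 (iv F265586)) (tt N25373 F264454) (tt N26753 (iv F265572)) (tt N25164 F264455) (tt N26814 (iv F265964)) (tt N25400 F264456))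
theorem Q26345 : ∀ i, i < 26345 → P i := stepQ 26344 Q26344 (allL N26344 (tt N25156 (iv D59114)) (tt N27570 (iv F269431)) (tt N25386 F264457) (tt N27574 (iv F269457)) (tt N26768 (iv F265673)) (tt N25376 F264458) (tt N27573 (iv F269454)) (tt N25167 F264459) (tt N25287 F264460) (tt N25407 F264461))
theorem Q26346 : ∀ i, i < 26346 → P i := stepQ 26345 Q26345 (allL N26345 (tt N27054 (iv F267312)) (tt N27575 D60345) (tt N25157 (iv D59115)) (tt N25391 F264462) (tt N27576 D60346) (tt N25158 F264463) (tt N27028 (iv F267163)) (tt N25367 F264464) (tt N25420 F264465) (tt N25382 F264466))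
theorem Q26347 : ∀ i, i < 26347 → P i := stepQ 26346 Q26346 (allL N26346 (tt N27055 (iv F267319)) (tt N25163 F264467) (tt N27576 (iv F269467)) (tt N25168 F264468) (tt N25157 (iv D59116)) (tt N25380 F264469) (tt N27029 (iv F267171)) (tt N25368 F264470) (tt N25421 F264471) (tt N25383 F264472))
theorem Q26348 : ∀ i, i < 26348 → P i := stepQ 26347 Q26347 (allL N26347 (tt N27577 D60347) (tt N25158 (iv D59117)) (tt N25164 F264473) (tt N25392 F264474) (tt N25381 F264475) (tt N27575 (iv F269463)) (tt N25340 F264476) (tt N27060 (iv F267348)) (tt N25422 F264477) (tt N26761 (iv F265627)))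
theorem Q26349 : ∀ i, i < 26349 → P i := stepQ 26348 Q26348 (allL N26348 (tt N25513 F264478) (tt N27578 D60348) (tt N25159 (iv D59118)) (tt N25301 F264479) (tt N27579 D60349) (tt N25160 F264480) (tt N25452 F264481) (tt N25371 F264482) (tt N25162 F264483) (tt N26876 (iv F266327)))
theorem Q26350 : ∀ i, i < 26350 → P i := stepQ 26349 Q26349 (allL N26349 (tt N25514 F264484) (tt N25421 F264485) (tt N27579 (iv F269484)) (tt N26349 F264486) (tt N25159 (iv D59119)) (tt N25270 F264487) (tt N25453 F264488) (tt N25372 F264489) (tt N25163 F264490) (tt N26877 (iv F266335)))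
theorem Q26351 : ∀ i, i < 26351 → P i := stepQ 26350 Q26350 (allL N26350 (tt N27580 D60350) (tt N25160 (iv D59120)) (tt N25422 F264491) (tt N25305 F264492) (tt N25271 F264493) (tt N27578 (iv F269479)) (tt N25175 F264494) (tt N26814 (iv F265963)) (tt N25164 F264495) (tt N26878 (iv F266341)))
theorem Q26352 : ∀ i, i < 26352 → P i := stepQ 26351 Q26351 (allL N26351 (tt N25379 F264496) (tt N27581 D60351) (tt N25161 (iv D59121)) (tt N25165 F264497) (tt N27582 D60352) (tt N25361 F264498) (tt N25162 F264499) (tt N27047 (iv F267276)) (tt N25452 F264500) (tt N25377 F264501))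
theorem Q26353 : ∀ i, i < 26353 → P i := stepQ 26352 Q26352 (allL N26352 (tt N25380 F264502) (tt N27029 (iv F267168)) (tt N27582 (iv F269501)) (tt N25169 F264503) (tt N25161 (iv D59122)) (tt N27055 (iv F267322)) (tt N25163 F264504) (tt N27048 (iv F267284)) (tt N25453 F264505) (tt N25378 F264506))
theorem Q26354 : ∀ i, i < 26354 → P i := stepQ 26353 Q26353 (allL N26353 (tt N27583 D60353) (tt N25162 (iv D59123)) (tt N27575 (iv F269461)) (tt N25166 F264507) (tt N27584 D60354) (tt N25164 F264508) (tt N27581 (iv F269497)) (tt N25373 F264509) (tt N27578 (iv F269482)) (tt N25384 F264510))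
theorem Q26355 : ∀ i, i < 26355 → P i := stepQ 26354 Q26354 (allL N26354 (tt N26765 (iv F265651)) (tt N27584 (iv F269510)) (tt N25163 F264511) (tt N27161 (iv F267830)) (tt N25162 (iv D59124)) (tt N27174 (iv F267877)) (tt N27582 (iv F269503)) (tt N25374 F264512) (tt N27579 (iv F269488)) (tt N25385 F264513))
theorem Q26356 : ∀ i, i < 26356 → P i := stepQ 26355 Q26355 (allL N26355 (tt N25164 (iv D59125)) (tt N26766 (iv F265658)) (tt N27577 (iv F269472)) (tt N25167 F264514) (tt N27573 (iv F269453)) (tt N27583 (iv F269507)) (tt N26768 (iv F265675)) (tt N27574 (iv F269459)) (tt N27580 (iv F269494)) (tt N26762 (iv F265635)))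
theorem Q26357 : ∀ i, i < 26357 → P i := stepQ 26356 Q26356 (allL N26356 (tt N27585 D60355) (tt N25165 (iv D59126)) (tt N25406 F264515) (tt N27581 (iv F269495)) (tt N26761 (iv F265622)) (tt N26770 (iv F265689)) (tt N25166 F264516) (tt N27149 (iv F267773)) (tt N25317 F264517) (tt N25381 F264518))
theorem Q26358 : ∀ i, i < 26358 → P i := stepQ 26357 Q26357 (allL N26357 (tt N25166 (iv D59127)) (tt N27572 (iv F269445)) (tt N25407 F264519) (tt N27583 (iv F269506)) (tt N27571 (iv F269440)) (tt N25167 F264520) (tt N27585 (iv F269514)) (tt N25376 F264521) (tt N25318 F264522) (tt N25386 F264523))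
theorem Q26359 : ∀ i, i < 26359 → P i := stepQ 26358 Q26358 (allL N26358 (tt N25248 F264524) (tt N27586 D60356) (tt N25170 (iv D59128)) (tt N25172 F264525) (tt N27587 D60357) (tt N25446 F264526) (tt N26785 (iv F265789)) (tt N25185 F264527) (tt N27524 (iv F269275)) (tt N25199 F264528))
theorem Q26360 : ∀ i, i < 26360 → P i := stepQ 26359 Q26359 (allL N26359 (tt N25249 F264529) (tt N26816 (iv F265972)) (tt N27587 (iv F269522)) (tt N25171 F264530) (tt N25170 (iv D59129)) (tt N27362 (iv F268676)) (tt N26786 (iv F265794)) (tt N25186 F264531) (tt N27569 (iv F269430)) (tt N25200 F264532))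
theorem Q26361 : ∀ i, i < 26361 → P i := stepQ 26360 Q26360 (allL N26360 (tt N27588 D60358) (tt N25172 (iv D59130)) (tt N25412 F264533) (tt N27586 (iv F269517)) (tt N25238 F264534) (tt N25448 F264535) (tt N26790 (iv F265817)) (tt N25187 F264536) (tt N25174 F264537) (tt N25203 F264538))
theorem Q26362 : ∀ i, i < 26362 → P i := stepQ 26361 Q26361 (allL N26361 (tt N27589 D60359) (tt N25173 (iv D59131)) (tt N25414 F264539) (tt N27001 (iv F267016)) (tt N25250 F264540) (tt N25449 F264541) (tt N26878 (iv F266339)) (tt N25174 F264542) (tt N25187 F264543) (tt N25175 F264544))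
theorem Q26363 : ∀ i, i < 26363 → P i := stepQ 26362 Q26362 (allL N26362 (tt N25174 (iv D59132)) (tt N25507 F264545) (tt N25416 F264546) (tt N27535 (iv F269307)) (tt N25264 F264547) (tt N25450 F264548) (tt N26808 (iv F265921)) (tt N27589 (iv F269537)) (tt N27588 (iv F269531)) (tt N25181 F264549))
theorem Q26364 : ∀ i, i < 26364 → P i := stepQ 26363 Q26363 (allL N26363 (tt N25175 (iv D59133)) (tt N25531 F264550) (tt N25432 F264551) (tt N27003 (iv F267029)) (tt N25287 F264552) (tt N25457 F264553) (tt N27580 (iv F269493)) (tt N25181 F264554) (tt N26768 (iv F265677)) (tt N27589 (iv F269539)))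
theorem Q26365 : ∀ i, i < 26365 → P i := stepQ 26364 Q26364 (allL N26364 (tt N25177 F264555) (tt N27590 D60360) (tt N25176 (iv D59134)) (tt N25262 F264556) (tt N27000 (iv F267013)) (tt N25458 F264557) (tt N25259 F264558) (tt N26990 (iv F266956)) (tt N26973 (iv F266863)) (tt N25309 F264559))
theorem Q26366 : ∀ i, i < 26366 → P i := stepQ 26365 Q26365 (allL N26365 (tt N27591 D60361) (tt N25177 (iv D59135)) (tt N25179 F264560) (tt N25437 F264561) (tt N27592 D60362) (tt N25460 F264562) (tt N26829 (iv F266046)) (tt N26995 (iv F266989)) (tt N26975 (iv F266877)) (tt N27247 (iv F268156)))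
theorem Q26367 : ∀ i, i < 26367 → P i := stepQ 26366 Q26366 (allL N26366 (tt N27000 (iv F267010)) (tt N27592 (iv F269548)) (tt N25178 F264563) (tt N26874 (iv F266311)) (tt N25177 (iv D59136)) (tt N26992 (iv F266967)) (tt N26830 (iv F266052)) (tt N26996 (iv F266994)) (tt N26976 (iv F266880)) (tt N27248 (iv F268163)))
theorem Q26368 : ∀ i, i < 26368 → P i := stepQ 26367 Q26367 (allL N26367 (tt N25179 (iv D59137)) (tt N25553 F264564) (tt N27591 (iv F269545)) (tt N25181 F264565) (tt N27593 D60363) (tt N25463 F264566) (tt N26842 (iv F266117)) (tt N27003 (iv F267032)) (tt N26978 (iv F266893)) (tt N27535 (iv F269308)))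
theorem Q26369 : ∀ i, i < 26369 → P i := stepQ 26368 Q26368 (allL N26368 (tt N27593 (iv F269550)) (tt N25180 F264567) (tt N27592 (iv F269549)) (tt N25314 F264568) (tt N25179 (iv D59138)) (tt N27433 (iv F268949)) (tt N26843 (iv F266120)) (tt N27004 (iv F267037)) (tt N26979 (iv F266896)) (tt N27533 (iv F269301)))
theorem Q26370 : ∀ i, i < 26370 → P i := stepQ 26369 Q26369 (allL N26369 (tt N27594 D60364) (tt N25182 (iv D59139)) (tt N25203 F264569) (tt N27266 (iv F268239)) (tt N25286 F264570) (tt N25410 F264571) (tt N27045 (iv F267264)) (tt N25183 F264572) (tt N25339 F264573) (tt N25412 F264574))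
theorem Q26371 : ∀ i, i < 26371 → P i := stepQ 26370 Q26370 (allL N26370 (tt N25183 (iv D59140)) (tt N25444 F264575) (tt N25217 F264576) (tt N27269 (iv F268255)) (tt N25318 F264577) (tt N25411 F264578) (tt N26875 (iv F266320)) (tt N27594 (iv F269557)) (tt N27571 (iv F269443)) (tt N27280 (iv F268318)))
theorem Q26372 : ∀ i, i < 26372 → P i := stepQ 26371 Q26371 (allL N26371 (tt N25257 F264579) (tt N27595 D60365) (tt N25184 (iv D59141)) (tt N26948 (iv F266729)) (tt N27596 D60366) (tt N26827 (iv F266032)) (tt N26880 (iv F266350)) (tt N27524 (iv F269274)) (tt N25185 F264580) (tt N26916 (iv F266566)))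
theorem Q26373 : ∀ i, i < 26373 → P i := stepQ 26372 Q26372 (allL N26372 (tt N25258 F264581) (tt N26833 (iv F266070)) (tt N27596 (iv F269562)) (tt N26372 F264582) (tt N25184 (iv D59142)) (tt N27364 (iv F268684)) (tt N26881 (iv F266358)) (tt N27569 (iv F269429)) (tt N25186 F264583) (tt N26917 (iv F266571)))
theorem Q26374 : ∀ i, i < 26374 → P i := stepQ 26373 Q26373 (allL N26373 (tt N27597 D60367) (tt N25185 (iv D59143)) (tt N26839 (iv F266100)) (tt N25187 F264584) (tt N27598 D60368) (tt N26829 (iv F266045)) (tt N26882 (iv F266365)) (tt N27586 (iv F269519)) (tt N27595 (iv F269560)) (tt N25213 F264585))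
theorem Q26375 : ∀ i, i < 26375 → P i := stepQ 26374 Q26374 (allL N26374 (tt N25261 F264586) (tt N27598 (iv F269567)) (tt N25186 F264587) (tt N25503 F264588) (tt N25185 (iv D59144)) (tt N27357 (iv F268662)) (tt N26883 (iv F266372)) (tt N27587 (iv F269524)) (tt N27596 (iv F269563)) (tt N25214 F264589))
theorem Q26376 : ∀ i, i < 26376 → P i := stepQ 26375 Q26375 (allL N26375 (tt N25187 (iv D59145)) (tt N25264 F264590) (tt N27280 (iv F268312)) (tt N27597 (iv F269565)) (tt N25507 F264591) (tt N27278 (iv F268298)) (tt N26886 (iv F266390)) (tt N27588 (iv F269530)) (tt N27589 (iv F269538)) (tt N25217 F264592))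
theorem Q26377 : ∀ i, i < 26377 → P i := stepQ 26376 Q26376 (allL N26376 (tt N25466 F264593) (tt N25190 F264594) (tt N27599 D60369) (tt N25188 (iv D59146)) (tt N27600 D60370) (tt N27137 (iv F267726)) (tt N25194 F264595) (tt N25528 F264596) (tt N25464 F264597) (tt N26780 (iv F265758)))
theorem Q26378 : ∀ i, i < 26378 → P i := stepQ 26377 Q26377 (allL N26377 (tt N25562 F264598) (tt N25191 F264599) (tt N27551 (iv F269354)) (tt N27600 (iv F269576)) (tt N25189 (iv D59147)) (tt N27566 (iv F269417)) (tt N25195 F264600) (tt N25561 F264601) (tt N25221 F264602) (tt N26782 (iv F265772)))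
theorem Q26379 : ∀ i, i < 26379 → P i := stepQ 26378 Q26378 (allL N26378 (tt N25266 F264603) (tt N27601 D60371) (tt N25190 (iv D59148)) (tt N25193 F264604) (tt N27602 D60372) (tt N27505 (iv F269213)) (tt N25199 F264605) (tt N25540 F264606) (tt N25548 F264607) (tt N26785 (iv F265791)))
theorem Q26380 : ∀ i, i < 26380 → P i := stepQ 26379 Q26379 (allL N26379 (tt N25267 F264608) (tt N27600 (iv F269575)) (tt N27602 (iv F269585)) (tt N25191 F264609) (tt N25190 (iv D59149)) (tt N27603 D60373) (tt N25200 F264610) (tt N25541 F264611) (tt N25549 F264612) (tt N26786 (iv F265796)))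
theorem Q26381 : ∀ i, i < 26381 → P i := stepQ 26380 Q26380 (allL N26380 (tt N25268 F264613) (tt N27566 (iv F269415)) (tt N25231 F264614) (tt N27603 (iv F269591)) (tt N26380 F264615) (tt N25191 (iv D59150)) (tt N27567 (iv F269423)) (tt N25566 F264616) (tt N25222 F264617) (tt N26787 (iv F265802)))
theorem Q26382 : ∀ i, i < 26382 → P i := stepQ 26381 Q26381 (allL N26381 (tt N25269 F264618) (tt N27604 D60374) (tt N25192 (iv D59151)) (tt N27505 (iv F269212)) (tt N27605 D60375) (tt N25193 F264619) (tt N27089 (iv F267501)) (tt N26887 (iv F266396)) (tt N26749 (iv F265544)) (tt N26788 (iv F265807)))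
theorem Q26383 : ∀ i, i < 26383 → P i := stepQ 26382 Q26382 (allL N26382 (tt N25270 F264620) (tt N27044 (iv F267256)) (tt N27605 (iv F269596)) (tt N26382 F264621) (tt N25192 (iv D59152)) (tt N25514 F264622) (tt N27090 (iv F267508)) (tt N26888 (iv F266402)) (tt N26750 (iv F265552)) (tt N26789 (iv F265814)))
theorem Q26384 : ∀ i, i < 26384 → P i := stepQ 26383 Q26383 (allL N26383 (tt N27606 D60376) (tt N25193 (iv D59153)) (tt N27045 (iv F267262)) (tt N27601 (iv F269580)) (tt N25530 F264623) (tt N27604 (iv F269594)) (tt N25203 F264624) (tt N26889 (iv F266407)) (tt N26751 (iv F265559)) (tt N26790 (iv F265819)))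
theorem Q26385 : ∀ i, i < 26385 → P i := stepQ 26384 Q26384 (allL N26384 (tt N27380 (iv F268748)) (tt N27607 D60377) (tt N25194 (iv D59154)) (tt N26797 (iv F265862)) (tt N27608 D60378) (tt N26793 (iv F265837)) (tt N27599 (iv F269571)) (tt N25205 F264625) (tt N27376 (iv F268730)) (tt N26815 (iv F265970)))
theorem Q26386 : ∀ i, i < 26386 → P i := stepQ 26385 Q26385 (allL N26385 (tt N27020 (iv F267106)) (tt N25200 F264626) (tt N27608 (iv F269603)) (tt N25195 F264627) (tt N25194 (iv D59155)) (tt N27609 D60379) (tt N27600 (iv F269577)) (tt N25206 F264628) (tt N27377 (iv F268736)) (tt N26816 (iv F265976)))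
theorem Q26387 : ∀ i, i < 26387 → P i := stepQ 26386 Q26386 (allL N26386 (tt N25469 F264629) (tt N25201 F264630) (tt N25465 F264631) (tt N27609 (iv F269607)) (tt N25218 F264632) (tt N25195 (iv D59156)) (tt N27378 (iv F268740)) (tt N25207 F264633) (tt N25223 F264634) (tt N26850 (iv F266156)))
theorem Q26388 : ∀ i, i < 26388 → P i := stepQ 26387 Q26387 (allL N26387 (tt N25276 F264635) (tt N26792 (iv F265829)) (tt N27610 D60380) (tt N25196 (iv D59157)) (tt N27611 D60381) (tt N25197 F264636) (tt N27084 (iv F267470)) (tt N25208 F264637) (tt N25198 F264638) (tt N26902 (iv F266493)))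
theorem Q26389 : ∀ i, i < 26389 → P i := stepQ 26388 Q26388 (allL N26388 (tt N25278 F264639) (tt N27612 D60382) (tt N25197 (iv D59158)) (tt N25529 F264640) (tt N27613 D60383) (tt N27610 (iv F269611)) (tt N25548 F264641) (tt N25209 F264642) (tt N25199 F264643) (tt N26903 (iv F266498)))
theorem Q26390 : ∀ i, i < 26390 → P i := stepQ 26389 Q26389 (allL N26389 (tt N25279 F264644) (tt N27377 (iv F268732)) (tt N27613 (iv F269623)) (tt N25224 F264645) (tt N25197 (iv D59159)) (tt N27614 D60384) (tt N25549 F264646) (tt N25210 F264647) (tt N25200 F264648) (tt N26904 (iv F266503)))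
theorem Q26391 : ∀ i, i < 26391 → P i := stepQ 26390 Q26390 (allL N26390 (tt N25280 F264649) (tt N27615 D60385) (tt N25198 (iv D59160)) (tt N25202 F264650) (tt N27616 D60386) (tt N25199 F264651) (tt N27086 (iv F267483)) (tt N25211 F264652) (tt N27610 (iv F269613)) (tt N25446 F264653))
theorem Q26392 : ∀ i, i < 26392 → P i := stepQ 26391 Q26391 (allL N26391 (tt N25281 F264654) (tt N26794 (iv F265842)) (tt N27616 (iv F269637)) (tt N25219 F264655) (tt N25198 (iv D59161)) (tt N27324 (iv F268514)) (tt N27087 (iv F267489)) (tt N25212 F264656) (tt N27611 (iv F269617)) (tt N25447 F264657))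
theorem Q26393 : ∀ i, i < 26393 → P i := stepQ 26392 Q26392 (allL N26392 (tt N27617 D60387) (tt N25199 (iv D59162)) (tt N27607 (iv F269601)) (tt N25203 F264658) (tt N27618 D60388) (tt N27615 (iv F269633)) (tt N27601 (iv F269581)) (tt N25213 F264659) (tt N27612 (iv F269621)) (tt N27586 (iv F269520)))
theorem Q26394 : ∀ i, i < 26394 → P i := stepQ 26393 Q26393 (allL N26393 (tt N25283 F264660) (tt N27618 (iv F269644)) (tt N25200 F264661) (tt N25523 F264662) (tt N25199 (iv D59163)) (tt N27619 D60389) (tt N27602 (iv F269587)) (tt N25214 F264663) (tt N27613 (iv F269627)) (tt N27587 (iv F269525)))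
theorem Q26395 : ∀ i, i < 26395 → P i := stepQ 26394 Q26394 (allL N26394 (tt N25284 F264664) (tt N27609 (iv F269606)) (tt N27619 (iv F269648)) (tt N25201 F264665) (tt N27324 (iv F268513)) (tt N25200 (iv D59164)) (tt N27620 D60390) (tt N25215 F264666) (tt N27614 (iv F269631)) (tt N27362 (iv F268678)))
theorem Q26396 : ∀ i, i < 26396 → P i := stepQ 26395 Q26395 (allL N26395 (tt N25285 F264667) (tt N27378 (iv F268738)) (tt N25561 F264668) (tt N27620 (iv F269652)) (tt N25220 F264669) (tt N27567 (iv F269422)) (tt N25201 (iv D59165)) (tt N27551 (iv F269356)) (tt N25226 F264670) (tt N27361 (iv F268673)))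
theorem Q26397 : ∀ i, i < 26397 → P i := stepQ 26396 Q26396 (allL N26396 (tt N27621 D60391) (tt N25202 (iv D59166)) (tt N25410 F264671) (tt N27615 (iv F269632)) (tt N25431 F264672) (tt N25203 F264673) (tt N27091 (iv F267513)) (tt N25216 F264674) (tt N25360 F264675) (tt N25448 F264676))
theorem Q26398 : ∀ i, i < 26398 → P i := stepQ 26397 Q26397 (allL N26397 (tt N25203 (iv D59167)) (tt N25287 F264677) (tt N27594 (iv F269554)) (tt N27617 (iv F269642)) (tt N25531 F264678) (tt N27621 (iv F269656)) (tt N27606 (iv F269600)) (tt N25217 F264679) (tt N27570 (iv F269436)) (tt N27588 (iv F269532)))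
theorem Q26399 : ∀ i, i < 26399 → P i := stepQ 26398 Q26398 (allL N26398 (tt N27367 (iv F268692)) (tt N27622 D60392) (tt N25204 (iv D59168)) (tt N27133 (iv F267709)) (tt N27623 D60393) (tt N26801 (iv F265884)) (tt N25518 F264680) (tt N27376 (iv F268729)) (tt N25205 F264681) (tt N26912 (iv F266548)))
theorem Q26400 : ∀ i, i < 26400 → P i := stepQ 26399 Q26399 (allL N26399 (tt N26981 (iv F266902)) (tt N25210 F264682) (tt N27623 (iv F269663)) (tt N25228 F264683) (tt N25204 (iv D59169)) (tt N27624 D60394) (tt N25519 F264684) (tt N27377 (iv F268735)) (tt N25206 F264685) (tt N26913 (iv F266552)))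
theorem Q26401 : ∀ i, i < 26401 → P i := stepQ 26400 Q26400 (allL N26400 (tt N27625 D60395) (tt N25205 (iv D59170)) (tt N25213 F264686) (tt N26806 (iv F265909)) (tt N27626 D60396) (tt N26803 (iv F265894)) (tt N25557 F264687) (tt N27607 (iv F269602)) (tt N27622 (iv F269662)) (tt N26839 (iv F266104)))
theorem Q26402 : ∀ i, i < 26402 → P i := stepQ 26401 Q26401 (allL N26401 (tt N27021 (iv F267114)) (tt N27626 (iv F269672)) (tt N25206 F264688) (tt N27560 (iv F269385)) (tt N25205 (iv D59171)) (tt N27627 D60397) (tt N25555 F264689) (tt N27608 (iv F269604)) (tt N27623 (iv F269665)) (tt N26840 (iv F266108)))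
theorem Q26403 : ∀ i, i < 26403 → P i := stepQ 26402 Q26402 (allL N26402 (tt N26845 (iv F266124)) (tt N25215 F264690) (tt N27627 (iv F269675)) (tt N25207 F264691) (tt N26805 (iv F265905)) (tt N25206 (iv D59172)) (tt N25552 F264692) (tt N27609 (iv F269608)) (tt N27624 (iv F269669)) (tt N26841 (iv F266114)))
theorem Q26404 : ∀ i, i < 26404 → P i := stepQ 26403 Q26403 (allL N26403 (tt N25301 F264693) (tt N27628 D60398) (tt N25208 (iv D59173)) (tt N25513 F264694) (tt N27629 D60399) (tt N25209 F264695) (tt N25510 F264696) (tt N27610 (iv F269612)) (tt N25211 F264697) (tt N26918 (iv F266576)))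
theorem Q26405 : ∀ i, i < 26405 → P i := stepQ 26404 Q26404 (allL N26404 (tt N25302 F264698) (tt N26802 (iv F265888)) (tt N27629 (iv F269683)) (tt N26404 F264699) (tt N25208 (iv D59174)) (tt N27325 (iv F268520)) (tt N25511 F264700) (tt N27611 (iv F269616)) (tt N25212 F264701) (tt N26919 (iv F266580)))
theorem Q26406 : ∀ i, i < 26406 → P i := stepQ 26405 Q26405 (allL N26405 (tt N27630 D60400) (tt N25209 (iv D59175)) (tt N27622 (iv F269660)) (tt N25530 F264702) (tt N27631 D60401) (tt N27628 (iv F269679)) (tt N25522 F264703) (tt N27612 (iv F269620)) (tt N25213 F264704) (tt N26920 (iv F266583)))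
theorem Q26407 : ∀ i, i < 26407 → P i := stepQ 26406 Q26406 (allL N26406 (tt N25306 F264705) (tt N27631 (iv F269690)) (tt N25210 F264706) (tt N27602 (iv F269586)) (tt N25209 (iv D59176)) (tt N27632 D60402) (tt N25523 F264707) (tt N27613 (iv F269626)) (tt N25214 F264708) (tt N26921 (iv F266587)))
theorem Q26408 : ∀ i, i < 26408 → P i := stepQ 26407 Q26407 (allL N26407 (tt N25307 F264709) (tt N27624 (iv F269666)) (tt N27632 (iv F269694)) (tt N25231 F264710) (tt N27325 (iv F268519)) (tt N25210 (iv D59177)) (tt N27561 (iv F269392)) (tt N27614 (iv F269630)) (tt N25215 F264711) (tt N26922 (iv F266590)))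
theorem Q26409 : ∀ i, i < 26409 → P i := stepQ 26408 Q26408 (allL N26408 (tt N27633 D60403) (tt N25211 (iv D59178)) (tt N26803 (iv F265892)) (tt N25216 F264712) (tt N27634 D60404) (tt N25213 F264713) (tt N27247 (iv F268154)) (tt N27615 (iv F269634)) (tt N27628 (iv F269681)) (tt N26829 (iv F266048)))
theorem Q26410 : ∀ i, i < 26410 → P i := stepQ 26409 Q26409 (allL N26409 (tt N25312 F264714) (tt N27634 (iv F269699)) (tt N25212 F264715) (tt N25442 F264716) (tt N25211 (iv D59179)) (tt N27321 (iv F268500)) (tt N27248 (iv F268161)) (tt N27616 (iv F269639)) (tt N27629 (iv F269685)) (tt N26830 (iv F266054)))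
theorem Q26411 : ∀ i, i < 26411 → P i := stepQ 26410 Q26410 (allL N26410 (tt N25213 (iv D59180)) (tt N25313 F264717) (tt N27625 (iv F269670)) (tt N25217 F264718) (tt N27635 D60405) (tt N27633 (iv F269698)) (tt N26891 (iv F266419)) (tt N27617 (iv F269643)) (tt N27630 (iv F269689)) (tt N27597 (iv F269566)))
theorem Q26412 : ∀ i, i < 26412 → P i := stepQ 26411 Q26411 (allL N26411 (tt N27635 (iv F269701)) (tt N25214 F264719) (tt N27626 (iv F269673)) (tt N25554 F264720) (tt N25213 (iv D59181)) (tt N27636 D60406) (tt N26892 (iv F266426)) (tt N27618 (iv F269646)) (tt N27631 (iv F269692)) (tt N27598 (iv F269569)))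
theorem Q26413 : ∀ i, i < 26413 → P i := stepQ 26412 Q26412 (allL N26412 (tt N25315 F264721) (tt N27636 (iv F269704)) (tt N25215 F264722) (tt N25555 F264723) (tt N27321 (iv F268499)) (tt N25214 (iv D59182)) (tt N27560 (iv F269387)) (tt N27619 (iv F269650)) (tt N27632 (iv F269695)) (tt N27357 (iv F268663)))
theorem Q26414 : ∀ i, i < 26414 → P i := stepQ 26413 Q26413 (allL N26413 (tt N25216 (iv D59183)) (tt N25318 F264724) (tt N25411 F264725) (tt N27633 (iv F269697)) (tt N25444 F264726) (tt N25217 F264727) (tt N27249 (iv F268167)) (tt N27621 (iv F269657)) (tt N27572 (iv F269450)) (tt N27278 (iv F268302)))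
theorem Q26415 : ∀ i, i < 26415 → P i := stepQ 26414 Q26414 (allL N26414 (tt N25324 F264728) (tt N27379 (iv F268744)) (tt N25566 F264729) (tt N27614 (iv F269629)) (tt N26414 F264730) (tt N25224 (iv D59184)) (tt N27637 D60407) (tt N25231 F264731) (tt N25225 F264732) (tt N26905 (iv F266509)))
theorem Q26416 : ∀ i, i < 26416 → P i := stepQ 26415 Q26415 (allL N26415 (tt N25325 F264733) (tt N27564 (iv F269404)) (tt N25230 F264734) (tt N25226 F264735) (tt N26415 F264736) (tt N25229 F264737) (tt N25225 (iv D59185)) (tt N27563 (iv F269400)) (tt N27637 (iv F269710)) (tt N26415 F264738))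
theorem Q26417 : ∀ i, i < 26417 → P i := stepQ 26416 Q26416 (allL N26416 (tt N26820 (iv F265993)) (tt N27551 (iv F269353)) (tt N25228 F264739) (tt N27638 D60408) (tt N25227 (iv D59186)) (tt N27637 (iv F269709)) (tt N25560 F264740) (tt N27378 (iv F268741)) (tt N25229 F264741) (tt N26914 (iv F266556)))
theorem Q26418 : ∀ i, i < 26418 → P i := stepQ 26417 Q26417 (allL N26417 (tt N26857 (iv F266195)) (tt N25231 F264742) (tt N27637 (iv F269707)) (tt N27624 (iv F269667)) (tt N26417 F264743) (tt N25228 (iv D59187)) (tt N25566 F264744) (tt N27379 (iv F268746)) (tt N25230 F264745) (tt N26915 (iv F266561)))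
theorem Q26419 : ∀ i, i < 26419 → P i := stepQ 26418 Q26418 (allL N26418 (tt N27427 (iv F268920)) (tt N27639 D60409) (tt N25232 (iv D59188)) (tt N25467 F264746) (tt N27640 D60410) (tt N25481 F264747) (tt N26912 (iv F266547)) (tt N25489 F264748) (tt N27349 (iv F268627)) (tt N25518 F264749))
theorem Q26420 : ∀ i, i < 26420 → P i := stepQ 26419 Q26419 (allL N26419 (tt N26937 (iv F266665)) (tt N25237 F264750) (tt N27640 (iv F269717)) (tt N25234 F264751) (tt N25232 (iv D59189)) (tt N25543 F264752) (tt N26913 (iv F266551)) (tt N25490 F264753) (tt N27350 (iv F268634)) (tt N25519 F264754))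
theorem Q26421 : ∀ i, i < 26421 → P i := stepQ 26420 Q26420 (allL N26420 (tt N26795 (iv F265847)) (tt N26849 (iv F266144)) (tt N25234 F264755) (tt N27641 D60411) (tt N25233 (iv D59190)) (tt N25509 F264756) (tt N26914 (iv F266554)) (tt N25508 F264757) (tt N26420 F264758) (tt N25560 F264759))
theorem Q26422 : ∀ i, i < 26422 → P i := stepQ 26421 Q26421 (allL N26421 (tt N26948 (iv F266728)) (tt N27642 D60412) (tt N25235 (iv D59191)) (tt N25257 F264760) (tt N27643 D60413) (tt N25482 F264761) (tt N26916 (iv F266564)) (tt N25495 F264762) (tt N25236 F264763) (tt N26880 (iv F266353)))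
theorem Q26423 : ∀ i, i < 26423 → P i := stepQ 26422 Q26422 (allL N26422 (tt N26949 (iv F266735)) (tt N27350 (iv F268630)) (tt N27643 (iv F269729)) (tt N26422 F264764) (tt N25235 (iv D59192)) (tt N27333 (iv F268556)) (tt N26917 (iv F266569)) (tt N25496 F264765) (tt N25237 F264766) (tt N26881 (iv F266361)))
theorem Q26424 : ∀ i, i < 26424 → P i := stepQ 26423 Q26423 (allL N26423 (tt N27644 D60414) (tt N25236 (iv D59193)) (tt N27639 (iv F269712)) (tt N25238 F264767) (tt N27645 D60415) (tt N25483 F264768) (tt N26920 (iv F266582)) (tt N25502 F264769) (tt N27642 (iv F269728)) (tt N25522 F264770))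
theorem Q26425 : ∀ i, i < 26425 → P i := stepQ 26424 Q26424 (allL N26424 (tt N27002 (iv F267021)) (tt N27645 (iv F269736)) (tt N25237 F264771) (tt N27587 (iv F269523)) (tt N25236 (iv D59194)) (tt N27338 (iv F268581)) (tt N26921 (iv F266586)) (tt N25503 F264772) (tt N27643 (iv F269731)) (tt N25523 F264773))
theorem Q26426 : ∀ i, i < 26426 → P i := stepQ 26425 Q26425 (allL N26425 (tt N25238 (iv D59195)) (tt N27589 (iv F269533)) (tt N25475 F264774) (tt N27644 (iv F269732)) (tt N27588 (iv F269528)) (tt N25484 F264775) (tt N26926 (iv F266607)) (tt N25507 F264776) (tt N25264 F264777) (tt N25531 F264778))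
theorem Q26427 : ∀ i, i < 26427 → P i := stepQ 26426 Q26426 (allL N26426 (tt N26783 (iv F265773)) (tt N26902 (iv F266488)) (tt N27646 D60416) (tt N25239 (iv D59196)) (tt N27647 D60417) (tt N26899 (iv F266469)) (tt N25247 F264779) (tt N26800 (iv F265880)) (tt N25240 F264780) (tt N26792 (iv F265834)))
theorem Q26428 : ∀ i, i < 26428 → P i := stepQ 26427 Q26427 (allL N26427 (tt N26785 (iv F265787)) (tt N27648 D60418) (tt N25240 (iv D59197)) (tt N25242 F264781) (tt N27649 D60419) (tt N27393 (iv F268805)) (tt N25248 F264782) (tt N26834 (iv F266078)) (tt N27646 (iv F269741)) (tt N25266 F264783))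
theorem Q26429 : ∀ i, i < 26429 → P i := stepQ 26428 Q26428 (allL N26428 (tt N26786 (iv F265792)) (tt N27243 (iv F268131)) (tt N27649 (iv F269748)) (tt N25241 F264784) (tt N25240 (iv D59198)) (tt N27650 D60420) (tt N25249 F264785) (tt N26835 (iv F266083)) (tt N27647 (iv F269744)) (tt N25267 F264786))
theorem Q26430 : ∀ i, i < 26430 → P i := stepQ 26429 Q26429 (allL N26429 (tt N26787 (iv F265797)) (tt N27244 (iv F268136)) (tt N25327 F264787) (tt N27650 (iv F269752)) (tt N26429 F264788) (tt N25241 (iv D59199)) (tt N27548 (iv F269342)) (tt N26860 (iv F266220)) (tt N26429 F264789) (tt N25268 F264790))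
theorem Q26431 : ∀ i, i < 26431 → P i := stepQ 26430 Q26430 (allL N26430 (tt N27651 D60421) (tt N25242 (iv D59200)) (tt N25480 F264791) (tt N27648 (iv F269745)) (tt N26878 (iv F266338)) (tt N27402 (iv F268824)) (tt N25250 F264792) (tt N26930 (iv F266629)) (tt N25506 F264793) (tt N25271 F264794))
theorem Q26432 : ∀ i, i < 26432 → P i := stepQ 26431 Q26431 (allL N26431 (tt N27137 (iv F267724)) (tt N25247 F264795) (tt N27652 D60422) (tt N25243 (iv D59201)) (tt N27653 D60423) (tt N25466 F264796) (tt N26902 (iv F266490)) (tt N25251 F264797) (tt N25244 F264798) (tt N27084 (iv F267473)))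
theorem Q26433 : ∀ i, i < 26433 → P i := stepQ 26432 Q26432 (allL N26432 (tt N27391 (iv F268794)) (tt N27654 D60424) (tt N25244 (iv D59202)) (tt N25481 F264799) (tt N27655 D60425) (tt N25467 F264800) (tt N27520 (iv F269257)) (tt N25253 F264801) (tt N27652 (iv F269760)) (tt N25273 F264802))
theorem Q26434 : ∀ i, i < 26434 → P i := stepQ 26433 Q26433 (allL N26433 (tt N26965 (iv F266820)) (tt N25249 F264803) (tt N27655 (iv F269770)) (tt N25245 F264804) (tt N25244 (iv D59203)) (tt N27447 (iv F269005)) (tt N27243 (iv F268133)) (tt N25254 F264805) (tt N27653 (iv F269764)) (tt N25274 F264806))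
theorem Q26435 : ∀ i, i < 26435 → P i := stepQ 26434 Q26434 (allL N26434 (tt N26901 (iv F266480)) (tt N27084 (iv F267468)) (tt N27656 D60426) (tt N25246 (iv D59204)) (tt N27657 D60427) (tt N25470 F264807) (tt N26792 (iv F265831)) (tt N25256 F264808) (tt N25277 F264809) (tt N25247 F264810))
theorem Q26436 : ∀ i, i < 26436 → P i := stepQ 26435 Q26435 (allL N26435 (tt N27524 (iv F269271)) (tt N27658 D60428) (tt N25247 (iv D59205)) (tt N25495 F264811) (tt N27659 D60429) (tt N25471 F264812) (tt N27646 (iv F269740)) (tt N25257 F264813) (tt N25248 F264814) (tt N27656 (iv F269778)))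
theorem Q26437 : ∀ i, i < 26437 → P i := stepQ 26436 Q26436 (allL N26436 (tt N27569 (iv F269426)) (tt N27653 (iv F269761)) (tt N27659 (iv F269787)) (tt N26436 F264815) (tt N25247 (iv D59206)) (tt N27549 (iv F269347)) (tt N27647 (iv F269743)) (tt N25258 F264816) (tt N25249 F264817) (tt N27657 (iv F269782)))
theorem Q26438 : ∀ i, i < 26438 → P i := stepQ 26437 Q26437 (allL N26437 (tt N27660 D60430) (tt N25248 (iv D59207)) (tt N27654 (iv F269765)) (tt N25250 F264818) (tt N27661 D60431) (tt N25473 F264819) (tt N27648 (iv F269746)) (tt N25260 F264820) (tt N27658 (iv F269786)) (tt N25282 F264821))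
theorem Q26439 : ∀ i, i < 26439 → P i := stepQ 26438 Q26438 (allL N26438 (tt N27587 (iv F269521)) (tt N27661 (iv F269794)) (tt N25249 F264822) (tt N27002 (iv F267023)) (tt N25248 (iv D59208)) (tt N27485 (iv F269153)) (tt N27649 (iv F269750)) (tt N25261 F264823) (tt N27659 (iv F269789)) (tt N25283 F264824))
theorem Q26440 : ∀ i, i < 26440 → P i := stepQ 26439 Q26439 (allL N26439 (tt N25250 (iv D59209)) (tt N27588 (iv F269526)) (tt N25484 F264825) (tt N27660 (iv F269790)) (tt N27589 (iv F269535)) (tt N25475 F264826) (tt N27651 (iv F269755)) (tt N25264 F264827) (tt N25507 F264828) (tt N25287 F264829))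
theorem Q26441 : ∀ i, i < 26441 → P i := stepQ 26440 Q26440 (allL N26440 (tt N27497 (iv F269183)) (tt N27662 D60432) (tt N25251 (iv D59210)) (tt N27408 (iv F268843)) (tt N27663 D60433) (tt N27414 (iv F268868)) (tt N26943 (iv F266698)) (tt N27652 (iv F269759)) (tt N25253 F264830) (tt N27454 (iv F269042)))
theorem Q26442 : ∀ i, i < 26442 → P i := stepQ 26441 Q26441 (allL N26441 (tt N26966 (iv F266826)) (tt N25258 F264831) (tt N27663 (iv F269799)) (tt N26441 F264832) (tt N25251 (iv D59211)) (tt N27448 (iv F269011)) (tt N26944 (iv F266706)) (tt N27653 (iv F269763)) (tt N25254 F264833) (tt N27455 (iv F269047)))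
theorem Q26443 : ∀ i, i < 26443 → P i := stepQ 26442 Q26442 (allL N26442 (tt N25534 F264834) (tt N27664 D60434) (tt N25252 (iv D59212)) (tt N25489 F264835) (tt N27012 (iv F267081)) (tt N25253 F264836) (tt N25532 F264837) (tt N25467 F264838) (tt N27414 (iv F268871)) (tt N25295 F264839))
theorem Q26444 : ∀ i, i < 26444 → P i := stepQ 26443 Q26443 (allL N26443 (tt N27665 D60435) (tt N25253 (iv D59213)) (tt N25260 F264840) (tt N25491 F264841) (tt N27666 D60436) (tt N27664 (iv F269803)) (tt N26945 (iv F266713)) (tt N27654 (iv F269768)) (tt N27662 (iv F269798)) (tt N25297 F264842))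
theorem Q26445 : ∀ i, i < 26445 → P i := stepQ 26444 Q26444 (allL N26444 (tt N26963 (iv F266808)) (tt N27666 (iv F269810)) (tt N25254 F264843) (tt N26885 (iv F266383)) (tt N25253 (iv D59214)) (tt N27438 (iv F268967)) (tt N26946 (iv F266719)) (tt N27655 (iv F269772)) (tt N27663 (iv F269800)) (tt N25298 F264844))
theorem Q26446 : ∀ i, i < 26446 → P i := stepQ 26445 Q26445 (allL N26445 (tt N26827 (iv F266030)) (tt N27667 D60437) (tt N25255 (iv D59215)) (tt N25482 F264845) (tt N27287 (iv F268341)) (tt N25257 F264846) (tt N26973 (iv F266861)) (tt N25471 F264847) (tt N25259 F264848) (tt N27346 (iv F268612)))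
theorem Q26447 : ∀ i, i < 26447 → P i := stepQ 26446 Q26446 (allL N26446 (tt N26916 (iv F266562)) (tt N27668 D60438) (tt N25256 (iv D59216)) (tt N26880 (iv F266348)) (tt N27669 D60439) (tt N27346 (iv F268608)) (tt N26948 (iv F266731)) (tt N27656 (iv F269776)) (tt N25303 F264849) (tt N25257 F264850))
theorem Q26448 : ∀ i, i < 26448 → P i := stepQ 26447 Q26447 (allL N26447 (tt N26917 (iv F266567)) (tt N27455 (iv F269043)) (tt N27669 (iv F269819)) (tt N26447 F264851) (tt N25256 (iv D59217)) (tt N27558 (iv F269378)) (tt N26949 (iv F266739)) (tt N27657 (iv F269780)) (tt N25304 F264852) (tt N25258 F264853))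
theorem Q26449 : ∀ i, i < 26449 → P i := stepQ 26448 Q26448 (allL N26448 (tt N27670 D60440) (tt N25257 (iv D59218)) (tt N27662 (iv F269797)) (tt N27642 (iv F269725)) (tt N27671 D60441) (tt N27667 (iv F269814)) (tt N26950 (iv F266743)) (tt N27658 (iv F269785)) (tt N25260 F264854) (tt N27668 (iv F269818)))
theorem Q26450 : ∀ i, i < 26450 → P i := stepQ 26449 Q26449 (allL N26449 (tt N27596 (iv F269561)) (tt N27671 (iv F269823)) (tt N25258 F264855) (tt N27672 D60442) (tt N25257 (iv D59219)) (tt N27534 (iv F269304)) (tt N26951 (iv F266746)) (tt N27659 (iv F269788)) (tt N25261 F264856) (tt N27669 (iv F269821)))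
theorem Q26451 : ∀ i, i < 26451 → P i := stepQ 26450 Q26450 (allL N26450 (tt N27673 D60443) (tt N25259 (iv D59220)) (tt N27664 (iv F269801)) (tt N25263 F264857) (tt N27286 (iv F268336)) (tt N25260 F264858) (tt N27590 (iv F269543)) (tt N25473 F264859) (tt N27667 (iv F269816)) (tt N25311 F264860))
theorem Q26452 : ∀ i, i < 26452 → P i := stepQ 26451 Q26451 (allL N26451 (tt N25260 (iv D59221)) (tt N27597 (iv F269564)) (tt N27665 (iv F269807)) (tt N25264 F264861) (tt N27674 D60444) (tt N27673 (iv F269827)) (tt N26954 (iv F266764)) (tt N27660 (iv F269792)) (tt N27670 (iv F269822)) (tt N25313 F264862))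
theorem Q26453 : ∀ i, i < 26453 → P i := stepQ 26452 Q26452 (allL N26452 (tt N27674 (iv F269830)) (tt N25261 F264863) (tt N27666 (iv F269811)) (tt N27533 (iv F269299)) (tt N25260 (iv D59222)) (tt N27532 F269297) (tt N26955 (iv F266767)) (tt N27661 (iv F269795)) (tt N27671 (iv F269824)) (tt N25314 F264864))
theorem Q26454 : ∀ i, i < 26454 → P i := stepQ 26453 Q26453 (allL N26453 (tt N27675 D60445) (tt N25262 (iv D59223)) (tt N25506 F264865) (tt N27590 (iv F269541)) (tt N26862 (iv F266233)) (tt N26959 (iv F266791)) (tt N25263 F264866) (tt N27366 (iv F268689)) (tt N25480 F264867) (tt N25317 F264868))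
theorem Q26455 : ∀ i, i < 26455 → P i := stepQ 26454 Q26454 (allL N26454 (tt N25263 (iv D59224)) (tt N27278 (iv F268295)) (tt N25507 F264869) (tt N27673 (iv F269826)) (tt N27280 (iv F268314)) (tt N25264 F264870) (tt N27675 (iv F269834)) (tt N25475 F264871) (tt N25484 F264872) (tt N25318 F264873))
theorem Q26456 : ∀ i, i < 26456 → P i := stepQ 26455 Q26455 (allL N26455 (tt N27505 (iv F269211)) (tt N27676 D60446) (tt N25265 (iv D59225)) (tt N25269 F264874) (tt N27677 D60447) (tt N25266 F264875) (tt N27140 (iv F267739)) (tt N26832 (iv F266067)) (tt N26815 (iv F265969)) (tt N27393 (iv F268807)))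
theorem Q26457 : ∀ i, i < 26457 → P i := stepQ 26456 Q26456 (allL N26456 (tt N27506 (iv F269216)) (tt N27569 (iv F269427)) (tt N27677 (iv F269839)) (tt N26456 F264876) (tt N25265 (iv D59226)) (tt N27678 D60448) (tt N27141 (iv F267742)) (tt N26833 (iv F266073)) (tt N26816 (iv F265975)) (tt N27394 (iv F268810)))
theorem Q26458 : ∀ i, i < 26458 → P i := stepQ 26457 Q26457 (allL N26457 (tt N27679 D60449) (tt N25266 (iv D59227)) (tt N27522 (iv F269265)) (tt N25271 F264877) (tt N27680 D60450) (tt N27676 (iv F269838)) (tt N25282 F264878) (tt N26836 (iv F266087)) (tt N26817 (iv F265981)) (tt N27648 (iv F269747)))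
theorem Q26459 : ∀ i, i < 26459 → P i := stepQ 26458 Q26458 (allL N26458 (tt N27602 (iv F269584)) (tt N27680 (iv F269844)) (tt N25267 F264879) (tt N25306 F264880) (tt N25266 (iv D59228)) (tt N27681 D60451) (tt N25283 F264881) (tt N26837 (iv F266093)) (tt N26818 (iv F265987)) (tt N27649 (iv F269751)))
theorem Q26460 : ∀ i, i < 26460 → P i := stepQ 26459 Q26459 (allL N26459 (tt N27603 (iv F269590)) (tt N27245 (iv F268143)) (tt N27681 (iv F269847)) (tt N25268 F264882) (tt N27678 (iv F269841)) (tt N25267 (iv D59229)) (tt N27568 (iv F269425)) (tt N26838 (iv F266098)) (tt N26819 (iv F265992)) (tt N27650 (iv F269753)))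
theorem Q26461 : ∀ i, i < 26461 → P i := stepQ 26460 Q26460 (allL N26460 (tt N27682 D60452) (tt N25269 (iv D59230)) (tt N25515 F264883) (tt N27676 (iv F269837)) (tt N27683 D60453) (tt N25271 F264884) (tt N27146 (iv F267759)) (tt N26970 (iv F266850)) (tt N27173 (iv F267874)) (tt N27402 (iv F268827)))
theorem Q26462 : ∀ i, i < 26462 → P i := stepQ 26461 Q26461 (allL N26461 (tt N27605 (iv F269595)) (tt N27683 (iv F269851)) (tt N25270 F264885) (tt N27684 D60454) (tt N25269 (iv D59231)) (tt N27579 (iv F269485)) (tt N27147 (iv F267763)) (tt N26971 (iv F266853)) (tt N27174 (iv F267880)) (tt N27403 (iv F268831)))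
theorem Q26463 : ∀ i, i < 26463 → P i := stepQ 26462 Q26462 (allL N26462 (tt N25271 (iv D59232)) (tt N27606 (iv F269598)) (tt N25517 F264886) (tt N27679 (iv F269842)) (tt N27580 (iv F269492)) (tt N27682 (iv F269850)) (tt N25287 F264887) (tt N26972 (iv F266857)) (tt N27573 (iv F269455)) (tt N27651 (iv F269757)))
theorem Q26464 : ∀ i, i < 26464 → P i := stepQ 26463 Q26463 (allL N26463 (tt N27389 (iv F268782)) (tt N27685 D60455) (tt N25272 (iv D59233)) (tt N25518 F264888) (tt N27686 D60456) (tt N25273 F264889) (tt N27133 (iv F267710)) (tt N25295 F264890) (tt N27302 (iv F268409)) (tt N25467 F264891))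
theorem Q26465 : ∀ i, i < 26465 → P i := stepQ 26464 Q26464 (allL N26464 (tt N27390 (iv F268788)) (tt N25281 F264892) (tt N27686 (iv F269859)) (tt N25320 F264893) (tt N25272 (iv D59234)) (tt N27445 (iv F268996)) (tt N27134 (iv F267714)) (tt N25296 F264894) (tt N27303 (iv F268414)) (tt N25468 F264895))
theorem Q26466 : ∀ i, i < 26466 → P i := stepQ 26465 Q26465 (allL N26465 (tt N27687 D60457) (tt N25273 (iv D59235)) (tt N25282 F264896) (tt N25520 F264897) (tt N27688 D60458) (tt N27685 (iv F269856)) (tt N27522 (iv F269266)) (tt N25297 F264898) (tt N27304 (iv F268419)) (tt N27654 (iv F269769)))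
theorem Q26467 : ∀ i, i < 26467 → P i := stepQ 26466 Q26466 (allL N26466 (tt N26989 (iv F266946)) (tt N27688 (iv F269865)) (tt N25274 F264899) (tt N25398 F264900) (tt N25273 (iv D59236)) (tt N27538 (iv F269316)) (tt N27220 (iv F268060)) (tt N25298 F264901) (tt N27305 (iv F268425)) (tt N27655 (iv F269773)))
theorem Q26468 : ∀ i, i < 26468 → P i := stepQ 26467 Q26467 (allL N26467 (tt N26902 (iv F266487)) (tt N27085 (iv F267475)) (tt N27689 D60459) (tt N25275 (iv D59237)) (tt N27690 D60460) (tt N25277 F264902) (tt N27137 (iv F267727)) (tt N25300 F264903) (tt N25470 F264904) (tt N25276 F264905))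
theorem Q26469 : ∀ i, i < 26469 → P i := stepQ 26468 Q26468 (allL N26468 (tt N27610 (iv F269609)) (tt N27691 D60461) (tt N25276 (iv D59238)) (tt N25371 F264906) (tt N27692 D60462) (tt N25278 F264907) (tt N27138 (iv F267732)) (tt N25301 F264908) (tt N25280 F264909) (tt N27689 (iv F269873)))
theorem Q26470 : ∀ i, i < 26470 → P i := stepQ 26469 Q26469 (allL N26469 (tt N27611 (iv F269614)) (tt N27303 (iv F268411)) (tt N27692 (iv F269882)) (tt N26469 F264910) (tt N25276 (iv D59239)) (tt N27446 (iv F269001)) (tt N27139 (iv F267735)) (tt N25302 F264911) (tt N25281 F264912) (tt N27690 (iv F269877)))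
theorem Q26471 : ∀ i, i < 26471 → P i := stepQ 26470 Q26470 (allL N26470 (tt N26903 (iv F266494)) (tt N27693 D60463) (tt N25277 (iv D59240)) (tt N26791 (iv F265821)) (tt N27694 D60464) (tt N27689 (iv F269870)) (tt N26793 (iv F265838)) (tt N25303 F264913) (tt N27656 (iv F269777)) (tt N25278 F264914))
theorem Q26472 : ∀ i, i < 26472 → P i := stepQ 26471 Q26471 (allL N26471 (tt N26904 (iv F266499)) (tt N27087 (iv F267487)) (tt N27694 (iv F269887)) (tt N25323 F264915) (tt N25277 (iv D59241)) (tt N27695 D60465) (tt N26794 (iv F265844)) (tt N25304 F264916) (tt N27657 (iv F269781)) (tt N25279 F264917))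
theorem Q26473 : ∀ i, i < 26473 → P i := stepQ 26472 Q26472 (allL N26472 (tt N27696 D60466) (tt N25278 (iv D59242)) (tt N27304 (iv F268415)) (tt N26814 (iv F265959)) (tt N27697 D60467) (tt N27691 (iv F269879)) (tt N26817 (iv F265979)) (tt N25305 F264918) (tt N25282 F264919) (tt N27693 (iv F269886)))
theorem Q26474 : ∀ i, i < 26474 → P i := stepQ 26473 Q26473 (allL N26473 (tt N27613 (iv F269622)) (tt N27697 (iv F269895)) (tt N25279 F264920) (tt N26837 (iv F266091)) (tt N25278 (iv D59243)) (tt N27698 D60468) (tt N26818 (iv F265985)) (tt N25306 F264921) (tt N25283 F264922) (tt N27694 (iv F269889)))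
theorem Q26475 : ∀ i, i < 26475 → P i := stepQ 26474 Q26474 (allL N26474 (tt N27614 (iv F269628)) (tt N27306 (iv F268427)) (tt N27698 (iv F269898)) (tt N25324 F264923) (tt N27446 (iv F269000)) (tt N25279 (iv D59244)) (tt N27699 D60469) (tt N25307 F264924) (tt N25284 F264925) (tt N27695 (iv F269892)))
theorem Q26476 : ∀ i, i < 26476 → P i := stepQ 26475 Q26475 (allL N26475 (tt N27700 D60470) (tt N25280 (iv D59245)) (tt N27685 (iv F269854)) (tt N25286 F264926) (tt N27701 D60471) (tt N25282 F264927) (tt N27142 (iv F267745)) (tt N25311 F264928) (tt N27691 (iv F269881)) (tt N25473 F264929))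
theorem Q26477 : ∀ i, i < 26477 → P i := stepQ 26476 Q26476 (allL N26476 (tt N27616 (iv F269636)) (tt N27701 (iv F269907)) (tt N25281 F264930) (tt N27267 (iv F268245)) (tt N25280 (iv D59246)) (tt N27424 (iv F268908)) (tt N27143 (iv F267748)) (tt N25312 F264931) (tt N27692 (iv F269884)) (tt N25474 F264932))
theorem Q26478 : ∀ i, i < 26478 → P i := stepQ 26477 Q26477 (allL N26477 (tt N25282 (iv D59247)) (tt N27617 (iv F269641)) (tt N27687 (iv F269862)) (tt N25287 F264933) (tt N27702 D60472) (tt N27700 (iv F269904)) (tt N27679 (iv F269843)) (tt N25313 F264934) (tt N27696 (iv F269894)) (tt N27660 (iv F269793)))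
theorem Q26479 : ∀ i, i < 26479 → P i := stepQ 26478 Q26478 (allL N26478 (tt N27702 (iv F269910)) (tt N25283 F264935) (tt N27688 (iv F269866)) (tt N27004 (iv F267035)) (tt N25282 (iv D59248)) (tt N27703 D60473) (tt N27680 (iv F269846)) (tt N25314 F264936) (tt N27697 (iv F269897)) (tt N27661 (iv F269796)))
theorem Q26480 : ∀ i, i < 26480 → P i := stepQ 26479 Q26479 (allL N26479 (tt N27619 (iv F269647)) (tt N27703 (iv F269912)) (tt N25284 F264937) (tt N27005 (iv F267041)) (tt N27424 (iv F268907)) (tt N25283 (iv D59249)) (tt N27704 D60474) (tt N25315 F264938) (tt N27698 (iv F269900)) (tt N27485 (iv F269155)))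
theorem Q26481 : ∀ i, i < 26481 → P i := stepQ 26480 Q26480 (allL N26480 (tt N27620 (iv F269651)) (tt N27550 (iv F269349)) (tt N27704 (iv F269914)) (tt N25285 F264939) (tt N27444 (iv F268991)) (tt N27568 (iv F269424)) (tt N25284 (iv D59250)) (tt N27552 (iv F269360)) (tt N27699 (iv F269902)) (tt N27547 (iv F269339)))
theorem Q26482 : ∀ i, i < 26482 → P i := stepQ 26481 Q26481 (allL N26481 (tt N25286 (iv D59251)) (tt N27621 (iv F269653)) (tt N25531 F264940) (tt N27700 (iv F269903)) (tt N27594 (iv F269555)) (tt N25287 F264941) (tt N27148 (iv F267767)) (tt N25318 F264942) (tt N25376 F264943) (tt N25475 F264944))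
theorem Q26483 : ∀ i, i < 26483 → P i := stepQ 26482 Q26482 (allL N26482 (tt N25295 F264945) (tt N27705 D60475) (tt N25288 (iv D59252)) (tt N25532 F264946) (tt N27706 D60476) (tt N25289 F264947) (tt N25489 F264948) (tt N27389 (iv F268785)) (tt N27368 (iv F268702)) (tt N25534 F264949))
theorem Q26484 : ∀ i, i < 26484 → P i := stepQ 26483 Q26483 (allL N26483 (tt N25296 F264950) (tt N25501 F264951) (tt N27706 (iv F269921)) (tt N25321 F264952) (tt N25288 (iv D59253)) (tt N26855 (iv F266187)) (tt N25490 F264953) (tt N27390 (iv F268791)) (tt N27369 (iv F268708)) (tt N25535 F264954))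
theorem Q26485 : ∀ i, i < 26485 → P i := stepQ 26484 Q26484 (allL N26484 (tt N27707 D60477) (tt N25289 (iv D59254)) (tt N27431 (iv F268939)) (tt N25533 F264955) (tt N27018 (iv F267101)) (tt N27705 (iv F269917)) (tt N26991 (iv F266962)) (tt N27392 (iv F268802)) (tt N27370 (iv F268711)) (tt N27501 (iv F269201)))
theorem Q26486 : ∀ i, i < 26486 → P i := stepQ 26485 Q26485 (allL N26485 (tt N27368 (iv F268697)) (tt N27708 D60478) (tt N25290 (iv D59255)) (tt N27299 (iv F268389)) (tt N27709 D60479) (tt N25292 F264956) (tt N27473 (iv F269112)) (tt N27302 (iv F268408)) (tt N25295 F264957) (tt N27471 (iv F269104)))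
theorem Q26487 : ∀ i, i < 26487 → P i := stepQ 26486 Q26486 (allL N26486 (tt N27369 (iv F268703)) (tt N25302 F264958) (tt N27709 (iv F269929)) (tt N26486 F264959) (tt N25290 (iv D59256)) (tt N27450 (iv F269021)) (tt N26952 F266755) (tt N27303 (iv F268413)) (tt N25296 F264960) (tt N27472 (iv F269109)))
theorem Q26488 : ∀ i, i < 26488 → P i := stepQ 26487 Q26487 (allL N26487 (tt N27129 (iv F267690)) (tt N27710 D60480) (tt N25291 (iv D59257)) (tt N27083 (iv F267461)) (tt N27711 D60481) (tt N27471 (iv F269101)) (tt N26993 (iv F266973)) (tt N27086 (iv F267484)) (tt N27454 (iv F269041)) (tt N25292 F264961))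
theorem Q26489 : ∀ i, i < 26489 → P i := stepQ 26488 Q26488 (allL N26488 (tt N27022 (iv F267119)) (tt N25304 F264962) (tt N27711 (iv F269933)) (tt N25326 F264963) (tt N25291 (iv D59258)) (tt N27559 (iv F269382)) (tt N26994 (iv F266981)) (tt N27087 (iv F267490)) (tt N27455 (iv F269046)) (tt N25293 F264964))
theorem Q26490 : ∀ i, i < 26490 → P i := stepQ 26489 Q26489 (allL N26489 (tt N27712 D60482) (tt N25292 (iv D59259)) (tt N25305 F264965) (tt N27301 (iv F268400)) (tt N27713 D60483) (tt N27708 (iv F269927)) (tt N26995 (iv F266988)) (tt N27304 (iv F268418)) (tt N25297 F264966) (tt N27710 (iv F269932)))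
theorem Q26491 : ∀ i, i < 26491 → P i := stepQ 26490 Q26490 (allL N26490 (tt N27019 (iv F267102)) (tt N27713 (iv F269937)) (tt N25293 F264967) (tt N27202 (iv F267991)) (tt N25292 (iv D59260)) (tt N27541 (iv F269325)) (tt N26996 (iv F266993)) (tt N27305 (iv F268424)) (tt N25298 F264968) (tt N27711 (iv F269934)))
theorem Q26492 : ∀ i, i < 26492 → P i := stepQ 26491 Q26491 (allL N26491 (tt N25489 F264969) (tt N27714 D60484) (tt N25294 (iv D59261)) (tt N25534 F264970) (tt N26956 (iv F266771)) (tt N25485 F264971) (tt N25295 F264972) (tt N27427 (iv F268923)) (tt N27473 (iv F269114)) (tt N25532 F264973))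
theorem Q26493 : ∀ i, i < 26493 → P i := stepQ 26492 Q26492 (allL N26492 (tt N27715 D60485) (tt N25295 (iv D59262)) (tt N25311 F264974) (tt N25536 F264975) (tt N27716 D60486) (tt N25297 F264976) (tt N27714 (iv F269943)) (tt N27685 (iv F269857)) (tt N27708 (iv F269928)) (tt N27664 (iv F269806)))
theorem Q26494 : ∀ i, i < 26494 → P i := stepQ 26493 Q26493 (allL N26493 (tt N27706 (iv F269920)) (tt N27716 (iv F269948)) (tt N25296 F264977) (tt N27530 (iv F269291)) (tt N25295 (iv D59263)) (tt N27449 (iv F269015)) (tt N26956 F266773) (tt N27686 (iv F269860)) (tt N27709 (iv F269930)) (tt N27012 (iv F267083)))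
theorem Q26495 : ∀ i, i < 26495 → P i := stepQ 26494 Q26494 (allL N26494 (tt N25297 (iv D59264)) (tt N27707 (iv F269924)) (tt N25313 F264978) (tt N25538 F264979) (tt N27717 D60487) (tt N27715 (iv F269947)) (tt N26998 (iv F267006)) (tt N27687 (iv F269864)) (tt N27712 (iv F269936)) (tt N27665 (iv F269809)))
theorem Q26496 : ∀ i, i < 26496 → P i := stepQ 26495 Q26495 (allL N26495 (tt N27717 (iv F269950)) (tt N25298 F264980) (tt N25314 F264981) (tt N26898 (iv F266463)) (tt N25297 (iv D59265)) (tt N27540 (iv F269321)) (tt N26999 (iv F267009)) (tt N27688 (iv F269868)) (tt N27713 (iv F269939)) (tt N27666 (iv F269812)))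
theorem Q26497 : ∀ i, i < 26497 → P i := stepQ 26496 Q26496 (allL N26496 (tt N25510 F264982) (tt N27718 D60488) (tt N25299 (iv D59266)) (tt N25452 F264983) (tt N27719 D60489) (tt N25451 F264984) (tt N25301 F264985) (tt N27326 (iv F268524)) (tt N25309 F264986) (tt N27461 (iv F269077)))
theorem Q26498 : ∀ i, i < 26498 → P i := stepQ 26497 Q26497 (allL N26497 (tt N25511 F264987) (tt N26952 (iv F266749)) (tt N27719 (iv F269957)) (tt N26497 F264988) (tt N25299 (iv D59267)) (tt N26944 (iv F266705)) (tt N25302 F264989) (tt N27327 (iv F268531)) (tt N25310 F264990) (tt N27458 (iv F269059)))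
theorem Q26499 : ∀ i, i < 26499 → P i := stepQ 26498 Q26498 (allL N26498 (tt N26918 (iv F266572)) (tt N27720 D60490) (tt N25300 (iv D59268)) (tt N26876 (iv F266322)) (tt N27721 D60491) (tt N25303 F264991) (tt N27461 (iv F269074)) (tt N27689 (iv F269871)) (tt N27346 (iv F268611)) (tt N25301 F264992))
theorem Q26500 : ∀ i, i < 26500 → P i := stepQ 26499 Q26499 (allL N26499 (tt N26919 (iv F266577)) (tt N27472 (iv F269105)) (tt N27721 (iv F269962)) (tt N26499 F264993) (tt N25300 (iv D59269)) (tt N27451 (iv F269025)) (tt N27458 F269060) (tt N27690 (iv F269875)) (tt N27288 (iv F268350)) (tt N25302 F264994))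
theorem Q26501 : ∀ i, i < 26501 → P i := stepQ 26500 Q26500 (allL N26500 (tt N27722 D60492) (tt N25301 (iv D59270)) (tt N27708 (iv F269926)) (tt N27578 (iv F269478)) (tt N27723 D60493) (tt N25305 F264995) (tt N27718 (iv F269954)) (tt N27691 (iv F269880)) (tt N25311 F264996) (tt N27720 (iv F269961)))
theorem Q26502 : ∀ i, i < 26502 → P i := stepQ 26501 Q26501 (allL N26501 (tt N27629 (iv F269682)) (tt N27723 (iv F269966)) (tt N25302 F264997) (tt N27724 D60494) (tt N25301 (iv D59271)) (tt N27441 (iv F268978)) (tt N27719 (iv F269958)) (tt N27692 (iv F269883)) (tt N25312 F264998) (tt N27721 (iv F269963)))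
theorem Q26503 : ∀ i, i < 26503 → P i := stepQ 26502 Q26502 (allL N26502 (tt N27725 D60495) (tt N25303 (iv D59272)) (tt N27710 (iv F269931)) (tt N26878 (iv F266337)) (tt N27726 D60496) (tt N27720 (iv F269960)) (tt N27001 (iv F267018)) (tt N27693 (iv F269885)) (tt N27668 (iv F269817)) (tt N25305 F264999))
theorem Q26504 : ∀ i, i < 26504 → P i := stepQ 26503 Q26503 (allL N26503 (tt N26921 (iv F266584)) (tt N27726 (iv F269970)) (tt N25304 F265000) (tt N27649 (iv F269749)) (tt N25303 (iv D59273)) (tt N27727 D60497) (tt N27002 (iv F267025)) (tt N27694 (iv F269888)) (tt N27669 (iv F269820)) (tt N25306 F265001))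
theorem Q26505 : ∀ i, i < 26505 → P i := stepQ 26504 Q26504 (allL N26504 (tt N26922 (iv F266588)) (tt N27559 (iv F269380)) (tt N27727 (iv F269972)) (tt N25327 F265002) (tt N27451 (iv F269024)) (tt N25304 (iv D59274)) (tt N27482 (iv F269144)) (tt N27695 (iv F269891)) (tt N27558 (iv F269379)) (tt N25307 F265003))
theorem Q26506 : ∀ i, i < 26506 → P i := stepQ 26505 Q26505 (allL N26505 (tt N25305 (iv D59275)) (tt N27630 (iv F269686)) (tt N27712 (iv F269935)) (tt N27580 (iv F269491)) (tt N27728 D60498) (tt N27722 (iv F269964)) (tt N27003 (iv F267031)) (tt N27696 (iv F269893)) (tt N25313 F265004) (tt N27725 (iv F269969)))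
theorem Q26507 : ∀ i, i < 26507 → P i := stepQ 26506 Q26506 (allL N26506 (tt N27728 (iv F269974)) (tt N25306 F265005) (tt N27713 (iv F269938)) (tt N27680 (iv F269845)) (tt N25305 (iv D59276)) (tt N27729 D60499) (tt N27004 (iv F267036)) (tt N27697 (iv F269896)) (tt N25314 F265006) (tt N27726 (iv F269971)))
theorem Q26508 : ∀ i, i < 26508 → P i := stepQ 26507 Q26507 (allL N26507 (tt N27632 (iv F269693)) (tt N27729 (iv F269976)) (tt N25307 F265007) (tt N27681 (iv F269848)) (tt N27441 (iv F268977)) (tt N25306 (iv D59277)) (tt N27562 (iv F269394)) (tt N27698 (iv F269899)) (tt N25315 F265008) (tt N27727 (iv F269973)))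
theorem Q26509 : ∀ i, i < 26509 → P i := stepQ 26508 Q26508 (allL N26508 (tt N26993 (iv F266970)) (tt N27730 D60500) (tt N25308 (iv D59278)) (tt N25316 F265009) (tt N27731 D60501) (tt N27007 (iv F267057)) (tt N27129 (iv F267692)) (tt N25309 F265010) (tt N27326 (iv F268525)) (tt N26990 (iv F266958)))
theorem Q26510 : ∀ i, i < 26510 → P i := stepQ 26509 Q26509 (allL N26509 (tt N26994 (iv F266977)) (tt N26937 (iv F266666)) (tt N27731 (iv F269980)) (tt N25322 F265011) (tt N25308 (iv D59279)) (tt N26932 (iv F266641)) (tt N27022 (iv F267122)) (tt N25310 F265012) (tt N27327 (iv F268532)) (tt N26977 (iv F266888)))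
theorem Q26511 : ∀ i, i < 26511 → P i := stepQ 26510 Q26510 (allL N26510 (tt N27732 D60502) (tt N25309 (iv D59280)) (tt N27714 (iv F269940)) (tt N25317 F265013) (tt N27733 D60503) (tt N27008 (iv F267065)) (tt N25311 F265014) (tt N27730 (iv F269979)) (tt N27718 (iv F269955)) (tt N27590 (iv F269544)))
theorem Q26512 : ∀ i, i < 26512 → P i := stepQ 26511 Q26511 (allL N26511 (tt N27248 (iv F268157)) (tt N27733 (iv F269984)) (tt N25310 F265015) (tt N26872 (iv F266298)) (tt N25309 (iv D59281)) (tt N26946 (iv F266718)) (tt N25312 F265016) (tt N27731 (iv F269981)) (tt N27719 (iv F269959)) (tt N27000 (iv F267015)))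
theorem Q26513 : ∀ i, i < 26513 → P i := stepQ 26512 Q26512 (allL N26512 (tt N25311 (iv D59282)) (tt N27633 (iv F269696)) (tt N27715 (iv F269945)) (tt N25318 F265017) (tt N27734 D60504) (tt N25313 F265018) (tt N27732 (iv F269983)) (tt N27700 (iv F269905)) (tt N27722 (iv F269965)) (tt N27673 (iv F269829)))
theorem Q26514 : ∀ i, i < 26514 → P i := stepQ 26513 Q26513 (allL N26513 (tt N27734 (iv F269986)) (tt N25312 F265019) (tt N27716 (iv F269949)) (tt N27270 (iv F268259)) (tt N25311 (iv D59283)) (tt N27440 (iv F268974)) (tt N27733 (iv F269985)) (tt N27701 (iv F269908)) (tt N27723 (iv F269967)) (tt N27286 (iv F268339)))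
theorem Q26515 : ∀ i, i < 26515 → P i := stepQ 26514 Q26514 (allL N26514 (tt N25314 F265020) (tt N27635 (iv F269702)) (tt N27717 (iv F269951)) (tt N27593 (iv F269552)) (tt N25313 (iv D59284)) (tt N27735 D60505) (tt N27010 (iv F267076)) (tt N27702 (iv F269911)) (tt N27728 (iv F269975)) (tt N27674 (iv F269831)))
theorem Q26516 : ∀ i, i < 26516 → P i := stepQ 26515 Q26515 (allL N26515 (tt N27735 (iv F269987)) (tt N25315 F265021) (tt N27540 F269323) (tt N27433 F268951) (tt N27440 (iv F268973)) (tt N25314 (iv D59285)) (tt N27543 (iv F269329)) (tt N27703 (iv F269913)) (tt N27729 (iv F269977)) (tt N27532 (iv F269296)))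
theorem Q26517 : ∀ i, i < 26517 → P i := stepQ 26516 Q26516 (allL N26516 (tt N27736 D60506) (tt N25316 (iv D59286)) (tt N25558 F265022) (tt N27730 (iv F269978)) (tt N26868 (iv F266272)) (tt N27013 (iv F267086)) (tt N27132 (iv F267705)) (tt N25317 F265023) (tt N27149 (iv F267774)) (tt N27366 (iv F268691)))
theorem Q26518 : ∀ i, i < 26518 → P i := stepQ 26517 Q26517 (allL N26517 (tt N25317 (iv D59287)) (tt N27249 (iv F268164)) (tt N25559 F265024) (tt N27732 (iv F269982)) (tt N26875 (iv F266319)) (tt N27015 (iv F267093)) (tt N25318 F265025) (tt N27736 (iv F269989)) (tt N27585 (iv F269515)) (tt N27675 (iv F269836)))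
theorem Q26519 : ∀ i, i < 26519 → P i := stepQ 26518 Q26518 (allL N26518 (tt N25320 F265026) (tt N25509 F265027) (tt N26850 (iv F266152)) (tt N27390 (iv F268790)) (tt N25319 (iv D59288)) (tt N26849 (iv F266146)) (tt N26900 (iv F266476)) (tt N25321 F265028) (tt N26518 F265029) (tt N25465 F265030))
theorem Q26520 : ∀ i, i < 26520 → P i := stepQ 26519 Q26519 (allL N26519 (tt N26905 (iv F266504)) (tt N27088 (iv F267493)) (tt N26860 (iv F266218)) (tt N27695 (iv F269890)) (tt N26519 F265031) (tt N25323 (iv D59289)) (tt N27737 D60507) (tt N25327 F265032) (tt N26519 F265033) (tt N25324 F265034))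
theorem Q26521 : ∀ i, i < 26521 → P i := stepQ 26520 Q26520 (allL N26520 (tt N27637 (iv F269706)) (tt N27307 (iv F268432)) (tt N26857 (iv F266197)) (tt N27699 (iv F269901)) (tt N26520 F265035) (tt N26820 (iv F265997)) (tt N25324 (iv D59290)) (tt N27387 (iv F268774)) (tt N25325 F265036) (tt N27737 (iv F269992)))
theorem Q26522 : ∀ i, i < 26522 → P i := stepQ 26521 Q26521 (allL N26521 (tt N27738 D60508) (tt N25328 (iv D59291)) (tt N25362 F265037) (tt N27204 (iv F268001)) (tt N25360 F265038) (tt N25340 F265039) (tt N27030 (iv F267177)) (tt N25352 F265040) (tt N25431 F265041) (tt N25333 F265042))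
theorem Q26523 : ∀ i, i < 26523 → P i := stepQ 26522 Q26522 (allL N26522 (tt N27739 D60509) (tt N25329 (iv D59292)) (tt N25360 F265043) (tt N27196 (iv F267961)) (tt N25362 F265044) (tt N25339 F265045) (tt N27074 (iv F267415)) (tt N25333 F265046) (tt N25410 F265047) (tt N25352 F265048))
theorem Q26524 : ∀ i, i < 26524 → P i := stepQ 26523 Q26523 (allL N26523 (tt N27740 D60510) (tt N25330 (iv D59293)) (tt N27168 (iv F267855)) (tt N25333 F265049) (tt N27741 D60511) (tt N27160 (iv F267824)) (tt N27033 (iv F267195)) (tt N27196 (iv F267964)) (tt N27257 (iv F268201)) (tt N27204 (iv F268004)))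
theorem Q26525 : ∀ i, i < 26525 → P i := stepQ 26524 Q26524 (allL N26524 (tt N25349 F265050) (tt N27741 (iv F270009)) (tt N25331 F265051) (tt N25364 F265052) (tt N25330 (iv D59294)) (tt N27742 D60512) (tt N27034 (iv F267202)) (tt N26774 (iv F265715)) (tt N27258 (iv F268206)) (tt N27205 (iv F268009)))
theorem Q26526 : ∀ i, i < 26526 → P i := stepQ 26525 Q26525 (allL N26525 (tt N25350 F265053) (tt N27114 (iv F267620)) (tt N27742 (iv F270012)) (tt N25332 F265054) (tt N27162 (iv F267837)) (tt N25331 (iv D59295)) (tt N27113 (iv F267615)) (tt N26759 (iv F265611)) (tt N27259 (iv F268210)) (tt N27206 (iv F268016)))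
theorem Q26527 : ∀ i, i < 26527 → P i := stepQ 26526 Q26526 (allL N26526 (tt N25333 (iv D59296)) (tt N25353 F265055) (tt N27572 (iv F269446)) (tt N27740 (iv F270008)) (tt N25366 F265056) (tt N27571 (iv F269441)) (tt N27037 (iv F267220)) (tt N27739 (iv F270004)) (tt N25411 F265057) (tt N27738 (iv F269999)))
theorem Q26528 : ∀ i, i < 26528 → P i := stepQ 26527 Q26527 (allL N26527 (tt N27038 (iv F267222)) (tt N27150 (iv F267777)) (tt N27743 D60513) (tt N25334 (iv D59297)) (tt N27744 D60514) (tt N26863 (iv F266240)) (tt N25425 F265058) (tt N27039 (iv F267233)) (tt N25343 F265059) (tt N25335 F265060))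
theorem Q26529 : ∀ i, i < 26529 → P i := stepQ 26528 Q26528 (allL N26528 (tt N27197 (iv F267966)) (tt N27745 D60515) (tt N25335 (iv D59298)) (tt N27254 (iv F268187)) (tt N27746 D60516) (tt N27195 (iv F267957)) (tt N27049 (iv F267288)) (tt N27158 (iv F267814)) (tt N25336 F265061) (tt N27743 (iv F270016)))
theorem Q26530 : ∀ i, i < 26530 → P i := stepQ 26529 Q26529 (allL N26529 (tt N27198 (iv F267971)) (tt N27152 (iv F267789)) (tt N27746 (iv F270022)) (tt N26529 F265062) (tt N25335 (iv D59299)) (tt N27747 D60517) (tt N27050 (iv F267294)) (tt N27159 (iv F267820)) (tt N25337 F265063) (tt N27744 (iv F270020)))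
theorem Q26531 : ∀ i, i < 26531 → P i := stepQ 26530 Q26530 (allL N26530 (tt N27748 D60518) (tt N25336 (iv D59300)) (tt N27153 (iv F267794)) (tt N25339 F265064) (tt N27749 D60519) (tt N27196 (iv F267962)) (tt N27051 (iv F267299)) (tt N27160 (iv F267826)) (tt N27745 (iv F270021)) (tt N25348 F265065))
theorem Q26532 : ∀ i, i < 26532 → P i := stepQ 26531 Q26531 (allL N26531 (tt N27205 (iv F268005)) (tt N27749 (iv F270028)) (tt N25337 F265066) (tt N25374 F265067) (tt N25336 (iv D59301)) (tt N27750 D60520) (tt N27052 (iv F267303)) (tt N27161 (iv F267832)) (tt N27746 (iv F270023)) (tt N25349 F265068))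
theorem Q26533 : ∀ i, i < 26533 → P i := stepQ 26532 Q26532 (allL N26532 (tt N27206 (iv F268010)) (tt N27105 (iv F267579)) (tt N27750 (iv F270031)) (tt N25338 F265069) (tt N26759 (iv F265608)) (tt N25337 (iv D59302)) (tt N27124 (iv F267661)) (tt N27162 (iv F267839)) (tt N27747 (iv F270025)) (tt N25350 F265070))
theorem Q26534 : ∀ i, i < 26534 → P i := stepQ 26533 Q26533 (allL N26533 (tt N25339 (iv D59303)) (tt N27738 (iv F269993)) (tt N27570 (iv F269432)) (tt N27748 (iv F270026)) (tt N25376 F265071) (tt N27739 (iv F270003)) (tt N27058 (iv F267333)) (tt N27571 (iv F269442)) (tt N27594 (iv F269558)) (tt N25353 F265072))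
theorem Q26535 : ∀ i, i < 26535 → P i := stepQ 26534 Q26534 (allL N26534 (tt N25340 (iv D59304)) (tt N27739 (iv F270000)) (tt N26768 (iv F265671)) (tt N27207 (iv F268018)) (tt N25386 F265073) (tt N27738 (iv F269996)) (tt N27577 (iv F269475)) (tt N25353 F265074) (tt N25432 F265075) (tt N27571 (iv F269444)))
theorem Q26536 : ∀ i, i < 26536 → P i := stepQ 26535 Q26535 (allL N26535 (tt N27039 (iv F267229)) (tt N27182 (iv F267903)) (tt N27751 D60521) (tt N25341 (iv D59305)) (tt N27752 D60522) (tt N25343 F265076) (tt N25417 F265077) (tt N27038 (iv F267226)) (tt N26863 (iv F266243)) (tt N25342 F265078))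
theorem Q26537 : ∀ i, i < 26537 → P i := stepQ 26536 Q26536 (allL N26536 (tt N27158 (iv F267810)) (tt N27753 D60523) (tt N25342 (iv D59306)) (tt N25438 F265079) (tt N27754 D60524) (tt N25344 F265080) (tt N27078 (iv F267438)) (tt N27197 (iv F267969)) (tt N25346 F265081) (tt N27751 (iv F270037)))
theorem Q26538 : ∀ i, i < 26538 → P i := stepQ 26537 Q26537 (allL N26537 (tt N27159 (iv F267816)) (tt N27184 (iv F267913)) (tt N27754 (iv F270044)) (tt N26537 F265082) (tt N25342 (iv D59307)) (tt N27755 D60525) (tt N27079 (iv F267445)) (tt N27198 (iv F267974)) (tt N25347 F265083) (tt N27752 (iv F270040)))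
theorem Q26539 : ∀ i, i < 26539 → P i := stepQ 26538 Q26538 (allL N26538 (tt N27040 (iv F267236)) (tt N27756 D60526) (tt N25343 (iv D59308)) (tt N25430 F265084) (tt N27757 D60527) (tt N27751 (iv F270035)) (tt N25427 F265085) (tt N27199 (iv F267978)) (tt N27743 (iv F270015)) (tt N25344 F265086))
theorem Q26540 : ∀ i, i < 26540 → P i := stepQ 26539 Q26539 (allL N26539 (tt N27041 (iv F267240)) (tt N27186 (iv F267923)) (tt N27757 (iv F270052)) (tt N25355 F265087) (tt N25343 (iv D59309)) (tt N27758 D60528) (tt N25428 F265088) (tt N27200 (iv F267983)) (tt N27744 (iv F270019)) (tt N25345 F265089))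
theorem Q26541 : ∀ i, i < 26541 → P i := stepQ 26540 Q26540 (allL N26540 (tt N27759 D60529) (tt N25344 (iv D59310)) (tt N27187 (iv F267928)) (tt N25440 F265090) (tt N27760 D60530) (tt N27753 (iv F270042)) (tt N27064 (iv F267366)) (tt N27201 (iv F267988)) (tt N25348 F265091) (tt N27756 (iv F270051)))
theorem Q26542 : ∀ i, i < 26542 → P i := stepQ 26541 Q26541 (allL N26541 (tt N27258 (iv F268202)) (tt N27760 (iv F270059)) (tt N25345 F265092) (tt N27305 (iv F268422)) (tt N25344 (iv D59311)) (tt N27761 D60531) (tt N27065 (iv F267374)) (tt N27202 (iv F267993)) (tt N25349 F265093) (tt N27757 (iv F270054)))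
theorem Q26543 : ∀ i, i < 26543 → P i := stepQ 26542 Q26542 (allL N26542 (tt N27259 (iv F268207)) (tt N27125 (iv F267665)) (tt N27761 (iv F270061)) (tt N25356 F265094) (tt N27755 (iv F270047)) (tt N25345 (iv D59312)) (tt N27342 (iv F268596)) (tt N27203 (iv F267998)) (tt N25350 F265095) (tt N27758 (iv F270056)))
theorem Q26544 : ∀ i, i < 26544 → P i := stepQ 26543 Q26543 (allL N26543 (tt N27762 D60532) (tt N25346 (iv D59313)) (tt N27189 (iv F267935)) (tt N25352 F265096) (tt N27763 D60533) (tt N25348 F265097) (tt N27080 (iv F267450)) (tt N27204 (iv F268003)) (tt N27753 (iv F270043)) (tt N27196 (iv F267965)))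
theorem Q26545 : ∀ i, i < 26545 → P i := stepQ 26544 Q26544 (allL N26544 (tt N27161 (iv F267828)) (tt N27763 (iv F270065)) (tt N25347 F265098) (tt N26765 (iv F265653)) (tt N25346 (iv D59314)) (tt N27764 D60534) (tt N27081 (iv F267455)) (tt N27205 (iv F268008)) (tt N27754 (iv F270045)) (tt N26774 (iv F265716)))
theorem Q26546 : ∀ i, i < 26546 → P i := stepQ 26545 Q26545 (allL N26545 (tt N27162 (iv F267834)) (tt N27124 (iv F267658)) (tt N27764 (iv F270066)) (tt N25354 F265099) (tt N25350 F265100) (tt N25347 (iv D59315)) (tt N27105 (iv F267582)) (tt N27206 (iv F268015)) (tt N27755 (iv F270048)) (tt N26759 (iv F265612)))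
theorem Q26547 : ∀ i, i < 26547 → P i := stepQ 26546 Q26546 (allL N26546 (tt N25348 (iv D59316)) (tt N27740 (iv F270007)) (tt N27191 (iv F267941)) (tt N25353 F265101) (tt N27765 D60535) (tt N27762 (iv F270064)) (tt N27066 (iv F267379)) (tt N27207 (iv F268020)) (tt N27759 (iv F270058)) (tt N27748 (iv F270027)))
theorem Q26548 : ∀ i, i < 26548 → P i := stepQ 26547 Q26547 (allL N26547 (tt N27765 (iv F270068)) (tt N25349 F265102) (tt N27192 (iv F267945)) (tt N25403 F265103) (tt N25348 (iv D59317)) (tt N27766 D60536) (tt N27067 (iv F267382)) (tt N27208 (iv F268025)) (tt N27760 (iv F270060)) (tt N27749 (iv F270030)))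
theorem Q26549 : ∀ i, i < 26549 → P i := stepQ 26548 Q26548 (allL N26548 (tt N27742 (iv F270011)) (tt N27766 (iv F270070)) (tt N25350 F265104) (tt N25404 F265105) (tt N27764 (iv F270067)) (tt N25349 (iv D59318)) (tt N27767 D60537) (tt N27209 (iv F268029)) (tt N27761 (iv F270062)) (tt N27750 (iv F270033)))
theorem Q26550 : ∀ i, i < 26550 → P i := stepQ 26549 Q26549 (allL N26549 (tt N27113 (iv F267611)) (tt N26759 (iv F265607)) (tt N27767 (iv F270072)) (tt N25351 F265106) (tt N27105 (iv F267580)) (tt N26775 (iv F265720)) (tt N25350 (iv D59319)) (tt N27114 (iv F267624)) (tt N27342 (iv F268597)) (tt N27124 (iv F267663)))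
theorem Q26551 : ∀ i, i < 26551 → P i := stepQ 26550 Q26550 (allL N26550 (tt N25352 (iv D59320)) (tt N27571 (iv F269438)) (tt N25366 F265107) (tt N27762 (iv F270063)) (tt N27572 (iv F269447)) (tt N25353 F265108) (tt N27082 (iv F267458)) (tt N27738 (iv F269997)) (tt N25444 F265109) (tt N27739 (iv F270006)))
theorem Q26552 : ∀ i, i < 26552 → P i := stepQ 26551 Q26551 (allL N26551 (tt N27042 (iv F267244)) (tt N27126 (iv F267670)) (tt N27088 (iv F267494)) (tt N27758 (iv F270055)) (tt N26551 F265110) (tt N25355 (iv D59321)) (tt N27323 (iv F268509)) (tt N27240 (iv F268115)) (tt N26551 F265111) (tt N25356 F265112))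
theorem Q26553 : ∀ i, i < 26553 → P i := stepQ 26552 Q26552 (allL N26552 (tt N25371 F265113) (tt N27768 D60538) (tt N25357 (iv D59322)) (tt N27610 (iv F269610)) (tt N27769 D60539) (tt N25529 F265114) (tt N27096 (iv F267540)) (tt N25513 F265115) (tt N25358 F265116) (tt N26907 (iv F266521)))
theorem Q26554 : ∀ i, i < 26554 → P i := stepQ 26553 Q26553 (allL N26553 (tt N25372 F265117) (tt N27131 (iv F267699)) (tt N27769 (iv F270078)) (tt N26553 F265118) (tt N25357 (iv D59323)) (tt N26888 (iv F266400)) (tt N27097 (iv F267545)) (tt N25514 F265119) (tt N25359 F265120) (tt N26908 (iv F266527)))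
theorem Q26555 : ∀ i, i < 26555 → P i := stepQ 26554 Q26554 (allL N26554 (tt N27770 D60540) (tt N25358 (iv D59324)) (tt N27155 (iv F267801)) (tt N25360 F265121) (tt N27771 D60541) (tt N26763 (iv F265639)) (tt N27099 (iv F267557)) (tt N26764 (iv F265648)) (tt N27768 (iv F270076)) (tt N25363 F265122))
theorem Q26556 : ∀ i, i < 26556 → P i := stepQ 26555 Q26555 (allL N26555 (tt N25374 F265123) (tt N27771 (iv F270084)) (tt N25359 F265124) (tt N27205 (iv F268007)) (tt N25358 (iv D59325)) (tt N27224 (iv F268074)) (tt N27100 (iv F267561)) (tt N26765 (iv F265655)) (tt N27769 (iv F270080)) (tt N25364 F265125))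
theorem Q26557 : ∀ i, i < 26557 → P i := stepQ 26556 Q26556 (allL N26556 (tt N25360 (iv D59326)) (tt N25376 F265126) (tt N27739 (iv F270001)) (tt N27770 (iv F270082)) (tt N27738 (iv F269995)) (tt N27570 (iv F269434)) (tt N27104 (iv F267576)) (tt N27572 (iv F269449)) (tt N27621 (iv F269658)) (tt N25366 F265127))
theorem Q26558 : ∀ i, i < 26558 → P i := stepQ 26557 Q26557 (allL N26557 (tt N27772 D60542) (tt N25361 (iv D59327)) (tt N27030 (iv F267175)) (tt N26770 (iv F265688)) (tt N27074 (iv F267414)) (tt N27581 (iv F269496)) (tt N25362 F265128) (tt N27106 (iv F267586)) (tt N25454 F265129) (tt N27024 (iv F267138)))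
theorem Q26559 : ∀ i, i < 26559 → P i := stepQ 26558 Q26558 (allL N26558 (tt N25362 (iv D59328)) (tt N25386 F265130) (tt N27738 (iv F269994)) (tt N26772 (iv F265703)) (tt N27739 (iv F270002)) (tt N26768 (iv F265674)) (tt N27772 (iv F270087)) (tt N25366 F265131) (tt N25457 F265132) (tt N27572 (iv F269451)))
theorem Q26560 : ∀ i, i < 26560 → P i := stepQ 26559 Q26559 (allL N26559 (tt N25363 (iv D59329)) (tt N25402 F265133) (tt N27193 (iv F267947)) (tt N25366 F265134) (tt N27773 D60543) (tt N26767 (iv F265667)) (tt N27118 (iv F267641)) (tt N26772 (iv F265705)) (tt N26987 (iv F266941)) (tt N27770 (iv F270083)))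
theorem Q26561 : ∀ i, i < 26561 → P i := stepQ 26560 Q26560 (allL N26560 (tt N27773 (iv F270089)) (tt N25364 F265135) (tt N27194 (iv F267952)) (tt N27741 (iv F270010)) (tt N25363 (iv D59330)) (tt N27774 D60544) (tt N27119 (iv F267643)) (tt N26773 (iv F265709)) (tt N26988 (iv F266945)) (tt N27771 (iv F270085)))
theorem Q26562 : ∀ i, i < 26562 → P i := stepQ 26561 Q26561 (allL N26561 (tt N25404 F265136) (tt N27774 (iv F270091)) (tt N25365 F265137) (tt N27742 (iv F270013)) (tt N26752 (iv F265563)) (tt N25364 (iv D59331)) (tt N27169 (iv F267861)) (tt N26757 (iv F265599)) (tt N26824 (iv F266018)) (tt N27224 (iv F268076)))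
theorem Q26563 : ∀ i, i < 26563 → P i := stepQ 26562 Q26562 (allL N26562 (tt N27775 D60545) (tt N25367 (iv D59332)) (tt N25373 F265138) (tt N26761 (iv F265621)) (tt N27776 D60546) (tt N27060 (iv F267346)) (tt N27160 (iv F267825)) (tt N27575 (iv F269464)) (tt N27272 (iv F268272)) (tt N25392 F265139))
theorem Q26564 : ∀ i, i < 26564 → P i := stepQ 26563 Q26563 (allL N26563 (tt N27081 (iv F267452)) (tt N27776 (iv F270094)) (tt N25368 F265140) (tt N27582 (iv F269502)) (tt N25367 (iv D59333)) (tt N27180 (iv F267895)) (tt N27161 (iv F267831)) (tt N27576 (iv F269469)) (tt N27273 (iv F268276)) (tt N25393 F265141))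
theorem Q26565 : ∀ i, i < 26565 → P i := stepQ 26564 Q26564 (allL N26564 (tt N26907 (iv F266517)) (tt N27777 D60547) (tt N25370 (iv D59334)) (tt N27689 (iv F269869)) (tt N27778 D60548) (tt N26791 (iv F265823)) (tt N27163 (iv F267841)) (tt N26876 (iv F266325)) (tt N25395 F265142) (tt N25371 F265143))
theorem Q26566 : ∀ i, i < 26566 → P i := stepQ 26565 Q26565 (allL N26565 (tt N26908 (iv F266522)) (tt N27264 (iv F268228)) (tt N27778 (iv F270099)) (tt N26565 F265144) (tt N25370 (iv D59335)) (tt N26929 (iv F266623)) (tt N27164 (iv F267845)) (tt N26877 (iv F266333)) (tt N25396 F265145) (tt N25372 F265146))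
theorem Q26567 : ∀ i, i < 26567 → P i := stepQ 26566 Q26566 (allL N26566 (tt N27779 D60549) (tt N25371 (iv D59336)) (tt N27272 (iv F268269)) (tt N27691 (iv F269878)) (tt N27780 D60550) (tt N26814 (iv F265961)) (tt N27165 (iv F267848)) (tt N27578 (iv F269481)) (tt N25373 F265147) (tt N27777 (iv F270098)))
theorem Q26568 : ∀ i, i < 26568 → P i := stepQ 26567 Q26567 (allL N26567 (tt N27769 (iv F270077)) (tt N27780 (iv F270103)) (tt N25372 F265148) (tt N27781 D60551) (tt N25371 (iv D59337)) (tt N26971 (iv F266852)) (tt N27166 (iv F267851)) (tt N27579 (iv F269487)) (tt N25374 F265149) (tt N27778 (iv F270101)))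
theorem Q26569 : ∀ i, i < 26569 → P i := stepQ 26568 Q26568 (allL N26568 (tt N25373 (iv D59338)) (tt N27770 (iv F270081)) (tt N27775 (iv F270092)) (tt N25376 F265150) (tt N27782 D60552) (tt N27574 (iv F269458)) (tt N27170 (iv F267864)) (tt N27583 (iv F269508)) (tt N27779 (iv F270102)) (tt N25402 F265151))
theorem Q26570 : ∀ i, i < 26570 → P i := stepQ 26569 Q26569 (allL N26569 (tt N27782 (iv F270106)) (tt N25374 F265152) (tt N27776 (iv F270095)) (tt N27749 (iv F270029)) (tt N25373 (iv D59339)) (tt N27783 D60553) (tt N27171 (iv F267867)) (tt N27584 (iv F269511)) (tt N27780 (iv F270104)) (tt N25403 F265153))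
theorem Q26571 : ∀ i, i < 26571 → P i := stepQ 26570 Q26570 (allL N26570 (tt N27224 (iv F268072)) (tt N27783 (iv F270108)) (tt N25375 F265154) (tt N27750 (iv F270032)) (tt N26754 (iv F265578)) (tt N25374 (iv D59340)) (tt N27116 (iv F267630)) (tt N27174 (iv F267879)) (tt N26971 (iv F266854)) (tt N25404 F265155))
theorem Q26572 : ∀ i, i < 26572 → P i := stepQ 26571 Q26571 (allL N26571 (tt N27784 D60554) (tt N25377 (iv D59341)) (tt N27035 (iv F267205)) (tt N25381 F265156) (tt N27785 D60555) (tt N27024 (iv F267135)) (tt N25384 F265157) (tt N27062 (iv F267357)) (tt N26895 (iv F266448)) (tt N27581 (iv F269499)))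
theorem Q26573 : ∀ i, i < 26573 → P i := stepQ 26572 Q26572 (allL N26572 (tt N26771 (iv F265693)) (tt N27785 (iv F270112)) (tt N25378 F265158) (tt N25393 F265159) (tt N25377 (iv D59342)) (tt N27070 (iv F267397)) (tt N25385 F265160) (tt N27063 (iv F267363)) (tt N26896 (iv F266455)) (tt N27582 (iv F269505)))
theorem Q26574 : ∀ i, i < 26574 → P i := stepQ 26573 Q26573 (allL N26573 (tt N27786 D60556) (tt N25379 (iv D59343)) (tt N27173 (iv F267871)) (tt N27024 (iv F267133)) (tt N27787 D60557) (tt N25381 F265161) (tt N26764 (iv F265647)) (tt N27179 (iv F267892)) (tt N25515 F265162) (tt N26770 (iv F265692)))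
theorem Q26575 : ∀ i, i < 26575 → P i := stepQ 26574 Q26574 (allL N26574 (tt N27582 (iv F269500)) (tt N27787 (iv F270117)) (tt N25380 F265163) (tt N27081 (iv F267454)) (tt N25379 (iv D59344)) (tt N27576 (iv F269468)) (tt N26765 (iv F265654)) (tt N27180 (iv F267896)) (tt N25516 F265164) (tt N26771 (iv F265700)))
theorem Q26576 : ∀ i, i < 26576 → P i := stepQ 26575 Q26575 (allL N26575 (tt N25381 (iv D59345)) (tt N27772 (iv F270086)) (tt N27573 (iv F269452)) (tt N27784 (iv F270110)) (tt N27577 (iv F269474)) (tt N27786 (iv F270115)) (tt N25386 F265165) (tt N27181 (iv F267900)) (tt N25517 F265166) (tt N27585 (iv F269516)))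
theorem Q26577 : ∀ i, i < 26577 → P i := stepQ 26576 Q26576 (allL N26576 (tt N27788 D60558) (tt N25382 (iv D59346)) (tt N25384 F265167) (tt N27060 (iv F267344)) (tt N27789 D60559) (tt N26761 (iv F265623)) (tt N27035 (iv F267208)) (tt N25392 F265168) (tt N26873 (iv F266307)) (tt N27575 (iv F269466)))
theorem Q26578 : ∀ i, i < 26578 → P i := stepQ 26577 Q26577 (allL N26577 (tt N27070 (iv F267394)) (tt N27789 (iv F270121)) (tt N25383 F265169) (tt N27063 (iv F267360)) (tt N25382 (iv D59347)) (tt N26771 (iv F265696)) (tt N27036 (iv F267215)) (tt N25393 F265170) (tt N26874 (iv F266315)) (tt N27576 (iv F269471)))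
theorem Q26579 : ∀ i, i < 26579 → P i := stepQ 26578 Q26578 (allL N26578 (tt N25384 (iv D59348)) (tt N26772 (iv F265701)) (tt N27788 (iv F270119)) (tt N25386 F265171) (tt N27790 D60560) (tt N26762 (iv F265631)) (tt N27784 (iv F270111)) (tt N25402 F265172) (tt N26897 (iv F266461)) (tt N27583 (iv F269509)))
theorem Q26580 : ∀ i, i < 26580 → P i := stepQ 26579 Q26579 (allL N26579 (tt N27790 (iv F270124)) (tt N25385 F265173) (tt N27789 (iv F270122)) (tt N27208 (iv F268023)) (tt N25384 (iv D59349)) (tt N27234 (iv F268097)) (tt N27785 (iv F270114)) (tt N25403 F265174) (tt N26898 (iv F266466)) (tt N27584 (iv F269512)))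
theorem Q26581 : ∀ i, i < 26581 → P i := stepQ 26580 Q26580 (allL N26580 (tt N27791 D60561) (tt N25387 (iv D59350)) (tt N27109 (iv F267597)) (tt N27074 (iv F267413)) (tt N27792 D60562) (tt N27075 (iv F267419)) (tt N27196 (iv F267963)) (tt N27069 (iv F267392)) (tt N27281 (iv F268322)) (tt N27080 (iv F267451)))
theorem Q26582 : ∀ i, i < 26582 → P i := stepQ 26581 Q26581 (allL N26581 (tt N25393 F265175) (tt N27792 (iv F270127)) (tt N25388 F265176) (tt N26771 (iv F265695)) (tt N25387 (iv D59351)) (tt N27063 (iv F267361)) (tt N26774 (iv F265714)) (tt N27070 (iv F267399)) (tt N27282 (iv F268326)) (tt N27081 (iv F267456)))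
theorem Q26583 : ∀ i, i < 26583 → P i := stepQ 26582 Q26582 (allL N26582 (tt N27793 D60563) (tt N25389 (iv D59352)) (tt N25397 F265177) (tt N27289 (iv F268352)) (tt N27794 D60564) (tt N26868 (iv F266273)) (tt N27201 (iv F267987)) (tt N26873 (iv F266306)) (tt N25392 F265178) (tt N27292 (iv F268369)))
theorem Q26584 : ∀ i, i < 26584 → P i := stepQ 26583 Q26583 (allL N26583 (tt N27282 (iv F268323)) (tt N27794 (iv F270130)) (tt N25390 F265179) (tt N26996 (iv F266992)) (tt N25389 (iv D59353)) (tt N27014 (iv F267089)) (tt N27202 (iv F267992)) (tt N26874 (iv F266314)) (tt N25393 F265180) (tt N27293 (iv F268372)))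
theorem Q26585 : ∀ i, i < 26585 → P i := stepQ 26584 Q26584 (allL N26584 (tt N27795 D60565) (tt N25391 (iv D59354)) (tt N25400 F265181) (tt N27575 (iv F269462)) (tt N27149 (iv F267771)) (tt N25392 F265182) (tt N27046 (iv F267269)) (tt N26761 (iv F265625)) (tt N26868 (iv F266275)) (tt N27060 (iv F267350)))
theorem Q26586 : ∀ i, i < 26586 → P i := stepQ 26585 Q26585 (allL N26585 (tt N25392 (iv D59355)) (tt N27791 (iv F270126)) (tt N25402 F265183) (tt N27577 (iv F269473)) (tt N27796 D60566) (tt N27795 (iv F270134)) (tt N27207 (iv F268019)) (tt N27788 (iv F270120)) (tt N27793 (iv F270129)) (tt N27775 (iv F270093)))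
theorem Q26587 : ∀ i, i < 26587 → P i := stepQ 26586 Q26586 (allL N26586 (tt N27796 (iv F270135)) (tt N25393 F265184) (tt N25403 F265185) (tt N27785 (iv F270113)) (tt N25392 (iv D59356)) (tt N27797 D60567) (tt N27208 (iv F268024)) (tt N27789 (iv F270123)) (tt N27794 (iv F270132)) (tt N27776 (iv F270096)))
theorem Q26588 : ∀ i, i < 26588 → P i := stepQ 26587 Q26587 (allL N26587 (tt N27063 (iv F267358)) (tt N27797 (iv F270137)) (tt N25394 F265186) (tt N27070 (iv F267396)) (tt N26769 (iv F265681)) (tt N25393 (iv D59357)) (tt N27073 (iv F267410)) (tt N26771 (iv F265698)) (tt N27014 (iv F267091)) (tt N27180 (iv F267898)))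
theorem Q26589 : ∀ i, i < 26589 → P i := stepQ 26588 Q26588 (allL N26588 (tt N27798 D60568) (tt N25395 (iv D59358)) (tt N27292 (iv F268366)) (tt N25546 F265187) (tt N27799 D60569) (tt N26879 (iv F266344)) (tt N27215 (iv F268044)) (tt N26884 (iv F266379)) (tt N27777 (iv F270097)) (tt N25397 F265188))
theorem Q26590 : ∀ i, i < 26590 → P i := stepQ 26589 Q26589 (allL N26589 (tt N26941 (iv F266688)) (tt N27799 (iv F270141)) (tt N25396 F265189) (tt N27655 (iv F269771)) (tt N25395 (iv D59359)) (tt N27435 (iv F268956)) (tt N27216 (iv F268047)) (tt N26885 (iv F266386)) (tt N27778 (iv F270100)) (tt N25398 F265190))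
theorem Q26591 : ∀ i, i < 26591 → P i := stepQ 26590 Q26590 (allL N26590 (tt N25397 (iv D59360)) (tt N26987 (iv F266936)) (tt N27793 (iv F270128)) (tt N25547 F265191) (tt N27800 D60570) (tt N26890 (iv F266412)) (tt N27218 (iv F268052)) (tt N26897 (iv F266460)) (tt N25402 F265192) (tt N27798 (iv F270140)))
theorem Q26592 : ∀ i, i < 26592 → P i := stepQ 26591 Q26591 (allL N26591 (tt N27800 (iv F270143)) (tt N25398 F265193) (tt N27794 (iv F270131)) (tt N27688 (iv F269867)) (tt N25397 (iv D59361)) (tt N27537 (iv F269312)) (tt N27219 (iv F268055)) (tt N26898 (iv F266465)) (tt N25403 F265194) (tt N27799 (iv F270142)))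
theorem Q26593 : ∀ i, i < 26593 → P i := stepQ 26592 Q26592 (allL N26592 (tt N27801 D60571) (tt N25399 (iv D59362)) (tt N27046 (iv F267267)) (tt N25406 F265195) (tt N26763 (iv F265638)) (tt N27223 (iv F268070)) (tt N25400 F265196) (tt N26751 (iv F265558)) (tt N26889 (iv F266408)) (tt N26753 (iv F265575)))
theorem Q26594 : ∀ i, i < 26594 → P i := stepQ 26593 Q26593 (allL N26593 (tt N25400 (iv D59363)) (tt N26767 (iv F265664)) (tt N27795 (iv F270133)) (tt N25407 F265197) (tt N27802 D60572) (tt N25402 F265198) (tt N27801 (iv F270146)) (tt N26762 (iv F265633)) (tt N26890 (iv F266414)) (tt N27574 (iv F269460)))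
theorem Q26595 : ∀ i, i < 26595 → P i := stepQ 26594 Q26594 (allL N26594 (tt N27802 (iv F270147)) (tt N25401 F265199) (tt N27149 (iv F267770)) (tt N26751 (iv F265555)) (tt N25400 (iv D59364)) (tt N27232 (iv F268090)) (tt N26763 (iv F265640)) (tt N25406 F265200) (tt N25558 F265201) (tt N26755 (iv F265590)))
theorem Q26596 : ∀ i, i < 26596 → P i := stepQ 26595 Q26595 (allL N26595 (tt N25403 F265202) (tt N27773 (iv F270090)) (tt N27796 (iv F270136)) (tt N27765 (iv F270069)) (tt N25402 (iv D59365)) (tt N27803 D60573) (tt N27229 (iv F268085)) (tt N27790 (iv F270125)) (tt N27800 (iv F270144)) (tt N27782 (iv F270107)))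
theorem Q26597 : ∀ i, i < 26597 → P i := stepQ 26596 Q26596 (allL N26596 (tt N27803 (iv F270150)) (tt N25404 F265203) (tt N27797 (iv F270138)) (tt N27766 (iv F270071)) (tt N27232 (iv F268089)) (tt N25403 (iv D59366)) (tt N27804 D60574) (tt N27234 (iv F268099)) (tt N27537 (iv F269314)) (tt N27783 (iv F270109)))
theorem Q26598 : ∀ i, i < 26598 → P i := stepQ 26597 Q26597 (allL N26597 (tt N27169 (iv F267859)) (tt N27804 (iv F270151)) (tt N25405 F265204) (tt N27767 (iv F270073)) (tt N27098 (iv F267550)) (tt N27231 (iv F268088)) (tt N25404 (iv D59367)) (tt N27112 (iv F267609)) (tt N27488 (iv F269166)) (tt N27116 (iv F267631)))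
theorem Q26599 : ∀ i, i < 26599 → P i := stepQ 26598 Q26598 (allL N26598 (tt N25406 (iv D59368)) (tt N26758 (iv F265601)) (tt N27585 (iv F269513)) (tt N27801 (iv F270145)) (tt N26762 (iv F265630)) (tt N27233 (iv F268093)) (tt N25407 F265205) (tt N27802 (iv F270148)) (tt N25559 F265206) (tt N27573 (iv F269456)))
theorem Q26600 : ∀ i, i < 26600 → P i := stepQ 26599 Q26599 (allL N26599 (tt N25420 F265207) (tt N27805 D60575) (tt N25408 (iv D59369)) (tt N27263 (iv F268222)) (tt N27806 D60576) (tt N25409 F265208) (tt N27043 (iv F267252)) (tt N27078 (iv F267439)) (tt N27054 (iv F267317)) (tt N26869 (iv F266282)))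
theorem Q26601 : ∀ i, i < 26601 → P i := stepQ 26600 Q26600 (allL N26600 (tt N25421 F265209) (tt N27090 (iv F267505)) (tt N27806 (iv F270154)) (tt N26600 F265210) (tt N25408 (iv D59370)) (tt N25453 F265211) (tt N27044 (iv F267259)) (tt N27079 (iv F267446)) (tt N27055 (iv F267325)) (tt N26870 (iv F266290)))
theorem Q26602 : ∀ i, i < 26602 → P i := stepQ 26601 Q26601 (allL N26601 (tt N27807 D60577) (tt N25409 (iv D59371)) (tt N27091 (iv F267511)) (tt N27265 (iv F268234)) (tt N25454 F265212) (tt N27805 (iv F270152)) (tt N25410 F265213) (tt N27250 (iv F268172)) (tt N27074 (iv F267416)) (tt N27271 (iv F268268)))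
theorem Q26603 : ∀ i, i < 26603 → P i := stepQ 26602 Q26602 (allL N26602 (tt N25410 (iv D59372)) (tt N25432 F265214) (tt N27621 (iv F269654)) (tt N27268 (iv F268250)) (tt N25457 F265215) (tt N27594 (iv F269556)) (tt N27807 (iv F270158)) (tt N25411 F265216) (tt N27739 (iv F270005)) (tt N27275 (iv F268287)))
theorem Q26604 : ∀ i, i < 26604 → P i := stepQ 26603 Q26603 (allL N26603 (tt N25412 (iv D59373)) (tt N27279 (iv F268303)) (tt N27588 (iv F269527)) (tt N27276 (iv F268288)) (tt N25475 F265217) (tt N27275 (iv F268284)) (tt N27262 (iv F268219)) (tt N27280 (iv F268316)) (tt N25416 F265218) (tt N27594 (iv F269559)))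
theorem Q26605 : ∀ i, i < 26605 → P i := stepQ 26604 Q26604 (allL N26604 (tt N27808 D60578) (tt N25413 (iv D59374)) (tt N26878 (iv F266336)) (tt N27250 (iv F268169)) (tt N25480 F265219) (tt N27295 (iv F268375)) (tt N25414 F265220) (tt N27265 (iv F268237)) (tt N26862 (iv F266236)) (tt N25422 F265221))
theorem Q26606 : ∀ i, i < 26606 → P i := stepQ 26605 Q26605 (allL N26605 (tt N25414 (iv D59375)) (tt N27275 (iv F268280)) (tt N27589 (iv F269534)) (tt N27251 (iv F268175)) (tt N25484 F265222) (tt N27279 (iv F268306)) (tt N27808 (iv F270160)) (tt N25416 F265223) (tt N27280 (iv F268317)) (tt N25432 F265224))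
theorem Q26607 : ∀ i, i < 26607 → P i := stepQ 26606 Q26606 (allL N26606 (tt N25415 (iv D59376)) (tt N27280 (iv F268311)) (tt N25450 F265225) (tt N27252 (iv F268180)) (tt N27278 (iv F268297)) (tt N25416 F265226) (tt N27290 (iv F268360)) (tt N27279 (iv F268308)) (tt N27275 (iv F268286)) (tt N25444 F265227))
theorem Q26608 : ∀ i, i < 26608 → P i := stepQ 26607 Q26607 (allL N26607 (tt N27263 (iv F268221)) (tt N27809 D60579) (tt N25417 (iv D59377)) (tt N25420 F265228) (tt N27810 D60580) (tt N25418 F265229) (tt N27751 (iv F270036)) (tt N26869 (iv F266280)) (tt N26866 (iv F266262)) (tt N27078 (iv F267441)))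
theorem Q26609 : ∀ i, i < 26609 → P i := stepQ 26608 Q26608 (allL N26608 (tt N27264 (iv F268227)) (tt N27300 (iv F268394)) (tt N27810 (iv F270164)) (tt N26608 F265230) (tt N25417 (iv D59378)) (tt N27312 (iv F268457)) (tt N27752 (iv F270039)) (tt N26870 (iv F266288)) (tt N26867 (iv F266269)) (tt N27079 (iv F267448)))
theorem Q26610 : ∀ i, i < 26610 → P i := stepQ 26609 Q26609 (allL N26609 (tt N27811 D60581) (tt N25418 (iv D59379)) (tt N27301 (iv F268399)) (tt N25422 F265231) (tt N27313 (iv F268463)) (tt N27809 (iv F270163)) (tt N25429 F265232) (tt N27271 (iv F268266)) (tt N27289 (iv F268356)) (tt N27250 (iv F268173)))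
theorem Q26611 : ∀ i, i < 26611 → P i := stepQ 26610 Q26610 (allL N26610 (tt N27043 (iv F267250)) (tt N27812 D60582) (tt N25419 (iv D59380)) (tt N27751 (iv F270034)) (tt N27813 D60583) (tt N25430 F265233) (tt N25420 F265234) (tt N27049 (iv F267289)) (tt N27028 (iv F267165)) (tt N25438 F265235))
theorem Q26612 : ∀ i, i < 26612 → P i := stepQ 26611 Q26611 (allL N26611 (tt N27044 (iv F267255)) (tt N25453 F265236) (tt N27813 (iv F270171)) (tt N26611 F265237) (tt N25419 (iv D59381)) (tt N27090 (iv F267507)) (tt N25421 F265238) (tt N27050 (iv F267295)) (tt N27029 (iv F267173)) (tt N25439 F265239))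
theorem Q26613 : ∀ i, i < 26613 → P i := stepQ 26612 Q26612 (allL N26612 (tt N27814 D60584) (tt N25420 (iv D59382)) (tt N27578 (iv F269477)) (tt N27809 (iv F270162)) (tt N27815 D60585) (tt N25422 F265240) (tt N27812 (iv F270169)) (tt N27272 (iv F268271)) (tt N27575 (iv F269465)) (tt N27295 (iv F268378)))
theorem Q26614 : ∀ i, i < 26614 → P i := stepQ 26613 Q26613 (allL N26613 (tt N27806 (iv F270153)) (tt N27815 (iv F270175)) (tt N25421 F265241) (tt N27816 D60586) (tt N25420 (iv D59383)) (tt N25516 F265242) (tt N27813 (iv F270172)) (tt N27273 (iv F268275)) (tt N27576 (iv F269470)) (tt N27296 (iv F268383)))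
theorem Q26615 : ∀ i, i < 26615 → P i := stepQ 26614 Q26614 (allL N26614 (tt N25422 (iv D59384)) (tt N27807 (iv F270156)) (tt N27580 (iv F269490)) (tt N27811 (iv F270165)) (tt N25517 F265243) (tt N27814 (iv F270174)) (tt N25432 F265244) (tt N27274 (iv F268279)) (tt N27577 (iv F269476)) (tt N27808 (iv F270161)))
theorem Q26616 : ∀ i, i < 26616 → P i := stepQ 26615 Q26615 (allL N26615 (tt N26957 (iv F266774)) (tt N27817 D60587) (tt N25423 (iv D59385)) (tt N25455 F265245) (tt N27818 D60588) (tt N25424 F265246) (tt N27185 (iv F267919)) (tt N25435 F265247) (tt N27311 (iv F268452)) (tt N26893 (iv F266435)))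
theorem Q26617 : ∀ i, i < 26617 → P i := stepQ 26616 Q26616 (allL N26616 (tt N26958 (iv F266781)) (tt N25428 F265248) (tt N27818 (iv F270183)) (tt N25445 F265249) (tt N25423 (iv D59386)) (tt N26867 (iv F266267)) (tt N27186 (iv F267925)) (tt N25436 F265250) (tt N27312 (iv F268459)) (tt N26894 (iv F266443)))
theorem Q26618 : ∀ i, i < 26618 → P i := stepQ 26617 Q26617 (allL N26617 (tt N27819 D60589) (tt N25424 (iv D59387)) (tt N25429 F265251) (tt N26995 (iv F266986)) (tt N27289 (iv F268353)) (tt N27817 (iv F270181)) (tt N27301 (iv F268402)) (tt N25437 F265252) (tt N27313 (iv F268466)) (tt N27246 (iv F268150)))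
theorem Q26619 : ∀ i, i < 26619 → P i := stepQ 26618 Q26618 (allL N26618 (tt N27254 (iv F268186)) (tt N27820 D60590) (tt N25425 (iv D59388)) (tt N27197 (iv F267967)) (tt N27821 D60591) (tt N25426 F265253) (tt N27743 (iv F270014)) (tt N25438 F265254) (tt N25427 F265255) (tt N27049 (iv F267291)))
theorem Q26620 : ∀ i, i < 26620 → P i := stepQ 26619 Q26619 (allL N26619 (tt N27255 (iv F268191)) (tt N27312 (iv F268455)) (tt N27821 (iv F270190)) (tt N26619 F265256) (tt N25425 (iv D59389)) (tt N27300 (iv F268396)) (tt N27744 (iv F270018)) (tt N25439 F265257) (tt N25428 F265258) (tt N27050 (iv F267297)))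
theorem Q26621 : ∀ i, i < 26621 → P i := stepQ 26620 Q26620 (allL N26620 (tt N27822 D60592) (tt N25426 (iv D59390)) (tt N27313 (iv F268461)) (tt N27201 (iv F267986)) (tt N27301 (iv F268401)) (tt N27820 (iv F270187)) (tt N27289 (iv F268354)) (tt N25440 F265259) (tt N25429 F265260) (tt N27291 (iv F268365)))
theorem Q26622 : ∀ i, i < 26622 → P i := stepQ 26621 Q26621 (allL N26621 (tt N27823 D60593) (tt N25427 (iv D59391)) (tt N27817 (iv F270179)) (tt N25431 F265261) (tt N27824 D60594) (tt N25429 F265262) (tt N27756 (iv F270050)) (tt N25441 F265263) (tt N27820 (iv F270189)) (tt N27064 (iv F267369)))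
theorem Q26623 : ∀ i, i < 26623 → P i := stepQ 26622 Q26622 (allL N26622 (tt N27267 (iv F268243)) (tt N27824 (iv F270198)) (tt N25428 F265264) (tt N27616 (iv F269638)) (tt N25427 (iv D59392)) (tt N27317 (iv F268482)) (tt N27757 (iv F270053)) (tt N25442 F265265) (tt N27821 (iv F270192)) (tt N27065 (iv F267377)))
theorem Q26624 : ∀ i, i < 26624 → P i := stepQ 26623 Q26623 (allL N26623 (tt N25429 (iv D59393)) (tt N27268 (iv F268249)) (tt N27819 (iv F270185)) (tt N25432 F265266) (tt N27318 (iv F268487)) (tt N27823 (iv F270196)) (tt N27811 (iv F270166)) (tt N25443 F265267) (tt N27822 (iv F270194)) (tt N27251 (iv F268178)))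
theorem Q26625 : ∀ i, i < 26625 → P i := stepQ 26624 Q26624 (allL N26624 (tt N27825 D60595) (tt N25430 (iv D59394)) (tt N25454 F265268) (tt N27756 (iv F270049)) (tt N27091 (iv F267512)) (tt N27812 (iv F270168)) (tt N25431 F265269) (tt N27291 (iv F268364)) (tt N27030 (iv F267178)) (tt N25440 F265270))
theorem Q26626 : ∀ i, i < 26626 → P i := stepQ 26625 Q26625 (allL N26625 (tt N25431 (iv D59395)) (tt N27594 (iv F269553)) (tt N25457 F265271) (tt N27823 (iv F270195)) (tt N27621 (iv F269655)) (tt N25432 F265272) (tt N27825 (iv F270201)) (tt N25444 F265273) (tt N27738 (iv F269998)) (tt N27279 (iv F268310)))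
theorem Q26627 : ∀ i, i < 26627 → P i := stepQ 26626 Q26626 (allL N26626 (tt N25478 F265274) (tt N27826 D60596) (tt N25433 (iv D59396)) (tt N27461 (iv F269073)) (tt N27827 D60597) (tt N25434 F265275) (tt N26876 (iv F266324)) (tt N27311 (iv F268451)) (tt N25435 F265276) (tt N25452 F265277))
theorem Q26628 : ∀ i, i < 26628 → P i := stepQ 26627 Q26627 (allL N26627 (tt N25479 F265278) (tt N25439 F265279) (tt N27827 (iv F270208)) (tt N26627 F265280) (tt N25433 (iv D59397)) (tt N26870 (iv F266286)) (tt N26877 (iv F266332)) (tt N27312 (iv F268458)) (tt N25436 F265281) (tt N25453 F265282))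
theorem Q26629 : ∀ i, i < 26629 → P i := stepQ 26628 Q26628 (allL N26628 (tt N27828 D60598) (tt N25434 (iv D59398)) (tt N25440 F265283) (tt N27460 (iv F269066)) (tt N27271 (iv F268264)) (tt N27826 (iv F270204)) (tt N25449 F265284) (tt N27313 (iv F268465)) (tt N25437 F265285) (tt N25454 F265286))
theorem Q26630 : ∀ i, i < 26630 → P i := stepQ 26629 Q26629 (allL N26629 (tt N27829 D60599) (tt N25435 (iv D59399)) (tt N25441 F265287) (tt N25460 F265288) (tt N27830 D60600) (tt N25437 F265289) (tt N26884 (iv F266378)) (tt N27817 (iv F270182)) (tt N27826 (iv F270205)) (tt N26895 (iv F266449)))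
theorem Q26631 : ∀ i, i < 26631 → P i := stepQ 26630 Q26630 (allL N26630 (tt N26960 (iv F266795)) (tt N27830 (iv F270219)) (tt N25436 F265290) (tt N26946 (iv F266717)) (tt N25435 (iv D59400)) (tt N26872 (iv F266299)) (tt N26885 (iv F266385)) (tt N27818 (iv F270184)) (tt N27827 (iv F270209)) (tt N26896 (iv F266456)))
theorem Q26632 : ∀ i, i < 26632 → P i := stepQ 26631 Q26631 (allL N26631 (tt N25437 (iv D59401)) (tt N27675 (iv F269832)) (tt N25443 F265291) (tt N27591 (iv F269546)) (tt N27290 (iv F268359)) (tt N27829 (iv F270218)) (tt N27278 (iv F268299)) (tt N27819 (iv F270186)) (tt N27828 (iv F270214)) (tt N27249 (iv F268168)))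
theorem Q26633 : ∀ i, i < 26633 → P i := stepQ 26632 Q26632 (allL N26632 (tt N27831 D60601) (tt N25438 (iv D59402)) (tt N27826 (iv F270203)) (tt N27753 (iv F270041)) (tt N27832 D60602) (tt N25440 F265292) (tt N27295 (iv F268376)) (tt N27820 (iv F270188)) (tt N25441 F265293) (tt N27812 (iv F270170)))
theorem Q26634 : ∀ i, i < 26634 → P i := stepQ 26633 Q26633 (allL N26633 (tt N27261 (iv F268213)) (tt N27832 (iv F270223)) (tt N25439 F265294) (tt N27833 D60603) (tt N25438 (iv D59403)) (tt N27309 (iv F268442)) (tt N27296 (iv F268381)) (tt N27821 (iv F270191)) (tt N25442 F265295) (tt N27813 (iv F270173)))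
theorem Q26635 : ∀ i, i < 26635 → P i := stepQ 26634 Q26634 (allL N26634 (tt N25440 (iv D59404)) (tt N27262 (iv F268217)) (tt N27828 (iv F270212)) (tt N27759 (iv F270057)) (tt N27310 (iv F268445)) (tt N27831 (iv F270221)) (tt N27279 (iv F268307)) (tt N27822 (iv F270193)) (tt N25443 F265296) (tt N27825 (iv F270202)))
theorem Q26636 : ∀ i, i < 26636 → P i := stepQ 26635 Q26635 (allL N26635 (tt N25441 (iv D59405)) (tt N27269 (iv F268254)) (tt N27829 (iv F270216)) (tt N25444 F265297) (tt N27834 D60604) (tt N25443 F265298) (tt N27297 (iv F268385)) (tt N27823 (iv F270197)) (tt N27831 (iv F270222)) (tt N27252 (iv F268182)))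
theorem Q26637 : ∀ i, i < 26637 → P i := stepQ 26636 Q26636 (allL N26636 (tt N27834 (iv F270226)) (tt N25442 F265299) (tt N27830 (iv F270220)) (tt N27634 (iv F269700)) (tt N25441 (iv D59406)) (tt N27320 (iv F268495)) (tt N27298 (iv F268387)) (tt N27824 (iv F270199)) (tt N27832 (iv F270224)) (tt N27253 (iv F268185)))
theorem Q26638 : ∀ i, i < 26638 → P i := stepQ 26637 Q26637 (allL N26637 (tt N27835 D60605) (tt N25446 (iv D59407)) (tt N26817 (iv F265977)) (tt N25448 F265300) (tt N27836 D60606) (tt N27586 (iv F269518)) (tt N27304 (iv F268417)) (tt N26829 (iv F266047)) (tt N27522 (iv F269267)) (tt N27615 (iv F269635)))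
theorem Q26639 : ∀ i, i < 26639 → P i := stepQ 26638 Q26638 (allL N26638 (tt N25474 F265301) (tt N27836 (iv F270229)) (tt N25447 F265302) (tt N27065 (iv F267372)) (tt N25446 (iv D59408)) (tt N27345 (iv F268605)) (tt N27305 (iv F268423)) (tt N26830 (iv F266053)) (tt N27220 (iv F268061)) (tt N27616 (iv F269640)))
theorem Q26640 : ∀ i, i < 26640 → P i := stepQ 26639 Q26639 (allL N26639 (tt N25448 (iv D59409)) (tt N25475 F265303) (tt N27275 (iv F268281)) (tt N27835 (iv F270228)) (tt N27279 (iv F268305)) (tt N27588 (iv F269529)) (tt N27310 (iv F268446)) (tt N27278 (iv F268300)) (tt N25450 F265304) (tt N27621 (iv F269659)))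
theorem Q26641 : ∀ i, i < 26641 → P i := stepQ 26640 Q26640 (allL N26640 (tt N25449 (iv D59410)) (tt N25484 F265305) (tt N27279 (iv F268304)) (tt N27486 (iv F269158)) (tt N27275 (iv F268283)) (tt N27589 (iv F269536)) (tt N27828 (iv F270213)) (tt N25450 F265306) (tt N27278 (iv F268301)) (tt N25457 F265307))
theorem Q26642 : ∀ i, i < 26642 → P i := stepQ 26641 Q26641 (allL N26641 (tt N27837 D60607) (tt N25451 (iv D59411)) (tt N27476 (iv F269122)) (tt N25454 F265308) (tt N27407 (iv F268838)) (tt N27718 (iv F269953)) (tt N25456 F265309) (tt N27328 (iv F268538)) (tt N27008 (iv F267067)) (tt N27460 (iv F269070)))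
theorem Q26643 : ∀ i, i < 26643 → P i := stepQ 26642 Q26642 (allL N26642 (tt N27838 D60608) (tt N25452 (iv D59412)) (tt N27812 (iv F270167)) (tt N27718 (iv F269952)) (tt N27839 D60609) (tt N25454 F265310) (tt N27578 (iv F269480)) (tt N27329 (iv F268541)) (tt N27581 (iv F269498)) (tt N27826 (iv F270206)))
theorem Q26644 : ∀ i, i < 26644 → P i := stepQ 26643 Q26643 (allL N26643 (tt N25516 F265311) (tt N27839 (iv F270235)) (tt N25453 F265312) (tt N27840 D60610) (tt N25452 (iv D59413)) (tt N27806 (iv F270155)) (tt N27579 (iv F269486)) (tt N27330 (iv F268544)) (tt N27582 (iv F269504)) (tt N27827 (iv F270210)))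
theorem Q26645 : ∀ i, i < 26645 → P i := stepQ 26644 Q26644 (allL N26644 (tt N25454 (iv D59414)) (tt N25517 F265313) (tt N27825 (iv F270200)) (tt N27837 (iv F270231)) (tt N27807 (iv F270157)) (tt N27838 (iv F270234)) (tt N25457 F265314) (tt N27331 (iv F268547)) (tt N27772 (iv F270088)) (tt N27828 (iv F270215)))
theorem Q26646 : ∀ i, i < 26646 → P i := stepQ 26645 Q26645 (allL N26645 (tt N27841 D60611) (tt N25455 (iv D59415)) (tt N25456 F265315) (tt N27817 (iv F270180)) (tt N27413 (iv F268862)) (tt N26995 (iv F266987)) (tt N27476 (iv F269123)) (tt N25460 F265316) (tt N26997 (iv F267002)) (tt N27453 (iv F269037)))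
theorem Q26647 : ∀ i, i < 26647 → P i := stepQ 26646 Q26646 (allL N26646 (tt N25456 (iv D59416)) (tt N25525 F265317) (tt N27841 (iv F270238)) (tt N25457 F265318) (tt N27416 (iv F268880)) (tt N27003 (iv F267030)) (tt N27837 (iv F270232)) (tt N25463 F265319) (tt N27009 (iv F267074)) (tt N27486 (iv F269160)))
theorem Q26648 : ∀ i, i < 26648 → P i := stepQ 26647 Q26647 (allL N26647 (tt N27842 D60612) (tt N25458 (iv D59417)) (tt N25533 F265320) (tt N26959 (iv F266790)) (tt N26997 (iv F266998)) (tt N27590 (iv F269542)) (tt N26953 (iv F266760)) (tt N27425 (iv F268914)) (tt N27413 (iv F268864)) (tt N27008 (iv F267068)))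
theorem Q26649 : ∀ i, i < 26649 → P i := stepQ 26648 Q26648 (allL N26648 (tt N27843 D60613) (tt N25459 (iv D59418)) (tt N25462 F265321) (tt N27468 (iv F269094)) (tt N27425 (iv F268912)) (tt N26975 (iv F266875)) (tt N27347 (iv F268615)) (tt N26997 (iv F267001)) (tt N25460 F265322) (tt N27467 (iv F269092)))
theorem Q26650 : ∀ i, i < 26650 → P i := stepQ 26649 Q26649 (allL N26649 (tt N25460 (iv D59419)) (tt N27842 (iv F270240)) (tt N25463 F265323) (tt N27829 (iv F270217)) (tt N27426 (iv F268917)) (tt N27591 (iv F269547)) (tt N27348 (iv F268621)) (tt N27841 (iv F270239)) (tt N27843 (iv F270243)) (tt N27504 (iv F269210)))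
theorem Q26651 : ∀ i, i < 26651 → P i := stepQ 26650 Q26650 (allL N26650 (tt N27844 D60614) (tt N25461 (iv D59420)) (tt N27467 (iv F269088)) (tt N26940 (iv F266684)) (tt N27429 (iv F268929)) (tt N26935 (iv F266658)) (tt N27353 (iv F268644)) (tt N26953 (iv F266761)) (tt N27519 (iv F269253)) (tt N25462 F265324))
theorem Q26652 : ∀ i, i < 26652 → P i := stepQ 26651 Q26651 (allL N26651 (tt N25462 (iv D59421)) (tt N25547 F265325) (tt N27843 (iv F270242)) (tt N26987 (iv F266938)) (tt N27430 (iv F268935)) (tt N26978 (iv F266891)) (tt N27354 (iv F268650)) (tt N27009 (iv F267073)) (tt N25463 F265326) (tt N27844 (iv F270245)))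
theorem Q26653 : ∀ i, i < 26653 → P i := stepQ 26652 Q26652 (allL N26652 (tt N25467 F265327) (tt N27845 D60615) (tt N25464 (iv D59422)) (tt N27427 (iv F268921)) (tt N27846 D60616) (tt N27391 (iv F268796)) (tt N27376 (iv F268728)) (tt N25534 F265328) (tt N27599 (iv F269573)) (tt N27389 (iv F268787)))
theorem Q26654 : ∀ i, i < 26654 → P i := stepQ 26653 Q26653 (allL N26653 (tt N25468 F265329) (tt N25549 F265330) (tt N27846 (iv F270249)) (tt N25465 F265331) (tt N25464 (iv D59423)) (tt N27554 (iv F269365)) (tt N27377 (iv F268734)) (tt N25535 F265332) (tt N27600 (iv F269579)) (tt N27390 (iv F268793)))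
theorem Q26655 : ∀ i, i < 26655 → P i := stepQ 26654 Q26654 (allL N26654 (tt N27599 (iv F269570)) (tt N27847 D60617) (tt N25466 (iv D59424)) (tt N27417 (iv F268884)) (tt N27848 D60618) (tt N27652 (iv F269758)) (tt N27380 (iv F268751)) (tt N27414 (iv F268870)) (tt N25467 F265333) (tt N27478 (iv F269132)))
theorem Q26656 : ∀ i, i < 26656 → P i := stepQ 26655 Q26655 (allL N26655 (tt N27600 (iv F269574)) (tt N25472 F265334) (tt N27848 (iv F270253)) (tt N25562 F265335) (tt N25466 (iv D59425)) (tt N27556 (iv F269371)) (tt N27020 (iv F267110)) (tt N27006 F267053) (tt N25468 F265336) (tt N27479 (iv F269137)))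
theorem Q26657 : ∀ i, i < 26657 → P i := stepQ 26656 Q26656 (allL N26656 (tt N27849 D60619) (tt N25467 (iv D59426)) (tt N25473 F265337) (tt N27639 (iv F269713)) (tt N27850 D60620) (tt N27654 (iv F269767)) (tt N27383 (iv F268763)) (tt N27664 (iv F269805)) (tt N27847 (iv F270252)) (tt N27685 (iv F269858)))
theorem Q26658 : ∀ i, i < 26658 → P i := stepQ 26657 Q26657 (allL N26657 (tt N27846 (iv F270248)) (tt N27850 (iv F270256)) (tt N25468 F265338) (tt N27851 D60621) (tt N25467 (iv D59427)) (tt N27555 (iv F269367)) (tt N27384 (iv F268765)) (tt N27012 F267084) (tt N27848 (iv F270254)) (tt N27686 (iv F269861)))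
theorem Q26659 : ∀ i, i < 26659 → P i := stepQ 26658 Q26658 (allL N26658 (tt N27609 (iv F269605)) (tt N26854 (iv F266180)) (tt N27851 (iv F270258)) (tt N25469 (iv D59428)) (tt N27641 (iv F269721)) (tt N27020 (iv F267109)) (tt N27386 (iv F268769)) (tt N26845 F266130) (tt N27385 (iv F268768)) (tt N27527 (iv F269284)))
theorem Q26660 : ∀ i, i < 26660 → P i := stepQ 26659 Q26659 (allL N26659 (tt N27520 (iv F269255)) (tt N27852 D60622) (tt N25470 (iv D59429)) (tt N25497 F265339) (tt N27853 D60623) (tt N27656 (iv F269775)) (tt N27391 (iv F268797)) (tt N27346 (iv F268610)) (tt N27689 (iv F269872)) (tt N25471 F265340))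
theorem Q26661 : ∀ i, i < 26661 → P i := stepQ 26660 Q26660 (allL N26660 (tt N27243 (iv F268130)) (tt N27479 (iv F269133)) (tt N27853 (iv F270261)) (tt N25563 F265341) (tt N25470 (iv D59430)) (tt N27557 (iv F269374)) (tt N26965 (iv F266823)) (tt N27288 (iv F268349)) (tt N27690 (iv F269876)) (tt N25472 F265342))
theorem Q26662 : ∀ i, i < 26662 → P i := stepQ 26661 Q26661 (allL N26661 (tt N27854 D60624) (tt N25471 (iv D59431)) (tt N27847 (iv F270251)) (tt N25498 F265343) (tt N27855 D60625) (tt N27658 (iv F269784)) (tt N27392 (iv F268801)) (tt N27667 (iv F269815)) (tt N25473 F265344) (tt N27852 (iv F270260)))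
theorem Q26663 : ∀ i, i < 26663 → P i := stepQ 26662 Q26662 (allL N26662 (tt N27220 (iv F268057)) (tt N27855 (iv F270265)) (tt N25472 F265345) (tt N26985 (iv F266928)) (tt N25471 (iv D59432)) (tt N27495 (iv F269179)) (tt N26989 (iv F266949)) (tt N27287 (iv F268343)) (tt N25474 F265346) (tt N27853 (iv F270262)))
theorem Q26664 : ∀ i, i < 26664 → P i := stepQ 26663 Q26663 (allL N26663 (tt N25473 (iv D59433)) (tt N27835 (iv F270227)) (tt N27849 (iv F270255)) (tt N25475 F265347) (tt N27856 D60626) (tt N27660 (iv F269791)) (tt N27398 (iv F268817)) (tt N27673 (iv F269828)) (tt N27854 (iv F270264)) (tt N27700 (iv F269906)))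
theorem Q26665 : ∀ i, i < 26665 → P i := stepQ 26664 Q26664 (allL N26664 (tt N27856 (iv F270267)) (tt N25474 F265348) (tt N27850 (iv F270257)) (tt N27277 (iv F268292)) (tt N25473 (iv D59434)) (tt N27494 (iv F269176)) (tt N27399 (iv F268819)) (tt N27286 (iv F268338)) (tt N27855 (iv F270266)) (tt N27701 (iv F269909)))
theorem Q26666 : ∀ i, i < 26666 → P i := stepQ 26665 Q26665 (allL N26665 (tt N27461 (iv F269071)) (tt N27857 D60627) (tt N25476 (iv D59435)) (tt N25478 F265349) (tt N27858 D60628) (tt N25477 F265350) (tt N26918 (iv F266575)) (tt N26943 (iv F266699)) (tt N26931 (iv F266636)) (tt N25510 F265351))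
theorem Q26667 : ∀ i, i < 26667 → P i := stepQ 26666 Q26666 (allL N26666 (tt N27458 (iv F269053)) (tt N26934 (iv F266651)) (tt N27858 (iv F270271)) (tt N26666 F265352) (tt N25476 (iv D59436)) (tt N27327 (iv F268530)) (tt N26919 (iv F266579)) (tt N26944 (iv F266707)) (tt N26932 (iv F266643)) (tt N25511 F265353))
theorem Q26668 : ∀ i, i < 26668 → P i := stepQ 26667 Q26667 (allL N26667 (tt N27859 D60629) (tt N25477 (iv D59437)) (tt N27519 (iv F269251)) (tt N25480 F265354) (tt N27328 (iv F268536)) (tt N27857 (iv F270269)) (tt N25483 F265355) (tt N27407 (iv F268840)) (tt N27467 (iv F269091)) (tt N25512 F265356))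
theorem Q26669 : ∀ i, i < 26669 → P i := stepQ 26668 Q26668 (allL N26668 (tt N27860 D60630) (tt N25478 (iv D59438)) (tt N27402 (iv F268823)) (tt N27857 (iv F270268)) (tt N27861 D60631) (tt N25480 F265357) (tt N26924 (iv F266599)) (tt N27410 (iv F268853)) (tt N26959 (iv F266793)) (tt N25515 F265358))
theorem Q26670 : ∀ i, i < 26670 → P i := stepQ 26669 Q26669 (allL N26669 (tt N27827 (iv F270207)) (tt N27861 (iv F270278)) (tt N25479 F265359) (tt N27862 D60632) (tt N25478 (iv D59439)) (tt N27296 (iv F268380)) (tt N26925 (iv F266603)) (tt N27411 (iv F268856)) (tt N26960 (iv F266800)) (tt N25516 F265360))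
theorem Q26671 : ∀ i, i < 26671 → P i := stepQ 26670 Q26670 (allL N26670 (tt N25480 (iv D59440)) (tt N27828 (iv F270211)) (tt N27651 (iv F269754)) (tt N27859 (iv F270273)) (tt N27808 (iv F270159)) (tt N27860 (iv F270276)) (tt N25484 F265361) (tt N27412 (iv F268859)) (tt N27675 (iv F269835)) (tt N25517 F265362))
theorem Q26672 : ∀ i, i < 26672 → P i := stepQ 26671 Q26671 (allL N26671 (tt N27863 D60633) (tt N25481 (iv D59441)) (tt N25483 F265363) (tt N27654 (iv F269766)) (tt N25546 F265364) (tt N27639 (iv F269714)) (tt N27519 (iv F269252)) (tt N25491 F265365) (tt N27353 (iv F268646)) (tt N25520 F265366))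
theorem Q26673 : ∀ i, i < 26673 → P i := stepQ 26672 Q26672 (allL N26672 (tt N27864 D60634) (tt N25482 (iv D59442)) (tt N27353 (iv F268642)) (tt N27667 (iv F269813)) (tt N27334 (iv F268561)) (tt N27642 (iv F269726)) (tt N27467 (iv F269089)) (tt N25498 F265367) (tt N25483 F265368) (tt N27347 (iv F268618)))
theorem Q26674 : ∀ i, i < 26674 → P i := stepQ 26673 Q26673 (allL N26673 (tt N25483 (iv D59443)) (tt N27486 (iv F269157)) (tt N27863 (iv F270282)) (tt N25484 F265369) (tt N27339 (iv F268587)) (tt N27644 (iv F269733)) (tt N27859 (iv F270274)) (tt N25504 F265370) (tt N27864 (iv F270287)) (tt N25525 F265371))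
theorem Q26675 : ∀ i, i < 26675 → P i := stepQ 26674 Q26674 (allL N26674 (tt N27865 D60635) (tt N25485 (iv D59444)) (tt N27008 (iv F267062)) (tt N27501 (iv F269198)) (tt N26953 (iv F266758)) (tt N27714 (iv F269942)) (tt N26997 (iv F267000)) (tt N27429 (iv F268931)) (tt N27476 (iv F269125)) (tt N25533 F265372))
theorem Q26676 : ∀ i, i < 26676 → P i := stepQ 26675 Q26675 (allL N26675 (tt N27185 (iv F267917)) (tt N27866 D60636) (tt N25486 (iv D59445)) (tt N25488 F265373) (tt N27867 D60637) (tt N27371 (iv F268713)) (tt N26957 (iv F266777)) (tt N26938 (iv F266675)) (tt N27408 (iv F268846)) (tt N26982 (iv F266913)))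
theorem Q26677 : ∀ i, i < 26677 → P i := stepQ 26676 Q26676 (allL N26676 (tt N27186 (iv F267922)) (tt N27418 (iv F268888)) (tt N27867 (iv F270291)) (tt N25564 F265374) (tt N25486 (iv D59446)) (tt N27239 (iv F268109)) (tt N26958 (iv F266785)) (tt N26939 (iv F266681)) (tt N27409 (iv F268850)) (tt N26983 (iv F266920)))
theorem Q26678 : ∀ i, i < 26678 → P i := stepQ 26677 Q26677 (allL N26677 (tt N27473 (iv F269110)) (tt N27868 D60638) (tt N25487 (iv D59447)) (tt N27371 (iv F268712)) (tt N27869 D60639) (tt N25488 F265375) (tt N27368 (iv F268700)) (tt N27349 (iv F268626)) (tt N25489 F265376) (tt N27332 (iv F268552)))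
theorem Q26679 : ∀ i, i < 26679 → P i := stepQ 26678 Q26678 (allL N26678 (tt N26952 (iv F266748)) (tt N25496 F265377) (tt N27869 (iv F270295)) (tt N26678 F265378) (tt N25487 (iv D59448)) (tt N26881 (iv F266357)) (tt N27369 (iv F268706)) (tt N27350 (iv F268633)) (tt N25490 F265379) (tt N27333 (iv F268559)))
theorem Q26680 : ∀ i, i < 26680 → P i := stepQ 26679 Q26679 (allL N26679 (tt N27870 D60640) (tt N25488 (iv D59449)) (tt N25498 F265380) (tt N27866 (iv F270290)) (tt N27347 (iv F268614)) (tt N27868 (iv F270293)) (tt N27425 (iv F268913)) (tt N27353 (iv F268645)) (tt N25491 F265381) (tt N27334 (iv F268564)))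
theorem Q26681 : ∀ i, i < 26681 → P i := stepQ 26680 Q26680 (allL N26680 (tt N27871 D60641) (tt N25489 (iv D59450)) (tt N25502 F265382) (tt N27664 (iv F269802)) (tt N27872 D60642) (tt N25491 F265383) (tt N27705 (iv F269918)) (tt N27639 (iv F269715)) (tt N27868 (iv F270294)) (tt N25536 F265384))
theorem Q26682 : ∀ i, i < 26682 → P i := stepQ 26681 Q26681 (allL N26681 (tt N26956 (iv F266769)) (tt N27872 (iv F270302)) (tt N25490 F265385) (tt N27873 D60643) (tt N25489 (iv D59451)) (tt N26883 (iv F266371)) (tt N27706 (iv F269922)) (tt N27640 (iv F269719)) (tt N27869 (iv F270296)) (tt N25537 F265386))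
theorem Q26683 : ∀ i, i < 26683 → P i := stepQ 26682 Q26682 (allL N26682 (tt N25491 (iv D59452)) (tt N27865 (iv F270288)) (tt N25504 F265387) (tt N27665 (iv F269808)) (tt N27348 (iv F268620)) (tt N27871 (iv F270300)) (tt N27426 (iv F268918)) (tt N27863 (iv F270284)) (tt N27870 (iv F270298)) (tt N25538 F265388))
theorem Q26684 : ∀ i, i < 26684 → P i := stepQ 26683 Q26683 (allL N26683 (tt N26800 (iv F265876)) (tt N27128 (iv F267684)) (tt N27874 D60644) (tt N25492 (iv D59453)) (tt N27875 D60645) (tt N26910 (iv F266535)) (tt N25494 F265389) (tt N26783 (iv F265777)) (tt N25539 F265390) (tt N25493 F265391))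
theorem Q26685 : ∀ i, i < 26685 → P i := stepQ 26684 Q26684 (allL N26684 (tt N26801 (iv F265883)) (tt N27876 D60646) (tt N25493 (iv D59454)) (tt N27646 (iv F269739)) (tt N27877 D60647) (tt N27367 (iv F268693)) (tt N25495 F265392) (tt N27381 (iv F268756)) (tt N25500 F265393) (tt N27874 (iv F270310)))
theorem Q26686 : ∀ i, i < 26686 → P i := stepQ 26685 Q26685 (allL N26685 (tt N26802 (iv F265887)) (tt N27369 (iv F268704)) (tt N27877 (iv F270317)) (tt N26685 F265394) (tt N25493 (iv D59455)) (tt N27878 D60648) (tt N25496 F265395) (tt N27382 (iv F268760)) (tt N25501 F265396) (tt N27875 (iv F270314)))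
theorem Q26687 : ∀ i, i < 26687 → P i := stepQ 26686 Q26686 (allL N26686 (tt N26933 (iv F266645)) (tt N27879 D60649) (tt N25494 (iv D59456)) (tt N27656 (iv F269774)) (tt N27880 D60650) (tt N25497 F265397) (tt N27874 (iv F270308)) (tt N26880 (iv F266351)) (tt N25542 F265398) (tt N25495 F265399))
theorem Q26688 : ∀ i, i < 26688 → P i := stepQ 26687 Q26687 (allL N26687 (tt N26934 (iv F266650)) (tt N27333 (iv F268554)) (tt N27880 (iv F270325)) (tt N26687 F265400) (tt N25494 (iv D59457)) (tt N27350 (iv F268632)) (tt N27875 (iv F270312)) (tt N26881 (iv F266359)) (tt N25543 F265401) (tt N25496 F265402))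
theorem Q26689 : ∀ i, i < 26689 → P i := stepQ 26688 Q26688 (allL N26688 (tt N27881 D60651) (tt N25495 (iv D59458)) (tt N27868 (iv F270292)) (tt N27658 (iv F269783)) (tt N27882 D60652) (tt N25498 F265403) (tt N27876 (iv F270315)) (tt N27642 (iv F269727)) (tt N25502 F265404) (tt N27879 (iv F270324)))
theorem Q26690 : ∀ i, i < 26690 → P i := stepQ 26689 Q26689 (allL N26689 (tt N27517 (iv F269244)) (tt N27882 (iv F270330)) (tt N25496 F265405) (tt N27883 D60653) (tt N25495 (iv D59459)) (tt N27352 (iv F268640)) (tt N27877 (iv F270318)) (tt N27643 (iv F269730)) (tt N25503 F265406) (tt N27880 (iv F270327)))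
theorem Q26691 : ∀ i, i < 26691 → P i := stepQ 26690 Q26690 (allL N26690 (tt N27884 D60654) (tt N25497 (iv D59460)) (tt N27334 (iv F268560)) (tt N27852 (iv F270259)) (tt N27353 (iv F268643)) (tt N27879 (iv F270322)) (tt N27429 (iv F268930)) (tt N27347 (iv F268616)) (tt N25546 F265407) (tt N25498 F265408))
theorem Q26692 : ∀ i, i < 26692 → P i := stepQ 26691 Q26691 (allL N26691 (tt N25498 (iv D59461)) (tt N27521 (iv F269260)) (tt N27870 (iv F270297)) (tt N27854 (iv F270263)) (tt N27354 (iv F268649)) (tt N27881 (iv F270328)) (tt N27430 (iv F268936)) (tt N27864 (iv F270286)) (tt N25504 F265409) (tt N27884 (iv F270334)))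
theorem Q26693 : ∀ i, i < 26693 → P i := stepQ 26692 Q26692 (allL N26692 (tt N26793 (iv F265835)) (tt N27885 D60655) (tt N25499 (iv D59462)) (tt N25505 F265410) (tt N27886 D60656) (tt N27380 (iv F268750)) (tt N26903 (iv F266496)) (tt N25500 F265411) (tt N27381 (iv F268757)) (tt N25548 F265412))
theorem Q26694 : ∀ i, i < 26694 → P i := stepQ 26693 Q26693 (allL N26693 (tt N26794 (iv F265841)) (tt N27390 (iv F268789)) (tt N27886 (iv F270338)) (tt N25509 F265413) (tt N25499 (iv D59463)) (tt N27641 (iv F269722)) (tt N26904 (iv F266501)) (tt N25501 F265414) (tt N27382 (iv F268761)) (tt N25549 F265415))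
theorem Q26695 : ∀ i, i < 26695 → P i := stepQ 26694 Q26694 (allL N26694 (tt N27887 D60657) (tt N25500 (iv D59464)) (tt N27705 (iv F269915)) (tt N25506 F265416) (tt N27888 D60658) (tt N27431 (iv F268941)) (tt N25502 F265417) (tt N27885 (iv F270336)) (tt N27876 (iv F270316)) (tt N25550 F265418))
theorem Q26696 : ∀ i, i < 26696 → P i := stepQ 26695 Q26695 (allL N26695 (tt N26804 (iv F265897)) (tt N27888 (iv F270345)) (tt N25501 F265419) (tt N26883 (iv F266370)) (tt N25500 (iv D59465)) (tt N27873 (iv F270306)) (tt N25503 F265420) (tt N27886 (iv F270340)) (tt N27877 (iv F270319)) (tt N25551 F265421))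
theorem Q26697 : ∀ i, i < 26697 → P i := stepQ 26696 Q26696 (allL N26696 (tt N26805 (iv F265902)) (tt N26855 (iv F266185)) (tt N27873 (iv F270305)) (tt N25508 F265422) (tt N26845 (iv F266127)) (tt N25501 (iv D59466)) (tt N26841 (iv F266113)) (tt N27641 (iv F269723)) (tt N27878 (iv F270321)) (tt N25552 F265423))
theorem Q26698 : ∀ i, i < 26698 → P i := stepQ 26697 Q26697 (allL N26697 (tt N25502 (iv D59467)) (tt N27535 (iv F269306)) (tt N27871 (iv F270299)) (tt N25507 F265424) (tt N27889 D60659) (tt N25504 F265425) (tt N27887 (iv F270343)) (tt N27644 (iv F269734)) (tt N27881 (iv F270329)) (tt N25553 F265426))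
theorem Q26699 : ∀ i, i < 26699 → P i := stepQ 26698 Q26698 (allL N26698 (tt N27889 (iv F270348)) (tt N25503 F265427) (tt N27872 (iv F270303)) (tt N27598 (iv F269568)) (tt N25502 (iv D59468)) (tt N27356 (iv F268657)) (tt N27888 (iv F270346)) (tt N27645 (iv F269737)) (tt N27882 (iv F270331)) (tt N25554 F265428))
theorem Q26700 : ∀ i, i < 26700 → P i := stepQ 26699 Q26699 (allL N26699 (tt N27890 D60660) (tt N25505 (iv D59469)) (tt N27366 (iv F268687)) (tt N27885 (iv F270335)) (tt N26879 (iv F266343)) (tt N27434 (iv F268952)) (tt N26909 (iv F266529)) (tt N25506 F265429) (tt N26930 (iv F266630)) (tt N25558 F265430))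
theorem Q26701 : ∀ i, i < 26701 → P i := stepQ 26700 Q26700 (allL N26700 (tt N25506 (iv D59470)) (tt N26808 (iv F265918)) (tt N27675 (iv F269833)) (tt N27887 (iv F270342)) (tt N26886 (iv F266389)) (tt N27436 (iv F268959)) (tt N25507 F265431) (tt N27890 (iv F270350)) (tt N27651 (iv F269756)) (tt N25559 F265432))
theorem Q26702 : ∀ i, i < 26702 → P i := stepQ 26701 Q26701 (allL N26701 (tt N27891 D60661) (tt N25510 (iv D59471)) (tt N27523 (iv F269269)) (tt N25515 F265433) (tt N27892 D60662) (tt N25512 F265434) (tt N27628 (iv F269680)) (tt N27456 (iv F269050)) (tt N27247 (iv F268155)) (tt N27857 (iv F270270)))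
theorem Q26703 : ∀ i, i < 26703 → P i := stepQ 26702 Q26702 (allL N26702 (tt N27719 (iv F269956)) (tt N27892 (iv F270354)) (tt N25511 F265435) (tt N27893 D60663) (tt N25510 (iv D59472)) (tt N27499 (iv F269191)) (tt N27629 (iv F269684)) (tt N27457 (iv F269052)) (tt N27248 (iv F268162)) (tt N27858 (iv F270272)))
theorem Q26704 : ∀ i, i < 26704 → P i := stepQ 26703 Q26703 (allL N26703 (tt N25512 (iv D59473)) (tt N27837 (iv F270230)) (tt N27521 (iv F269261)) (tt N25517 F265436) (tt N27500 (iv F269194)) (tt N27891 (iv F270353)) (tt N25525 F265437) (tt N27459 (iv F269063)) (tt N27504 (iv F269209)) (tt N27859 (iv F270275)))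
theorem Q26705 : ∀ i, i < 26705 → P i := stepQ 26704 Q26704 (allL N26704 (tt N27894 D60664) (tt N25513 (iv D59474)) (tt N27146 (iv F267757)) (tt N27628 (iv F269678)) (tt N27895 D60665) (tt N25530 F265438) (tt N25515 F265439) (tt N27768 (iv F270075)) (tt N26764 (iv F265649)) (tt N26924 (iv F266601)))
theorem Q26706 : ∀ i, i < 26706 → P i := stepQ 26705 Q26705 (allL N26705 (tt N27579 (iv F269483)) (tt N27895 (iv F270359)) (tt N25514 F265440) (tt N27896 D60666) (tt N25513 (iv D59475)) (tt N27605 (iv F269597)) (tt N25516 F265441) (tt N27769 (iv F270079)) (tt N26765 (iv F265656)) (tt N26925 (iv F266605)))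
theorem Q26707 : ∀ i, i < 26707 → P i := stepQ 26706 Q26706 (allL N26706 (tt N25515 (iv D59476)) (tt N27838 (iv F270233)) (tt N27682 (iv F269849)) (tt N27891 (iv F270352)) (tt N27897 D60667) (tt N25517 F265442) (tt N27894 (iv F270358)) (tt N27464 (iv F269083)) (tt N27786 (iv F270116)) (tt N27860 (iv F270277)))
theorem Q26708 : ∀ i, i < 26708 → P i := stepQ 26707 Q26707 (allL N26707 (tt N27897 (iv F270363)) (tt N25516 F265443) (tt N27683 (iv F269852)) (tt N27898 D60668) (tt N25515 (iv D59477)) (tt N27815 (iv F270176)) (tt N27895 (iv F270360)) (tt N27465 (iv F269085)) (tt N27787 (iv F270118)) (tt N27861 (iv F270279)))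
theorem Q26709 : ∀ i, i < 26709 → P i := stepQ 26708 Q26708 (allL N26708 (tt N27840 (iv F270236)) (tt N27898 (iv F270364)) (tt N26708 F265444) (tt N25516 (iv D59478)) (tt N27893 (iv F270356)) (tt N27816 (iv F270178)) (tt N27896 (iv F270362)) (tt N27466 (iv F269087)) (tt N27899 D60669) (tt N27862 (iv F270281)))
theorem Q26710 : ∀ i, i < 26710 → P i := stepQ 26709 Q26709 (allL N26709 (tt N27900 D60670) (tt N25518 (iv D59479)) (tt N25522 F265445) (tt N27685 (iv F269855)) (tt N27901 D60671) (tt N25520 F265446) (tt N27622 (iv F269661)) (tt N25536 F265447) (tt N25557 F265448) (tt N27639 (iv F269716)))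
theorem Q26711 : ∀ i, i < 26711 → P i := stepQ 26710 Q26710 (allL N26710 (tt N26980 (iv F266897)) (tt N27901 (iv F270370)) (tt N25519 F265449) (tt N27902 D60672) (tt N25518 (iv D59480)) (tt N25545 F265450) (tt N27623 (iv F269664)) (tt N25537 F265451) (tt N25555 F265452) (tt N27640 (iv F269720)))
theorem Q26712 : ∀ i, i < 26712 → P i := stepQ 26711 Q26711 (allL N26711 (tt N25520 (iv D59481)) (tt N27430 (iv F268934)) (tt N25525 F265453) (tt N27687 (iv F269863)) (tt N25547 F265454) (tt N27900 (iv F270367)) (tt N27521 (iv F269262)) (tt N25538 F265455) (tt N25556 F265456) (tt N27863 (iv F270285)))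
theorem Q26713 : ∀ i, i < 26713 → P i := stepQ 26712 Q26712 (allL N26712 (tt N25521 (iv D59482)) (tt N27009 (iv F267069)) (tt N25556 F265457) (tt N26897 (iv F266458)) (tt N25538 F265458) (tt N26891 (iv F266418)) (tt N27504 (iv F269208)) (tt N25547 F265459) (tt N25525 F265460) (tt N27348 (iv F268623)))
theorem Q26714 : ∀ i, i < 26714 → P i := stepQ 26713 Q26713 (allL N26713 (tt N25522 (iv D59483)) (tt N27003 (iv F267028)) (tt N27900 (iv F270366)) (tt N25531 F265461) (tt N27903 D60673) (tt N25525 F265462) (tt N27630 (iv F269688)) (tt N25553 F265463) (tt N26891 (iv F266421)) (tt N27644 (iv F269735)))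
theorem Q26715 : ∀ i, i < 26715 → P i := stepQ 26714 Q26714 (allL N26714 (tt N27903 (iv F270378)) (tt N25523 F265464) (tt N27901 (iv F270371)) (tt N27618 (iv F269645)) (tt N25522 (iv D59484)) (tt N27904 D60674) (tt N27631 (iv F269691)) (tt N25554 F265465) (tt N26892 (iv F266428)) (tt N27645 (iv F269738)))
theorem Q26716 : ∀ i, i < 26716 → P i := stepQ 26715 Q26715 (allL N26715 (tt N27005 (iv F267039)) (tt N27904 (iv F270380)) (tt N25524 F265466) (tt N27619 (iv F269649)) (tt N25527 F265467) (tt N25523 (iv D59485)) (tt N27905 D60675) (tt N25555 F265468) (tt N25537 F265469) (tt N27338 (iv F268583)))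
theorem Q26717 : ∀ i, i < 26717 → P i := stepQ 26716 Q26716 (allL N26716 (tt N27006 (iv F267046)) (tt N25541 F265470) (tt N27905 (iv F270385)) (tt N25561 F265471) (tt N25528 F265472) (tt N27561 (iv F269391)) (tt N25524 (iv D59486)) (tt N27600 (iv F269578)) (tt N25535 F265473) (tt N27336 (iv F268573)))
theorem Q26718 : ∀ i, i < 26718 → P i := stepQ 26717 Q26717 (allL N26717 (tt N25526 F265474) (tt N27416 (iv F268878)) (tt N25547 F265475) (tt N27318 (iv F268486)) (tt N25525 (iv D59487)) (tt N27906 D60676) (tt N27500 (iv F269195)) (tt N25556 F265476) (tt N25538 F265477) (tt N27339 (iv F268589)))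
theorem Q26719 : ∀ i, i < 26719 → P i := stepQ 26718 Q26718 (allL N26718 (tt N27906 (iv F270388)) (tt N25527 F265478) (tt N25544 F265479) (tt N27316 (iv F268476)) (tt N27904 (iv F270382)) (tt N25526 (iv D59488)) (tt N27907 D60677) (tt N25557 F265480) (tt N25536 F265481) (tt N27337 (iv F268578)))
theorem Q26720 : ∀ i, i < 26720 → P i := stepQ 26719 Q26719 (allL N26719 (tt N27414 (iv F268866)) (tt N27907 (iv F270392)) (tt N25528 F265482) (tt N27314 (iv F268469)) (tt N27905 (iv F270386)) (tt N27497 (iv F269184)) (tt N25527 (iv D59489)) (tt N27599 (iv F269572)) (tt N25534 F265483) (tt N27335 (iv F268568)))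
theorem Q26721 : ∀ i, i < 26721 → P i := stepQ 26720 Q26720 (allL N26720 (tt N27908 D60678) (tt N25529 (iv D59490)) (tt N27132 (iv F267704)) (tt N27612 (iv F269618)) (tt N26889 (iv F266405)) (tt N27768 (iv F270074)) (tt N25558 F265484) (tt N25530 F265485) (tt N26763 (iv F265642)) (tt N26909 (iv F266532)))
theorem Q26722 : ∀ i, i < 26722 → P i := stepQ 26721 Q26721 (allL N26721 (tt N25530 (iv D59491)) (tt N27580 (iv F269489)) (tt N27148 (iv F267766)) (tt N27630 (iv F269687)) (tt N27606 (iv F269599)) (tt N27894 (iv F270357)) (tt N25531 F265486) (tt N27908 (iv F270396)) (tt N26766 (iv F265662)) (tt N26926 (iv F266609)))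
theorem Q26723 : ∀ i, i < 26723 → P i := stepQ 26722 Q26722 (allL N26722 (tt N27909 D60679) (tt N25532 (iv D59492)) (tt N27590 (iv F269540)) (tt N27705 (iv F269916)) (tt N27011 (iv F267078)) (tt N25533 F265487) (tt N27664 (iv F269804)) (tt N27428 (iv F268927)) (tt N27415 (iv F268876)) (tt N27714 (iv F269944)))
theorem Q26724 : ∀ i, i < 26724 → P i := stepQ 26723 Q26723 (allL N26723 (tt N25533 (iv D59493)) (tt N25538 F265488) (tt N27842 (iv F270241)) (tt N27707 (iv F269925)) (tt N27009 (iv F267071)) (tt N27909 (iv F270398)) (tt N27496 (iv F269182)) (tt N27430 (iv F268937)) (tt N27416 (iv F268882)) (tt N27865 (iv F270289)))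
theorem Q26725 : ∀ i, i < 26725 → P i := stepQ 26724 Q26724 (allL N26724 (tt N27910 D60680) (tt N25534 (iv D59494)) (tt N25550 F265489) (tt N27714 (iv F269941)) (tt N27911 D60681) (tt N27501 (iv F269199)) (tt N25536 F265490) (tt N27845 (iv F270247)) (tt N27907 (iv F270394)) (tt N27705 (iv F269919)))
theorem Q26726 : ∀ i, i < 26726 → P i := stepQ 26725 Q26725 (allL N26725 (tt N27012 (iv F267079)) (tt N27911 (iv F270401)) (tt N25535 F265491) (tt N27627 (iv F269676)) (tt N25534 (iv D59495)) (tt N27560 (iv F269386)) (tt N25537 F265492) (tt N27846 (iv F270250)) (tt N27905 (iv F270387)) (tt N27706 (iv F269923)))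
theorem Q26727 : ∀ i, i < 26727 → P i := stepQ 26726 Q26726 (allL N26726 (tt N25536 (iv D59496)) (tt N27909 (iv F270397)) (tt N25553 F265493) (tt N27715 (iv F269946)) (tt N27912 D60682) (tt N25538 F265494) (tt N27910 (iv F270400)) (tt N27900 (iv F270368)) (tt N27906 (iv F270391)) (tt N27871 (iv F270301)))
theorem Q26728 : ∀ i, i < 26728 → P i := stepQ 26727 Q26727 (allL N26727 (tt N27912 (iv F270404)) (tt N25537 F265495) (tt N25554 F265496) (tt N27913 D60683) (tt N25536 (iv D59497)) (tt N26892 (iv F266425)) (tt N27911 (iv F270403)) (tt N27901 (iv F270373)) (tt N27904 (iv F270384)) (tt N27872 (iv F270304)))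
theorem Q26729 : ∀ i, i < 26729 → P i := stepQ 26728 Q26728 (allL N26728 (tt N26844 (iv F266121)) (tt N27913 (iv F270406)) (tt N25552 F265497) (tt N25537 (iv D59498)) (tt N27530 (iv F269292)) (tt N25551 F265498) (tt N27627 (iv F269677)) (tt N27902 (iv F270377)) (tt N27914 D60684) (tt N27873 (iv F270307)))
theorem Q26730 : ∀ i, i < 26730 → P i := stepQ 26729 Q26729 (allL N26729 (tt N26834 (iv F266075)) (tt N27915 D60685) (tt N25539 (iv D59499)) (tt N26779 (iv F265746)) (tt N27916 D60686) (tt N27507 (iv F269220)) (tt N25542 F265499) (tt N26785 (iv F265790)) (tt N27874 (iv F270309)) (tt N25540 F265500))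
theorem Q26731 : ∀ i, i < 26731 → P i := stepQ 26730 Q26730 (allL N26730 (tt N26835 (iv F266080)) (tt N27336 (iv F268570)) (tt N27916 (iv F270412)) (tt N25565 F265501) (tt N25539 (iv D59500)) (tt N27917 D60687) (tt N25543 F265502) (tt N26786 (iv F265795)) (tt N27875 (iv F270313)) (tt N25541 F265503))
theorem Q26732 : ∀ i, i < 26732 → P i := stepQ 26731 Q26731 (allL N26731 (tt N27918 D60688) (tt N25540 (iv D59501)) (tt N27907 (iv F270393)) (tt N26889 (iv F266404)) (tt N27919 D60689) (tt N27509 (iv F269226)) (tt N25544 F265504) (tt N27601 (iv F269582)) (tt N25550 F265505) (tt N27915 (iv F270411)))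
theorem Q26733 : ∀ i, i < 26733 → P i := stepQ 26732 Q26732 (allL N26732 (tt N26837 (iv F266089)) (tt N27919 (iv F270419)) (tt N25541 F265506) (tt N27613 (iv F269624)) (tt N25540 (iv D59502)) (tt N27914 (iv F270409)) (tt N25545 F265507) (tt N27602 (iv F269588)) (tt N25551 F265508) (tt N27916 (iv F270414)))
theorem Q26734 : ∀ i, i < 26734 → P i := stepQ 26733 Q26733 (allL N26733 (tt N26838 (iv F266095)) (tt N27561 (iv F269389)) (tt N27914 (iv F270408)) (tt N25566 F265509) (tt N27511 (iv F269233)) (tt N25541 (iv D59503)) (tt N27624 (iv F269668)) (tt N27603 (iv F269592)) (tt N25552 F265510) (tt N27917 (iv F270416)))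
theorem Q26735 : ∀ i, i < 26735 → P i := stepQ 26734 Q26734 (allL N26734 (tt N27920 D60690) (tt N25542 (iv D59504)) (tt N27337 (iv F268574)) (tt N26879 (iv F266342)) (tt N27921 D60691) (tt N25546 F265511) (tt N27915 (iv F270410)) (tt N26882 (iv F266366)) (tt N27879 (iv F270323)) (tt N25544 F265512))
theorem Q26736 : ∀ i, i < 26736 → P i := stepQ 26735 Q26735 (allL N26735 (tt N26936 (iv F266661)) (tt N27921 (iv F270424)) (tt N25543 F265513) (tt N27886 (iv F270339)) (tt N25542 (iv D59505)) (tt N27640 (iv F269718)) (tt N27916 (iv F270413)) (tt N26883 (iv F266373)) (tt N27880 (iv F270326)) (tt N25545 F265514))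
theorem Q26737 : ∀ i, i < 26737 → P i := stepQ 26736 Q26736 (allL N26736 (tt N25544 (iv D59506)) (tt N26978 (iv F266889)) (tt N27906 (iv F270389)) (tt N26890 (iv F266410)) (tt N27922 D60692) (tt N25547 F265515) (tt N27918 (iv F270417)) (tt N26891 (iv F266420)) (tt N25553 F265516) (tt N27920 (iv F270423)))
theorem Q26738 : ∀ i, i < 26738 → P i := stepQ 26737 Q26737 (allL N26737 (tt N27922 (iv F270426)) (tt N25545 F265517) (tt N27904 (iv F270381)) (tt N27923 D60693) (tt N25544 (iv D59507)) (tt N27901 (iv F270372)) (tt N27919 (iv F270420)) (tt N26892 (iv F266427)) (tt N25554 F265518) (tt N27921 (iv F270425)))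
theorem Q26739 : ∀ i, i < 26739 → P i := stepQ 26738 Q26738 (allL N26738 (tt N26818 (iv F265982)) (tt N27923 (iv F270428)) (tt N25549 F265519) (tt N25545 (iv D59508)) (tt N25548 F265520) (tt N27902 (iv F270376)) (tt N27613 (iv F269625)) (tt N25551 F265521) (tt N27602 (iv F269589)) (tt N27886 (iv F270341)))
theorem Q26740 : ∀ i, i < 26740 → P i := stepQ 26739 Q26739 (allL N26739 (tt N25546 (iv D59509)) (tt N27844 (iv F270244)) (tt N27339 (iv F268585)) (tt N27798 (iv F270139)) (tt N27863 (iv F270283)) (tt N27920 (iv F270422)) (tt N27518 (iv F269248)) (tt N27348 (iv F268622)) (tt N27884 (iv F270333)) (tt N25547 F265522))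
theorem Q26741 : ∀ i, i < 26741 → P i := stepQ 26740 Q26740 (allL N26740 (tt N27924 D60694) (tt N25548 (iv D59510)) (tt N27845 (iv F270246)) (tt N25558 F265523) (tt N27923 (iv F270429)) (tt N27525 (iv F269277)) (tt N27612 (iv F269619)) (tt N25550 F265524) (tt N27601 (iv F269583)) (tt N27885 (iv F270337)))
theorem Q26742 : ∀ i, i < 26742 → P i := stepQ 26741 Q26741 (allL N26741 (tt N26819 (iv F265988)) (tt N27554 (iv F269364)) (tt N27902 (iv F270375)) (tt N25560 F265525) (tt N27527 (iv F269282)) (tt N25549 (iv D59511)) (tt N27638 (iv F269711)) (tt N25552 F265526) (tt N27603 (iv F269593)) (tt N27641 (iv F269724)))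
theorem Q26743 : ∀ i, i < 26743 → P i := stepQ 26742 Q26742 (allL N26742 (tt N25550 (iv D59512)) (tt N26842 (iv F266115)) (tt N27910 (iv F270399)) (tt N25559 F265527) (tt N27925 D60695) (tt N27528 (iv F269286)) (tt N25553 F265528) (tt N27924 (iv F270432)) (tt N27918 (iv F270418)) (tt N27887 (iv F270344)))
theorem Q26744 : ∀ i, i < 26744 → P i := stepQ 26743 Q26743 (allL N26743 (tt N27925 (iv F270433)) (tt N25551 F265529) (tt N27911 (iv F270402)) (tt N26892 (iv F266424)) (tt N25550 (iv D59513)) (tt N27913 (iv F270407)) (tt N25554 F265530) (tt N27923 (iv F270430)) (tt N27919 (iv F270421)) (tt N27888 (iv F270347)))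
theorem Q26745 : ∀ i, i < 26745 → P i := stepQ 26744 Q26744 (allL N26744 (tt N25554 F265531) (tt N27593 (iv F269551)) (tt N27912 (iv F270405)) (tt N27635 (iv F269703)) (tt N25553 (iv D59514)) (tt N27926 D60696) (tt N27925 (iv F270434)) (tt N27903 (iv F270379)) (tt N27922 (iv F270427)) (tt N27889 (iv F270349)))
theorem Q26746 : ∀ i, i < 26746 → P i := stepQ 26745 Q26745 (allL N26745 (tt N27926 (iv F270435)) (tt N25555 F265532) (tt N26892 (iv F266423)) (tt N27636 (iv F269705)) (tt N25557 F265533) (tt N25554 (iv D59515)) (tt N27626 (iv F269674)) (tt N27904 (iv F270383)) (tt N27901 (iv F270374)) (tt N27356 (iv F268658)))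
theorem Q26747 : ∀ i, i < 26747 → P i := stepQ 26746 Q26746 (allL N26746 (tt N25557 F265534) (tt N27432 (iv F268944)) (tt N26891 (iv F266416)) (tt N27319 (iv F268491)) (tt N27926 (iv F270436)) (tt N25556 (iv D59516)) (tt N27625 (iv F269671)) (tt N27906 (iv F270390)) (tt N27900 (iv F270369)) (tt N27355 (iv F268655)))
theorem Q26748 : ∀ i, i < 26748 → P i := stepQ 26747 Q26747 (allL N26747 (tt N25558 (iv D59517)) (tt N26825 (iv F266019)) (tt N27736 (iv F269988)) (tt N27924 (iv F270431)) (tt N26890 (iv F266411)) (tt N27536 (iv F269309)) (tt N27908 (iv F270395)) (tt N25559 F265535) (tt N27802 (iv F270149)) (tt N27890 (iv F270351)))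
theorem Q26749 : ∀ i, i < 26749 → P i := stepQ 26748 Q26748 (allL N26748 (tt N26860 (iv F266216)) (tt N26923 (iv F266592)) (tt N26905 (iv F266505)) (tt N27917 (iv F270415)) (tt N26748 F265536) (tt N25565 (iv D59518)) (tt N26915 (iv F266559)) (tt N26787 (iv F265800)) (tt N26748 F265537) (tt N25566 F265538))
theorem Q26750 : ∀ i, i < 26750 → P i := stepQ 26749 Q26749 (allL N26749 (tt N25958 F265539) (tt N27927 D60697) (tt N25567 (iv D59519)) (tt N26007 F265540) (tt N27928 D60698) (tt N25568 F265541) (tt N25896 F265542) (tt N25998 F265543) (tt N26381 F265544) (tt N25574 F265545))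
theorem Q26751 : ∀ i, i < 26751 → P i := stepQ 26750 Q26750 (allL N26750 (tt N25959 F265546) (tt N25853 F265547) (tt N27928 (iv F270445)) (tt N25569 F265548) (tt N25567 (iv D59520)) (tt N25583 F265549) (tt N25897 F265550) (tt N25999 F265551) (tt N26382 F265552) (tt N25575 F265553))
theorem Q26752 : ∀ i, i < 26752 → P i := stepQ 26751 Q26751 (allL N26751 (tt N27929 D60699) (tt N25568 (iv D59521)) (tt N25854 F265554) (tt N26594 F265555) (tt N25584 F265556) (tt N27927 (iv F270439)) (tt N26336 F265557) (tt N26592 F265558) (tt N26383 F265559) (tt N25576 F265560))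
theorem Q26753 : ∀ i, i < 26753 → P i := stepQ 26752 Q26752 (allL N26752 (tt N26007 F265561) (tt N27930 D60700) (tt N25570 (iv D59522)) (tt N25958 F265562) (tt N26561 F265563) (tt N25571 F265564) (tt N25953 F265565) (tt N25574 F265566) (tt N25633 F265567) (tt N25998 F265568))
theorem Q26754 : ∀ i, i < 26754 → P i := stepQ 26753 Q26753 (allL N26753 (tt N27931 D60701) (tt N25571 (iv D59523)) (tt N25858 F265569) (tt N26342 F265570) (tt N25586 F265571) (tt N27930 (iv F270463)) (tt N26343 F265572) (tt N25576 F265573) (tt N25635 F265574) (tt N26592 F265575))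
theorem Q26755 : ∀ i, i < 26755 → P i := stepQ 26754 Q26754 (allL N26754 (tt N25998 F265576) (tt N27932 D60702) (tt N25572 (iv D59524)) (tt N25574 F265577) (tt N26570 F265578) (tt N25573 F265579) (tt N25909 F265580) (tt N25958 F265581) (tt N25767 F265582) (tt N26007 F265583))
theorem Q26756 : ∀ i, i < 26756 → P i := stepQ 26755 Q26755 (allL N26755 (tt N27933 D60703) (tt N25573 (iv D59525)) (tt N25966 F265584) (tt N25576 F265585) (tt N26343 F265586) (tt N27932 (iv F270479)) (tt N25586 F265587) (tt N26342 F265588) (tt N25769 F265589) (tt N26594 F265590))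
theorem Q26757 : ∀ i, i < 26757 → P i := stepQ 26756 Q26756 (allL N26756 (tt N27934 D60704) (tt N25574 (iv D59526)) (tt N25868 F265591) (tt N27932 (iv F270477)) (tt N27935 D60705) (tt N25576 F265592) (tt N25914 F265593) (tt N27930 (iv F270465)) (tt N25651 F265594) (tt N27927 (iv F270443)))
theorem Q26758 : ∀ i, i < 26758 → P i := stepQ 26757 Q26757 (allL N26757 (tt N26009 F265595) (tt N27935 (iv F270497)) (tt N25575 F265596) (tt N27936 D60706) (tt N25574 (iv D59527)) (tt N25592 F265597) (tt N25915 F265598) (tt N26561 F265599) (tt N25652 F265600) (tt N27928 (iv F270451)))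
theorem Q26759 : ∀ i, i < 26759 → P i := stepQ 26758 Q26758 (allL N26758 (tt N25576 (iv D59528)) (tt N26598 F265601) (tt N25870 F265602) (tt N27933 (iv F270486)) (tt N25593 F265603) (tt N27934 (iv F270494)) (tt N26337 F265604) (tt N27931 (iv F270473)) (tt N25653 F265605) (tt N27929 (iv F270459)))
theorem Q26760 : ∀ i, i < 26760 → P i := stepQ 26759 Q26759 (allL N26759 (tt N25989 F265606) (tt N26549 F265607) (tt N27936 (iv F270504)) (tt N25577 (iv D59529)) (tt N26532 F265608) (tt N25595 F265609) (tt N25919 F265610) (tt N26525 F265611) (tt N27937 D60707) (tt N26545 F265612))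
theorem Q26761 : ∀ i, i < 26761 → P i := stepQ 26760 Q26760 (allL N26760 (tt N26016 F265613) (tt N26139 F265614) (tt N25667 F265615) (tt N27937 (iv F270512)) (tt N26760 F265616) (tt N25596 F265617) (tt N25920 F265618) (tt N26039 F265619) (tt N25578 (iv D59530)) (tt N27938 D60708))
theorem Q26762 : ∀ i, i < 26762 → P i := stepQ 26761 Q26761 (allL N26761 (tt N27939 D60709) (tt N25579 (iv D59531)) (tt N25580 F265620) (tt N26562 F265621) (tt N26356 F265622) (tt N26576 F265623) (tt N26338 F265624) (tt N26584 F265625) (tt N25687 F265626) (tt N26347 F265627))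
theorem Q26763 : ∀ i, i < 26763 → P i := stepQ 26762 Q26762 (allL N26762 (tt N25580 (iv D59532)) (tt N25593 F265628) (tt N27939 (iv F270526)) (tt N26341 F265629) (tt N26598 F265630) (tt N26578 F265631) (tt N26340 F265632) (tt N26593 F265633) (tt N25707 F265634) (tt N26355 F265635))
theorem Q26764 : ∀ i, i < 26764 → P i := stepQ 26763 Q26763 (allL N26763 (tt N27940 D60710) (tt N25581 (iv D59533)) (tt N25945 F265636) (tt N26336 F265637) (tt N26592 F265638) (tt N26554 F265639) (tt N26594 F265640) (tt N25584 F265641) (tt N26720 F265642) (tt N25586 F265643))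
theorem Q26765 : ∀ i, i < 26765 → P i := stepQ 26764 Q26764 (allL N26764 (tt N27941 D60711) (tt N25582 (iv D59534)) (tt N25960 F265644) (tt N26339 F265645) (tt N27942 D60712) (tt N25584 F265646) (tt N26573 F265647) (tt N26554 F265648) (tt N26704 F265649) (tt N25591 F265650))
theorem Q26766 : ∀ i, i < 26766 → P i := stepQ 26765 Q26765 (allL N26765 (tt N26354 F265651) (tt N27942 (iv F270551)) (tt N25583 F265652) (tt N26544 F265653) (tt N25582 (iv D59535)) (tt N27928 (iv F270447)) (tt N26574 F265654) (tt N26555 F265655) (tt N26705 F265656) (tt N25592 F265657))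
theorem Q26767 : ∀ i, i < 26767 → P i := stepQ 26766 Q26766 (allL N26766 (tt N25584 (iv D59536)) (tt N26355 F265658) (tt N25962 F265659) (tt N26340 F265660) (tt N27929 (iv F270455)) (tt N27941 (iv F270546)) (tt N26341 F265661) (tt N27940 (iv F270540)) (tt N26721 F265662) (tt N25593 F265663))
theorem Q26768 : ∀ i, i < 26768 → P i := stepQ 26767 Q26767 (allL N26767 (tt N25586 (iv D59537)) (tt N26593 F265664) (tt N25978 F265665) (tt N26337 F265666) (tt N27931 (iv F270471)) (tt N26559 F265667) (tt N27933 (iv F270488)) (tt N25593 F265668) (tt N25784 F265669) (tt N27940 (iv F270542)))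
theorem Q26769 : ∀ i, i < 26769 → P i := stepQ 26768 Q26768 (allL N26768 (tt N25587 (iv D59538)) (tt N26341 F265670) (tt N26534 F265671) (tt N25593 F265672) (tt N26344 F265673) (tt N26558 F265674) (tt N26355 F265675) (tt N26337 F265676) (tt N26363 F265677) (tt N26340 F265678))
theorem Q26770 : ∀ i, i < 26770 → P i := stepQ 26769 Q26769 (allL N26769 (tt N25859 F265679) (tt N27943 D60713) (tt N25588 (iv D59539)) (tt N25900 F265680) (tt N26587 F265681) (tt N25938 F265682) (tt N25901 F265683) (tt N25589 F265684) (tt N25807 F265685) (tt N25964 F265686))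
theorem Q26771 : ∀ i, i < 26771 → P i := stepQ 26770 Q26770 (allL N26770 (tt N27944 D60714) (tt N25589 (iv D59540)) (tt N26008 F265687) (tt N26557 F265688) (tt N27945 D60715) (tt N26356 F265689) (tt N25591 F265690) (tt N27943 (iv F270563)) (tt N25809 F265691) (tt N26573 F265692))
theorem Q26772 : ∀ i, i < 26772 → P i := stepQ 26771 Q26771 (allL N26771 (tt N26572 F265693) (tt N27945 (iv F270573)) (tt N25590 F265694) (tt N26581 F265695) (tt N25589 (iv D59541)) (tt N26577 F265696) (tt N25592 F265697) (tt N26587 F265698) (tt N25810 F265699) (tt N26574 F265700))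
theorem Q26773 : ∀ i, i < 26773 → P i := stepQ 26772 Q26772 (allL N26772 (tt N25591 (iv D59542)) (tt N26578 F265701) (tt N26010 F265702) (tt N26558 F265703) (tt N27946 D60716) (tt N25593 F265704) (tt N27944 (iv F270570)) (tt N26559 F265705) (tt N25811 F265706) (tt N27941 (iv F270550)))
theorem Q26774 : ∀ i, i < 26774 → P i := stepQ 26773 Q26773 (allL N26773 (tt N27946 (iv F270581)) (tt N25592 F265707) (tt N26011 F265708) (tt N27947 D60717) (tt N25591 (iv D59543)) (tt N27935 (iv F270499)) (tt N27945 (iv F270577)) (tt N26560 F265709) (tt N25812 F265710) (tt N27942 (iv F270557)))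
theorem Q26775 : ∀ i, i < 26775 → P i := stepQ 26774 Q26774 (allL N26774 (tt N25988 F265711) (tt N27947 (iv F270586)) (tt N25595 F265712) (tt N25592 (iv D59544)) (tt N25980 F265713) (tt N27936 (iv F270506)) (tt N26581 F265714) (tt N26524 F265715) (tt N27948 D60718) (tt N26544 F265716))
theorem Q26776 : ∀ i, i < 26776 → P i := stepQ 26775 Q26775 (allL N26775 (tt N25906 F265717) (tt N25595 F265718) (tt N27949 D60719) (tt N25594 (iv D59545)) (tt N25902 F265719) (tt N26549 F265720) (tt N25865 F265721) (tt N25954 F265722) (tt N26117 F265723) (tt N25973 F265724))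
theorem Q26777 : ∀ i, i < 26777 → P i := stepQ 26776 Q26776 (allL N26776 (tt N25984 F265725) (tt N26117 F265726) (tt N27948 (iv F270592)) (tt N25596 F265727) (tt N25979 F265728) (tt N27937 (iv F270514)) (tt N26064 F265729) (tt N26038 F265730) (tt N25595 (iv D59546)) (tt N27950 D60720))
theorem Q26778 : ∀ i, i < 26778 → P i := stepQ 26777 Q26777 (allL N26777 (tt N26021 F265731) (tt N26102 F265732) (tt N25820 F265733) (tt N27950 (iv F270607)) (tt N25676 F265734) (tt N27938 (iv F270521)) (tt N25680 F265735) (tt N25841 F265736) (tt N26777 F265737) (tt N25596 (iv D59547)))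
theorem Q26779 : ∀ i, i < 26779 → P i := stepQ 26778 Q26778 (allL N26778 (tt N25732 F265738) (tt N26035 F265739) (tt N27951 D60721) (tt N25597 (iv D59548)) (tt N27952 D60722) (tt N25598 F265740) (tt N25990 F265741) (tt N25605 F265742) (tt N25612 F265743) (tt N25697 F265744))
theorem Q26780 : ∀ i, i < 26780 → P i := stepQ 26779 Q26779 (allL N26779 (tt N25733 F265745) (tt N27953 D60723) (tt N25598 (iv D59549)) (tt N26729 F265746) (tt N25717 F265747) (tt N27951 (iv F270614)) (tt N25690 F265748) (tt N25606 F265749) (tt N25613 F265750) (tt N25698 F265751))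
theorem Q26781 : ∀ i, i < 26781 → P i := stepQ 26780 Q26780 (allL N26780 (tt N26243 F265752) (tt N25603 F265753) (tt N27954 D60724) (tt N25599 (iv D59550)) (tt N27955 D60725) (tt N25930 F265754) (tt N25628 F265755) (tt N26112 F265756) (tt N25931 F265757) (tt N26376 F265758))
theorem Q26782 : ∀ i, i < 26782 → P i := stepQ 26781 Q26781 (allL N26781 (tt N26211 F265759) (tt N25721 F265760) (tt N25600 (iv D59551)) (tt N25658 F265761) (tt N27956 D60726) (tt N26781 F265762) (tt N25654 F265763) (tt N26135 F265764) (tt N26781 F265765) (tt N26307 F265766))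
theorem Q26783 : ∀ i, i < 26783 → P i := stepQ 26782 Q26782 (allL N26782 (tt N26302 F265767) (tt N25604 F265768) (tt N27956 (iv F270650)) (tt N27955 (iv F270643)) (tt N25600 (iv D59552)) (tt N27957 D60727) (tt N25655 F265769) (tt N26136 F265770) (tt N26782 F265771) (tt N26377 F265772))
theorem Q26784 : ∀ i, i < 26784 → P i := stepQ 26783 Q26783 (allL N26783 (tt N26426 F265773) (tt N25931 F265774) (tt N27958 D60728) (tt N25601 (iv D59553)) (tt N27959 D60729) (tt N25926 F265775) (tt N26333 F265776) (tt N26683 F265777) (tt N25603 F265778) (tt N26157 F265779))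
theorem Q26785 : ∀ i, i < 26785 → P i := stepQ 26784 Q26784 (allL N26784 (tt N26165 F265780) (tt N25930 F265781) (tt N27960 D60730) (tt N25602 (iv D59554)) (tt N27961 D60731) (tt N25603 F265782) (tt N26085 F265783) (tt N26269 F265784) (tt N25926 F265785) (tt N26268 F265786))
theorem Q26786 : ∀ i, i < 26786 → P i := stepQ 26785 Q26785 (allL N26785 (tt N26427 F265787) (tt N27962 D60732) (tt N25603 (iv D59555)) (tt N25606 F265788) (tt N27963 D60733) (tt N27960 (iv F270677)) (tt N26358 F265789) (tt N26729 F265790) (tt N27958 (iv F270666)) (tt N26378 F265791))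
theorem Q26787 : ∀ i, i < 26787 → P i := stepQ 26786 Q26786 (allL N26786 (tt N26428 F265792) (tt N27955 (iv F270642)) (tt N27963 (iv F270694)) (tt N25604 F265793) (tt N25603 (iv D59556)) (tt N27964 D60734) (tt N26359 F265794) (tt N26730 F265795) (tt N27959 (iv F270673)) (tt N26379 F265796))
theorem Q26788 : ∀ i, i < 26788 → P i := stepQ 26787 Q26787 (allL N26787 (tt N26429 F265797) (tt N27957 (iv F270656)) (tt N25727 F265798) (tt N27964 (iv F270700)) (tt N26787 F265799) (tt N25604 (iv D59557)) (tt N27965 D60735) (tt N26748 F265800) (tt N26787 F265801) (tt N26380 F265802))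
theorem Q26789 : ∀ i, i < 26789 → P i := stepQ 26788 Q26788 (allL N26788 (tt N26172 F265803) (tt N27966 D60736) (tt N25605 (iv D59558)) (tt N27960 (iv F270676)) (tt N27967 D60737) (tt N25606 F265804) (tt N26089 F265805) (tt N27951 (iv F270616)) (tt N25619 F265806) (tt N26381 F265807))
theorem Q26790 : ∀ i, i < 26790 → P i := stepQ 26789 Q26789 (allL N26789 (tt N26173 F265808) (tt N26041 F265809) (tt N27967 (iv F270715)) (tt N26789 F265810) (tt N25605 (iv D59559)) (tt N25729 F265811) (tt N26090 F265812) (tt N27952 (iv F270624)) (tt N25620 F265813) (tt N26382 F265814))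
theorem Q26791 : ∀ i, i < 26791 → P i := stepQ 26790 Q26790 (allL N26790 (tt N27968 D60738) (tt N25606 (iv D59560)) (tt N26042 F265815) (tt N27962 (iv F270689)) (tt N25730 F265816) (tt N27966 (iv F270710)) (tt N26360 F265817) (tt N27953 (iv F270631)) (tt N25621 F265818) (tt N26383 F265819))
theorem Q26792 : ∀ i, i < 26792 → P i := stepQ 26791 Q26791 (allL N26791 (tt N25717 F265820) (tt N27969 D60739) (tt N25607 (iv D59561)) (tt N26470 F265821) (tt N25733 F265822) (tt N26564 F265823) (tt N25613 F265824) (tt N25689 F265825) (tt N25690 F265826) (tt N25627 F265827))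
theorem Q26793 : ∀ i, i < 26793 → P i := stepQ 26792 Q26792 (allL N26792 (tt N26157 F265828) (tt N26387 F265829) (tt N27970 D60740) (tt N25608 (iv D59562)) (tt N27971 D60741) (tt N26153 F265830) (tt N26434 F265831) (tt N25615 F265832) (tt N25609 F265833) (tt N26426 F265834))
theorem Q26794 : ∀ i, i < 26794 → P i := stepQ 26793 Q26793 (allL N26793 (tt N26692 F265835) (tt N27972 D60742) (tt N25609 (iv D59563)) (tt N25613 F265836) (tt N27973 D60743) (tt N26384 F265837) (tt N26470 F265838) (tt N25616 F265839) (tt N27970 (iv F270739)) (tt N25629 F265840))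
theorem Q26795 : ∀ i, i < 26795 → P i := stepQ 26794 Q26794 (allL N26794 (tt N26693 F265841) (tt N26391 F265842) (tt N27973 (iv F270755)) (tt N25610 F265843) (tt N25609 (iv D59564)) (tt N27974 D60744) (tt N26471 F265844) (tt N25617 F265845) (tt N27971 (iv F270746)) (tt N25630 F265846))
theorem Q26796 : ∀ i, i < 26796 → P i := stepQ 26795 Q26795 (allL N26795 (tt N26420 F265847) (tt N26103 F265848) (tt N25739 F265849) (tt N27974 (iv F270762)) (tt N25622 F265850) (tt N25610 (iv D59565)) (tt N27975 D60745) (tt N25618 F265851) (tt N26795 F265852) (tt N25631 F265853))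
theorem Q26797 : ∀ i, i < 26797 → P i := stepQ 26796 Q26796 (allL N26796 (tt N26186 F265854) (tt N25840 F265855) (tt N27976 D60746) (tt N25611 (iv D59566)) (tt N27977 D60747) (tt N25950 F265856) (tt N25612 F265857) (tt N26094 F265858) (tt N25990 F265859) (tt N25632 F265860))
theorem Q26798 : ∀ i, i < 26798 → P i := stepQ 26797 Q26797 (allL N26797 (tt N26202 F265861) (tt N27978 D60748) (tt N25612 (iv D59567)) (tt N26384 F265862) (tt N27979 D60749) (tt N25613 F265863) (tt N27976 (iv F270777)) (tt N25619 F265864) (tt N27951 (iv F270617)) (tt N25633 F265865))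
theorem Q26799 : ∀ i, i < 26799 → P i := stepQ 26798 Q26798 (allL N26798 (tt N26203 F265866) (tt N26046 F265867) (tt N27979 (iv F270794)) (tt N25625 F265868) (tt N25612 (iv D59568)) (tt N25742 F265869) (tt N27977 (iv F270784)) (tt N25620 F265870) (tt N27952 (iv F270625)) (tt N25634 F265871))
theorem Q26800 : ∀ i, i < 26800 → P i := stepQ 26799 Q26799 (allL N26799 (tt N27980 D60750) (tt N25613 (iv D59569)) (tt N26047 F265872) (tt N27972 (iv F270749)) (tt N25743 F265873) (tt N27978 (iv F270790)) (tt N27969 (iv F270730)) (tt N25621 F265874) (tt N27953 (iv F270632)) (tt N25635 F265875))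
theorem Q26801 : ∀ i, i < 26801 → P i := stepQ 26800 Q26800 (allL N26800 (tt N26683 F265876) (tt N25724 F265877) (tt N27981 D60751) (tt N25614 (iv D59570)) (tt N27982 D60752) (tt N25720 F265878) (tt N25736 F265879) (tt N26426 F265880) (tt N25642 F265881) (tt N25615 F265882))
theorem Q26802 : ∀ i, i < 26802 → P i := stepQ 26801 Q26801 (allL N26801 (tt N26684 F265883) (tt N27983 D60753) (tt N25615 (iv D59571)) (tt N27958 (iv F270662)) (tt N27984 D60754) (tt N26398 F265884) (tt N26282 F265885) (tt N27970 (iv F270738)) (tt N25616 F265886) (tt N27981 (iv F270809)))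
theorem Q26803 : ∀ i, i < 26803 → P i := stepQ 26802 Q26802 (allL N26802 (tt N26685 F265887) (tt N26404 F265888) (tt N27984 (iv F270822)) (tt N26802 F265889) (tt N25615 (iv D59572)) (tt N27985 D60755) (tt N26276 F265890) (tt N27971 (iv F270745)) (tt N25617 F265891) (tt N27982 (iv F270816)))
theorem Q26804 : ∀ i, i < 26804 → P i := stepQ 26803 Q26803 (allL N26803 (tt N27986 D60756) (tt N25616 (iv D59573)) (tt N26408 F265892) (tt N25621 F265893) (tt N27987 D60757) (tt N26400 F265894) (tt N26293 F265895) (tt N27972 (iv F270752)) (tt N27983 (iv F270820)) (tt N25647 F265896))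
theorem Q26805 : ∀ i, i < 26805 → P i := stepQ 26804 Q26804 (allL N26804 (tt N26695 F265897) (tt N27987 (iv F270837)) (tt N25617 F265898) (tt N25753 F265899) (tt N25616 (iv D59574)) (tt N27988 D60758) (tt N26291 F265900) (tt N27973 (iv F270758)) (tt N27984 (iv F270824)) (tt N25648 F265901))
theorem Q26806 : ∀ i, i < 26806 → P i := stepQ 26805 Q26805 (allL N26805 (tt N26696 F265902) (tt N26104 F265903) (tt N27988 (iv F270843)) (tt N25618 F265904) (tt N26402 F265905) (tt N25617 (iv D59575)) (tt N26287 F265906) (tt N27974 (iv F270764)) (tt N27985 (iv F270830)) (tt N25649 F265907))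
theorem Q26807 : ∀ i, i < 26807 → P i := stepQ 26806 Q26806 (allL N26806 (tt N27989 D60759) (tt N25619 (iv D59576)) (tt N26048 F265908) (tt N26400 F265909) (tt N27990 D60760) (tt N25621 F265910) (tt N26098 F265911) (tt N27978 (iv F270791)) (tt N27966 (iv F270712)) (tt N25651 F265912))
theorem Q26808 : ∀ i, i < 26808 → P i := stepQ 26807 Q26807 (allL N26807 (tt N26205 F265913) (tt N27990 (iv F270854)) (tt N25620 F265914) (tt N27991 D60761) (tt N25619 (iv D59577)) (tt N25759 F265915) (tt N26099 F265916) (tt N27979 (iv F270796)) (tt N27967 (iv F270718)) (tt N25652 F265917))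
theorem Q26809 : ∀ i, i < 26809 → P i := stepQ 26808 Q26808 (allL N26808 (tt N25621 (iv D59578)) (tt N26700 F265918) (tt N26050 F265919) (tt N27986 (iv F270833)) (tt N25760 F265920) (tt N27989 (iv F270851)) (tt N26362 F265921) (tt N27980 (iv F270801)) (tt N27968 (iv F270724)) (tt N25653 F265922))
theorem Q26810 : ∀ i, i < 26810 → P i := stepQ 26809 Q26809 (allL N26809 (tt N25721 F265923) (tt N26101 F265924) (tt N25719 F265925) (tt N26154 F265926) (tt N27975 (iv F270769)) (tt N26809 F265927) (tt N25622 (iv D59579)) (tt N25927 F265928) (tt N26809 F265929) (tt N25657 F265930))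
theorem Q26811 : ∀ i, i < 26811 → P i := stepQ 26810 Q26810 (allL N26810 (tt N26209 F265931) (tt N25927 F265932) (tt N25623 (iv D59580)) (tt N26307 F265933) (tt N27992 D60762) (tt N26810 F265934) (tt N25624 F265935) (tt N26101 F265936) (tt N26810 F265937) (tt N25658 F265938))
theorem Q26812 : ∀ i, i < 26812 → P i := stepQ 26811 Q26811 (allL N26811 (tt N26210 F265939) (tt N25841 F265940) (tt N27992 (iv F270867)) (tt N27977 (iv F270783)) (tt N25623 (iv D59581)) (tt N27993 D60763) (tt N25625 F265941) (tt N26102 F265942) (tt N26811 F265943) (tt N25659 F265944))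
theorem Q26813 : ∀ i, i < 26813 → P i := stepQ 26812 Q26812 (allL N26812 (tt N26216 F265945) (tt N26313 F265946) (tt N25625 F265947) (tt N27994 D60764) (tt N25624 (iv D59582)) (tt N25762 F265948) (tt N27992 (iv F270868)) (tt N25626 F265949) (tt N26812 F265950) (tt N25660 F265951))
theorem Q26814 : ∀ i, i < 26814 → P i := stepQ 26813 Q26813 (allL N26813 (tt N26217 F265952) (tt N26287 F265953) (tt N27991 (iv F270860)) (tt N25626 (iv D59583)) (tt N26317 F265954) (tt N25764 F265955) (tt N26104 F265956) (tt N27994 (iv F270885)) (tt N27995 D60765) (tt N25663 F265957))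
theorem Q26815 : ∀ i, i < 26815 → P i := stepQ 26814 Q26814 (allL N26814 (tt N27996 D60766) (tt N25627 (iv D59584)) (tt N26054 F265958) (tt N26472 F265959) (tt N25769 F265960) (tt N26566 F265961) (tt N25635 F265962) (tt N26350 F265963) (tt N26343 F265964) (tt N27969 (iv F270733)))
theorem Q26816 : ∀ i, i < 26816 → P i := stepQ 26815 Q26815 (allL N26815 (tt N26283 F265965) (tt N27997 D60767) (tt N25628 (iv D59585)) (tt N25633 F265966) (tt N27998 D60768) (tt N25629 F265967) (tt N27954 (iv F270637)) (tt N25645 F265968) (tt N26455 F265969) (tt N26384 F265970))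
theorem Q26817 : ∀ i, i < 26817 → P i := stepQ 26816 Q26816 (allL N26816 (tt N26284 F265971) (tt N26359 F265972) (tt N27998 (iv F270908)) (tt N25655 F265973) (tt N25628 (iv D59586)) (tt N27999 D60769) (tt N27955 (iv F270644)) (tt N25646 F265974) (tt N26456 F265975) (tt N26385 F265976))
theorem Q26818 : ∀ i, i < 26818 → P i := stepQ 26817 Q26817 (allL N26817 (tt N28000 D60770) (tt N25629 (iv D59587)) (tt N26637 F265977) (tt N25635 F265978) (tt N28001 D60771) (tt N27997 (iv F270903)) (tt N26472 F265979) (tt N25647 F265980) (tt N26457 F265981) (tt N27972 (iv F270753)))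
theorem Q26819 : ∀ i, i < 26819 → P i := stepQ 26818 Q26818 (allL N26818 (tt N26738 F265982) (tt N28001 (iv F270925)) (tt N25630 F265983) (tt N25776 F265984) (tt N25629 (iv D59588)) (tt N28002 D60772) (tt N26473 F265985) (tt N25648 F265986) (tt N26458 F265987) (tt N27973 (iv F270759)))
theorem Q26820 : ∀ i, i < 26820 → P i := stepQ 26819 Q26819 (allL N26819 (tt N26741 F265988) (tt N26140 F265989) (tt N28002 (iv F270932)) (tt N25631 F265990) (tt N27999 (iv F270915)) (tt N25630 (iv D59589)) (tt N28003 D60773) (tt N25649 F265991) (tt N26459 F265992) (tt N27974 (iv F270765)))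
theorem Q26821 : ∀ i, i < 26821 → P i := stepQ 26820 Q26820 (allL N26820 (tt N26416 F265993) (tt N26138 F265994) (tt N25778 F265995) (tt N28003 (iv F270938)) (tt N25657 F265996) (tt N26520 F265997) (tt N25631 (iv D59590)) (tt N26160 F265998) (tt N25668 F265999) (tt N27975 (iv F270773)))
theorem Q26822 : ∀ i, i < 26822 → P i := stepQ 26821 Q26821 (allL N26821 (tt N26250 F266000) (tt N28004 D60774) (tt N25632 (iv D59591)) (tt N27954 (iv F270635)) (tt N28005 D60775) (tt N25951 F266001) (tt N25633 F266002) (tt N26116 F266003) (tt N25953 F266004) (tt N27976 (iv F270780)))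
theorem Q26823 : ∀ i, i < 26823 → P i := stepQ 26822 Q26822 (allL N26822 (tt N26251 F266005) (tt N26038 F266006) (tt N28005 (iv F270948)) (tt N25659 F266007) (tt N25632 (iv D59592)) (tt N28006 D60776) (tt N25634 F266008) (tt N26117 F266009) (tt N25954 F266010) (tt N27977 (iv F270787)))
theorem Q26824 : ∀ i, i < 26824 → P i := stepQ 26823 Q26823 (allL N26823 (tt N28007 D60777) (tt N25633 (iv D59593)) (tt N26056 F266011) (tt N27997 (iv F270902)) (tt N28008 D60778) (tt N25635 F266012) (tt N28004 (iv F270944)) (tt N25651 F266013) (tt N27930 (iv F270466)) (tt N27978 (iv F270792)))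
theorem Q26825 : ∀ i, i < 26825 → P i := stepQ 26824 Q26824 (allL N26824 (tt N26295 F266014) (tt N28008 (iv F270963)) (tt N25634 F266015) (tt N28009 D60779) (tt N25633 (iv D59594)) (tt N25783 F266016) (tt N28005 (iv F270949)) (tt N25652 F266017) (tt N26561 F266018) (tt N27979 (iv F270797)))
theorem Q26826 : ∀ i, i < 26826 → P i := stepQ 26825 Q26825 (allL N26825 (tt N25635 (iv D59595)) (tt N26747 F266019) (tt N26058 F266020) (tt N28000 (iv F270921)) (tt N25784 F266021) (tt N28007 (iv F270961)) (tt N27996 (iv F270898)) (tt N25653 F266022) (tt N27931 (iv F270474)) (tt N27980 (iv F270802)))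
theorem Q26827 : ∀ i, i < 26827 → P i := stepQ 26826 Q26826 (allL N26826 (tt N26121 F266023) (tt N25642 F266024) (tt N28010 D60780) (tt N25636 (iv D59596)) (tt N28011 D60781) (tt N25723 F266025) (tt N25734 F266026) (tt N26332 F266027) (tt N25724 F266028) (tt N25637 F266029))
theorem Q26828 : ∀ i, i < 26828 → P i := stepQ 26827 Q26827 (allL N26827 (tt N26445 F266030) (tt N28012 D60782) (tt N25637 (iv D59597)) (tt N26220 F266031) (tt N28013 D60783) (tt N26371 F266032) (tt N25772 F266033) (tt N26281 F266034) (tt N25638 F266035) (tt N28010 (iv F270979)))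
theorem Q26829 : ∀ i, i < 26829 → P i := stepQ 26828 Q26828 (allL N26828 (tt N26070 F266036) (tt N25644 F266037) (tt N28013 (iv F270995)) (tt N25670 F266038) (tt N25637 (iv D59598)) (tt N26142 (iv F266042)) (tt N25773 F266039) (tt N26024 F266040) (tt N25639 F266041) (tt N28011 (iv F270986)))
theorem Q26830 : ∀ i, i < 26830 → P i := stepQ 26829 Q26829 (allL N26829 (tt N28014 D60784) (tt N25638 (iv D59599)) (tt N25647 F266043) (tt N26059 F266044) (tt N28015 D60785) (tt N26373 F266045) (tt N26365 F266046) (tt N26637 F266047) (tt N28012 (iv F270993)) (tt N26408 F266048))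
theorem Q26831 : ∀ i, i < 26831 → P i := stepQ 26830 Q26830 (allL N26830 (tt N26069 F266049) (tt N28015 (iv F271008)) (tt N25639 F266050) (tt N26033 F266051) (tt N25638 (iv D59600)) (tt N26134 (iv F266055)) (tt N26366 F266052) (tt N26638 F266053) (tt N28013 (iv F270999)) (tt N26409 F266054))
theorem Q26832 : ∀ i, i < 26832 → P i := stepQ 26831 Q26831 (allL N26831 (tt N26269 F266056) (tt N25723 F266057) (tt N28016 D60786) (tt N25640 (iv D59601)) (tt N28017 D60787) (tt N25642 F266058) (tt N26124 F266059) (tt N26165 F266060) (tt N25720 F266061) (tt N25641 F266062))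
theorem Q26833 : ∀ i, i < 26833 → P i := stepQ 26832 Q26832 (allL N26832 (tt N26270 F266063) (tt N28018 D60788) (tt N25641 (iv D59602)) (tt N25767 F266064) (tt N28019 D60789) (tt N25643 F266065) (tt N26125 F266066) (tt N26455 F266067) (tt N25645 F266068) (tt N28016 (iv F271021)))
theorem Q26834 : ∀ i, i < 26834 → P i := stepQ 26833 Q26833 (allL N26833 (tt N26271 F266069) (tt N26372 F266070) (tt N28019 (iv F271036)) (tt N26833 F266071) (tt N25641 (iv D59603)) (tt N28020 D60790) (tt N26126 F266072) (tt N26456 F266073) (tt N25646 F266074) (tt N28017 (iv F271028)))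
theorem Q26835 : ∀ i, i < 26835 → P i := stepQ 26834 Q26834 (allL N26834 (tt N26729 F266075) (tt N28021 D60791) (tt N25642 (iv D59604)) (tt N25733 F266076) (tt N28022 D60792) (tt N28016 (iv F271017)) (tt N25737 F266077) (tt N26427 F266078) (tt N27981 (iv F270808)) (tt N25643 F266079))
theorem Q26836 : ∀ i, i < 26836 → P i := stepQ 26835 Q26835 (allL N26835 (tt N26730 F266080) (tt N28011 (iv F270981)) (tt N28022 (iv F271052)) (tt N25671 F266081) (tt N25642 (iv D59605)) (tt N28023 D60793) (tt N25738 F266082) (tt N26428 F266083) (tt N27982 (iv F270815)) (tt N25644 F266084))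
theorem Q26837 : ∀ i, i < 26837 → P i := stepQ 26836 Q26836 (allL N26836 (tt N28024 D60794) (tt N25643 (iv D59606)) (tt N28012 (iv F270988)) (tt N25769 F266085) (tt N28025 D60795) (tt N28018 (iv F271031)) (tt N25775 F266086) (tt N26457 F266087) (tt N25647 F266088) (tt N28021 (iv F271050)))
theorem Q26838 : ∀ i, i < 26838 → P i := stepQ 26837 Q26837 (allL N26837 (tt N26732 F266089) (tt N28025 (iv F271067)) (tt N25644 F266090) (tt N26473 F266091) (tt N25643 (iv D59607)) (tt N28026 D60796) (tt N25776 F266092) (tt N26458 F266093) (tt N25648 F266094) (tt N28022 (iv F271056)))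
theorem Q26839 : ∀ i, i < 26839 → P i := stepQ 26838 Q26838 (allL N26838 (tt N26733 F266095) (tt N26142 F266096) (tt N28026 (iv F271073)) (tt N25672 F266097) (tt N28020 (iv F271043)) (tt N25644 (iv D59608)) (tt N28027 D60797) (tt N26459 F266098) (tt N25649 F266099) (tt N28023 (iv F271061)))
theorem Q26840 : ∀ i, i < 26840 → P i := stepQ 26839 Q26839 (allL N26839 (tt N28028 D60798) (tt N25645 (iv D59609)) (tt N26373 F266100) (tt N25651 F266101) (tt N28029 D60799) (tt N25647 F266102) (tt N26129 F266103) (tt N27997 (iv F270904)) (tt N28018 (iv F271034)) (tt N26400 F266104))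
theorem Q26841 : ∀ i, i < 26841 → P i := stepQ 26840 Q26840 (allL N26840 (tt N26286 F266105) (tt N28029 (iv F271090)) (tt N25646 F266106) (tt N28030 D60800) (tt N25645 (iv D59610)) (tt N28031 D60801) (tt N26130 F266107) (tt N27998 (iv F270909)) (tt N28019 (iv F271039)) (tt N26401 F266108))
theorem Q26842 : ∀ i, i < 26842 → P i := stepQ 26841 Q26841 (allL N26841 (tt N26287 F266109) (tt N26141 F266110) (tt N28031 (iv F271101)) (tt N25662 F266111) (tt N25649 F266112) (tt N25646 (iv D59611)) (tt N26696 F266113) (tt N27999 (iv F270916)) (tt N28020 (iv F271046)) (tt N26402 F266114))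
theorem Q26843 : ∀ i, i < 26843 → P i := stepQ 26842 Q26842 (allL N26842 (tt N25647 (iv D59612)) (tt N26742 F266115) (tt N28014 (iv F271002)) (tt N25653 F266116) (tt N28032 D60802) (tt N28028 (iv F271087)) (tt N26367 F266117) (tt N28000 (iv F270923)) (tt N28024 (iv F271066)) (tt N27986 (iv F270836)))
theorem Q26844 : ∀ i, i < 26844 → P i := stepQ 26843 Q26843 (allL N26843 (tt N28032 (iv F271106)) (tt N25648 F266118) (tt N28015 (iv F271009)) (tt N25804 F266119) (tt N25647 (iv D59613)) (tt N28033 D60803) (tt N26368 F266120) (tt N28001 (iv F270929)) (tt N28025 (iv F271071)) (tt N27987 (iv F270841)))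
theorem Q26845 : ∀ i, i < 26845 → P i := stepQ 26844 Q26844 (allL N26844 (tt N26728 F266121) (tt N28033 (iv F271110)) (tt N25649 F266122) (tt N25805 F266123) (tt N28031 (iv F271103)) (tt N25648 (iv D59614)) (tt N28034 D60804) (tt N28002 (iv F270934)) (tt N28026 (iv F271076)) (tt N27988 (iv F270847)))
theorem Q26846 : ∀ i, i < 26846 → P i := stepQ 26845 Q26845 (allL N26845 (tt N26402 F266124) (tt N25663 F266125) (tt N28034 (iv F271114)) (tt N25650 F266126) (tt N26696 F266127) (tt N25818 F266128) (tt N25649 (iv D59615)) (tt N26658 (iv F266130)) (tt N28027 (iv F271082)) (tt N26287 F266129))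
theorem Q26847 : ∀ i, i < 26847 → P i := stepQ 26846 Q26846 (allL N26846 (tt N25651 (iv D59616)) (tt N26296 F266131) (tt N26067 F266132) (tt N28028 (iv F271086)) (tt N28035 D60805) (tt N25653 F266133) (tt N26132 F266134) (tt N28007 (iv F270962)) (tt N27934 (iv F270496)) (tt N27989 (iv F270853)))
theorem Q26848 : ∀ i, i < 26848 → P i := stepQ 26847 Q26847 (allL N26847 (tt N28035 (iv F271120)) (tt N25652 F266135) (tt N26068 F266136) (tt N28036 D60806) (tt N25651 (iv D59617)) (tt N25812 F266137) (tt N26133 F266138) (tt N28008 (iv F270966)) (tt N27935 (iv F270502)) (tt N27990 (iv F270858)))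
theorem Q26849 : ∀ i, i < 26849 → P i := stepQ 26848 Q26848 (allL N26848 (tt N26298 F266139) (tt N28036 (iv F271125)) (tt N25663 F266140) (tt N25652 (iv D59618)) (tt N28030 (iv F271096)) (tt N25813 F266141) (tt N26134 F266142) (tt N28009 (iv F270971)) (tt N28037 D60807) (tt N27991 (iv F270864)))
theorem Q26850 : ∀ i, i < 26850 → P i := stepQ 26849 Q26849 (allL N26849 (tt N26214 F266143) (tt N26420 F266144) (tt N25655 F266145) (tt N28038 D60808) (tt N25654 (iv D59619)) (tt N26518 F266146) (tt N27956 (iv F270651)) (tt N25661 F266147) (tt N26849 F266148) (tt N26310 F266149))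
theorem Q26851 : ∀ i, i < 26851 → P i := stepQ 26850 Q26850 (allL N26850 (tt N26313 F266150) (tt N26137 F266151) (tt N26518 F266152) (tt N27999 (iv F270914)) (tt N25656 F266153) (tt N25655 (iv D59620)) (tt N28039 D60809) (tt N25662 F266154) (tt N26850 F266155) (tt N26386 F266156))
theorem Q26852 : ∀ i, i < 26852 → P i := stepQ 26851 Q26851 (allL N26851 (tt N25927 F266157) (tt N26135 F266158) (tt N25710 F266159) (tt N25657 F266160) (tt N28039 (iv F271143)) (tt N26851 F266161) (tt N25656 (iv D59621)) (tt N25721 F266162) (tt N26851 F266163) (tt N26154 F266164))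
theorem Q26853 : ∀ i, i < 26853 → P i := stepQ 26852 Q26852 (allL N26852 (tt N26306 F266165) (tt N26160 F266166) (tt N25659 F266167) (tt N28040 D60810) (tt N25658 (iv D59622)) (tt N26324 (iv F266171)) (tt N25660 F266168) (tt N26138 F266169) (tt N25664 F266170) (tt N27992 (iv F270871)))
theorem Q26854 : ∀ i, i < 26854 → P i := stepQ 26853 Q26853 (allL N26853 (tt N26018 F266172) (tt N26039 F266173) (tt N26324 F266174) (tt N28006 (iv F270954)) (tt N26853 F266175) (tt N25659 (iv D59623)) (tt N25815 F266176) (tt N26139 F266177) (tt N25665 F266178) (tt N27993 (iv F270880)))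
theorem Q26855 : ∀ i, i < 26855 → P i := stepQ 26854 Q26854 (allL N26854 (tt N26315 F266179) (tt N26658 F266180) (tt N28009 (iv F270969)) (tt N25660 (iv D59624)) (tt N28038 (iv F271135)) (tt N25817 F266181) (tt N28040 (iv F271150)) (tt N25663 F266182) (tt N26170 F266183) (tt N27994 (iv F270886)))
theorem Q26856 : ∀ i, i < 26856 → P i := stepQ 26855 Q26855 (allL N26855 (tt N26218 F266184) (tt N26696 F266185) (tt N28030 (iv F271095)) (tt N25661 (iv D59625)) (tt N25663 F266186) (tt N26483 F266187) (tt N26141 F266188) (tt N28038 (iv F271137)) (tt N28041 D60811) (tt N26317 F266189))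
theorem Q26857 : ∀ i, i < 26857 → P i := stepQ 26856 Q26856 (allL N26856 (tt N26316 F266190) (tt N28027 (iv F271078)) (tt N28037 (iv F271129)) (tt N25667 F266191) (tt N28041 (iv F271156)) (tt N25819 F266192) (tt N26142 F266193) (tt N26170 F266194) (tt N25663 (iv D59626)) (tt N28042 D60812))
theorem Q26858 : ∀ i, i < 26858 → P i := stepQ 26857 Q26857 (allL N26857 (tt N26417 F266195) (tt N25667 F266196) (tt N26520 F266197) (tt N28027 (iv F271079)) (tt N26857 F266198) (tt N25778 F266199) (tt N25672 F266200) (tt N26161 F266201) (tt N25666 (iv D59627)) (tt N28043 D60813))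
theorem Q26859 : ∀ i, i < 26859 → P i := stepQ 26858 Q26858 (allL N26858 (tt N26328 F266202) (tt N28043 (iv F271166)) (tt N27938 (iv F270519)) (tt N28042 (iv F271161)) (tt N26858 F266203) (tt N25820 F266204) (tt N26144 F266205) (tt N25934 F266206) (tt N26858 F266207) (tt N25667 (iv D59628)))
theorem Q26860 : ∀ i, i < 26860 → P i := stepQ 26859 Q26859 (allL N26859 (tt N26071 F266208) (tt N25671 F266209) (tt N26020 F266210) (tt N28011 (iv F270982)) (tt N25669 (iv D59629)) (tt N26144 (iv F266215)) (tt N25735 F266211) (tt N26022 F266212) (tt N26859 F266213) (tt N25670 F266214))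
theorem Q26861 : ∀ i, i < 26861 → P i := stepQ 26860 Q26860 (allL N26860 (tt N26748 F266216) (tt N26144 F266217) (tt N26519 F266218) (tt N28023 (iv F271059)) (tt N26860 F266219) (tt N25671 (iv D59630)) (tt N28043 (iv F271170)) (tt N26429 F266220) (tt N26860 F266221) (tt N25672 F266222))
theorem Q26862 : ∀ i, i < 26862 → P i := stepQ 26861 Q26861 (allL N26861 (tt N26072 F266223) (tt N28044 D60814) (tt N25673 (iv D59631)) (tt N26063 F266224) (tt N26145 F266225) (tt N26075 F266226) (tt N26036 F266227) (tt N25674 F266228) (tt N26044 F266229) (tt N25681 F266230))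
theorem Q26863 : ∀ i, i < 26863 → P i := stepQ 26862 Q26862 (allL N26862 (tt N28045 D60815) (tt N25674 (iv D59632)) (tt N25696 F266231) (tt N26065 F266232) (tt N26453 F266233) (tt N26080 F266234) (tt N26061 F266235) (tt N28044 (iv F271178)) (tt N26604 F266236) (tt N25687 F266237))
theorem Q26864 : ∀ i, i < 26864 → P i := stepQ 26863 Q26863 (allL N26863 (tt N25982 F266238) (tt N26094 F266239) (tt N28046 D60816) (tt N25675 (iv D59633)) (tt N27950 (iv F270608)) (tt N26527 F266240) (tt N25679 F266241) (tt N25840 F266242) (tt N26535 F266243) (tt N25979 F266244))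
theorem Q26865 : ∀ i, i < 26865 → P i := stepQ 26864 Q26864 (allL N26864 (tt N25847 F266245) (tt N25697 F266246) (tt N28047 D60817) (tt N25677 (iv D59634)) (tt N28048 D60818) (tt N25678 F266247) (tt N25981 F266248) (tt N25842 F266249) (tt N25826 F266250) (tt N26035 F266251))
theorem Q26866 : ∀ i, i < 26866 → P i := stepQ 26865 Q26865 (allL N26865 (tt N26074 F266252) (tt N28049 D60819) (tt N25678 (iv D59635)) (tt N28046 (iv F271190)) (tt N25925 F266253) (tt N28047 (iv F271198)) (tt N25681 F266254) (tt N25843 F266255) (tt N25844 F266256) (tt N26036 F266257))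
theorem Q26867 : ∀ i, i < 26867 → P i := stepQ 26866 Q26866 (allL N26866 (tt N26075 F266258) (tt N28050 D60820) (tt N25679 (iv D59636)) (tt N25681 F266259) (tt N28051 D60821) (tt N26072 F266260) (tt N28046 (iv F271192)) (tt N25683 F266261) (tt N26607 F266262) (tt N26063 F266263))
theorem Q26868 : ∀ i, i < 26868 → P i := stepQ 26867 Q26867 (allL N26867 (tt N26076 F266264) (tt N26096 F266265) (tt N28051 (iv F271224)) (tt N25680 F266266) (tt N25679 (iv D59637)) (tt N26616 F266267) (tt N27950 (iv F270609)) (tt N25684 F266268) (tt N26608 F266269) (tt N26064 F266270))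
theorem Q26869 : ∀ i, i < 26869 → P i := stepQ 26868 Q26868 (allL N26868 (tt N28052 D60822) (tt N25681 (iv D59638)) (tt N25699 F266271) (tt N28050 (iv F271218)) (tt N26516 F266272) (tt N26582 F266273) (tt N28049 (iv F271213)) (tt N25687 F266274) (tt N26584 F266275) (tt N28044 (iv F271180)))
theorem Q26870 : ∀ i, i < 26870 → P i := stepQ 26869 Q26869 (allL N26869 (tt N26078 F266276) (tt N28053 D60823) (tt N25682 (iv D59639)) (tt N26052 F266277) (tt N28054 D60824) (tt N26051 F266278) (tt N26040 F266279) (tt N26607 F266280) (tt N25683 F266281) (tt N26599 F266282))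
theorem Q26871 : ∀ i, i < 26871 → P i := stepQ 26870 Q26870 (allL N26870 (tt N26079 F266283) (tt N26090 F266284) (tt N28054 (iv F271244)) (tt N26870 F266285) (tt N25682 (iv D59640)) (tt N26627 F266286) (tt N26041 F266287) (tt N26608 F266288) (tt N25684 F266289) (tt N26600 F266290))
theorem Q26872 : ∀ i, i < 26872 → P i := stepQ 26871 Q26871 (allL N26871 (tt N28055 D60825) (tt N25683 (iv D59641)) (tt N26098 F266291) (tt N25687 F266292) (tt N28056 D60826) (tt N26073 F266293) (tt N26048 F266294) (tt N28050 (iv F271220)) (tt N28053 (iv F271241)) (tt N26065 F266295))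
theorem Q26873 : ∀ i, i < 26873 → P i := stepQ 26872 Q26872 (allL N26872 (tt N26081 F266296) (tt N28056 (iv F271256)) (tt N25684 F266297) (tt N26511 F266298) (tt N25683 (iv D59642)) (tt N26630 F266299) (tt N26049 F266300) (tt N28051 (iv F271227)) (tt N28054 (iv F271248)) (tt N26066 F266301))
theorem Q26874 : ∀ i, i < 26874 → P i := stepQ 26873 Q26873 (allL N26873 (tt N28057 D60827) (tt N25685 (iv D59643)) (tt N25705 F266302) (tt N26073 F266303) (tt N28058 D60828) (tt N25687 F266304) (tt N26032 F266305) (tt N26582 F266306) (tt N26576 F266307) (tt N26080 F266308))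
theorem Q26875 : ∀ i, i < 26875 → P i := stepQ 26874 Q26874 (allL N26874 (tt N26066 F266309) (tt N28058 (iv F271270)) (tt N25686 F266310) (tt N26366 F266311) (tt N25685 (iv D59644)) (tt N25810 F266312) (tt N26033 F266313) (tt N26583 F266314) (tt N26577 F266315) (tt N26081 F266316))
theorem Q26876 : ∀ i, i < 26876 → P i := stepQ 26875 Q26875 (allL N26875 (tt N25687 (iv D59645)) (tt N26082 F266317) (tt N25707 F266318) (tt N28055 (iv F271252)) (tt N26517 F266319) (tt N28057 (iv F271265)) (tt N26370 F266320) (tt N28052 (iv F271234)) (tt N27939 (iv F270532)) (tt N28045 (iv F271188)))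
theorem Q26877 : ∀ i, i < 26877 → P i := stepQ 26876 Q26876 (allL N26876 (tt N25728 F266321) (tt N28059 D60829) (tt N25688 (iv D59646)) (tt N26498 F266322) (tt N28060 D60830) (tt N25689 F266323) (tt N26626 F266324) (tt N26564 F266325) (tt N25694 F266326) (tt N26348 F266327))
theorem Q26878 : ∀ i, i < 26878 → P i := stepQ 26877 Q26877 (allL N26877 (tt N25729 F266328) (tt N26079 F266329) (tt N28060 (iv F271286)) (tt N26877 F266330) (tt N25688 (iv D59647)) (tt N26173 F266331) (tt N26627 F266332) (tt N26565 F266333) (tt N25695 F266334) (tt N26349 F266335))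
theorem Q26879 : ∀ i, i < 26879 → P i := stepQ 26878 Q26878 (allL N26878 (tt N28061 D60831) (tt N25689 (iv D59648)) (tt N26604 F266336) (tt N26502 F266337) (tt N26430 F266338) (tt N28059 (iv F271280)) (tt N26361 F266339) (tt N27969 (iv F270731)) (tt N25696 F266340) (tt N26350 F266341))
theorem Q26880 : ∀ i, i < 26880 → P i := stepQ 26879 Q26879 (allL N26879 (tt N28062 D60832) (tt N25690 (iv D59649)) (tt N28044 (iv F271173)) (tt N26734 F266342) (tt N26699 F266343) (tt N26588 F266344) (tt N27953 (iv F270630)) (tt N25696 F266345) (tt N27969 (iv F270732)) (tt N25699 F266346))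
theorem Q26881 : ∀ i, i < 26881 → P i := stepQ 26880 Q26880 (allL N26880 (tt N25749 F266347) (tt N28063 D60833) (tt N25691 (iv D59650)) (tt N26446 F266348) (tt N28064 D60834) (tt N26122 F266349) (tt N26371 F266350) (tt N26686 F266351) (tt N25692 F266352) (tt N26421 F266353))
theorem Q26882 : ∀ i, i < 26882 → P i := stepQ 26881 Q26881 (allL N26881 (tt N25750 F266354) (tt N26126 F266355) (tt N28064 (iv F271313)) (tt N26881 F266356) (tt N25691 (iv D59651)) (tt N26678 F266357) (tt N26372 F266358) (tt N26687 F266359) (tt N25693 F266360) (tt N26422 F266361))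
theorem Q26883 : ∀ i, i < 26883 → P i := stepQ 26882 Q26882 (allL N26882 (tt N28065 D60835) (tt N25692 (iv D59652)) (tt N26129 F266362) (tt N25696 F266363) (tt N28066 D60836) (tt N26123 F266364) (tt N26373 F266365) (tt N26734 F266366) (tt N28063 (iv F271310)) (tt N25700 F266367))
theorem Q26884 : ∀ i, i < 26884 → P i := stepQ 26883 Q26883 (allL N26883 (tt N25753 F266368) (tt N28066 (iv F271326)) (tt N25693 F266369) (tt N26695 F266370) (tt N25692 (iv D59653)) (tt N26681 F266371) (tt N26374 F266372) (tt N26735 F266373) (tt N28064 (iv F271317)) (tt N25701 F266374))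
theorem Q26885 : ∀ i, i < 26885 → P i := stepQ 26884 Q26884 (allL N26884 (tt N28067 D60837) (tt N25694 (iv D59654)) (tt N26080 F266375) (tt N26123 F266376) (tt N28068 D60838) (tt N25696 F266377) (tt N26629 F266378) (tt N26588 F266379) (tt N28059 (iv F271283)) (tt N25705 F266380))
theorem Q26886 : ∀ i, i < 26886 → P i := stepQ 26885 Q26885 (allL N26885 (tt N25759 F266381) (tt N28068 (iv F271340)) (tt N25695 F266382) (tt N26444 F266383) (tt N25694 (iv D59655)) (tt N26205 F266384) (tt N26630 F266385) (tt N26589 F266386) (tt N28060 (iv F271290)) (tt N25706 F266387))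
theorem Q26887 : ∀ i, i < 26887 → P i := stepQ 26886 Q26886 (allL N26886 (tt N25696 (iv D59656)) (tt N25760 F266388) (tt N28045 (iv F271182)) (tt N28065 (iv F271321)) (tt N26700 F266389) (tt N28067 (iv F271336)) (tt N26375 F266390) (tt N28062 (iv F271303)) (tt N28061 (iv F271297)) (tt N25707 F266391))
theorem Q26888 : ∀ i, i < 26888 → P i := stepQ 26887 Q26887 (allL N26887 (tt N25767 F266392) (tt N28069 D60839) (tt N25697 (iv D59657)) (tt N26270 F266393) (tt N28070 D60840) (tt N25698 F266394) (tt N25991 F266395) (tt N26381 F266396) (tt N25998 F266397) (tt N27951 (iv F270618)))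
theorem Q26889 : ∀ i, i < 26889 → P i := stepQ 26888 Q26888 (allL N26888 (tt N25768 F266398) (tt N28048 (iv F271204)) (tt N28070 (iv F271353)) (tt N26888 F266399) (tt N25697 (iv D59658)) (tt N26553 F266400) (tt N25992 F266401) (tt N26382 F266402) (tt N25999 F266403) (tt N27952 (iv F270626)))
theorem Q26890 : ∀ i, i < 26890 → P i := stepQ 26889 Q26889 (allL N26889 (tt N28071 D60841) (tt N25698 (iv D59659)) (tt N28049 (iv F271211)) (tt N26731 F266404) (tt N26720 F266405) (tt N28069 (iv F271348)) (tt N25699 F266406) (tt N26383 F266407) (tt N26592 F266408) (tt N27953 (iv F270633)))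
theorem Q26891 : ∀ i, i < 26891 → P i := stepQ 26890 Q26890 (allL N26890 (tt N25699 (iv D59660)) (tt N25784 F266409) (tt N28052 (iv F271231)) (tt N26736 F266410) (tt N26747 F266411) (tt N26590 F266412) (tt N28071 (iv F271361)) (tt N25707 F266413) (tt N26593 F266414) (tt N28062 (iv F271304)))
theorem Q26892 : ∀ i, i < 26892 → P i := stepQ 26891 Q26891 (allL N26891 (tt N25700 (iv D59661)) (tt N25803 F266415) (tt N26746 F266416) (tt N25707 F266417) (tt N28072 D60842) (tt N26712 F266418) (tt N26410 F266419) (tt N26736 F266420) (tt N26713 F266421) (tt N28065 (iv F271325)))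
theorem Q26893 : ∀ i, i < 26893 → P i := stepQ 26892 Q26892 (allL N26892 (tt N28072 (iv F271364)) (tt N25701 F266422) (tt N26745 F266423) (tt N26743 F266424) (tt N25700 (iv D59662)) (tt N26727 F266425) (tt N26411 F266426) (tt N26737 F266427) (tt N26714 F266428) (tt N28066 (iv F271332)))
theorem Q26894 : ∀ i, i < 26894 → P i := stepQ 26893 Q26893 (allL N26893 (tt N25807 F266429) (tt N28073 D60843) (tt N25702 (iv D59663)) (tt N26221 F266430) (tt N28074 D60844) (tt N26026 F266431) (tt N25970 F266432) (tt N25703 F266433) (tt N25859 F266434) (tt N26615 F266435))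
theorem Q26895 : ∀ i, i < 26895 → P i := stepQ 26894 Q26894 (allL N26894 (tt N25808 F266436) (tt N25862 F266437) (tt N28074 (iv F271380)) (tt N25708 F266438) (tt N25702 (iv D59664)) (tt N26064 F266439) (tt N25971 F266440) (tt N25704 F266441) (tt N25860 F266442) (tt N26616 F266443))
theorem Q26896 : ∀ i, i < 26896 → P i := stepQ 26895 Q26895 (allL N26895 (tt N28075 D60845) (tt N25703 (iv D59665)) (tt N26032 F266444) (tt N26267 F266445) (tt N28076 D60846) (tt N26029 F266446) (tt N25705 F266447) (tt N28073 (iv F271376)) (tt N26571 F266448) (tt N26629 F266449))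
theorem Q26897 : ∀ i, i < 26897 → P i := stepQ 26896 Q26896 (allL N26896 (tt N25810 F266450) (tt N28076 (iv F271394)) (tt N25704 F266451) (tt N25793 F266452) (tt N25703 (iv D59666)) (tt N26066 F266453) (tt N25706 F266454) (tt N28074 (iv F271384)) (tt N26572 F266455) (tt N26630 F266456))
theorem Q26898 : ∀ i, i < 26898 → P i := stepQ 26897 Q26897 (allL N26897 (tt N25705 (iv D59667)) (tt N25811 F266457) (tt N28057 (iv F271263)) (tt N26712 F266458) (tt N28077 D60847) (tt N25707 F266459) (tt N28075 (iv F271391)) (tt N26590 F266460) (tt N26578 F266461) (tt N28067 (iv F271339)))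
theorem Q26899 : ∀ i, i < 26899 → P i := stepQ 26898 Q26898 (allL N26898 (tt N28077 (iv F271401)) (tt N25706 F266462) (tt N28058 (iv F271271)) (tt N26495 F266463) (tt N25705 (iv D59668)) (tt N26297 F266464) (tt N28076 (iv F271398)) (tt N26591 F266465) (tt N26579 F266466) (tt N28068 (iv F271346)))
theorem Q26900 : ∀ i, i < 26900 → P i := stepQ 26899 Q26899 (allL N26899 (tt N25926 F266467) (tt N25713 F266468) (tt N28078 D60848) (tt N25709 (iv D59669)) (tt N28079 D60849) (tt N26426 F266469) (tt N26162 F266470) (tt N25720 F266471) (tt N26165 F266472) (tt N26153 F266473))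
theorem Q26901 : ∀ i, i < 26901 → P i := stepQ 26900 Q26900 (allL N26900 (tt N25928 F266474) (tt N25714 F266475) (tt N28039 (iv F271142)) (tt N28079 (iv F271416)) (tt N25710 (iv D59670)) (tt N28080 D60850) (tt N26518 F266476) (tt N25722 F266477) (tt N26900 F266478) (tt N26155 F266479))
theorem Q26902 : ∀ i, i < 26902 → P i := stepQ 26901 Q26901 (allL N26901 (tt N26434 F266480) (tt N26165 F266481) (tt N28081 D60851) (tt N25711 (iv D59671)) (tt N28082 D60852) (tt N26332 F266482) (tt N26157 F266483) (tt N25723 F266484) (tt N25713 F266485) (tt N26333 F266486))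
theorem Q26903 : ∀ i, i < 26903 → P i := stepQ 26902 Q26902 (allL N26902 (tt N26467 F266487) (tt N26426 F266488) (tt N28083 D60853) (tt N25712 (iv D59672)) (tt N28084 D60854) (tt N25713 F266489) (tt N26431 F266490) (tt N25724 F266491) (tt N26332 F266492) (tt N26387 F266493))
theorem Q26904 : ∀ i, i < 26904 → P i := stepQ 26903 Q26903 (allL N26903 (tt N26470 F266494) (tt N28085 D60855) (tt N25713 (iv D59673)) (tt N25717 F266495) (tt N28086 D60856) (tt N28083 (iv F271443)) (tt N26692 F266496) (tt N25725 F266497) (tt N28081 (iv F271432)) (tt N26388 F266498))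
theorem Q26905 : ∀ i, i < 26905 → P i := stepQ 26904 Q26904 (allL N26904 (tt N26471 F266499) (tt N28079 (iv F271415)) (tt N28086 (iv F271460)) (tt N25714 F266500) (tt N25713 (iv D59674)) (tt N28087 D60857) (tt N26693 F266501) (tt N25726 F266502) (tt N28082 (iv F271439)) (tt N26389 F266503))
theorem Q26906 : ∀ i, i < 26906 → P i := stepQ 26905 Q26905 (allL N26905 (tt N26519 F266504) (tt N28080 (iv F271422)) (tt N26748 F266505) (tt N28087 (iv F271466)) (tt N26905 F266506) (tt N25714 (iv D59675)) (tt N28088 D60858) (tt N25727 F266507) (tt N26905 F266508) (tt N26414 F266509))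
theorem Q26907 : ∀ i, i < 26907 → P i := stepQ 26906 Q26906 (allL N26906 (tt N25950 F266510) (tt N26149 F266511) (tt N28089 D60859) (tt N25715 (iv D59676)) (tt N28090 D60860) (tt N26186 F266512) (tt N25716 F266513) (tt N26178 F266514) (tt N25740 F266515) (tt N25891 F266516))
theorem Q26908 : ∀ i, i < 26908 → P i := stepQ 26907 Q26907 (allL N26907 (tt N26564 F266517) (tt N28091 D60861) (tt N25716 (iv D59677)) (tt N28083 (iv F271442)) (tt N28092 D60862) (tt N25717 F266518) (tt N28089 (iv F271478)) (tt N25728 F266519) (tt N25741 F266520) (tt N26552 F266521))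
theorem Q26909 : ∀ i, i < 26909 → P i := stepQ 26908 Q26908 (allL N26908 (tt N26565 F266522) (tt N26151 F266523) (tt N28092 (iv F271495)) (tt N26908 F266524) (tt N25716 (iv D59678)) (tt N27952 (iv F270622)) (tt N28090 (iv F271485)) (tt N25729 F266525) (tt N25742 F266526) (tt N26553 F266527))
theorem Q26910 : ∀ i, i < 26910 → P i := stepQ 26909 Q26909 (allL N26909 (tt N28093 D60863) (tt N25717 (iv D59679)) (tt N26152 F266528) (tt N28085 (iv F271455)) (tt N27953 (iv F270629)) (tt N28091 (iv F271490)) (tt N26699 F266529) (tt N25730 F266530) (tt N25743 F266531) (tt N26720 F266532))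
theorem Q26911 : ∀ i, i < 26911 → P i := stepQ 26910 Q26910 (allL N26910 (tt N25720 F266533) (tt N25923 F266534) (tt N28094 D60864) (tt N25718 (iv D59680)) (tt N28095 D60865) (tt N26683 F266535) (tt N26194 F266536) (tt N25926 F266537) (tt N26269 F266538) (tt N26146 F266539))
theorem Q26912 : ∀ i, i < 26912 → P i := stepQ 26911 Q26911 (allL N26911 (tt N25722 F266540) (tt N25820 F266541) (tt N27975 (iv F270768)) (tt N28095 (iv F271513)) (tt N25719 (iv D59681)) (tt N28043 (iv F271169)) (tt N25739 F266542) (tt N25928 F266543) (tt N26911 F266544) (tt N25778 F266545))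
theorem Q26913 : ∀ i, i < 26913 → P i := stepQ 26912 Q26912 (allL N26912 (tt N28094 (iv F271504)) (tt N28096 D60866) (tt N25720 (iv D59682)) (tt N26158 F266546) (tt N28097 D60867) (tt N27981 (iv F270805)) (tt N26418 F266547) (tt N28078 (iv F271411)) (tt N28016 (iv F271020)) (tt N26398 F266548))
theorem Q26914 : ∀ i, i < 26914 → P i := stepQ 26913 Q26913 (allL N26913 (tt N28095 (iv F271511)) (tt N25726 F266549) (tt N28097 (iv F271522)) (tt N25722 F266550) (tt N25720 (iv D59683)) (tt N28098 D60868) (tt N26419 F266551) (tt N28079 (iv F271418)) (tt N28017 (iv F271027)) (tt N26399 F266552))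
theorem Q26915 : ∀ i, i < 26915 → P i := stepQ 26914 Q26914 (allL N26914 (tt N27975 (iv F270766)) (tt N27956 (iv F270649)) (tt N25722 F266553) (tt N28099 D60869) (tt N25721 (iv D59684)) (tt N28088 (iv F271472)) (tt N26420 F266554) (tt N28039 (iv F271144)) (tt N26914 F266555) (tt N26416 F266556))
theorem Q26916 : ∀ i, i < 26916 → P i := stepQ 26915 Q26915 (allL N26915 (tt N28043 (iv F271165)) (tt N25727 F266557) (tt N28088 (iv F271470)) (tt N28098 (iv F271526)) (tt N26915 F266558) (tt N25722 (iv D59685)) (tt N26748 F266559) (tt N28080 (iv F271424)) (tt N26915 F266560) (tt N26417 F266561))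
theorem Q26917 : ∀ i, i < 26917 → P i := stepQ 26916 Q26916 (allL N26916 (tt N26446 F266562) (tt N28100 D60870) (tt N25723 (iv D59686)) (tt N25749 F266563) (tt N28101 D60871) (tt N28010 (iv F270975)) (tt N26421 F266564) (tt N28081 (iv F271431)) (tt N25725 F266565) (tt N26371 F266566))
theorem Q26918 : ∀ i, i < 26918 → P i := stepQ 26917 Q26917 (allL N26917 (tt N26447 F266567) (tt N28017 (iv F271023)) (tt N28101 (iv F271537)) (tt N26917 F266568) (tt N25723 (iv D59687)) (tt N28102 D60872) (tt N26422 F266569) (tt N28082 (iv F271438)) (tt N25726 F266570) (tt N26372 F266571))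
theorem Q26919 : ∀ i, i < 26919 → P i := stepQ 26918 Q26918 (allL N26918 (tt N26498 F266572) (tt N28103 D60873) (tt N25724 (iv D59688)) (tt N25728 F266573) (tt N28104 D60874) (tt N25725 F266574) (tt N26665 F266575) (tt N28083 (iv F271445)) (tt N28010 (iv F270978)) (tt N26403 F266576))
theorem Q26920 : ∀ i, i < 26920 → P i := stepQ 26919 Q26919 (allL N26919 (tt N26499 F266577) (tt N27982 (iv F270811)) (tt N28104 (iv F271551)) (tt N26919 F266578) (tt N25724 (iv D59689)) (tt N28105 D60875) (tt N26666 F266579) (tt N28084 (iv F271452)) (tt N28011 (iv F270985)) (tt N26404 F266580))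
theorem Q26921 : ∀ i, i < 26921 → P i := stepQ 26920 Q26920 (allL N26920 (tt N28106 D60876) (tt N25725 (iv D59690)) (tt N28096 (iv F271518)) (tt N25730 F266581) (tt N28107 D60877) (tt N28103 (iv F271547)) (tt N26423 F266582) (tt N28085 (iv F271457)) (tt N28100 (iv F271534)) (tt N26405 F266583))
theorem Q26922 : ∀ i, i < 26922 → P i := stepQ 26921 Q26921 (allL N26921 (tt N26503 F266584) (tt N28107 (iv F271563)) (tt N25726 F266585) (tt N27963 (iv F270695)) (tt N25725 (iv D59691)) (tt N28108 D60878) (tt N26424 F266586) (tt N28086 (iv F271463)) (tt N28101 (iv F271539)) (tt N26406 F266587))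
theorem Q26923 : ∀ i, i < 26923 → P i := stepQ 26922 Q26922 (allL N26922 (tt N26504 F266588) (tt N28098 (iv F271525)) (tt N28108 (iv F271567)) (tt N25727 F266589) (tt N28105 (iv F271556)) (tt N25726 (iv D59692)) (tt N28109 D60879) (tt N28087 (iv F271467)) (tt N28102 (iv F271544)) (tt N26407 F266590))
theorem Q26924 : ∀ i, i < 26924 → P i := stepQ 26923 Q26923 (allL N26923 (tt N26304 F266591) (tt N26748 F266592) (tt N27965 (iv F270704)) (tt N28109 (iv F271571)) (tt N26923 F266593) (tt N26136 F266594) (tt N25727 (iv D59693)) (tt N27957 (iv F270658)) (tt N26923 F266595) (tt N26330 F266596))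
theorem Q26925 : ∀ i, i < 26925 → P i := stepQ 26924 Q26924 (allL N26924 (tt N28110 D60880) (tt N25728 (iv D59694)) (tt N26174 F266597) (tt N28103 (iv F271546)) (tt N28111 D60881) (tt N25730 F266598) (tt N26668 F266599) (tt N28091 (iv F271491)) (tt N25758 F266600) (tt N26704 F266601))
theorem Q26926 : ∀ i, i < 26926 → P i := stepQ 26925 Q26925 (allL N26925 (tt N28060 (iv F271285)) (tt N28111 (iv F271579)) (tt N25729 F266602) (tt N28112 D60882) (tt N25728 (iv D59695)) (tt N27967 (iv F270716)) (tt N26669 F266603) (tt N28092 (iv F271496)) (tt N25759 F266604) (tt N26705 F266605))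
theorem Q26927 : ∀ i, i < 26927 → P i := stepQ 26926 Q26926 (allL N26926 (tt N25730 (iv D59696)) (tt N28061 (iv F271292)) (tt N26176 F266606) (tt N28106 (iv F271560)) (tt N27968 (iv F270722)) (tt N28110 (iv F271575)) (tt N26425 F266607) (tt N28093 (iv F271501)) (tt N25760 F266608) (tt N26721 F266609))
theorem Q26928 : ∀ i, i < 26928 → P i := stepQ 26927 Q26927 (allL N26927 (tt N25990 F266610) (tt N26178 F266611) (tt N28113 D60883) (tt N25731 (iv D59697)) (tt N28114 D60884) (tt N25740 F266612) (tt N25732 F266613) (tt N26149 F266614) (tt N26186 F266615) (tt N25766 F266616))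
theorem Q26929 : ∀ i, i < 26929 → P i := stepQ 26928 Q26928 (allL N26928 (tt N27951 (iv F270612)) (tt N28115 D60885) (tt N25732 (iv D59698)) (tt N28016 (iv F271016)) (tt N28116 D60886) (tt N25733 F266617) (tt N28113 (iv F271590)) (tt N26172 F266618) (tt N26202 F266619) (tt N25767 F266620))
theorem Q26930 : ∀ i, i < 26930 → P i := stepQ 26929 Q26929 (allL N26929 (tt N27952 (iv F270619)) (tt N26180 F266621) (tt N28116 (iv F271606)) (tt N26929 F266622) (tt N25732 (iv D59699)) (tt N26565 F266623) (tt N28114 (iv F271597)) (tt N26173 F266624) (tt N26203 F266625) (tt N25768 F266626))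
theorem Q26931 : ∀ i, i < 26931 → P i := stepQ 26930 Q26930 (allL N26930 (tt N28117 D60887) (tt N25733 (iv D59700)) (tt N26181 F266627) (tt N28021 (iv F271047)) (tt N27969 (iv F270728)) (tt N28115 (iv F271602)) (tt N25743 F266628) (tt N26430 F266629) (tt N26699 F266630) (tt N25769 F266631))
theorem Q26932 : ∀ i, i < 26932 → P i := stepQ 26931 Q26931 (allL N26931 (tt N26234 F266632) (tt N28118 D60888) (tt N25734 (iv D59701)) (tt N26182 F266633) (tt N28119 D60889) (tt N26233 F266634) (tt N28010 (iv F270976)) (tt N25745 F266635) (tt N26665 F266636) (tt N25772 F266637))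
theorem Q26933 : ∀ i, i < 26933 → P i := stepQ 26932 Q26932 (allL N26932 (tt N26235 F266638) (tt N25738 F266639) (tt N28119 (iv F271623)) (tt N25735 F266640) (tt N25734 (iv D59702)) (tt N26509 F266641) (tt N28011 (iv F270983)) (tt N25746 F266642) (tt N26666 F266643) (tt N25773 F266644))
theorem Q26934 : ∀ i, i < 26934 → P i := stepQ 26933 Q26933 (allL N26933 (tt N26686 F266645) (tt N28120 D60890) (tt N25736 (iv D59703)) (tt N28081 (iv F271428)) (tt N28121 D60891) (tt N26278 F266646) (tt N27981 (iv F270806)) (tt N25749 F266647) (tt N25737 F266648) (tt N26282 F266649))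
theorem Q26935 : ∀ i, i < 26935 → P i := stepQ 26934 Q26934 (allL N26934 (tt N26687 F266650) (tt N26666 F266651) (tt N28121 (iv F271635)) (tt N26934 F266652) (tt N25736 (iv D59704)) (tt N26273 F266653) (tt N27982 (iv F270813)) (tt N25750 F266654) (tt N25738 F266655) (tt N26276 F266656))
theorem Q26936 : ∀ i, i < 26936 → P i := stepQ 26935 Q26935 (allL N26935 (tt N28122 D60892) (tt N25737 (iv D59705)) (tt N28118 (iv F271616)) (tt N25743 F266657) (tt N28123 D60893) (tt N26650 F266658) (tt N28021 (iv F271048)) (tt N25752 F266659) (tt N28120 (iv F271632)) (tt N25775 F266660))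
theorem Q26937 : ∀ i, i < 26937 → P i := stepQ 26936 Q26936 (allL N26936 (tt N26735 F266661) (tt N28123 (iv F271645)) (tt N25738 F266662) (tt N27973 (iv F270756)) (tt N25737 (iv D59706)) (tt N28124 D60894) (tt N28022 (iv F271054)) (tt N25753 F266663) (tt N28121 (iv F271638)) (tt N25776 F266664))
theorem Q26938 : ∀ i, i < 26938 → P i := stepQ 26937 Q26937 (allL N26937 (tt N26419 F266665) (tt N26509 F266666) (tt N28124 (iv F271649)) (tt N25739 F266667) (tt N26194 F266668) (tt N25738 (iv D59707)) (tt N28095 (iv F271514)) (tt N25754 F266669) (tt N26273 F266670) (tt N25777 F266671))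
theorem Q26939 : ∀ i, i < 26939 → P i := stepQ 26938 Q26938 (allL N26938 (tt N25993 F266672) (tt N28125 D60895) (tt N25740 (iv D59708)) (tt N26127 F266673) (tt N28126 D60896) (tt N28113 (iv F271589)) (tt N25741 F266674) (tt N26675 F266675) (tt N28089 (iv F271480)) (tt N25780 F266676))
theorem Q26940 : ∀ i, i < 26940 → P i := stepQ 26939 Q26939 (allL N26939 (tt N25994 F266677) (tt N26188 F266678) (tt N28126 (iv F271660)) (tt N25761 F266679) (tt N25740 (iv D59709)) (tt N28127 D60897) (tt N25742 F266680) (tt N26676 F266681) (tt N28090 (iv F271487)) (tt N25781 F266682))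
theorem Q26941 : ∀ i, i < 26941 → P i := stepQ 26940 Q26940 (allL N26940 (tt N28128 D60898) (tt N25741 (iv D59710)) (tt N26189 F266683) (tt N26650 F266684) (tt N28129 D60899) (tt N25743 F266685) (tt N28125 (iv F271656)) (tt N25758 F266686) (tt N28091 (iv F271492)) (tt N25782 F266687))
theorem Q26942 : ∀ i, i < 26942 → P i := stepQ 26941 Q26941 (allL N26941 (tt N26589 F266688) (tt N28129 (iv F271676)) (tt N25742 F266689) (tt N28130 D60900) (tt N25741 (iv D59711)) (tt N27979 (iv F270795)) (tt N28126 (iv F271662)) (tt N25759 F266690) (tt N28092 (iv F271497)) (tt N25783 F266691))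
theorem Q26943 : ∀ i, i < 26943 → P i := stepQ 26942 Q26942 (allL N26942 (tt N25743 (iv D59712)) (tt N28062 (iv F271299)) (tt N26191 F266692) (tt N28122 (iv F271641)) (tt N27980 (iv F270800)) (tt N28128 (iv F271673)) (tt N28117 (iv F271612)) (tt N25760 F266693) (tt N28093 (iv F271502)) (tt N25784 F266694))
theorem Q26944 : ∀ i, i < 26944 → P i := stepQ 26943 Q26943 (allL N26943 (tt N26260 F266695) (tt N28131 D60901) (tt N25744 (iv D59713)) (tt N26179 F266696) (tt N28132 D60902) (tt N26177 F266697) (tt N26440 F266698) (tt N26665 F266699) (tt N25745 F266700) (tt N26223 F266701))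
theorem Q26945 : ∀ i, i < 26945 → P i := stepQ 26944 Q26944 (allL N26944 (tt N26261 F266702) (tt N25750 F266703) (tt N28132 (iv F271694)) (tt N26944 F266704) (tt N25744 (iv D59714)) (tt N26497 F266705) (tt N26441 F266706) (tt N26666 F266707) (tt N25746 F266708) (tt N26224 F266709))
theorem Q26946 : ∀ i, i < 26946 → P i := stepQ 26945 Q26945 (allL N26945 (tt N28133 D60903) (tt N25745 (iv D59715)) (tt N25752 F266710) (tt N26193 F266711) (tt N28134 D60904) (tt N26258 F266712) (tt N26443 F266713) (tt N28118 (iv F271619)) (tt N28131 (iv F271691)) (tt N25792 F266714))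
theorem Q26947 : ∀ i, i < 26947 → P i := stepQ 26946 Q26946 (allL N26946 (tt N26265 F266715) (tt N28134 (iv F271706)) (tt N25746 F266716) (tt N26630 F266717) (tt N25745 (iv D59716)) (tt N26511 F266718) (tt N26444 F266719) (tt N28119 (iv F271626)) (tt N28132 (iv F271698)) (tt N25793 F266720))
theorem Q26948 : ∀ i, i < 26948 → P i := stepQ 26947 Q26947 (allL N26947 (tt N26122 F266721) (tt N28135 D60905) (tt N25747 (iv D59717)) (tt N28010 (iv F270974)) (tt N26241 F266722) (tt N25749 F266723) (tt N26182 F266724) (tt N26278 F266725) (tt N25751 F266726) (tt N26220 F266727))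
theorem Q26949 : ∀ i, i < 26949 → P i := stepQ 26948 Q26948 (allL N26948 (tt N26421 F266728) (tt N28136 D60906) (tt N25748 (iv D59718)) (tt N26371 F266729) (tt N28137 D60907) (tt N26220 F266730) (tt N26446 F266731) (tt N26282 F266732) (tt N25795 F266733) (tt N25749 F266734))
theorem Q26950 : ∀ i, i < 26950 → P i := stepQ 26949 Q26949 (allL N26949 (tt N26422 F266735) (tt N26224 F266736) (tt N28137 (iv F271727)) (tt N26949 F266737) (tt N25748 (iv D59719)) (tt N26240 F266738) (tt N26447 F266739) (tt N26276 F266740) (tt N25796 F266741) (tt N25750 F266742))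
theorem Q26951 : ∀ i, i < 26951 → P i := stepQ 26950 Q26950 (allL N26950 (tt N28138 D60908) (tt N25749 (iv D59720)) (tt N28131 (iv F271686)) (tt N28100 (iv F271532)) (tt N28139 D60909) (tt N28135 (iv F271714)) (tt N26448 F266743) (tt N28120 (iv F271631)) (tt N25752 F266744) (tt N28136 (iv F271725)))
theorem Q26952 : ∀ i, i < 26952 → P i := stepQ 26951 Q26951 (allL N26951 (tt N28064 (iv F271312)) (tt N28139 (iv F271735)) (tt N25750 F266745) (tt N28140 D60910) (tt N25749 (iv D59721)) (tt N28141 D60911) (tt N26449 F266746) (tt N28121 (iv F271637)) (tt N25753 F266747) (tt N28137 (iv F271732)))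
theorem Q26953 : ∀ i, i < 26953 → P i := stepQ 26952 Q26952 (allL N26952 (tt N26678 F266748) (tt N26497 F266749) (tt N28141 (iv F271741)) (tt N26952 F266750) (tt N26238 F266751) (tt N25750 (iv D59722)) (tt N26486 (iv F266755)) (tt N26273 F266752) (tt N25754 F266753) (tt N26240 F266754))
theorem Q26954 : ∀ i, i < 26954 → P i := stepQ 26953 Q26953 (allL N26953 (tt N28142 D60912) (tt N25751 (iv D59723)) (tt N26258 F266756) (tt N25758 F266757) (tt N26674 F266758) (tt N25752 F266759) (tt N26647 F266760) (tt N26650 F266761) (tt N28135 (iv F271717)) (tt N25802 F266762))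
theorem Q26955 : ∀ i, i < 26955 → P i := stepQ 26954 Q26954 (allL N26954 (tt N25752 (iv D59724)) (tt N28065 (iv F271319)) (tt N28133 (iv F271701)) (tt N25760 F266763) (tt N28143 D60913) (tt N28142 (iv F271751)) (tt N26451 F266764) (tt N28122 (iv F271643)) (tt N28138 (iv F271734)) (tt N25803 F266765))
theorem Q26956 : ∀ i, i < 26956 → P i := stepQ 26955 Q26955 (allL N26955 (tt N28143 (iv F271755)) (tt N25753 F266766) (tt N28134 (iv F271707)) (tt N27987 (iv F270839)) (tt N25752 (iv D59725)) (tt N28144 D60914) (tt N26452 F266767) (tt N28123 (iv F271646)) (tt N28139 (iv F271737)) (tt N25804 F266768))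
theorem Q26957 : ∀ i, i < 26957 → P i := stepQ 26956 Q26956 (allL N26956 (tt N26681 F266769) (tt N28144 (iv F271758)) (tt N25754 F266770) (tt N27988 (iv F270844)) (tt N26491 F266771) (tt N25753 (iv D59726)) (tt N26493 (iv F266773)) (tt N28124 (iv F271651)) (tt N28141 (iv F271744)) (tt N25805 F266772))
theorem Q26958 : ∀ i, i < 26958 → P i := stepQ 26957 Q26957 (allL N26957 (tt N26615 F266774) (tt N28145 D60915) (tt N25755 (iv D59727)) (tt N26192 F266775) (tt N28146 D60916) (tt N26145 F266776) (tt N26675 F266777) (tt N25756 F266778) (tt N26179 F266779) (tt N25807 F266780))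
theorem Q26959 : ∀ i, i < 26959 → P i := stepQ 26958 Q26958 (allL N26958 (tt N26616 F266781) (tt N26203 F266782) (tt N28146 (iv F271771)) (tt N25763 F266783) (tt N25755 (iv D59728)) (tt N26076 F266784) (tt N26676 F266785) (tt N25757 F266786) (tt N26180 F266787) (tt N25808 F266788))
theorem Q26960 : ∀ i, i < 26960 → P i := stepQ 26959 Q26959 (allL N26959 (tt N28147 D60917) (tt N25756 (iv D59729)) (tt N26204 F266789) (tt N26647 F266790) (tt N28148 D60918) (tt N26453 F266791) (tt N25758 F266792) (tt N28145 (iv F271767)) (tt N26668 F266793) (tt N25809 F266794))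
theorem Q26961 : ∀ i, i < 26961 → P i := stepQ 26960 Q26960 (allL N26960 (tt N26630 F266795) (tt N28148 (iv F271785)) (tt N25757 F266796) (tt N26265 F266797) (tt N25756 (iv D59730)) (tt N26081 F266798) (tt N25759 F266799) (tt N28146 (iv F271775)) (tt N26669 F266800) (tt N25810 F266801))
theorem Q26962 : ∀ i, i < 26962 → P i := stepQ 26961 Q26961 (allL N26961 (tt N25758 (iv D59731)) (tt N28067 (iv F271333)) (tt N26206 F266802) (tt N28142 (iv F271749)) (tt N28149 D60919) (tt N25760 F266803) (tt N28147 (iv F271782)) (tt N28128 (iv F271674)) (tt N28110 (iv F271577)) (tt N25811 F266804))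
theorem Q26963 : ∀ i, i < 26963 → P i := stepQ 26962 Q26962 (allL N26962 (tt N28149 (iv F271792)) (tt N25759 F266805) (tt N26207 F266806) (tt N28150 D60920) (tt N25758 (iv D59732)) (tt N27990 (iv F270856)) (tt N28148 (iv F271789)) (tt N28129 (iv F271678)) (tt N28111 (iv F271582)) (tt N25812 F266807))
theorem Q26964 : ∀ i, i < 26964 → P i := stepQ 26963 Q26963 (allL N26963 (tt N26444 F266808) (tt N28150 (iv F271795)) (tt N25764 F266809) (tt N25759 (iv D59733)) (tt N26263 F266810) (tt N27991 (iv F270862)) (tt N26265 F266811) (tt N28130 (iv F271684)) (tt N28151 D60921) (tt N25813 F266812))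
theorem Q26965 : ∀ i, i < 26965 → P i := stepQ 26964 Q26964 (allL N26964 (tt N26023 F266813) (tt N26213 F266814) (tt N26327 F266815) (tt N28127 (iv F271667)) (tt N26964 F266816) (tt N25761 (iv D59734)) (tt N27993 (iv F270877)) (tt N26019 F266817) (tt N26964 F266818) (tt N25815 F266819))
theorem Q26966 : ∀ i, i < 26966 → P i := stepQ 26965 Q26965 (allL N26965 (tt N26433 F266820) (tt N26284 F266821) (tt N28130 (iv F271681)) (tt N25762 (iv D59735)) (tt N26163 F266822) (tt N27994 (iv F270884)) (tt N26660 F266823) (tt N25764 F266824) (tt N28152 D60922) (tt N25817 F266825))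
theorem Q26967 : ∀ i, i < 26967 → P i := stepQ 26966 Q26966 (allL N26966 (tt N26441 F266826) (tt N26271 F266827) (tt N28151 (iv F271801)) (tt N26966 F266828) (tt N26259 F266829) (tt N27995 (iv F270891)) (tt N26261 F266830) (tt N28152 (iv F271809)) (tt N25764 (iv D59736)) (tt N28153 D60923))
theorem Q26968 : ∀ i, i < 26968 → P i := stepQ 26967 Q26967 (allL N26967 (tt N25968 F266831) (tt N25891 F266832) (tt N28154 D60924) (tt N25765 (iv D59737)) (tt N28155 D60925) (tt N25779 F266833) (tt N25924 F266834) (tt N25766 F266835) (tt N25889 F266836) (tt N26149 F266837))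
theorem Q26969 : ∀ i, i < 26969 → P i := stepQ 26968 Q26968 (allL N26968 (tt N25991 F266838) (tt N28156 D60926) (tt N25766 (iv D59738)) (tt N26125 F266839) (tt N28157 D60927) (tt N25780 F266840) (tt N25767 F266841) (tt N28154 (iv F271822)) (tt N25909 F266842) (tt N28113 (iv F271593)))
theorem Q26970 : ∀ i, i < 26970 → P i := stepQ 26969 Q26969 (allL N26969 (tt N25992 F266843) (tt N26229 F266844) (tt N28157 (iv F271839)) (tt N26969 F266845) (tt N25766 (iv D59739)) (tt N28158 D60928) (tt N25768 F266846) (tt N28155 (iv F271830)) (tt N25910 F266847) (tt N28114 (iv F271600)))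
theorem Q26971 : ∀ i, i < 26971 → P i := stepQ 26970 Q26970 (allL N26970 (tt N28159 D60929) (tt N25767 (iv D59740)) (tt N26230 F266848) (tt N28018 (iv F271030)) (tt N28160 D60930) (tt N25769 F266849) (tt N28156 (iv F271836)) (tt N26460 F266850) (tt N27932 (iv F270482)) (tt N28115 (iv F271605)))
theorem Q26972 : ∀ i, i < 26972 → P i := stepQ 26971 Q26971 (allL N26971 (tt N28070 (iv F271352)) (tt N28160 (iv F271852)) (tt N25768 F266851) (tt N28161 D60931) (tt N25767 (iv D59741)) (tt N26567 F266852) (tt N28157 (iv F271840)) (tt N26461 F266853) (tt N26570 F266854) (tt N28116 (iv F271610)))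
theorem Q26973 : ∀ i, i < 26973 → P i := stepQ 26972 Q26972 (allL N26972 (tt N25769 (iv D59742)) (tt N28071 (iv F271358)) (tt N26232 F266855) (tt N28024 (iv F271063)) (tt N27996 (iv F270896)) (tt N28159 (iv F271850)) (tt N25784 F266856) (tt N26462 F266857) (tt N27933 (iv F270490)) (tt N28117 (iv F271615)))
theorem Q26974 : ∀ i, i < 26974 → P i := stepQ 26973 Q26973 (allL N26973 (tt N25772 F266858) (tt N28162 D60932) (tt N25770 (iv D59743)) (tt N26233 F266859) (tt N28163 D60933) (tt N26182 F266860) (tt N26445 F266861) (tt N25786 F266862) (tt N26364 F266863) (tt N26234 F266864))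
theorem Q26975 : ∀ i, i < 26975 → P i := stepQ 26974 Q26974 (allL N26974 (tt N25773 F266865) (tt N25799 F266866) (tt N28163 (iv F271868)) (tt N25771 F266867) (tt N25770 (iv D59744)) (tt N25790 F266868) (tt N26070 F266869) (tt N25787 F266870) (tt N25794 F266871) (tt N26235 F266872))
theorem Q26976 : ∀ i, i < 26976 → P i := stepQ 26975 Q26975 (allL N26975 (tt N28164 D60934) (tt N25772 (iv D59745)) (tt N25775 F266873) (tt N26236 F266874) (tt N28165 D60935) (tt N26648 F266875) (tt N28012 (iv F270991)) (tt N25792 F266876) (tt N26365 F266877) (tt N28118 (iv F271621)))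
theorem Q26977 : ∀ i, i < 26977 → P i := stepQ 26976 Q26976 (allL N26976 (tt N28163 (iv F271867)) (tt N28165 (iv F271880)) (tt N25773 F266878) (tt N28074 (iv F271381)) (tt N25772 (iv D59746)) (tt N28166 D60936) (tt N28013 (iv F270997)) (tt N25793 F266879) (tt N26366 F266880) (tt N28119 (iv F271628)))
theorem Q26978 : ∀ i, i < 26978 → P i := stepQ 26977 Q26977 (allL N26977 (tt N25790 F266881) (tt N25777 F266882) (tt N28166 (iv F271885)) (tt N25774 F266883) (tt N25785 F266884) (tt N25773 (iv D59747)) (tt N25819 F266885) (tt N25794 F266886) (tt N25787 F266887) (tt N26509 F266888))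
theorem Q26979 : ∀ i, i < 26979 → P i := stepQ 26978 Q26978 (allL N26978 (tt N25775 (iv D59748)) (tt N26736 F266889) (tt N28164 (iv F271875)) (tt N25784 F266890) (tt N28167 D60937) (tt N26651 F266891) (tt N28024 (iv F271064)) (tt N25803 F266892) (tt N26367 F266893) (tt N28122 (iv F271644)))
theorem Q26980 : ∀ i, i < 26980 → P i := stepQ 26979 Q26979 (allL N26979 (tt N28167 (iv F271892)) (tt N25776 F266894) (tt N28165 (iv F271881)) (tt N28001 (iv F270927)) (tt N25775 (iv D59749)) (tt N28168 D60938) (tt N28025 (iv F271069)) (tt N25804 F266895) (tt N26368 F266896) (tt N28123 (iv F271647)))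
theorem Q26981 : ∀ i, i < 26981 → P i := stepQ 26980 Q26980 (allL N26980 (tt N26710 F266897) (tt N28168 (iv F271896)) (tt N25777 F266898) (tt N28002 (iv F270933)) (tt N26195 F266899) (tt N25776 (iv D59750)) (tt N28169 D60939) (tt N25805 F266900) (tt N26200 F266901) (tt N28124 (iv F271653)))
theorem Q26982 : ∀ i, i < 26982 → P i := stepQ 26981 Q26981 (allL N26981 (tt N26399 F266902) (tt N25819 F266903) (tt N28169 (iv F271901)) (tt N25778 F266904) (tt N26146 F266905) (tt N28027 (iv F271081)) (tt N25777 (iv D59751)) (tt N26159 F266906) (tt N25818 F266907) (tt N28095 (iv F271517)))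
theorem Q26983 : ∀ i, i < 26983 → P i := stepQ 26982 Q26982 (allL N26982 (tt N25970 F266908) (tt N28170 D60940) (tt N25779 (iv D59752)) (tt N26111 F266909) (tt N28171 D60941) (tt N28154 (iv F271820)) (tt N25807 F266910) (tt N25780 F266911) (tt N25901 F266912) (tt N26675 F266913))
theorem Q26984 : ∀ i, i < 26984 → P i := stepQ 26983 Q26983 (allL N26983 (tt N25971 F266914) (tt N26251 F266915) (tt N28171 (iv F271912)) (tt N25814 F266916) (tt N25779 (iv D59753)) (tt N26015 (iv F266921)) (tt N25808 F266917) (tt N25781 F266918) (tt N25871 F266919) (tt N26676 F266920))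
theorem Q26985 : ∀ i, i < 26985 → P i := stepQ 26984 Q26984 (allL N26984 (tt N28172 D60942) (tt N25780 (iv D59754)) (tt N26252 F266922) (tt N26128 F266923) (tt N28173 D60943) (tt N28156 (iv F271835)) (tt N25782 F266924) (tt N28170 (iv F271908)) (tt N25911 F266925) (tt N28125 (iv F271658)))
theorem Q26986 : ∀ i, i < 26986 → P i := stepQ 26985 Q26985 (allL N26985 (tt N25996 F266926) (tt N28173 (iv F271924)) (tt N25781 F266927) (tt N26662 F266928) (tt N25780 (iv D59755)) (tt N28174 D60944) (tt N25783 F266929) (tt N28171 (iv F271915)) (tt N25912 F266930) (tt N28126 (iv F271664)))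
theorem Q26987 : ∀ i, i < 26987 → P i := stepQ 26986 Q26986 (allL N26986 (tt N25997 F266931) (tt N26254 F266932) (tt N28174 (iv F271930)) (tt N25815 F266933) (tt N28158 (iv F271845)) (tt N25781 (iv D59756)) (tt N28006 (iv F270956)) (tt N26015 F266934) (tt N25913 F266935) (tt N28127 (iv F271669)))
theorem Q26988 : ∀ i, i < 26988 → P i := stepQ 26987 Q26987 (allL N26987 (tt N25782 (iv D59757)) (tt N26590 F266936) (tt N26255 F266937) (tt N26651 F266938) (tt N28175 D60945) (tt N25784 F266939) (tt N28172 (iv F271922)) (tt N25811 F266940) (tt N26559 F266941) (tt N28128 (iv F271675)))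
theorem Q26989 : ∀ i, i < 26989 → P i := stepQ 26988 Q26988 (allL N26988 (tt N28175 (iv F271934)) (tt N25783 F266942) (tt N26256 F266943) (tt N28176 D60946) (tt N25782 (iv D59758)) (tt N28008 (iv F270965)) (tt N28173 (iv F271927)) (tt N25812 F266944) (tt N26560 F266945) (tt N28129 (iv F271679)))
theorem Q26990 : ∀ i, i < 26990 → P i := stepQ 26989 Q26989 (allL N26989 (tt N26466 F266946) (tt N28176 (iv F271939)) (tt N25817 F266947) (tt N25783 (iv D59759)) (tt N26164 F266948) (tt N28009 (iv F270970)) (tt N26662 F266949) (tt N25813 F266950) (tt N26169 (iv F266951)) (tt N28130 (iv F271685)))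
theorem Q26991 : ∀ i, i < 26991 → P i := stepQ 26990 Q26990 (allL N26990 (tt N25789 F266952) (tt N28177 D60947) (tt N25785 (iv D59760)) (tt N26145 F266953) (tt N28166 (iv F271887)) (tt N26192 F266954) (tt N26148 F266955) (tt N26364 F266956) (tt N25786 F266957) (tt N26508 F266958))
theorem Q26992 : ∀ i, i < 26992 → P i := stepQ 26991 Q26991 (allL N26991 (tt N28178 D60948) (tt N25786 (iv D59761)) (tt N26199 F266959) (tt N26258 F266960) (tt N28179 D60949) (tt N26193 F266961) (tt N26484 F266962) (tt N28162 (iv F271864)) (tt N28177 (iv F271949)) (tt N26264 F266963))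
theorem Q26993 : ∀ i, i < 26993 → P i := stepQ 26992 Q26992 (allL N26992 (tt N25793 F266964) (tt N28179 (iv F271957)) (tt N25787 F266965) (tt N25810 F266966) (tt N25786 (iv D59762)) (tt N26366 F266967) (tt N25813 F266968) (tt N28163 (iv F271872)) (tt N28166 (iv F271890)) (tt N26265 F266969))
theorem Q26994 : ∀ i, i < 26994 → P i := stepQ 26993 Q26993 (allL N26993 (tt N26508 F266970) (tt N28180 D60950) (tt N25788 (iv D59763)) (tt N26026 F266971) (tt N28181 D60951) (tt N26221 F266972) (tt N26487 F266973) (tt N26027 F266974) (tt N26223 F266975) (tt N25789 F266976))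
theorem Q26995 : ∀ i, i < 26995 → P i := stepQ 26994 Q26994 (allL N26994 (tt N26509 F266977) (tt N25796 F266978) (tt N28181 (iv F271971)) (tt N25821 F266979) (tt N25788 (iv D59764)) (tt N26235 F266980) (tt N26488 F266981) (tt N26028 F266982) (tt N26224 F266983) (tt N25790 F266984))
theorem Q26996 : ∀ i, i < 26996 → P i := stepQ 26995 Q26995 (allL N26995 (tt N28182 D60952) (tt N25789 (iv D59765)) (tt N25797 F266985) (tt N26617 F266986) (tt N28183 D60953) (tt N26645 F266987) (tt N26489 F266988) (tt N26365 F266989) (tt N25792 F266990) (tt N28180 (iv F271969)))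
theorem Q26997 : ∀ i, i < 26997 → P i := stepQ 26996 Q26996 (allL N26996 (tt N28166 (iv F271884)) (tt N28183 (iv F271984)) (tt N25790 F266991) (tt N26583 F266992) (tt N25789 (iv D59766)) (tt N28163 (iv F271870)) (tt N26490 F266993) (tt N26366 F266994) (tt N25793 F266995) (tt N28181 (iv F271977)))
theorem Q26998 : ∀ i, i < 26998 → P i := stepQ 26997 Q26997 (allL N26997 (tt N28184 D60954) (tt N25791 (iv D59767)) (tt N25802 F266996) (tt N26264 F266997) (tt N26647 F266998) (tt N25792 F266999) (tt N26674 F267000) (tt N26648 F267001) (tt N26645 F267002) (tt N26258 F267003))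
theorem Q26999 : ∀ i, i < 26999 → P i := stepQ 26998 Q26998 (allL N26998 (tt N25792 (iv D59768)) (tt N28178 (iv F271951)) (tt N25803 F267004) (tt N26266 F267005) (tt N28185 D60955) (tt N28184 (iv F271994)) (tt N26494 F267006) (tt N28164 (iv F271878)) (tt N28182 (iv F271983)) (tt N28133 (iv F271705)))
theorem Q27000 : ∀ i, i < 27000 → P i := stepQ 26999 Q26999 (allL N26999 (tt N28185 (iv F271999)) (tt N25793 F267007) (tt N25804 F267008) (tt N28076 (iv F271396)) (tt N25792 (iv D59769)) (tt N28186 D60956) (tt N26495 F267009) (tt N28165 (iv F271882)) (tt N28183 (iv F271989)) (tt N28134 (iv F271711)))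
theorem Q27001 : ∀ i, i < 27001 → P i := stepQ 27000 Q27000 (allL N27000 (tt N26366 F267010) (tt N28186 (iv F272002)) (tt N25794 F267011) (tt N26066 F267012) (tt N26364 F267013) (tt N25793 (iv D59770)) (tt N26069 F267014) (tt N28166 (iv F271889)) (tt N28163 (iv F271873)) (tt N26511 F267015))
theorem Q27002 : ∀ i, i < 27002 → P i := stepQ 27001 Q27001 (allL N27001 (tt N28187 D60957) (tt N25795 (iv D59771)) (tt N28180 (iv F271963)) (tt N26361 F267016) (tt N28188 D60958) (tt N26249 F267017) (tt N26502 F267018) (tt N26293 F267019) (tt N28136 (iv F271724)) (tt N25797 F267020))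
theorem Q27003 : ∀ i, i < 27003 → P i := stepQ 27002 Q27002 (allL N27002 (tt N26424 F267021) (tt N28188 (iv F272014)) (tt N25796 F267022) (tt N26438 F267023) (tt N25795 (iv D59772)) (tt N26247 F267024) (tt N26503 F267025) (tt N26291 F267026) (tt N28137 (iv F271731)) (tt N25798 F267027))
theorem Q27004 : ∀ i, i < 27004 → P i := stepQ 27003 Q27003 (allL N27003 (tt N25797 (iv D59773)) (tt N26713 F267028) (tt N28182 (iv F271978)) (tt N26363 F267029) (tt N28189 D60959) (tt N26646 F267030) (tt N26505 F267031) (tt N26367 F267032) (tt N25803 F267033) (tt N28187 (iv F272013)))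
theorem Q27005 : ∀ i, i < 27005 → P i := stepQ 27004 Q27004 (allL N27004 (tt N28189 (iv F272020)) (tt N25798 F267034) (tt N28183 (iv F271985)) (tt N26478 F267035) (tt N25797 (iv D59774)) (tt N28190 D60960) (tt N26506 F267036) (tt N26368 F267037) (tt N25804 F267038) (tt N28188 (iv F272019)))
theorem Q27006 : ∀ i, i < 27006 → P i := stepQ 27005 Q27005 (allL N27005 (tt N26715 F267039) (tt N28190 (iv F272026)) (tt N25799 F267040) (tt N26479 F267041) (tt N26184 F267042) (tt N25798 (iv D59775)) (tt N28191 D60961) (tt N26200 F267043) (tt N25805 F267044) (tt N26247 F267045))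
theorem Q27007 : ∀ i, i < 27007 → P i := stepQ 27006 Q27006 (allL N27006 (tt N26716 F267046) (tt N26070 F267047) (tt N28191 (iv F272033)) (tt N25822 F267048) (tt N26183 F267049) (tt N26319 F267050) (tt N25799 (iv D59776)) (tt N26655 (iv F267053)) (tt N25806 F267051) (tt N26245 F267052))
theorem Q27008 : ∀ i, i < 27008 → P i := stepQ 27007 Q27007 (allL N27007 (tt N26221 F267054) (tt N28192 D60962) (tt N25800 (iv D59777)) (tt N25807 F267055) (tt N26233 F267056) (tt N26508 F267057) (tt N26111 F267058) (tt N25801 F267059) (tt N26106 F267060) (tt N26192 F267061))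
theorem Q27009 : ∀ i, i < 27009 → P i := stepQ 27008 Q27008 (allL N27008 (tt N28193 D60963) (tt N25801 (iv D59778)) (tt N26674 F267062) (tt N25809 F267063) (tt N26258 F267064) (tt N26510 F267065) (tt N25802 F267066) (tt N28192 (iv F272045)) (tt N26641 F267067) (tt N26647 F267068))
theorem Q27010 : ∀ i, i < 27010 → P i := stepQ 27009 Q27009 (allL N27009 (tt N25802 (iv D59779)) (tt N26712 F267069) (tt N28184 (iv F271991)) (tt N25811 F267070) (tt N26723 F267071) (tt N25803 F267072) (tt N28193 (iv F272053)) (tt N26651 F267073) (tt N26646 F267074) (tt N28142 (iv F271754)))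
theorem Q27011 : ∀ i, i < 27011 → P i := stepQ 27010 Q27010 (allL N27010 (tt N25804 F267075) (tt N28072 (iv F271365)) (tt N28185 (iv F272000)) (tt N28032 (iv F271108)) (tt N25803 (iv D59780)) (tt N28194 D60964) (tt N26514 F267076) (tt N28167 (iv F271894)) (tt N28189 (iv F272025)) (tt N28143 (iv F271757)))
theorem Q27012 : ∀ i, i < 27012 → P i := stepQ 27011 Q27011 (allL N27011 (tt N28194 (iv F272056)) (tt N25805 F267077) (tt N28186 (iv F272003)) (tt N28033 (iv F271112)) (tt N26722 F267078) (tt N25804 (iv D59781)) (tt N28195 D60965) (tt N28168 (iv F271898)) (tt N28190 (iv F272030)) (tt N28144 (iv F271761)))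
theorem Q27013 : ∀ i, i < 27013 → P i := stepQ 27012 Q27012 (allL N27012 (tt N26725 F267079) (tt N28195 (iv F272059)) (tt N25806 F267080) (tt N28034 (iv F271115)) (tt N26442 F267081) (tt N26318 F267082) (tt N25805 (iv D59782)) (tt N26657 (iv F267084)) (tt N28191 (iv F272037)) (tt N26493 F267083))
theorem Q27014 : ∀ i, i < 27014 → P i := stepQ 27013 Q27013 (allL N27013 (tt N28196 D60966) (tt N25807 (iv D59783)) (tt N26294 F267085) (tt N28192 (iv F272041)) (tt N28197 D60967) (tt N26516 F267086) (tt N28170 (iv F271907)) (tt N25809 F267087) (tt N27943 (iv F270564)) (tt N28145 (iv F271769)))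
theorem Q27015 : ∀ i, i < 27015 → P i := stepQ 27014 Q27014 (allL N27014 (tt N28074 (iv F271379)) (tt N28197 (iv F272068)) (tt N25808 F267088) (tt N28163 (iv F271869)) (tt N25807 (iv D59784)) (tt N26583 F267089) (tt N28171 (iv F271914)) (tt N25810 F267090) (tt N26587 F267091) (tt N28146 (iv F271777)))
theorem Q27016 : ∀ i, i < 27016 → P i := stepQ 27015 Q27015 (allL N27015 (tt N25809 (iv D59785)) (tt N28075 (iv F271387)) (tt N26296 F267092) (tt N28193 (iv F272050)) (tt N28198 D60968) (tt N26517 F267093) (tt N25811 F267094) (tt N28196 (iv F272067)) (tt N27944 (iv F270571)) (tt N28147 (iv F271784)))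
theorem Q27017 : ∀ i, i < 27017 → P i := stepQ 27016 Q27016 (allL N27016 (tt N28198 (iv F272073)) (tt N25810 F267095) (tt N26297 F267096) (tt N28179 (iv F271959)) (tt N25809 (iv D59786)) (tt N28058 (iv F271273)) (tt N25812 F267097) (tt N28197 (iv F272071)) (tt N27945 (iv F270579)) (tt N28148 (iv F271791)))
theorem Q27018 : ∀ i, i < 27018 → P i := stepQ 27017 Q27017 (allL N27017 (tt N25812 F267098) (tt N28077 (iv F271402)) (tt N26299 F267099) (tt N28199 D60969) (tt N25811 (iv D59787)) (tt N28035 (iv F271123)) (tt N28198 (iv F272075)) (tt N28175 (iv F271937)) (tt N27946 (iv F270585)) (tt N28149 (iv F271794)))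
theorem Q27019 : ∀ i, i < 27019 → P i := stepQ 27018 Q27018 (allL N27018 (tt N28199 (iv F272076)) (tt N25813 F267100) (tt N28200 D60970) (tt N25812 (iv D59788)) (tt N26484 F267101) (tt N28036 (iv F271126)) (tt N28179 (iv F271961)) (tt N28176 (iv F271942)) (tt N28201 D60971) (tt N28150 (iv F271798)))
theorem Q27020 : ∀ i, i < 27020 → P i := stepQ 27019 Q27019 (allL N27019 (tt N26490 F267102) (tt N28201 (iv F272084)) (tt N25819 F267103) (tt N27948 (iv F270593)) (tt N26148 F267104) (tt N28037 (iv F271130)) (tt N28166 (iv F271888)) (tt N26169 F267105) (tt N25813 (iv D59789)) (tt N28202 D60972))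
theorem Q27021 : ∀ i, i < 27021 → P i := stepQ 27020 Q27020 (allL N27020 (tt N26385 F267106) (tt N25817 F267107) (tt N28203 D60973) (tt N25816 (iv D59790)) (tt N26156 F267108) (tt N26658 F267109) (tt N26655 F267110) (tt N25818 F267111) (tt N26159 F267112) (tt N26284 F267113))
theorem Q27022 : ∀ i, i < 27022 → P i := stepQ 27021 Q27021 (allL N27021 (tt N26401 F267114) (tt N28200 (iv F272079)) (tt N25818 (iv D59791)) (tt N26318 F267115) (tt N26198 F267116) (tt N28034 (iv F271117)) (tt N26200 F267117) (tt N28203 (iv F272097)) (tt N28169 (iv F271904)) (tt N26286 F267118))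
theorem Q27023 : ∀ i, i < 27023 → P i := stepQ 27022 Q27022 (allL N27022 (tt N26488 F267119) (tt N28095 (iv F271512)) (tt N28202 (iv F272088)) (tt N25820 F267120) (tt N25923 F267121) (tt N28042 (iv F271162)) (tt N26509 F267122) (tt N25933 F267123) (tt N28153 (iv F271817)) (tt N25819 (iv D59792)))
theorem Q27024 : ∀ i, i < 27024 → P i := stepQ 27023 Q27023 (allL N27023 (tt N25938 F267124) (tt N28204 D60974) (tt N25823 (iv D59793)) (tt N25964 F267125) (tt N25873 F267126) (tt N25859 F267127) (tt N25888 F267128) (tt N25824 F267129) (tt N26026 F267130) (tt N25900 F267131))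
theorem Q27025 : ∀ i, i < 27025 → P i := stepQ 27024 Q27024 (allL N27024 (tt N28205 D60975) (tt N25824 (iv D59794)) (tt N25837 F267132) (tt N26573 F267133) (tt N25879 F267134) (tt N26571 F267135) (tt N26339 F267136) (tt N28204 (iv F272105)) (tt N26029 F267137) (tt N26557 F267138))
theorem Q27026 : ∀ i, i < 27026 → P i := stepQ 27025 Q27025 (allL N27025 (tt N25844 F267139) (tt N28206 D60976) (tt N25825 (iv D59795)) (tt N25852 F267140) (tt N25888 F267141) (tt N25848 F267142) (tt N25873 F267143) (tt N25829 F267144) (tt N26074 F267145) (tt N25832 F267146))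
theorem Q27027 : ∀ i, i < 27027 → P i := stepQ 27026 Q27026 (allL N27026 (tt N25848 F267147) (tt N28207 D60977) (tt N25826 (iv D59796)) (tt N25829 F267148) (tt N28208 D60978) (tt N25844 F267149) (tt N25985 F267150) (tt N25852 F267151) (tt N28047 (iv F271201)) (tt N25833 F267152))
theorem Q27028 : ∀ i, i < 27028 → P i := stepQ 27027 Q27027 (allL N27027 (tt N25849 F267153) (tt N25999 F267154) (tt N28208 (iv F272131)) (tt N25827 F267155) (tt N25826 (iv D59797)) (tt N25944 F267156) (tt N25986 F267157) (tt N25853 F267158) (tt N28048 (iv F271209)) (tt N25834 F267159))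
theorem Q27029 : ∀ i, i < 27029 → P i := stepQ 27028 Q27028 (allL N27028 (tt N25852 F267160) (tt N28209 D60979) (tt N25828 (iv D59798)) (tt N25844 F267161) (tt N28210 D60980) (tt N25829 F267162) (tt N26345 F267163) (tt N25848 F267164) (tt N26610 F267165) (tt N25835 F267166))
theorem Q27030 : ∀ i, i < 27030 → P i := stepQ 27029 Q27029 (allL N27029 (tt N25853 F267167) (tt N26352 F267168) (tt N28210 (iv F272145)) (tt N25830 F267169) (tt N25828 (iv D59799)) (tt N25897 F267170) (tt N26346 F267171) (tt N25849 F267172) (tt N26611 F267173) (tt N25836 F267174))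
theorem Q27031 : ∀ i, i < 27031 → P i := stepQ 27030 Q27030 (allL N27030 (tt N28211 D60981) (tt N25829 (iv D59800)) (tt N26557 F267175) (tt N28207 (iv F272125)) (tt N25898 F267176) (tt N28209 (iv F272139)) (tt N26521 F267177) (tt N28206 (iv F272121)) (tt N26624 F267178) (tt N25837 F267179))
theorem Q27032 : ∀ i, i < 27032 → P i := stepQ 27031 Q27031 (allL N27031 (tt N25857 F267180) (tt N28212 D60982) (tt N25831 (iv D59801)) (tt N25866 F267181) (tt N25900 F267182) (tt N25877 F267183) (tt N25832 F267184) (tt N25872 F267185) (tt N26030 F267186) (tt N25873 F267187))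
theorem Q27033 : ∀ i, i < 27033 → P i := stepQ 27032 Q27032 (allL N27032 (tt N28213 D60983) (tt N25832 (iv D59802)) (tt N28204 (iv F272100)) (tt N25868 F267188) (tt N25904 F267189) (tt N25863 F267190) (tt N28212 (iv F272162)) (tt N25837 F267191) (tt N26031 F267192) (tt N28206 (iv F272123)))
theorem Q27034 : ∀ i, i < 27034 → P i := stepQ 27033 Q27033 (allL N27033 (tt N28214 D60984) (tt N25833 (iv D59803)) (tt N27930 (iv F270460)) (tt N25837 F267193) (tt N28215 D60985) (tt N25858 F267194) (tt N26523 F267195) (tt N25868 F267196) (tt N26056 F267197) (tt N28207 (iv F272129)))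
theorem Q27035 : ∀ i, i < 27035 → P i := stepQ 27034 Q27034 (allL N27034 (tt N25864 F267198) (tt N28215 (iv F272178)) (tt N25834 F267199) (tt N25912 F267200) (tt N25833 (iv D59804)) (tt N25977 F267201) (tt N26524 F267202) (tt N25869 F267203) (tt N26057 F267204) (tt N28208 (iv F272136)))
theorem Q27036 : ∀ i, i < 27036 → P i := stepQ 27035 Q27035 (allL N27035 (tt N28216 D60986) (tt N25835 (iv D59805)) (tt N26571 F267205) (tt N25858 F267206) (tt N28217 D60987) (tt N25837 F267207) (tt N26576 F267208) (tt N25863 F267209) (tt N26032 F267210) (tt N28209 (iv F272143)))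
theorem Q27037 : ∀ i, i < 27037 → P i := stepQ 27036 Q27036 (allL N27036 (tt N25869 F267211) (tt N28217 (iv F272192)) (tt N25836 F267212) (tt N25975 F267213) (tt N25835 (iv D59806)) (tt N25915 F267214) (tt N26577 F267215) (tt N25864 F267216) (tt N26033 F267217) (tt N28210 (iv F272151)))
theorem Q27038 : ∀ i, i < 27038 → P i := stepQ 27037 Q27037 (allL N27037 (tt N25837 (iv D59807)) (tt N25870 F267218) (tt N28205 (iv F272109)) (tt N28214 (iv F272173)) (tt N25916 F267219) (tt N28216 (iv F272188)) (tt N26526 F267220) (tt N28213 (iv F272170)) (tt N26034 F267221) (tt N28211 (iv F272157)))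
theorem Q27039 : ∀ i, i < 27039 → P i := stepQ 27038 Q27038 (allL N27038 (tt N26527 F267222) (tt N25990 F267223) (tt N28218 D60988) (tt N25838 (iv D59808)) (tt N28219 D60989) (tt N25982 F267224) (tt N26035 F267225) (tt N26535 F267226) (tt N25840 F267227) (tt N25981 F267228))
theorem Q27040 : ∀ i, i < 27040 → P i := stepQ 27039 Q27039 (allL N27039 (tt N26535 F267229) (tt N25950 F267230) (tt N28220 D60990) (tt N25839 (iv D59809)) (tt N28221 D60991) (tt N25840 F267231) (tt N26043 F267232) (tt N26527 F267233) (tt N25982 F267234) (tt N25946 F267235))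
theorem Q27041 : ∀ i, i < 27041 → P i := stepQ 27040 Q27040 (allL N27040 (tt N26538 F267236) (tt N28222 D60992) (tt N25840 (iv D59810)) (tt N25843 F267237) (tt N28223 D60993) (tt N28220 (iv F272215)) (tt N26045 F267238) (tt N28046 (iv F271193)) (tt N28218 (iv F272204)) (tt N26037 F267239))
theorem Q27042 : ∀ i, i < 27042 → P i := stepQ 27041 Q27041 (allL N27041 (tt N26539 F267240) (tt N27977 (iv F270782)) (tt N28223 (iv F272231)) (tt N25841 F267241) (tt N25840 (iv D59811)) (tt N28224 D60994) (tt N26046 F267242) (tt N27950 (iv F270610)) (tt N28219 (iv F272211)) (tt N26038 F267243))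
theorem Q27043 : ∀ i, i < 27043 → P i := stepQ 27042 Q27042 (allL N27042 (tt N26551 F267244) (tt N27993 (iv F270874)) (tt N25934 F267245) (tt N28224 (iv F272236)) (tt N27042 F267246) (tt N25841 (iv D59812)) (tt N26213 F267247) (tt N27938 (iv F270523)) (tt N27042 F267248) (tt N26039 F267249))
theorem Q27044 : ∀ i, i < 27044 → P i := stepQ 27043 Q27043 (allL N27043 (tt N26610 F267250) (tt N28225 D60995) (tt N25842 (iv D59813)) (tt N28220 (iv F272214)) (tt N28226 D60996) (tt N25843 F267251) (tt N26599 F267252) (tt N28047 (iv F271200)) (tt N25852 F267253) (tt N26040 F267254))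
theorem Q27045 : ∀ i, i < 27045 → P i := stepQ 27044 Q27044 (allL N27044 (tt N26611 F267255) (tt N26382 F267256) (tt N28226 (iv F272245)) (tt N27044 F267257) (tt N25842 (iv D59814)) (tt N25936 F267258) (tt N26600 F267259) (tt N28048 (iv F271208)) (tt N25853 F267260) (tt N26041 F267261))
theorem Q27046 : ∀ i, i < 27046 → P i := stepQ 27045 Q27045 (allL N27045 (tt N28227 D60997) (tt N25843 (iv D59815)) (tt N26383 F267262) (tt N28222 (iv F272227)) (tt N25937 F267263) (tt N28225 (iv F272240)) (tt N26369 F267264) (tt N28049 (iv F271214)) (tt N25854 F267265) (tt N26042 F267266))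
theorem Q27047 : ∀ i, i < 27047 → P i := stepQ 27046 Q27046 (allL N27046 (tt N28228 D60998) (tt N25844 (iv D59816)) (tt N26592 F267267) (tt N28209 (iv F272138)) (tt N25945 F267268) (tt N28207 (iv F272126)) (tt N26584 F267269) (tt N25854 F267270) (tt N28049 (iv F271215)) (tt N25858 F267271))
theorem Q27048 : ∀ i, i < 27048 → P i := stepQ 27047 Q27047 (allL N27047 (tt N25964 F267272) (tt N28229 D60999) (tt N25845 (iv D59817)) (tt N25938 F267273) (tt N28230 D61000) (tt N25900 F267274) (tt N25941 F267275) (tt N26351 F267276) (tt N26107 F267277) (tt N25859 F267278))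
theorem Q27049 : ∀ i, i < 27049 → P i := stepQ 27048 Q27048 (allL N27048 (tt N25965 F267279) (tt N25849 F267280) (tt N28230 (iv F272269)) (tt N25846 F267281) (tt N25845 (iv D59818)) (tt N25878 F267282) (tt N25942 F267283) (tt N26352 F267284) (tt N26108 F267285) (tt N25860 F267286))
theorem Q27050 : ∀ i, i < 27050 → P i := stepQ 27049 Q27049 (allL N27049 (tt N28047 (iv F271196)) (tt N28231 D61001) (tt N25847 (iv D59819)) (tt N28218 (iv F272200)) (tt N28232 D61002) (tt N26074 F267287) (tt N26528 F267288) (tt N26610 F267289) (tt N25848 F267290) (tt N26618 F267291))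
theorem Q27051 : ∀ i, i < 27051 → P i := stepQ 27050 Q27050 (allL N27050 (tt N28048 (iv F271203)) (tt N26108 F267292) (tt N28232 (iv F272282)) (tt N27050 F267293) (tt N25847 (iv D59820)) (tt N28233 D61003) (tt N26529 F267294) (tt N26611 F267295) (tt N25849 F267296) (tt N26619 F267297))
theorem Q27052 : ∀ i, i < 27052 → P i := stepQ 27051 Q27051 (allL N27051 (tt N28234 D61004) (tt N25848 (iv D59821)) (tt N28229 (iv F272261)) (tt N25854 F267298) (tt N28235 D61005) (tt N28206 (iv F272119)) (tt N26530 F267299) (tt N28209 (iv F272141)) (tt N28231 (iv F272280)) (tt N25863 F267300))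
theorem Q27053 : ∀ i, i < 27053 → P i := stepQ 27052 Q27052 (allL N27052 (tt N28208 (iv F272130)) (tt N28235 (iv F272298)) (tt N25849 F267301) (tt N25956 F267302) (tt N25848 (iv D59822)) (tt N28236 D61006) (tt N26531 F267303) (tt N28210 (iv F272149)) (tt N28232 (iv F272285)) (tt N25864 F267304))
theorem Q27054 : ∀ i, i < 27054 → P i := stepQ 27053 Q27053 (allL N27053 (tt N25944 F267305) (tt N25878 F267306) (tt N28236 (iv F272303)) (tt N25850 F267307) (tt N25875 F267308) (tt N25849 (iv D59823)) (tt N25973 (iv F267311)) (tt N25897 F267309) (tt N28233 (iv F272292)) (tt N25865 F267310))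
theorem Q27055 : ∀ i, i < 27055 → P i := stepQ 27054 Q27054 (allL N27054 (tt N26345 F267312) (tt N28237 D61007) (tt N25851 (iv D59824)) (tt N25873 F267313) (tt N28238 D61008) (tt N25872 F267314) (tt N25852 F267315) (tt N25877 F267316) (tt N26599 F267317) (tt N25866 F267318))
theorem Q27056 : ∀ i, i < 27056 → P i := stepQ 27055 Q27055 (allL N27055 (tt N26346 F267319) (tt N25897 F267320) (tt N28238 (iv F272317)) (tt N25855 F267321) (tt N25851 (iv D59825)) (tt N26352 F267322) (tt N25853 F267323) (tt N25878 F267324) (tt N26600 F267325) (tt N25867 F267326))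
theorem Q27057 : ∀ i, i < 27057 → P i := stepQ 27056 Q27056 (allL N27056 (tt N28239 D61009) (tt N25852 (iv D59826)) (tt N27927 (iv F270437)) (tt N28206 (iv F272117)) (tt N28240 D61010) (tt N25854 F267327) (tt N28237 (iv F272312)) (tt N28207 (iv F272128)) (tt N28225 (iv F272242)) (tt N25868 F267328))
theorem Q27058 : ∀ i, i < 27058 → P i := stepQ 27057 Q27057 (allL N27057 (tt N28210 (iv F272144)) (tt N28240 (iv F272326)) (tt N25853 F267329) (tt N28241 D61011) (tt N25852 (iv D59827)) (tt N25961 F267330) (tt N28238 (iv F272320)) (tt N28208 (iv F272135)) (tt N28226 (iv F272248)) (tt N25869 F267331))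
theorem Q27059 : ∀ i, i < 27059 → P i := stepQ 27058 Q27058 (allL N27058 (tt N25854 (iv D59828)) (tt N28211 (iv F272152)) (tt N27929 (iv F270453)) (tt N28234 (iv F272295)) (tt N25962 F267332) (tt N28239 (iv F272324)) (tt N26533 F267333) (tt N28228 (iv F272259)) (tt N28227 (iv F272254)) (tt N25870 F267334))
theorem Q27060 : ∀ i, i < 27060 → P i := stepQ 27059 Q27059 (allL N27059 (tt N25942 F267335) (tt N25910 F267336) (tt N28241 (iv F272330)) (tt N25856 (iv D59829)) (tt N25887 F267337) (tt N25963 F267338) (tt N25965 F267339) (tt N25894 F267340) (tt N26229 (iv F267342)) (tt N25871 F267341))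
theorem Q27061 : ∀ i, i < 27061 → P i := stepQ 27060 Q27060 (allL N27060 (tt N28242 D61012) (tt N25857 (iv D59830)) (tt N26343 F267343) (tt N26576 F267344) (tt N25966 F267345) (tt N26562 F267346) (tt N25858 F267347) (tt N26347 F267348) (tt N26054 F267349) (tt N26584 F267350))
theorem Q27062 : ∀ i, i < 27062 → P i := stepQ 27061 Q27061 (allL N27061 (tt N25858 (iv D59831)) (tt N28213 (iv F272166)) (tt N27931 (iv F270469)) (tt N28216 (iv F272187)) (tt N25978 F267351) (tt N28214 (iv F272174)) (tt N28242 (iv F272341)) (tt N25870 F267352) (tt N26058 F267353) (tt N28228 (iv F272260)))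
theorem Q27063 : ∀ i, i < 27063 → P i := stepQ 27062 Q27062 (allL N27062 (tt N28243 D61013) (tt N25859 (iv D59832)) (tt N25863 F267354) (tt N25966 F267355) (tt N28244 D61014) (tt N28204 (iv F272103)) (tt N25974 F267356) (tt N26571 F267357) (tt N28073 (iv F271377)) (tt N28229 (iv F272267)))
theorem Q27064 : ∀ i, i < 27064 → P i := stepQ 27063 Q27063 (allL N27063 (tt N26587 F267358) (tt N28244 (iv F272349)) (tt N25860 F267359) (tt N26577 F267360) (tt N25859 (iv D59833)) (tt N26581 F267361) (tt N25975 F267362) (tt N26572 F267363) (tt N28074 (iv F271385)) (tt N28230 (iv F272275)))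
theorem Q27065 : ∀ i, i < 27065 → P i := stepQ 27064 Q27064 (allL N27064 (tt N28245 D61015) (tt N25861 (iv D59834)) (tt N28073 (iv F271372)) (tt N26060 F267364) (tt N28246 D61016) (tt N26031 F267365) (tt N26540 F267366) (tt N26032 F267367) (tt N25863 F267368) (tt N26621 F267369))
theorem Q27066 : ∀ i, i < 27066 → P i := stepQ 27065 Q27065 (allL N27065 (tt N26057 F267370) (tt N28246 (iv F272362)) (tt N25862 F267371) (tt N26638 F267372) (tt N25861 (iv D59835)) (tt N26119 F267373) (tt N26541 F267374) (tt N26033 F267375) (tt N25864 F267376) (tt N26622 F267377))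
theorem Q27067 : ∀ i, i < 27067 → P i := stepQ 27066 Q27066 (allL N27066 (tt N25863 (iv D59836)) (tt N28214 (iv F272172)) (tt N28243 (iv F272345)) (tt N25870 F267378) (tt N28247 D61017) (tt N28213 (iv F272169)) (tt N26546 F267379) (tt N28216 (iv F272190)) (tt N28245 (iv F272360)) (tt N28234 (iv F272297)))
theorem Q27068 : ∀ i, i < 27068 → P i := stepQ 27067 Q27067 (allL N27067 (tt N28247 (iv F272369)) (tt N25864 F267380) (tt N28244 (iv F272350)) (tt N26004 F267381) (tt N25863 (iv D59837)) (tt N28248 D61018) (tt N26547 F267382) (tt N28217 (iv F272197)) (tt N28246 (iv F272367)) (tt N28235 (iv F272301)))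
theorem Q27069 : ∀ i, i < 27069 → P i := stepQ 27068 Q27068 (allL N27068 (tt N25977 F267383) (tt N28248 (iv F272372)) (tt N25865 F267384) (tt N26005 F267385) (tt N25903 F267386) (tt N25864 (iv D59838)) (tt N27949 (iv F270601)) (tt N25915 F267387) (tt N26119 F267388) (tt N28236 (iv F272307)))
theorem Q27070 : ∀ i, i < 27070 → P i := stepQ 27069 Q27069 (allL N27069 (tt N28249 D61019) (tt N25866 (iv D59839)) (tt N25914 F267389) (tt N28212 (iv F272159)) (tt N28250 D61020) (tt N25879 F267390) (tt N25868 F267391) (tt N26580 F267392) (tt N26065 F267393) (tt N28237 (iv F272315)))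
theorem Q27071 : ∀ i, i < 27071 → P i := stepQ 27070 Q27070 (allL N27070 (tt N26577 F267394) (tt N28250 (iv F272384)) (tt N25867 F267395) (tt N26587 F267396) (tt N25866 (iv D59840)) (tt N26572 F267397) (tt N25869 F267398) (tt N26581 F267399) (tt N26066 F267400) (tt N28238 (iv F272323)))
theorem Q27072 : ∀ i, i < 27072 → P i := stepQ 27071 Q27071 (allL N27071 (tt N25868 (iv D59841)) (tt N28216 (iv F272185)) (tt N27934 (iv F270493)) (tt N28213 (iv F272167)) (tt N28251 D61021) (tt N25870 F267401) (tt N28249 (iv F272381)) (tt N28214 (iv F272176)) (tt N26067 F267402) (tt N28239 (iv F272325)))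
theorem Q27073 : ∀ i, i < 27073 → P i := stepQ 27072 Q27072 (allL N27072 (tt N28251 (iv F272391)) (tt N25869 F267403) (tt N27935 (iv F270498)) (tt N28252 D61022) (tt N25868 (iv D59842)) (tt N26011 F267404) (tt N28250 (iv F272388)) (tt N28215 (iv F272183)) (tt N26068 F267405) (tt N28240 (iv F272328)))
theorem Q27074 : ∀ i, i < 27074 → P i := stepQ 27073 Q27073 (allL N27073 (tt N25975 F267406) (tt N28252 (iv F272394)) (tt N25871 F267407) (tt N25869 (iv D59843)) (tt N25901 F267408) (tt N26012 F267409) (tt N26587 F267410) (tt N25912 F267411) (tt N28171 (iv F271916)) (tt N28241 (iv F272335)))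
theorem Q27075 : ∀ i, i < 27075 → P i := stepQ 27074 Q27074 (allL N27074 (tt N28253 D61023) (tt N25872 (iv D59844)) (tt N25898 F267412) (tt N26580 F267413) (tt N26557 F267414) (tt N28237 (iv F272311)) (tt N26522 F267415) (tt N28212 (iv F272163)) (tt N26601 F267416) (tt N25879 F267417))
theorem Q27076 : ∀ i, i < 27076 → P i := stepQ 27075 Q27075 (allL N27075 (tt N28254 D61024) (tt N25873 (iv D59845)) (tt N25904 F267418) (tt N28237 (iv F272310)) (tt N28204 (iv F272102)) (tt N26580 F267419) (tt N28206 (iv F272120)) (tt N25879 F267420) (tt N26077 F267421) (tt N28212 (iv F272165)))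
theorem Q27077 : ∀ i, i < 27077 → P i := stepQ 27076 Q27076 (allL N27076 (tt N25924 F267422) (tt N25876 F267423) (tt N28255 D61025) (tt N25874 (iv D59846)) (tt N28233 (iv F272290)) (tt N25880 F267424) (tt N25968 F267425) (tt N25885 F267426) (tt N25875 F267427) (tt N26083 F267428))
theorem Q27078 : ∀ i, i < 27078 → P i := stepQ 27077 Q27077 (allL N27077 (tt N25943 F267429) (tt N28256 D61026) (tt N25875 (iv D59847)) (tt N25905 F267430) (tt N28236 (iv F272305)) (tt N25888 F267431) (tt N25972 F267432) (tt N25896 F267433) (tt N28255 (iv F272417)) (tt N25903 F267434))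
theorem Q27079 : ∀ i, i < 27079 → P i := stepQ 27078 Q27078 (allL N27078 (tt N26052 F267435) (tt N28257 D61027) (tt N25876 (iv D59848)) (tt N26078 F267436) (tt N28258 D61028) (tt N26030 F267437) (tt N26536 F267438) (tt N26599 F267439) (tt N25877 F267440) (tt N26607 F267441))
theorem Q27080 : ∀ i, i < 27080 → P i := stepQ 27079 Q27079 (allL N27079 (tt N26053 F267442) (tt N28233 (iv F272288)) (tt N28258 (iv F272432)) (tt N27079 F267443) (tt N25876 (iv D59849)) (tt N26108 F267444) (tt N26537 F267445) (tt N26600 F267446) (tt N25878 F267447) (tt N26608 F267448))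
theorem Q27081 : ∀ i, i < 27081 → P i := stepQ 27080 Q27080 (allL N27080 (tt N28259 D61029) (tt N25877 (iv D59850)) (tt N28256 (iv F272419)) (tt N25879 F267449) (tt N28260 D61030) (tt N28212 (iv F272161)) (tt N26543 F267450) (tt N28237 (iv F272313)) (tt N28257 (iv F272429)) (tt N26580 F267451))
theorem Q27082 : ∀ i, i < 27082 → P i := stepQ 27081 Q27081 (allL N27081 (tt N26563 F267452) (tt N28260 (iv F272443)) (tt N25878 F267453) (tt N26574 F267454) (tt N25877 (iv D59851)) (tt N28230 (iv F272271)) (tt N26544 F267455) (tt N28238 (iv F272321)) (tt N28258 (iv F272436)) (tt N26581 F267456))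
theorem Q27083 : ∀ i, i < 27083 → P i := stepQ 27082 Q27082 (allL N27082 (tt N25879 (iv D59852)) (tt N27939 (iv F270525)) (tt N25916 F267457) (tt N28259 (iv F272440)) (tt N28205 (iv F272111)) (tt N28249 (iv F272380)) (tt N26550 F267458) (tt N28254 (iv F272410)) (tt N26082 F267459) (tt N28253 (iv F272406)))
theorem Q27084 : ∀ i, i < 27084 → P i := stepQ 27083 Q27083 (allL N27083 (tt N25925 F267460) (tt N28261 D61031) (tt N25880 (iv D59853)) (tt N26487 F267461) (tt N26074 F267462) (tt N28255 (iv F272414)) (tt N26026 F267463) (tt N25886 F267464) (tt N25888 F267465) (tt N26084 F267466))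
theorem Q27085 : ∀ i, i < 27085 → P i := stepQ 27084 Q27084 (allL N27084 (tt N25930 F267467) (tt N26434 F267468) (tt N28262 D61032) (tt N25881 (iv D59854)) (tt N28263 D61033) (tt N26243 F267469) (tt N26387 F267470) (tt N26222 F267471) (tt N25883 F267472) (tt N26431 F267473))
theorem Q27086 : ∀ i, i < 27086 → P i := stepQ 27085 Q27085 (allL N27085 (tt N25931 F267474) (tt N26467 F267475) (tt N28264 D61034) (tt N25882 (iv D59855)) (tt N28265 D61035) (tt N25883 F267476) (tt N26268 F267477) (tt N26237 F267478) (tt N26243 F267479) (tt N26085 F267480))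
theorem Q27087 : ∀ i, i < 27087 → P i := stepQ 27086 Q27086 (allL N27086 (tt N25932 F267481) (tt N28266 D61036) (tt N25883 (iv D59856)) (tt N25886 F267482) (tt N28267 D61037) (tt N28264 (iv F272470)) (tt N26390 F267483) (tt N26487 F267484) (tt N28262 (iv F272459)) (tt N26086 F267485))
theorem Q27088 : ∀ i, i < 27088 → P i := stepQ 27087 Q27087 (allL N27087 (tt N25933 F267486) (tt N26471 F267487) (tt N28267 (iv F272488)) (tt N25884 F267488) (tt N25883 (iv D59857)) (tt N28268 D61038) (tt N26391 F267489) (tt N26488 F267490) (tt N28263 (iv F272466)) (tt N26087 F267491))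
theorem Q27089 : ∀ i, i < 27089 → P i := stepQ 27088 Q27088 (allL N27088 (tt N25934 F267492) (tt N26519 F267493) (tt N26551 F267494) (tt N28268 (iv F272495)) (tt N27088 F267495) (tt N25884 (iv D59858)) (tt N28269 D61039) (tt N26328 F267496) (tt N27088 F267497) (tt N26088 F267498))
theorem Q27090 : ∀ i, i < 27090 → P i := stepQ 27089 Q27089 (allL N27089 (tt N25935 F267499) (tt N28270 D61040) (tt N25885 (iv D59859)) (tt N28264 (iv F272469)) (tt N28271 D61041) (tt N25886 F267500) (tt N26381 F267501) (tt N28255 (iv F272416)) (tt N25896 F267502) (tt N26089 F267503))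
theorem Q27091 : ∀ i, i < 27091 → P i := stepQ 27090 Q27090 (allL N27090 (tt N25936 F267504) (tt N26600 F267505) (tt N28271 (iv F272512)) (tt N27090 F267506) (tt N25885 (iv D59860)) (tt N26611 F267507) (tt N26382 F267508) (tt N28233 (iv F272291)) (tt N25897 F267509) (tt N26090 F267510))
theorem Q27092 : ∀ i, i < 27092 → P i := stepQ 27091 Q27091 (allL N27091 (tt N28272 D61042) (tt N25886 (iv D59861)) (tt N26601 F267511) (tt N28266 (iv F272483)) (tt N26624 F267512) (tt N28270 (iv F272507)) (tt N26396 F267513) (tt N28261 (iv F272451)) (tt N25898 F267514) (tt N26091 F267515))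
theorem Q27093 : ∀ i, i < 27093 → P i := stepQ 27092 Q27092 (allL N27092 (tt N25941 F267516) (tt N28273 D61043) (tt N25887 (iv D59862)) (tt N25888 F267517) (tt N28241 (iv F272331)) (tt N25905 F267518) (tt N25964 F267519) (tt N25893 F267520) (tt N26228 F267521) (tt N25901 F267522))
theorem Q27094 : ∀ i, i < 27094 → P i := stepQ 27093 Q27093 (allL N27093 (tt N28274 D61044) (tt N25888 (iv D59863)) (tt N28212 (iv F272158)) (tt N28273 (iv F272524)) (tt N28206 (iv F272118)) (tt N28256 (iv F272421)) (tt N28204 (iv F272104)) (tt N25898 F267523) (tt N28261 (iv F272452)) (tt N25904 F267524))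
theorem Q27095 : ∀ i, i < 27095 → P i := stepQ 27094 Q27094 (allL N27094 (tt N25972 F267525) (tt N28275 D61045) (tt N25889 (iv D59864)) (tt N25903 F267526) (tt N28276 D61046) (tt N25901 F267527) (tt N25943 F267528) (tt N25909 F267529) (tt N28154 (iv F271823)) (tt N25905 F267530))
theorem Q27096 : ∀ i, i < 27096 → P i := stepQ 27095 Q27095 (allL N27095 (tt N25973 F267531) (tt N25894 F267532) (tt N28276 (iv F272540)) (tt N25890 F267533) (tt N25889 (iv D59865)) (tt N26014 F267534) (tt N25944 F267535) (tt N25910 F267536) (tt N28155 (iv F271831)) (tt N25906 F267537))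
theorem Q27097 : ∀ i, i < 27097 → P i := stepQ 27096 Q27096 (allL N27096 (tt N25951 F267538) (tt N28277 D61047) (tt N25891 (iv D59866)) (tt N28262 (iv F272455)) (tt N28278 D61048) (tt N26250 F267539) (tt N26552 F267540) (tt N26228 F267541) (tt N25893 F267542) (tt N28089 (iv F271481)))
theorem Q27098 : ∀ i, i < 27098 → P i := stepQ 27097 Q27097 (allL N27097 (tt N25952 F267543) (tt N28155 (iv F271826)) (tt N28278 (iv F272551)) (tt N27097 F267544) (tt N25891 (iv D59867)) (tt N28279 D61049) (tt N26553 F267545) (tt N26229 F267546) (tt N25894 F267547) (tt N28090 (iv F271488)))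
theorem Q27099 : ∀ i, i < 27099 → P i := stepQ 27098 Q27098 (allL N27098 (tt N25953 F267548) (tt N28280 D61050) (tt N25892 (iv D59868)) (tt N25896 F267549) (tt N26597 F267550) (tt N25893 F267551) (tt N26007 F267552) (tt N25905 F267553) (tt N26250 F267554) (tt N25909 F267555))
theorem Q27100 : ∀ i, i < 27100 → P i := stepQ 27099 Q27099 (allL N27099 (tt N28281 D61051) (tt N25893 (iv D59869)) (tt N28275 (iv F272533)) (tt N25898 F267556) (tt N28282 D61052) (tt N28280 (iv F272565)) (tt N26554 F267557) (tt N28273 (iv F272527)) (tt N28277 (iv F272549)) (tt N25911 F267558))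
theorem Q27101 : ∀ i, i < 27101 → P i := stepQ 27100 Q27100 (allL N27100 (tt N25956 F267559) (tt N28282 (iv F272574)) (tt N25894 F267560) (tt N28208 (iv F272132)) (tt N25893 (iv D59870)) (tt N28283 D61053) (tt N26555 F267561) (tt N28241 (iv F272334)) (tt N28278 (iv F272554)) (tt N25912 F267562))
theorem Q27102 : ∀ i, i < 27102 → P i := stepQ 27101 Q27101 (allL N27101 (tt N25957 F267563) (tt N26014 F267564) (tt N28283 (iv F272578)) (tt N25895 F267565) (tt N26006 F267566) (tt N25894 (iv D59871)) (tt N26002 F267567) (tt N25963 F267568) (tt N28279 (iv F272561)) (tt N25913 F267569))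
theorem Q27103 : ∀ i, i < 27103 → P i := stepQ 27102 Q27102 (allL N27102 (tt N28284 D61054) (tt N25896 (iv D59872)) (tt N28237 (iv F272309)) (tt N28280 (iv F272563)) (tt N28285 D61055) (tt N25898 F267570) (tt N27927 (iv F270440)) (tt N28256 (iv F272423)) (tt N28270 (iv F272509)) (tt N25914 F267571))
theorem Q27104 : ∀ i, i < 27104 → P i := stepQ 27103 Q27103 (allL N27103 (tt N25961 F267572) (tt N28285 (iv F272587)) (tt N25897 F267573) (tt N28286 D61056) (tt N25896 (iv D59873)) (tt N28210 (iv F272147)) (tt N27928 (iv F270448)) (tt N28236 (iv F272306)) (tt N28271 (iv F272515)) (tt N25915 F267574))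
theorem Q27105 : ∀ i, i < 27105 → P i := stepQ 27104 Q27104 (allL N27104 (tt N25898 (iv D59874)) (tt N25962 F267575) (tt N28253 (iv F272401)) (tt N28281 (iv F272571)) (tt N28211 (iv F272154)) (tt N28284 (iv F272585)) (tt N26556 F267576) (tt N28274 (iv F272531)) (tt N28272 (iv F272521)) (tt N25916 F267577))
theorem Q27106 : ∀ i, i < 27106 → P i := stepQ 27105 Q27105 (allL N27105 (tt N25963 F267578) (tt N26532 F267579) (tt N28286 (iv F272590)) (tt N25899 (iv D59875)) (tt N26549 F267580) (tt N25942 F267581) (tt N26545 F267582) (tt N25957 F267583) (tt N28287 D61057) (tt N25919 F267584))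
theorem Q27107 : ∀ i, i < 27107 → P i := stepQ 27106 Q27106 (allL N27106 (tt N28288 D61058) (tt N25900 (iv D59876)) (tt N28206 (iv F272116)) (tt N27943 (iv F270559)) (tt N28212 (iv F272160)) (tt N28229 (iv F272263)) (tt N25904 F267585) (tt N26557 F267586) (tt N26109 F267587) (tt N28204 (iv F272107)))
theorem Q27108 : ∀ i, i < 27108 → P i := stepQ 27107 Q27107 (allL N27107 (tt N28289 D61059) (tt N25901 (iv D59877)) (tt N28280 (iv F272562)) (tt N25904 F267588) (tt N28252 (iv F272395)) (tt N28275 (iv F272535)) (tt N27943 (iv F270562)) (tt N25911 F267589) (tt N28170 (iv F271909)) (tt N28273 (iv F272529)))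
theorem Q27109 : ∀ i, i < 27109 → P i := stepQ 27108 Q27108 (allL N27108 (tt N25905 F267590) (tt N28290 D61060) (tt N25902 (iv D59878)) (tt N25943 F267591) (tt N27949 (iv F270599)) (tt N25941 F267592) (tt N25903 F267593) (tt N25953 F267594) (tt N26116 F267595) (tt N25972 F267596))
theorem Q27110 : ∀ i, i < 27110 → P i := stepQ 27109 Q27109 (allL N27109 (tt N28291 D61061) (tt N25903 (iv D59879)) (tt N26580 F267597) (tt N28275 (iv F272534)) (tt N28248 (iv F272375)) (tt N25904 F267598) (tt N28290 (iv F272613)) (tt N25914 F267599) (tt N26118 F267600) (tt N28256 (iv F272424)))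
theorem Q27111 : ∀ i, i < 27111 → P i := stepQ 27110 Q27110 (allL N27110 (tt N25904 (iv D59880)) (tt N25978 F267601) (tt N28254 (iv F272408)) (tt N28289 (iv F272608)) (tt N28213 (iv F272168)) (tt N28291 (iv F272619)) (tt N28288 (iv F272604)) (tt N25916 F267602) (tt N26120 F267603) (tt N28274 (iv F272532)))
theorem Q27112 : ∀ i, i < 27112 → P i := stepQ 27111 Q27111 (allL N27111 (tt N28292 D61062) (tt N25905 (iv D59881)) (tt N25911 F267604) (tt N28256 (iv F272420)) (tt N28293 D61063) (tt N28273 (iv F272525)) (tt N25976 F267605) (tt N28280 (iv F272567)) (tt N26252 F267606) (tt N28275 (iv F272538)))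
theorem Q27113 : ∀ i, i < 27113 → P i := stepQ 27112 Q27112 (allL N27112 (tt N27949 (iv F270597)) (tt N28293 (iv F272625)) (tt N25906 F267607) (tt N28294 D61064) (tt N25905 (iv D59882)) (tt N28295 D61065) (tt N25977 F267608) (tt N26597 F267609) (tt N26253 F267610) (tt N28276 (iv F272545)))
theorem Q27114 : ∀ i, i < 27114 → P i := stepQ 27113 Q27113 (allL N27113 (tt N26549 F267611) (tt N25913 F267612) (tt N28295 (iv F272638)) (tt N25908 F267613) (tt N25963 F267614) (tt N25906 (iv D59883)) (tt N26525 F267615) (tt N26006 F267616) (tt N26254 F267617) (tt N26014 F267618))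
theorem Q27115 : ∀ i, i < 27115 → P i := stepQ 27114 Q27114 (allL N27114 (tt N26006 F267619) (tt N26525 F267620) (tt N28294 (iv F272631)) (tt N25907 (iv D59884)) (tt N25957 F267621) (tt N25954 F267622) (tt N25913 F267623) (tt N26549 F267624) (tt N28006 (iv F270958)) (tt N26002 F267625))
theorem Q27116 : ∀ i, i < 27116 → P i := stepQ 27115 Q27115 (allL N27115 (tt N28296 D61066) (tt N25909 (iv D59885)) (tt N28273 (iv F272523)) (tt N25914 F267626) (tt N28297 D61067) (tt N25911 F267627) (tt N27932 (iv F270480)) (tt N28275 (iv F272537)) (tt N28156 (iv F271837)) (tt N28280 (iv F272569)))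
theorem Q27117 : ∀ i, i < 27117 → P i := stepQ 27116 Q27116 (allL N27116 (tt N26001 F267628) (tt N28297 (iv F272648)) (tt N25910 F267629) (tt N28298 D61068) (tt N25909 (iv D59886)) (tt N28299 D61069) (tt N26570 F267630) (tt N28276 (iv F272544)) (tt N28157 (iv F271841)) (tt N26597 F267631))
theorem Q27118 : ∀ i, i < 27118 → P i := stepQ 27117 Q27117 (allL N27117 (tt N26002 F267632) (tt N25963 F267633) (tt N28299 (iv F272659)) (tt N25918 F267634) (tt N25913 F267635) (tt N25910 (iv D59887)) (tt N25957 F267636) (tt N26014 F267637) (tt N28158 (iv F271848)) (tt N26006 F267638))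
theorem Q27119 : ∀ i, i < 27119 → P i := stepQ 27118 Q27118 (allL N27118 (tt N25911 (iv D59888)) (tt N26003 F267639) (tt N28292 (iv F272622)) (tt N25916 F267640) (tt N28300 D61070) (tt N28296 (iv F272647)) (tt N26559 F267641) (tt N28289 (iv F272609)) (tt N28172 (iv F271923)) (tt N28281 (iv F272573)))
theorem Q27120 : ∀ i, i < 27120 → P i := stepQ 27119 Q27119 (allL N27119 (tt N28300 (iv F272665)) (tt N25912 F267642) (tt N28293 (iv F272626)) (tt N28215 (iv F272180)) (tt N25911 (iv D59889)) (tt N28301 D61071) (tt N26560 F267643) (tt N28252 (iv F272398)) (tt N28173 (iv F271928)) (tt N28282 (iv F272576)))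
theorem Q27121 : ∀ i, i < 27121 → P i := stepQ 27120 Q27120 (allL N27120 (tt N26005 F267644) (tt N28301 (iv F272668)) (tt N25913 F267645) (tt N25977 F267646) (tt N28299 (iv F272661)) (tt N25912 (iv D59890)) (tt N28294 (iv F272633)) (tt N26012 F267647) (tt N28174 (iv F271933)) (tt N28283 (iv F272583)))
theorem Q27122 : ∀ i, i < 27122 → P i := stepQ 27121 Q27121 (allL N27121 (tt N25914 (iv D59891)) (tt N26010 F267648) (tt N28249 (iv F272379)) (tt N28296 (iv F272646)) (tt N28302 D61072) (tt N25916 F267649) (tt N27934 (iv F270495)) (tt N28291 (iv F272620)) (tt N26132 F267650) (tt N28284 (iv F272586)))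
theorem Q27123 : ∀ i, i < 27123 → P i := stepQ 27122 Q27122 (allL N27122 (tt N28302 (iv F272671)) (tt N25915 F267651) (tt N28250 (iv F272385)) (tt N28303 D61073) (tt N25914 (iv D59892)) (tt N28217 (iv F272195)) (tt N27935 (iv F270500)) (tt N28248 (iv F272376)) (tt N26133 F267652) (tt N28285 (iv F272588)))
theorem Q27124 : ∀ i, i < 27124 → P i := stepQ 27123 Q27123 (allL N27123 (tt N26012 F267653) (tt N28303 (iv F272674)) (tt N25919 F267654) (tt N25915 (iv D59893)) (tt N28298 (iv F272653)) (tt N25975 F267655) (tt N27936 (iv F270507)) (tt N26005 F267656) (tt N28304 D61074) (tt N28286 (iv F272595)))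
theorem Q27125 : ∀ i, i < 27125 → P i := stepQ 27124 Q27124 (allL N27124 (tt N26014 F267657) (tt N26545 F267658) (tt N28298 (iv F272652)) (tt N25917 (iv D59894)) (tt N25919 F267659) (tt N25973 F267660) (tt N26532 F267661) (tt N26002 F267662) (tt N28305 D61075) (tt N26549 F267663))
theorem Q27126 : ∀ i, i < 27126 → P i := stepQ 27125 Q27125 (allL N27125 (tt N26015 F267664) (tt N26542 F267665) (tt N28304 (iv F272679)) (tt N25920 F267666) (tt N28305 (iv F272686)) (tt N25971 F267667) (tt N27937 (iv F270515)) (tt N25997 F267668) (tt N25919 (iv D59895)) (tt N28306 D61076))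
theorem Q27127 : ∀ i, i < 27127 → P i := stepQ 27126 Q27126 (allL N27126 (tt N26019 F267669) (tt N26551 F267670) (tt N26144 F267671) (tt N28306 (iv F272692)) (tt N27126 F267672) (tt N26020 F267673) (tt N27938 (iv F270522)) (tt N26023 F267674) (tt N27126 F267675) (tt N25920 (iv D59896)))
theorem Q27128 : ∀ i, i < 27128 → P i := stepQ 27127 Q27127 (allL N27127 (tt N26222 F267676) (tt N26269 F267677) (tt N28307 D61077) (tt N25921 (iv D59897)) (tt N28153 (iv F271814)) (tt N26112 F267678) (tt N26105 F267679) (tt N25930 F267680) (tt N25923 F267681) (tt N26259 F267682))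
theorem Q27129 : ∀ i, i < 27129 → P i := stepQ 27128 Q27128 (allL N27128 (tt N26237 F267683) (tt N26683 F267684) (tt N28308 D61078) (tt N25922 (iv D59898)) (tt N28309 D61079) (tt N25923 F267685) (tt N26110 F267686) (tt N25931 F267687) (tt N26112 F267688) (tt N26147 F267689))
theorem Q27130 : ∀ i, i < 27130 → P i := stepQ 27129 Q27129 (allL N27129 (tt N26487 F267690) (tt N28310 D61080) (tt N25923 (iv D59899)) (tt N25925 F267691) (tt N28202 (iv F272089)) (tt N28308 (iv F272704)) (tt N26508 F267692) (tt N25932 F267693) (tt N28307 (iv F272700)) (tt N26148 F267694))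
theorem Q27131 : ∀ i, i < 27131 → P i := stepQ 27130 Q27130 (allL N27130 (tt N28255 (iv F272412)) (tt N28311 D61081) (tt N25924 (iv D59900)) (tt N28308 (iv F272703)) (tt N28312 D61082) (tt N25925 F267695) (tt N28154 (iv F271821)) (tt N25935 F267696) (tt N25943 F267697) (tt N26150 F267698))
theorem Q27132 : ∀ i, i < 27132 → P i := stepQ 27131 Q27131 (allL N27131 (tt N28233 (iv F272287)) (tt N26553 F267699) (tt N28312 (iv F272725)) (tt N27131 F267700) (tt N25924 (iv D59901)) (tt N28048 (iv F271206)) (tt N28155 (iv F271829)) (tt N25936 F267701) (tt N25944 F267702) (tt N26151 F267703))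
theorem Q27133 : ∀ i, i < 27133 → P i := stepQ 27132 Q27132 (allL N27132 (tt N28313 D61083) (tt N25925 (iv D59902)) (tt N26720 F267704) (tt N28310 (iv F272716)) (tt N28049 (iv F271212)) (tt N28311 (iv F272721)) (tt N26516 F267705) (tt N25937 F267706) (tt N25945 F267707) (tt N26152 F267708))
theorem Q27134 : ∀ i, i < 27134 → P i := stepQ 27133 Q27133 (allL N27133 (tt N28078 (iv F271407)) (tt N28314 D61084) (tt N25926 (iv D59903)) (tt N26398 F267709) (tt N28315 D61085) (tt N27958 (iv F270663)) (tt N26463 F267710) (tt N28094 (iv F271508)) (tt N27960 (iv F270680)) (tt N26158 F267711))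
theorem Q27135 : ∀ i, i < 27135 → P i := stepQ 27134 Q27134 (allL N27134 (tt N28079 (iv F271414)) (tt N25933 F267712) (tt N28315 (iv F272738)) (tt N25928 F267713) (tt N25926 (iv D59904)) (tt N28316 D61086) (tt N26464 F267714) (tt N28095 (iv F271515)) (tt N27961 (iv F270687)) (tt N26159 F267715))
theorem Q27136 : ∀ i, i < 27136 → P i := stepQ 27135 Q27135 (allL N27135 (tt N28039 (iv F271140)) (tt N27992 (iv F270866)) (tt N25928 F267716) (tt N28317 D61087) (tt N25927 (iv D59905)) (tt N28318 D61088) (tt N26313 F267717) (tt N27975 (iv F270771)) (tt N27135 F267718) (tt N26160 F267719))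
theorem Q27137 : ∀ i, i < 27137 → P i := stepQ 27136 Q27136 (allL N27136 (tt N28080 (iv F271421)) (tt N25934 F267720) (tt N28318 (iv F272748)) (tt N28316 (iv F272742)) (tt N27136 F267721) (tt N25928 (iv D59906)) (tt N28319 D61089) (tt N28043 (iv F271171)) (tt N27136 F267722) (tt N26161 F267723))
theorem Q27138 : ∀ i, i < 27138 → P i := stepQ 27137 Q27137 (allL N27137 (tt N26431 F267724) (tt N26268 F267725) (tt N28320 D61090) (tt N25929 (iv D59907)) (tt N28152 (iv F271807)) (tt N26376 F267726) (tt N26467 F267727) (tt N26259 F267728) (tt N26163 F267729) (tt N25930 F267730))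
theorem Q27139 : ∀ i, i < 27139 → P i := stepQ 27138 Q27138 (allL N27138 (tt N28262 (iv F272454)) (tt N28321 D61091) (tt N25930 (iv D59908)) (tt N25951 F267731) (tt N28322 D61092) (tt N27954 (iv F270636)) (tt N26468 F267732) (tt N28307 (iv F272699)) (tt N25932 F267733) (tt N28320 (iv F272767)))
theorem Q27140 : ∀ i, i < 27140 → P i := stepQ 27139 Q27139 (allL N27139 (tt N28263 (iv F272461)) (tt N27961 (iv F270683)) (tt N28322 (iv F272771)) (tt N27139 F267734) (tt N25930 (iv D59909)) (tt N28323 D61093) (tt N26469 F267735) (tt N28153 (iv F271816)) (tt N25933 F267736) (tt N28152 (iv F271810)))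
theorem Q27141 : ∀ i, i < 27141 → P i := stepQ 27140 Q27140 (allL N27140 (tt N28264 (iv F272468)) (tt N28324 D61094) (tt N25931 (iv D59910)) (tt N25935 F267737) (tt N28325 D61095) (tt N25932 F267738) (tt N26455 F267739) (tt N28308 (iv F272706)) (tt N27954 (iv F270639)) (tt N26166 F267740))
theorem Q27142 : ∀ i, i < 27142 → P i := stepQ 27141 Q27141 (allL N27141 (tt N28265 (iv F272475)) (tt N27959 (iv F270669)) (tt N28325 (iv F272780)) (tt N27141 F267741) (tt N25931 (iv D59911)) (tt N28326 D61096) (tt N26456 F267742) (tt N28309 (iv F272713)) (tt N27955 (iv F270646)) (tt N26167 F267743))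
theorem Q27143 : ∀ i, i < 27143 → P i := stepQ 27142 Q27142 (allL N27142 (tt N28327 D61097) (tt N25932 (iv D59912)) (tt N28314 (iv F272734)) (tt N25937 F267744) (tt N28328 D61098) (tt N28324 (iv F272777)) (tt N26475 F267745) (tt N28310 (iv F272718)) (tt N28321 (iv F272770)) (tt N26168 F267746))
theorem Q27144 : ∀ i, i < 27144 → P i := stepQ 27143 Q27143 (allL N27143 (tt N28267 (iv F272487)) (tt N28328 (iv F272789)) (tt N25933 F267747) (tt N28223 (iv F272232)) (tt N25932 (iv D59913)) (tt N28329 D61099) (tt N26476 F267748) (tt N28202 (iv F272091)) (tt N28322 (iv F272773)) (tt N26169 F267749))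
theorem Q27145 : ∀ i, i < 27145 → P i := stepQ 27144 Q27144 (allL N27144 (tt N28268 (iv F272493)) (tt N28316 (iv F272741)) (tt N28329 (iv F272792)) (tt N25934 F267750) (tt N28326 (iv F272784)) (tt N25933 (iv D59914)) (tt N28330 D61100) (tt N28042 (iv F271164)) (tt N28323 (iv F272775)) (tt N26170 F267751))
theorem Q27146 : ∀ i, i < 27146 → P i := stepQ 27145 Q27145 (allL N27145 (tt N28269 (iv F272498)) (tt N28319 (iv F272754)) (tt N26213 F267752) (tt N28330 (iv F272794)) (tt N27145 F267753) (tt N26212 F267754) (tt N25934 (iv D59915)) (tt N28331 D61101) (tt N27145 F267755) (tt N26171 F267756))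
theorem Q27147 : ∀ i, i < 27147 → P i := stepQ 27146 Q27146 (allL N27146 (tt N28332 D61102) (tt N25935 (iv D59916)) (tt N26704 F267757) (tt N28324 (iv F272776)) (tt N28333 D61103) (tt N25937 F267758) (tt N26460 F267759) (tt N28311 (iv F272722)) (tt N25960 F267760) (tt N26174 F267761))
theorem Q27148 : ∀ i, i < 27148 → P i := stepQ 27147 Q27147 (allL N27147 (tt N28271 (iv F272511)) (tt N28333 (iv F272810)) (tt N25936 F267762) (tt N28334 D61104) (tt N25935 (iv D59917)) (tt N28226 (iv F272246)) (tt N26461 F267763) (tt N28312 (iv F272726)) (tt N25961 F267764) (tt N26175 F267765))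
theorem Q27149 : ∀ i, i < 27149 → P i := stepQ 27148 Q27148 (allL N27148 (tt N25937 (iv D59918)) (tt N28272 (iv F272517)) (tt N26721 F267766) (tt N28327 (iv F272786)) (tt N28227 (iv F272252)) (tt N28332 (iv F272806)) (tt N26481 F267767) (tt N28313 (iv F272731)) (tt N25962 F267768) (tt N26176 F267769))
theorem Q27150 : ∀ i, i < 27150 → P i := stepQ 27149 Q27149 (allL N27149 (tt N28335 D61105) (tt N25938 (iv D59919)) (tt N26594 F267770) (tt N28229 (iv F272262)) (tt N26584 F267771) (tt N27943 (iv F270561)) (tt N25945 F267772) (tt N26356 F267773) (tt N26516 F267774) (tt N25966 F267775))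
theorem Q27151 : ∀ i, i < 27151 → P i := stepQ 27150 Q27150 (allL N27150 (tt N26178 F267776) (tt N26527 F267777) (tt N28336 D61106) (tt N25939 (iv D59920)) (tt N28337 D61107) (tt N26094 F267778) (tt N26092 F267779) (tt N25950 F267780) (tt N25969 F267781) (tt N25940 F267782))
theorem Q27152 : ∀ i, i < 27152 → P i := stepQ 27151 Q27151 (allL N27151 (tt N26228 F267783) (tt N28338 D61108) (tt N25940 (iv D59921)) (tt N28307 (iv F272696)) (tt N28339 D61109) (tt N26116 F267784) (tt N26107 F267785) (tt N25951 F267786) (tt N25941 F267787) (tt N28336 (iv F272830)))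
theorem Q27153 : ∀ i, i < 27153 → P i := stepQ 27152 Q27152 (allL N27152 (tt N26229 F267788) (tt N26529 F267789) (tt N28339 (iv F272844)) (tt N27152 F267790) (tt N25940 (iv D59922)) (tt N28287 (iv F272600)) (tt N26108 F267791) (tt N25952 F267792) (tt N25942 F267793) (tt N28337 (iv F272837)))
theorem Q27154 : ∀ i, i < 27154 → P i := stepQ 27153 Q27153 (allL N27153 (tt N28340 D61110) (tt N25941 (iv D59923)) (tt N26530 F267794) (tt N25945 F267795) (tt N28341 D61111) (tt N28290 (iv F272612)) (tt N28229 (iv F272264)) (tt N25955 F267796) (tt N28338 (iv F272842)) (tt N25974 F267797))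
theorem Q27155 : ∀ i, i < 27155 → P i := stepQ 27154 Q27154 (allL N27154 (tt N28241 (iv F272329)) (tt N28341 (iv F272852)) (tt N25942 F267798) (tt N28210 (iv F272146)) (tt N25941 (iv D59924)) (tt N28286 (iv F272592)) (tt N28230 (iv F272272)) (tt N25956 F267799) (tt N28339 (iv F272847)) (tt N25975 F267800))
theorem Q27156 : ∀ i, i < 27156 → P i := stepQ 27155 Q27155 (allL N27155 (tt N28342 D61112) (tt N25943 (iv D59925)) (tt N26554 F267801) (tt N28290 (iv F272611)) (tt N28343 D61113) (tt N25945 F267802) (tt N28275 (iv F272536)) (tt N25960 F267803) (tt N28311 (iv F272723)) (tt N25976 F267804))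
theorem Q27157 : ∀ i, i < 27157 → P i := stepQ 27156 Q27156 (allL N27156 (tt N28236 (iv F272302)) (tt N28343 (iv F272860)) (tt N25944 F267805) (tt N28283 (iv F272579)) (tt N25943 (iv D59926)) (tt N28208 (iv F272133)) (tt N28276 (iv F272543)) (tt N25961 F267806) (tt N28312 (iv F272727)) (tt N25977 F267807))
theorem Q27158 : ∀ i, i < 27158 → P i := stepQ 27157 Q27157 (allL N27157 (tt N25945 (iv D59927)) (tt N28274 (iv F272530)) (tt N27940 (iv F270535)) (tt N28340 (iv F272849)) (tt N28228 (iv F272257)) (tt N28342 (iv F272857)) (tt N28335 (iv F272820)) (tt N25962 F267808) (tt N28313 (iv F272732)) (tt N25978 F267809))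
theorem Q27159 : ∀ i, i < 27159 → P i := stepQ 27158 Q27158 (allL N27158 (tt N26536 F267810) (tt N28344 D61114) (tt N25946 (iv D59928)) (tt N26040 F267811) (tt N28345 D61115) (tt N26037 F267812) (tt N26052 F267813) (tt N26528 F267814) (tt N25947 F267815) (tt N28220 (iv F272219)))
theorem Q27160 : ∀ i, i < 27160 → P i := stepQ 27159 Q27159 (allL N27159 (tt N26537 F267816) (tt N25952 F267817) (tt N28345 (iv F272871)) (tt N27159 F267818) (tt N25946 (iv D59929)) (tt N28346 D61116) (tt N26053 F267819) (tt N26529 F267820) (tt N25948 F267821) (tt N28221 (iv F272226)))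
theorem Q27161 : ∀ i, i < 27161 → P i := stepQ 27160 Q27160 (allL N27160 (tt N28347 D61117) (tt N25947 (iv D59930)) (tt N25955 F267822) (tt N26338 F267823) (tt N28348 D61118) (tt N26523 F267824) (tt N26562 F267825) (tt N26530 F267826) (tt N28344 (iv F272869)) (tt N25987 F267827))
theorem Q27162 : ∀ i, i < 27162 → P i := stepQ 27161 Q27161 (allL N27161 (tt N26544 F267828) (tt N28348 (iv F272889)) (tt N25948 F267829) (tt N26354 F267830) (tt N25947 (iv D59931)) (tt N28349 D61119) (tt N26563 F267831) (tt N26531 F267832) (tt N28345 (iv F272874)) (tt N25988 F267833))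
theorem Q27163 : ∀ i, i < 27163 → P i := stepQ 27162 Q27162 (allL N27162 (tt N26545 F267834) (tt N25957 F267835) (tt N28349 (iv F272896)) (tt N25949 F267836) (tt N26525 F267837) (tt N25948 (iv D59932)) (tt N25963 F267838) (tt N26532 F267839) (tt N28346 (iv F272881)) (tt N25989 F267840))
theorem Q27164 : ∀ i, i < 27164 → P i := stepQ 27163 Q27163 (allL N27163 (tt N28089 (iv F271475)) (tt N28350 D61120) (tt N25950 (iv D59933)) (tt N28320 (iv F272762)) (tt N28351 D61121) (tt N27976 (iv F270776)) (tt N26564 F267841) (tt N28336 (iv F272828)) (tt N25993 F267842) (tt N25951 F267843))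
theorem Q27165 : ∀ i, i < 27165 → P i := stepQ 27164 Q27164 (allL N27164 (tt N28090 (iv F271482)) (tt N28221 (iv F272221)) (tt N28351 (iv F272905)) (tt N27164 F267844) (tt N25950 (iv D59934)) (tt N28352 D61122) (tt N26565 F267845) (tt N28337 (iv F272835)) (tt N25994 F267846) (tt N25952 F267847))
theorem Q27166 : ∀ i, i < 27166 → P i := stepQ 27165 Q27165 (allL N27165 (tt N28353 D61123) (tt N25951 (iv D59935)) (tt N28344 (iv F272864)) (tt N28321 (iv F272768)) (tt N28354 D61124) (tt N28004 (iv F270943)) (tt N26566 F267848) (tt N28338 (iv F272841)) (tt N25955 F267849) (tt N28350 (iv F272904)))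
theorem Q27167 : ∀ i, i < 27167 → P i := stepQ 27166 Q27166 (allL N27166 (tt N28278 (iv F272550)) (tt N28354 (iv F272914)) (tt N25952 F267850) (tt N28355 D61125) (tt N25951 (iv D59936)) (tt N28356 D61126) (tt N26567 F267851) (tt N28339 (iv F272846)) (tt N25956 F267852) (tt N28351 (iv F272908)))
theorem Q27168 : ∀ i, i < 27168 → P i := stepQ 27167 Q27167 (allL N27167 (tt N28279 (iv F272555)) (tt N28346 (iv F272876)) (tt N28356 (iv F272919)) (tt N27167 F267853) (tt N28006 (iv F270955)) (tt N25952 (iv D59937)) (tt N28158 (iv F271846)) (tt N28287 (iv F272602)) (tt N25957 F267854) (tt N28352 (iv F272911)))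
theorem Q27169 : ∀ i, i < 27169 → P i := stepQ 27168 Q27168 (allL N27168 (tt N28357 D61127) (tt N25953 (iv D59938)) (tt N26523 F267855) (tt N25960 F267856) (tt N28358 D61128) (tt N25955 F267857) (tt N27930 (iv F270464)) (tt N28290 (iv F272614)) (tt N28004 (iv F270946)) (tt N26000 F267858))
theorem Q27170 : ∀ i, i < 27170 → P i := stepQ 27169 Q27169 (allL N27169 (tt N26597 F267859) (tt N28358 (iv F272925)) (tt N25954 F267860) (tt N28295 (iv F272639)) (tt N25953 (iv D59939)) (tt N28294 F272636) (tt N26561 F267861) (tt N27949 (iv F270602)) (tt N28005 (iv F270951)) (tt N26001 F267862))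
theorem Q27171 : ∀ i, i < 27171 → P i := stepQ 27170 Q27170 (allL N27170 (tt N25955 (iv D59940)) (tt N28281 (iv F272570)) (tt N28347 (iv F272883)) (tt N25962 F267863) (tt N28359 D61129) (tt N28357 (iv F272923)) (tt N26568 F267864) (tt N28340 (iv F272850)) (tt N28353 (iv F272913)) (tt N26003 F267865))
theorem Q27172 : ∀ i, i < 27172 → P i := stepQ 27171 Q27171 (allL N27171 (tt N28359 (iv F272929)) (tt N25956 F267866) (tt N28348 (iv F272890)) (tt N28235 (iv F272299)) (tt N25955 (iv D59941)) (tt N28360 D61130) (tt N26569 F267867) (tt N28341 (iv F272854)) (tt N28354 (iv F272916)) (tt N26004 F267868))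
theorem Q27173 : ∀ i, i < 27173 → P i := stepQ 27172 Q27172 (allL N27172 (tt N28283 (iv F272577)) (tt N28360 (iv F272932)) (tt N25957 F267869) (tt N28236 (iv F272304)) (tt N28294 (iv F272632)) (tt N25956 (iv D59942)) (tt N28299 (iv F272662)) (tt N28286 (iv F272594)) (tt N28356 (iv F272920)) (tt N26005 F267870))
theorem Q27174 : ∀ i, i < 27174 → P i := stepQ 27173 Q27173 (allL N27173 (tt N28361 D61131) (tt N25958 (iv D59943)) (tt N26573 F267871) (tt N27930 (iv F270461)) (tt N28362 D61132) (tt N26342 F267872) (tt N25960 F267873) (tt N27932 (iv F270481)) (tt N26460 F267874) (tt N26008 F267875))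
theorem Q27175 : ∀ i, i < 27175 → P i := stepQ 27174 Q27174 (allL N27174 (tt N27928 (iv F270444)) (tt N28362 (iv F272939)) (tt N25959 F267876) (tt N28349 (iv F272897)) (tt N25958 (iv D59944)) (tt N26354 F267877) (tt N25961 F267878) (tt N26570 F267879) (tt N26461 F267880) (tt N26009 F267881))
theorem Q27176 : ∀ i, i < 27176 → P i := stepQ 27175 Q27175 (allL N27175 (tt N25960 (iv D59945)) (tt N28284 (iv F272584)) (tt N27941 (iv F270544)) (tt N28357 (iv F272922)) (tt N28363 D61133) (tt N25962 F267882) (tt N28361 (iv F272936)) (tt N28342 (iv F272858)) (tt N28332 (iv F272808)) (tt N26010 F267883))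
theorem Q27177 : ∀ i, i < 27177 → P i := stepQ 27176 Q27176 (allL N27176 (tt N28363 (iv F272946)) (tt N25961 F267884) (tt N27942 (iv F270552)) (tt N28364 D61134) (tt N25960 (iv D59946)) (tt N28240 (iv F272327)) (tt N28362 (iv F272942)) (tt N28343 (iv F272862)) (tt N28333 (iv F272813)) (tt N26011 F267885))
theorem Q27178 : ∀ i, i < 27178 → P i := stepQ 27177 Q27177 (allL N27177 (tt N28286 (iv F272589)) (tt N28364 (iv F272948)) (tt N25963 F267886) (tt N25961 (iv D59947)) (tt N28295 (iv F272640)) (tt N28241 (iv F272332)) (tt N28349 (iv F272899)) (tt N28283 (iv F272582)) (tt N28365 D61135) (tt N26012 F267887))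
theorem Q27179 : ∀ i, i < 27179 → P i := stepQ 27178 Q27178 (allL N27178 (tt N28287 (iv F272596)) (tt N28158 (iv F271843)) (tt N28365 (iv F272950)) (tt N27178 F267888) (tt N26254 F267889) (tt N26229 F267890) (tt N28346 (iv F272879)) (tt N28279 (iv F272560)) (tt N25963 (iv D59948)) (tt N28366 D61136))
theorem Q27180 : ∀ i, i < 27180 → P i := stepQ 27179 Q27179 (allL N27179 (tt N28367 D61137) (tt N25964 (iv D59949)) (tt N27932 (iv F270476)) (tt N28204 (iv F272101)) (tt N28368 D61138) (tt N25966 F267891) (tt N28273 (iv F272526)) (tt N26573 F267892) (tt N26230 F267893) (tt N27943 (iv F270565)))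
theorem Q27181 : ∀ i, i < 27181 → P i := stepQ 27180 Q27180 (allL N27180 (tt N28230 (iv F272268)) (tt N28368 (iv F272960)) (tt N25965 F267894) (tt N28238 (iv F272318)) (tt N25964 (iv D59950)) (tt N26563 F267895) (tt N28241 (iv F272333)) (tt N26574 F267896) (tt N26231 F267897) (tt N26587 F267898))
theorem Q27182 : ∀ i, i < 27182 → P i := stepQ 27181 Q27181 (allL N27181 (tt N25966 (iv D59951)) (tt N28288 (iv F272603)) (tt N27933 (iv F270485)) (tt N28243 (iv F272346)) (tt N28242 (iv F272339)) (tt N28367 (iv F272957)) (tt N25978 F267899) (tt N26575 F267900) (tt N26232 F267901) (tt N28335 (iv F272823)))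
theorem Q27183 : ∀ i, i < 27183 → P i := stepQ 27182 Q27182 (allL N27182 (tt N26149 F267902) (tt N26535 F267903) (tt N28369 D61139) (tt N25967 (iv D59952)) (tt N28370 D61140) (tt N25969 F267904) (tt N26083 F267905) (tt N25990 F267906) (tt N26094 F267907) (tt N25968 F267908))
theorem Q27184 : ∀ i, i < 27184 → P i := stepQ 27183 Q27183 (allL N27183 (tt N28154 (iv F271818)) (tt N28371 D61141) (tt N25968 (iv D59953)) (tt N26239 F267909) (tt N28372 D61142) (tt N25970 F267910) (tt N28255 (iv F272415)) (tt N25991 F267911) (tt N25972 F267912) (tt N28369 (iv F272972)))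
theorem Q27185 : ∀ i, i < 27185 → P i := stepQ 27184 Q27184 (allL N27184 (tt N28155 (iv F271825)) (tt N26537 F267913) (tt N28372 (iv F272985)) (tt N27184 F267914) (tt N25968 (iv D59954)) (tt N28305 (iv F272687)) (tt N28233 F272294) (tt N25992 F267915) (tt N25973 F267916) (tt N28370 (iv F272979)))
theorem Q27186 : ∀ i, i < 27186 → P i := stepQ 27185 Q27185 (allL N27185 (tt N26675 F267917) (tt N28373 D61143) (tt N25969 (iv D59955)) (tt N26241 F267918) (tt N28374 D61144) (tt N28369 (iv F272968)) (tt N26615 F267919) (tt N25993 F267920) (tt N28336 (iv F272829)) (tt N25970 F267921))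
theorem Q27187 : ∀ i, i < 27187 → P i := stepQ 27186 Q27186 (allL N27186 (tt N26676 F267922) (tt N26539 F267923) (tt N28374 (iv F272994)) (tt N26020 F267924) (tt N25969 (iv D59956)) (tt N28306 (iv F272693)) (tt N26616 F267925) (tt N25994 F267926) (tt N28337 (iv F272836)) (tt N25971 F267927))
theorem Q27188 : ∀ i, i < 27188 → P i := stepQ 27187 Q27187 (allL N27187 (tt N28375 D61145) (tt N25970 (iv D59957)) (tt N26540 F267928) (tt N26242 F267929) (tt N28376 D61146) (tt N28371 (iv F272982)) (tt N28073 (iv F271375)) (tt N25995 F267930) (tt N25974 F267931) (tt N28373 (iv F272992)))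
theorem Q27189 : ∀ i, i < 27189 → P i := stepQ 27188 Q27188 (allL N27188 (tt N28171 (iv F271911)) (tt N28376 (iv F273002)) (tt N25971 F267932) (tt N28013 (iv F270996)) (tt N25970 (iv D59958)) (tt N28304 (iv F272681)) (tt N28074 (iv F271383)) (tt N25996 F267933) (tt N25975 F267934) (tt N28374 (iv F272997)))
theorem Q27190 : ∀ i, i < 27190 → P i := stepQ 27189 Q27189 (allL N27189 (tt N28377 D61147) (tt N25972 (iv D59959)) (tt N26543 F267935) (tt N25976 F267936) (tt N28378 D61148) (tt N25974 F267937) (tt N28256 (iv F272422)) (tt N26000 F267938) (tt N28371 (iv F272984)) (tt N28290 (iv F272616)))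
theorem Q27191 : ∀ i, i < 27191 → P i := stepQ 27190 Q27190 (allL N27190 (tt N28276 (iv F272539)) (tt N28378 (iv F273010)) (tt N25973 F267939) (tt N28299 (iv F272660)) (tt N25972 (iv D59960)) (tt N28298 F272657) (tt N28236 F272308) (tt N26001 F267940) (tt N28372 (iv F272987)) (tt N27949 (iv F270604)))
theorem Q27192 : ∀ i, i < 27192 → P i := stepQ 27191 Q27191 (allL N27191 (tt N25974 (iv D59961)) (tt N28289 (iv F272607)) (tt N26546 F267941) (tt N25978 F267942) (tt N28379 D61149) (tt N28377 (iv F273008)) (tt N28243 (iv F272347)) (tt N26003 F267943) (tt N28375 (iv F273001)) (tt N28340 (iv F272851)))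
theorem Q27193 : ∀ i, i < 27193 → P i := stepQ 27192 Q27192 (allL N27192 (tt N28379 (iv F273013)) (tt N25975 F267944) (tt N26547 F267945) (tt N28217 (iv F272194)) (tt N25974 (iv D59962)) (tt N28303 (iv F272676)) (tt N28244 (iv F272353)) (tt N26004 F267946) (tt N28376 (iv F273005)) (tt N28341 (iv F272855)))
theorem Q27194 : ∀ i, i < 27194 → P i := stepQ 27193 Q27193 (allL N27193 (tt N25976 (iv D59963)) (tt N28291 (iv F272617)) (tt N26559 F267947) (tt N28377 (iv F273007)) (tt N28380 D61150) (tt N25978 F267948) (tt N28292 (iv F272623)) (tt N26010 F267949) (tt N26255 F267950) (tt N28342 (iv F272859)))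
theorem Q27195 : ∀ i, i < 27195 → P i := stepQ 27194 Q27194 (allL N27194 (tt N28380 (iv F273016)) (tt N25977 F267951) (tt N26560 F267952) (tt N28301 (iv F272669)) (tt N25976 (iv D59964)) (tt N28215 (iv F272181)) (tt N28293 (iv F272627)) (tt N26011 F267953) (tt N26256 F267954) (tt N28343 (iv F272863)))
theorem Q27196 : ∀ i, i < 27196 → P i := stepQ 27195 Q27195 (allL N27195 (tt N25983 F267955) (tt N28381 D61151) (tt N25979 (iv D59965)) (tt N26036 F267956) (tt N27948 (iv F270594)) (tt N26528 F267957) (tt N26063 F267958) (tt N26037 F267959) (tt N25980 F267960) (tt N28046 (iv F271195)))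
theorem Q27197 : ∀ i, i < 27197 → P i := stepQ 27196 Q27196 (allL N27196 (tt N28382 D61152) (tt N25980 (iv D59966)) (tt N28290 (iv F272610)) (tt N26522 F267961) (tt N27947 (iv F270587)) (tt N26530 F267962) (tt N26580 F267963) (tt N26523 F267964) (tt N28381 (iv F273025)) (tt N26543 F267965))
theorem Q27198 : ∀ i, i < 27198 → P i := stepQ 27197 Q27197 (allL N27197 (tt N26528 F267966) (tt N28383 D61153) (tt N25981 (iv D59967)) (tt N26618 F267967) (tt N28384 D61154) (tt N25983 F267968) (tt N28047 (iv F271199)) (tt N26536 F267969) (tt N25985 F267970) (tt N28218 (iv F272205)))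
theorem Q27199 : ∀ i, i < 27199 → P i := stepQ 27198 Q27198 (allL N27198 (tt N26529 F267971) (tt N25992 F267972) (tt N28384 (iv F273038)) (tt N27198 F267973) (tt N25981 (iv D59968)) (tt N28385 D61155) (tt N28048 (iv F271207)) (tt N26537 F267974) (tt N25986 F267975) (tt N28219 (iv F272212)))
theorem Q27200 : ∀ i, i < 27200 → P i := stepQ 27199 Q27199 (allL N27199 (tt N28046 (iv F271189)) (tt N28386 D61156) (tt N25982 (iv D59969)) (tt N26074 F267976) (tt N28387 D61157) (tt N28218 (iv F272201)) (tt N26075 F267977) (tt N26538 F267978) (tt N28220 (iv F272218)) (tt N25983 F267979))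
theorem Q27201 : ∀ i, i < 27201 → P i := stepQ 27200 Q27200 (allL N27200 (tt N27950 (iv F270605)) (tt N25994 F267980) (tt N28387 (iv F273053)) (tt N26021 F267981) (tt N25982 (iv D59970)) (tt N28388 D61158) (tt N26076 F267982) (tt N26539 F267983) (tt N28221 (iv F272225)) (tt N25984 F267984))
theorem Q27202 : ∀ i, i < 27202 → P i := stepQ 27201 Q27201 (allL N27201 (tt N28389 D61159) (tt N25983 (iv D59971)) (tt N25995 F267985) (tt N26620 F267986) (tt N28390 D61160) (tt N28383 (iv F273034)) (tt N26582 F267987) (tt N26540 F267988) (tt N25987 F267989) (tt N28386 (iv F273052)))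
theorem Q27203 : ∀ i, i < 27203 → P i := stepQ 27202 Q27202 (allL N27202 (tt N27948 (iv F270591)) (tt N28390 (iv F273068)) (tt N25984 F267990) (tt N26490 F267991) (tt N25983 (iv D59972)) (tt N28391 D61161) (tt N26583 F267992) (tt N26541 F267993) (tt N25988 F267994) (tt N28387 (iv F273057)))
theorem Q27204 : ∀ i, i < 27204 → P i := stepQ 27203 Q27203 (allL N27203 (tt N27937 (iv F270510)) (tt N25997 F267995) (tt N28391 (iv F273074)) (tt N26016 F267996) (tt N28385 (iv F273044)) (tt N25984 (iv D59973)) (tt N26015 F267997) (tt N26542 F267998) (tt N25989 F267999) (tt N28388 (iv F273062)))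
theorem Q27205 : ∀ i, i < 27205 → P i := stepQ 27204 Q27204 (allL N27204 (tt N28392 D61162) (tt N25985 (iv D59974)) (tt N26000 F268000) (tt N26521 F268001) (tt N28393 D61163) (tt N25987 F268002) (tt N28207 (iv F272127)) (tt N26543 F268003) (tt N28383 (iv F273036)) (tt N26523 F268004))
theorem Q27206 : ∀ i, i < 27206 → P i := stepQ 27205 Q27205 (allL N27205 (tt N26531 F268005) (tt N28393 (iv F273085)) (tt N25986 F268006) (tt N26555 F268007) (tt N25985 (iv D59975)) (tt N28394 D61164) (tt N28208 (iv F272134)) (tt N26544 F268008) (tt N28384 (iv F273040)) (tt N26524 F268009))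
theorem Q27207 : ∀ i, i < 27207 → P i := stepQ 27206 Q27206 (allL N27206 (tt N26532 F268010) (tt N26002 F268011) (tt N28394 (iv F273091)) (tt N26013 F268012) (tt N25989 F268013) (tt N25986 (iv D59976)) (tt N26014 F268014) (tt N26545 F268015) (tt N28385 (iv F273047)) (tt N26525 F268016))
theorem Q27208 : ∀ i, i < 27208 → P i := stepQ 27207 Q27207 (allL N27207 (tt N25987 (iv D59977)) (tt N28382 (iv F273026)) (tt N26003 F268017) (tt N26534 F268018) (tt N28395 D61165) (tt N28392 (iv F273082)) (tt N26585 F268019) (tt N26546 F268020) (tt N28389 (iv F273067)) (tt N28347 (iv F272888)))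
theorem Q27209 : ∀ i, i < 27209 → P i := stepQ 27208 Q27208 (allL N27208 (tt N28395 (iv F273097)) (tt N25988 F268021) (tt N26004 F268022) (tt N26579 F268023) (tt N25987 (iv D59978)) (tt N28396 D61166) (tt N26586 F268024) (tt N26547 F268025) (tt N28390 (iv F273073)) (tt N28348 (iv F272894)))
theorem Q27210 : ∀ i, i < 27210 → P i := stepQ 27209 Q27209 (allL N27209 (tt N27936 (iv F270503)) (tt N28396 (iv F273102)) (tt N25989 F268026) (tt N26009 F268027) (tt N28394 (iv F273093)) (tt N25988 (iv D59979)) (tt N26012 F268028) (tt N26548 F268029) (tt N28391 (iv F273078)) (tt N28349 (iv F272901)))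
theorem Q27211 : ∀ i, i < 27211 → P i := stepQ 27210 Q27210 (allL N27210 (tt N28113 (iv F271587)) (tt N28397 D61167) (tt N25990 (iv D59980)) (tt N26272 F268030) (tt N28398 D61168) (tt N25993 F268031) (tt N27951 (iv F270615)) (tt N28369 (iv F272970)) (tt N27976 (iv F270779)) (tt N25991 F268032))
theorem Q27212 : ∀ i, i < 27212 → P i := stepQ 27211 Q27211 (allL N27211 (tt N28114 (iv F271594)) (tt N28219 (iv F272207)) (tt N28398 (iv F273110)) (tt N27211 F268033) (tt N25990 (iv D59981)) (tt N28399 D61169) (tt N27952 (iv F270623)) (tt N28370 (iv F272977)) (tt N27977 (iv F270786)) (tt N25992 F268034))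
theorem Q27213 : ∀ i, i < 27213 → P i := stepQ 27212 Q27212 (allL N27212 (tt N28400 D61170) (tt N25991 (iv D59982)) (tt N28383 (iv F273032)) (tt N26274 F268035) (tt N28401 D61171) (tt N25995 F268036) (tt N28069 (iv F271349)) (tt N28371 (iv F272983)) (tt N26000 F268037) (tt N28397 (iv F273109)))
theorem Q27214 : ∀ i, i < 27214 → P i := stepQ 27213 Q27213 (allL N27213 (tt N28157 (iv F271838)) (tt N28401 (iv F273118)) (tt N25992 F268038) (tt N28402 D61172) (tt N25991 (iv D59983)) (tt N28403 D61173) (tt N28070 (iv F271355)) (tt N28372 (iv F272986)) (tt N26001 F268039) (tt N28398 (iv F273111)))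
theorem Q27215 : ∀ i, i < 27215 → P i := stepQ 27214 Q27214 (allL N27214 (tt N28158 (iv F271842)) (tt N28385 (iv F273042)) (tt N28403 (iv F273122)) (tt N27214 F268040) (tt N25997 F268041) (tt N25992 (iv D59984)) (tt N28279 (iv F272559)) (tt N28305 (iv F272689)) (tt N26002 F268042) (tt N28399 (iv F273114)))
theorem Q27216 : ∀ i, i < 27216 → P i := stepQ 27215 Q27215 (allL N27215 (tt N28404 D61174) (tt N25993 (iv D59985)) (tt N28386 (iv F273048)) (tt N26277 F268043) (tt N28405 D61175) (tt N28397 (iv F273108)) (tt N26588 F268044) (tt N28373 (iv F272991)) (tt N28350 (iv F272903)) (tt N25995 F268045))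
theorem Q27217 : ∀ i, i < 27217 → P i := stepQ 27216 Q27216 (allL N27216 (tt N28126 (iv F271659)) (tt N28405 (iv F273128)) (tt N25994 F268046) (tt N28406 D61176) (tt N25993 (iv D59986)) (tt N28407 D61177) (tt N26589 F268047) (tt N28374 (iv F272996)) (tt N28351 (iv F272907)) (tt N25996 F268048))
theorem Q27218 : ∀ i, i < 27218 → P i := stepQ 27217 Q27217 (allL N27217 (tt N28127 (iv F271665)) (tt N28388 (iv F273058)) (tt N28407 (iv F273136)) (tt N26023 F268049) (tt N28399 (iv F273113)) (tt N25994 (iv D59987)) (tt N28408 D61178) (tt N28306 (iv F272694)) (tt N28352 (iv F272910)) (tt N25997 F268050))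
theorem Q27219 : ∀ i, i < 27219 → P i := stepQ 27218 Q27218 (allL N27218 (tt N25995 (iv D59988)) (tt N28172 (iv F271919)) (tt N28389 (iv F273063)) (tt N26279 F268051) (tt N28409 D61179) (tt N28400 (iv F273116)) (tt N26590 F268052) (tt N28375 (iv F273000)) (tt N26003 F268053) (tt N28404 (iv F273127)))
theorem Q27220 : ∀ i, i < 27220 → P i := stepQ 27219 Q27219 (allL N27219 (tt N28409 (iv F273143)) (tt N25996 F268054) (tt N28390 (iv F273069)) (tt N28410 D61180) (tt N25995 (iv D59989)) (tt N28411 D61181) (tt N26591 F268055) (tt N28376 (iv F273004)) (tt N26004 F268056) (tt N28405 (iv F273130)))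
theorem Q27221 : ∀ i, i < 27221 → P i := stepQ 27220 Q27220 (allL N27220 (tt N26662 F268057) (tt N28410 (iv F273146)) (tt N26024 F268058) (tt N25996 (iv D59990)) (tt N26281 F268059) (tt N28412 D61182) (tt N26466 F268060) (tt N28013 (iv F270998)) (tt N26638 F268061) (tt N28406 (iv F273135)))
theorem Q27222 : ∀ i, i < 27222 → P i := stepQ 27221 Q27221 (allL N27221 (tt N28174 (iv F271929)) (tt N28411 (iv F273151)) (tt N25997 F268062) (tt N28412 (iv F273155)) (tt N28403 (iv F273123)) (tt N25996 (iv D59991)) (tt N28413 D61183) (tt N28304 (iv F272682)) (tt N26005 F268063) (tt N28407 (iv F273137)))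
theorem Q27223 : ∀ i, i < 27223 → P i := stepQ 27222 Q27222 (allL N27222 (tt N28006 (iv F270952)) (tt N26015 F268064) (tt N28413 (iv F273158)) (tt N26018 F268065) (tt N28279 (iv F272558)) (tt N26251 F268066) (tt N25997 (iv D59992)) (tt N26254 (iv F268068)) (tt N26006 F268067) (tt N28408 (iv F273141)))
theorem Q27224 : ∀ i, i < 27224 → P i := stepQ 27223 Q27223 (allL N27223 (tt N28414 D61184) (tt N25998 (iv D59993)) (tt N28207 (iv F272124)) (tt N26008 F268069) (tt N28415 D61185) (tt N26592 F268070) (tt N26000 F268071) (tt N27927 (iv F270441)) (tt N28069 (iv F271351)) (tt N27930 (iv F270467)))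
theorem Q27225 : ∀ i, i < 27225 → P i := stepQ 27224 Q27224 (allL N27224 (tt N26570 F268072) (tt N28415 (iv F273165)) (tt N25999 F268073) (tt N28394 (iv F273092)) (tt N25998 (iv D59994)) (tt N26555 F268074) (tt N26001 F268075) (tt N27928 (iv F270449)) (tt N28070 (iv F271357)) (tt N26561 F268076))
theorem Q27226 : ∀ i, i < 27226 → P i := stepQ 27225 Q27225 (allL N27225 (tt N26000 (iv D59995)) (tt N28296 (iv F272645)) (tt N28392 (iv F273080)) (tt N26010 F268077) (tt N28416 D61186) (tt N26003 F268078) (tt N28414 (iv F273164)) (tt N28377 (iv F273009)) (tt N28400 (iv F273117)) (tt N28357 (iv F272924)))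
theorem Q27227 : ∀ i, i < 27227 → P i := stepQ 27226 Q27226 (allL N27226 (tt N28416 (iv F273169)) (tt N26001 F268079) (tt N28393 (iv F273086)) (tt N28417 D61187) (tt N26000 (iv D59996)) (tt N28418 D61188) (tt N28415 (iv F273167)) (tt N28378 (iv F273012)) (tt N28401 (iv F273119)) (tt N28358 (iv F272928)))
theorem Q27228 : ∀ i, i < 27228 → P i := stepQ 27227 Q27227 (allL N27227 (tt N28298 (iv F272651)) (tt N28417 (iv F273170)) (tt N26014 F268080) (tt N26001 (iv D59997)) (tt N26012 F268081) (tt N28276 (iv F272542)) (tt N28394 (iv F273094)) (tt N28299 (iv F272663)) (tt N28419 D61189) (tt N28295 (iv F272644)))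
theorem Q27229 : ∀ i, i < 27229 → P i := stepQ 27228 Q27228 (allL N27228 (tt N28299 (iv F272658)) (tt N28418 (iv F273172)) (tt N26002 F268082) (tt N28276 (iv F272541)) (tt N26005 F268083) (tt N26001 (iv D59998)) (tt N28283 (iv F272581)) (tt N28298 (iv F272655)) (tt N28403 (iv F273124)) (tt N28294 (iv F272635)))
theorem Q27230 : ∀ i, i < 27230 → P i := stepQ 27229 Q27229 (allL N27229 (tt N26004 F268084) (tt N28300 (iv F272666)) (tt N28395 (iv F273098)) (tt N28247 (iv F272370)) (tt N26003 (iv D59999)) (tt N28420 D61190) (tt N26595 F268085) (tt N28379 (iv F273015)) (tt N28409 (iv F273145)) (tt N28359 (iv F272931)))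
theorem Q27231 : ∀ i, i < 27231 → P i := stepQ 27230 Q27230 (allL N27230 (tt N28420 (iv F273176)) (tt N26005 F268086) (tt N28396 (iv F273103)) (tt N28248 (iv F272374)) (tt N28418 (iv F273173)) (tt N26004 (iv D60000)) (tt N28421 D61191) (tt N28303 (iv F272677)) (tt N28411 (iv F273152)) (tt N28360 (iv F272933)))
theorem Q27232 : ∀ i, i < 27232 → P i := stepQ 27231 Q27231 (allL N27231 (tt N28294 (iv F272630)) (tt N28421 (iv F273177)) (tt N26006 F268087) (tt N27949 (iv F270598)) (tt N28283 (iv F272580)) (tt N26597 F268088) (tt N26005 (iv D60001)) (tt N28295 (iv F272642)) (tt N28413 (iv F273160)) (tt N28299 (iv F272664)))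
theorem Q27233 : ∀ i, i < 27233 → P i := stepQ 27232 Q27232 (allL N27232 (tt N28422 D61192) (tt N26007 (iv D60002)) (tt N27943 (iv F270558)) (tt N27927 (iv F270438)) (tt N26596 F268089) (tt N26594 F268090) (tt N28280 (iv F272566)) (tt N26008 F268091) (tt N26294 F268092) (tt N27932 (iv F270483)))
theorem Q27234 : ∀ i, i < 27234 → P i := stepQ 27233 Q27233 (allL N27233 (tt N26008 (iv D60003)) (tt N27934 (iv F270492)) (tt N27944 (iv F270567)) (tt N28414 (iv F273162)) (tt N28423 D61193) (tt N26598 F268093) (tt N26010 F268094) (tt N28422 (iv F273182)) (tt N26296 F268095) (tt N28361 (iv F272938)))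
theorem Q27235 : ∀ i, i < 27235 → P i := stepQ 27234 Q27234 (allL N27234 (tt N28423 (iv F273184)) (tt N26009 F268096) (tt N27945 (iv F270574)) (tt N28396 (iv F273104)) (tt N26008 (iv D60004)) (tt N26579 F268097) (tt N26011 F268098) (tt N26596 F268099) (tt N26297 F268100) (tt N28362 (iv F272945)))
theorem Q27236 : ∀ i, i < 27236 → P i := stepQ 27235 Q27235 (allL N27235 (tt N26011 F268101) (tt N28302 (iv F272672)) (tt N27946 (iv F270583)) (tt N28424 D61194) (tt N26010 (iv D60005)) (tt N28251 (iv F272392)) (tt N28423 (iv F273186)) (tt N28380 (iv F273018)) (tt N26299 F268102) (tt N28363 (iv F272947)))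
theorem Q27237 : ∀ i, i < 27237 → P i := stepQ 27236 Q27236 (allL N27236 (tt N28424 (iv F273189)) (tt N26012 F268103) (tt N28421 (iv F273178)) (tt N26011 (iv D60006)) (tt N28417 (iv F273171)) (tt N28252 (iv F272396)) (tt N28396 (iv F273105)) (tt N28301 (iv F272670)) (tt N28425 D61195) (tt N28364 (iv F272949)))
theorem Q27238 : ∀ i, i < 27238 → P i := stepQ 27237 Q27237 (allL N27237 (tt N28304 (iv F272678)) (tt N28425 (iv F273190)) (tt N26015 F268104) (tt N26301 F268105) (tt N28419 (iv F273175)) (tt N28171 F271918) (tt N28391 (iv F273076)) (tt N28174 (iv F271932)) (tt N26012 (iv D60007)) (tt N28426 D61196))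
theorem Q27239 : ∀ i, i < 27239 → P i := stepQ 27238 Q27238 (allL N27238 (tt N28305 (iv F272683)) (tt N28279 (iv F272556)) (tt N28419 (iv F273174)) (tt N27238 F268106) (tt N26015 F268107) (tt N28155 (iv F271828)) (tt N28385 (iv F273045)) (tt N28158 (iv F271847)) (tt N26014 (iv D60008)) (tt N28427 D61197))
theorem Q27240 : ∀ i, i < 27240 → P i := stepQ 27239 Q27239 (allL N27239 (tt N28306 (iv F272690)) (tt N28408 (iv F273138)) (tt N28426 (iv F273192)) (tt N26019 F268108) (tt N28427 (iv F273196)) (tt N26676 F268109) (tt N28388 (iv F273060)) (tt N28127 (iv F271668)) (tt N28366 (iv F272956)) (tt N26015 (iv D60009)))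
theorem Q27241 : ∀ i, i < 27241 → P i := stepQ 27240 Q27240 (allL N27240 (tt N27938 (iv F270517)) (tt N26023 F268110) (tt N26328 F268111) (tt N28388 (iv F273059)) (tt N27240 F268112) (tt N26021 F268113) (tt N26019 F268114) (tt N26551 F268115) (tt N27240 F268116) (tt N26016 (iv D60010)))
theorem Q27242 : ∀ i, i < 27242 → P i := stepQ 27241 Q27241 (allL N27241 (tt N26324 F268117) (tt N26331 F268118) (tt N26018 F268119) (tt N28428 D61198) (tt N27241 F268120) (tt N26306 F268121) (tt N26025 F268122) (tt N26171 F268123) (tt N26017 (iv D60011)) (tt N28331 (iv F272804)))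
theorem Q27243 : ∀ i, i < 27243 → P i := stepQ 27242 Q27242 (allL N27242 (tt N27993 (iv F270873)) (tt N26019 F268124) (tt N28331 (iv F272799)) (tt N28408 (iv F273139)) (tt N27242 F268125) (tt N26210 F268126) (tt N26023 F268127) (tt N26213 F268128) (tt N27242 F268129) (tt N26018 (iv D60012)))
theorem Q27244 : ∀ i, i < 27244 → P i := stepQ 27243 Q27243 (allL N27243 (tt N26660 F268130) (tt N26428 F268131) (tt N28406 (iv F273132)) (tt N26022 (iv D60013)) (tt N26332 F268132) (tt N28429 D61199) (tt N26433 F268133) (tt N28011 (iv F270984)) (tt N28084 (iv F271453)) (tt N26024 F268134))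
theorem Q27245 : ∀ i, i < 27245 → P i := stepQ 27244 Q27244 (allL N27244 (tt N26327 F268135) (tt N26429 F268136) (tt N26023 F268137) (tt N28429 (iv F273207)) (tt N27244 F268138) (tt N26022 (iv D60014)) (tt N28331 (iv F272802)) (tt N26144 F268139) (tt N27244 F268140) (tt N26025 F268141))
theorem Q27246 : ∀ i, i < 27246 → P i := stepQ 27245 Q27245 (allL N27245 (tt N26312 F268142) (tt N26459 F268143) (tt N28412 (iv F273154)) (tt N26025 F268144) (tt N28430 D61200) (tt N26024 (iv D60015)) (tt N28428 (iv F273202)) (tt N26142 F268145) (tt N26140 F268146) (tt N28429 (iv F273209)))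
theorem Q27247 : ∀ i, i < 27247 → P i := stepQ 27246 Q27246 (allL N27246 (tt N28431 D61201) (tt N26026 (iv D60016)) (tt N26031 F268147) (tt N28180 (iv F271964)) (tt N26077 F268148) (tt N28073 (iv F271374)) (tt N28261 (iv F272450)) (tt N26029 F268149) (tt N28204 (iv F272106)) (tt N26617 F268150))
theorem Q27248 : ∀ i, i < 27248 → P i := stepQ 27247 Q27247 (allL N27247 (tt N28432 D61202) (tt N26027 (iv D60017)) (tt N26293 F268151) (tt N26029 F268152) (tt N28433 D61203) (tt N26267 F268153) (tt N26408 F268154) (tt N28180 (iv F271967)) (tt N26701 F268155) (tt N26365 F268156))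
theorem Q27249 : ∀ i, i < 27249 → P i := stepQ 27248 Q27248 (allL N27248 (tt N26511 F268157) (tt N28433 (iv F273228)) (tt N26028 F268158) (tt N26081 F268159) (tt N26027 (iv D60018)) (tt N26265 F268160) (tt N26409 F268161) (tt N28181 (iv F271975)) (tt N26702 F268162) (tt N26366 F268163))
theorem Q27250 : ∀ i, i < 27250 → P i := stepQ 27249 Q27249 (allL N27249 (tt N26029 (iv D60019)) (tt N26517 F268164) (tt N26034 F268165) (tt N28432 (iv F273223)) (tt N26082 F268166) (tt N28075 (iv F271390)) (tt N26413 F268167) (tt N28431 (iv F273219)) (tt N28205 (iv F272114)) (tt N26631 F268168))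
theorem Q27251 : ∀ i, i < 27251 → P i := stepQ 27250 Q27250 (allL N27250 (tt N28434 D61204) (tt N26030 (iv D60020)) (tt N28261 (iv F272447)) (tt N26604 F268169) (tt N26109 F268170) (tt N28257 (iv F272426)) (tt N26031 F268171) (tt N26601 F268172) (tt N28212 (iv F272164)) (tt N26609 F268173))
theorem Q27252 : ∀ i, i < 27252 → P i := stepQ 27251 Q27251 (allL N27251 (tt N26031 (iv D60021)) (tt N26058 F268174) (tt N28431 (iv F273217)) (tt N26605 F268175) (tt N26120 F268176) (tt N28245 (iv F272357)) (tt N28434 (iv F273238)) (tt N26034 F268177) (tt N28213 (iv F272171)) (tt N26623 F268178))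
theorem Q27253 : ∀ i, i < 27253 → P i := stepQ 27252 Q27252 (allL N27252 (tt N26032 (iv D60022)) (tt N26067 F268179) (tt N28075 (iv F271388)) (tt N26606 F268180) (tt N28435 D61205) (tt N26034 F268181) (tt N28057 (iv F271266)) (tt N28245 (iv F272359)) (tt N28216 (iv F272191)) (tt N26635 F268182))
theorem Q27254 : ∀ i, i < 27254 → P i := stepQ 27253 Q27253 (allL N27253 (tt N28435 (iv F273241)) (tt N26033 F268183) (tt N28076 (iv F271395)) (tt N28015 (iv F271010)) (tt N26032 (iv D60023)) (tt N26133 F268184) (tt N28058 (iv F271274)) (tt N28246 (iv F272366)) (tt N28217 (iv F272198)) (tt N26636 F268185))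
theorem Q27255 : ∀ i, i < 27255 → P i := stepQ 27254 Q27254 (allL N27254 (tt N26618 F268186) (tt N28436 D61206) (tt N26035 (iv D60024)) (tt N26528 F268187) (tt N28437 D61207) (tt N26036 F268188) (tt N28218 (iv F272202)) (tt N26040 F268189) (tt N26045 F268190) (tt N28047 (iv F271202)))
theorem Q27256 : ∀ i, i < 27256 → P i := stepQ 27255 Q27255 (allL N27255 (tt N26619 F268191) (tt N27952 (iv F270620)) (tt N28437 (iv F273250)) (tt N27255 F268192) (tt N26035 (iv D60025)) (tt N26151 F268193) (tt N28219 (iv F272209)) (tt N26041 F268194) (tt N26046 F268195) (tt N28048 (iv F271210)))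
theorem Q27257 : ∀ i, i < 27257 → P i := stepQ 27256 Q27256 (allL N27256 (tt N28438 D61208) (tt N26036 (iv D60026)) (tt N27953 (iv F270627)) (tt N28381 (iv F273021)) (tt N26152 F268196) (tt N28436 (iv F273246)) (tt N28044 (iv F271177)) (tt N26042 F268197) (tt N26047 F268198) (tt N28049 (iv F271216)))
theorem Q27258 : ∀ i, i < 27258 → P i := stepQ 27257 Q27257 (allL N27257 (tt N28439 D61209) (tt N26037 (iv D60027)) (tt N28004 (iv F270942)) (tt N26042 F268199) (tt N28440 D61210) (tt N28344 (iv F272866)) (tt N26056 F268200) (tt N28381 (iv F273024)) (tt N26523 F268201) (tt N28222 (iv F272229)))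
theorem Q27259 : ∀ i, i < 27259 → P i := stepQ 27258 Q27258 (allL N27258 (tt N26541 F268202) (tt N28440 (iv F273262)) (tt N26038 F268203) (tt N26169 F268204) (tt N26037 (iv D60028)) (tt N28441 D61211) (tt N26057 F268205) (tt N27948 (iv F270596)) (tt N26524 F268206) (tt N28223 (iv F272234)))
theorem Q27260 : ∀ i, i < 27260 → P i := stepQ 27259 Q27259 (allL N27259 (tt N26542 F268207) (tt N28006 (iv F270953)) (tt N28441 (iv F273267)) (tt N26039 F268208) (tt N28346 (iv F272878)) (tt N26038 (iv D60029)) (tt N26254 F268209) (tt N27937 (iv F270516)) (tt N26525 F268210) (tt N28224 (iv F272238)))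
theorem Q27261 : ∀ i, i < 27261 → P i := stepQ 27260 Q27260 (allL N27260 (tt N28442 D61212) (tt N26040 (iv D60030)) (tt N27966 (iv F270709)) (tt N28344 (iv F272865)) (tt N28443 D61213) (tt N26042 F268211) (tt N28053 (iv F271239)) (tt N28436 (iv F273247)) (tt N26048 F268212) (tt N28225 (iv F272243)))
theorem Q27262 : ∀ i, i < 27262 → P i := stepQ 27261 Q27261 (allL N27261 (tt N26633 F268213) (tt N28443 (iv F273274)) (tt N26041 F268214) (tt N28444 D61214) (tt N26040 (iv D60031)) (tt N26175 F268215) (tt N28054 (iv F271246)) (tt N28437 (iv F273252)) (tt N26049 F268216) (tt N28226 (iv F272249)))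
theorem Q27263 : ∀ i, i < 27263 → P i := stepQ 27262 Q27262 (allL N27262 (tt N26042 (iv D60032)) (tt N26634 F268217) (tt N27968 (iv F270721)) (tt N28439 (iv F273259)) (tt N26176 F268218) (tt N28442 (iv F273272)) (tt N26603 F268219) (tt N28438 (iv F273256)) (tt N26050 F268220) (tt N28227 (iv F272255)))
theorem Q27264 : ∀ i, i < 27264 → P i := stepQ 27263 Q27263 (allL N27263 (tt N26607 F268221) (tt N28445 D61215) (tt N26043 (iv D60033)) (tt N26599 F268222) (tt N28446 D61216) (tt N26044 F268223) (tt N28220 (iv F272216)) (tt N26078 F268224) (tt N26075 F268225) (tt N26052 F268226))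
theorem Q27265 : ∀ i, i < 27265 → P i := stepQ 27264 Q27264 (allL N27264 (tt N26608 F268227) (tt N26565 F268228) (tt N28446 (iv F273288)) (tt N27264 F268229) (tt N26043 (iv D60034)) (tt N26180 F268230) (tt N28221 (iv F272223)) (tt N26079 F268231) (tt N26076 F268232) (tt N26053 F268233))
theorem Q27266 : ∀ i, i < 27266 → P i := stepQ 27265 Q27265 (allL N27265 (tt N28447 D61217) (tt N26044 (iv D60035)) (tt N27969 (iv F270726)) (tt N26601 F268234) (tt N26181 F268235) (tt N28445 (iv F273283)) (tt N26047 F268236) (tt N26604 F268237) (tt N28044 (iv F271179)) (tt N26054 F268238))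
theorem Q27267 : ∀ i, i < 27267 → P i := stepQ 27266 Q27266 (allL N27266 (tt N28448 D61218) (tt N26045 (iv D60036)) (tt N27978 (iv F270788)) (tt N26369 F268239) (tt N28449 D61219) (tt N26047 F268240) (tt N28222 (iv F272228)) (tt N26048 F268241) (tt N28436 (iv F273248)) (tt N26056 F268242))
theorem Q27268 : ∀ i, i < 27268 → P i := stepQ 27267 Q27267 (allL N27267 (tt N26622 F268243) (tt N28449 (iv F273304)) (tt N26046 F268244) (tt N26476 F268245) (tt N26045 (iv D60037)) (tt N26190 F268246) (tt N28223 (iv F272233)) (tt N26049 F268247) (tt N28437 (iv F273253)) (tt N26057 F268248))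
theorem Q27269 : ∀ i, i < 27269 → P i := stepQ 27268 Q27268 (allL N27268 (tt N26047 (iv D60038)) (tt N26623 F268249) (tt N27980 (iv F270799)) (tt N26602 F268250) (tt N26191 F268251) (tt N28448 (iv F273301)) (tt N28447 (iv F273296)) (tt N26050 F268252) (tt N28438 (iv F273257)) (tt N26058 F268253))
theorem Q27270 : ∀ i, i < 27270 → P i := stepQ 27269 Q27269 (allL N27269 (tt N26048 (iv D60039)) (tt N26635 F268254) (tt N27989 (iv F270849)) (tt N26370 F268255) (tt N28450 D61220) (tt N26050 F268256) (tt N28055 (iv F271254)) (tt N28448 (iv F273302)) (tt N28442 (iv F273273)) (tt N26067 F268257))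
theorem Q27271 : ∀ i, i < 27271 → P i := stepQ 27270 Q27270 (allL N27270 (tt N28450 (iv F273309)) (tt N26049 F268258) (tt N27990 (iv F270855)) (tt N26513 F268259) (tt N26048 (iv D60040)) (tt N26207 F268260) (tt N28056 (iv F271260)) (tt N28449 (iv F273307)) (tt N28443 (iv F273276)) (tt N26068 F268261))
theorem Q27272 : ∀ i, i < 27272 → P i := stepQ 27271 Q27271 (allL N27271 (tt N28451 D61221) (tt N26051 (iv D60041)) (tt N26091 F268262) (tt N26054 F268263) (tt N26628 F268264) (tt N28053 (iv F271238)) (tt N26055 F268265) (tt N26609 F268266) (tt N26073 F268267) (tt N26601 F268268))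
theorem Q27273 : ∀ i, i < 27273 → P i := stepQ 27272 Q27272 (allL N27272 (tt N28452 D61222) (tt N26052 (iv D60042)) (tt N26566 F268269) (tt N28053 (iv F271237)) (tt N28453 D61223) (tt N26054 F268270) (tt N28344 (iv F272867)) (tt N26612 F268271) (tt N26562 F268272) (tt N28445 (iv F273286)))
theorem Q27274 : ∀ i, i < 27274 → P i := stepQ 27273 Q27273 (allL N27273 (tt N28258 (iv F272431)) (tt N28453 (iv F273326)) (tt N26053 F268273) (tt N28454 D61224) (tt N26052 (iv D60043)) (tt N26231 F268274) (tt N28345 (iv F272872)) (tt N26613 F268275) (tt N26563 F268276) (tt N28446 (iv F273292)))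
theorem Q27275 : ∀ i, i < 27275 → P i := stepQ 27274 Q27274 (allL N27274 (tt N26054 (iv D60044)) (tt N28434 (iv F273235)) (tt N27996 (iv F270894)) (tt N28451 (iv F273316)) (tt N26232 F268277) (tt N28452 (iv F273323)) (tt N26058 F268278) (tt N26614 F268279) (tt N28242 (iv F272343)) (tt N28447 (iv F273298)))
theorem Q27276 : ∀ i, i < 27276 → P i := stepQ 27275 Q27275 (allL N27275 (tt N26055 (iv D60045)) (tt N26605 F268280) (tt N26639 F268281) (tt N26058 F268282) (tt N26640 F268283) (tt N26603 F268284) (tt N28451 (iv F273318)) (tt N26062 F268285) (tt N26606 F268286) (tt N26602 F268287))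
theorem Q27277 : ∀ i, i < 27277 → P i := stepQ 27276 Q27276 (allL N27276 (tt N26056 (iv D60046)) (tt N28245 (iv F272355)) (tt N28007 (iv F270960)) (tt N26603 F268288) (tt N28455 D61225) (tt N26058 F268289) (tt N28439 (iv F273260)) (tt N26067 F268290) (tt N28214 (iv F272177)) (tt N28448 (iv F273303)))
theorem Q27278 : ∀ i, i < 27278 → P i := stepQ 27277 Q27277 (allL N27277 (tt N28455 (iv F273336)) (tt N26057 F268291) (tt N28008 (iv F270964)) (tt N26664 F268292) (tt N26056 (iv D60047)) (tt N26256 F268293) (tt N28440 (iv F273264)) (tt N26068 F268294) (tt N28215 (iv F272184)) (tt N28449 (iv F273308)))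
theorem Q27279 : ∀ i, i < 27279 → P i := stepQ 27278 Q27278 (allL N27278 (tt N26059 (iv D60048)) (tt N26454 F268295) (tt N26062 F268296) (tt N28014 (iv F271003)) (tt N26606 F268297) (tt N26375 F268298) (tt N26631 F268299) (tt N26639 F268300) (tt N26640 F268301) (tt N26413 F268302))
theorem Q27280 : ∀ i, i < 27280 → P i := stepQ 27279 Q27279 (allL N27279 (tt N26060 (iv D60049)) (tt N26603 F268303) (tt N26640 F268304) (tt N28245 (iv F272356)) (tt N26639 F268305) (tt N26605 F268306) (tt N26634 F268307) (tt N26606 F268308) (tt N26062 F268309) (tt N26625 F268310))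
theorem Q27281 : ∀ i, i < 27281 → P i := stepQ 27280 Q27280 (allL N27280 (tt N26061 (iv D60050)) (tt N26606 F268311) (tt N26375 F268312) (tt N26067 F268313) (tt N26454 F268314) (tt N26062 F268315) (tt N28045 (iv F271186)) (tt N26603 F268316) (tt N26605 F268317) (tt N26370 F268318))
theorem Q27282 : ∀ i, i < 27282 → P i := stepQ 27281 Q27281 (allL N27281 (tt N28456 D61226) (tt N26063 (iv D60051)) (tt N26118 F268319) (tt N28044 (iv F271174)) (tt N28457 D61227) (tt N26077 F268320) (tt N28381 (iv F273023)) (tt N26065 F268321) (tt N26580 F268322) (tt N28050 (iv F271222)))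
theorem Q27283 : ∀ i, i < 27283 → P i := stepQ 27282 Q27282 (allL N27282 (tt N26583 F268323) (tt N28457 (iv F273345)) (tt N26064 F268324) (tt N28166 (iv F271886)) (tt N26063 (iv D60052)) (tt N28074 (iv F271382)) (tt N27948 (iv F270595)) (tt N26066 F268325) (tt N26581 F268326) (tt N28051 (iv F271229)))
theorem Q27284 : ∀ i, i < 27284 → P i := stepQ 27283 Q27283 (allL N27283 (tt N26065 (iv D60053)) (tt N28057 (iv F271262)) (tt N26132 F268327) (tt N28045 (iv F271183)) (tt N28458 D61228) (tt N26082 F268328) (tt N26067 F268329) (tt N28456 (iv F273343)) (tt N28249 (iv F272383)) (tt N28055 (iv F271255)))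
theorem Q27285 : ∀ i, i < 27285 → P i := stepQ 27284 Q27284 (allL N27284 (tt N28458 (iv F273349)) (tt N26066 F268330) (tt N26133 F268331) (tt N28186 (iv F272004)) (tt N26065 (iv D60054)) (tt N28076 (iv F271397)) (tt N26068 F268332) (tt N28457 (iv F273347)) (tt N28250 (iv F272390)) (tt N28056 (iv F271261)))
theorem Q27286 : ∀ i, i < 27286 → P i := stepQ 27285 Q27285 (allL N27285 (tt N26068 F268333) (tt N28435 (iv F273242)) (tt N28035 (iv F271122)) (tt N28459 D61229) (tt N26067 (iv D60055)) (tt N26299 F268334) (tt N28458 (iv F273351)) (tt N28455 (iv F273339)) (tt N28251 (iv F272393)) (tt N28450 (iv F273313)))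
theorem Q27287 : ∀ i, i < 27287 → P i := stepQ 27286 Q27286 (allL N27286 (tt N28459 (iv F273352)) (tt N26069 F268335) (tt N28195 (iv F272060)) (tt N26068 (iv D60056)) (tt N26450 F268336) (tt N26300 F268337) (tt N28186 (iv F272006)) (tt N26664 F268338) (tt N28460 D61230) (tt N26513 F268339))
theorem Q27288 : ∀ i, i < 27288 → P i := stepQ 27287 Q27287 (allL N27287 (tt N28013 (iv F270994)) (tt N28460 (iv F273357)) (tt N26070 F268340) (tt N28171 (iv F271913)) (tt N26445 F268341) (tt N26301 F268342) (tt N28163 (iv F271871)) (tt N26662 F268343) (tt N26069 (iv D60057)) (tt N28461 D61231))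
theorem Q27289 : ∀ i, i < 27289 → P i := stepQ 27288 Q27288 (allL N27288 (tt N28011 (iv F270980)) (tt N26245 F268344) (tt N28461 (iv F273361)) (tt N26071 F268345) (tt N26121 F268346) (tt N26320 F268347) (tt N26235 F268348) (tt N26660 F268349) (tt N26499 F268350) (tt N26070 (iv D60058)))
theorem Q27290 : ∀ i, i < 27290 → P i := stepQ 27289 Q27289 (allL N27289 (tt N28462 D61232) (tt N26072 (iv D60059)) (tt N26097 F268351) (tt N26582 F268352) (tt N26617 F268353) (tt N28050 (iv F271219)) (tt N26620 F268354) (tt N26073 F268355) (tt N26609 F268356) (tt N26077 F268357))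
theorem Q27291 : ∀ i, i < 27291 → P i := stepQ 27290 Q27290 (allL N27290 (tt N26073 (iv D60060)) (tt N28045 (iv F271181)) (tt N26100 F268358) (tt N28057 (iv F271264)) (tt N26631 F268359) (tt N28055 (iv F271253)) (tt N26606 F268360) (tt N28462 (iv F273372)) (tt N28451 (iv F273320)) (tt N26082 F268361))
theorem Q27292 : ∀ i, i < 27292 → P i := stepQ 27291 Q27291 (allL N27291 (tt N28463 D61233) (tt N26074 (iv D60061)) (tt N26109 F268362) (tt N28386 (iv F273049)) (tt N28261 (iv F272449)) (tt N28231 (iv F272277)) (tt N26077 F268363) (tt N26624 F268364) (tt N28206 (iv F272122)) (tt N26620 F268365))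
theorem Q27293 : ∀ i, i < 27293 → P i := stepQ 27292 Q27292 (allL N27292 (tt N28464 D61234) (tt N26075 (iv D60062)) (tt N26588 F268366) (tt N26077 F268367) (tt N28465 D61235) (tt N28044 (iv F271176)) (tt N28386 (iv F273050)) (tt N26080 F268368) (tt N28445 (iv F273285)) (tt N26582 F268369))
theorem Q27294 : ∀ i, i < 27294 → P i := stepQ 27293 Q27293 (allL N27293 (tt N28051 (iv F271223)) (tt N28465 (iv F273383)) (tt N26076 F268370) (tt N28181 (iv F271972)) (tt N26075 (iv D60063)) (tt N28146 (iv F271773)) (tt N28387 (iv F273055)) (tt N26081 F268371) (tt N28446 (iv F273291)) (tt N26583 F268372))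
theorem Q27295 : ∀ i, i < 27295 → P i := stepQ 27294 Q27294 (allL N27294 (tt N26077 (iv D60064)) (tt N28052 (iv F271230)) (tt N26120 F268373) (tt N28464 (iv F273380)) (tt N28431 (iv F273218)) (tt N28456 (iv F273342)) (tt N28463 (iv F273376)) (tt N26082 F268374) (tt N28254 (iv F272411)) (tt N28462 (iv F273374)))
theorem Q27296 : ∀ i, i < 27296 → P i := stepQ 27295 Q27295 (allL N27295 (tt N28466 D61236) (tt N26078 (iv D60065)) (tt N28059 (iv F271278)) (tt N28257 (iv F272425)) (tt N28467 D61237) (tt N26604 F268375) (tt N26632 F268376) (tt N28445 (iv F273284)) (tt N26080 F268377) (tt N26612 F268378))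
theorem Q27297 : ∀ i, i < 27297 → P i := stepQ 27296 Q27296 (allL N27296 (tt N28054 (iv F271243)) (tt N28467 (iv F273391)) (tt N26079 F268379) (tt N28468 D61238) (tt N26078 (iv D60066)) (tt N26669 F268380) (tt N26633 F268381) (tt N28446 (iv F273290)) (tt N26081 F268382) (tt N26613 F268383))
theorem Q27298 : ∀ i, i < 27298 → P i := stepQ 27297 Q27297 (allL N27297 (tt N26080 (iv D60067)) (tt N28055 (iv F271250)) (tt N28067 (iv F271334)) (tt N26082 F268384) (tt N28469 D61239) (tt N28045 (iv F271185)) (tt N26635 F268385) (tt N28464 (iv F273381)) (tt N28466 (iv F273389)) (tt N28057 (iv F271269)))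
theorem Q27299 : ∀ i, i < 27299 → P i := stepQ 27298 Q27298 (allL N27298 (tt N28469 (iv F273402)) (tt N26081 F268386) (tt N28068 (iv F271341)) (tt N28433 (iv F273230)) (tt N26080 (iv D60068)) (tt N28148 (iv F271788)) (tt N26636 F268387) (tt N28465 (iv F273385)) (tt N28467 (iv F273394)) (tt N28058 (iv F271277)))
theorem Q27300 : ∀ i, i < 27300 → P i := stepQ 27299 Q27299 (allL N27299 (tt N26150 F268388) (tt N28470 D61240) (tt N26083 (iv D60069)) (tt N26485 F268389) (tt N28471 D61241) (tt N26084 F268390) (tt N28369 (iv F272969)) (tt N26089 F268391) (tt N26095 F268392) (tt N28255 (iv F272418)))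
theorem Q27301 : ∀ i, i < 27301 → P i := stepQ 27300 Q27300 (allL N27300 (tt N26151 F268393) (tt N26608 F268394) (tt N28471 (iv F273410)) (tt N27300 F268395) (tt N26083 (iv D60070)) (tt N26619 F268396) (tt N28370 (iv F272976)) (tt N26090 F268397) (tt N26096 F268398) (tt N28233 (iv F272293)))
theorem Q27302 : ∀ i, i < 27302 → P i := stepQ 27301 Q27301 (allL N27301 (tt N28472 D61242) (tt N26084 (iv D60071)) (tt N26609 F268399) (tt N26489 F268400) (tt N26620 F268401) (tt N28470 (iv F273406)) (tt N26617 F268402) (tt N26091 F268403) (tt N26097 F268404) (tt N28261 (iv F272453)))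
theorem Q27303 : ∀ i, i < 27303 → P i := stepQ 27302 Q27302 (allL N27302 (tt N26166 F268405) (tt N28473 D61243) (tt N26085 (iv D60072)) (tt N26089 F268406) (tt N28474 D61244) (tt N26086 F268407) (tt N27960 (iv F270678)) (tt N26485 F268408) (tt N26463 F268409) (tt N28264 (iv F272474)))
theorem Q27304 : ∀ i, i < 27304 → P i := stepQ 27303 Q27303 (allL N27303 (tt N26167 F268410) (tt N26469 F268411) (tt N28474 (iv F273427)) (tt N27303 F268412) (tt N26085 (iv D60073)) (tt N28475 D61245) (tt N27961 (iv F270685)) (tt N26486 F268413) (tt N26464 F268414) (tt N28265 (iv F272481)))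
theorem Q27305 : ∀ i, i < 27305 → P i := stepQ 27304 Q27304 (allL N27304 (tt N28476 D61246) (tt N26086 (iv D60074)) (tt N26472 F268415) (tt N26091 F268416) (tt N28477 D61247) (tt N28473 (iv F273423)) (tt N26637 F268417) (tt N26489 F268418) (tt N26465 F268419) (tt N28266 (iv F272486)))
theorem Q27306 : ∀ i, i < 27306 → P i := stepQ 27305 Q27305 (allL N27305 (tt N26169 F268420) (tt N28477 (iv F273442)) (tt N26087 F268421) (tt N26541 F268422) (tt N26086 (iv D60075)) (tt N28478 D61248) (tt N26638 F268423) (tt N26490 F268424) (tt N26466 F268425) (tt N28267 (iv F272492)))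
theorem Q27307 : ∀ i, i < 27307 → P i := stepQ 27306 Q27306 (allL N27306 (tt N26170 F268426) (tt N26474 F268427) (tt N28478 (iv F273449)) (tt N26088 F268428) (tt N28475 (iv F273433)) (tt N26087 (iv D60076)) (tt N28479 D61249) (tt N26316 F268429) (tt N26315 F268430) (tt N28268 (iv F272497)))
theorem Q27308 : ∀ i, i < 27308 → P i := stepQ 27307 Q27307 (allL N27307 (tt N26171 F268431) (tt N26520 F268432) (tt N26139 F268433) (tt N28479 (iv F273455)) (tt N27307 F268434) (tt N26138 F268435) (tt N26088 (iv D60077)) (tt N26324 F268436) (tt N26143 F268437) (tt N28269 (iv F272505)))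
theorem Q27309 : ∀ i, i < 27309 → P i := stepQ 27308 Q27308 (allL N27308 (tt N28480 D61250) (tt N26089 (iv D60078)) (tt N28053 (iv F271236)) (tt N28473 (iv F273422)) (tt N28481 D61251) (tt N26091 F268438) (tt N27966 (iv F270711)) (tt N28470 (iv F273407)) (tt N26098 F268439) (tt N28270 (iv F272510)))
theorem Q27310 : ∀ i, i < 27310 → P i := stepQ 27309 Q27309 (allL N27309 (tt N26175 F268440) (tt N28481 (iv F273462)) (tt N26090 F268441) (tt N28482 D61252) (tt N26089 (iv D60079)) (tt N26633 F268442) (tt N27967 (iv F270717)) (tt N28471 (iv F273412)) (tt N26099 F268443) (tt N28271 (iv F272516)))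
theorem Q27311 : ∀ i, i < 27311 → P i := stepQ 27310 Q27310 (allL N27310 (tt N26091 (iv D60080)) (tt N26176 F268444) (tt N28451 (iv F273315)) (tt N28476 (iv F273438)) (tt N26634 F268445) (tt N28480 (iv F273460)) (tt N26639 F268446) (tt N28472 (iv F273419)) (tt N26100 F268447) (tt N28272 (iv F272522)))
theorem Q27312 : ∀ i, i < 27312 → P i := stepQ 27311 Q27311 (allL N27311 (tt N26179 F268448) (tt N28483 D61253) (tt N26092 (iv D60081)) (tt N26260 F268449) (tt N28484 D61254) (tt N26093 F268450) (tt N28336 (iv F272827)) (tt N26626 F268451) (tt N26615 F268452) (tt N26107 F268453))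
theorem Q27313 : ∀ i, i < 27313 → P i := stepQ 27312 Q27312 (allL N27312 (tt N26180 F268454) (tt N26619 F268455) (tt N28484 (iv F273475)) (tt N27312 F268456) (tt N26092 (iv D60082)) (tt N26608 F268457) (tt N28337 (iv F272834)) (tt N26627 F268458) (tt N26616 F268459) (tt N26108 F268460))
theorem Q27314 : ∀ i, i < 27314 → P i := stepQ 27313 Q27313 (allL N27313 (tt N28485 D61255) (tt N26093 (iv D60083)) (tt N26620 F268461) (tt N26262 F268462) (tt N26609 F268463) (tt N28483 (iv F273470)) (tt N26097 F268464) (tt N26628 F268465) (tt N26617 F268466) (tt N26109 F268467))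
theorem Q27315 : ∀ i, i < 27315 → P i := stepQ 27314 Q27314 (allL N27314 (tt N26187 F268468) (tt N28486 D61256) (tt N26094 (iv D60084)) (tt N26719 F268469) (tt N28487 D61257) (tt N28336 (iv F272826)) (tt N26095 F268470) (tt N27976 (iv F270778)) (tt N28369 (iv F272971)) (tt N26116 F268471))
theorem Q27316 : ∀ i, i < 27316 → P i := stepQ 27315 Q27315 (allL N27315 (tt N26188 F268472) (tt N27950 (iv F270606)) (tt N28487 (iv F273492)) (tt N26102 F268473) (tt N26094 (iv D60085)) (tt N28488 D61258) (tt N26096 F268474) (tt N27977 (iv F270785)) (tt N28370 (iv F272978)) (tt N26117 F268475))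
theorem Q27317 : ∀ i, i < 27317 → P i := stepQ 27316 Q27316 (allL N27316 (tt N28489 D61259) (tt N26095 (iv D60086)) (tt N28050 (iv F271217)) (tt N26718 F268476) (tt N28490 D61260) (tt N26097 F268477) (tt N28486 (iv F273489)) (tt N26098 F268478) (tt N28470 (iv F273408)) (tt N26118 F268479))
theorem Q27318 : ∀ i, i < 27318 → P i := stepQ 27317 Q27317 (allL N27317 (tt N26190 F268480) (tt N28490 (iv F273504)) (tt N26096 F268481) (tt N28491 D61261) (tt N26095 (iv D60087)) (tt N26622 F268482) (tt N28487 (iv F273493)) (tt N26099 F268483) (tt N28471 (iv F273413)) (tt N26119 F268484))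
theorem Q27319 : ∀ i, i < 27319 → P i := stepQ 27318 Q27318 (allL N27318 (tt N26097 (iv D60088)) (tt N26191 F268485) (tt N28462 (iv F273368)) (tt N26717 F268486) (tt N26623 F268487) (tt N28489 (iv F273501)) (tt N28485 (iv F273484)) (tt N26100 F268488) (tt N28472 (iv F273420)) (tt N26120 F268489))
theorem Q27320 : ∀ i, i < 27320 → P i := stepQ 27319 Q27319 (allL N27319 (tt N26098 (iv D60089)) (tt N26206 F268490) (tt N28055 (iv F271251)) (tt N26746 F268491) (tt N28492 D61262) (tt N26100 F268492) (tt N27989 (iv F270852)) (tt N28489 (iv F273502)) (tt N28480 (iv F273461)) (tt N26132 F268493))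
theorem Q27321 : ∀ i, i < 27321 → P i := stepQ 27320 Q27320 (allL N27320 (tt N28492 (iv F273514)) (tt N26099 F268494) (tt N28056 (iv F271257)) (tt N28493 D61263) (tt N26098 (iv D60090)) (tt N26636 F268495) (tt N27990 (iv F270857)) (tt N28490 (iv F273506)) (tt N28481 (iv F273464)) (tt N26133 F268496))
theorem Q27322 : ∀ i, i < 27322 → P i := stepQ 27321 Q27321 (allL N27321 (tt N26208 F268497) (tt N28493 (iv F273518)) (tt N26104 F268498) (tt N26099 (iv D60091)) (tt N26412 F268499) (tt N26409 F268500) (tt N27991 (iv F270863)) (tt N28491 (iv F273512)) (tt N28494 D61264) (tt N26134 F268501))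
theorem Q27323 : ∀ i, i < 27323 → P i := stepQ 27322 Q27322 (allL N27322 (tt N26212 F268502) (tt N27975 (iv F270767)) (tt N26102 F268503) (tt N28495 D61265) (tt N26101 (iv D60092)) (tt N28269 (iv F272502)) (tt N26103 F268504) (tt N27992 (iv F270869)) (tt N27322 F268505) (tt N26138 F268506))
theorem Q27324 : ∀ i, i < 27324 → P i := stepQ 27323 Q27323 (allL N27323 (tt N26213 F268507) (tt N27938 (iv F270518)) (tt N28269 (iv F272500)) (tt N28488 (iv F273496)) (tt N27323 F268508) (tt N26102 (iv D60093)) (tt N26551 F268509) (tt N27993 (iv F270878)) (tt N27323 F268510) (tt N26139 F268511))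
theorem Q27325 : ∀ i, i < 27325 → P i := stepQ 27324 Q27324 (allL N27324 (tt N26215 F268512) (tt N27974 (iv F270761)) (tt N28491 (iv F273509)) (tt N26103 (iv D60094)) (tt N26394 F268513) (tt N26391 F268514) (tt N28495 (iv F273528)) (tt N26104 F268515) (tt N28496 D61266) (tt N26140 F268516))
theorem Q27326 : ∀ i, i < 27326 → P i := stepQ 27325 Q27325 (allL N27325 (tt N26219 F268517) (tt N27985 (iv F270826)) (tt N28494 (iv F273523)) (tt N27325 F268518) (tt N26407 F268519) (tt N26404 F268520) (tt N27995 (iv F270892)) (tt N28496 (iv F273534)) (tt N26104 (iv D60095)) (tt N28105 (iv F271558)))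
theorem Q27327 : ∀ i, i < 27327 → P i := stepQ 27326 Q27326 (allL N27326 (tt N26223 F268521) (tt N28497 D61267) (tt N26105 (iv D60096)) (tt N26107 F268522) (tt N28498 D61268) (tt N26106 F268523) (tt N28307 (iv F272698)) (tt N26496 F268524) (tt N26508 F268525) (tt N26260 F268526))
theorem Q27328 : ∀ i, i < 27328 → P i := stepQ 27327 Q27327 (allL N27327 (tt N26224 F268527) (tt N26273 F268528) (tt N28498 (iv F273542)) (tt N27327 F268529) (tt N26105 (iv D60097)) (tt N26666 F268530) (tt N28153 (iv F271815)) (tt N26497 F268531) (tt N26509 F268532) (tt N26261 F268533))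
theorem Q27329 : ∀ i, i < 27329 → P i := stepQ 27328 Q27328 (allL N27328 (tt N28499 D61269) (tt N26106 (iv D60098)) (tt N26277 F268534) (tt N26109 F268535) (tt N26667 F268536) (tt N28497 (iv F273537)) (tt N26115 F268537) (tt N26641 F268538) (tt N28192 (iv F272046)) (tt N26262 F268539))
theorem Q27330 : ∀ i, i < 27330 → P i := stepQ 27329 Q27329 (allL N27329 (tt N28500 D61270) (tt N26107 (iv D60099)) (tt N28231 (iv F272276)) (tt N28497 (iv F273536)) (tt N28501 D61271) (tt N26109 F268540) (tt N28338 (iv F272840)) (tt N26642 F268541) (tt N28229 (iv F272266)) (tt N28483 (iv F273473)))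
theorem Q27331 : ∀ i, i < 27331 → P i := stepQ 27330 Q27330 (allL N27330 (tt N26231 F268542) (tt N28501 (iv F273557)) (tt N26108 F268543) (tt N28502 D61272) (tt N26107 (iv D60100)) (tt N28258 (iv F272433)) (tt N28339 (iv F272845)) (tt N26643 F268544) (tt N28230 (iv F272274)) (tt N28484 (iv F273479)))
theorem Q27332 : ∀ i, i < 27332 → P i := stepQ 27331 Q27331 (allL N27331 (tt N26109 (iv D60101)) (tt N26232 F268545) (tt N28463 (iv F273375)) (tt N28499 (iv F273549)) (tt N28434 (iv F273237)) (tt N28500 (iv F273555)) (tt N26120 F268546) (tt N26644 F268547) (tt N28288 (iv F272606)) (tt N28485 (iv F273487)))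
theorem Q27333 : ∀ i, i < 27333 → P i := stepQ 27332 Q27332 (allL N27332 (tt N26239 F268548) (tt N28503 D61273) (tt N26110 (iv D60102)) (tt N28154 (iv F271819)) (tt N28504 D61274) (tt N26111 F268549) (tt N28308 (iv F272705)) (tt N26125 F268550) (tt N26113 F268551) (tt N26677 F268552))
theorem Q27334 : ∀ i, i < 27334 → P i := stepQ 27333 Q27333 (allL N27333 (tt N26240 F268553) (tt N26687 F268554) (tt N28504 (iv F273570)) (tt N27333 F268555) (tt N26110 (iv D60103)) (tt N26422 F268556) (tt N28309 (iv F272712)) (tt N26126 F268557) (tt N26114 F268558) (tt N26678 F268559))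
theorem Q27335 : ∀ i, i < 27335 → P i := stepQ 27334 Q27334 (allL N27334 (tt N28505 D61275) (tt N26111 (iv D60104)) (tt N26690 F268560) (tt N28170 (iv F271906)) (tt N26672 F268561) (tt N28503 (iv F273565)) (tt N28192 (iv F272044)) (tt N26128 F268562) (tt N26115 F268563) (tt N26679 F268564))
theorem Q27336 : ∀ i, i < 27336 → P i := stepQ 27335 Q27335 (allL N27335 (tt N26244 F268565) (tt N28506 D61276) (tt N26112 (iv D60105)) (tt N26116 F268566) (tt N28507 D61277) (tt N28307 (iv F272697)) (tt N26113 F268567) (tt N27954 (iv F270638)) (tt N28308 (iv F272707)) (tt N26719 F268568))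
theorem Q27337 : ∀ i, i < 27337 → P i := stepQ 27336 Q27336 (allL N27336 (tt N26245 F268569) (tt N26730 F268570) (tt N28507 (iv F273586)) (tt N26136 F268571) (tt N26112 (iv D60106)) (tt N28109 (iv F271572)) (tt N26114 F268572) (tt N27955 (iv F270645)) (tt N28309 (iv F272714)) (tt N26716 F268573))
theorem Q27338 : ∀ i, i < 27338 → P i := stepQ 27337 Q27337 (allL N27337 (tt N28508 D61278) (tt N26113 (iv D60107)) (tt N26734 F268574) (tt N26118 F268575) (tt N28509 D61279) (tt N26115 F268576) (tt N28506 (iv F273583)) (tt N26129 F268577) (tt N28503 (iv F273567)) (tt N26718 F268578))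
theorem Q27339 : ∀ i, i < 27339 → P i := stepQ 27338 Q27338 (allL N27338 (tt N26247 F268579) (tt N28509 (iv F273595)) (tt N26114 F268580) (tt N28510 D61280) (tt N26113 (iv D60108)) (tt N26424 F268581) (tt N28507 (iv F273587)) (tt N26130 F268582) (tt N28504 (iv F273573)) (tt N26715 F268583))
theorem Q27340 : ∀ i, i < 27340 → P i := stepQ 27339 Q27339 (allL N27339 (tt N26115 (iv D60109)) (tt N26248 F268584) (tt N26739 F268585) (tt N26120 F268586) (tt N26673 F268587) (tt N28508 (iv F273592)) (tt N28499 (iv F273551)) (tt N26131 F268588) (tt N28505 (iv F273579)) (tt N26717 F268589))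
theorem Q27341 : ∀ i, i < 27341 → P i := stepQ 27340 Q27340 (allL N27340 (tt N28511 D61281) (tt N26116 (iv D60110)) (tt N28381 (iv F273020)) (tt N28506 (iv F273582)) (tt N28512 D61282) (tt N28338 (iv F272839)) (tt N26118 F268590) (tt N28004 (iv F270945)) (tt N28290 (iv F272615)) (tt N28486 (iv F273490)))
theorem Q27342 : ∀ i, i < 27342 → P i := stepQ 27341 Q27341 (allL N27341 (tt N26253 F268591) (tt N28512 (iv F273608)) (tt N26117 F268592) (tt N28513 D61283) (tt N26116 (iv D60111)) (tt N28514 D61284) (tt N26119 F268593) (tt N28005 (iv F270950)) (tt N27949 (iv F270603)) (tt N28487 (iv F273494)))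
theorem Q27343 : ∀ i, i < 27343 → P i := stepQ 27342 Q27342 (allL N27342 (tt N26254 F268594) (tt N27937 (iv F270511)) (tt N28514 (iv F273614)) (tt N26139 F268595) (tt N28287 (iv F272599)) (tt N26117 (iv D60112)) (tt N26542 F268596) (tt N28006 (iv F270957)) (tt N26549 F268597) (tt N28488 (iv F273498)))
theorem Q27344 : ∀ i, i < 27344 → P i := stepQ 27343 Q27343 (allL N27343 (tt N26118 (iv D60113)) (tt N26255 F268598) (tt N28456 (iv F273341)) (tt N28508 (iv F273591)) (tt N28515 D61285) (tt N26120 F268599) (tt N28511 (iv F273607)) (tt N26132 F268600) (tt N28291 (iv F272621)) (tt N28489 (iv F273503)))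
theorem Q27345 : ∀ i, i < 27345 → P i := stepQ 27344 Q27344 (allL N27344 (tt N28515 (iv F273617)) (tt N26119 F268601) (tt N28457 (iv F273346)) (tt N28516 D61286) (tt N26118 (iv D60114)) (tt N28246 (iv F272364)) (tt N28512 (iv F273609)) (tt N26133 F268602) (tt N28248 (iv F272377)) (tt N28490 (iv F273507)))
theorem Q27346 : ∀ i, i < 27346 → P i := stepQ 27345 Q27345 (allL N27345 (tt N26257 F268603) (tt N28516 (iv F273620)) (tt N26140 F268604) (tt N26119 (iv D60115)) (tt N28510 (iv F273602)) (tt N26638 F268605) (tt N28513 (iv F273612)) (tt N26134 F268606) (tt N28412 (iv F273157)) (tt N28491 (iv F273513)))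
theorem Q27347 : ∀ i, i < 27347 → P i := stepQ 27346 Q27346 (allL N27346 (tt N28010 (iv F270973)) (tt N28517 D61287) (tt N26121 (iv D60116)) (tt N26122 F268607) (tt N28461 (iv F273363)) (tt N26446 F268608) (tt N26234 F268609) (tt N26659 F268610) (tt N26498 F268611) (tt N26445 F268612))
theorem Q27348 : ∀ i, i < 27348 → P i := stepQ 27347 Q27347 (allL N27347 (tt N28518 D61288) (tt N26122 (iv D60117)) (tt N26128 F268613) (tt N28517 (iv F273624)) (tt N26679 F268614) (tt N28063 (iv F271307)) (tt N26648 F268615) (tt N26690 F268616) (tt N26123 F268617) (tt N26672 F268618))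
theorem Q27349 : ∀ i, i < 27349 → P i := stepQ 27348 Q27348 (allL N27348 (tt N26123 (iv D60118)) (tt N28142 (iv F271747)) (tt N26131 F268619) (tt N28067 (iv F271335)) (tt N26682 F268620) (tt N28065 (iv F271322)) (tt N26649 F268621) (tt N26739 F268622) (tt N28518 (iv F273634)) (tt N26712 F268623))
theorem Q27350 : ∀ i, i < 27350 → P i := stepQ 27349 Q27349 (allL N27349 (tt N26272 F268624) (tt N28519 D61289) (tt N26124 (iv D60119)) (tt N28113 (iv F271588)) (tt N28520 D61290) (tt N26127 F268625) (tt N28016 (iv F271018)) (tt N26677 F268626) (tt N26418 F268627) (tt N26125 F268628))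
theorem Q27351 : ∀ i, i < 27351 → P i := stepQ 27350 Q27350 (allL N27350 (tt N26273 F268629) (tt N26422 F268630) (tt N28520 (iv F273642)) (tt N27350 F268631) (tt N26124 (iv D60120)) (tt N26687 F268632) (tt N28017 (iv F271025)) (tt N26678 F268633) (tt N26419 F268634) (tt N26126 F268635))
theorem Q27352 : ∀ i, i < 27352 → P i := stepQ 27351 Q27351 (allL N27351 (tt N28521 D61291) (tt N26125 (iv D60121)) (tt N28063 (iv F271305)) (tt N28156 (iv F271834)) (tt N28522 D61292) (tt N26128 F268636) (tt N28018 (iv F271032)) (tt N28503 (iv F273566)) (tt N26129 F268637) (tt N28519 (iv F273640)))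
theorem Q27353 : ∀ i, i < 27353 → P i := stepQ 27352 Q27352 (allL N27352 (tt N26275 F268638) (tt N28522 (iv F273650)) (tt N26126 F268639) (tt N28523 D61293) (tt N26125 (iv D60122)) (tt N26689 F268640) (tt N28019 (iv F271037)) (tt N28504 (iv F273572)) (tt N26130 F268641) (tt N28520 (iv F273646)))
theorem Q27354 : ∀ i, i < 27354 → P i := stepQ 27353 Q27353 (allL N27353 (tt N28524 D61294) (tt N26127 (iv D60123)) (tt N26672 F268642) (tt N28125 (iv F271655)) (tt N26690 F268643) (tt N28519 (iv F273637)) (tt N26650 F268644) (tt N26679 F268645) (tt N26671 F268646) (tt N26128 F268647))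
theorem Q27355 : ∀ i, i < 27355 → P i := stepQ 27354 Q27354 (allL N27354 (tt N26128 (iv D60124)) (tt N26279 F268648) (tt N28518 (iv F273630)) (tt N28172 (iv F271921)) (tt N26691 F268649) (tt N28521 (iv F273648)) (tt N26651 F268650) (tt N28505 (iv F273578)) (tt N26131 F268651) (tt N28524 (iv F273662)))
theorem Q27356 : ∀ i, i < 27356 → P i := stepQ 27355 Q27355 (allL N27355 (tt N26129 (iv D60125)) (tt N26288 F268652) (tt N28065 (iv F271320)) (tt N26132 F268653) (tt N28525 D61295) (tt N26131 F268654) (tt N28028 (iv F271088)) (tt N28508 (iv F273593)) (tt N28521 (iv F273649)) (tt N26746 F268655))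
theorem Q27357 : ∀ i, i < 27357 → P i := stepQ 27356 Q27356 (allL N27356 (tt N28525 (iv F273663)) (tt N26130 F268656) (tt N28066 (iv F271327)) (tt N28526 D61296) (tt N26129 (iv D60126)) (tt N26698 F268657) (tt N28029 (iv F271092)) (tt N28509 (iv F273598)) (tt N28522 (iv F273652)) (tt N26745 F268658))
theorem Q27358 : ∀ i, i < 27358 → P i := stepQ 27357 Q27357 (allL N27357 (tt N26290 F268659) (tt N28526 (iv F273667)) (tt N26141 F268660) (tt N26130 (iv D60127)) (tt N26134 F268661) (tt N26374 F268662) (tt N28030 (iv F271097)) (tt N28510 (iv F273604)) (tt N28527 D61297) (tt N26412 F268663))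
theorem Q27359 : ∀ i, i < 27359 → P i := stepQ 27358 Q27358 (allL N27358 (tt N26133 F268664) (tt N26299 F268665) (tt N28458 (iv F273350)) (tt N28528 D61298) (tt N26132 (iv D60128)) (tt N28435 (iv F273243)) (tt N28035 (iv F271124)) (tt N28515 (iv F273619)) (tt N28302 (iv F272673)) (tt N28492 (iv F273517)))
theorem Q27360 : ∀ i, i < 27360 → P i := stepQ 27359 Q27359 (allL N27359 (tt N28528 (iv F273675)) (tt N26134 F268666) (tt N28033 (iv F271111)) (tt N26133 (iv D60129)) (tt N28526 (iv F273668)) (tt N28015 F271014) (tt N28036 (iv F271127)) (tt N28516 (iv F273622)) (tt N28529 D61299) (tt N28493 (iv F273521)))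
theorem Q27361 : ∀ i, i < 27361 → P i := stepQ 27360 Q27360 (allL N27360 (tt N26301 F268667) (tt N28529 (iv F273677)) (tt N26142 F268668) (tt N28304 (iv F272680)) (tt N28527 (iv F273673)) (tt N28013 F271000) (tt N28037 (iv F271131)) (tt N28412 (iv F273156)) (tt N26134 (iv D60130)) (tt N28530 D61300))
theorem Q27362 : ∀ i, i < 27362 → P i := stepQ 27361 Q27361 (allL N27361 (tt N26303 F268669) (tt N28039 (iv F271141)) (tt N26136 F268670) (tt N28531 D61301) (tt N26135 (iv D60131)) (tt N27965 (iv F270706)) (tt N26137 F268671) (tt N27956 (iv F270652)) (tt N27361 F268672) (tt N26395 F268673))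
theorem Q27363 : ∀ i, i < 27363 → P i := stepQ 27362 Q27362 (allL N27362 (tt N26305 F268674) (tt N27999 (iv F270913)) (tt N28510 (iv F273601)) (tt N26137 (iv D60132)) (tt N26140 F268675) (tt N26359 F268676) (tt N28531 (iv F273682)) (tt N26141 F268677) (tt N28430 (iv F273215)) (tt N26394 F268678))
theorem Q27364 : ∀ i, i < 27364 → P i := stepQ 27363 Q27363 (allL N27363 (tt N26309 F268679) (tt N28003 (iv F270937)) (tt N28513 (iv F273611)) (tt N26138 (iv D60133)) (tt N28531 (iv F273681)) (tt N28479 (iv F273456)) (tt N26140 F268680) (tt N28040 (iv F271151)) (tt N28428 (iv F273204)) (tt N28495 (iv F273529)))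
theorem Q27365 : ∀ i, i < 27365 → P i := stepQ 27364 Q27364 (allL N27364 (tt N26314 F268681) (tt N28020 (iv F271041)) (tt N28527 (iv F273672)) (tt N27364 F268682) (tt N26142 F268683) (tt N26372 F268684) (tt N28041 (iv F271158)) (tt N28430 (iv F273214)) (tt N26141 (iv D60134)) (tt N28102 (iv F271545)))
theorem Q27366 : ∀ i, i < 27366 → P i := stepQ 27365 Q27365 (allL N27365 (tt N26320 F268685) (tt N28023 (iv F271058)) (tt N28530 (iv F273679)) (tt N26144 F268686) (tt N28102 (iv F271543)) (tt N28011 F270987) (tt N28042 (iv F271163)) (tt N28429 (iv F273208)) (tt N28105 (iv F271557)) (tt N26142 (iv D60135)))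
theorem Q27367 : ∀ i, i < 27367 → P i := stepQ 27366 Q27366 (allL N27366 (tt N28532 D61302) (tt N26145 (iv D60136)) (tt N26699 F268687) (tt N28177 (iv F271945)) (tt N28044 (iv F271175)) (tt N28145 (iv F271765)) (tt N26152 F268688) (tt N26453 F268689) (tt N26181 F268690) (tt N26516 F268691))
theorem Q27368 : ∀ i, i < 27368 → P i := stepQ 27367 Q27367 (allL N27367 (tt N26398 F268692) (tt N28533 D61303) (tt N26146 (iv D60137)) (tt N28078 (iv F271408)) (tt N28169 (iv F271902)) (tt N26684 F268693) (tt N26195 F268694) (tt N26158 F268695) (tt N26198 F268696) (tt N28094 (iv F271510)))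
theorem Q27369 : ∀ i, i < 27369 → P i := stepQ 27368 Q27368 (allL N27368 (tt N26485 F268697) (tt N28534 D61304) (tt N26147 (iv D60138)) (tt N26150 F268698) (tt N28535 D61305) (tt N26148 F268699) (tt N26677 F268700) (tt N26166 F268701) (tt N26482 F268702) (tt N28308 (iv F272708)))
theorem Q27370 : ∀ i, i < 27370 → P i := stepQ 27369 Q27369 (allL N27369 (tt N26486 F268703) (tt N26685 F268704) (tt N28535 (iv F273702)) (tt N27369 F268705) (tt N26147 (iv D60139)) (tt N28041 (iv F271157)) (tt N26678 F268706) (tt N26167 F268707) (tt N26483 F268708) (tt N28309 (iv F272715)))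
theorem Q27371 : ∀ i, i < 27371 → P i := stepQ 27370 Q27370 (allL N27370 (tt N28536 D61306) (tt N26148 (iv D60140)) (tt N28533 (iv F273690)) (tt N26152 F268709) (tt N28201 (iv F272085)) (tt N28534 (iv F273697)) (tt N28177 (iv F271947)) (tt N26168 F268710) (tt N26484 F268711) (tt N28310 (iv F272719)))
theorem Q27372 : ∀ i, i < 27372 → P i := stepQ 27371 Q27371 (allL N27371 (tt N28369 (iv F272966)) (tt N28537 D61307) (tt N26149 (iv D60141)) (tt N26677 F268712) (tt N28538 D61308) (tt N26675 F268713) (tt N26150 F268714) (tt N28113 (iv F271591)) (tt N26187 F268715) (tt N28154 (iv F271824)))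
theorem Q27373 : ∀ i, i < 27373 → P i := stepQ 27372 Q27372 (allL N27372 (tt N28370 (iv F272973)) (tt N28090 (iv F271483)) (tt N28538 (iv F273714)) (tt N27372 F268716) (tt N26149 (iv D60142)) (tt N28427 (iv F273197)) (tt N26151 F268717) (tt N28114 (iv F271598)) (tt N26188 F268718) (tt N28155 (iv F271832)))
theorem Q27374 : ∀ i, i < 27374 → P i := stepQ 27373 Q27373 (allL N27373 (tt N28539 D61309) (tt N26150 (iv D60143)) (tt N28091 (iv F271489)) (tt N28534 (iv F273696)) (tt N28540 D61310) (tt N26152 F268719) (tt N28537 (iv F273712)) (tt N26174 F268720) (tt N26189 F268721) (tt N28311 (iv F272724)))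
theorem Q27375 : ∀ i, i < 27375 → P i := stepQ 27374 Q27374 (allL N27374 (tt N28471 (iv F273409)) (tt N28540 (iv F273720)) (tt N26151 F268722) (tt N28541 D61311) (tt N26150 (iv D60144)) (tt N28437 (iv F273251)) (tt N28538 (iv F273715)) (tt N26175 F268723) (tt N26190 F268724) (tt N28312 (iv F272728)))
theorem Q27376 : ∀ i, i < 27376 → P i := stepQ 27375 Q27375 (allL N27375 (tt N26152 (iv D60145)) (tt N28472 (iv F273414)) (tt N28093 (iv F271499)) (tt N28536 (iv F273707)) (tt N28438 (iv F273255)) (tt N28539 (iv F273717)) (tt N28532 (iv F273686)) (tt N26176 F268725) (tt N26191 F268726) (tt N28313 (iv F272733)))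
theorem Q27377 : ∀ i, i < 27377 → P i := stepQ 27376 Q27376 (allL N27376 (tt N26158 F268727) (tt N28542 D61312) (tt N26153 (iv D60146)) (tt N28094 (iv F271505)) (tt N28543 D61313) (tt N27970 (iv F270736)) (tt N26652 F268728) (tt N26398 F268729) (tt N26384 F268730) (tt N28078 (iv F271413)))
theorem Q27378 : ∀ i, i < 27378 → P i := stepQ 27377 Q27377 (allL N27377 (tt N26159 F268731) (tt N26389 F268732) (tt N28543 (iv F273730)) (tt N26155 F268733) (tt N26153 (iv D60147)) (tt N28544 D61314) (tt N26653 F268734) (tt N26399 F268735) (tt N26385 F268736) (tt N28079 (iv F271420)))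
theorem Q27379 : ∀ i, i < 27379 → P i := stepQ 27378 Q27378 (allL N27378 (tt N26160 F268737) (tt N26395 F268738) (tt N26155 F268739) (tt N28545 D61315) (tt N26154 (iv D60148)) (tt N28546 D61316) (tt N26386 F268740) (tt N26416 F268741) (tt N26334 F268742) (tt N28039 (iv F271146)))
theorem Q27380 : ∀ i, i < 27380 → P i := stepQ 27379 Q27379 (allL N27379 (tt N26161 F268743) (tt N26414 F268744) (tt N28546 (iv F273745)) (tt N28544 (iv F273736)) (tt N27379 F268745) (tt N26155 (iv D60149)) (tt N28547 D61317) (tt N26417 F268746) (tt N26335 F268747) (tt N28080 (iv F271426)))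
theorem Q27381 : ∀ i, i < 27381 → P i := stepQ 27380 Q27380 (allL N27380 (tt N26384 F268748) (tt N28548 D61318) (tt N26156 (iv D60150)) (tt N26202 F268749) (tt N28203 (iv F272094)) (tt N26692 F268750) (tt N26654 F268751) (tt N26198 F268752) (tt N26158 F268753) (tt N26283 F268754))
theorem Q27382 : ∀ i, i < 27382 → P i := stepQ 27381 Q27381 (allL N27381 (tt N27970 (iv F270734)) (tt N28549 D61319) (tt N26157 (iv D60151)) (tt N27981 (iv F270804)) (tt N28550 D61320) (tt N26158 F268755) (tt N28081 (iv F271430)) (tt N26684 F268756) (tt N26692 F268757) (tt N27958 (iv F270667)))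
theorem Q27383 : ∀ i, i < 27383 → P i := stepQ 27382 Q27382 (allL N27382 (tt N27971 (iv F270741)) (tt N26167 F268758) (tt N28550 (iv F273768)) (tt N27382 F268759) (tt N26157 (iv D60152)) (tt N28551 D61321) (tt N28082 (iv F271437)) (tt N26685 F268760) (tt N26693 F268761) (tt N27959 (iv F270674)))
theorem Q27384 : ∀ i, i < 27384 → P i := stepQ 27383 Q27383 (allL N27383 (tt N28552 D61322) (tt N26158 (iv D60153)) (tt N26168 F268762) (tt N28096 (iv F271519)) (tt N28553 D61323) (tt N28549 (iv F273765)) (tt N26656 F268763) (tt N28533 (iv F273693)) (tt N28548 (iv F273762)) (tt N28314 (iv F272737)))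
theorem Q27385 : ∀ i, i < 27385 → P i := stepQ 27384 Q27384 (allL N27384 (tt N28543 (iv F273729)) (tt N28553 (iv F273778)) (tt N26159 F268764) (tt N28554 D61324) (tt N26158 (iv D60154)) (tt N28555 D61325) (tt N26657 F268765) (tt N28169 (iv F271903)) (tt N28203 (iv F272098)) (tt N28315 (iv F272740)))
theorem Q27386 : ∀ i, i < 27386 → P i := stepQ 27385 Q27385 (allL N27385 (tt N28544 (iv F273734)) (tt N26170 F268766) (tt N28555 (iv F273783)) (tt N26161 F268767) (tt N28551 (iv F273773)) (tt N26159 (iv D60155)) (tt N28556 D61326) (tt N28027 F271083) (tt N26658 F268768) (tt N28316 (iv F272743)))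
theorem Q27387 : ∀ i, i < 27387 → P i := stepQ 27386 Q27386 (allL N27386 (tt N28545 (iv F273739)) (tt N28040 (iv F271148)) (tt N28554 (iv F273781)) (tt N26160 (iv D60156)) (tt N28099 (iv F271529)) (tt N28557 D61327) (tt N26658 F268769) (tt N28003 (iv F270940)) (tt N28556 (iv F273789)) (tt N28317 (iv F272746)))
theorem Q27388 : ∀ i, i < 27388 → P i := stepQ 27387 Q27387 (allL N27387 (tt N28546 (iv F273743)) (tt N26324 F268770) (tt N26161 F268771) (tt N28557 (iv F273791)) (tt N27387 F268772) (tt N26160 (iv D60157)) (tt N26326 F268773) (tt N26520 F268774) (tt N26322 F268775) (tt N28318 (iv F272753)))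
theorem Q27389 : ∀ i, i < 27389 → P i := stepQ 27388 Q27388 (allL N27388 (tt N28547 (iv F273750)) (tt N26171 F268776) (tt N26326 F268777) (tt N28556 (iv F273786)) (tt N27388 F268778) (tt N26308 F268779) (tt N26161 (iv D60158)) (tt N26331 F268780) (tt N26323 F268781) (tt N28319 (iv F272760)))
theorem Q27390 : ∀ i, i < 27390 → P i := stepQ 27389 Q27389 (allL N27389 (tt N26463 F268782) (tt N28558 D61328) (tt N26162 (iv D60159)) (tt N26195 F268783) (tt N28559 D61329) (tt N26164 F268784) (tt N28078 (iv F271410)) (tt N26482 F268785) (tt N26166 F268786) (tt N26652 F268787))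
theorem Q27391 : ∀ i, i < 27391 → P i := stepQ 27390 Q27390 (allL N27390 (tt N26464 F268788) (tt N26693 F268789) (tt N28559 (iv F273802)) (tt N26518 F268790) (tt N26162 (iv D60160)) (tt N28038 (iv F271136)) (tt N28079 (iv F271417)) (tt N26483 F268791) (tt N26167 F268792) (tt N26653 F268793))
theorem Q27392 : ∀ i, i < 27392 → P i := stepQ 27391 Q27391 (allL N27391 (tt N26432 F268794) (tt N28560 D61330) (tt N26163 (iv D60161)) (tt N26196 F268795) (tt N28130 (iv F271682)) (tt N26652 F268796) (tt N26659 F268797) (tt N26263 F268798) (tt N28320 (iv F272766)) (tt N26164 F268799))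
theorem Q27393 : ∀ i, i < 27393 → P i := stepQ 27392 Q27392 (allL N27392 (tt N28561 D61331) (tt N26164 (iv D60162)) (tt N28548 (iv F273757)) (tt N26197 F268800) (tt N28176 (iv F271940)) (tt N28558 (iv F273797)) (tt N26661 F268801) (tt N26484 F268802) (tt N26168 F268803) (tt N28560 (iv F273811)))
theorem Q27394 : ∀ i, i < 27394 → P i := stepQ 27393 Q27393 (allL N27393 (tt N27960 (iv F270675)) (tt N28562 D61332) (tt N26165 (iv D60163)) (tt N26172 F268804) (tt N28563 D61333) (tt N26427 F268805) (tt N26166 F268806) (tt N28016 (iv F271019)) (tt N28078 (iv F271412)) (tt N26455 F268807))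
theorem Q27395 : ∀ i, i < 27395 → P i := stepQ 27394 Q27394 (allL N27394 (tt N27961 (iv F270682)) (tt N28082 (iv F271435)) (tt N28563 (iv F273821)) (tt N27394 F268808) (tt N26165 (iv D60164)) (tt N28564 D61334) (tt N26167 F268809) (tt N28017 (iv F271026)) (tt N28079 (iv F271419)) (tt N26456 F268810))
theorem Q27396 : ∀ i, i < 27396 → P i := stepQ 27395 Q27395 (allL N27395 (tt N28565 D61335) (tt N26166 (iv D60165)) (tt N28549 (iv F273764)) (tt N26174 F268811) (tt N28566 D61336) (tt N26168 F268812) (tt N28562 (iv F273819)) (tt N28534 (iv F273699)) (tt N28558 (iv F273799)) (tt N28324 (iv F272779)))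
theorem Q27397 : ∀ i, i < 27397 → P i := stepQ 27396 Q27396 (allL N27396 (tt N28474 (iv F273426)) (tt N28566 (iv F273829)) (tt N26167 F268813) (tt N28567 D61337) (tt N26166 (iv D60166)) (tt N28568 D61338) (tt N28563 (iv F273822)) (tt N28535 (iv F273704)) (tt N28559 (iv F273804)) (tt N28325 (iv F272782)))
theorem Q27398 : ∀ i, i < 27398 → P i := stepQ 27397 Q27397 (allL N27397 (tt N28475 (iv F273430)) (tt N28551 (iv F273771)) (tt N28568 (iv F273832)) (tt N27397 F268814) (tt N26170 F268815) (tt N26167 (iv D60167)) (tt N28569 D61339) (tt N28041 (iv F271159)) (tt N28038 (iv F271139)) (tt N28326 (iv F272785)))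
theorem Q27399 : ∀ i, i < 27399 → P i := stepQ 27398 Q27398 (allL N27398 (tt N26168 (iv D60168)) (tt N28476 (iv F273436)) (tt N28552 (iv F273776)) (tt N26176 F268816) (tt N28570 D61340) (tt N28565 (iv F273828)) (tt N26663 F268817) (tt N28536 (iv F273708)) (tt N28561 (iv F273816)) (tt N28327 (iv F272788)))
theorem Q27400 : ∀ i, i < 27400 → P i := stepQ 27399 Q27399 (allL N27399 (tt N28570 (iv F273836)) (tt N26169 F268818) (tt N28553 (iv F273779)) (tt N28440 (iv F273263)) (tt N26168 (iv D60169)) (tt N28571 D61341) (tt N26664 F268819) (tt N28201 (iv F272086)) (tt N28176 F271943) (tt N28328 (iv F272791)))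
theorem Q27401 : ∀ i, i < 27401 → P i := stepQ 27400 Q27400 (allL N27400 (tt N28478 (iv F273448)) (tt N28571 (iv F273838)) (tt N26170 F268820) (tt N28441 (iv F273268)) (tt N28568 (iv F273833)) (tt N26169 (iv D60170)) (tt N28572 D61342) (tt N28037 (iv F271132)) (tt N28009 F270972) (tt N28329 (iv F272793)))
theorem Q27402 : ∀ i, i < 27402 → P i := stepQ 27401 Q27401 (allL N27401 (tt N28479 (iv F273453)) (tt N28556 (iv F273785)) (tt N28572 (iv F273839)) (tt N26171 F268821) (tt N28569 (iv F273835)) (tt N26309 F268822) (tt N26170 (iv D60171)) (tt N28428 (iv F273203)) (tt N28040 (iv F271152)) (tt N28330 (iv F272796)))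
theorem Q27403 : ∀ i, i < 27403 → P i := stepQ 27402 Q27402 (allL N27402 (tt N28573 D61343) (tt N26172 (iv D60172)) (tt N26668 F268823) (tt N28562 (iv F273817)) (tt N28574 D61344) (tt N26430 F268824) (tt N26174 F268825) (tt N28115 (iv F271603)) (tt N26204 F268826) (tt N26460 F268827))
theorem Q27404 : ∀ i, i < 27404 → P i := stepQ 27403 Q27403 (allL N27403 (tt N27967 (iv F270714)) (tt N28574 (iv F273847)) (tt N26173 F268828) (tt N28575 D61345) (tt N26172 (iv D60173)) (tt N28060 (iv F271287)) (tt N26175 F268829) (tt N28116 (iv F271608)) (tt N26205 F268830) (tt N26461 F268831))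
theorem Q27405 : ∀ i, i < 27405 → P i := stepQ 27404 Q27404 (allL N27404 (tt N26174 (iv D60174)) (tt N28480 (iv F273459)) (tt N28110 (iv F271574)) (tt N28565 (iv F273827)) (tt N28576 D61346) (tt N26176 F268832) (tt N28573 (iv F273844)) (tt N28539 (iv F273718)) (tt N26206 F268833) (tt N28332 (iv F272809)))
theorem Q27406 : ∀ i, i < 27406 → P i := stepQ 27405 Q27405 (allL N27405 (tt N28576 (iv F273855)) (tt N26175 F268834) (tt N28111 (iv F271580)) (tt N28577 D61347) (tt N26174 (iv D60175)) (tt N28443 (iv F273275)) (tt N28574 (iv F273849)) (tt N28540 (iv F273721)) (tt N26207 F268835) (tt N28333 (iv F272814)))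
theorem Q27407 : ∀ i, i < 27407 → P i := stepQ 27406 Q27406 (allL N27406 (tt N28482 (iv F273465)) (tt N28577 (iv F273857)) (tt N27406 F268836) (tt N26175 (iv D60176)) (tt N28567 (iv F273831)) (tt N28444 (iv F273279)) (tt N28575 (iv F273853)) (tt N28541 (iv F273724)) (tt N28578 D61348) (tt N28334 (iv F272817)))
theorem Q27408 : ∀ i, i < 27408 → P i := stepQ 27407 Q27407 (allL N27407 (tt N28579 D61349) (tt N26177 (iv D60177)) (tt N28135 (iv F271712)) (tt N26181 F268837) (tt N26641 F268838) (tt N28131 (iv F271688)) (tt N26185 F268839) (tt N26667 F268840) (tt N26258 F268841) (tt N26225 F268842))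
theorem Q27409 : ∀ i, i < 27409 → P i := stepQ 27408 Q27408 (allL N27408 (tt N28336 (iv F272824)) (tt N28580 D61350) (tt N26178 (iv D60178)) (tt N26440 F268843) (tt N28581 D61351) (tt N26187 F268844) (tt N26179 F268845) (tt N28089 (iv F271479)) (tt N26675 F268846) (tt N26228 F268847))
theorem Q27410 : ∀ i, i < 27410 → P i := stepQ 27409 Q27409 (allL N27409 (tt N28337 (iv F272831)) (tt N28114 (iv F271595)) (tt N28581 (iv F273873)) (tt N27409 F268848) (tt N26178 (iv D60179)) (tt N28366 (iv F272955)) (tt N26180 F268849) (tt N28090 (iv F271486)) (tt N26676 F268850) (tt N26229 F268851))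
theorem Q27411 : ∀ i, i < 27411 → P i := stepQ 27410 Q27410 (allL N27410 (tt N28582 D61352) (tt N26179 (iv D60180)) (tt N28115 (iv F271601)) (tt N28131 (iv F271687)) (tt N28583 D61353) (tt N26181 F268852) (tt N28580 (iv F273870)) (tt N26668 F268853) (tt N28145 (iv F271768)) (tt N26230 F268854))
theorem Q27412 : ∀ i, i < 27412 → P i := stepQ 27411 Q27411 (allL N27411 (tt N28484 (iv F273474)) (tt N28583 (iv F273880)) (tt N26180 F268855) (tt N28584 D61354) (tt N26179 (iv D60181)) (tt N28446 (iv F273289)) (tt N28581 (iv F273874)) (tt N26669 F268856) (tt N28146 (iv F271776)) (tt N26231 F268857))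
theorem Q27413 : ∀ i, i < 27413 → P i := stepQ 27412 Q27412 (allL N27412 (tt N26181 (iv D60182)) (tt N28485 (iv F273480)) (tt N28117 (iv F271611)) (tt N28579 (iv F273862)) (tt N28447 (iv F273295)) (tt N28582 (iv F273877)) (tt N26191 F268858) (tt N26670 F268859) (tt N28532 (iv F273688)) (tt N26232 F268860))
theorem Q27414 : ∀ i, i < 27414 → P i := stepQ 27413 Q27413 (allL N27413 (tt N28585 D61355) (tt N26182 (iv D60183)) (tt N26185 F268861) (tt N28118 (iv F271617)) (tt N26645 F268862) (tt N28162 (iv F271862)) (tt N28135 (iv F271715)) (tt N26193 F268863) (tt N26647 F268864) (tt N26236 F268865))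
theorem Q27415 : ∀ i, i < 27415 → P i := stepQ 27414 Q27414 (allL N27414 (tt N26719 F268866) (tt N28586 D61356) (tt N26183 (iv D60184)) (tt N26187 F268867) (tt N28191 (iv F272035)) (tt N26440 F268868) (tt N26184 F268869) (tt N26654 F268870) (tt N26442 F268871) (tt N26244 F268872))
theorem Q27416 : ∀ i, i < 27416 → P i := stepQ 27415 Q27415 (allL N27415 (tt N28587 D61357) (tt N26184 (iv D60185)) (tt N28162 (iv F271860)) (tt N26189 F268873) (tt N28190 (iv F272028)) (tt N26185 F268874) (tt N28586 (iv F273895)) (tt N26199 F268875) (tt N26722 F268876) (tt N26246 F268877))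
theorem Q27417 : ∀ i, i < 27417 → P i := stepQ 27416 Q27416 (allL N27416 (tt N26185 (iv D60186)) (tt N26717 F268878) (tt N28585 (iv F273887)) (tt N26191 F268879) (tt N26646 F268880) (tt N28587 (iv F273901)) (tt N28579 (iv F273864)) (tt N26201 F268881) (tt N26723 F268882) (tt N26248 F268883))
theorem Q27418 : ∀ i, i < 27418 → P i := stepQ 27417 Q27417 (allL N27417 (tt N27976 (iv F270774)) (tt N28588 D61358) (tt N26186 (iv D60187)) (tt N26654 F268884) (tt N28589 D61359) (tt N28089 (iv F271477)) (tt N26202 F268885) (tt N26187 F268886) (tt N28113 (iv F271592)) (tt N26250 F268887))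
theorem Q27419 : ∀ i, i < 27419 → P i := stepQ 27418 Q27418 (allL N27418 (tt N27977 (iv F270781)) (tt N26676 F268888) (tt N28589 (iv F273910)) (tt N26210 F268889) (tt N26186 (iv D60188)) (tt N28408 (iv F273140)) (tt N26203 F268890) (tt N26188 F268891) (tt N28114 (iv F271599)) (tt N26251 F268892))
theorem Q27420 : ∀ i, i < 27420 → P i := stepQ 27419 Q27419 (allL N27419 (tt N28590 D61360) (tt N26187 (iv D60189)) (tt N28125 (iv F271654)) (tt N28586 (iv F273893)) (tt N28591 D61361) (tt N28580 (iv F273869)) (tt N26189 F268893) (tt N28588 (iv F273908)) (tt N28537 (iv F273713)) (tt N26252 F268894))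
theorem Q27421 : ∀ i, i < 27421 → P i := stepQ 27420 Q27420 (allL N27420 (tt N28487 (iv F273491)) (tt N28591 (iv F273916)) (tt N26188 F268895) (tt N28592 D61362) (tt N26187 (iv D60190)) (tt N28593 D61363) (tt N26190 F268896) (tt N28589 (iv F273912)) (tt N28538 (iv F273716)) (tt N26253 F268897))
theorem Q27422 : ∀ i, i < 27422 → P i := stepQ 27421 Q27421 (allL N27421 (tt N28488 (iv F273495)) (tt N28127 (iv F271666)) (tt N28593 (iv F273923)) (tt N26213 F268898) (tt N28366 (iv F272954)) (tt N26188 (iv D60191)) (tt N28224 (iv F272237)) (tt N28408 F273142) (tt N28427 (iv F273198)) (tt N26254 F268899))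
theorem Q27423 : ∀ i, i < 27423 → P i := stepQ 27422 Q27422 (allL N27422 (tt N26189 (iv D60192)) (tt N28489 (iv F273499)) (tt N28128 (iv F271671)) (tt N28587 (iv F273900)) (tt N28594 D61364) (tt N26191 F268900) (tt N28590 (iv F273914)) (tt N26206 F268901) (tt N28539 (iv F273719)) (tt N26255 F268902))
theorem Q27424 : ∀ i, i < 27424 → P i := stepQ 27423 Q27423 (allL N27423 (tt N28594 (iv F273925)) (tt N26190 F268903) (tt N28129 (iv F271677)) (tt N28595 D61365) (tt N26189 (iv D60193)) (tt N28449 (iv F273306)) (tt N28591 (iv F273917)) (tt N26207 F268904) (tt N28540 (iv F273722)) (tt N26256 F268905))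
theorem Q27425 : ∀ i, i < 27425 → P i := stepQ 27424 Q27424 (allL N27424 (tt N28491 (iv F273508)) (tt N28595 (iv F273928)) (tt N26215 F268906) (tt N26190 (iv D60194)) (tt N26479 F268907) (tt N26476 F268908) (tt N28592 (iv F273921)) (tt N26208 F268909) (tt N28596 D61366) (tt N26257 F268910))
theorem Q27426 : ∀ i, i < 27426 → P i := stepQ 27425 Q27425 (allL N27425 (tt N28597 D61367) (tt N26192 (iv D60195)) (tt N26197 F268911) (tt N28145 (iv F271764)) (tt N26648 F268912) (tt N28177 (iv F271946)) (tt N26679 F268913) (tt N26647 F268914) (tt N26193 F268915) (tt N28192 (iv F272047)))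
theorem Q27427 : ∀ i, i < 27427 → P i := stepQ 27426 Q27426 (allL N27426 (tt N26193 (iv D60196)) (tt N28184 (iv F271990)) (tt N26201 F268916) (tt N28133 (iv F271702)) (tt N26649 F268917) (tt N28178 (iv F271954)) (tt N26682 F268918) (tt N28585 (iv F273889)) (tt N28597 (iv F273942)) (tt N26266 F268919))
theorem Q27428 : ∀ i, i < 27428 → P i := stepQ 27427 Q27427 (allL N27427 (tt N26418 F268920) (tt N28598 D61368) (tt N26194 (iv D60197)) (tt N26652 F268921) (tt N28124 (iv F271650)) (tt N26196 F268922) (tt N28094 (iv F271507)) (tt N26491 F268923) (tt N26272 F268924) (tt N26195 F268925))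
theorem Q27429 : ∀ i, i < 27429 → P i := stepQ 27428 Q27428 (allL N27428 (tt N28599 D61369) (tt N26195 (iv D60198)) (tt N28177 (iv F271944)) (tt N28558 (iv F273796)) (tt N28168 (iv F271897)) (tt N26197 F268926) (tt N28533 (iv F273692)) (tt N26722 F268927) (tt N26199 F268928) (tt N28598 (iv F273948)))
theorem Q27430 : ∀ i, i < 27430 → P i := stepQ 27429 Q27429 (allL N27429 (tt N28600 D61370) (tt N26196 (iv D60199)) (tt N28192 (iv F272040)) (tt N28560 (iv F273807)) (tt N26650 F268929) (tt N28598 (iv F273945)) (tt N26690 F268930) (tt N26674 F268931) (tt N26277 F268932) (tt N26197 F268933))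
theorem Q27431 : ∀ i, i < 27431 → P i := stepQ 27430 Q27430 (allL N27430 (tt N26197 (iv D60200)) (tt N26711 F268934) (tt N28597 (iv F273938)) (tt N28561 (iv F273813)) (tt N26651 F268935) (tt N28599 (iv F273950)) (tt N26691 F268936) (tt N26723 F268937) (tt N26201 F268938) (tt N28600 (iv F273958)))
theorem Q27432 : ∀ i, i < 27432 → P i := stepQ 27431 Q27431 (allL N27431 (tt N28601 D61371) (tt N26198 (iv D60201)) (tt N26484 F268939) (tt N26204 F268940) (tt N28200 (iv F272081)) (tt N26694 F268941) (tt N26199 F268942) (tt N28548 (iv F273761)) (tt N28533 (iv F273694)) (tt N26285 F268943))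
theorem Q27433 : ∀ i, i < 27433 → P i := stepQ 27432 Q27432 (allL N27432 (tt N26199 (iv D60202)) (tt N26746 F268944) (tt N28178 (iv F271952)) (tt N26206 F268945) (tt N28602 D61372) (tt N26201 F268946) (tt N28601 (iv F273963)) (tt N28587 (iv F273902)) (tt N28599 (iv F273952)) (tt N26288 F268947))
theorem Q27434 : ∀ i, i < 27434 → P i := stepQ 27433 Q27433 (allL N27433 (tt N28602 (iv F273965)) (tt N26200 F268948) (tt N28179 (iv F271958)) (tt N26515 (iv F268951)) (tt N26199 (iv D60203)) (tt N26368 F268949) (tt N28200 (iv F272082)) (tt N28190 (iv F272029)) (tt N28168 (iv F271899)) (tt N26289 F268950))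
theorem Q27435 : ∀ i, i < 27435 → P i := stepQ 27434 Q27434 (allL N27434 (tt N28603 D61373) (tt N26202 (iv D60204)) (tt N28145 (iv F271763)) (tt N28548 (iv F273758)) (tt N28604 D61374) (tt N26699 F268952) (tt N28588 (iv F273907)) (tt N26204 F268953) (tt N28115 (iv F271604)) (tt N26294 F268954))
theorem Q27436 : ∀ i, i < 27436 → P i := stepQ 27435 Q27435 (allL N27435 (tt N27979 (iv F270793)) (tt N28604 (iv F273973)) (tt N26203 F268955) (tt N28605 D61375) (tt N26202 (iv D60205)) (tt N26589 F268956) (tt N28589 (iv F273911)) (tt N26205 F268957) (tt N28116 (iv F271609)) (tt N26295 F268958))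
theorem Q27437 : ∀ i, i < 27437 → P i := stepQ 27436 Q27436 (allL N27436 (tt N26204 (iv D60206)) (tt N27989 (iv F270848)) (tt N28147 (iv F271779)) (tt N28601 (iv F273961)) (tt N28606 D61376) (tt N26700 F268959) (tt N26206 F268960) (tt N28603 (iv F273971)) (tt N28573 (iv F273845)) (tt N26296 F268961))
theorem Q27438 : ∀ i, i < 27438 → P i := stepQ 27437 Q27437 (allL N27437 (tt N28606 (iv F273982)) (tt N26205 F268962) (tt N28148 (iv F271786)) (tt N28607 D61377) (tt N26204 (iv D60207)) (tt N28068 (iv F271343)) (tt N26207 F268963) (tt N28604 (iv F273975)) (tt N28574 (iv F273850)) (tt N26297 F268964))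
theorem Q27439 : ∀ i, i < 27439 → P i := stepQ 27438 Q27438 (allL N27438 (tt N27991 (iv F270859)) (tt N28607 (iv F273985)) (tt N26217 F268965) (tt N26205 (iv D60208)) (tt N26318 F268966) (tt N26444 F268967) (tt N26208 F268968) (tt N28605 (iv F273980)) (tt N28608 D61378) (tt N26298 F268969))
theorem Q27440 : ∀ i, i < 27440 → P i := stepQ 27439 Q27439 (allL N27439 (tt N26207 F268970) (tt N28492 (iv F273515)) (tt N28149 (iv F271793)) (tt N28609 D61379) (tt N26206 (iv D60209)) (tt N28450 (iv F273312)) (tt N28606 (iv F273983)) (tt N28594 (iv F273926)) (tt N28576 (iv F273856)) (tt N26299 F268971))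
theorem Q27441 : ∀ i, i < 27441 → P i := stepQ 27440 Q27440 (allL N27440 (tt N28609 (iv F273995)) (tt N26208 F268972) (tt N28610 D61380) (tt N26207 (iv D60210)) (tt N26515 F268973) (tt N26513 F268974) (tt N28607 (iv F273989)) (tt N28595 (iv F273931)) (tt N28611 D61381) (tt N26300 F268975))
theorem Q27442 : ∀ i, i < 27442 → P i := stepQ 27441 Q27441 (allL N27441 (tt N28494 (iv F273522)) (tt N28611 (iv F274005)) (tt N26219 F268976) (tt N28578 (iv F273859)) (tt N26507 F268977) (tt N26501 F268978) (tt N28608 (iv F273994)) (tt N28596 (iv F273936)) (tt N26208 (iv D60211)) (tt N28612 D61382))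
theorem Q27443 : ∀ i, i < 27443 → P i := stepQ 27442 Q27442 (allL N27442 (tt N27992 (iv F270865)) (tt N26303 F268979) (tt N26210 F268980) (tt N28613 D61383) (tt N26209 (iv D60212)) (tt N28331 (iv F272801)) (tt N26216 F268981) (tt N26212 F268982) (tt N27442 F268983) (tt N26306 F268984))
theorem Q27444 : ∀ i, i < 27444 → P i := stepQ 27443 Q27443 (allL N27443 (tt N27956 (iv F270648)) (tt N26212 F268985) (tt N26302 F268986) (tt N28614 D61384) (tt N26211 (iv D60213)) (tt N28319 (iv F272757)) (tt N26214 F268987) (tt N26303 F268988) (tt N27443 F268989) (tt N26308 F268990))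
theorem Q27445 : ∀ i, i < 27445 → P i := stepQ 27444 Q27444 (allL N27444 (tt N28495 (iv F273526)) (tt N28614 (iv F274017)) (tt N28592 (iv F273919)) (tt N26212 (iv D60214)) (tt N26480 F268991) (tt N28330 (iv F272795)) (tt N26215 F268992) (tt N28613 (iv F274015)) (tt N28615 D61385) (tt N26309 F268993))
theorem Q27446 : ∀ i, i < 27446 → P i := stepQ 27445 Q27445 (allL N27445 (tt N28038 (iv F271133)) (tt N26215 F268994) (tt N28616 D61386) (tt N26214 (iv D60215)) (tt N26315 F268995) (tt N26464 F268996) (tt N28614 (iv F274019)) (tt N26218 F268997) (tt N28475 (iv F273435)) (tt N26311 F268998))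
theorem Q27447 : ∀ i, i < 27447 → P i := stepQ 27446 Q27446 (allL N27446 (tt N28496 (iv F273530)) (tt N28475 (iv F273431)) (tt N28596 (iv F273933)) (tt N27446 F268999) (tt N26474 F269000) (tt N26469 F269001) (tt N28615 (iv F274024)) (tt N26219 F269002) (tt N26215 (iv D60216)) (tt N28617 D61387))
theorem Q27448 : ∀ i, i < 27448 → P i := stepQ 27447 Q27447 (allL N27447 (tt N27994 (iv F270881)) (tt N26305 F269003) (tt N28605 (iv F273977)) (tt N26216 (iv D60217)) (tt N26311 F269004) (tt N26433 F269005) (tt N28613 (iv F274014)) (tt N26217 F269006) (tt N28618 D61388) (tt N26315 F269007))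
theorem Q27449 : ∀ i, i < 27449 → P i := stepQ 27448 Q27448 (allL N27448 (tt N27995 (iv F270887)) (tt N26314 F269008) (tt N28608 (iv F273991)) (tt N27448 F269009) (tt N26319 F269010) (tt N26441 F269011) (tt N26219 F269012) (tt N28618 (iv F274039)) (tt N26217 (iv D60218)) (tt N28619 D61389))
theorem Q27450 : ∀ i, i < 27450 → P i := stepQ 27449 Q27449 (allL N27449 (tt N28030 (iv F271094)) (tt N28610 (iv F273999)) (tt N26218 (iv D60219)) (tt N26286 F269013) (tt N26298 F269014) (tt N26493 F269015) (tt N26290 F269016) (tt N28616 (iv F274028)) (tt N28620 D61390) (tt N26318 F269017))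
theorem Q27451 : ∀ i, i < 27451 → P i := stepQ 27450 Q27450 (allL N27450 (tt N28041 (iv F271153)) (tt N26219 F269018) (tt N28620 (iv F274046)) (tt N27450 F269019) (tt N26316 F269020) (tt N26486 F269021) (tt N26314 F269022) (tt N28475 (iv F273434)) (tt N26218 (iv D60220)) (tt N28621 D61391))
theorem Q27452 : ∀ i, i < 27452 → P i := stepQ 27451 Q27451 (allL N27451 (tt N28105 (iv F271554)) (tt N28621 (iv F274050)) (tt N28612 (iv F274008)) (tt N27451 F269023) (tt N26504 F269024) (tt N26499 F269025) (tt N28619 (iv F274044)) (tt N28617 (iv F274033)) (tt N26320 F269026) (tt N26219 (iv D60221)))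
theorem Q27453 : ∀ i, i < 27453 → P i := stepQ 27452 Q27452 (allL N27452 (tt N28622 D61392) (tt N26220 (iv D60222)) (tt N26225 F269027) (tt N28012 (iv F270989)) (tt N26242 F269028) (tt N28136 (iv F271721)) (tt N26236 F269029) (tt N26280 F269030) (tt N26249 F269031) (tt N28135 (iv F271718)))
theorem Q27454 : ∀ i, i < 27454 → P i := stepQ 27453 Q27453 (allL N27453 (tt N28623 D61393) (tt N26221 (iv D60223)) (tt N26249 F269032) (tt N28073 (iv F271373)) (tt N26236 F269033) (tt N28180 (iv F271965)) (tt N26242 F269034) (tt N26267 F269035) (tt N26225 F269036) (tt N26645 F269037))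
theorem Q27455 : ∀ i, i < 27455 → P i := stepQ 27454 Q27454 (allL N27454 (tt N28307 (iv F272695)) (tt N28624 D61394) (tt N26222 (iv D60224)) (tt N26228 F269038) (tt N28625 D61395) (tt N26244 F269039) (tt N26223 F269040) (tt N28262 (iv F272458)) (tt N26487 F269041) (tt N26440 F269042))
theorem Q27456 : ∀ i, i < 27456 → P i := stepQ 27455 Q27455 (allL N27455 (tt N28153 (iv F271811)) (tt N26447 F269043) (tt N28625 (iv F274074)) (tt N27455 F269044) (tt N26222 (iv D60225)) (tt N28619 (iv F274043)) (tt N26224 F269045) (tt N28263 (iv F272465)) (tt N26488 F269046) (tt N26441 F269047))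
theorem Q27457 : ∀ i, i < 27457 → P i := stepQ 27456 Q27456 (allL N27456 (tt N28626 D61396) (tt N26223 (iv D60226)) (tt N28136 (iv F271719)) (tt N26230 F269048) (tt N28627 D61397) (tt N26225 F269049) (tt N28624 (iv F274071)) (tt N26701 F269050) (tt N28180 (iv F271968)) (tt N28131 (iv F271692)))
theorem Q27458 : ∀ i, i < 27458 → P i := stepQ 27457 Q27457 (allL N27457 (tt N28498 (iv F273541)) (tt N28627 (iv F274081)) (tt N26224 F269051) (tt N28628 D61398) (tt N26223 (iv D60227)) (tt N28629 D61399) (tt N28625 (iv F274075)) (tt N26702 F269052) (tt N28181 (iv F271976)) (tt N28132 (iv F271699)))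
theorem Q27459 : ∀ i, i < 27459 → P i := stepQ 27458 Q27458 (allL N27458 (tt N26666 F269053) (tt N26240 F269054) (tt N28629 (iv F274087)) (tt N27458 F269055) (tt N26227 F269056) (tt N26224 (iv D60228)) (tt N26499 (iv F269060)) (tt N26261 F269057) (tt N26235 F269058) (tt N26497 F269059))
theorem Q27460 : ∀ i, i < 27460 → P i := stepQ 27459 Q27459 (allL N27459 (tt N26225 (iv D60229)) (tt N28499 (iv F273547)) (tt N28622 (iv F274057)) (tt N26232 F269061) (tt N28630 D61400) (tt N28626 (iv F274079)) (tt N26248 F269062) (tt N26703 F269063) (tt N28623 (iv F274066)) (tt N28579 (iv F273867)))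
theorem Q27461 : ∀ i, i < 27461 → P i := stepQ 27460 Q27460 (allL N27460 (tt N28630 (iv F274093)) (tt N26226 F269064) (tt N26242 F269065) (tt N26628 F269066) (tt N26225 (iv D60230)) (tt N28631 D61401) (tt N26249 F269067) (tt N26262 F269068) (tt N26236 F269069) (tt N26641 F269070))
theorem Q27462 : ∀ i, i < 27462 → P i := stepQ 27461 Q27461 (allL N27461 (tt N26665 F269071) (tt N28631 (iv F274101)) (tt N26227 F269072) (tt N26626 F269073) (tt N28629 (iv F274088)) (tt N26226 (iv D60231)) (tt N26498 F269074) (tt N26260 F269075) (tt N26234 F269076) (tt N26496 F269077))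
theorem Q27463 : ∀ i, i < 27463 → P i := stepQ 27462 Q27462 (allL N27462 (tt N28632 D61402) (tt N26228 (iv D60232)) (tt N28156 (iv F271833)) (tt N28624 (iv F274069)) (tt N28633 D61403) (tt N26252 F269078) (tt N26230 F269079) (tt N28277 (iv F272548)) (tt N28273 (iv F272528)) (tt N28580 (iv F273872)))
theorem Q27464 : ∀ i, i < 27464 → P i := stepQ 27463 Q27463 (allL N27463 (tt N28339 (iv F272843)) (tt N28633 (iv F274110)) (tt N26229 F269080) (tt N28634 D61404) (tt N26228 (iv D60233)) (tt N28365 (iv F272952)) (tt N26231 F269081) (tt N28278 (iv F272553)) (tt N28241 F272336) (tt N28581 (iv F273876)))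
theorem Q27465 : ∀ i, i < 27465 → P i := stepQ 27464 Q27464 (allL N27464 (tt N26230 (iv D60234)) (tt N28500 (iv F273554)) (tt N28159 (iv F271849)) (tt N28626 (iv F274078)) (tt N28635 D61405) (tt N26232 F269082) (tt N28632 (iv F274109)) (tt N26706 F269083) (tt N28367 (iv F272959)) (tt N28582 (iv F273879)))
theorem Q27466 : ∀ i, i < 27466 → P i := stepQ 27465 Q27465 (allL N27465 (tt N28635 (iv F274114)) (tt N26231 F269084) (tt N28160 (iv F271853)) (tt N28636 D61406) (tt N26230 (iv D60235)) (tt N28453 (iv F273328)) (tt N28633 (iv F274111)) (tt N26707 F269085) (tt N28368 (iv F272964)) (tt N28583 (iv F273882)))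
theorem Q27467 : ∀ i, i < 27467 → P i := stepQ 27466 Q27466 (allL N27466 (tt N28502 (iv F273559)) (tt N28636 (iv F274116)) (tt N27466 F269086) (tt N26231 (iv D60236)) (tt N28628 (iv F274084)) (tt N28454 (iv F273333)) (tt N28634 (iv F274113)) (tt N26708 F269087) (tt N28637 D61407) (tt N28584 (iv F273885)))
theorem Q27468 : ∀ i, i < 27468 → P i := stepQ 27467 Q27467 (allL N27467 (tt N28638 D61408) (tt N26233 (iv D60237)) (tt N26650 F269088) (tt N28162 (iv F271861)) (tt N28192 (iv F272042)) (tt N28118 (iv F271618)) (tt N26672 F269089) (tt N26258 F269090) (tt N26667 F269091) (tt N26648 F269092))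
theorem Q27469 : ∀ i, i < 27469 → P i := stepQ 27468 Q27468 (allL N27468 (tt N28639 D61409) (tt N26234 (iv D60238)) (tt N26246 F269093) (tt N26648 F269094) (tt N28640 D61410) (tt N26236 F269095) (tt N28517 (iv F273626)) (tt N26264 F269096) (tt N28631 (iv F274106)) (tt N28162 (iv F271866)))
theorem Q27470 : ∀ i, i < 27470 → P i := stepQ 27469 Q27469 (allL N27469 (tt N28119 (iv F271622)) (tt N28640 (iv F274133)) (tt N26235 F269097) (tt N28146 (iv F271772)) (tt N26234 (iv D60239)) (tt N28181 (iv F271973)) (tt N28461 (iv F273365)) (tt N26265 F269098) (tt N28629 (iv F274090)) (tt N28163 (iv F271874)))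
theorem Q27471 : ∀ i, i < 27471 → P i := stepQ 27470 Q27470 (allL N27470 (tt N26236 (iv D60240)) (tt N28638 (iv F274123)) (tt N26248 F269099) (tt N28164 (iv F271876)) (tt N28623 (iv F274063)) (tt N28639 (iv F274131)) (tt N28622 (iv F274059)) (tt N26266 F269100) (tt N28630 (iv F274099)) (tt N28585 (iv F273891)))
theorem Q27472 : ∀ i, i < 27472 → P i := stepQ 27471 Q27471 (allL N27471 (tt N28308 (iv F272702)) (tt N28641 D61411) (tt N26237 (iv D60241)) (tt N28255 (iv F272413)) (tt N28642 D61412) (tt N26487 F269101) (tt N26239 F269102) (tt N28264 (iv F272472)) (tt N26244 F269103) (tt N26485 F269104))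
theorem Q27473 : ∀ i, i < 27473 → P i := stepQ 27472 Q27472 (allL N27472 (tt N28309 (iv F272709)) (tt N26499 F269105) (tt N28642 (iv F274141)) (tt N27472 F269106) (tt N26237 (iv D60242)) (tt N28621 (iv F274053)) (tt N26240 F269107) (tt N28265 (iv F272479)) (tt N26245 F269108) (tt N26486 F269109))
theorem Q27474 : ∀ i, i < 27474 → P i := stepQ 27473 Q27473 (allL N27473 (tt N26677 F269110) (tt N28643 D61413) (tt N26238 (iv D60243)) (tt N28369 (iv F272967)) (tt N28141 (iv F271742)) (tt N26241 F269111) (tt N26485 F269112) (tt N26272 F269113) (tt N26491 F269114) (tt N26239 F269115))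
theorem Q27475 : ∀ i, i < 27475 → P i := stepQ 27474 Q27474 (allL N27474 (tt N28644 D61414) (tt N26239 (iv D60244)) (tt N28631 (iv F274102)) (tt N28371 (iv F272981)) (tt N28645 D61415) (tt N26242 F269116) (tt N28641 (iv F274138)) (tt N26274 F269117) (tt N26246 F269118) (tt N28643 (iv F274150)))
theorem Q27476 : ∀ i, i < 27476 → P i := stepQ 27475 Q27475 (allL N27475 (tt N28504 (iv F273569)) (tt N28645 (iv F274154)) (tt N26240 F269119) (tt N28646 D61416) (tt N26239 (iv D60245)) (tt N28137 (iv F271728)) (tt N28642 (iv F274142)) (tt N26275 F269120) (tt N26247 F269121) (tt N28141 (iv F271745)))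
theorem Q27477 : ∀ i, i < 27477 → P i := stepQ 27476 Q27476 (allL N27476 (tt N28647 D61417) (tt N26241 (iv D60246)) (tt N26641 F269122) (tt N28373 (iv F272989)) (tt N28135 (iv F271713)) (tt N28643 (iv F274146)) (tt N26645 F269123) (tt N26277 F269124) (tt N26674 F269125) (tt N26242 F269126))
theorem Q27478 : ∀ i, i < 27478 → P i := stepQ 27477 Q27477 (allL N27477 (tt N26242 (iv D60247)) (tt N28505 (iv F273575)) (tt N28630 (iv F274095)) (tt N28375 (iv F272999)) (tt N28622 (iv F274058)) (tt N28644 (iv F274151)) (tt N28623 (iv F274064)) (tt N26279 F269127) (tt N26248 F269128) (tt N28647 (iv F274164)))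
theorem Q27479 : ∀ i, i < 27479 → P i := stepQ 27478 Q27478 (allL N27478 (tt N27954 (iv F270634)) (tt N28648 D61418) (tt N26243 (iv D60248)) (tt N26250 F269129) (tt N28649 D61419) (tt N28262 (iv F272456)) (tt N26283 F269130) (tt N26244 F269131) (tt N28264 (iv F272473)) (tt N26654 F269132))
theorem Q27480 : ∀ i, i < 27480 → P i := stepQ 27479 Q27479 (allL N27479 (tt N27955 (iv F270641)) (tt N26660 F269133) (tt N28649 (iv F274170)) (tt N26302 F269134) (tt N26243 (iv D60249)) (tt N28650 D61420) (tt N26284 F269135) (tt N26245 F269136) (tt N28265 (iv F272480)) (tt N26655 F269137))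
theorem Q27481 : ∀ i, i < 27481 → P i := stepQ 27480 Q27480 (allL N27480 (tt N28651 D61421) (tt N26244 (iv D60250)) (tt N28517 (iv F273623)) (tt N26252 F269138) (tt N28652 D61422) (tt N28624 (iv F274070)) (tt N26246 F269139) (tt N28648 (iv F274168)) (tt N28641 (iv F274139)) (tt N28586 (iv F273898)))
theorem Q27482 : ∀ i, i < 27482 → P i := stepQ 27481 Q27481 (allL N27481 (tt N28507 (iv F273585)) (tt N28652 (iv F274180)) (tt N26245 F269140) (tt N28653 D61423) (tt N26244 (iv D60251)) (tt N28654 D61424) (tt N26247 F269141) (tt N28649 (iv F274172)) (tt N28642 (iv F274143)) (tt N28191 (iv F272038)))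
theorem Q27483 : ∀ i, i < 27483 → P i := stepQ 27482 Q27482 (allL N27482 (tt N28109 (iv F271569)) (tt N26320 F269142) (tt N28654 (iv F274186)) (tt N26304 F269143) (tt N28619 (iv F274042)) (tt N26245 (iv D60252)) (tt N26504 F269144) (tt N28650 (iv F274176)) (tt N28621 (iv F274055)) (tt N26319 F269145))
theorem Q27484 : ∀ i, i < 27484 → P i := stepQ 27483 Q27483 (allL N27483 (tt N26246 (iv D60253)) (tt N28508 (iv F273589)) (tt N28639 (iv F274129)) (tt N26255 F269146) (tt N28655 D61425) (tt N26248 F269147) (tt N28651 (iv F274179)) (tt N26288 F269148) (tt N28644 (iv F274153)) (tt N28587 (iv F273904)))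
theorem Q27485 : ∀ i, i < 27485 → P i := stepQ 27484 Q27484 (allL N27484 (tt N28655 (iv F274189)) (tt N26247 F269149) (tt N28640 (iv F274134)) (tt N28656 D61426) (tt N26246 (iv D60254)) (tt N28188 (iv F272016)) (tt N28652 (iv F274181)) (tt N26289 F269150) (tt N28645 (iv F274156)) (tt N28190 (iv F272031)))
theorem Q27486 : ∀ i, i < 27486 → P i := stepQ 27485 Q27485 (allL N27485 (tt N28510 (iv F273600)) (tt N28656 (iv F274191)) (tt N26305 F269151) (tt N26247 (iv D60255)) (tt N26257 F269152) (tt N26438 F269153) (tt N28653 (iv F274184)) (tt N26290 F269154) (tt N28657 D61427) (tt N26479 F269155))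
theorem Q27487 : ∀ i, i < 27487 → P i := stepQ 27486 Q27486 (allL N27486 (tt N26249 F269156) (tt N26673 F269157) (tt N28623 (iv F274062)) (tt N26640 F269158) (tt N26248 (iv D60256)) (tt N28187 (iv F272010)) (tt N28630 (iv F274097)) (tt N26292 F269159) (tt N28622 (iv F274061)) (tt N26646 F269160))
theorem Q27488 : ∀ i, i < 27488 → P i := stepQ 27487 Q27487 (allL N27487 (tt N28658 D61428) (tt N26250 (iv D60257)) (tt N28170 (iv F271905)) (tt N28648 (iv F274166)) (tt N28659 D61429) (tt N28277 (iv F272546)) (tt N26294 F269161) (tt N26252 F269162) (tt N28280 (iv F272568)) (tt N28588 (iv F273909)))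
theorem Q27489 : ∀ i, i < 27489 → P i := stepQ 27488 Q27488 (allL N27488 (tt N28005 (iv F270947)) (tt N28659 (iv F274202)) (tt N26251 F269163) (tt N28660 D61430) (tt N26250 (iv D60258)) (tt N28413 (iv F273159)) (tt N26295 F269164) (tt N26253 F269165) (tt N26597 F269166) (tt N28589 (iv F273913)))
theorem Q27490 : ∀ i, i < 27490 → P i := stepQ 27489 Q27489 (allL N27489 (tt N26252 (iv D60259)) (tt N28511 (iv F273606)) (tt N28172 (iv F271920)) (tt N28651 (iv F274178)) (tt N28661 D61431) (tt N28632 (iv F274108)) (tt N26255 F269167) (tt N28658 (iv F274201)) (tt N28292 (iv F272624)) (tt N28590 (iv F273915)))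
theorem Q27491 : ∀ i, i < 27491 → P i := stepQ 27490 Q27490 (allL N27490 (tt N28661 (iv F274209)) (tt N26253 F269168) (tt N28173 (iv F271925)) (tt N28662 D61432) (tt N26252 (iv D60260)) (tt N28663 D61433) (tt N26256 F269169) (tt N28659 (iv F274204)) (tt N28293 (iv F272629)) (tt N28591 (iv F273918)))
theorem Q27492 : ∀ i, i < 27492 → P i := stepQ 27491 Q27491 (allL N27491 (tt N28513 (iv F273610)) (tt N28662 (iv F274211)) (tt N26309 F269170) (tt N26253 (iv D60261)) (tt N28653 (iv F274183)) (tt N28572 (iv F273841)) (tt N26257 F269171) (tt N28660 (iv F274208)) (tt N28664 D61434) (tt N28592 (iv F273922)))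
theorem Q27493 : ∀ i, i < 27493 → P i := stepQ 27492 Q27492 (allL N27492 (tt N28514 (iv F273613)) (tt N28663 (iv F274213)) (tt N26254 F269172) (tt N28572 (iv F273840)) (tt N28365 (iv F272951)) (tt N26253 (iv D60262)) (tt N28441 (iv F273269)) (tt N28413 F273161) (tt N28295 (iv F272643)) (tt N28593 (iv F273924)))
theorem Q27494 : ∀ i, i < 27494 → P i := stepQ 27493 Q27493 (allL N27493 (tt N26256 F269173) (tt N28515 (iv F273618)) (tt N28175 (iv F271936)) (tt N28665 D61435) (tt N26255 (iv D60263)) (tt N28455 (iv F273338)) (tt N28661 (iv F274210)) (tt N26299 F269174) (tt N28380 (iv F273019)) (tt N28594 (iv F273927)))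
theorem Q27495 : ∀ i, i < 27495 → P i := stepQ 27494 Q27494 (allL N27494 (tt N28665 (iv F274216)) (tt N26257 F269175) (tt N28666 D61436) (tt N26256 (iv D60264)) (tt N28656 (iv F274192)) (tt N26664 F269176) (tt N28662 (iv F274212)) (tt N26300 F269177) (tt N28667 D61437) (tt N28595 (iv F273932)))
theorem Q27496 : ∀ i, i < 27496 → P i := stepQ 27495 Q27495 (allL N27495 (tt N28412 (iv F273153)) (tt N28667 (iv F274222)) (tt N26312 F269178) (tt N28174 (iv F271931)) (tt N28657 (iv F274197)) (tt N26662 F269179) (tt N28664 (iv F274215)) (tt N26301 F269180) (tt N26257 (iv D60265)) (tt N28668 D61438))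
theorem Q27497 : ∀ i, i < 27497 → P i := stepQ 27496 Q27496 (allL N27496 (tt N26258 (iv D60266)) (tt N26266 F269181) (tt N28142 (iv F271748)) (tt N28178 (iv F271953)) (tt N28193 (iv F272051)) (tt N28133 (iv F271703)) (tt N26723 F269182) (tt N28638 (iv F274126)) (tt N28579 (iv F273866)) (tt N28184 (iv F271998)))
theorem Q27498 : ∀ i, i < 27498 → P i := stepQ 27497 Q27497 (allL N27497 (tt N26440 F269183) (tt N28669 D61439) (tt N26259 (iv D60267)) (tt N28336 (iv F272825)) (tt N28151 (iv F271802)) (tt N26719 F269184) (tt N26260 F269185) (tt N28320 (iv F272765)) (tt N26263 F269186) (tt N28307 (iv F272701)))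
theorem Q27499 : ∀ i, i < 27499 → P i := stepQ 27498 Q27498 (allL N27498 (tt N28670 D61440) (tt N26260 (iv D60268)) (tt N26274 F269187) (tt N28483 (iv F273469)) (tt N28671 D61441) (tt N26262 F269188) (tt N28669 (iv F274230)) (tt N28631 (iv F274105)) (tt N26264 F269189) (tt N28497 (iv F273540)))
theorem Q27500 : ∀ i, i < 27500 → P i := stepQ 27499 Q27499 (allL N27499 (tt N28132 (iv F271693)) (tt N28671 (iv F274235)) (tt N26261 F269190) (tt N28672 D61442) (tt N26260 (iv D60269)) (tt N26702 F269191) (tt N28151 (iv F271803)) (tt N28629 (iv F274089)) (tt N26265 F269192) (tt N28498 (iv F273546)))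
theorem Q27501 : ∀ i, i < 27501 → P i := stepQ 27500 Q27500 (allL N27500 (tt N26262 (iv D60270)) (tt N28579 (iv F273861)) (tt N26279 F269193) (tt N28485 (iv F273482)) (tt N26703 F269194) (tt N28670 (iv F274233)) (tt N26717 F269195) (tt N28630 (iv F274098)) (tt N26266 F269196) (tt N28499 (iv F273553)))
theorem Q27502 : ∀ i, i < 27502 → P i := stepQ 27501 Q27501 (allL N27501 (tt N28673 D61443) (tt N26263 (iv D60271)) (tt N26285 F269197) (tt N26674 F269198) (tt N28150 (iv F271796)) (tt N26724 F269199) (tt N26264 F269200) (tt N28560 (iv F273810)) (tt N28669 (iv F274231)) (tt N26484 F269201))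
theorem Q27503 : ∀ i, i < 27503 → P i := stepQ 27502 Q27502 (allL N27502 (tt N26264 (iv D60272)) (tt N28133 (iv F271700)) (tt N26288 F269202) (tt N28184 (iv F271992)) (tt N28674 D61444) (tt N26266 F269203) (tt N28673 (iv F274246)) (tt N28639 (iv F274132)) (tt N28670 (iv F274234)) (tt N28178 (iv F271956)))
theorem Q27504 : ∀ i, i < 27504 → P i := stepQ 27503 Q27503 (allL N27503 (tt N28674 (iv F274248)) (tt N26265 F269204) (tt N26289 F269205) (tt N28148 (iv F271787)) (tt N26264 (iv D60273)) (tt N28433 (iv F273231)) (tt N28150 (iv F271797)) (tt N28640 (iv F274135)) (tt N28671 (iv F274238)) (tt N28179 (iv F271962)))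
theorem Q27505 : ∀ i, i < 27505 → P i := stepQ 27504 Q27504 (allL N27504 (tt N26267 F269206) (tt N28193 (iv F272048)) (tt N26292 F269207) (tt N28075 (iv F271389)) (tt N26266 (iv D60274)) (tt N28432 (iv F273224)) (tt N26712 F269208) (tt N28623 (iv F274065)) (tt N26703 F269209) (tt N26649 F269210))
theorem Q27506 : ∀ i, i < 27506 → P i := stepQ 27505 Q27505 (allL N27505 (tt N26455 F269211) (tt N28675 D61445) (tt N26268 (iv D60275)) (tt N26381 F269212) (tt N28676 D61446) (tt N26378 F269213) (tt N28264 (iv F272471)) (tt N26270 F269214) (tt N26283 F269215) (tt N27960 (iv F270681)))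
theorem Q27507 : ∀ i, i < 27507 → P i := stepQ 27506 Q27506 (allL N27506 (tt N26456 F269216) (tt N28152 (iv F271805)) (tt N28676 (iv F274255)) (tt N27506 F269217) (tt N26268 (iv D60276)) (tt N28677 D61447) (tt N28265 (iv F272478)) (tt N26271 F269218) (tt N26284 F269219) (tt N27961 (iv F270688)))
theorem Q27508 : ∀ i, i < 27508 → P i := stepQ 27507 Q27507 (allL N27507 (tt N28016 (iv F271015)) (tt N28678 D61448) (tt N26269 (iv D60277)) (tt N27951 (iv F270613)) (tt N28679 D61449) (tt N26729 F269220) (tt N26272 F269221) (tt N27960 (iv F270679)) (tt N28094 (iv F271509)) (tt N26270 F269222))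
theorem Q27509 : ∀ i, i < 27509 → P i := stepQ 27508 Q27508 (allL N27508 (tt N28017 (iv F271022)) (tt N28153 (iv F271812)) (tt N28679 (iv F274266)) (tt N27508 F269223) (tt N26269 (iv D60278)) (tt N28680 D61450) (tt N26273 F269224) (tt N27961 (iv F270686)) (tt N28095 (iv F271516)) (tt N26271 F269225))
theorem Q27510 : ∀ i, i < 27510 → P i := stepQ 27509 Q27509 (allL N27509 (tt N28681 D61451) (tt N26270 (iv D60279)) (tt N28669 (iv F274228)) (tt N28069 (iv F271347)) (tt N28682 D61452) (tt N26731 F269226) (tt N26274 F269227) (tt N28675 (iv F274252)) (tt N26285 F269228) (tt N28678 (iv F274265)))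
theorem Q27511 : ∀ i, i < 27511 → P i := stepQ 27510 Q27510 (allL N27510 (tt N28019 (iv F271035)) (tt N28682 (iv F274275)) (tt N26271 F269229) (tt N28683 D61453) (tt N26270 (iv D60280)) (tt N28684 D61454) (tt N26275 F269230) (tt N28676 (iv F274256)) (tt N26286 F269231) (tt N28679 (iv F274268)))
theorem Q27512 : ∀ i, i < 27512 → P i := stepQ 27511 Q27511 (allL N27511 (tt N28020 (iv F271040)) (tt N27995 (iv F270888)) (tt N28684 (iv F274280)) (tt N27511 F269232) (tt N26733 F269233) (tt N26271 (iv D60281)) (tt N27985 (iv F270829)) (tt N28677 (iv F274261)) (tt N26287 F269234) (tt N28680 (iv F274271)))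
theorem Q27513 : ∀ i, i < 27513 → P i := stepQ 27512 Q27512 (allL N27512 (tt N28685 D61455) (tt N26272 (iv D60282)) (tt N28497 (iv F273535)) (tt N28397 (iv F273107)) (tt N28686 D61456) (tt N26277 F269235) (tt N28678 (iv F274264)) (tt N28643 (iv F274148)) (tt N28598 (iv F273947)) (tt N26274 F269236))
theorem Q27514 : ∀ i, i < 27514 → P i := stepQ 27513 Q27513 (allL N27513 (tt N28520 (iv F273641)) (tt N28686 (iv F274285)) (tt N26273 F269237) (tt N28687 D61457) (tt N26272 (iv D60283)) (tt N28121 (iv F271636)) (tt N28679 (iv F274267)) (tt N28141 (iv F271743)) (tt N28124 (iv F271652)) (tt N26275 F269238))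
theorem Q27515 : ∀ i, i < 27515 → P i := stepQ 27514 Q27514 (allL N27514 (tt N26274 (iv D60284)) (tt N28521 (iv F273647)) (tt N28670 (iv F274232)) (tt N28400 (iv F273115)) (tt N28688 D61458) (tt N26279 F269239) (tt N28681 (iv F274273)) (tt N28644 (iv F274152)) (tt N26288 F269240) (tt N28685 (iv F274284)))
theorem Q27516 : ∀ i, i < 27516 → P i := stepQ 27515 Q27515 (allL N27515 (tt N28688 (iv F274289)) (tt N26275 F269241) (tt N28671 (iv F274236)) (tt N28689 D61459) (tt N26274 (iv D60285)) (tt N28690 D61460) (tt N28682 (iv F274276)) (tt N28645 (iv F274155)) (tt N26289 F269242) (tt N28686 (iv F274286)))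
theorem Q27517 : ∀ i, i < 27517 → P i := stepQ 27516 Q27516 (allL N27516 (tt N28523 (iv F273653)) (tt N28689 (iv F274291)) (tt N27516 F269243) (tt N26275 (iv D60286)) (tt N28402 (iv F273121)) (tt N28691 D61461) (tt N28683 (iv F274279)) (tt N28646 (iv F274158)) (tt N28692 D61462) (tt N28687 (iv F274288)))
theorem Q27518 : ∀ i, i < 27518 → P i := stepQ 27517 Q27517 (allL N27517 (tt N26689 F269244) (tt N28690 (iv F274292)) (tt N26276 F269245) (tt N28691 (iv F274298)) (tt N26282 F269246) (tt N26275 (iv D60287)) (tt N27984 (iv F270823)) (tt N28137 (iv F271730)) (tt N26291 F269247) (tt N28121 (iv F271639)))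
theorem Q27519 : ∀ i, i < 27519 → P i := stepQ 27518 Q27518 (allL N27518 (tt N26277 (iv D60288)) (tt N28524 (iv F273656)) (tt N28499 (iv F273548)) (tt N28404 (iv F273125)) (tt N28693 D61463) (tt N28685 (iv F274283)) (tt N26739 F269248) (tt N28647 (iv F274162)) (tt N28600 (iv F273957)) (tt N26279 F269249))
theorem Q27520 : ∀ i, i < 27520 → P i := stepQ 27519 Q27519 (allL N27519 (tt N28693 (iv F274303)) (tt N26278 F269250) (tt N26667 F269251) (tt N28694 D61464) (tt N26277 (iv D60289)) (tt N28120 (iv F271630)) (tt N26671 F269252) (tt N28135 (iv F271716)) (tt N26650 F269253) (tt N26280 F269254))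
theorem Q27521 : ∀ i, i < 27521 → P i := stepQ 27520 Q27520 (allL N27520 (tt N26659 F269255) (tt N28694 (iv F274309)) (tt N26332 F269256) (tt N26278 (iv D60290)) (tt N28406 (iv F273133)) (tt N28081 (iv F271429)) (tt N26432 F269257) (tt N28010 (iv F270977)) (tt N28083 (iv F271446)) (tt N26281 F269258))
theorem Q27522 : ∀ i, i < 27522 → P i := stepQ 27521 Q27521 (allL N27521 (tt N26280 F269259) (tt N26691 F269260) (tt N26703 F269261) (tt N28695 D61465) (tt N26279 (iv D60291)) (tt N28696 D61466) (tt N26711 F269262) (tt N28622 (iv F274060)) (tt N26292 F269263) (tt N28693 (iv F274308)))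
theorem Q27523 : ∀ i, i < 27523 → P i := stepQ 27522 Q27522 (allL N27522 (tt N28695 (iv F274313)) (tt N26281 F269264) (tt N26457 F269265) (tt N26280 (iv D60292)) (tt N28410 (iv F273148)) (tt N28697 D61467) (tt N26465 F269266) (tt N28012 (iv F270992)) (tt N26637 F269267) (tt N28694 (iv F274312)))
theorem Q27524 : ∀ i, i < 27524 → P i := stepQ 27523 Q27523 (allL N27523 (tt N28696 (iv F274318)) (tt N26282 F269268) (tt N26701 F269269) (tt N28697 (iv F274324)) (tt N28690 (iv F274294)) (tt N26280 (iv D60293)) (tt N27983 (iv F270819)) (tt N28136 (iv F271723)) (tt N26293 F269270) (tt N28120 (iv F271633)))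
theorem Q27525 : ∀ i, i < 27525 → P i := stepQ 27524 Q27524 (allL N27524 (tt N26435 F269271) (tt N28697 (iv F274322)) (tt N26333 F269272) (tt N26282 F269273) (tt N28698 D61468) (tt N26281 (iv D60294)) (tt N27958 (iv F270664)) (tt N26371 F269274) (tt N26358 F269275) (tt N28081 (iv F271433)))
theorem Q27526 : ∀ i, i < 27526 → P i := stepQ 27525 Q27525 (allL N27525 (tt N28699 D61469) (tt N26283 (iv D60295)) (tt N28560 (iv F273806)) (tt N26294 F269276) (tt N28700 D61470) (tt N26740 F269277) (tt N28648 (iv F274167)) (tt N26285 F269278) (tt N28675 (iv F274253)) (tt N28548 (iv F273763)))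
theorem Q27527 : ∀ i, i < 27527 → P i := stepQ 27526 Q27526 (allL N27526 (tt N27998 (iv F270907)) (tt N28700 (iv F274334)) (tt N26284 F269279) (tt N28616 (iv F274025)) (tt N26283 (iv D60296)) (tt N28701 D61471) (tt N28649 (iv F274171)) (tt N26286 F269280) (tt N28676 (iv F274257)) (tt N28203 (iv F272099)))
theorem Q27528 : ∀ i, i < 27528 → P i := stepQ 27527 Q27527 (allL N27527 (tt N27999 (iv F270912)) (tt N27994 (iv F270882)) (tt N28701 (iv F274336)) (tt N26313 F269281) (tt N26741 F269282) (tt N26284 (iv D60297)) (tt N28317 (iv F272745)) (tt N26287 F269283) (tt N28677 (iv F274262)) (tt N26658 F269284))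
theorem Q27529 : ∀ i, i < 27529 → P i := stepQ 27528 Q27528 (allL N27528 (tt N26285 (iv D60298)) (tt N28028 (iv F271084)) (tt N28673 (iv F274243)) (tt N26296 F269285) (tt N28702 D61472) (tt N26742 F269286) (tt N26288 F269287) (tt N28699 (iv F274333)) (tt N28681 (iv F274274)) (tt N28601 (iv F273964)))
theorem Q27530 : ∀ i, i < 27530 → P i := stepQ 27529 Q27529 (allL N27529 (tt N28702 (iv F274341)) (tt N26286 F269288) (tt N28150 F271799) (tt N28610 (iv F274000)) (tt N26285 (iv D60299)) (tt N28703 D61473) (tt N26289 F269289) (tt N28700 (iv F274335)) (tt N28682 (iv F274277)) (tt N28200 (iv F272083)))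
theorem Q27531 : ∀ i, i < 27531 → P i := stepQ 27530 Q27530 (allL N27530 (tt N28031 (iv F271100)) (tt N28703 (iv F274343)) (tt N26287 F269290) (tt N26493 F269291) (tt N26728 F269292) (tt N26286 (iv D60300)) (tt N27988 (iv F270846)) (tt N28701 (iv F274339)) (tt N28684 (iv F274282)) (tt N28034 (iv F271118)))
theorem Q27532 : ∀ i, i < 27532 → P i := stepQ 27531 Q27531 (allL N27531 (tt N26289 F269293) (tt N28525 (iv F273664)) (tt N28674 (iv F274249)) (tt N28704 D61474) (tt N26288 (iv D60301)) (tt N28705 D61475) (tt N28702 (iv F274342)) (tt N28655 (iv F274190)) (tt N28688 (iv F274290)) (tt N28602 (iv F273968)))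
theorem Q27533 : ∀ i, i < 27533 → P i := stepQ 27532 Q27532 (allL N27532 (tt N28704 (iv F274346)) (tt N26290 F269294) (tt N28607 (iv F273986)) (tt N26289 (iv D60302)) (tt N26300 F269295) (tt N26452 (iv F269297)) (tt N28610 (iv F274003)) (tt N28656 (iv F274194)) (tt N28706 D61476) (tt N26515 F269296))
theorem Q27534 : ∀ i, i < 27534 → P i := stepQ 27533 Q27533 (allL N27533 (tt N28705 (iv F274350)) (tt N26291 F269298) (tt N28433 (iv F273229)) (tt N26452 F269299) (tt N26293 F269300) (tt N26289 (iv D60303)) (tt N27987 (iv F270840)) (tt N28188 (iv F272018)) (tt N28690 (iv F274295)) (tt N26368 F269301))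
theorem Q27535 : ∀ i, i < 27535 → P i := stepQ 27534 Q27534 (allL N27534 (tt N28527 (iv F273671)) (tt N28706 (iv F274355)) (tt N26314 F269302) (tt N28692 (iv F274301)) (tt N26301 F269303) (tt N26449 F269304) (tt N28620 (iv F274049)) (tt N28657 (iv F274199)) (tt N26290 (iv D60304)) (tt N28707 D61477))
theorem Q27536 : ∀ i, i < 27536 → P i := stepQ 27535 Q27535 (allL N27535 (tt N26293 F269305) (tt N26697 F269306) (tt N28432 (iv F273222)) (tt N26362 F269307) (tt N28705 (iv F274353)) (tt N26292 (iv D60305)) (tt N27986 (iv F270835)) (tt N28187 (iv F272012)) (tt N28696 (iv F274321)) (tt N26367 F269308))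
theorem Q27537 : ∀ i, i < 27537 → P i := stepQ 27536 Q27536 (allL N27536 (tt N26294 (iv D60306)) (tt N28007 (iv F270959)) (tt N28196 (iv F272065)) (tt N28699 (iv F274331)) (tt N28708 D61478) (tt N26747 F269309) (tt N28658 (iv F274200)) (tt N26296 F269310) (tt N28422 (iv F273183)) (tt N28603 (iv F273972)))
theorem Q27538 : ∀ i, i < 27538 → P i := stepQ 27537 Q27537 (allL N27537 (tt N28708 (iv F274362)) (tt N26295 F269311) (tt N28197 (iv F272069)) (tt N28709 D61479) (tt N26294 (iv D60307)) (tt N26591 F269312) (tt N28659 (iv F274203)) (tt N26297 F269313) (tt N26596 F269314) (tt N28604 (iv F273976)))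
theorem Q27539 : ∀ i, i < 27539 → P i := stepQ 27538 Q27538 (allL N27538 (tt N28009 (iv F270968)) (tt N28709 (iv F274366)) (tt N26315 F269315) (tt N26295 (iv D60308)) (tt N28616 (iv F274026)) (tt N26466 F269316) (tt N28660 (iv F274207)) (tt N26298 F269317) (tt N28478 (iv F273452)) (tt N28605 (iv F273981)))
theorem Q27540 : ∀ i, i < 27540 → P i := stepQ 27539 Q27539 (allL N27539 (tt N26297 F269318) (tt N28035 (iv F271121)) (tt N28198 (iv F272074)) (tt N28710 D61480) (tt N26296 (iv D60309)) (tt N28077 (iv F271404)) (tt N26299 F269319) (tt N28708 (iv F274364)) (tt N28423 (iv F273188)) (tt N28606 (iv F273984)))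
theorem Q27541 : ∀ i, i < 27541 → P i := stepQ 27540 Q27540 (allL N27540 (tt N28710 (iv F274370)) (tt N26298 F269320) (tt N26515 (iv F269323)) (tt N26297 (iv D60310)) (tt N28610 (iv F274001)) (tt N26495 F269321) (tt N26300 F269322) (tt N28709 (iv F274368)) (tt N28711 D61481) (tt N28607 (iv F273990)))
theorem Q27542 : ∀ i, i < 27542 → P i := stepQ 27541 Q27541 (allL N27541 (tt N28037 (iv F271128)) (tt N28711 (iv F274374)) (tt N26316 F269324) (tt N28391 (iv F273075)) (tt N28620 (iv F274047)) (tt N26490 F269325) (tt N26301 F269326) (tt N28478 (iv F273451)) (tt N26298 (iv D60311)) (tt N28712 D61482))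
theorem Q27543 : ∀ i, i < 27543 → P i := stepQ 27542 Q27542 (allL N27542 (tt N26300 F269327) (tt N28528 (iv F273676)) (tt N28713 D61483) (tt N26299 (iv D60312)) (tt N28704 (iv F274347)) (tt N28459 (iv F273354)) (tt N28710 (iv F274372)) (tt N28665 (iv F274218)) (tt N28714 D61484) (tt N28609 (iv F273998)))
theorem Q27544 : ∀ i, i < 27544 → P i := stepQ 27543 Q27543 (allL N27543 (tt N28713 (iv F274381)) (tt N26318 F269328) (tt N26300 (iv D60313)) (tt N28200 (iv F272080)) (tt N28607 (iv F273987)) (tt N28195 (iv F272062)) (tt N26515 F269329) (tt N28666 (iv F274221)) (tt N28715 D61485) (tt N28610 (iv F274004)))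
theorem Q27545 : ∀ i, i < 27545 → P i := stepQ 27544 Q27544 (allL N27544 (tt N28714 (iv F274383)) (tt N26301 F269330) (tt N28715 (iv F274385)) (tt N28425 (iv F273191)) (tt N28706 (iv F274356)) (tt N28460 (iv F273359)) (tt N28711 (iv F274377)) (tt N28667 (iv F274224)) (tt N26300 (iv D60314)) (tt N28716 D61486))
theorem Q27546 : ∀ i, i < 27546 → P i := stepQ 27545 Q27545 (allL N27545 (tt N28530 (iv F273678)) (tt N28716 (iv F274387)) (tt N26320 F269331) (tt N28426 (iv F273193)) (tt N28707 (iv F274359)) (tt N28461 (iv F273364)) (tt N28712 (iv F274380)) (tt N28668 (iv F274227)) (tt N28612 (iv F274011)) (tt N26301 (iv D60315)))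
theorem Q27547 : ∀ i, i < 27547 → P i := stepQ 27546 Q27546 (allL N27546 (tt N27957 (iv F270655)) (tt N26327 F269332) (tt N28319 (iv F272755)) (tt N28650 (iv F274175)) (tt N27546 F269333) (tt N26302 (iv D60316)) (tt N28318 (iv F272750)) (tt N26304 F269334) (tt N27546 F269335) (tt N26326 F269336))
theorem Q27548 : ∀ i, i < 27548 → P i := stepQ 27547 Q27547 (allL N27547 (tt N28531 (iv F273680)) (tt N28613 (iv F274012)) (tt N28653 (iv F274182)) (tt N26303 (iv D60317)) (tt N26309 F269337) (tt N28717 D61487) (tt N26305 F269338) (tt N28614 (iv F274020)) (tt N28718 D61488) (tt N26480 F269339))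
theorem Q27549 : ∀ i, i < 27549 → P i := stepQ 27548 Q27548 (allL N27548 (tt N27965 (iv F270703)) (tt N28331 (iv F272798)) (tt N26304 F269340) (tt N28717 (iv F274388)) (tt N27548 F269341) (tt N26303 (iv D60318)) (tt N26429 F269342) (tt N28319 (iv F272758)) (tt N27548 F269343) (tt N26331 F269344))
theorem Q27550 : ∀ i, i < 27550 → P i := stepQ 27549 Q27549 (allL N27549 (tt N28430 (iv F273210)) (tt N28618 (iv F274035)) (tt N28657 (iv F274196)) (tt N27549 F269345) (tt N26312 F269346) (tt N26436 F269347) (tt N28718 (iv F274393)) (tt N26314 F269348) (tt N26305 (iv D60319)) (tt N28719 D61489))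
theorem Q27551 : ∀ i, i < 27551 → P i := stepQ 27550 Q27550 (allL N27550 (tt N28040 (iv F271147)) (tt N26480 F269349) (tt N28660 (iv F274206)) (tt N26306 (iv D60320)) (tt N28614 (iv F274018)) (tt N28428 (iv F273201)) (tt N26315 F269350) (tt N26309 F269351) (tt N28479 (iv F273458)) (tt N28613 (iv F274016)))
theorem Q27552 : ∀ i, i < 27552 → P i := stepQ 27551 Q27551 (allL N27551 (tt N26308 F269352) (tt N26416 F269353) (tt N26377 F269354) (tt N28720 D61490) (tt N26307 (iv D60321)) (tt N28547 (iv F273754)) (tt N26310 F269355) (tt N26395 F269356) (tt N26321 F269357) (tt N27956 (iv F270654)))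
theorem Q27553 : ∀ i, i < 27553 → P i := stepQ 27552 Q27552 (allL N27552 (tt N28720 (iv F274399)) (tt N26309 F269358) (tt N28721 D61491) (tt N26308 (iv D60322)) (tt N28613 (iv F274013)) (tt N28556 (iv F273787)) (tt N26311 F269359) (tt N26480 F269360) (tt N28557 (iv F273794)) (tt N28614 (iv F274021)))
theorem Q27554 : ∀ i, i < 27554 → P i := stepQ 27553 Q27553 (allL N27553 (tt N28428 (iv F273199)) (tt N28557 (iv F273790)) (tt N28664 (iv F274214)) (tt N26324 F269361) (tt N28718 (iv F274392)) (tt N28040 (iv F271149)) (tt N26312 F269362) (tt N28479 (iv F273457)) (tt N26309 (iv D60323)) (tt N28722 D61492))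
theorem Q27555 : ∀ i, i < 27555 → P i := stepQ 27554 Q27554 (allL N27554 (tt N26311 F269363) (tt N26741 F269364) (tt N28723 D61493) (tt N26310 (iv D60324)) (tt N27994 (iv F270883)) (tt N26653 F269365) (tt N28720 (iv F274401)) (tt N26317 F269366) (tt N28724 D61494) (tt N28038 (iv F271138)))
theorem Q27556 : ∀ i, i < 27556 → P i := stepQ 27555 Q27555 (allL N27555 (tt N28723 (iv F274408)) (tt N28666 (iv F274219)) (tt N26311 (iv D60325)) (tt N28203 (iv F272093)) (tt N28605 (iv F273978)) (tt N26657 F269367) (tt N28721 (iv F274404)) (tt N26318 F269368) (tt N28725 D61495) (tt N28616 (iv F274029)))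
theorem Q27557 : ∀ i, i < 27557 → P i := stepQ 27556 Q27556 (allL N27556 (tt N28724 (iv F274412)) (tt N26312 F269369) (tt N28725 (iv F274417)) (tt N26326 F269370) (tt N28618 (iv F274037)) (tt N26655 F269371) (tt N28557 (iv F273792)) (tt N26319 F269372) (tt N26311 (iv D60326)) (tt N28650 (iv F274177)))
theorem Q27558 : ∀ i, i < 27558 → P i := stepQ 27557 Q27557 (allL N27557 (tt N28429 (iv F273205)) (tt N28650 (iv F274174)) (tt N28668 (iv F274225)) (tt N26327 F269373) (tt N28719 (iv F274395)) (tt N26660 F269374) (tt N28722 (iv F274407)) (tt N26320 F269375) (tt N28617 (iv F274034)) (tt N26312 (iv D60327)))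
theorem Q27559 : ∀ i, i < 27559 → P i := stepQ 27558 Q27558 (allL N27558 (tt N28102 (iv F271541)) (tt N28619 (iv F274040)) (tt N28707 (iv F274358)) (tt N27558 F269376) (tt N26320 F269377) (tt N26447 F269378) (tt N28621 (iv F274054)) (tt N28719 (iv F274397)) (tt N26504 F269379) (tt N26314 (iv D60328)))
theorem Q27560 : ∀ i, i < 27560 → P i := stepQ 27559 Q27559 (allL N27559 (tt N28042 (iv F271160)) (tt N26504 F269380) (tt N28712 (iv F274378)) (tt N26328 F269381) (tt N28621 (iv F274052)) (tt N26488 F269382) (tt N26320 F269383) (tt N28268 (iv F272496)) (tt N28619 (iv F274045)) (tt N26316 (iv D60329)))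
theorem Q27561 : ∀ i, i < 27561 → P i := stepQ 27560 Q27560 (allL N27560 (tt N26318 F269384) (tt N28726 D61496) (tt N26317 (iv D60330)) (tt N26401 F269385) (tt N27991 (iv F270861)) (tt N26725 F269386) (tt N26412 F269387) (tt N28723 (iv F274411)) (tt N28727 D61497) (tt N28030 (iv F271098)))
theorem Q27562 : ∀ i, i < 27562 → P i := stepQ 27561 Q27561 (allL N27561 (tt N26319 F269388) (tt N26733 F269389) (tt N28727 (iv F274425)) (tt N26330 F269390) (tt N27995 (iv F270890)) (tt N26716 F269391) (tt N26407 F269392) (tt N28724 (iv F274416)) (tt N26317 (iv D60331)) (tt N28109 (iv F271573)))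
theorem Q27563 : ∀ i, i < 27563 → P i := stepQ 27562 Q27562 (allL N27562 (tt N28727 (iv F274424)) (tt N28715 (iv F274384)) (tt N26319 F269393) (tt N28728 D61498) (tt N28608 (iv F273992)) (tt N28191 (iv F272036)) (tt N26507 F269394) (tt N28725 (iv F274419)) (tt N26318 (iv D60332)) (tt N28654 (iv F274188)))
theorem Q27564 : ∀ i, i < 27564 → P i := stepQ 27563 Q27563 (allL N27563 (tt N26322 F269395) (tt N26329 F269396) (tt N26335 F269397) (tt N26321 (iv D60333)) (tt N27563 F269398) (tt N26334 (iv F269402)) (tt N26325 F269399) (tt N26415 F269400) (tt N28546 (iv F273749)) (tt N27563 F269401))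
theorem Q27565 : ∀ i, i < 27565 → P i := stepQ 27564 Q27564 (allL N27564 (tt N26323 F269403) (tt N26415 F269404) (tt N26325 F269405) (tt N26334 F269406) (tt N27564 F269407) (tt N26321 (iv D60334)) (tt N26335 F269408) (tt N26329 F269409) (tt N28547 (iv F273756)) (tt N27564 F269410))
theorem Q27566 : ∀ i, i < 27566 → P i := stepQ 27565 Q27565 (allL N27565 (tt N28331 (iv F272797)) (tt N28318 (iv F272747)) (tt N27993 (iv F270875)) (tt N28722 (iv F274406)) (tt N27565 F269411) (tt N27992 F270872) (tt N26327 F269412) (tt N28269 (iv F272503)) (tt N27565 F269413) (tt N26324 (iv D60335)))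
theorem Q27567 : ∀ i, i < 27567 → P i := stepQ 27566 Q27566 (allL N27566 (tt N26326 F269414) (tt N26380 F269415) (tt N28547 (iv F273752)) (tt N28724 (iv F274414)) (tt N27566 F269416) (tt N26377 F269417) (tt N28546 (iv F273747)) (tt N26330 F269418) (tt N26325 (iv D60336)) (tt N27957 (iv F270660)))
theorem Q27568 : ∀ i, i < 27568 → P i := stepQ 27567 Q27567 (allL N27567 (tt N26331 F269419) (tt N28546 (iv F273744)) (tt N26330 F269420) (tt N28729 D61499) (tt N27567 F269421) (tt N26395 F269422) (tt N26380 F269423) (tt N28547 (iv F273755)) (tt N26329 (iv D60337)) (tt N27965 (iv F270708)))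
theorem Q27569 : ∀ i, i < 27569 → P i := stepQ 27568 Q27568 (allL N27568 (tt N28729 (iv F274431)) (tt N28428 (iv F273200)) (tt N28728 (iv F274428)) (tt N26331 (iv D60338)) (tt N28730 D61500) (tt N26480 F269424) (tt N26459 F269425) (tt N28556 (iv F273788)) (tt N28003 (iv F270941)) (tt N28717 (iv F274390)))
theorem Q27570 : ∀ i, i < 27570 → P i := stepQ 27569 Q27569 (allL N27569 (tt N26436 F269426) (tt N26456 F269427) (tt N28698 (iv F274328)) (tt N27569 F269428) (tt N26333 (iv D60339)) (tt N28430 (iv F273213)) (tt N27959 (iv F270671)) (tt N26372 F269429) (tt N26359 F269430) (tt N28082 (iv F271440)))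
theorem Q27571 : ∀ i, i < 27571 → P i := stepQ 27570 Q27570 (allL N27570 (tt N26336 (iv D60340)) (tt N26344 F269431) (tt N26533 F269432) (tt N27940 (iv F270536)) (tt N26341 F269433) (tt N26556 F269434) (tt N27929 (iv F270456)) (tt N26340 F269435) (tt N26397 F269436) (tt N26337 F269437))
theorem Q27572 : ∀ i, i < 27572 → P i := stepQ 27571 Q27571 (allL N27571 (tt N26338 (iv D60341)) (tt N26550 F269438) (tt N26340 F269439) (tt N28347 (iv F272884)) (tt N26357 F269440) (tt N26526 F269441) (tt N27939 (iv F270530)) (tt N26533 F269442) (tt N26370 F269443) (tt N26534 F269444))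
theorem Q27573 : ∀ i, i < 27573 → P i := stepQ 27572 Q27572 (allL N27572 (tt N26339 (iv D60342)) (tt N26357 F269445) (tt N26526 F269446) (tt N27941 (iv F270545)) (tt N26550 F269447) (tt N26340 F269448) (tt N28205 (iv F272113)) (tt N26556 F269449) (tt N26413 F269450) (tt N26558 F269451))
theorem Q27574 : ∀ i, i < 27574 → P i := stepQ 27573 Q27573 (allL N27573 (tt N26342 (iv D60343)) (tt N27929 (iv F270452)) (tt N26575 F269452) (tt N27931 (iv F270470)) (tt N26355 F269453) (tt N28361 (iv F272935)) (tt N26344 F269454) (tt N27933 (iv F270489)) (tt N26462 F269455) (tt N26598 F269456))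
theorem Q27575 : ∀ i, i < 27575 → P i := stepQ 27574 Q27574 (allL N27574 (tt N26343 (iv D60344)) (tt N27940 (iv F270534)) (tt N28242 (iv F272337)) (tt N26344 F269457) (tt N27933 (iv F270487)) (tt N26568 F269458) (tt N27931 (iv F270472)) (tt N26355 F269459) (tt N27996 (iv F270900)) (tt N26593 F269460))
theorem Q27576 : ∀ i, i < 27576 → P i := stepQ 27575 Q27575 (allL N27575 (tt N28731 D61501) (tt N26345 (iv D60345)) (tt N26353 F269461) (tt N26584 F269462) (tt N28732 D61502) (tt N26347 F269463) (tt N28209 (iv F272140)) (tt N26562 F269464) (tt N26612 F269465) (tt N26576 F269466))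
theorem Q27577 : ∀ i, i < 27577 → P i := stepQ 27576 Q27576 (allL N27576 (tt N28238 (iv F272316)) (tt N28732 (iv F274443)) (tt N26346 F269467) (tt N28230 (iv F272270)) (tt N26345 (iv D60346)) (tt N26574 F269468) (tt N28210 (iv F272148)) (tt N26563 F269469) (tt N26613 F269470) (tt N26577 F269471))
theorem Q27578 : ∀ i, i < 27578 → P i := stepQ 27577 Q27577 (allL N27577 (tt N26347 (iv D60347)) (tt N28253 (iv F272400)) (tt N26355 F269472) (tt N26585 F269473) (tt N26575 F269474) (tt N28731 (iv F274439)) (tt N26534 F269475) (tt N28242 (iv F272342)) (tt N26614 F269476) (tt N27939 (iv F270533)))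
theorem Q27579 : ∀ i, i < 27579 → P i := stepQ 27578 Q27578 (allL N27578 (tt N28733 D61503) (tt N26348 (iv D60348)) (tt N26612 F269477) (tt N26500 F269478) (tt N28734 D61504) (tt N26350 F269479) (tt N26642 F269480) (tt N26566 F269481) (tt N26353 F269482) (tt N28059 (iv F271284)))
theorem Q27580 : ∀ i, i < 27580 → P i := stepQ 27579 Q27579 (allL N27579 (tt N26705 F269483) (tt N28734 (iv F274456)) (tt N26349 F269484) (tt N28735 D61505) (tt N26348 (iv D60349)) (tt N26461 F269485) (tt N26643 F269486) (tt N26567 F269487) (tt N26354 F269488) (tt N28060 (iv F271291)))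
theorem Q27581 : ∀ i, i < 27581 → P i := stepQ 27580 Q27580 (allL N27580 (tt N26350 (iv D60350)) (tt N26721 F269489) (tt N26614 F269490) (tt N26505 F269491) (tt N26462 F269492) (tt N28733 (iv F274452)) (tt N26363 F269493) (tt N27996 (iv F270899)) (tt N26355 F269494) (tt N28061 (iv F271298)))
theorem Q27582 : ∀ i, i < 27582 → P i := stepQ 27581 Q27581 (allL N27581 (tt N28736 D61506) (tt N26351 (iv D60351)) (tt N28209 (iv F272137)) (tt N26356 F269495) (tt N28737 D61507) (tt N26557 F269496) (tt N26353 F269497) (tt N28229 (iv F272265)) (tt N26642 F269498) (tt N26571 F269499))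
theorem Q27583 : ∀ i, i < 27583 → P i := stepQ 27582 Q27582 (allL N27582 (tt N26574 F269500) (tt N28737 (iv F274474)) (tt N26352 F269501) (tt N26563 F269502) (tt N26351 (iv D60352)) (tt N28238 (iv F272319)) (tt N26354 F269503) (tt N28230 (iv F272273)) (tt N26643 F269504) (tt N26572 F269505))
theorem Q27584 : ∀ i, i < 27584 → P i := stepQ 27583 Q27583 (allL N27583 (tt N26353 (iv D60353)) (tt N27941 (iv F270543)) (tt N28731 (iv F274437)) (tt N26357 F269506) (tt N28738 D61508) (tt N26355 F269507) (tt N28736 (iv F274471)) (tt N26568 F269508) (tt N28733 (iv F274455)) (tt N26578 F269509))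
theorem Q27585 : ∀ i, i < 27585 → P i := stepQ 27584 Q27584 (allL N27584 (tt N28738 (iv F274479)) (tt N26354 F269510) (tt N28732 (iv F274444)) (tt N28348 (iv F272891)) (tt N26353 (iv D60354)) (tt N28362 (iv F272941)) (tt N28737 (iv F274476)) (tt N26569 F269511) (tt N28734 (iv F274461)) (tt N26579 F269512))
theorem Q27586 : ∀ i, i < 27586 → P i := stepQ 27585 Q27585 (allL N27585 (tt N26356 (iv D60355)) (tt N28205 (iv F272108)) (tt N26598 F269513) (tt N28736 (iv F274469)) (tt N27939 (iv F270528)) (tt N27944 (iv F270569)) (tt N26357 F269514) (tt N28335 (iv F272821)) (tt N26517 F269515) (tt N26575 F269516))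
theorem Q27587 : ∀ i, i < 27587 → P i := stepQ 27586 Q27586 (allL N27586 (tt N28739 D61509) (tt N26358 (iv D60356)) (tt N27997 (iv F270901)) (tt N26360 F269517) (tt N28740 D61510) (tt N26637 F269518) (tt N27962 (iv F270690)) (tt N26373 F269519) (tt N28697 (iv F274326)) (tt N26392 F269520))
theorem Q27588 : ∀ i, i < 27588 → P i := stepQ 27587 Q27587 (allL N27587 (tt N26438 F269521) (tt N28740 (iv F274487)) (tt N26359 F269522) (tt N26424 F269523) (tt N26358 (iv D60357)) (tt N28510 (iv F273603)) (tt N27963 (iv F270696)) (tt N26374 F269524) (tt N28698 (iv F274330)) (tt N26393 F269525))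
theorem Q27589 : ∀ i, i < 27589 → P i := stepQ 27588 Q27588 (allL N27588 (tt N26360 (iv D60358)) (tt N26439 F269526) (tt N26603 F269527) (tt N28739 (iv F274483)) (tt N26425 F269528) (tt N26639 F269529) (tt N27968 (iv F270723)) (tt N26375 F269530) (tt N26362 F269531) (tt N26397 F269532))
theorem Q27590 : ∀ i, i < 27590 → P i := stepQ 27589 Q27589 (allL N27589 (tt N26361 (iv D60359)) (tt N26425 F269533) (tt N26605 F269534) (tt N28187 (iv F272009)) (tt N26439 F269535) (tt N26640 F269536) (tt N28061 (iv F271296)) (tt N26362 F269537) (tt N26375 F269538) (tt N26363 F269539))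
theorem Q27591 : ∀ i, i < 27591 → P i := stepQ 27590 Q27590 (allL N27590 (tt N28741 D61511) (tt N26364 (iv D60360)) (tt N26722 F269540) (tt N26453 F269541) (tt N28186 (iv F272005)) (tt N26647 F269542) (tt N26450 F269543) (tt N28177 (iv F271948)) (tt N28162 (iv F271865)) (tt N26510 F269544))
theorem Q27592 : ∀ i, i < 27592 → P i := stepQ 27591 Q27591 (allL N27591 (tt N26365 (iv D60361)) (tt N28741 (iv F274491)) (tt N26367 F269545) (tt N26631 F269546) (tt N28742 D61512) (tt N26649 F269547) (tt N28014 (iv F271005)) (tt N28182 (iv F271982)) (tt N28164 (iv F271879)) (tt N28432 (iv F273227)))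
theorem Q27593 : ∀ i, i < 27593 → P i := stepQ 27592 Q27592 (allL N27592 (tt N28742 (iv F274497)) (tt N26366 F269548) (tt N26368 F269549) (tt N28058 (iv F271272)) (tt N26365 (iv D60362)) (tt N28179 (iv F271960)) (tt N28015 (iv F271011)) (tt N28183 (iv F271988)) (tt N28165 (iv F271883)) (tt N28433 (iv F273234)))
theorem Q27594 : ∀ i, i < 27594 → P i := stepQ 27593 Q27593 (allL N27593 (tt N26368 F269550) (tt N26744 F269551) (tt N28742 (iv F274498)) (tt N26514 F269552) (tt N26367 (iv D60363)) (tt N28602 (iv F273967)) (tt N28032 (iv F271109)) (tt N28189 (iv F272024)) (tt N28167 (iv F271895)) (tt N28705 (iv F274354)))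
theorem Q27595 : ∀ i, i < 27595 → P i := stepQ 27594 Q27594 (allL N27594 (tt N26369 (iv D60364)) (tt N26625 F269553) (tt N26397 F269554) (tt N28448 (iv F273300)) (tt N26481 F269555) (tt N26602 F269556) (tt N28227 (iv F272253)) (tt N26370 F269557) (tt N26533 F269558) (tt N26603 F269559))
theorem Q27596 : ∀ i, i < 27596 → P i := stepQ 27595 Q27595 (allL N27595 (tt N28743 D61513) (tt N26371 (iv D60365)) (tt N28018 (iv F271029)) (tt N28136 (iv F271720)) (tt N28744 D61514) (tt N28012 (iv F270990)) (tt N28063 (iv F271308)) (tt N28697 (iv F274325)) (tt N26373 F269560) (tt N28100 (iv F271535)))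
theorem Q27597 : ∀ i, i < 27597 → P i := stepQ 27596 Q27596 (allL N27596 (tt N26449 F269561) (tt N28744 (iv F274501)) (tt N26372 F269562) (tt N28745 D61515) (tt N26371 (iv D60366)) (tt N28527 (iv F273674)) (tt N28064 (iv F271315)) (tt N28698 (iv F274329)) (tt N26374 F269563) (tt N28101 (iv F271540)))
theorem Q27598 : ∀ i, i < 27598 → P i := stepQ 27597 Q27597 (allL N27597 (tt N26373 (iv D60367)) (tt N26451 F269564) (tt N28028 (iv F271085)) (tt N26375 F269565) (tt N28746 D61516) (tt N28014 (iv F271004)) (tt N28065 (iv F271323)) (tt N28739 (iv F274485)) (tt N28743 (iv F274500)) (tt N26410 F269566))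
theorem Q27599 : ∀ i, i < 27599 → P i := stepQ 27598 Q27598 (allL N27598 (tt N28746 (iv F274506)) (tt N26374 F269567) (tt N28029 (iv F271091)) (tt N26698 F269568) (tt N26373 (iv D60368)) (tt N28526 (iv F273669)) (tt N28066 (iv F271330)) (tt N28740 (iv F274489)) (tt N28744 (iv F274502)) (tt N26411 F269569))
theorem Q27600 : ∀ i, i < 27600 → P i := stepQ 27599 Q27599 (allL N27599 (tt N26654 F269570) (tt N28747 D61517) (tt N26376 (iv D60369)) (tt N27976 (iv F270775)) (tt N28748 D61518) (tt N28320 (iv F272763)) (tt N26384 F269571) (tt N26719 F269572) (tt N26652 F269573) (tt N27954 (iv F270640)))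
theorem Q27601 : ∀ i, i < 27601 → P i := stepQ 27600 Q27600 (allL N27600 (tt N26655 F269574) (tt N26379 F269575) (tt N28748 (iv F274515)) (tt N26377 F269576) (tt N26376 (iv D60370)) (tt N28724 (iv F274415)) (tt N26385 F269577) (tt N26716 F269578) (tt N26653 F269579) (tt N27955 (iv F270647)))
theorem Q27602 : ∀ i, i < 27602 → P i := stepQ 27601 Q27601 (allL N27601 (tt N28749 D61519) (tt N26378 (iv D60371)) (tt N28747 (iv F274510)) (tt N26383 F269580) (tt N28750 D61520) (tt N28675 (iv F274251)) (tt N26392 F269581) (tt N26731 F269582) (tt N26740 F269583) (tt N27962 (iv F270692)))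
theorem Q27603 : ∀ i, i < 27603 → P i := stepQ 27602 Q27602 (allL N27602 (tt N26458 F269584) (tt N28750 (iv F274524)) (tt N26379 F269585) (tt N26406 F269586) (tt N26378 (iv D60372)) (tt N28751 D61521) (tt N26393 F269587) (tt N26732 F269588) (tt N26738 F269589) (tt N27963 (iv F270698)))
theorem Q27604 : ∀ i, i < 27604 → P i := stepQ 27603 Q27603 (allL N27603 (tt N26459 F269590) (tt N28724 (iv F274413)) (tt N28751 (iv F274530)) (tt N26380 F269591) (tt N28677 (iv F274260)) (tt N26379 (iv D60373)) (tt N28729 (iv F274433)) (tt N26733 F269592) (tt N26741 F269593) (tt N27964 (iv F270702)))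
theorem Q27605 : ∀ i, i < 27605 → P i := stepQ 27604 Q27604 (allL N27604 (tt N28752 D61522) (tt N26381 (iv D60374)) (tt N28225 (iv F272239)) (tt N28675 (iv F274250)) (tt N28753 D61523) (tt N26383 F269594) (tt N28270 (iv F272508)) (tt N28069 (iv F271350)) (tt N27927 (iv F270442)) (tt N27966 (iv F270713)))
theorem Q27606 : ∀ i, i < 27606 → P i := stepQ 27605 Q27605 (allL N27605 (tt N26461 F269595) (tt N28753 (iv F274536)) (tt N26382 F269596) (tt N28754 D61524) (tt N26381 (iv D60375)) (tt N26705 F269597) (tt N28271 (iv F272514)) (tt N28070 (iv F271356)) (tt N27928 (iv F270450)) (tt N27967 (iv F270719)))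
theorem Q27607 : ∀ i, i < 27607 → P i := stepQ 27606 Q27606 (allL N27606 (tt N26383 (iv D60376)) (tt N26462 F269598) (tt N28227 (iv F272251)) (tt N28749 (iv F274520)) (tt N26721 F269599) (tt N28752 (iv F274535)) (tt N26397 F269600) (tt N28071 (iv F271362)) (tt N27929 (iv F270458)) (tt N27968 (iv F270725)))
theorem Q27608 : ∀ i, i < 27608 → P i := stepQ 27607 Q27607 (allL N27607 (tt N28755 D61525) (tt N26384 (iv D60377)) (tt N26392 F269601) (tt N27978 (iv F270789)) (tt N28756 D61526) (tt N27972 (iv F270750)) (tt N28747 (iv F274511)) (tt N26400 F269602) (tt N28542 (iv F273728)) (tt N27997 (iv F270906)))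
theorem Q27609 : ∀ i, i < 27609 → P i := stepQ 27608 Q27608 (allL N27608 (tt N28203 (iv F272092)) (tt N28756 (iv F274543)) (tt N26385 F269603) (tt N28723 (iv F274409)) (tt N26384 (iv D60378)) (tt N28757 D61527) (tt N28748 (iv F274516)) (tt N26401 F269604) (tt N28543 (iv F273733)) (tt N27998 (iv F270911)))
theorem Q27610 : ∀ i, i < 27610 → P i := stepQ 27609 Q27609 (allL N27609 (tt N26658 F269605) (tt N26394 F269606) (tt N28757 (iv F274547)) (tt N26386 F269607) (tt N27974 (iv F270763)) (tt N26385 (iv D60379)) (tt N28545 (iv F273741)) (tt N26402 F269608) (tt N28544 (iv F273738)) (tt N27999 (iv F270918)))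
theorem Q27611 : ∀ i, i < 27611 → P i := stepQ 27610 Q27610 (allL N27610 (tt N26468 F269609) (tt N28758 D61528) (tt N26387 (iv D60380)) (tt N26552 F269610) (tt N28759 D61529) (tt N26388 F269611) (tt N28262 (iv F272457)) (tt N26403 F269612) (tt N26390 F269613) (tt N28083 (iv F271447)))
theorem Q27612 : ∀ i, i < 27612 → P i := stepQ 27611 Q27611 (allL N27611 (tt N26469 F269614) (tt N27971 (iv F270742)) (tt N28759 (iv F274555)) (tt N27611 F269615) (tt N26387 (iv D60381)) (tt N28496 (iv F273533)) (tt N28263 (iv F272464)) (tt N26404 F269616) (tt N26391 F269617) (tt N28084 (iv F271454)))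
theorem Q27613 : ∀ i, i < 27613 → P i := stepQ 27612 Q27612 (allL N27612 (tt N28760 D61530) (tt N26388 (iv D60382)) (tt N28542 (iv F273725)) (tt N26720 F269618) (tt N28761 D61531) (tt N28758 (iv F274551)) (tt N26740 F269619) (tt N26405 F269620) (tt N26392 F269621) (tt N28085 (iv F271458)))
theorem Q27614 : ∀ i, i < 27614 → P i := stepQ 27613 Q27613 (allL N27613 (tt N26473 F269622) (tt N28761 (iv F274563)) (tt N26389 F269623) (tt N26732 F269624) (tt N26388 (iv D60383)) (tt N28762 D61532) (tt N26738 F269625) (tt N26406 F269626) (tt N26393 F269627) (tt N28086 (iv F271464)))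
theorem Q27615 : ∀ i, i < 27615 → P i := stepQ 27614 Q27614 (allL N27614 (tt N26474 F269628) (tt N28544 (iv F273735)) (tt N28762 (iv F274569)) (tt N26414 F269629) (tt N28496 (iv F273532)) (tt N26389 (iv D60384)) (tt N28763 D61533) (tt N26407 F269630) (tt N26394 F269631) (tt N28087 (iv F271468)))
theorem Q27616 : ∀ i, i < 27616 → P i := stepQ 27615 Q27615 (allL N27615 (tt N28764 D61534) (tt N26390 (iv D60385)) (tt N27972 (iv F270748)) (tt N26396 F269632) (tt N28765 D61535) (tt N26392 F269633) (tt N28266 (iv F272484)) (tt N26408 F269634) (tt N28758 (iv F274553)) (tt N26637 F269635))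
theorem Q27617 : ∀ i, i < 27617 → P i := stepQ 27616 Q27616 (allL N27616 (tt N26476 F269636) (tt N28765 (iv F274582)) (tt N26391 F269637) (tt N26622 F269638) (tt N26390 (iv D60386)) (tt N28491 (iv F273511)) (tt N28267 (iv F272490)) (tt N26409 F269639) (tt N28759 (iv F274557)) (tt N26638 F269640))
theorem Q27618 : ∀ i, i < 27618 → P i := stepQ 27617 Q27617 (allL N27617 (tt N26392 (iv D60387)) (tt N26477 F269641) (tt N28755 (iv F274541)) (tt N26397 F269642) (tt N28766 D61536) (tt N28764 (iv F274579)) (tt N28749 (iv F274521)) (tt N26410 F269643) (tt N28760 (iv F274562)) (tt N28739 (iv F274486)))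
theorem Q27619 : ∀ i, i < 27619 → P i := stepQ 27618 Q27618 (allL N27618 (tt N28766 (iv F274586)) (tt N26393 F269644) (tt N28756 (iv F274544)) (tt N26714 F269645) (tt N26392 (iv D60388)) (tt N28767 D61537) (tt N28750 (iv F274526)) (tt N26411 F269646) (tt N28761 (iv F274567)) (tt N28740 (iv F274490)))
theorem Q27620 : ∀ i, i < 27620 → P i := stepQ 27619 Q27619 (allL N27619 (tt N26479 F269647) (tt N28767 (iv F274590)) (tt N26394 F269648) (tt N26715 F269649) (tt N28491 (iv F273510)) (tt N26393 (iv D60389)) (tt N28768 D61538) (tt N26412 F269650) (tt N28762 (iv F274572)) (tt N28510 (iv F273605)))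
theorem Q27621 : ∀ i, i < 27621 → P i := stepQ 27620 Q27620 (allL N27620 (tt N26480 F269651) (tt N28545 (iv F273740)) (tt N28768 (iv F274594)) (tt N26395 F269652) (tt N28495 (iv F273527)) (tt N28729 (iv F274432)) (tt N26394 (iv D60390)) (tt N28720 (iv F274402)) (tt N28763 (iv F274576)) (tt N28531 (iv F273683)))
theorem Q27622 : ∀ i, i < 27622 → P i := stepQ 27621 Q27621 (allL N27621 (tt N26396 (iv D60391)) (tt N26481 F269653) (tt N26602 F269654) (tt N28764 (iv F274578)) (tt N26625 F269655) (tt N26397 F269656) (tt N28272 (iv F272520)) (tt N26413 F269657) (tt N26556 F269658) (tt N26639 F269659))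
theorem Q27623 : ∀ i, i < 27623 → P i := stepQ 27622 Q27622 (allL N27622 (tt N28769 D61539) (tt N26398 (iv D60392)) (tt N26405 F269660) (tt N28314 (iv F272735)) (tt N28770 D61540) (tt N27983 (iv F270818)) (tt N26709 F269661) (tt N28542 (iv F273727)) (tt N26400 F269662) (tt N28096 (iv F271521)))
theorem Q27624 : ∀ i, i < 27624 → P i := stepQ 27623 Q27623 (allL N27623 (tt N28169 (iv F271900)) (tt N28770 (iv F274599)) (tt N26399 F269663) (tt N28771 D61541) (tt N26398 (iv D60393)) (tt N28772 D61542) (tt N26710 F269664) (tt N28543 (iv F273732)) (tt N26401 F269665) (tt N28097 (iv F271524)))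
theorem Q27625 : ∀ i, i < 27625 → P i := stepQ 27624 Q27624 (allL N27624 (tt N28027 (iv F271077)) (tt N26407 F269666) (tt N28772 (iv F274605)) (tt N26417 F269667) (tt N27985 (iv F270828)) (tt N26399 (iv D60394)) (tt N26733 F269668) (tt N28544 (iv F273737)) (tt N26402 F269669) (tt N28098 (iv F271528)))
theorem Q27626 : ∀ i, i < 27626 → P i := stepQ 27625 Q27625 (allL N27625 (tt N26400 (iv D60395)) (tt N28601 (iv F273959)) (tt N26410 F269670) (tt N27989 (iv F270850)) (tt N28773 D61543) (tt N27986 (iv F270834)) (tt N26746 F269671) (tt N28755 (iv F274542)) (tt N28769 (iv F274598)) (tt N28028 (iv F271089)))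
theorem Q27627 : ∀ i, i < 27627 → P i := stepQ 27626 Q27626 (allL N27626 (tt N28773 (iv F274608)) (tt N26401 F269672) (tt N26411 F269673) (tt N28726 (iv F274421)) (tt N26400 (iv D60396)) (tt N28774 D61544) (tt N26745 F269674) (tt N28756 (iv F274545)) (tt N28770 (iv F274602)) (tt N28029 (iv F271093)))
theorem Q27628 : ∀ i, i < 27628 → P i := stepQ 27627 Q27627 (allL N27627 (tt N28034 (iv F271113)) (tt N28774 (iv F274611)) (tt N26402 F269675) (tt N26725 F269676) (tt N27988 (iv F270845)) (tt N26401 (iv D60397)) (tt N26728 F269677) (tt N28757 (iv F274549)) (tt N28772 (iv F274607)) (tt N28031 (iv F271105)))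
theorem Q27629 : ∀ i, i < 27629 → P i := stepQ 27628 Q27628 (allL N27628 (tt N28775 D61545) (tt N26403 (iv D60398)) (tt N27983 (iv F270817)) (tt N26704 F269678) (tt N28776 D61546) (tt N26405 F269679) (tt N26701 F269680) (tt N28758 (iv F274552)) (tt N26408 F269681) (tt N28103 (iv F271549)))
theorem Q27630 : ∀ i, i < 27630 → P i := stepQ 27629 Q27629 (allL N27629 (tt N26501 F269682) (tt N28776 (iv F274620)) (tt N26404 F269683) (tt N28777 D61547) (tt N26403 (iv D60399)) (tt N28494 (iv F273525)) (tt N26702 F269684) (tt N28759 (iv F274556)) (tt N26409 F269685) (tt N28104 (iv F271553)))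
theorem Q27631 : ∀ i, i < 27631 → P i := stepQ 27630 Q27630 (allL N27630 (tt N26405 (iv D60400)) (tt N26505 F269686) (tt N28769 (iv F274596)) (tt N26721 F269687) (tt N28778 D61548) (tt N28775 (iv F274617)) (tt N26713 F269688) (tt N28760 (iv F274561)) (tt N26410 F269689) (tt N28106 (iv F271562)))
theorem Q27632 : ∀ i, i < 27632 → P i := stepQ 27631 Q27631 (allL N27631 (tt N28778 (iv F274628)) (tt N26406 F269690) (tt N28770 (iv F274600)) (tt N28750 (iv F274525)) (tt N26405 (iv D60401)) (tt N28779 D61549) (tt N26714 F269691) (tt N28761 (iv F274566)) (tt N26411 F269692) (tt N28107 (iv F271565)))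
theorem Q27633 : ∀ i, i < 27633 → P i := stepQ 27632 Q27632 (allL N27632 (tt N26507 F269693) (tt N28779 (iv F274632)) (tt N26407 F269694) (tt N28751 (iv F274531)) (tt N28494 (iv F273524)) (tt N26406 (iv D60402)) (tt N28727 (iv F274427)) (tt N28762 (iv F274571)) (tt N26412 F269695) (tt N28108 (iv F271568)))
theorem Q27634 : ∀ i, i < 27634 → P i := stepQ 27633 Q27633 (allL N27633 (tt N26408 (iv D60403)) (tt N26512 F269696) (tt N27986 (iv F270832)) (tt N26413 F269697) (tt N28780 D61550) (tt N26410 F269698) (tt N28432 (iv F273225)) (tt N28764 (iv F274580)) (tt N28775 (iv F274619)) (tt N28014 (iv F271007)))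
theorem Q27635 : ∀ i, i < 27635 → P i := stepQ 27634 Q27634 (allL N27634 (tt N28780 (iv F274634)) (tt N26409 F269699) (tt N27987 (iv F270838)) (tt N26636 F269700) (tt N26408 (iv D60404)) (tt N28493 (iv F273520)) (tt N28433 (iv F273232)) (tt N28765 (iv F274584)) (tt N28776 (iv F274622)) (tt N28015 (iv F271013)))
theorem Q27636 : ∀ i, i < 27636 → P i := stepQ 27635 Q27635 (allL N27635 (tt N26411 F269701) (tt N26514 F269702) (tt N28773 (iv F274609)) (tt N26744 F269703) (tt N26410 (iv D60405)) (tt N28781 D61551) (tt N28072 (iv F271369)) (tt N28766 (iv F274589)) (tt N28778 (iv F274631)) (tt N28746 (iv F274509)))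
theorem Q27637 : ∀ i, i < 27637 → P i := stepQ 27636 Q27636 (allL N27636 (tt N28781 (iv F274637)) (tt N26412 F269704) (tt N28774 (iv F274612)) (tt N26745 F269705) (tt N28493 (iv F273519)) (tt N26411 (iv D60406)) (tt N28726 (iv F274423)) (tt N28767 (iv F274592)) (tt N28779 (iv F274633)) (tt N28526 (iv F273670)))
theorem Q27638 : ∀ i, i < 27638 → P i := stepQ 27637 Q27637 (allL N27637 (tt N26520 F269706) (tt N28547 (iv F273751)) (tt N26417 F269707) (tt N28763 (iv F274574)) (tt N27637 F269708) (tt N26416 F269709) (tt N26414 (iv D60407)) (tt N28546 (iv F273748)) (tt N26415 F269710) (tt N28088 (iv F271474)))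
theorem Q27639 : ∀ i, i < 27639 → P i := stepQ 27638 Q27638 (allL N27638 (tt N28003 (iv F270936)) (tt N28720 (iv F274400)) (tt N28771 (iv F274603)) (tt N26416 (iv D60408)) (tt N28317 (iv F272744)) (tt N28763 (iv F274575)) (tt N26741 F269711) (tt N28545 (iv F273742)) (tt N28729 (iv F274434)) (tt N28099 (iv F271531)))
theorem Q27640 : ∀ i, i < 27640 → P i := stepQ 27639 Q27639 (allL N27639 (tt N28782 D61552) (tt N26418 (iv D60409)) (tt N26423 F269712) (tt N26656 F269713) (tt N28783 D61553) (tt N26671 F269714) (tt N28096 (iv F271520)) (tt N26680 F269715) (tt N28519 (iv F273639)) (tt N26709 F269716))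
theorem Q27641 : ∀ i, i < 27641 → P i := stepQ 27640 Q27640 (allL N27640 (tt N28124 (iv F271648)) (tt N28783 (iv F274645)) (tt N26419 F269717) (tt N28784 D61554) (tt N26418 (iv D60410)) (tt N26735 F269718) (tt N28097 (iv F271523)) (tt N26681 F269719) (tt N28520 (iv F273645)) (tt N26710 F269720))
theorem Q27642 : ∀ i, i < 27642 → P i := stepQ 27641 Q27641 (allL N27641 (tt N27974 (iv F270760)) (tt N28038 (iv F271134)) (tt N28784 (iv F274650)) (tt N26420 (iv D60411)) (tt N26658 F269721) (tt N26693 F269722) (tt N28099 (iv F271530)) (tt N26696 F269723) (tt N28551 (iv F273775)) (tt N26741 F269724))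
theorem Q27643 : ∀ i, i < 27643 → P i := stepQ 27642 Q27642 (allL N27642 (tt N28785 D61555) (tt N26421 (iv D60412)) (tt N28519 (iv F273636)) (tt N26448 F269725) (tt N28786 D61556) (tt N26672 F269726) (tt N28100 (iv F271533)) (tt N26688 F269727) (tt N26423 F269728) (tt N28063 (iv F271311)))
theorem Q27644 : ∀ i, i < 27644 → P i := stepQ 27643 Q27643 (allL N27643 (tt N28137 (iv F271726)) (tt N28786 (iv F274659)) (tt N26422 F269729) (tt N28787 D61557) (tt N26421 (iv D60413)) (tt N28504 (iv F273571)) (tt N28101 (iv F271538)) (tt N26689 F269730) (tt N26424 F269731) (tt N28064 (iv F271318)))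
theorem Q27645 : ∀ i, i < 27645 → P i := stepQ 27644 Q27644 (allL N27644 (tt N26423 (iv D60414)) (tt N28187 (iv F272008)) (tt N28782 (iv F274640)) (tt N26425 F269732) (tt N28788 D61558) (tt N26673 F269733) (tt N28106 (iv F271561)) (tt N26697 F269734) (tt N28785 (iv F274658)) (tt N26713 F269735))
theorem Q27646 : ∀ i, i < 27646 → P i := stepQ 27645 Q27645 (allL N27645 (tt N28788 (iv F274665)) (tt N26424 F269736) (tt N28783 (iv F274646)) (tt N28740 (iv F274488)) (tt N26423 (iv D60415)) (tt N28509 (iv F273597)) (tt N28107 (iv F271564)) (tt N26698 F269737) (tt N28786 (iv F274661)) (tt N26714 F269738))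
theorem Q27647 : ∀ i, i < 27647 → P i := stepQ 27646 Q27646 (allL N27646 (tt N27958 (iv F270661)) (tt N28789 D61559) (tt N26426 (iv D60416)) (tt N26684 F269739) (tt N28790 D61560) (tt N28078 (iv F271409)) (tt N26435 F269740) (tt N27981 (iv F270807)) (tt N26427 F269741) (tt N27970 (iv F270740)))
theorem Q27648 : ∀ i, i < 27648 → P i := stepQ 27647 Q27647 (allL N27647 (tt N27959 (iv F270668)) (tt N28084 (iv F271449)) (tt N28790 (iv F274671)) (tt N27647 F269742) (tt N26426 (iv D60417)) (tt N28791 D61561) (tt N26436 F269743) (tt N27982 (iv F270814)) (tt N26428 F269744) (tt N27971 (iv F270747)))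
theorem Q27649 : ∀ i, i < 27649 → P i := stepQ 27648 Q27648 (allL N27648 (tt N28792 D61562) (tt N26427 (iv D60418)) (tt N28694 (iv F274310)) (tt N26430 F269745) (tt N28793 D61563) (tt N28562 (iv F273818)) (tt N26437 F269746) (tt N28021 (iv F271049)) (tt N28789 (iv F274670)) (tt N26457 F269747))
theorem Q27650 : ∀ i, i < 27650 → P i := stepQ 27649 Q27649 (allL N27649 (tt N27963 (iv F270693)) (tt N28793 (iv F274679)) (tt N26428 F269748) (tt N26503 F269749) (tt N26427 (iv D60419)) (tt N28794 D61564) (tt N26438 F269750) (tt N28022 (iv F271055)) (tt N28790 (iv F274673)) (tt N26458 F269751))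
theorem Q27651 : ∀ i, i < 27651 → P i := stepQ 27650 Q27650 (allL N27650 (tt N27964 (iv F270699)) (tt N28429 (iv F273206)) (tt N28794 (iv F274683)) (tt N26429 F269752) (tt N28564 (iv F273825)) (tt N26428 (iv D60420)) (tt N28717 (iv F274389)) (tt N28023 (iv F271060)) (tt N28791 (iv F274675)) (tt N26459 F269753))
theorem Q27652 : ∀ i, i < 27652 → P i := stepQ 27651 Q27651 (allL N27651 (tt N26430 (iv D60421)) (tt N27968 (iv F270720)) (tt N26670 F269754) (tt N28792 (iv F274676)) (tt N28061 (iv F271295)) (tt N28573 (iv F273843)) (tt N26439 F269755) (tt N28117 (iv F271613)) (tt N26700 F269756) (tt N26462 F269757))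
theorem Q27653 : ∀ i, i < 27653 → P i := stepQ 27652 Q27652 (allL N27652 (tt N28320 (iv F272761)) (tt N28795 D61565) (tt N26431 (iv D60422)) (tt N28089 (iv F271476)) (tt N28796 D61566) (tt N26654 F269758) (tt N28083 (iv F271444)) (tt N26440 F269759) (tt N26432 F269760) (tt N28262 (iv F272460)))
theorem Q27654 : ∀ i, i < 27654 → P i := stepQ 27653 Q27653 (allL N27653 (tt N28152 (iv F271804)) (tt N26436 F269761) (tt N28796 (iv F274690)) (tt N27653 F269762) (tt N26431 (iv D60423)) (tt N28618 (iv F274038)) (tt N28084 (iv F271451)) (tt N26441 F269763) (tt N26433 F269764) (tt N28263 (iv F272467)))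
theorem Q27655 : ∀ i, i < 27655 → P i := stepQ 27654 Q27654 (allL N27654 (tt N28797 D61567) (tt N26432 (iv D60424)) (tt N26437 F269765) (tt N26671 F269766) (tt N28798 D61568) (tt N26656 F269767) (tt N28694 (iv F274311)) (tt N26443 F269768) (tt N28795 (iv F274689)) (tt N26465 F269769))
theorem Q27656 : ∀ i, i < 27656 → P i := stepQ 27655 Q27655 (allL N27655 (tt N28130 (iv F271680)) (tt N28798 (iv F274698)) (tt N26433 F269770) (tt N26589 F269771) (tt N26432 (iv D60425)) (tt N28605 (iv F273979)) (tt N28406 (iv F273134)) (tt N26444 F269772) (tt N28796 (iv F274692)) (tt N26466 F269773))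
theorem Q27657 : ∀ i, i < 27657 → P i := stepQ 27656 Q27656 (allL N27656 (tt N28081 (iv F271427)) (tt N28799 D61569) (tt N26434 (iv D60426)) (tt N26686 F269774) (tt N28800 D61570) (tt N26659 F269775) (tt N27970 (iv F270737)) (tt N26446 F269776) (tt N26470 F269777) (tt N26435 F269778))
theorem Q27658 : ∀ i, i < 27658 → P i := stepQ 27657 Q27657 (allL N27657 (tt N28082 (iv F271434)) (tt N28263 (iv F272462)) (tt N28800 (iv F274708)) (tt N27657 F269779) (tt N26434 (iv D60427)) (tt N28719 (iv F274396)) (tt N27971 (iv F270744)) (tt N26447 F269780) (tt N26471 F269781) (tt N26436 F269782))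
theorem Q27659 : ∀ i, i < 27659 → P i := stepQ 27658 Q27658 (allL N27658 (tt N28801 D61571) (tt N26435 (iv D60428)) (tt N28795 (iv F274686)) (tt N26688 F269783) (tt N28802 D61572) (tt N26661 F269784) (tt N28789 (iv F274669)) (tt N26448 F269785) (tt N26437 F269786) (tt N28799 (iv F274707)))
theorem Q27660 : ∀ i, i < 27660 → P i := stepQ 27659 Q27659 (allL N27659 (tt N28698 (iv F274327)) (tt N28802 (iv F274716)) (tt N26436 F269787) (tt N28803 D61573) (tt N26435 (iv D60429)) (tt N28657 (iv F274198)) (tt N28790 (iv F274672)) (tt N26449 F269788) (tt N26438 F269789) (tt N28800 (iv F274711)))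
theorem Q27661 : ∀ i, i < 27661 → P i := stepQ 27660 Q27660 (allL N27660 (tt N26437 (iv D60430)) (tt N28739 (iv F274482)) (tt N28797 (iv F274693)) (tt N26439 F269790) (tt N28804 D61574) (tt N26663 F269791) (tt N28792 (iv F274677)) (tt N26451 F269792) (tt N28801 (iv F274715)) (tt N26477 F269793))
theorem Q27662 : ∀ i, i < 27662 → P i := stepQ 27661 Q27661 (allL N27661 (tt N28804 (iv F274722)) (tt N26438 F269794) (tt N28798 (iv F274699)) (tt N28188 (iv F272015)) (tt N26437 (iv D60431)) (tt N28656 (iv F274193)) (tt N28793 (iv F274681)) (tt N26452 F269795) (tt N28802 (iv F274718)) (tt N26478 F269796))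
theorem Q27663 : ∀ i, i < 27663 → P i := stepQ 27662 Q27662 (allL N27662 (tt N28805 D61575) (tt N26440 (iv D60432)) (tt N26448 F269797) (tt N28580 (iv F273868)) (tt N28806 D61576) (tt N28586 (iv F273894)) (tt N28131 (iv F271689)) (tt N28795 (iv F274688)) (tt N26443 F269798) (tt N28624 (iv F274073)))
theorem Q27664 : ∀ i, i < 27664 → P i := stepQ 27663 Q27663 (allL N27663 (tt N28151 (iv F271800)) (tt N28806 (iv F274727)) (tt N26441 F269799) (tt N28807 D61577) (tt N26440 (iv D60433)) (tt N28608 (iv F273993)) (tt N28132 (iv F271696)) (tt N28796 (iv F274691)) (tt N26444 F269800) (tt N28625 (iv F274077)))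
theorem Q27665 : ∀ i, i < 27665 → P i := stepQ 27664 Q27664 (allL N27664 (tt N28808 D61578) (tt N26442 (iv D60434)) (tt N26450 F269801) (tt N26680 F269802) (tt N28195 (iv F272061)) (tt N26443 F269803) (tt N26722 F269804) (tt N26656 F269805) (tt N28586 (iv F273897)) (tt N26492 F269806))
theorem Q27666 : ∀ i, i < 27666 → P i := stepQ 27665 Q27665 (allL N27665 (tt N26443 (iv D60435)) (tt N28673 (iv F274242)) (tt N26451 F269807) (tt N26682 F269808) (tt N28809 D61579) (tt N28808 (iv F274734)) (tt N28133 (iv F271704)) (tt N28797 (iv F274696)) (tt N28805 (iv F274726)) (tt N26494 F269809))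
theorem Q27667 : ∀ i, i < 27667 → P i := stepQ 27666 Q27666 (allL N27666 (tt N28809 (iv F274738)) (tt N26444 F269810) (tt N26452 F269811) (tt N28068 (iv F271342)) (tt N26443 (iv D60436)) (tt N28607 (iv F273988)) (tt N28134 (iv F271710)) (tt N28798 (iv F274701)) (tt N28806 (iv F274729)) (tt N26495 F269812))
theorem Q27668 : ∀ i, i < 27668 → P i := stepQ 27667 Q27667 (allL N27667 (tt N28810 D61580) (tt N26445 (iv D60437)) (tt N28586 (iv F273892)) (tt N26672 F269813) (tt N28460 (iv F273358)) (tt N26448 F269814) (tt N28162 (iv F271863)) (tt N26661 F269815) (tt N26450 F269816) (tt N28517 (iv F273629)))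
theorem Q27669 : ∀ i, i < 27669 → P i := stepQ 27668 Q27668 (allL N27668 (tt N28811 D61581) (tt N26446 (iv D60438)) (tt N28624 (iv F274068)) (tt N28063 (iv F271306)) (tt N28812 D61582) (tt N28517 (iv F273625)) (tt N28136 (iv F271722)) (tt N28799 (iv F274705)) (tt N26502 F269817) (tt N26448 F269818))
theorem Q27670 : ∀ i, i < 27670 → P i := stepQ 27669 Q27669 (allL N27669 (tt N28101 (iv F271536)) (tt N28812 (iv F274747)) (tt N26447 F269819) (tt N28813 D61583) (tt N26446 (iv D60439)) (tt N28707 (iv F274360)) (tt N28137 (iv F271729)) (tt N28800 (iv F274709)) (tt N26503 F269820) (tt N26449 F269821))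
theorem Q27671 : ∀ i, i < 27671 → P i := stepQ 27670 Q27670 (allL N27670 (tt N26448 (iv D60440)) (tt N28743 (iv F274499)) (tt N28805 (iv F274725)) (tt N28785 (iv F274655)) (tt N28814 D61584) (tt N28810 (iv F274742)) (tt N28138 (iv F271733)) (tt N28801 (iv F274714)) (tt N26451 F269822) (tt N28811 (iv F274746)))
theorem Q27672 : ∀ i, i < 27672 → P i := stepQ 27671 Q27671 (allL N27671 (tt N28814 (iv F274752)) (tt N26449 F269823) (tt N28806 (iv F274728)) (tt N28815 D61585) (tt N26448 (iv D60441)) (tt N28706 (iv F274357)) (tt N28139 (iv F271736)) (tt N28802 (iv F274717)) (tt N26452 F269824) (tt N28812 (iv F274749)))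
theorem Q27673 : ∀ i, i < 27673 → P i := stepQ 27672 Q27672 (allL N27672 (tt N28745 (iv F274503)) (tt N28815 (iv F274754)) (tt N27672 F269825) (tt N26449 (iv D60442)) (tt N28787 (iv F274663)) (tt N28692 (iv F274302)) (tt N28140 (iv F271739)) (tt N28803 (iv F274721)) (tt N28691 F274299) (tt N28813 (iv F274751)))
theorem Q27674 : ∀ i, i < 27674 → P i := stepQ 27673 Q27673 (allL N27673 (tt N26450 (iv D60443)) (tt N28014 (iv F271001)) (tt N28808 (iv F274732)) (tt N26454 F269826) (tt N28459 (iv F273353)) (tt N26451 F269827) (tt N28741 (iv F274495)) (tt N26663 F269828) (tt N28810 (iv F274744)) (tt N26512 F269829))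
theorem Q27675 : ∀ i, i < 27675 → P i := stepQ 27674 Q27674 (allL N27674 (tt N26452 F269830) (tt N28746 (iv F274507)) (tt N28809 (iv F274739)) (tt N28705 (iv F274352)) (tt N26451 (iv D60444)) (tt N28704 F274349) (tt N28143 (iv F271756)) (tt N28804 (iv F274723)) (tt N28814 (iv F274753)) (tt N26514 F269831))
theorem Q27676 : ∀ i, i < 27676 → P i := stepQ 27675 Q27675 (allL N27675 (tt N26453 (iv D60445)) (tt N26631 F269832) (tt N26700 F269833) (tt N28741 (iv F274493)) (tt N28045 (iv F271184)) (tt N28147 (iv F271781)) (tt N26454 F269834) (tt N28532 (iv F273687)) (tt N26670 F269835) (tt N26517 F269836))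
theorem Q27677 : ∀ i, i < 27677 → P i := stepQ 27676 Q27676 (allL N27676 (tt N28816 D61586) (tt N26455 (iv D60446)) (tt N28697 (iv F274323)) (tt N26460 F269837) (tt N28817 D61587) (tt N26457 F269838) (tt N28324 (iv F272778)) (tt N28018 (iv F271033)) (tt N27997 (iv F270905)) (tt N28562 (iv F273820)))
theorem Q27678 : ∀ i, i < 27678 → P i := stepQ 27677 Q27677 (allL N27677 (tt N28676 (iv F274254)) (tt N28817 (iv F274757)) (tt N26456 F269839) (tt N28818 D61588) (tt N26455 (iv D60447)) (tt N28819 D61589) (tt N28325 (iv F272781)) (tt N28019 (iv F271038)) (tt N27998 (iv F270910)) (tt N28563 (iv F273823)))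
theorem Q27679 : ∀ i, i < 27679 → P i := stepQ 27678 Q27678 (allL N27678 (tt N28677 (iv F274258)) (tt N28430 (iv F273211)) (tt N28819 (iv F274760)) (tt N27678 F269840) (tt N26459 F269841) (tt N26456 (iv D60448)) (tt N28730 (iv F274436)) (tt N28020 (iv F271045)) (tt N27999 (iv F270917)) (tt N28564 (iv F273826)))
theorem Q27680 : ∀ i, i < 27680 → P i := stepQ 27679 Q27679 (allL N27679 (tt N26457 (iv D60449)) (tt N28749 (iv F274519)) (tt N28695 (iv F274315)) (tt N26462 F269842) (tt N28820 D61590) (tt N28816 (iv F274756)) (tt N26477 F269843) (tt N28024 (iv F271065)) (tt N28000 (iv F270924)) (tt N28792 (iv F274678)))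
theorem Q27681 : ∀ i, i < 27681 → P i := stepQ 27680 Q27680 (allL N27680 (tt N28820 (iv F274762)) (tt N26458 F269844) (tt N28410 (iv F273147)) (tt N26506 F269845) (tt N26457 (iv D60450)) (tt N28821 D61591) (tt N26478 F269846) (tt N28025 (iv F271070)) (tt N28001 (iv F270930)) (tt N28793 (iv F274682)))
theorem Q27682 : ∀ i, i < 27682 → P i := stepQ 27681 Q27681 (allL N27681 (tt N28751 (iv F274529)) (tt N28821 (iv F274765)) (tt N26459 F269847) (tt N26507 F269848) (tt N28819 (iv F274761)) (tt N26458 (iv D60451)) (tt N28728 (iv F274430)) (tt N28026 (iv F271075)) (tt N28002 (iv F270935)) (tt N28794 (iv F274685)))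
theorem Q27683 : ∀ i, i < 27683 → P i := stepQ 27682 Q27682 (allL N27682 (tt N26460 (iv D60452)) (tt N28752 (iv F274534)) (tt N26706 F269849) (tt N28816 (iv F274755)) (tt N28822 D61592) (tt N26462 F269850) (tt N28332 (iv F272807)) (tt N28159 (iv F271851)) (tt N28361 (iv F272937)) (tt N28573 (iv F273846)))
theorem Q27684 : ∀ i, i < 27684 → P i := stepQ 27683 Q27683 (allL N27683 (tt N28822 (iv F274767)) (tt N26461 F269851) (tt N26707 F269852) (tt N28823 D61593) (tt N26460 (iv D60453)) (tt N28734 (iv F274458)) (tt N28333 (iv F272812)) (tt N28160 (iv F271855)) (tt N28362 (iv F272944)) (tt N28574 (iv F273851)))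
theorem Q27685 : ∀ i, i < 27685 → P i := stepQ 27684 Q27684 (allL N27684 (tt N28754 (iv F274538)) (tt N28823 (iv F274769)) (tt N27684 F269853) (tt N26461 (iv D60454)) (tt N28818 (iv F274759)) (tt N28735 (iv F274465)) (tt N28334 (iv F272816)) (tt N28161 (iv F271859)) (tt N28824 D61594) (tt N28575 (iv F273854)))
theorem Q27686 : ∀ i, i < 27686 → P i := stepQ 27685 Q27685 (allL N27685 (tt N28825 D61595) (tt N26463 (iv D60455)) (tt N26475 F269854) (tt N26709 F269855) (tt N28826 D61596) (tt N26465 F269856) (tt N28314 (iv F272736)) (tt N26492 F269857) (tt N28473 (iv F273425)) (tt N26656 F269858))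
theorem Q27687 : ∀ i, i < 27687 → P i := stepQ 27686 Q27686 (allL N27686 (tt N28559 (iv F273801)) (tt N28826 (iv F274776)) (tt N26464 F269859) (tt N28701 (iv F274337)) (tt N26463 (iv D60456)) (tt N28616 (iv F274027)) (tt N28315 (iv F272739)) (tt N26493 F269860) (tt N28474 (iv F273429)) (tt N26657 F269861))
theorem Q27688 : ∀ i, i < 27688 → P i := stepQ 27687 Q27687 (allL N27687 (tt N26465 (iv D60457)) (tt N28561 (iv F273812)) (tt N26477 F269862) (tt N26711 F269863) (tt N28827 D61597) (tt N28825 (iv F274773)) (tt N28695 (iv F274316)) (tt N26494 F269864) (tt N28476 (iv F273441)) (tt N28797 (iv F274697)))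
theorem Q27689 : ∀ i, i < 27689 → P i := stepQ 27688 Q27688 (allL N27688 (tt N28827 (iv F274780)) (tt N26466 F269865) (tt N26478 F269866) (tt N26591 F269867) (tt N26465 (iv D60458)) (tt N28709 (iv F274367)) (tt N28410 (iv F273149)) (tt N26495 F269868) (tt N28477 (iv F273447)) (tt N28798 (iv F274702)))
theorem Q27690 : ∀ i, i < 27690 → P i := stepQ 27689 Q27689 (allL N27689 (tt N28083 (iv F271441)) (tt N28828 D61598) (tt N26467 (iv D60459)) (tt N26564 F269869) (tt N28829 D61599) (tt N26470 F269870) (tt N28320 (iv F272764)) (tt N26498 F269871) (tt N26659 F269872) (tt N26468 F269873))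
theorem Q27691 : ∀ i, i < 27691 → P i := stepQ 27690 Q27690 (allL N27690 (tt N28084 (iv F271448)) (tt N28265 (iv F272476)) (tt N28829 (iv F274789)) (tt N27690 F269874) (tt N26467 (iv D60460)) (tt N28617 (iv F274032)) (tt N28152 (iv F271808)) (tt N26499 F269875) (tt N26660 F269876) (tt N26469 F269877))
theorem Q27692 : ∀ i, i < 27692 → P i := stepQ 27691 Q27691 (allL N27691 (tt N28830 D61600) (tt N26468 (iv D60461)) (tt N28473 (iv F273421)) (tt N26566 F269878) (tt N28831 D61601) (tt N26472 F269879) (tt N28321 (iv F272769)) (tt N26500 F269880) (tt N26475 F269881) (tt N28828 (iv F274788)))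
theorem Q27693 : ∀ i, i < 27693 → P i := stepQ 27692 Q27692 (allL N27692 (tt N28759 (iv F274554)) (tt N28831 (iv F274797)) (tt N26469 F269882) (tt N28832 D61602) (tt N26468 (iv D60462)) (tt N28596 (iv F273935)) (tt N28322 (iv F272772)) (tt N26501 F269883) (tt N26476 F269884) (tt N28829 (iv F274792)))
theorem Q27694 : ∀ i, i < 27694 → P i := stepQ 27693 Q27693 (allL N27693 (tt N28833 D61603) (tt N26470 (iv D60463)) (tt N28266 (iv F272482)) (tt N27969 (iv F270727)) (tt N28834 D61604) (tt N28828 (iv F274785)) (tt N27972 (iv F270751)) (tt N26502 F269885) (tt N28799 (iv F274706)) (tt N26472 F269886))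
theorem Q27695 : ∀ i, i < 27695 → P i := stepQ 27694 Q27694 (allL N27694 (tt N28086 (iv F271459)) (tt N28834 (iv F274805)) (tt N26471 F269887) (tt N28022 (iv F271053)) (tt N26470 (iv D60464)) (tt N28835 D61605) (tt N27973 (iv F270757)) (tt N26503 F269888) (tt N28800 (iv F274710)) (tt N26473 F269889))
theorem Q27696 : ∀ i, i < 27696 → P i := stepQ 27695 Q27695 (allL N27695 (tt N28087 (iv F271465)) (tt N28268 (iv F272494)) (tt N28835 (iv F274808)) (tt N26519 F269890) (tt N28617 (iv F274031)) (tt N26471 (iv D60465)) (tt N28836 D61606) (tt N26504 F269891) (tt N28719 (iv F274398)) (tt N26474 F269892))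
theorem Q27697 : ∀ i, i < 27697 → P i := stepQ 27696 Q27696 (allL N27696 (tt N26472 (iv D60466)) (tt N28760 (iv F274558)) (tt N28476 (iv F273437)) (tt N27996 (iv F270895)) (tt N28837 D61607) (tt N28830 (iv F274794)) (tt N28000 (iv F270922)) (tt N26505 F269893) (tt N26477 F269894) (tt N28833 (iv F274804)))
theorem Q27698 : ∀ i, i < 27698 → P i := stepQ 27697 Q27697 (allL N27697 (tt N28837 (iv F274813)) (tt N26473 F269895) (tt N28477 (iv F273443)) (tt N28025 (iv F271068)) (tt N26472 (iv D60467)) (tt N28838 D61608) (tt N28001 (iv F270928)) (tt N26506 F269896) (tt N26478 F269897) (tt N28834 (iv F274807)))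
theorem Q27699 : ∀ i, i < 27699 → P i := stepQ 27698 Q27698 (allL N27698 (tt N28762 (iv F274568)) (tt N28838 (iv F274816)) (tt N26474 F269898) (tt N28026 (iv F271074)) (tt N28596 (iv F273934)) (tt N26473 (iv D60468)) (tt N28839 D61609) (tt N26507 F269899) (tt N26479 F269900) (tt N28835 (iv F274810)))
theorem Q27700 : ∀ i, i < 27700 → P i := stepQ 27699 Q27699 (allL N27699 (tt N28763 (iv F274573)) (tt N28479 (iv F273454)) (tt N28839 (iv F274819)) (tt N26520 F269901) (tt N28615 (iv F274023)) (tt N28003 (iv F270939)) (tt N26474 (iv D60469)) (tt N28557 (iv F273793)) (tt N26480 F269902) (tt N28836 (iv F274812)))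
theorem Q27701 : ∀ i, i < 27701 → P i := stepQ 27700 Q27700 (allL N27700 (tt N26475 (iv D60470)) (tt N28764 (iv F274577)) (tt N28825 (iv F274771)) (tt N26481 F269903) (tt N28840 D61610) (tt N26477 F269904) (tt N28327 (iv F272787)) (tt N26512 F269905) (tt N28830 (iv F274796)) (tt N26663 F269906))
theorem Q27702 : ∀ i, i < 27702 → P i := stepQ 27701 Q27701 (allL N27701 (tt N28840 (iv F274821)) (tt N26476 F269907) (tt N28826 (iv F274777)) (tt N28449 (iv F273305)) (tt N26475 (iv D60471)) (tt N28595 (iv F273930)) (tt N28328 (iv F272790)) (tt N26513 F269908) (tt N28831 (iv F274799)) (tt N26664 F269909))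
theorem Q27703 : ∀ i, i < 27703 → P i := stepQ 27702 Q27702 (allL N27702 (tt N26478 F269910) (tt N28766 (iv F274587)) (tt N28827 (iv F274781)) (tt N28189 (iv F272022)) (tt N26477 (iv D60472)) (tt N28841 D61611) (tt N28820 (iv F274764)) (tt N26514 F269911) (tt N28837 (iv F274815)) (tt N28804 (iv F274724)))
theorem Q27704 : ∀ i, i < 27704 → P i := stepQ 27703 Q27703 (allL N27703 (tt N28841 (iv F274824)) (tt N26479 F269912) (tt N28709 F274369) (tt N28190 (iv F272027)) (tt N28595 (iv F273929)) (tt N26478 (iv D60473)) (tt N28842 D61612) (tt N26515 F269913) (tt N28838 (iv F274818)) (tt N28656 (iv F274195)))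
theorem Q27705 : ∀ i, i < 27705 → P i := stepQ 27704 Q27704 (allL N27704 (tt N28768 (iv F274593)) (tt N28842 (iv F274826)) (tt N26480 F269914) (tt N28191 (iv F272034)) (tt N28592 (iv F273920)) (tt N28728 (iv F274429)) (tt N26479 (iv D60474)) (tt N28721 (iv F274405)) (tt N28839 (iv F274820)) (tt N28653 (iv F274185)))
theorem Q27706 : ∀ i, i < 27706 → P i := stepQ 27705 Q27705 (allL N27705 (tt N28843 D61613) (tt N26482 (iv D60475)) (tt N26694 F269915) (tt N26722 F269916) (tt N28844 D61614) (tt N26484 F269917) (tt N26680 F269918) (tt N28558 (iv F273798)) (tt N28534 (iv F273700)) (tt N26724 F269919))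
theorem Q27707 : ∀ i, i < 27707 → P i := stepQ 27706 Q27706 (allL N27706 (tt N26493 F269920) (tt N28844 (iv F274833)) (tt N26483 F269921) (tt N28031 (iv F271102)) (tt N26482 (iv D60476)) (tt N28030 F271099) (tt N26681 F269922) (tt N28559 (iv F273803)) (tt N28535 (iv F273705)) (tt N26725 F269923))
theorem Q27708 : ∀ i, i < 27708 → P i := stepQ 27707 Q27707 (allL N27707 (tt N26484 (iv D60477)) (tt N26494 F269924) (tt N28601 (iv F273960)) (tt N26723 F269925) (tt N28199 (iv F272078)) (tt N28843 (iv F274830)) (tt N28178 (iv F271955)) (tt N28561 (iv F273815)) (tt N28536 (iv F273709)) (tt N28673 (iv F274247)))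
theorem Q27709 : ∀ i, i < 27709 → P i := stepQ 27708 Q27708 (allL N27708 (tt N28845 D61615) (tt N26485 (iv D60478)) (tt N26500 F269926) (tt N28470 (iv F273405)) (tt N28846 D61616) (tt N26489 F269927) (tt N28643 (iv F274147)) (tt N28473 (iv F273424)) (tt N26492 F269928) (tt N28641 (iv F274140)))
theorem Q27710 : ∀ i, i < 27710 → P i := stepQ 27709 Q27709 (allL N27709 (tt N28535 (iv F273701)) (tt N28846 (iv F274840)) (tt N26486 F269929) (tt N28847 D61617) (tt N26485 (iv D60479)) (tt N28620 (iv F274048)) (tt N28141 F271746) (tt N28474 (iv F273428)) (tt N26493 F269930) (tt N28642 (iv F274144)))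
theorem Q27711 : ∀ i, i < 27711 → P i := stepQ 27710 Q27710 (allL N27710 (tt N28848 D61618) (tt N26487 (iv D60480)) (tt N26502 F269931) (tt N28261 (iv F272448)) (tt N28849 D61619) (tt N28641 (iv F274137)) (tt N28180 (iv F271966)) (tt N28266 (iv F272485)) (tt N28624 (iv F274072)) (tt N26489 F269932))
theorem Q27712 : ∀ i, i < 27712 → P i := stepQ 27711 Q27711 (allL N27711 (tt N28202 (iv F272087)) (tt N28849 (iv F274846)) (tt N26488 F269933) (tt N28387 (iv F273054)) (tt N26487 (iv D60481)) (tt N28712 (iv F274379)) (tt N28181 (iv F271974)) (tt N28267 (iv F272491)) (tt N28625 (iv F274076)) (tt N26490 F269934))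
theorem Q27713 : ∀ i, i < 27713 → P i := stepQ 27712 Q27712 (allL N27712 (tt N26489 (iv D60482)) (tt N28536 (iv F273706)) (tt N26505 F269935) (tt N28472 (iv F273416)) (tt N28850 D61620) (tt N28845 (iv F274838)) (tt N28182 (iv F271981)) (tt N28476 (iv F273440)) (tt N26494 F269936) (tt N28848 (iv F274845)))
theorem Q27714 : ∀ i, i < 27714 → P i := stepQ 27713 Q27713 (allL N27713 (tt N28850 (iv F274849)) (tt N26490 F269937) (tt N26506 F269938) (tt N28390 (iv F273070)) (tt N26489 (iv D60483)) (tt N28711 (iv F274376)) (tt N28183 (iv F271987)) (tt N28477 (iv F273446)) (tt N26495 F269939) (tt N28849 (iv F274848)))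
theorem Q27715 : ∀ i, i < 27715 → P i := stepQ 27714 Q27714 (allL N27714 (tt N28851 D61621) (tt N26491 (iv D60484)) (tt N26510 F269940) (tt N26724 F269941) (tt N28144 (iv F271760)) (tt N26674 F269942) (tt N26492 F269943) (tt N28598 (iv F273946)) (tt N28643 (iv F274149)) (tt N26722 F269944))
theorem Q27716 : ∀ i, i < 27716 → P i := stepQ 27715 Q27715 (allL N27715 (tt N26492 (iv D60485)) (tt N28843 (iv F274827)) (tt N26512 F269945) (tt N26726 F269946) (tt N28852 D61622) (tt N26494 F269947) (tt N28851 (iv F274856)) (tt N28825 (iv F274774)) (tt N28845 (iv F274839)) (tt N28808 (iv F274737)))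
theorem Q27717 : ∀ i, i < 27717 → P i := stepQ 27716 Q27716 (allL N27716 (tt N28852 (iv F274858)) (tt N26493 F269948) (tt N26513 F269949) (tt N28703 (iv F274344)) (tt N26492 (iv D60486)) (tt N28610 (iv F274002)) (tt N28144 F271762) (tt N28826 (iv F274778)) (tt N28846 (iv F274842)) (tt N28195 (iv F272063)))
theorem Q27718 : ∀ i, i < 27718 → P i := stepQ 27717 Q27717 (allL N27717 (tt N26495 F269950) (tt N28199 (iv F272077)) (tt N26514 F269951) (tt N28077 (iv F271403)) (tt N26494 (iv D60487)) (tt N28710 (iv F274371)) (tt N28185 (iv F272001)) (tt N28827 (iv F274783)) (tt N28850 (iv F274851)) (tt N28809 (iv F274740)))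
theorem Q27719 : ∀ i, i < 27719 → P i := stepQ 27718 Q27718 (allL N27718 (tt N28853 D61623) (tt N26496 (iv D60488)) (tt N28643 (iv F274145)) (tt N26642 F269952) (tt N28854 D61624) (tt N26641 F269953) (tt N26500 F269954) (tt N28497 (iv F273538)) (tt N26510 F269955) (tt N28631 (iv F274107)))
theorem Q27720 : ∀ i, i < 27720 → P i := stepQ 27719 Q27719 (allL N27719 (tt N26702 F269956) (tt N28854 (iv F274865)) (tt N26497 F269957) (tt N28855 D61625) (tt N26496 (iv D60489)) (tt N28132 (iv F271695)) (tt N26501 F269958) (tt N28498 (iv F273544)) (tt N26511 F269959) (tt N28629 (iv F274091)))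
theorem Q27721 : ∀ i, i < 27721 → P i := stepQ 27720 Q27720 (allL N27720 (tt N28856 D61626) (tt N26498 (iv D60490)) (tt N28641 (iv F274136)) (tt N28059 (iv F271279)) (tt N28857 D61627) (tt N26502 F269960) (tt N28631 (iv F274104)) (tt N28828 (iv F274786)) (tt N28517 (iv F273628)) (tt N26500 F269961))
theorem Q27722 : ∀ i, i < 27722 → P i := stepQ 27721 Q27721 (allL N27721 (tt N28104 (iv F271550)) (tt N28857 (iv F274874)) (tt N26499 F269962) (tt N28858 D61628) (tt N26498 (iv D60491)) (tt N28612 (iv F274010)) (tt N28629 F274092) (tt N28829 (iv F274790)) (tt N28461 (iv F273367)) (tt N26501 F269963))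
theorem Q27723 : ∀ i, i < 27723 → P i := stepQ 27722 Q27722 (allL N27722 (tt N26500 (iv D60492)) (tt N28775 (iv F274615)) (tt N28845 (iv F274837)) (tt N28733 (iv F274451)) (tt N28859 D61629) (tt N26505 F269964) (tt N28853 (iv F274863)) (tt N28830 (iv F274795)) (tt N26512 F269965) (tt N28856 (iv F274873)))
theorem Q27724 : ∀ i, i < 27724 → P i := stepQ 27723 Q27723 (allL N27723 (tt N28859 (iv F274878)) (tt N26501 F269966) (tt N28846 (iv F274841)) (tt N28860 D61630) (tt N26500 (iv D60493)) (tt N28611 (iv F274007)) (tt N28854 (iv F274866)) (tt N28831 (iv F274798)) (tt N26513 F269967) (tt N28857 (iv F274875)))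
theorem Q27725 : ∀ i, i < 27725 → P i := stepQ 27724 Q27724 (allL N27724 (tt N28777 (iv F274623)) (tt N28860 (iv F274880)) (tt N27724 F269968) (tt N26501 (iv D60494)) (tt N28735 (iv F274464)) (tt N28578 (iv F273860)) (tt N28855 (iv F274871)) (tt N28832 (iv F274802)) (tt N28444 (iv F273280)) (tt N28858 (iv F274877)))
theorem Q27726 : ∀ i, i < 27726 → P i := stepQ 27725 Q27725 (allL N27725 (tt N26502 (iv D60495)) (tt N28106 (iv F271559)) (tt N28848 (iv F274844)) (tt N28061 (iv F271294)) (tt N28861 D61631) (tt N28856 (iv F274872)) (tt N28187 (iv F272011)) (tt N28833 (iv F274803)) (tt N28811 (iv F274745)) (tt N26505 F269969))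
theorem Q27727 : ∀ i, i < 27727 → P i := stepQ 27726 Q27726 (allL N27726 (tt N28861 (iv F274881)) (tt N26503 F269970) (tt N28849 (iv F274847)) (tt N28793 (iv F274680)) (tt N26502 (iv D60496)) (tt N28862 D61632) (tt N28188 (iv F272017)) (tt N28834 (iv F274806)) (tt N28812 (iv F274748)) (tt N26506 F269971))
theorem Q27728 : ∀ i, i < 27728 → P i := stepQ 27727 Q27727 (allL N27727 (tt N28108 (iv F271566)) (tt N28862 (iv F274883)) (tt N26504 F269972) (tt N28794 (iv F274684)) (tt N28612 (iv F274009)) (tt N26503 (iv D60497)) (tt N28654 (iv F274187)) (tt N28835 (iv F274809)) (tt N28707 (iv F274361)) (tt N26507 F269973))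
theorem Q27729 : ∀ i, i < 27729 → P i := stepQ 27728 Q27728 (allL N27728 (tt N26506 F269974) (tt N28778 (iv F274629)) (tt N28850 (iv F274850)) (tt N28820 (iv F274763)) (tt N26505 (iv D60498)) (tt N28863 D61633) (tt N28189 (iv F272023)) (tt N28837 (iv F274814)) (tt N26514 F269975) (tt N28861 (iv F274882)))
theorem Q27730 : ∀ i, i < 27730 → P i := stepQ 27729 Q27729 (allL N27729 (tt N28863 (iv F274885)) (tt N26507 F269976) (tt N28711 (iv F274375)) (tt N28821 (iv F274766)) (tt N28611 (iv F274006)) (tt N26506 (iv D60499)) (tt N28715 (iv F274386)) (tt N28838 (iv F274817)) (tt N26515 F269977) (tt N28862 (iv F274884)))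
theorem Q27731 : ∀ i, i < 27731 → P i := stepQ 27730 Q27730 (allL N27730 (tt N28864 D61634) (tt N26508 (iv D60500)) (tt N28598 (iv F273943)) (tt N26516 F269978) (tt N28865 D61635) (tt N28192 (iv F272043)) (tt N28310 (iv F272717)) (tt N26510 F269979) (tt N28497 (iv F273539)) (tt N28177 (iv F271950)))
theorem Q27732 : ∀ i, i < 27732 → P i := stepQ 27731 Q27731 (allL N27731 (tt N28181 (iv F271970)) (tt N28865 (iv F274889)) (tt N26509 F269980) (tt N28051 (iv F271225)) (tt N26508 (iv D60501)) (tt N28119 (iv F271625)) (tt N28202 (iv F272090)) (tt N26511 F269981) (tt N28498 (iv F273545)) (tt N28166 (iv F271891)))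
theorem Q27733 : ∀ i, i < 27733 → P i := stepQ 27732 Q27732 (allL N27732 (tt N26510 (iv D60502)) (tt N28432 (iv F273221)) (tt N28851 (iv F274853)) (tt N26517 F269982) (tt N28866 D61636) (tt N28193 (iv F272052)) (tt N26512 F269983) (tt N28864 (iv F274888)) (tt N28853 (iv F274864)) (tt N28741 (iv F274496)))
theorem Q27734 : ∀ i, i < 27734 → P i := stepQ 27733 Q27733 (allL N27733 (tt N28866 (iv F274891)) (tt N26511 F269984) (tt N28144 (iv F271759)) (tt N28056 (iv F271258)) (tt N26510 (iv D60503)) (tt N28134 (iv F271709)) (tt N26513 F269985) (tt N28865 (iv F274890)) (tt N28854 (iv F274867)) (tt N28186 (iv F272007)))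
theorem Q27735 : ∀ i, i < 27735 → P i := stepQ 27734 Q27734 (allL N27734 (tt N26513 F269986) (tt N28780 (iv F274635)) (tt N28852 (iv F274859)) (tt N28450 (iv F273311)) (tt N26512 (iv D60504)) (tt N28609 (iv F273997)) (tt N28866 (iv F274892)) (tt N28840 (iv F274822)) (tt N28859 (iv F274879)) (tt N28459 (iv F273356)))
theorem Q27736 : ∀ i, i < 27736 → P i := stepQ 27735 Q27735 (allL N27735 (tt N26515 F269987) (tt N28781 (iv F274638)) (tt N28710 F274373) (tt N28602 F273969) (tt N28609 (iv F273996)) (tt N26514 (iv D60505)) (tt N28713 (iv F274382)) (tt N28841 (iv F274825)) (tt N28863 (iv F274886)) (tt N28704 (iv F274348)))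
theorem Q27737 : ∀ i, i < 27737 → P i := stepQ 27736 Q27736 (allL N27736 (tt N26516 (iv D60506)) (tt N28431 (iv F273216)) (tt N26747 F269988) (tt N28864 (iv F274887)) (tt N28052 (iv F271232)) (tt N28196 (iv F272066)) (tt N28313 (iv F272730)) (tt N26517 F269989) (tt N28335 (iv F272822)) (tt N28532 (iv F273689)))
theorem Q27738 : ∀ i, i < 27738 → P i := stepQ 27737 Q27737 (allL N27737 (tt N28088 (iv F271469)) (tt N28269 (iv F272499)) (tt N28043 (iv F271167)) (tt N28836 (iv F274811)) (tt N27737 F269990) (tt N27975 (iv F270770)) (tt N26519 (iv D60507)) (tt N28318 (iv F272751)) (tt N27737 F269991) (tt N26520 F269992))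
theorem Q27739 : ∀ i, i < 27739 → P i := stepQ 27738 Q27738 (allL N27738 (tt N26521 (iv D60508)) (tt N26533 F269993) (tt N26558 F269994) (tt N28392 (iv F273081)) (tt N26556 F269995) (tt N26534 F269996) (tt N28211 (iv F272155)) (tt N26550 F269997) (tt N26625 F269998) (tt N26526 F269999))
theorem Q27740 : ∀ i, i < 27740 → P i := stepQ 27739 Q27739 (allL N27739 (tt N26522 (iv D60509)) (tt N26534 F270000) (tt N26556 F270001) (tt N28382 (iv F273027)) (tt N26558 F270002) (tt N26533 F270003) (tt N28253 (iv F272404)) (tt N26526 F270004) (tt N26602 F270005) (tt N26550 F270006))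
theorem Q27741 : ∀ i, i < 27741 → P i := stepQ 27740 Q27740 (allL N27740 (tt N26523 (iv D60510)) (tt N26546 F270007) (tt N28357 (iv F272921)) (tt N26526 F270008) (tt N28867 D61637) (tt N28347 (iv F272885)) (tt N28214 (iv F272175)) (tt N28382 (iv F273030)) (tt N28439 (iv F273261)) (tt N28392 (iv F273084)))
theorem Q27742 : ∀ i, i < 27742 → P i := stepQ 27741 Q27741 (allL N27741 (tt N28867 (iv F274893)) (tt N26524 F270009) (tt N28358 (iv F272926)) (tt N26560 F270010) (tt N26523 (iv D60511)) (tt N28868 D61638) (tt N28215 (iv F272182)) (tt N27947 (iv F270589)) (tt N28440 (iv F273265)) (tt N28393 (iv F273089)))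
theorem Q27743 : ∀ i, i < 27743 → P i := stepQ 27742 Q27742 (allL N27742 (tt N26548 F270011) (tt N28868 (iv F274896)) (tt N26525 F270012) (tt N26561 F270013) (tt N28349 (iv F272898)) (tt N26524 (iv D60512)) (tt N28295 (iv F272641)) (tt N27936 (iv F270508)) (tt N28441 (iv F273270)) (tt N28394 (iv F273096)))
theorem Q27744 : ∀ i, i < 27744 → P i := stepQ 27743 Q27743 (allL N27743 (tt N28218 (iv F272199)) (tt N28869 D61639) (tt N26527 (iv D60513)) (tt N28047 (iv F271197)) (tt N28870 D61640) (tt N28046 (iv F271191)) (tt N26618 F270014) (tt N28220 (iv F272217)) (tt N26538 F270015) (tt N26528 F270016))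
theorem Q27745 : ∀ i, i < 27745 → P i := stepQ 27744 Q27744 (allL N27744 (tt N28219 (iv F272206)) (tt N28337 (iv F272832)) (tt N28870 (iv F274901)) (tt N27744 F270017) (tt N26527 (iv D60514)) (tt N28871 D61641) (tt N26619 F270018) (tt N28221 (iv F272224)) (tt N26539 F270019) (tt N26529 F270020))
theorem Q27746 : ∀ i, i < 27746 → P i := stepQ 27745 Q27745 (allL N27745 (tt N28872 D61642) (tt N26528 (iv D60515)) (tt N28338 (iv F272838)) (tt N28436 (iv F273245)) (tt N28873 D61643) (tt N28381 (iv F273022)) (tt N28231 (iv F272278)) (tt N28344 (iv F272868)) (tt N26530 F270021) (tt N28869 (iv F274900)))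
theorem Q27747 : ∀ i, i < 27747 → P i := stepQ 27746 Q27746 (allL N27746 (tt N28384 (iv F273037)) (tt N28873 (iv F274909)) (tt N26529 F270022) (tt N28874 D61644) (tt N26528 (iv D60516)) (tt N28875 D61645) (tt N28232 (iv F272283)) (tt N28345 (iv F272873)) (tt N26531 F270023) (tt N28870 (iv F274904)))
theorem Q27748 : ∀ i, i < 27748 → P i := stepQ 27747 Q27747 (allL N27747 (tt N28385 (iv F273041)) (tt N28287 (iv F272597)) (tt N28875 (iv F274913)) (tt N27747 F270024) (tt N27937 (iv F270513)) (tt N26529 (iv D60517)) (tt N28305 (iv F272688)) (tt N28346 (iv F272880)) (tt N26532 F270025) (tt N28871 (iv F274907)))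
theorem Q27749 : ∀ i, i < 27749 → P i := stepQ 27748 Q27748 (allL N27748 (tt N26530 (iv D60518)) (tt N28392 (iv F273079)) (tt N28340 (iv F272848)) (tt N26533 F270026) (tt N28876 D61646) (tt N28382 (iv F273028)) (tt N28234 (iv F272296)) (tt N28347 (iv F272887)) (tt N28872 (iv F274908)) (tt N26546 F270027))
theorem Q27750 : ∀ i, i < 27750 → P i := stepQ 27749 Q27749 (allL N27749 (tt N28876 (iv F274915)) (tt N26531 F270028) (tt N28341 (iv F272853)) (tt N26569 F270029) (tt N26530 (iv D60519)) (tt N28877 D61647) (tt N28235 (iv F272300)) (tt N28348 (iv F272893)) (tt N28873 (iv F274910)) (tt N26547 F270030))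
theorem Q27751 : ∀ i, i < 27751 → P i := stepQ 27750 Q27750 (allL N27750 (tt N28394 (iv F273090)) (tt N28877 (iv F274918)) (tt N26532 F270031) (tt N26570 F270032) (tt N27936 (iv F270505)) (tt N26531 (iv D60520)) (tt N28298 (iv F272654)) (tt N28349 (iv F272900)) (tt N28875 (iv F274914)) (tt N26548 F270033))
theorem Q27752 : ∀ i, i < 27752 → P i := stepQ 27751 Q27751 (allL N27751 (tt N28220 (iv F272213)) (tt N28878 D61648) (tt N26535 (iv D60521)) (tt N26610 F270034) (tt N28879 D61649) (tt N26538 F270035) (tt N26607 F270036) (tt N28218 (iv F272203)) (tt N28046 (iv F271194)) (tt N26536 F270037))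
theorem Q27753 : ∀ i, i < 27753 → P i := stepQ 27752 Q27752 (allL N27752 (tt N28221 (iv F272220)) (tt N28370 (iv F272974)) (tt N28879 (iv F274925)) (tt N27752 F270038) (tt N26535 (iv D60522)) (tt N28880 D61650) (tt N26608 F270039) (tt N28219 (iv F272210)) (tt N27950 (iv F270611)) (tt N26537 F270040))
theorem Q27754 : ∀ i, i < 27754 → P i := stepQ 27753 Q27753 (allL N27753 (tt N28881 D61651) (tt N26536 (iv D60523)) (tt N28371 (iv F272980)) (tt N26632 F270041) (tt N28882 D61652) (tt N26540 F270042) (tt N28257 (iv F272427)) (tt N28383 (iv F273035)) (tt N26543 F270043) (tt N28878 (iv F274924)))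
theorem Q27755 : ∀ i, i < 27755 → P i := stepQ 27754 Q27754 (allL N27754 (tt N28345 (iv F272870)) (tt N28882 (iv F274934)) (tt N26537 F270044) (tt N28883 D61653) (tt N26536 (iv D60524)) (tt N28884 D61654) (tt N28258 (iv F272434)) (tt N28384 (iv F273039)) (tt N26544 F270045) (tt N28879 (iv F274927)))
theorem Q27756 : ∀ i, i < 27756 → P i := stepQ 27755 Q27755 (allL N27755 (tt N28346 (iv F272875)) (tt N28305 (iv F272684)) (tt N28884 (iv F274940)) (tt N27755 F270046) (tt N26542 F270047) (tt N26537 (iv D60525)) (tt N28287 (iv F272601)) (tt N28385 (iv F273046)) (tt N26545 F270048) (tt N28880 (iv F274930)))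
theorem Q27757 : ∀ i, i < 27757 → P i := stepQ 27756 Q27756 (allL N27756 (tt N28885 D61655) (tt N26538 (iv D60526)) (tt N28373 (iv F272988)) (tt N26624 F270049) (tt N28886 D61656) (tt N28878 (iv F274922)) (tt N26621 F270050) (tt N28386 (iv F273051)) (tt N28869 (iv F274899)) (tt N26540 F270051))
theorem Q27758 : ∀ i, i < 27758 → P i := stepQ 27757 Q27757 (allL N27757 (tt N28223 (iv F272230)) (tt N28886 (iv F274946)) (tt N26539 F270052) (tt N28267 (iv F272489)) (tt N26538 (iv D60527)) (tt N28887 D61657) (tt N26622 F270053) (tt N28387 (iv F273056)) (tt N28870 (iv F274903)) (tt N26541 F270054))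
theorem Q27759 : ∀ i, i < 27759 → P i := stepQ 27758 Q27758 (allL N27758 (tt N28224 (iv F272235)) (tt N28306 (iv F272691)) (tt N28887 (iv F274949)) (tt N26551 F270055) (tt N28880 (iv F274929)) (tt N26539 (iv D60528)) (tt N28488 (iv F273497)) (tt N28388 (iv F273061)) (tt N28871 (iv F274906)) (tt N26542 F270056))
theorem Q27760 : ∀ i, i < 27760 → P i := stepQ 27759 Q27759 (allL N27759 (tt N26540 (iv D60529)) (tt N28439 (iv F273258)) (tt N28375 (iv F272998)) (tt N26634 F270057) (tt N28888 D61658) (tt N28881 (iv F274932)) (tt N28245 (iv F272358)) (tt N28389 (iv F273066)) (tt N26546 F270058) (tt N28885 (iv F274945)))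
theorem Q27761 : ∀ i, i < 27761 → P i := stepQ 27760 Q27760 (allL N27760 (tt N28888 (iv F274951)) (tt N26541 F270059) (tt N28376 (iv F273003)) (tt N28477 (iv F273444)) (tt N26540 (iv D60530)) (tt N28889 D61659) (tt N28246 (iv F272365)) (tt N28390 (iv F273072)) (tt N26547 F270060) (tt N28886 (iv F274948)))
theorem Q27762 : ∀ i, i < 27762 → P i := stepQ 27761 Q27761 (allL N27761 (tt N28441 (iv F273266)) (tt N28889 (iv F274953)) (tt N26542 F270061) (tt N28478 (iv F273450)) (tt N28884 (iv F274941)) (tt N26541 (iv D60531)) (tt N28514 (iv F273615)) (tt N28391 (iv F273077)) (tt N26548 F270062) (tt N28887 (iv F274950)))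
theorem Q27763 : ∀ i, i < 27763 → P i := stepQ 27762 Q27762 (allL N27762 (tt N26543 (iv D60532)) (tt N28347 (iv F272882)) (tt N28377 (iv F273006)) (tt N26550 F270063) (tt N28890 D61660) (tt N26546 F270064) (tt N28259 (iv F272441)) (tt N28392 (iv F273083)) (tt N28881 (iv F274933)) (tt N28382 (iv F273031)))
theorem Q27764 : ∀ i, i < 27764 → P i := stepQ 27763 Q27763 (allL N27763 (tt N28890 (iv F274955)) (tt N26544 F270065) (tt N28378 (iv F273011)) (tt N27942 (iv F270553)) (tt N26543 (iv D60533)) (tt N28891 D61661) (tt N28260 (iv F272445)) (tt N28393 (iv F273088)) (tt N28882 (iv F274935)) (tt N27947 (iv F270590)))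
theorem Q27765 : ∀ i, i < 27765 → P i := stepQ 27764 Q27764 (allL N27764 (tt N28349 (iv F272895)) (tt N28891 (iv F274956)) (tt N26545 F270066) (tt N27928 (iv F270446)) (tt N26548 F270067) (tt N26544 (iv D60534)) (tt N28286 (iv F272593)) (tt N28394 (iv F273095)) (tt N28884 (iv F274942)) (tt N27936 (iv F270509)))
theorem Q27766 : ∀ i, i < 27766 → P i := stepQ 27765 Q27765 (allL N27765 (tt N26547 F270068) (tt N28867 (iv F274894)) (tt N28379 (iv F273014)) (tt N26595 F270069) (tt N26546 (iv D60535)) (tt N28892 D61662) (tt N28247 (iv F272371)) (tt N28395 (iv F273101)) (tt N28888 (iv F274952)) (tt N28876 (iv F274917)))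
theorem Q27767 : ∀ i, i < 27767 → P i := stepQ 27766 Q27766 (allL N27766 (tt N28892 (iv F274958)) (tt N26548 F270070) (tt N28303 (iv F272675)) (tt N26596 F270071) (tt N28891 (iv F274957)) (tt N26547 (iv D60536)) (tt N28893 D61663) (tt N28396 (iv F273106)) (tt N28889 (iv F274954)) (tt N28877 (iv F274920)))
theorem Q27768 : ∀ i, i < 27768 → P i := stepQ 27767 Q27767 (allL N27767 (tt N28295 (iv F272637)) (tt N28893 (iv F274960)) (tt N26549 F270072) (tt N26597 F270073) (tt N28286 (iv F272591)) (tt N27949 (iv F270600)) (tt N26548 (iv D60537)) (tt N28294 (iv F272634)) (tt N28514 (iv F273616)) (tt N28298 (iv F272656)))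
theorem Q27769 : ∀ i, i < 27769 → P i := stepQ 27768 Q27768 (allL N27768 (tt N28894 D61664) (tt N26552 (iv D60538)) (tt N28311 (iv F272720)) (tt N28758 (iv F274550)) (tt N28895 D61665) (tt N26720 F270074) (tt N28277 (iv F272547)) (tt N26704 F270075) (tt N26554 F270076) (tt N28091 (iv F271493)))
theorem Q27770 : ∀ i, i < 27770 → P i := stepQ 27769 Q27769 (allL N27769 (tt N26567 F270077) (tt N28895 (iv F274966)) (tt N26553 F270078) (tt N28896 D61666) (tt N26552 (iv D60539)) (tt N28070 (iv F271354)) (tt N28278 (iv F272552)) (tt N26705 F270079) (tt N26555 F270080) (tt N28092 (iv F271498)))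
theorem Q27771 : ∀ i, i < 27771 → P i := stepQ 27770 Q27770 (allL N27770 (tt N26554 (iv D60540)) (tt N26568 F270081) (tt N28342 (iv F272856)) (tt N26556 F270082) (tt N28897 D61667) (tt N27940 (iv F270538)) (tt N28281 (iv F272572)) (tt N27941 (iv F270548)) (tt N28894 (iv F274965)) (tt N26559 F270083))
theorem Q27772 : ∀ i, i < 27772 → P i := stepQ 27771 Q27771 (allL N27771 (tt N28897 (iv F274972)) (tt N26555 F270084) (tt N28343 (iv F272861)) (tt N28393 (iv F273087)) (tt N26554 (iv D60541)) (tt N28415 (iv F273166)) (tt N28282 (iv F272575)) (tt N27942 (iv F270555)) (tt N28895 (iv F274968)) (tt N26560 F270085))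
theorem Q27773 : ∀ i, i < 27773 → P i := stepQ 27772 Q27772 (allL N27772 (tt N26557 (iv D60542)) (tt N26575 F270086) (tt N28211 (iv F272153)) (tt N27944 (iv F270568)) (tt N28253 (iv F272403)) (tt N28736 (iv F274470)) (tt N26558 F270087) (tt N28288 (iv F272605)) (tt N26644 F270088) (tt N28205 (iv F272115)))
theorem Q27774 : ∀ i, i < 27774 → P i := stepQ 27773 Q27773 (allL N27773 (tt N26560 F270089) (tt N26595 F270090) (tt N28380 (iv F273017)) (tt N28867 (iv F274895)) (tt N26559 (iv D60543)) (tt N28898 D61668) (tt N28300 (iv F272667)) (tt N27946 (iv F270584)) (tt N28175 (iv F271938)) (tt N28897 (iv F274974)))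
theorem Q27775 : ∀ i, i < 27775 → P i := stepQ 27774 Q27774 (allL N27774 (tt N28898 (iv F274975)) (tt N26561 F270091) (tt N28215 (iv F272179)) (tt N28868 (iv F274897)) (tt N27930 (iv F270462)) (tt N26560 (iv D60544)) (tt N28358 (iv F272927)) (tt N27935 (iv F270501)) (tt N28008 (iv F270967)) (tt N28415 (iv F273168)))
theorem Q27776 : ∀ i, i < 27776 → P i := stepQ 27775 Q27775 (allL N27775 (tt N26562 (iv D60545)) (tt N28259 (iv F272439)) (tt N26568 F270092) (tt N27939 (iv F270527)) (tt N28899 D61669) (tt N28242 (iv F272340)) (tt N28347 (iv F272886)) (tt N28731 (iv F274440)) (tt N28452 (iv F273325)) (tt N26585 F270093))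
theorem Q27777 : ∀ i, i < 27777 → P i := stepQ 27776 Q27776 (allL N27776 (tt N28899 (iv F274977)) (tt N26563 F270094) (tt N26569 F270095) (tt N28737 (iv F274475)) (tt N26562 (iv D60546)) (tt N28368 (iv F272962)) (tt N28348 (iv F272892)) (tt N28732 (iv F274446)) (tt N28453 (iv F273330)) (tt N26586 F270096))
theorem Q27778 : ∀ i, i < 27778 → P i := stepQ 27777 Q27777 (allL N27777 (tt N28900 D61670) (tt N26564 (iv D60547)) (tt N28445 (iv F273281)) (tt N28828 (iv F274784)) (tt N28901 D61671) (tt N27969 (iv F270729)) (tt N28350 (iv F272902)) (tt N28059 (iv F271282)) (tt N26588 F270097) (tt N26566 F270098))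
theorem Q27779 : ∀ i, i < 27779 → P i := stepQ 27778 Q27778 (allL N27778 (tt N28092 (iv F271494)) (tt N28901 (iv F274982)) (tt N26565 F270099) (tt N28902 D61672) (tt N26564 (iv D60548)) (tt N28116 (iv F271607)) (tt N28351 (iv F272906)) (tt N28060 (iv F271289)) (tt N26589 F270100) (tt N26567 F270101))
theorem Q27780 : ∀ i, i < 27780 → P i := stepQ 27779 Q27779 (allL N27779 (tt N26566 (iv D60549)) (tt N28894 (iv F274962)) (tt N28452 (iv F273322)) (tt N28830 (iv F274793)) (tt N28903 D61673) (tt N27996 (iv F270897)) (tt N28353 (iv F272912)) (tt N28733 (iv F274454)) (tt N26568 F270102) (tt N28900 (iv F274981)))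
theorem Q27781 : ∀ i, i < 27781 → P i := stepQ 27780 Q27780 (allL N27780 (tt N28903 (iv F274987)) (tt N26567 F270103) (tt N28453 (iv F273327)) (tt N28904 D61674) (tt N26566 (iv D60550)) (tt N28160 (iv F271854)) (tt N28354 (iv F272915)) (tt N28734 (iv F274460)) (tt N26569 F270104) (tt N28901 (iv F274984)))
theorem Q27782 : ∀ i, i < 27782 → P i := stepQ 27781 Q27781 (allL N27781 (tt N28896 (iv F274969)) (tt N28904 (iv F274989)) (tt N27781 F270105) (tt N26567 (iv D60551)) (tt N28832 (iv F274801)) (tt N28161 (iv F271858)) (tt N28355 (iv F272918)) (tt N28735 (iv F274467)) (tt N28874 (iv F274912)) (tt N28902 (iv F274986)))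
theorem Q27783 : ∀ i, i < 27783 → P i := stepQ 27782 Q27782 (allL N27782 (tt N26569 F270106) (tt N28897 (iv F274973)) (tt N28899 (iv F274978)) (tt N28876 (iv F274916)) (tt N26568 (iv D60552)) (tt N28905 D61675) (tt N28359 (iv F272930)) (tt N28738 (iv F274480)) (tt N28903 (iv F274988)) (tt N26595 F270107))
theorem Q27784 : ∀ i, i < 27784 → P i := stepQ 27783 Q27783 (allL N27783 (tt N28905 (iv F274990)) (tt N26570 F270108) (tt N28368 (iv F272961)) (tt N28877 (iv F274919)) (tt N27932 (iv F270478)) (tt N26569 (iv D60553)) (tt N28297 (iv F272649)) (tt N28362 (iv F272943)) (tt N28160 (iv F271856)) (tt N26596 F270109))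
theorem Q27785 : ∀ i, i < 27785 → P i := stepQ 27784 Q27784 (allL N27784 (tt N26571 (iv D60554)) (tt N27944 (iv F270566)) (tt N28216 (iv F272186)) (tt N26575 F270110) (tt N28906 D61676) (tt N28205 (iv F272112)) (tt N26578 F270111) (tt N28243 (iv F272348)) (tt N28075 (iv F271392)) (tt N28736 (iv F274473)))
theorem Q27786 : ∀ i, i < 27786 → P i := stepQ 27785 Q27785 (allL N27785 (tt N28906 (iv F274992)) (tt N26572 F270112) (tt N28217 (iv F272193)) (tt N26586 F270113) (tt N26571 (iv D60555)) (tt N28250 (iv F272387)) (tt N26579 F270114) (tt N28244 (iv F272354)) (tt N28076 (iv F271399)) (tt N28737 (iv F274478)))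
theorem Q27787 : ∀ i, i < 27787 → P i := stepQ 27786 Q27786 (allL N27786 (tt N26573 (iv D60556)) (tt N28736 (iv F274468)) (tt N28361 (iv F272934)) (tt N28205 (iv F272110)) (tt N28907 D61677) (tt N26575 F270115) (tt N27941 (iv F270547)) (tt N28367 (iv F272958)) (tt N26706 F270116) (tt N27944 (iv F270572)))
theorem Q27788 : ∀ i, i < 27788 → P i := stepQ 27787 Q27787 (allL N27787 (tt N28907 (iv F274995)) (tt N26574 F270117) (tt N28362 (iv F272940)) (tt N28260 (iv F272444)) (tt N26573 (iv D60557)) (tt N28732 (iv F274445)) (tt N27942 (iv F270554)) (tt N28368 (iv F272963)) (tt N26707 F270118) (tt N27945 (iv F270580)))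
theorem Q27789 : ∀ i, i < 27789 → P i := stepQ 27788 Q27788 (allL N27788 (tt N26576 (iv D60558)) (tt N28249 (iv F272378)) (tt N26578 F270119) (tt N28242 (iv F272338)) (tt N28908 D61678) (tt N27939 (iv F270529)) (tt N28216 (iv F272189)) (tt N26585 F270120) (tt N28057 (iv F271268)) (tt N28731 (iv F274442)))
theorem Q27790 : ∀ i, i < 27790 → P i := stepQ 27789 Q27789 (allL N27789 (tt N28908 (iv F274997)) (tt N26577 F270121) (tt N26579 F270122) (tt N28244 (iv F272351)) (tt N26576 (iv D60559)) (tt N27945 (iv F270576)) (tt N28217 (iv F272196)) (tt N26586 F270123) (tt N28058 (iv F271276)) (tt N28732 (iv F274448)))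
theorem Q27791 : ∀ i, i < 27791 → P i := stepQ 27790 Q27790 (allL N27790 (tt N26579 F270124) (tt N27946 (iv F270582)) (tt N28908 (iv F274998)) (tt N28395 (iv F273099)) (tt N26578 (iv D60560)) (tt N28423 (iv F273185)) (tt N28906 (iv F274994)) (tt N26595 F270125) (tt N28077 (iv F271406)) (tt N28738 (iv F274481)))
theorem Q27792 : ∀ i, i < 27792 → P i := stepQ 27791 Q27791 (allL N27791 (tt N26580 (iv D60561)) (tt N26585 F270126) (tt N28291 (iv F272618)) (tt N28253 (iv F272402)) (tt N28909 D61679) (tt N28254 (iv F272409)) (tt N28382 (iv F273029)) (tt N28249 (iv F272382)) (tt N28456 (iv F273344)) (tt N28259 (iv F272442)))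
theorem Q27793 : ∀ i, i < 27793 → P i := stepQ 27792 Q27792 (allL N27792 (tt N28909 (iv F275000)) (tt N26581 F270127) (tt N28248 (iv F272373)) (tt N27945 (iv F270575)) (tt N26580 (iv D60562)) (tt N28244 (iv F272352)) (tt N27947 (iv F270588)) (tt N28250 (iv F272389)) (tt N28457 (iv F273348)) (tt N28260 (iv F272446)))
theorem Q27794 : ∀ i, i < 27794 → P i := stepQ 27793 Q27793 (allL N27793 (tt N26582 (iv D60563)) (tt N28456 (iv F273340)) (tt N26590 F270128) (tt N28462 (iv F273369)) (tt N28910 D61680) (tt N28052 (iv F271233)) (tt N28389 (iv F273065)) (tt N28057 (iv F271267)) (tt N26585 F270129) (tt N28464 (iv F273382)))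
theorem Q27795 : ∀ i, i < 27795 → P i := stepQ 27794 Q27794 (allL N27794 (tt N28910 (iv F275002)) (tt N26583 F270130) (tt N26591 F270131) (tt N28183 (iv F271986)) (tt N26582 (iv D60564)) (tt N28197 (iv F272070)) (tt N28390 (iv F273071)) (tt N28058 (iv F271275)) (tt N26586 F270132) (tt N28465 (iv F273386)))
theorem Q27796 : ∀ i, i < 27796 → P i := stepQ 27795 Q27795 (allL N27795 (tt N26584 (iv D60565)) (tt N28254 (iv F272407)) (tt N26593 F270133) (tt N28731 (iv F274438)) (tt N28335 (iv F272819)) (tt N26585 F270134) (tt N28228 (iv F272258)) (tt N27939 (iv F270531)) (tt N28052 (iv F271235)) (tt N28242 (iv F272344)))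
theorem Q27797 : ∀ i, i < 27797 → P i := stepQ 27796 Q27796 (allL N27796 (tt N26586 F270135) (tt N28909 (iv F275001)) (tt N26595 F270136) (tt N28906 (iv F274993)) (tt N26585 (iv D60566)) (tt N28911 D61681) (tt N28395 (iv F273100)) (tt N28908 (iv F274999)) (tt N28910 (iv F275004)) (tt N28899 (iv F274979)))
theorem Q27798 : ∀ i, i < 27798 → P i := stepQ 27797 Q27797 (allL N27797 (tt N28911 (iv F275005)) (tt N26587 F270137) (tt N26596 F270138) (tt N28250 (iv F272386)) (tt N27943 (iv F270560)) (tt N26586 (iv D60567)) (tt N28252 (iv F272397)) (tt N27945 (iv F270578)) (tt N28197 (iv F272072)) (tt N28368 (iv F272965)))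
theorem Q27799 : ∀ i, i < 27799 → P i := stepQ 27798 Q27798 (allL N27798 (tt N26588 (iv D60568)) (tt N28128 (iv F271670)) (tt N28464 (iv F273379)) (tt N26739 F270139) (tt N28912 D61682) (tt N28062 (iv F271302)) (tt N28404 (iv F273126)) (tt N28067 (iv F271338)) (tt N28900 (iv F274980)) (tt N26590 F270140))
theorem Q27800 : ∀ i, i < 27800 → P i := stepQ 27799 Q27799 (allL N27799 (tt N28912 (iv F275007)) (tt N26589 F270141) (tt N28465 (iv F273384)) (tt N28798 (iv F274700)) (tt N26588 (iv D60569)) (tt N28604 (iv F273974)) (tt N28405 (iv F273129)) (tt N28068 (iv F271345)) (tt N28901 (iv F274983)) (tt N26591 F270142))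
theorem Q27801 : ∀ i, i < 27801 → P i := stepQ 27800 Q27800 (allL N27800 (tt N26591 F270143) (tt N28175 (iv F271935)) (tt N28910 (iv F275003)) (tt N28827 (iv F274782)) (tt N26590 (iv D60570)) (tt N28708 (iv F274363)) (tt N28409 (iv F273144)) (tt N28077 (iv F271405)) (tt N26595 F270144) (tt N28912 (iv F275008)))
theorem Q27802 : ∀ i, i < 27802 → P i := stepQ 27801 Q27801 (allL N27801 (tt N26592 (iv D60571)) (tt N27933 (iv F270484)) (tt N28228 (iv F272256)) (tt N26598 F270145) (tt N27940 (iv F270537)) (tt N28414 (iv F273163)) (tt N26593 F270146) (tt N27929 (iv F270457)) (tt N28071 (iv F271363)) (tt N27931 (iv F270475)))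
theorem Q27803 : ∀ i, i < 27803 → P i := stepQ 27802 Q27802 (allL N27802 (tt N26594 F270147) (tt N27931 (iv F270468)) (tt N28335 (iv F272818)) (tt N27929 (iv F270454)) (tt N26593 (iv D60572)) (tt N28422 (iv F273181)) (tt N27940 (iv F270539)) (tt N26598 F270148) (tt N26747 F270149) (tt N27933 (iv F270491)))
theorem Q27804 : ∀ i, i < 27804 → P i := stepQ 27803 Q27803 (allL N27803 (tt N26596 F270150) (tt N28898 (iv F274976)) (tt N28911 (iv F275006)) (tt N28892 (iv F274959)) (tt N28422 (iv F273180)) (tt N26595 (iv D60573)) (tt N28913 D61683) (tt N28423 (iv F273187)) (tt N28708 (iv F274365)) (tt N28905 (iv F274991)))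
theorem Q27805 : ∀ i, i < 27805 → P i := stepQ 27804 Q27804 (allL N27804 (tt N28913 (iv F275009)) (tt N26597 F270151) (tt N28252 F272399) (tt N28893 (iv F274961)) (tt N28280 (iv F272564)) (tt N28421 (iv F273179)) (tt N26596 (iv D60574)) (tt N28293 (iv F272628)) (tt N28659 (iv F274205)) (tt N28297 (iv F272650)))
theorem Q27806 : ∀ i, i < 27806 → P i := stepQ 27805 Q27805 (allL N27805 (tt N28914 D61684) (tt N26599 (iv D60575)) (tt N28270 (iv F272506)) (tt N28445 (iv F273282)) (tt N28915 D61685) (tt N26601 F270152) (tt N28225 (iv F272241)) (tt N28257 (iv F272428)) (tt N28237 (iv F272314)) (tt N28053 (iv F271242)))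
theorem Q27807 : ∀ i, i < 27807 → P i := stepQ 27806 Q27806 (allL N27806 (tt N26613 F270153) (tt N28915 (iv F275012)) (tt N26600 F270154) (tt N28637 (iv F274120)) (tt N26599 (iv D60576)) (tt N26643 F270155) (tt N28226 (iv F272247)) (tt N28258 (iv F272435)) (tt N28238 (iv F272322)) (tt N28054 (iv F271249)))
theorem Q27808 : ∀ i, i < 27808 → P i := stepQ 27807 Q27807 (allL N27807 (tt N26601 (iv D60577)) (tt N26614 F270156) (tt N28272 (iv F272518)) (tt N28447 (iv F273294)) (tt N26644 F270157) (tt N28914 (iv F275011)) (tt N26602 F270158) (tt N28434 (iv F273239)) (tt N28253 (iv F272405)) (tt N28451 (iv F273321)))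
theorem Q27809 : ∀ i, i < 27809 → P i := stepQ 27808 Q27808 (allL N27808 (tt N26604 (iv D60578)) (tt N28451 (iv F273314)) (tt N28061 (iv F271293)) (tt N28434 (iv F273236)) (tt N26670 F270159) (tt N28466 (iv F273387)) (tt N26605 F270160) (tt N28447 (iv F273297)) (tt N28045 (iv F271187)) (tt N26614 F270161))
theorem Q27810 : ∀ i, i < 27810 → P i := stepQ 27809 Q27809 (allL N27809 (tt N28916 D61686) (tt N26607 (iv D60579)) (tt N28470 (iv F273404)) (tt N26612 F270162) (tt N28917 D61687) (tt N26609 F270163) (tt N28878 (iv F274923)) (tt N28053 (iv F271240)) (tt N28050 (iv F271221)) (tt N28257 (iv F272430)))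
theorem Q27811 : ∀ i, i < 27811 → P i := stepQ 27810 Q27810 (allL N27810 (tt N28446 (iv F273287)) (tt N28917 (iv F275016)) (tt N26608 F270164) (tt N28918 D61688) (tt N26607 (iv D60580)) (tt N28484 (iv F273476)) (tt N28879 (iv F274926)) (tt N28054 (iv F271247)) (tt N28051 (iv F271228)) (tt N28258 (iv F272437)))
theorem Q27812 : ∀ i, i < 27812 → P i := stepQ 27811 Q27811 (allL N27811 (tt N26609 (iv D60581)) (tt N28447 (iv F273293)) (tt N28472 (iv F273415)) (tt N26614 F270165) (tt N28485 (iv F273483)) (tt N28916 (iv F275015)) (tt N26623 F270166) (tt N28451 (iv F273319)) (tt N28462 (iv F273373)) (tt N28434 (iv F273240)))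
theorem Q27813 : ∀ i, i < 27813 → P i := stepQ 27812 Q27812 (allL N27812 (tt N28919 D61689) (tt N26610 (iv D60582)) (tt N26642 F270167) (tt N28878 (iv F274921)) (tt N28920 D61690) (tt N26624 F270168) (tt N26612 F270169) (tt N28231 (iv F272279)) (tt N28209 (iv F272142)) (tt N26632 F270170))
theorem Q27814 : ∀ i, i < 27814 → P i := stepQ 27813 Q27813 (allL N27813 (tt N28226 (iv F272244)) (tt N28920 (iv F275024)) (tt N26611 F270171) (tt N28921 D61691) (tt N26610 (iv D60583)) (tt N28271 (iv F272513)) (tt N26613 F270172) (tt N28232 (iv F272284)) (tt N28210 (iv F272150)) (tt N26633 F270173))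
theorem Q27815 : ∀ i, i < 27815 → P i := stepQ 27814 Q27814 (allL N27814 (tt N26612 (iv D60584)) (tt N28914 (iv F275010)) (tt N28733 (iv F274450)) (tt N28916 (iv F275014)) (tt N28922 D61692) (tt N26614 F270174) (tt N28919 (iv F275022)) (tt N28452 (iv F273324)) (tt N28731 (iv F274441)) (tt N28466 (iv F273390)))
theorem Q27816 : ∀ i, i < 27816 → P i := stepQ 27815 Q27815 (allL N27815 (tt N28922 (iv F275031)) (tt N26613 F270175) (tt N28734 (iv F274457)) (tt N28923 D61693) (tt N26612 (iv D60585)) (tt N26707 F270176) (tt N28920 (iv F275026)) (tt N28453 (iv F273329)) (tt N28732 (iv F274447)) (tt N28467 (iv F273395)))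
theorem Q27817 : ∀ i, i < 27817 → P i := stepQ 27816 Q27816 (allL N27816 (tt N28637 (iv F274118)) (tt N28923 (iv F275033)) (tt N27816 F270177) (tt N26613 (iv D60586)) (tt N28918 (iv F275018)) (tt N26708 F270178) (tt N28921 (iv F275029)) (tt N28454 (iv F273334)) (tt N28502 (iv F273563)) (tt N28468 (iv F273401)))
theorem Q27818 : ∀ i, i < 27818 → P i := stepQ 27817 Q27817 (allL N27817 (tt N28924 D61694) (tt N26615 (iv D60587)) (tt N26621 F270179) (tt N26645 F270180) (tt N28925 D61695) (tt N26617 F270181) (tt N28373 (iv F272990)) (tt N26629 F270182) (tt N28483 (iv F273472)) (tt N28073 (iv F271378)))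
theorem Q27819 : ∀ i, i < 27819 → P i := stepQ 27818 Q27818 (allL N27818 (tt N28146 (iv F271770)) (tt N28925 (iv F275039)) (tt N26616 F270183) (tt N28119 (iv F271624)) (tt N26615 (iv D60588)) (tt N28051 (iv F271226)) (tt N28374 (iv F272995)) (tt N26630 F270184) (tt N28484 (iv F273478)) (tt N28074 (iv F271386)))
theorem Q27820 : ∀ i, i < 27820 → P i := stepQ 27819 Q27819 (allL N27819 (tt N26617 (iv D60589)) (tt N28532 (iv F273684)) (tt N26623 F270185) (tt N28182 (iv F271979)) (tt N28462 (iv F273370)) (tt N28924 (iv F275037)) (tt N28472 (iv F273418)) (tt N26631 F270186) (tt N28485 (iv F273486)) (tt N28431 (iv F273220)))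
theorem Q27821 : ∀ i, i < 27821 → P i := stepQ 27820 Q27820 (allL N27820 (tt N28926 D61696) (tt N26618 (iv D60590)) (tt N28483 (iv F273468)) (tt N28383 (iv F273033)) (tt N28927 D61697) (tt N26620 F270187) (tt N28869 (iv F274898)) (tt N26632 F270188) (tt N26621 F270189) (tt N28231 (iv F272281)))
theorem Q27822 : ∀ i, i < 27822 → P i := stepQ 27821 Q27821 (allL N27821 (tt N28437 (iv F273249)) (tt N28927 (iv F275045)) (tt N26619 F270190) (tt N28928 D61698) (tt N26618 (iv D60591)) (tt N28471 (iv F273411)) (tt N28870 (iv F274902)) (tt N26633 F270191) (tt N26622 F270192) (tt N28232 (iv F272286)))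
theorem Q27823 : ∀ i, i < 27823 → P i := stepQ 27822 Q27822 (allL N27822 (tt N26620 (iv D60592)) (tt N28438 (iv F273254)) (tt N28485 (iv F273481)) (tt N28389 (iv F273064)) (tt N28472 (iv F273417)) (tt N28926 (iv F275042)) (tt N28462 (iv F273371)) (tt N26634 F270193) (tt N26623 F270194) (tt N28463 (iv F273378)))
theorem Q27824 : ∀ i, i < 27824 → P i := stepQ 27823 Q27823 (allL N27823 (tt N26621 (iv D60593)) (tt N28448 (iv F273299)) (tt N28924 (iv F275035)) (tt N26625 F270195) (tt N28929 D61699) (tt N26623 F270196) (tt N28885 (iv F274944)) (tt N26635 F270197) (tt N28926 (iv F275044)) (tt N28245 (iv F272361)))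
theorem Q27825 : ∀ i, i < 27825 → P i := stepQ 27824 Q27824 (allL N27824 (tt N28929 (iv F275050)) (tt N26622 F270198) (tt N28925 (iv F275040)) (tt N28765 (iv F274583)) (tt N26621 (iv D60594)) (tt N28490 (iv F273505)) (tt N28886 (iv F274947)) (tt N26636 F270199) (tt N28927 (iv F275047)) (tt N28246 (iv F272368)))
theorem Q27826 : ∀ i, i < 27826 → P i := stepQ 27825 Q27825 (allL N27825 (tt N26624 (iv D60595)) (tt N28227 (iv F272250)) (tt N26644 F270200) (tt N28885 (iv F274943)) (tt N28272 (iv F272519)) (tt N28919 (iv F275021)) (tt N26625 F270201) (tt N28463 (iv F273377)) (tt N28211 (iv F272156)) (tt N26634 F270202))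
theorem Q27827 : ∀ i, i < 27827 → P i := stepQ 27826 Q27826 (allL N27826 (tt N28930 D61700) (tt N26626 (iv D60596)) (tt N26632 F270203) (tt N28631 (iv F274103)) (tt N28931 D61701) (tt N26628 F270204) (tt N28059 (iv F271281)) (tt N28483 (iv F273471)) (tt N26629 F270205) (tt N26642 F270206))
theorem Q27828 : ∀ i, i < 27828 → P i := stepQ 27827 Q27827 (allL N27827 (tt N26669 F270207) (tt N28931 (iv F275057)) (tt N26627 F270208) (tt N28932 D61702) (tt N26626 (iv D60597)) (tt N28054 (iv F271245)) (tt N28060 (iv F271288)) (tt N28484 (iv F273477)) (tt N26630 F270209) (tt N26643 F270210))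
theorem Q27829 : ∀ i, i < 27829 → P i := stepQ 27828 Q27828 (allL N27828 (tt N26628 (iv D60598)) (tt N26670 F270211) (tt N26634 F270212) (tt N28630 (iv F274096)) (tt N28451 (iv F273317)) (tt N28930 (iv F275054)) (tt N26640 F270213) (tt N28485 (iv F273485)) (tt N26631 F270214) (tt N26644 F270215))
theorem Q27830 : ∀ i, i < 27830 → P i := stepQ 27829 Q27829 (allL N27829 (tt N26629 (iv D60599)) (tt N28147 (iv F271778)) (tt N26635 F270216) (tt N26649 F270217) (tt N28933 D61703) (tt N26631 F270218) (tt N28067 (iv F271337)) (tt N28924 (iv F275038)) (tt N28930 (iv F275055)) (tt N28075 (iv F271393)))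
theorem Q27831 : ∀ i, i < 27831 → P i := stepQ 27830 Q27830 (allL N27830 (tt N28933 (iv F275064)) (tt N26630 F270219) (tt N26636 F270220) (tt N28134 (iv F271708)) (tt N26629 (iv D60600)) (tt N28056 (iv F271259)) (tt N28068 (iv F271344)) (tt N28925 (iv F275041)) (tt N28931 (iv F275059)) (tt N28076 (iv F271400)))
theorem Q27832 : ∀ i, i < 27832 → P i := stepQ 27831 Q27831 (allL N27831 (tt N26632 (iv D60601)) (tt N28442 (iv F273271)) (tt N28930 (iv F275053)) (tt N28881 (iv F274931)) (tt N28934 D61704) (tt N26634 F270221) (tt N28466 (iv F273388)) (tt N28926 (iv F275043)) (tt N26635 F270222) (tt N28919 (iv F275023)))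
theorem Q27833 : ∀ i, i < 27833 → P i := stepQ 27832 Q27832 (allL N27832 (tt N28934 (iv F275066)) (tt N26633 F270223) (tt N28931 (iv F275058)) (tt N28935 D61705) (tt N26632 (iv D60602)) (tt N28481 (iv F273463)) (tt N28467 (iv F273393)) (tt N28927 (iv F275046)) (tt N26636 F270224) (tt N28920 (iv F275027)))
theorem Q27834 : ∀ i, i < 27834 → P i := stepQ 27833 Q27833 (allL N27833 (tt N28444 (iv F273277)) (tt N28935 (iv F275068)) (tt N27833 F270225) (tt N26633 (iv D60603)) (tt N28883 (iv F274937)) (tt N28482 (iv F273467)) (tt N28468 (iv F273399)) (tt N28928 (iv F275049)) (tt N28777 (iv F274627)) (tt N28921 (iv F275030)))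
theorem Q27835 : ∀ i, i < 27835 → P i := stepQ 27834 Q27834 (allL N27834 (tt N26636 F270226) (tt N28450 (iv F273310)) (tt N28933 (iv F275065)) (tt N28780 (iv F274636)) (tt N26635 (iv D60604)) (tt N28492 (iv F273516)) (tt N28469 (iv F273403)) (tt N28929 (iv F275051)) (tt N28934 (iv F275067)) (tt N28435 (iv F273244)))
theorem Q27836 : ∀ i, i < 27836 → P i := stepQ 27835 Q27835 (allL N27835 (tt N26637 (iv D60605)) (tt N26663 F270227) (tt N28000 (iv F270920)) (tt N26639 F270228) (tt N28936 D61706) (tt N28739 (iv F274484)) (tt N28476 (iv F273439)) (tt N28014 (iv F271006)) (tt N28695 (iv F274317)) (tt N28764 (iv F274581)))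
theorem Q27837 : ∀ i, i < 27837 → P i := stepQ 27836 Q27836 (allL N27836 (tt N28936 (iv F275069)) (tt N26638 F270229) (tt N28001 (iv F270926)) (tt N28246 (iv F272363)) (tt N26637 (iv D60606)) (tt N28516 (iv F273621)) (tt N28477 (iv F273445)) (tt N28015 (iv F271012)) (tt N28410 (iv F273150)) (tt N28765 (iv F274585)))
theorem Q27838 : ∀ i, i < 27838 → P i := stepQ 27837 Q27837 (allL N27837 (tt N26641 (iv D60607)) (tt N26703 F270230) (tt N28647 (iv F274160)) (tt N26644 F270231) (tt N28579 (iv F273863)) (tt N28853 (iv F274862)) (tt N26646 F270232) (tt N28499 (iv F273552)) (tt N28193 (iv F272054)) (tt N28630 (iv F274100)))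
theorem Q27839 : ∀ i, i < 27839 → P i := stepQ 27838 Q27838 (allL N27838 (tt N26642 (iv D60608)) (tt N26706 F270233) (tt N28919 (iv F275020)) (tt N28853 (iv F274861)) (tt N28937 D61707) (tt N26644 F270234) (tt N28733 (iv F274453)) (tt N28500 (iv F273556)) (tt N28736 (iv F274472)) (tt N28930 (iv F275056)))
theorem Q27840 : ∀ i, i < 27840 → P i := stepQ 27839 Q27839 (allL N27839 (tt N28937 (iv F275071)) (tt N26643 F270235) (tt N28920 (iv F275025)) (tt N28938 D61708) (tt N26642 (iv D60609)) (tt N28915 (iv F275013)) (tt N28734 (iv F274459)) (tt N28501 (iv F273558)) (tt N28737 (iv F274477)) (tt N28931 (iv F275060)))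
theorem Q27841 : ∀ i, i < 27841 → P i := stepQ 27840 Q27840 (allL N27840 (tt N26708 F270236) (tt N28938 (iv F275073)) (tt N27840 F270237) (tt N26643 (iv D60610)) (tt N28855 (iv F274870)) (tt N28637 (iv F274121)) (tt N28735 (iv F274466)) (tt N28502 (iv F273562)) (tt N28454 (iv F273335)) (tt N28932 (iv F275063)))
theorem Q27842 : ∀ i, i < 27842 → P i := stepQ 27841 Q27841 (allL N27841 (tt N26645 (iv D60611)) (tt N28597 (iv F273937)) (tt N26646 F270238) (tt N28924 (iv F275036)) (tt N28585 (iv F273888)) (tt N28182 (iv F271980)) (tt N28647 (iv F274161)) (tt N26649 F270239) (tt N28184 (iv F271997)) (tt N28623 (iv F274067)))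
theorem Q27843 : ∀ i, i < 27843 → P i := stepQ 27842 Q27842 (allL N27842 (tt N26647 (iv D60612)) (tt N26649 F270240) (tt N26723 F270241) (tt N28147 (iv F271780)) (tt N28184 (iv F271993)) (tt N28741 (iv F274494)) (tt N28142 (iv F271752)) (tt N28597 (iv F273941)) (tt N28585 (iv F273890)) (tt N28193 (iv F272055)))
theorem Q27844 : ∀ i, i < 27844 → P i := stepQ 27843 Q27843 (allL N27843 (tt N26648 (iv D60613)) (tt N28585 (iv F273886)) (tt N26651 F270242) (tt N28639 (iv F274130)) (tt N28597 (iv F273939)) (tt N28164 (iv F271877)) (tt N28518 (iv F273632)) (tt N28184 (iv F271996)) (tt N26649 F270243) (tt N28638 (iv F274128)))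
theorem Q27845 : ∀ i, i < 27845 → P i := stepQ 27844 Q27844 (allL N27844 (tt N26650 (iv D60614)) (tt N26739 F270244) (tt N28638 (iv F274124)) (tt N28128 (iv F271672)) (tt N28600 (iv F273954)) (tt N28122 (iv F271642)) (tt N28524 (iv F273659)) (tt N28142 (iv F271753)) (tt N28693 (iv F274307)) (tt N26651 F270245))
theorem Q27846 : ∀ i, i < 27846 → P i := stepQ 27845 Q27845 (allL N27845 (tt N28939 D61709) (tt N26652 (iv D60615)) (tt N26740 F270246) (tt N28598 (iv F273944)) (tt N28940 D61710) (tt N28560 (iv F273808)) (tt N28542 (iv F273726)) (tt N26724 F270247) (tt N28747 (iv F274513)) (tt N28558 (iv F273800)))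
theorem Q27847 : ∀ i, i < 27847 → P i := stepQ 27846 Q27846 (allL N27846 (tt N26657 F270248) (tt N28940 (iv F275077)) (tt N26653 F270249) (tt N28757 (iv F274548)) (tt N26652 (iv D60616)) (tt N28723 (iv F274410)) (tt N28543 (iv F273731)) (tt N26725 F270250) (tt N28748 (iv F274518)) (tt N28559 (iv F273805)))
theorem Q27848 : ∀ i, i < 27848 → P i := stepQ 27847 Q27847 (allL N27847 (tt N28941 D61711) (tt N26654 (iv D60617)) (tt N26661 F270251) (tt N28588 (iv F273906)) (tt N28942 D61712) (tt N28795 (iv F274687)) (tt N28548 (iv F273760)) (tt N28586 (iv F273896)) (tt N26656 F270252) (tt N28648 (iv F274169)))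
theorem Q27849 : ∀ i, i < 27849 → P i := stepQ 27848 Q27848 (allL N27848 (tt N28748 (iv F274514)) (tt N28942 (iv F275082)) (tt N26655 F270253) (tt N28721 (iv F274403)) (tt N26654 (iv D60618)) (tt N28725 (iv F274418)) (tt N28203 (iv F272096)) (tt N28191 F272039) (tt N26657 F270254) (tt N28649 (iv F274173)))
theorem Q27850 : ∀ i, i < 27850 → P i := stepQ 27849 Q27849 (allL N27849 (tt N26656 (iv D60619)) (tt N28939 (iv F275074)) (tt N26663 F270255) (tt N28782 (iv F274641)) (tt N28943 D61713) (tt N28797 (iv F274695)) (tt N28552 (iv F273777)) (tt N28808 (iv F274736)) (tt N28941 (iv F275081)) (tt N28825 (iv F274775)))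
theorem Q27851 : ∀ i, i < 27851 → P i := stepQ 27850 Q27850 (allL N27850 (tt N28943 (iv F275085)) (tt N26657 F270256) (tt N26664 F270257) (tt N28944 D61714) (tt N26656 (iv D60620)) (tt N28666 (iv F274220)) (tt N28553 (iv F273780)) (tt N28195 F272064) (tt N28942 (iv F275084)) (tt N28826 (iv F274779)))
theorem Q27852 : ∀ i, i < 27852 → P i := stepQ 27851 Q27851 (allL N27851 (tt N28757 (iv F274546)) (tt N28944 (iv F275087)) (tt N26658 F270258) (tt N26657 (iv D60621)) (tt N28784 (iv F274651)) (tt N28203 (iv F272095)) (tt N28554 (iv F273782)) (tt N28034 F271119) (tt N28555 (iv F273784)) (tt N28701 (iv F274340)))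
theorem Q27853 : ∀ i, i < 27853 → P i := stepQ 27852 Q27852 (allL N27852 (tt N28945 D61715) (tt N26659 (iv D60622)) (tt N28648 (iv F274165)) (tt N26690 F270259) (tt N28946 D61716) (tt N28799 (iv F274704)) (tt N28560 (iv F273809)) (tt N28517 (iv F273627)) (tt N28828 (iv F274787)) (tt N26661 F270260))
theorem Q27854 : ∀ i, i < 27854 → P i := stepQ 27853 Q27853 (allL N27853 (tt N28406 (iv F273131)) (tt N28946 (iv F275090)) (tt N26660 F270261) (tt N28126 (iv F271661)) (tt N26659 (iv D60623)) (tt N28668 (iv F274226)) (tt N28130 (iv F271683)) (tt N28461 (iv F273366)) (tt N28829 (iv F274791)) (tt N26662 F270262))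
theorem Q27855 : ∀ i, i < 27855 → P i := stepQ 27854 Q27854 (allL N27854 (tt N26661 (iv D60624)) (tt N28695 (iv F274314)) (tt N28941 (iv F275080)) (tt N26691 F270263) (tt N28947 D61717) (tt N28801 (iv F274713)) (tt N28561 (iv F273814)) (tt N28810 (iv F274743)) (tt N26663 F270264) (tt N28945 (iv F275089)))
theorem Q27856 : ∀ i, i < 27856 → P i := stepQ 27855 Q27855 (allL N27855 (tt N28947 (iv F275092)) (tt N26662 F270265) (tt N28942 (iv F275083)) (tt N28173 (iv F271926)) (tt N26661 (iv D60625)) (tt N28667 (iv F274223)) (tt N28176 (iv F271941)) (tt N28460 (iv F273360)) (tt N26664 F270266) (tt N28946 (iv F275091)))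
theorem Q27857 : ∀ i, i < 27857 → P i := stepQ 27856 Q27856 (allL N27856 (tt N26664 F270267) (tt N28936 (iv F275070)) (tt N28943 (iv F275086)) (tt N28455 (iv F273337)) (tt N26663 (iv D60626)) (tt N28665 (iv F274217)) (tt N28570 (iv F273837)) (tt N28459 (iv F273355)) (tt N28947 (iv F275093)) (tt N28840 (iv F274823)))
theorem Q27858 : ∀ i, i < 27858 → P i := stepQ 27857 Q27857 (allL N27857 (tt N28948 D61718) (tt N26665 (iv D60627)) (tt N28120 (iv F271629)) (tt N26668 F270268) (tt N28949 D61719) (tt N26667 F270269) (tt N28103 (iv F271548)) (tt N28131 (iv F271690)) (tt N28118 (iv F271620)) (tt N26701 F270270))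
theorem Q27859 : ∀ i, i < 27859 → P i := stepQ 27858 Q27858 (allL N27858 (tt N28629 (iv F274086)) (tt N28949 (iv F275097)) (tt N26666 F270271) (tt N28950 D61720) (tt N26665 (iv D60628)) (tt N28498 (iv F273543)) (tt N28104 (iv F271552)) (tt N28132 (iv F271697)) (tt N28119 (iv F271627)) (tt N26702 F270272))
theorem Q27860 : ∀ i, i < 27860 → P i := stepQ 27859 Q27859 (allL N27859 (tt N26667 (iv D60629)) (tt N28630 (iv F274094)) (tt N28693 (iv F274305)) (tt N26670 F270273) (tt N28499 (iv F273550)) (tt N28948 (iv F275095)) (tt N26673 F270274) (tt N28579 (iv F273865)) (tt N28638 (iv F274127)) (tt N26703 F270275))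
theorem Q27861 : ∀ i, i < 27861 → P i := stepQ 27860 Q27860 (allL N27860 (tt N26668 (iv D60630)) (tt N28930 (iv F275052)) (tt N28573 (iv F273842)) (tt N28948 (iv F275094)) (tt N28951 D61721) (tt N26670 F270276) (tt N28110 (iv F271576)) (tt N28582 (iv F273878)) (tt N28147 (iv F271783)) (tt N26706 F270277))
theorem Q27862 : ∀ i, i < 27862 → P i := stepQ 27861 Q27861 (allL N27861 (tt N28951 (iv F275102)) (tt N26669 F270278) (tt N28574 (iv F273848)) (tt N28952 D61722) (tt N26668 (iv D60631)) (tt N28467 (iv F273392)) (tt N28111 (iv F271581)) (tt N28583 (iv F273881)) (tt N28148 (iv F271790)) (tt N26707 F270279))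
theorem Q27863 : ∀ i, i < 27863 → P i := stepQ 27862 Q27862 (allL N27862 (tt N28932 (iv F275061)) (tt N28952 (iv F275104)) (tt N27862 F270280) (tt N26669 (iv D60632)) (tt N28950 (iv F275100)) (tt N28468 (iv F273398)) (tt N28112 (iv F271585)) (tt N28584 (iv F273884)) (tt N28672 (iv F274241)) (tt N26708 F270281))
theorem Q27864 : ∀ i, i < 27864 → P i := stepQ 27863 Q27863 (allL N27863 (tt N26671 (iv D60633)) (tt N28600 (iv F273953)) (tt N26673 F270282) (tt N28797 (iv F274694)) (tt N26739 F270283) (tt N28782 (iv F274642)) (tt N28693 (iv F274306)) (tt N26682 F270284) (tt N28524 (iv F273661)) (tt N26711 F270285))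
theorem Q27865 : ∀ i, i < 27865 → P i := stepQ 27864 Q27864 (allL N27864 (tt N26672 (iv D60634)) (tt N28622 (iv F274056)) (tt N28524 (iv F273657)) (tt N28810 (iv F274741)) (tt N28505 (iv F273577)) (tt N28785 (iv F274656)) (tt N28638 (iv F274125)) (tt N26691 F270286) (tt N26673 F270287) (tt N28518 (iv F273635)))
theorem Q27866 : ∀ i, i < 27866 → P i := stepQ 27865 Q27865 (allL N27865 (tt N26674 (iv D60635)) (tt N26682 F270288) (tt N28193 (iv F272049)) (tt N28673 (iv F274244)) (tt N28142 (iv F271750)) (tt N28851 (iv F274855)) (tt N28184 (iv F271995)) (tt N28600 (iv F273956)) (tt N28647 (iv F274163)) (tt N26723 F270289))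
theorem Q27867 : ∀ i, i < 27867 → P i := stepQ 27866 Q27866 (allL N27866 (tt N28953 D61723) (tt N26675 (iv D60636)) (tt N28588 (iv F273905)) (tt N26679 F270290) (tt N28954 D61724) (tt N28537 (iv F273711)) (tt N28145 (iv F271766)) (tt N28125 (iv F271657)) (tt N28580 (iv F273871)) (tt N28170 (iv F271910)))
theorem Q27868 : ∀ i, i < 27868 → P i := stepQ 27867 Q27867 (allL N27867 (tt N28374 (iv F272993)) (tt N28954 (iv F275107)) (tt N26676 F270291) (tt N28461 (iv F273362)) (tt N26675 (iv D60637)) (tt N28426 (iv F273194)) (tt N28146 (iv F271774)) (tt N28126 (iv F271663)) (tt N28581 (iv F273875)) (tt N28171 (iv F271917)))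
theorem Q27869 : ∀ i, i < 27869 → P i := stepQ 27868 Q27868 (allL N27868 (tt N28955 D61725) (tt N26677 (iv D60638)) (tt N26688 F270292) (tt N28537 (iv F273710)) (tt N28956 D61726) (tt N26679 F270293) (tt N28534 (iv F273698)) (tt N28519 (iv F273638)) (tt N26680 F270294) (tt N28503 (iv F273568)))
theorem Q27870 : ∀ i, i < 27870 → P i := stepQ 27869 Q27869 (allL N27869 (tt N28141 (iv F271740)) (tt N28956 (iv F275111)) (tt N26678 F270295) (tt N28957 D61727) (tt N26677 (iv D60639)) (tt N28064 (iv F271314)) (tt N28535 (iv F273703)) (tt N28520 (iv F273644)) (tt N26681 F270296) (tt N28504 (iv F273574)))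
theorem Q27871 : ∀ i, i < 27871 → P i := stepQ 27870 Q27870 (allL N27870 (tt N26679 (iv D60640)) (tt N28647 (iv F274159)) (tt N26691 F270297) (tt N28953 (iv F275106)) (tt N28518 (iv F273631)) (tt N28955 (iv F275109)) (tt N28597 (iv F273940)) (tt N28524 (iv F273660)) (tt N26682 F270298) (tt N28505 (iv F273580)))
theorem Q27872 : ∀ i, i < 27872 → P i := stepQ 27871 Q27871 (allL N27871 (tt N26680 (iv D60641)) (tt N28851 (iv F274852)) (tt N26697 F270299) (tt N28808 (iv F274733)) (tt N28958 D61728) (tt N26682 F270300) (tt N28843 (iv F274831)) (tt N28782 (iv F274643)) (tt N28955 (iv F275110)) (tt N26726 F270301))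
theorem Q27873 : ∀ i, i < 27873 → P i := stepQ 27872 Q27872 (allL N27872 (tt N28958 (iv F275115)) (tt N26681 F270302) (tt N26698 F270303) (tt N28959 D61729) (tt N26680 (iv D60642)) (tt N28066 (iv F271329)) (tt N28844 (iv F274835)) (tt N28783 (iv F274648)) (tt N28956 (iv F275113)) (tt N26727 F270304))
theorem Q27874 : ∀ i, i < 27874 → P i := stepQ 27873 Q27873 (allL N27873 (tt N27988 (iv F270842)) (tt N28959 (iv F275118)) (tt N26696 F270305) (tt N26681 (iv D60643)) (tt N28034 (iv F271116)) (tt N26695 F270306) (tt N28031 (iv F271104)) (tt N28784 (iv F274653)) (tt N28960 D61730) (tt N26728 F270307))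
theorem Q27875 : ∀ i, i < 27875 → P i := stepQ 27874 Q27874 (allL N27874 (tt N27981 (iv F270803)) (tt N28961 D61731) (tt N26683 (iv D60644)) (tt N27970 (iv F270735)) (tt N28962 D61732) (tt N28094 (iv F271506)) (tt N26686 F270308) (tt N27958 (iv F270665)) (tt N26729 F270309) (tt N26684 F270310))
theorem Q27876 : ∀ i, i < 27876 → P i := stepQ 27875 Q27875 (allL N27875 (tt N27982 (iv F270810)) (tt N28309 (iv F272710)) (tt N28962 (iv F275126)) (tt N27875 F270311) (tt N26683 (iv D60645)) (tt N28963 D61733) (tt N26687 F270312) (tt N27959 (iv F270672)) (tt N26730 F270313) (tt N26685 F270314))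
theorem Q27877 : ∀ i, i < 27877 → P i := stepQ 27876 Q27876 (allL N27876 (tt N28964 D61734) (tt N26684 (iv D60646)) (tt N28534 (iv F273695)) (tt N28789 (iv F274668)) (tt N28965 D61735) (tt N28533 (iv F273691)) (tt N26688 F270315) (tt N28549 (iv F273766)) (tt N26694 F270316) (tt N28961 (iv F275125)))
theorem Q27878 : ∀ i, i < 27878 → P i := stepQ 27877 Q27877 (allL N27877 (tt N27984 (iv F270821)) (tt N28965 (iv F275135)) (tt N26685 F270317) (tt N28966 D61736) (tt N26684 (iv D60647)) (tt N28960 (iv F275122)) (tt N26689 F270318) (tt N28550 (iv F273769)) (tt N26695 F270319) (tt N28962 (iv F275129)))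
theorem Q27879 : ∀ i, i < 27879 → P i := stepQ 27878 Q27878 (allL N27878 (tt N27985 (iv F270825)) (tt N28041 (iv F271154)) (tt N28960 (iv F275121)) (tt N27878 F270320) (tt N28027 (iv F271080)) (tt N26685 (iv D60648)) (tt N28020 (iv F271044)) (tt N28551 (iv F273774)) (tt N26696 F270321) (tt N28963 (iv F275132)))
theorem Q27880 : ∀ i, i < 27880 → P i := stepQ 27879 Q27879 (allL N27879 (tt N28967 D61737) (tt N26686 (iv D60649)) (tt N28503 (iv F273564)) (tt N28799 (iv F274703)) (tt N28968 D61738) (tt N26690 F270322) (tt N28961 (iv F275123)) (tt N28063 (iv F271309)) (tt N26734 F270323) (tt N26688 F270324))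
theorem Q27881 : ∀ i, i < 27881 → P i := stepQ 27880 Q27880 (allL N27880 (tt N28121 (iv F271634)) (tt N28968 (iv F275143)) (tt N26687 F270325) (tt N28969 D61739) (tt N26686 (iv D60650)) (tt N28520 (iv F273643)) (tt N28962 (iv F275127)) (tt N28064 (iv F271316)) (tt N26735 F270326) (tt N26689 F270327))
theorem Q27882 : ∀ i, i < 27882 → P i := stepQ 27881 Q27881 (allL N27881 (tt N26688 (iv D60651)) (tt N28696 (iv F274319)) (tt N28955 (iv F275108)) (tt N28801 (iv F274712)) (tt N28970 D61740) (tt N26691 F270328) (tt N28964 (iv F275133)) (tt N28785 (iv F274657)) (tt N26697 F270329) (tt N28967 (iv F275142)))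
theorem Q27883 : ∀ i, i < 27883 → P i := stepQ 27882 Q27882 (allL N27882 (tt N28970 (iv F275148)) (tt N26689 F270330) (tt N28956 (iv F275112)) (tt N28971 D61741) (tt N26688 (iv D60652)) (tt N28522 (iv F273651)) (tt N28965 (iv F275136)) (tt N28786 (iv F274660)) (tt N26698 F270331) (tt N28968 (iv F275145)))
theorem Q27884 : ∀ i, i < 27884 → P i := stepQ 27883 Q27883 (allL N27883 (tt N28691 (iv F274296)) (tt N28971 (iv F275150)) (tt N27883 F270332) (tt N26689 (iv D60653)) (tt N28803 (iv F274720)) (tt N28523 (iv F273655)) (tt N28966 (iv F275139)) (tt N28787 (iv F274664)) (tt N28745 (iv F274505)) (tt N28969 (iv F275147)))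
theorem Q27885 : ∀ i, i < 27885 → P i := stepQ 27884 Q27884 (allL N27884 (tt N26690 (iv D60654)) (tt N28693 (iv F274304)) (tt N28505 (iv F273576)) (tt N28945 (iv F275088)) (tt N28524 (iv F273658)) (tt N28967 (iv F275140)) (tt N28600 (iv F273955)) (tt N28518 (iv F273633)) (tt N26739 F270333) (tt N26691 F270334))
theorem Q27886 : ∀ i, i < 27886 → P i := stepQ 27885 Q27885 (allL N27885 (tt N28972 D61742) (tt N26692 (iv D60655)) (tt N28558 (iv F273795)) (tt N26699 F270335) (tt N28973 D61743) (tt N28548 (iv F273759)) (tt N28085 (iv F271456)) (tt N26694 F270336) (tt N28549 (iv F273767)) (tt N26740 F270337))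
theorem Q27887 : ∀ i, i < 27887 → P i := stepQ 27886 Q27886 (allL N27886 (tt N27973 (iv F270754)) (tt N28973 (iv F275154)) (tt N26693 F270338) (tt N26735 F270339) (tt N26692 (iv D60656)) (tt N28784 (iv F274652)) (tt N28086 (iv F271462)) (tt N26695 F270340) (tt N28550 (iv F273770)) (tt N26738 F270341))
theorem Q27888 : ∀ i, i < 27888 → P i := stepQ 27887 Q27887 (allL N27887 (tt N26694 (iv D60657)) (tt N27986 (iv F270831)) (tt N28843 (iv F274828)) (tt N26700 F270342) (tt N28974 D61744) (tt N28601 (iv F273962)) (tt N26697 F270343) (tt N28972 (iv F275152)) (tt N28964 (iv F275134)) (tt N26742 F270344))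
theorem Q27889 : ∀ i, i < 27889 → P i := stepQ 27888 Q27888 (allL N27888 (tt N28974 (iv F275158)) (tt N26695 F270345) (tt N28844 (iv F274834)) (tt N28066 (iv F271328)) (tt N26694 (iv D60658)) (tt N28959 (iv F275119)) (tt N26698 F270346) (tt N28973 (iv F275156)) (tt N28965 (iv F275137)) (tt N26743 F270347))
theorem Q27890 : ∀ i, i < 27890 → P i := stepQ 27889 Q27889 (allL N27889 (tt N26698 F270348) (tt N28705 (iv F274351)) (tt N28958 (iv F275116)) (tt N28746 (iv F274508)) (tt N26697 (iv D60659)) (tt N28525 (iv F273665)) (tt N28974 (iv F275159)) (tt N28788 (iv F274666)) (tt N28970 (iv F275149)) (tt N26744 F270349))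
theorem Q27891 : ∀ i, i < 27891 → P i := stepQ 27890 Q27890 (allL N27890 (tt N26699 (iv D60660)) (tt N27980 (iv F270798)) (tt N28532 (iv F273685)) (tt N28972 (iv F275151)) (tt N28062 (iv F271301)) (tt N28603 (iv F273970)) (tt N28093 (iv F271500)) (tt N26700 F270350) (tt N28117 (iv F271614)) (tt N26747 F270351))
theorem Q27892 : ∀ i, i < 27892 → P i := stepQ 27891 Q27891 (allL N27891 (tt N26701 (iv D60661)) (tt N28853 (iv F274860)) (tt N28696 (iv F274320)) (tt N26706 F270352) (tt N28975 D61745) (tt N26703 F270353) (tt N28775 (iv F274618)) (tt N28626 (iv F274080)) (tt N28432 (iv F273226)) (tt N28948 (iv F275096)))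
theorem Q27893 : ∀ i, i < 27893 → P i := stepQ 27892 Q27892 (allL N27892 (tt N28975 (iv F275161)) (tt N26702 F270354) (tt N28690 (iv F274293)) (tt N28976 D61746) (tt N26701 (iv D60662)) (tt N28671 (iv F274237)) (tt N28776 (iv F274621)) (tt N28627 (iv F274082)) (tt N28433 (iv F273233)) (tt N28949 (iv F275098)))
theorem Q27894 : ∀ i, i < 27894 → P i := stepQ 27893 Q27893 (allL N27893 (tt N28855 (iv F274868)) (tt N28976 (iv F275162)) (tt N27893 F270355) (tt N26702 (iv D60663)) (tt N26708 F270356) (tt N28672 (iv F274240)) (tt N28777 (iv F274626)) (tt N28628 (iv F274085)) (tt N28468 (iv F273400)) (tt N28950 (iv F275101)))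
theorem Q27895 : ∀ i, i < 27895 → P i := stepQ 27894 Q27894 (allL N27894 (tt N26704 (iv D60664)) (tt N28733 (iv F274449)) (tt N28332 (iv F272805)) (tt N28775 (iv F274616)) (tt N28977 D61747) (tt N26721 F270357) (tt N26706 F270358) (tt N28894 (iv F274964)) (tt N27941 (iv F270549)) (tt N28110 (iv F271578)))
theorem Q27896 : ∀ i, i < 27896 → P i := stepQ 27895 Q27895 (allL N27895 (tt N28977 (iv F275164)) (tt N26705 F270359) (tt N28333 (iv F272811)) (tt N28978 D61748) (tt N26704 (iv D60665)) (tt N28753 (iv F274537)) (tt N26707 F270360) (tt N28895 (iv F274967)) (tt N27942 (iv F270556)) (tt N28111 (iv F271583)))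
theorem Q27897 : ∀ i, i < 27897 → P i := stepQ 27896 Q27896 (allL N27896 (tt N28735 (iv F274462)) (tt N28978 (iv F275166)) (tt N27896 F270361) (tt N26705 (iv D60666)) (tt N28777 (iv F274625)) (tt N28754 (iv F274540)) (tt N26708 F270362) (tt N28896 (iv F274971)) (tt N28883 (iv F274939)) (tt N28112 (iv F271586)))
theorem Q27898 : ∀ i, i < 27898 → P i := stepQ 27897 Q27897 (allL N27897 (tt N26707 F270363) (tt N28937 (iv F275072)) (tt N28822 (iv F274768)) (tt N28979 D61749) (tt N26706 (iv D60667)) (tt N28922 (iv F275032)) (tt N28977 (iv F275165)) (tt N28635 (iv F274115)) (tt N28907 (iv F274996)) (tt N28951 (iv F275103)))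
theorem Q27899 : ∀ i, i < 27899 → P i := stepQ 27898 Q27898 (allL N27898 (tt N28979 (iv F275168)) (tt N26708 F270364) (tt N28980 D61750) (tt N26707 (iv D60668)) (tt N28976 (iv F275163)) (tt N28923 (iv F275034)) (tt N28978 (iv F275167)) (tt N28636 (iv F274117)) (tt N28981 D61751) (tt N28952 (iv F275105)))
theorem Q27900 : ∀ i, i < 27900 → P i := stepQ 27899 Q27899 (allL N27899 (tt N28454 (iv F273331)) (tt N28981 (iv F275170)) (tt N27899 F270365) (tt N28258 F272438) (tt N28468 (iv F273397)) (tt N28502 (iv F273561)) (tt N28883 (iv F274938)) (tt N28637 (iv F274122)) (tt N26708 (iv D60669)) (tt N28918 (iv F275019)))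
theorem Q27901 : ∀ i, i < 27901 → P i := stepQ 27900 Q27900 (allL N27900 (tt N26709 (iv D60670)) (tt N28599 (iv F273949)) (tt N26713 F270366) (tt N28825 (iv F274772)) (tt N28982 D61752) (tt N26711 F270367) (tt N28769 (iv F274597)) (tt N26726 F270368) (tt N26746 F270369) (tt N28782 (iv F274644)))
theorem Q27902 : ∀ i, i < 27902 → P i := stepQ 27901 Q27901 (allL N27901 (tt N28982 (iv F275171)) (tt N26710 F270370) (tt N26714 F270371) (tt N28983 D61753) (tt N26709 (iv D60671)) (tt N26737 F270372) (tt N28770 (iv F274601)) (tt N26727 F270373) (tt N26745 F270374) (tt N28783 (iv F274649)))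
theorem Q27903 : ∀ i, i < 27903 → P i := stepQ 27902 Q27902 (allL N27902 (tt N28002 (iv F270931)) (tt N28983 (iv F275176)) (tt N26741 F270375) (tt N26710 (iv D60672)) (tt N28701 (iv F274338)) (tt N26738 F270376) (tt N28771 (iv F274604)) (tt N26728 F270377) (tt N28751 (iv F274533)) (tt N28784 (iv F274654)))
theorem Q27904 : ∀ i, i < 27904 → P i := stepQ 27903 Q27903 (allL N27903 (tt N26714 F270378) (tt N28189 (iv F272021)) (tt N28982 (iv F275172)) (tt N28766 (iv F274588)) (tt N26713 (iv D60673)) (tt N28984 D61754) (tt N28778 (iv F274630)) (tt N26744 F270379) (tt N28072 (iv F271371)) (tt N28788 (iv F274667)))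
theorem Q27905 : ∀ i, i < 27905 → P i := stepQ 27904 Q27904 (allL N27904 (tt N28984 (iv F275179)) (tt N26715 F270380) (tt N26737 F270381) (tt N28767 (iv F274591)) (tt N26718 F270382) (tt N26714 (iv D60674)) (tt N28985 D61755) (tt N26745 F270383) (tt N26727 F270384) (tt N28509 (iv F273599)))
theorem Q27906 : ∀ i, i < 27906 → P i := stepQ 27905 Q27905 (allL N27905 (tt N28191 (iv F272032)) (tt N28985 (iv F275184)) (tt N26716 F270385) (tt N28768 (iv F274595)) (tt N26719 F270386) (tt N28727 (iv F274426)) (tt N26715 (iv D60675)) (tt N28748 (iv F274517)) (tt N26725 F270387) (tt N28507 (iv F273588)))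
theorem Q27907 : ∀ i, i < 27907 → P i := stepQ 27906 Q27906 (allL N27906 (tt N26718 F270388) (tt N28587 (iv F273899)) (tt N26736 F270389) (tt N28489 (iv F273500)) (tt N28984 (iv F275181)) (tt N26717 (iv D60676)) (tt N28986 D61756) (tt N26746 F270390) (tt N26726 F270391) (tt N28508 (iv F273594)))
theorem Q27908 : ∀ i, i < 27908 → P i := stepQ 27907 Q27907 (allL N27907 (tt N28986 (iv F275188)) (tt N26719 F270392) (tt N26731 F270393) (tt N28486 (iv F273488)) (tt N28985 (iv F275186)) (tt N28669 (iv F274229)) (tt N26718 (iv D60677)) (tt N28747 (iv F274512)) (tt N26724 F270394) (tt N28506 (iv F273584)))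
theorem Q27909 : ∀ i, i < 27909 → P i := stepQ 27908 Q27908 (allL N27908 (tt N26720 (iv D60678)) (tt N27996 (iv F270893)) (tt N28313 (iv F272729)) (tt N28760 (iv F274559)) (tt N28071 (iv F271360)) (tt N28894 (iv F274963)) (tt N26747 F270395) (tt N26721 F270396) (tt N27940 (iv F270541)) (tt N28093 (iv F271503)))
theorem Q27910 : ∀ i, i < 27910 → P i := stepQ 27909 Q27909 (allL N27909 (tt N26722 (iv D60679)) (tt N26726 F270397) (tt N28741 (iv F274492)) (tt N28843 (iv F274829)) (tt N28194 (iv F272058)) (tt N26723 F270398) (tt N28808 (iv F274735)) (tt N28599 (iv F273951)) (tt N28587 (iv F273903)) (tt N28851 (iv F274857)))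
theorem Q27911 : ∀ i, i < 27911 → P i := stepQ 27910 Q27910 (allL N27910 (tt N26724 (iv D60680)) (tt N28808 (iv F274731)) (tt N26742 F270399) (tt N28851 (iv F274854)) (tt N28987 D61757) (tt N28673 (iv F274245)) (tt N26726 F270400) (tt N28939 (iv F275076)) (tt N28986 (iv F275190)) (tt N28843 (iv F274832)))
theorem Q27912 : ∀ i, i < 27912 → P i := stepQ 27911 Q27911 (allL N27911 (tt N28987 (iv F275191)) (tt N26725 F270401) (tt N26743 F270402) (tt N28774 (iv F274613)) (tt N26724 (iv D60681)) (tt N28726 (iv F274422)) (tt N26727 F270403) (tt N28940 (iv F275079)) (tt N28985 (iv F275187)) (tt N28844 (iv F274836)))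
theorem Q27913 : ∀ i, i < 27913 → P i := stepQ 27912 Q27912 (allL N27912 (tt N26727 F270404) (tt N28194 (iv F272057)) (tt N26744 F270405) (tt N28988 D61758) (tt N26726 (iv D60682)) (tt N28072 (iv F271368)) (tt N28987 (iv F275193)) (tt N28982 (iv F275174)) (tt N28984 (iv F275183)) (tt N28958 (iv F275117)))
theorem Q27914 : ∀ i, i < 27914 → P i := stepQ 27913 Q27913 (allL N27913 (tt N28988 (iv F275194)) (tt N26728 F270406) (tt N28726 (iv F274420)) (tt N26727 (iv D60683)) (tt N28703 (iv F274345)) (tt N26743 F270407) (tt N28774 (iv F274614)) (tt N28983 (iv F275178)) (tt N28989 D61759) (tt N28959 (iv F275120)))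
theorem Q27915 : ∀ i, i < 27915 → P i := stepQ 27914 Q27914 (allL N27914 (tt N28026 (iv F271072)) (tt N28989 (iv F275196)) (tt N26733 F270408) (tt N28762 (iv F274570)) (tt N28684 (iv F274281)) (tt N26732 F270409) (tt N28772 (iv F274606)) (tt N28751 (iv F274532)) (tt N26728 (iv D60684)) (tt N28990 D61760))
theorem Q27916 : ∀ i, i < 27916 → P i := stepQ 27915 Q27915 (allL N27915 (tt N28991 D61761) (tt N26729 (iv D60685)) (tt N28506 (iv F273581)) (tt N27953 (iv F270628)) (tt N28992 D61762) (tt N28678 (iv F274263)) (tt N26734 F270410) (tt N27962 (iv F270691)) (tt N28961 (iv F275124)) (tt N26731 F270411))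
theorem Q27917 : ∀ i, i < 27917 → P i := stepQ 27916 Q27916 (allL N27916 (tt N28022 (iv F271051)) (tt N28992 (iv F275202)) (tt N26730 F270412) (tt N28086 (iv F271461)) (tt N26729 (iv D60686)) (tt N28990 (iv F275199)) (tt N26735 F270413) (tt N27963 (iv F270697)) (tt N28962 (iv F275128)) (tt N26732 F270414))
theorem Q27918 : ∀ i, i < 27918 → P i := stepQ 27917 Q27917 (allL N27917 (tt N28023 (iv F271057)) (tt N28109 (iv F271570)) (tt N28990 (iv F275198)) (tt N26748 F270415) (tt N28680 (iv F274270)) (tt N26730 (iv D60687)) (tt N28098 (iv F271527)) (tt N27964 (iv F270701)) (tt N28963 (iv F275131)) (tt N26733 F270416))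
theorem Q27919 : ∀ i, i < 27919 → P i := stepQ 27918 Q27918 (allL N27918 (tt N26731 (iv D60688)) (tt N28024 (iv F271062)) (tt N28986 (iv F275189)) (tt N28071 (iv F271359)) (tt N28993 D61763) (tt N28681 (iv F274272)) (tt N26736 F270417) (tt N28749 (iv F274522)) (tt N26742 F270418) (tt N28991 (iv F275201)))
theorem Q27920 : ∀ i, i < 27920 → P i := stepQ 27919 Q27919 (allL N27919 (tt N28993 (iv F275205)) (tt N26732 F270419) (tt N28985 (iv F275185)) (tt N28761 (iv F274564)) (tt N26731 (iv D60689)) (tt N28989 (iv F275197)) (tt N26737 F270420) (tt N28750 (iv F274527)) (tt N26743 F270421) (tt N28992 (iv F275204)))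
theorem Q27921 : ∀ i, i < 27921 → P i := stepQ 27920 Q27920 (allL N27920 (tt N26734 (iv D60690)) (tt N28122 (iv F271640)) (tt N28508 (iv F273590)) (tt N28062 (iv F271300)) (tt N28994 D61764) (tt N26739 F270422) (tt N28991 (iv F275200)) (tt N28065 (iv F271324)) (tt N28967 (iv F275141)) (tt N26736 F270423))
theorem Q27922 : ∀ i, i < 27922 → P i := stepQ 27921 Q27921 (allL N27921 (tt N28994 (iv F275208)) (tt N26735 F270424) (tt N28509 (iv F273596)) (tt N28973 (iv F275155)) (tt N26734 (iv D60691)) (tt N28783 (iv F274647)) (tt N28992 (iv F275203)) (tt N28066 (iv F271331)) (tt N28968 (iv F275144)) (tt N26737 F270425))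
theorem Q27923 : ∀ i, i < 27923 → P i := stepQ 27922 Q27922 (allL N27922 (tt N26737 F270426) (tt N28167 (iv F271893)) (tt N28984 (iv F275180)) (tt N28995 D61765) (tt N26736 (iv D60692)) (tt N28982 (iv F275173)) (tt N28993 (iv F275206)) (tt N28072 (iv F271370)) (tt N26744 F270427) (tt N28994 (iv F275209)))
theorem Q27924 : ∀ i, i < 27924 → P i := stepQ 27923 Q27923 (allL N27923 (tt N28995 (iv F275210)) (tt N26738 F270428) (tt N28940 (iv F275078)) (tt N26737 (iv D60693)) (tt N26740 F270429) (tt N28983 (iv F275177)) (tt N28761 (iv F274565)) (tt N26743 F270430) (tt N28750 (iv F274528)) (tt N28973 (iv F275157)))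
theorem Q27925 : ∀ i, i < 27925 → P i := stepQ 27924 Q27924 (allL N27924 (tt N26740 (iv D60694)) (tt N28000 (iv F270919)) (tt N28939 (iv F275075)) (tt N26747 F270431) (tt N28995 (iv F275211)) (tt N28699 (iv F274332)) (tt N28760 (iv F274560)) (tt N26742 F270432) (tt N28749 (iv F274523)) (tt N28972 (iv F275153)))
theorem Q27926 : ∀ i, i < 27926 → P i := stepQ 27925 Q27925 (allL N27925 (tt N26743 F270433) (tt N28032 (iv F271107)) (tt N28987 (iv F275192)) (tt N28072 (iv F271367)) (tt N26742 (iv D60695)) (tt N28988 (iv F275195)) (tt N26744 F270434) (tt N28995 (iv F275212)) (tt N28993 (iv F275207)) (tt N28974 (iv F275160)))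
theorem Q27927 : ∀ i, i < 27927 → P i := stepQ 27926 Q27926 (allL N27926 (tt N26745 F270435) (tt N28602 (iv F273966)) (tt N28072 (iv F271366)) (tt N28781 (iv F274639)) (tt N26746 F270436) (tt N26744 (iv D60696)) (tt N28773 (iv F274610)) (tt N28984 (iv F275182)) (tt N28982 (iv F275175)) (tt N28525 (iv F273666)))
theorem Q27928 : ∀ i, i < 27928 → P i := stepQ 27927 Q27927 (allL N27927 (tt N28996 D61766) (tt N26749 (iv D60697)) (tt N27056 F270437) (tt N27232 F270438) (tt N28997 D61767) (tt N26751 F270439) (tt N27102 F270440) (tt N27223 F270441) (tt N27604 F270442) (tt N26756 F270443))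
theorem Q27929 : ∀ i, i < 27929 → P i := stepQ 27928 Q27928 (allL N27928 (tt N27174 F270444) (tt N28997 (iv F275221)) (tt N26750 F270445) (tt N27764 F270446) (tt N26749 (iv D60698)) (tt N26765 F270447) (tt N27103 F270448) (tt N27224 F270449) (tt N27605 F270450) (tt N26757 F270451))
theorem Q27930 : ∀ i, i < 27930 → P i := stepQ 27929 Q27929 (allL N27929 (tt N26751 (iv D60699)) (tt N27573 F270452) (tt N27058 F270453) (tt N27802 F270454) (tt N26766 F270455) (tt N28996 (iv F275216)) (tt N27570 F270456) (tt N27801 F270457) (tt N27606 F270458) (tt N26758 F270459))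
theorem Q27931 : ∀ i, i < 27931 → P i := stepQ 27930 Q27930 (allL N27930 (tt N28998 D61768) (tt N26752 (iv D60700)) (tt N27033 F270460) (tt N27173 F270461) (tt N27774 F270462) (tt N26753 F270463) (tt N27168 F270464) (tt N26756 F270465) (tt N26823 F270466) (tt N27223 F270467))
theorem Q27932 : ∀ i, i < 27932 → P i := stepQ 27931 Q27931 (allL N27931 (tt N26753 (iv D60701)) (tt N27802 F270468) (tt N27061 F270469) (tt N27573 F270470) (tt N26767 F270471) (tt N28998 (iv F275233)) (tt N27574 F270472) (tt N26758 F270473) (tt N26825 F270474) (tt N27801 F270475))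
theorem Q27933 : ∀ i, i < 27933 → P i := stepQ 27932 Q27932 (allL N27932 (tt N28999 D61769) (tt N26754 (iv D60702)) (tt N27179 F270476) (tt N26756 F270477) (tt N27783 F270478) (tt N26755 F270479) (tt N27115 F270480) (tt N27173 F270481) (tt N26970 F270482) (tt N27232 F270483))
theorem Q27934 : ∀ i, i < 27934 → P i := stepQ 27933 Q27933 (allL N27933 (tt N26755 (iv D60703)) (tt N27801 F270484) (tt N27181 F270485) (tt N26758 F270486) (tt N27574 F270487) (tt N28999 (iv F275242)) (tt N26767 F270488) (tt N27573 F270489) (tt N26972 F270490) (tt N27802 F270491))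
theorem Q27935 : ∀ i, i < 27935 → P i := stepQ 27934 Q27934 (allL N27934 (tt N26756 (iv D60704)) (tt N27233 F270492) (tt N27071 F270493) (tt N28999 (iv F275240)) (tt N29000 D61770) (tt N26758 F270494) (tt N27121 F270495) (tt N28998 (iv F275235)) (tt N26846 F270496) (tt N28996 (iv F275220)))
theorem Q27936 : ∀ i, i < 27936 → P i := stepQ 27935 Q27935 (allL N27935 (tt N29000 (iv F275247)) (tt N26757 F270497) (tt N27072 F270498) (tt N29001 D61771) (tt N26756 (iv D60705)) (tt N26773 F270499) (tt N27122 F270500) (tt N27774 F270501) (tt N26847 F270502) (tt N28997 (iv F275228)))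
theorem Q27937 : ∀ i, i < 27937 → P i := stepQ 27936 Q27936 (allL N27936 (tt N27209 F270503) (tt N29001 (iv F275254)) (tt N26759 F270504) (tt N26757 (iv D60706)) (tt N27750 F270505) (tt N26774 F270506) (tt N27123 F270507) (tt N27742 F270508) (tt N29002 D61772) (tt N27764 F270509))
theorem Q27938 : ∀ i, i < 27938 → P i := stepQ 27937 Q27937 (allL N27937 (tt N27203 F270510) (tt N27342 F270511) (tt N29002 (iv F275262)) (tt N26760 F270512) (tt N27747 F270513) (tt N26776 F270514) (tt N27125 F270515) (tt N27259 F270516) (tt N26759 (iv D60707)) (tt N29003 D61773))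
theorem Q27939 : ∀ i, i < 27939 → P i := stepQ 27938 Q27938 (allL N27938 (tt N27240 F270517) (tt N27323 F270518) (tt N26858 F270519) (tt N29003 (iv F275270)) (tt N27938 F270520) (tt N26777 F270521) (tt N27126 F270522) (tt N27042 F270523) (tt N27938 F270524) (tt N26760 (iv D60708)))
theorem Q27940 : ∀ i, i < 27940 → P i := stepQ 27939 Q27939 (allL N27939 (tt N26761 (iv D60709)) (tt N27082 F270525) (tt N26762 F270526) (tt N27775 F270527) (tt N27585 F270528) (tt N27788 F270529) (tt N27571 F270530) (tt N27795 F270531) (tt N26875 F270532) (tt N27577 F270533))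
theorem Q27941 : ∀ i, i < 27941 → P i := stepQ 27940 Q27940 (allL N27940 (tt N26763 (iv D60710)) (tt N27574 F270534) (tt N27157 F270535) (tt N27570 F270536) (tt N27801 F270537) (tt N27770 F270538) (tt N27802 F270539) (tt N26766 F270540) (tt N27908 F270541) (tt N26767 F270542))
theorem Q27942 : ∀ i, i < 27942 → P i := stepQ 27941 Q27941 (allL N27941 (tt N26764 (iv D60711)) (tt N27583 F270543) (tt N27175 F270544) (tt N27572 F270545) (tt N29004 D61774) (tt N26766 F270546) (tt N27786 F270547) (tt N27770 F270548) (tt N27894 F270549) (tt N26772 F270550))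
theorem Q27943 : ∀ i, i < 27943 → P i := stepQ 27942 Q27942 (allL N27942 (tt N29004 (iv F275276)) (tt N26765 F270551) (tt N27176 F270552) (tt N27763 F270553) (tt N26764 (iv D60712)) (tt N28997 (iv F275224)) (tt N27787 F270554) (tt N27771 F270555) (tt N27895 F270556) (tt N26773 F270557))
theorem Q27944 : ∀ i, i < 27944 → P i := stepQ 27943 Q27943 (allL N27943 (tt N29005 D61775) (tt N26769 (iv D60713)) (tt N27232 F270558) (tt N27106 F270559) (tt N27797 F270560) (tt N27149 F270561) (tt N27107 F270562) (tt N26770 F270563) (tt N27013 F270564) (tt N27179 F270565))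
theorem Q27945 : ∀ i, i < 27945 → P i := stepQ 27944 Q27944 (allL N27944 (tt N26770 (iv D60714)) (tt N27784 F270566) (tt N27233 F270567) (tt N27772 F270568) (tt N29006 D61776) (tt N27585 F270569) (tt N26772 F270570) (tt N29005 (iv F275290)) (tt N27015 F270571) (tt N27786 F270572))
theorem Q27946 : ∀ i, i < 27946 → P i := stepQ 27945 Q27945 (allL N27945 (tt N29006 (iv F275293)) (tt N26771 F270573) (tt N27234 F270574) (tt N27792 F270575) (tt N26770 (iv D60715)) (tt N27789 F270576) (tt N26773 F270577) (tt N27797 F270578) (tt N27016 F270579) (tt N27787 F270580))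
theorem Q27947 : ∀ i, i < 27947 → P i := stepQ 27946 Q27946 (allL N27946 (tt N26773 F270581) (tt N27790 F270582) (tt N27235 F270583) (tt N29007 D61777) (tt N26772 (iv D60716)) (tt N29000 (iv F275250)) (tt N29006 (iv F275298)) (tt N27773 F270584) (tt N27017 F270585) (tt N29004 (iv F275283)))
theorem Q27948 : ∀ i, i < 27948 → P i := stepQ 27947 Q27947 (allL N27947 (tt N29007 (iv F275302)) (tt N26774 F270586) (tt N29008 D61778) (tt N26773 (iv D60717)) (tt N27196 F270587) (tt N29001 (iv F275257)) (tt N27792 F270588) (tt N27741 F270589) (tt N29009 D61779) (tt N27763 F270590))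
theorem Q27949 : ∀ i, i < 27949 → P i := stepQ 27948 Q27948 (allL N27948 (tt N27202 F270591) (tt N29009 (iv F275316)) (tt N26776 F270592) (tt N27019 F270593) (tt N27195 F270594) (tt N29002 (iv F275265)) (tt N27282 F270595) (tt N27258 F270596) (tt N26774 (iv D60718)) (tt N29010 D61780))
theorem Q27950 : ∀ i, i < 27950 → P i := stepQ 27949 Q27949 (allL N27949 (tt N27112 F270597) (tt N29008 (iv F275308)) (tt N26775 (iv D60719)) (tt N27231 F270598) (tt N27108 F270599) (tt N27767 F270600) (tt N27068 F270601) (tt N27169 F270602) (tt N27341 F270603) (tt N27190 F270604))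
theorem Q27951 : ∀ i, i < 27951 → P i := stepQ 27950 Q27950 (allL N27950 (tt N27200 F270605) (tt N27315 F270606) (tt N29010 (iv F275323)) (tt N26777 F270607) (tt N26863 F270608) (tt N29003 (iv F275272)) (tt N26867 F270609) (tt N27041 F270610) (tt N27752 F270611) (tt N26776 (iv D60720)))
theorem Q27952 : ∀ i, i < 27952 → P i := stepQ 27951 Q27951 (allL N27951 (tt N26928 F270612) (tt N29011 D61781) (tt N26778 (iv D60721)) (tt N27507 F270613) (tt N29012 D61782) (tt N26779 F270614) (tt N27210 F270615) (tt N26788 F270616) (tt N26797 F270617) (tt N26887 F270618))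
theorem Q27953 : ∀ i, i < 27953 → P i := stepQ 27952 Q27952 (allL N27952 (tt N26929 F270619) (tt N27255 F270620) (tt N29012 (iv F275337)) (tt N27952 F270621) (tt N26778 (iv D60722)) (tt N26908 F270622) (tt N27211 F270623) (tt N26789 F270624) (tt N26798 F270625) (tt N26888 F270626))
theorem Q27954 : ∀ i, i < 27954 → P i := stepQ 27953 Q27953 (allL N27953 (tt N29013 D61783) (tt N26779 (iv D60723)) (tt N27256 F270627) (tt N27915 F270628) (tt N26909 F270629) (tt N29011 (iv F275331)) (tt N26879 F270630) (tt N26790 F270631) (tt N26799 F270632) (tt N26889 F270633))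
theorem Q27955 : ∀ i, i < 27955 → P i := stepQ 27954 Q27954 (allL N27954 (tt N27478 F270634) (tt N29014 D61784) (tt N26780 (iv D60724)) (tt N26821 F270635) (tt N29015 D61785) (tt N27138 F270636) (tt N26815 F270637) (tt N27335 F270638) (tt N27140 F270639) (tt N27599 F270640))
theorem Q27956 : ∀ i, i < 27956 → P i := stepQ 27955 Q27955 (allL N27955 (tt N27479 F270641) (tt N26786 F270642) (tt N29015 (iv F275359)) (tt N26782 F270643) (tt N26780 (iv D60725)) (tt N29016 D61786) (tt N26816 F270644) (tt N27336 F270645) (tt N27141 F270646) (tt N27600 F270647))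
theorem Q27957 : ∀ i, i < 27957 → P i := stepQ 27956 Q27956 (allL N27956 (tt N27443 F270648) (tt N26914 F270649) (tt N26782 F270650) (tt N29017 D61787) (tt N26781 (iv D60726)) (tt N29018 D61788) (tt N26849 F270651) (tt N27361 F270652) (tt N27956 F270653) (tt N27551 F270654))
theorem Q27958 : ∀ i, i < 27958 → P i := stepQ 27957 Q27957 (allL N27957 (tt N27546 F270655) (tt N26787 F270656) (tt N29018 (iv F275380)) (tt N29016 (iv F275366)) (tt N27957 F270657) (tt N26782 (iv D60727)) (tt N29019 D61789) (tt N26923 F270658) (tt N27957 F270659) (tt N27566 F270660))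
theorem Q27959 : ∀ i, i < 27959 → P i := stepQ 27958 Q27958 (allL N27958 (tt N27646 F270661) (tt N29020 D61790) (tt N26783 (iv D60728)) (tt N26801 F270662) (tt N29021 D61791) (tt N27133 F270663) (tt N27524 F270664) (tt N27874 F270665) (tt N26785 F270666) (tt N27381 F270667))
theorem Q27960 : ∀ i, i < 27960 → P i := stepQ 27959 Q27959 (allL N27959 (tt N27647 F270668) (tt N27141 F270669) (tt N29021 (iv F275402)) (tt N27959 F270670) (tt N26783 (iv D60729)) (tt N29022 D61792) (tt N27569 F270671) (tt N27875 F270672) (tt N26786 F270673) (tt N27382 F270674))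
theorem Q27961 : ∀ i, i < 27961 → P i := stepQ 27960 Q27960 (allL N27960 (tt N27393 F270675) (tt N29023 D61793) (tt N26784 (iv D60730)) (tt N26788 F270676) (tt N29024 D61794) (tt N26785 F270677) (tt N27302 F270678) (tt N27507 F270679) (tt N27133 F270680) (tt N27505 F270681))
theorem Q27962 : ∀ i, i < 27962 → P i := stepQ 27961 Q27961 (allL N27961 (tt N27394 F270682) (tt N27139 F270683) (tt N29024 (iv F275422)) (tt N27961 F270684) (tt N26784 (iv D60731)) (tt N29025 D61795) (tt N27303 F270685) (tt N27508 F270686) (tt N27134 F270687) (tt N27506 F270688))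
theorem Q27963 : ∀ i, i < 27963 → P i := stepQ 27962 Q27962 (allL N27962 (tt N29026 D61796) (tt N26785 (iv D60732)) (tt N29014 (iv F275351)) (tt N26790 F270689) (tt N29027 D61797) (tt N29023 (iv F275416)) (tt N27586 F270690) (tt N27915 F270691) (tt N29020 (iv F275399)) (tt N27601 F270692))
theorem Q27964 : ∀ i, i < 27964 → P i := stepQ 27963 Q27963 (allL N27963 (tt N27649 F270693) (tt N29027 (iv F275439)) (tt N26786 F270694) (tt N26921 F270695) (tt N26785 (iv D60733)) (tt N29028 D61798) (tt N27587 F270696) (tt N27916 F270697) (tt N29021 (iv F275405)) (tt N27602 F270698))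
theorem Q27965 : ∀ i, i < 27965 → P i := stepQ 27964 Q27964 (allL N27964 (tt N27650 F270699) (tt N29016 (iv F275365)) (tt N29028 (iv F275445)) (tt N26787 F270700) (tt N29025 (iv F275430)) (tt N26786 (iv D60734)) (tt N29029 D61799) (tt N27917 F270701) (tt N29022 (iv F275412)) (tt N27603 F270702))
theorem Q27966 : ∀ i, i < 27966 → P i := stepQ 27965 Q27965 (allL N27965 (tt N27548 F270703) (tt N29019 (iv F275387)) (tt N26923 F270704) (tt N29029 (iv F275450)) (tt N27965 F270705) (tt N27361 F270706) (tt N26787 (iv D60735)) (tt N29018 (iv F275383)) (tt N27965 F270707) (tt N27567 F270708))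
theorem Q27967 : ∀ i, i < 27967 → P i := stepQ 27966 Q27966 (allL N27966 (tt N29030 D61800) (tt N26788 (iv D60736)) (tt N27260 F270709) (tt N29023 (iv F275415)) (tt N29031 D61801) (tt N26790 F270710) (tt N27308 F270711) (tt N29011 (iv F275333)) (tt N26806 F270712) (tt N27604 F270713))
theorem Q27968 : ∀ i, i < 27968 → P i := stepQ 27967 Q27967 (allL N27967 (tt N27403 F270714) (tt N29031 (iv F275459)) (tt N26789 F270715) (tt N29032 D61802) (tt N26788 (iv D60737)) (tt N26925 F270716) (tt N27309 F270717) (tt N29012 (iv F275340)) (tt N26807 F270718) (tt N27605 F270719))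
theorem Q27969 : ∀ i, i < 27969 → P i := stepQ 27968 Q27968 (allL N27968 (tt N26790 (iv D60738)) (tt N27651 F270720) (tt N27262 F270721) (tt N29026 (iv F275435)) (tt N26926 F270722) (tt N29030 (iv F275455)) (tt N27588 F270723) (tt N29013 (iv F275348)) (tt N26808 F270724) (tt N27606 F270725))
theorem Q27970 : ∀ i, i < 27970 → P i := stepQ 27969 Q27969 (allL N27969 (tt N29033 D61803) (tt N26791 (iv D60739)) (tt N27265 F270726) (tt N27693 F270727) (tt N26930 F270728) (tt N27777 F270729) (tt N26799 F270730) (tt N26878 F270731) (tt N26879 F270732) (tt N26814 F270733))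
theorem Q27971 : ∀ i, i < 27971 → P i := stepQ 27970 Q27970 (allL N27970 (tt N27381 F270734) (tt N29034 D61804) (tt N26792 (iv D60740)) (tt N27874 F270735) (tt N29035 D61805) (tt N27376 F270736) (tt N27656 F270737) (tt N26801 F270738) (tt N26793 F270739) (tt N27646 F270740))
theorem Q27972 : ∀ i, i < 27972 → P i := stepQ 27971 Q27971 (allL N27971 (tt N27382 F270741) (tt N27611 F270742) (tt N29035 (iv F275487)) (tt N27971 F270743) (tt N26792 (iv D60741)) (tt N29036 D61806) (tt N27657 F270744) (tt N26802 F270745) (tt N26794 F270746) (tt N27647 F270747))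
theorem Q27973 : ∀ i, i < 27973 → P i := stepQ 27972 Q27972 (allL N27972 (tt N29037 D61807) (tt N26793 (iv D60742)) (tt N27615 F270748) (tt N26799 F270749) (tt N29038 D61808) (tt N27607 F270750) (tt N27693 F270751) (tt N26803 F270752) (tt N29034 (iv F275484)) (tt N26817 F270753))
theorem Q27974 : ∀ i, i < 27974 → P i := stepQ 27973 Q27973 (allL N27973 (tt N27886 F270754) (tt N29038 (iv F275506)) (tt N26794 F270755) (tt N26936 F270756) (tt N26793 (iv D60743)) (tt N29039 D61809) (tt N27694 F270757) (tt N26804 F270758) (tt N29035 (iv F275490)) (tt N26818 F270759))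
theorem Q27975 : ∀ i, i < 27975 → P i := stepQ 27974 Q27974 (allL N27974 (tt N27641 F270760) (tt N27324 F270761) (tt N29039 (iv F275513)) (tt N26795 F270762) (tt N27609 F270763) (tt N26794 (iv D60744)) (tt N29040 D61810) (tt N26805 F270764) (tt N29036 (iv F275497)) (tt N26819 F270765))
theorem Q27976 : ∀ i, i < 27976 → P i := stepQ 27975 Q27975 (allL N27975 (tt N26914 F270766) (tt N27322 F270767) (tt N26911 F270768) (tt N29040 (iv F275520)) (tt N26809 F270769) (tt N27737 F270770) (tt N26795 (iv D60745)) (tt N27135 F270771) (tt N27975 F270772) (tt N26820 F270773))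
theorem Q27977 : ∀ i, i < 27977 → P i := stepQ 27976 Q27976 (allL N27976 (tt N27417 F270774) (tt N29041 D61811) (tt N26796 (iv D60746)) (tt N27599 F270775) (tt N29042 D61812) (tt N27163 F270776) (tt N26797 F270777) (tt N27314 F270778) (tt N27210 F270779) (tt N26821 F270780))
theorem Q27978 : ∀ i, i < 27978 → P i := stepQ 27977 Q27977 (allL N27977 (tt N27418 F270781) (tt N27041 F270782) (tt N29042 (iv F275533)) (tt N26811 F270783) (tt N26796 (iv D60747)) (tt N29043 D61813) (tt N26798 F270784) (tt N27315 F270785) (tt N27211 F270786) (tt N26822 F270787))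
theorem Q27979 : ∀ i, i < 27979 → P i := stepQ 27978 Q27978 (allL N27978 (tt N29044 D61814) (tt N26797 (iv D60748)) (tt N27266 F270788) (tt N27607 F270789) (tt N29045 D61815) (tt N26799 F270790) (tt N29041 (iv F275528)) (tt N26806 F270791) (tt N29011 (iv F275334)) (tt N26823 F270792))
theorem Q27980 : ∀ i, i < 27980 → P i := stepQ 27979 Q27979 (allL N27979 (tt N27435 F270793) (tt N29045 (iv F275552)) (tt N26798 F270794) (tt N29046 D61816) (tt N26797 (iv D60749)) (tt N26941 F270795) (tt N29042 (iv F275534)) (tt N26807 F270796) (tt N29012 (iv F275341)) (tt N26824 F270797))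
theorem Q27981 : ∀ i, i < 27981 → P i := stepQ 27980 Q27980 (allL N27980 (tt N26799 (iv D60750)) (tt N27890 F270798) (tt N27268 F270799) (tt N29037 (iv F275501)) (tt N26942 F270800) (tt N29044 (iv F275549)) (tt N29033 (iv F275475)) (tt N26808 F270801) (tt N29013 (iv F275349)) (tt N26825 F270802))
theorem Q27982 : ∀ i, i < 27982 → P i := stepQ 27981 Q27981 (allL N27981 (tt N27874 F270803) (tt N29047 D61817) (tt N26800 (iv D60751)) (tt N27381 F270804) (tt N29048 D61818) (tt N26912 F270805) (tt N26933 F270806) (tt N27646 F270807) (tt N26834 F270808) (tt N26801 F270809))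
theorem Q27983 : ∀ i, i < 27983 → P i := stepQ 27982 Q27982 (allL N27982 (tt N27875 F270810) (tt N26919 F270811) (tt N29048 (iv F275571)) (tt N27982 F270812) (tt N26800 (iv D60752)) (tt N29049 D61819) (tt N26934 F270813) (tt N27647 F270814) (tt N26835 F270815) (tt N26802 F270816))
theorem Q27984 : ∀ i, i < 27984 → P i := stepQ 27983 Q27983 (allL N27983 (tt N29050 D61820) (tt N26801 (iv D60753)) (tt N27628 F270817) (tt N29020 (iv F275395)) (tt N29051 D61821) (tt N27622 F270818) (tt N27523 F270819) (tt N29034 (iv F275483)) (tt N26803 F270820) (tt N29047 (iv F275569)))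
theorem Q27985 : ∀ i, i < 27985 → P i := stepQ 27984 Q27984 (allL N27984 (tt N27877 F270821) (tt N29051 (iv F275589)) (tt N26802 F270822) (tt N29052 D61822) (tt N26801 (iv D60754)) (tt N29053 D61823) (tt N27517 F270823) (tt N29035 (iv F275489)) (tt N26804 F270824) (tt N29048 (iv F275575)))
theorem Q27986 : ∀ i, i < 27986 → P i := stepQ 27985 Q27985 (allL N27985 (tt N27878 F270825) (tt N27325 F270826) (tt N29053 (iv F275598)) (tt N27985 F270827) (tt N27624 F270828) (tt N26802 (iv D60755)) (tt N27511 F270829) (tt N29036 (iv F275496)) (tt N26805 F270830) (tt N29049 (iv F275583)))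
theorem Q27987 : ∀ i, i < 27987 → P i := stepQ 27986 Q27986 (allL N27986 (tt N26803 (iv D60756)) (tt N27887 F270831) (tt N27633 F270832) (tt N26808 F270833) (tt N29054 D61824) (tt N27625 F270834) (tt N27535 F270835) (tt N29037 (iv F275504)) (tt N29050 (iv F275588)) (tt N26842 F270836))
theorem Q27988 : ∀ i, i < 27988 → P i := stepQ 27987 Q27987 (allL N27987 (tt N29054 (iv F275602)) (tt N26804 F270837) (tt N27634 F270838) (tt N26955 F270839) (tt N26803 (iv D60757)) (tt N29055 D61825) (tt N27533 F270840) (tt N29038 (iv F275510)) (tt N29051 (iv F275592)) (tt N26843 F270841))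
theorem Q27989 : ∀ i, i < 27989 → P i := stepQ 27988 Q27988 (allL N27988 (tt N27873 F270842) (tt N29055 (iv F275608)) (tt N26805 F270843) (tt N26956 F270844) (tt N27627 F270845) (tt N26804 (iv D60758)) (tt N27530 F270846) (tt N29039 (iv F275516)) (tt N29053 (iv F275601)) (tt N26844 F270847))
theorem Q27990 : ∀ i, i < 27990 → P i := stepQ 27989 Q27989 (allL N27989 (tt N26806 (iv D60759)) (tt N27436 F270848) (tt N27269 F270849) (tt N27625 F270850) (tt N29056 D61826) (tt N26808 F270851) (tt N27319 F270852) (tt N29044 (iv F275550)) (tt N29030 (iv F275457)) (tt N26846 F270853))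
theorem Q27991 : ∀ i, i < 27991 → P i := stepQ 27990 Q27990 (allL N27990 (tt N29056 (iv F275614)) (tt N26807 F270854) (tt N27270 F270855) (tt N29057 D61827) (tt N26806 (iv D60760)) (tt N26962 F270856) (tt N27320 F270857) (tt N29045 (iv F275555)) (tt N29031 (iv F275463)) (tt N26847 F270858))
theorem Q27992 : ∀ i, i < 27992 → P i := stepQ 27991 Q27991 (allL N27991 (tt N27438 F270859) (tt N29057 (iv F275620)) (tt N26813 F270860) (tt N26807 (iv D60761)) (tt N27560 F270861) (tt N26963 F270862) (tt N27321 F270863) (tt N29046 (iv F275561)) (tt N29058 D61828) (tt N26848 F270864))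
theorem Q27993 : ∀ i, i < 27993 → P i := stepQ 27992 Q27992 (allL N27992 (tt N27442 F270865) (tt N27135 F270866) (tt N26811 F270867) (tt N29059 D61829) (tt N26810 (iv D60762)) (tt N27565 (iv F270872)) (tt N26812 F270868) (tt N27322 F270869) (tt N27992 F270870) (tt N26852 F270871))
theorem Q27994 : ∀ i, i < 27994 → P i := stepQ 27993 Q27993 (allL N27993 (tt N27242 F270873) (tt N27042 F270874) (tt N27565 F270875) (tt N29043 (iv F275540)) (tt N27993 F270876) (tt N26811 (iv D60763)) (tt N26964 F270877) (tt N27323 F270878) (tt N27993 F270879) (tt N26853 F270880))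
theorem Q27995 : ∀ i, i < 27995 → P i := stepQ 27994 Q27994 (allL N27994 (tt N27447 F270881) (tt N27527 F270882) (tt N29046 (iv F275558)) (tt N26812 (iv D60764)) (tt N27554 F270883) (tt N26965 F270884) (tt N29059 (iv F275635)) (tt N26813 F270885) (tt N29060 D61830) (tt N26854 F270886))
theorem Q27996 : ∀ i, i < 27996 → P i := stepQ 27995 Q27995 (allL N27995 (tt N27448 F270887) (tt N27511 F270888) (tt N29058 (iv F275627)) (tt N27995 F270889) (tt N27561 F270890) (tt N26966 F270891) (tt N27325 F270892) (tt N29060 (iv F275643)) (tt N26813 (iv D60765)) (tt N29061 D61831))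
theorem Q27997 : ∀ i, i < 27997 → P i := stepQ 27996 Q27996 (allL N27996 (tt N26814 (iv D60766)) (tt N27908 F270893) (tt N27274 F270894) (tt N27696 F270895) (tt N26972 F270896) (tt N27779 F270897) (tt N26825 F270898) (tt N27580 F270899) (tt N27574 F270900) (tt N29033 (iv F275478)))
theorem Q27998 : ∀ i, i < 27998 → P i := stepQ 27997 Q27997 (allL N27997 (tt N29062 D61832) (tt N26815 (iv D60767)) (tt N27586 F270901) (tt N26823 F270902) (tt N29063 D61833) (tt N26817 F270903) (tt N29014 (iv F275354)) (tt N26839 F270904) (tt N27676 F270905) (tt N27607 F270906))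
theorem Q27999 : ∀ i, i < 27999 → P i := stepQ 27998 Q27998 (allL N27998 (tt N27526 F270907) (tt N29063 (iv F275660)) (tt N26816 F270908) (tt N29064 D61834) (tt N26815 (iv D60768)) (tt N29065 D61835) (tt N29015 (iv F275360)) (tt N26840 F270909) (tt N27677 F270910) (tt N27608 F270911))
theorem Q28000 : ∀ i, i < 28000 → P i := stepQ 27999 Q27999 (allL N27999 (tt N27527 F270912) (tt N27362 F270913) (tt N29065 (iv F275673)) (tt N26850 F270914) (tt N26819 F270915) (tt N26816 (iv D60769)) (tt N29066 D61836) (tt N26841 F270916) (tt N27678 F270917) (tt N27609 F270918))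
theorem Q28001 : ∀ i, i < 28001 → P i := stepQ 28000 Q28000 (allL N28000 (tt N26817 (iv D60770)) (tt N27924 F270919) (tt N27835 F270920) (tt N26825 F270921) (tt N29067 D61837) (tt N29062 (iv F275656)) (tt N27696 F270922) (tt N26842 F270923) (tt N27679 F270924) (tt N29037 (iv F275505)))
theorem Q28002 : ∀ i, i < 28002 → P i := stepQ 28001 Q28001 (allL N28001 (tt N29067 (iv F275686)) (tt N26818 F270925) (tt N27836 F270926) (tt N26979 F270927) (tt N26817 (iv D60771)) (tt N29068 D61838) (tt N27697 F270928) (tt N26843 F270929) (tt N27680 F270930) (tt N29038 (iv F275511)))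
theorem Q28003 : ∀ i, i < 28003 → P i := stepQ 28002 Q28002 (allL N28002 (tt N27902 F270931) (tt N29068 (iv F275693)) (tt N26819 F270932) (tt N26980 F270933) (tt N29065 (iv F275675)) (tt N26818 (iv D60772)) (tt N29069 D61839) (tt N26844 F270934) (tt N27681 F270935) (tt N29039 (iv F275517)))
theorem Q28004 : ∀ i, i < 28004 → P i := stepQ 28003 Q28003 (allL N28003 (tt N27638 F270936) (tt N27363 F270937) (tt N29069 (iv F275699)) (tt N26820 F270938) (tt N29066 (iv F275682)) (tt N27699 F270939) (tt N26819 (iv D60773)) (tt N27386 F270940) (tt N27568 F270941) (tt N29040 (iv F275524)))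
theorem Q28005 : ∀ i, i < 28005 → P i := stepQ 28004 Q28004 (allL N28004 (tt N29070 D61840) (tt N26821 (iv D60774)) (tt N27257 F270942) (tt N29014 (iv F275352)) (tt N29071 D61841) (tt N27165 F270943) (tt N26823 F270944) (tt N27340 F270945) (tt N27168 F270946) (tt N29041 (iv F275531)))
theorem Q28006 : ∀ i, i < 28006 → P i := stepQ 28005 Q28005 (allL N28005 (tt N27488 F270947) (tt N29071 (iv F275710)) (tt N26822 F270948) (tt N29072 D61842) (tt N26821 (iv D60775)) (tt N29073 D61843) (tt N26824 F270949) (tt N27341 F270950) (tt N27169 F270951) (tt N29042 (iv F275537)))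
theorem Q28007 : ∀ i, i < 28007 → P i := stepQ 28006 Q28006 (allL N28006 (tt N27222 F270952) (tt N27259 F270953) (tt N29073 (iv F275722)) (tt N26853 F270954) (tt N27167 F270955) (tt N26822 (iv D60776)) (tt N26986 F270956) (tt N27342 F270957) (tt N27114 F270958) (tt N29043 (iv F275545)))
theorem Q28008 : ∀ i, i < 28008 → P i := stepQ 28007 Q28007 (allL N28007 (tt N26823 (iv D60777)) (tt N27536 F270959) (tt N27276 F270960) (tt N29062 (iv F275655)) (tt N29074 D61844) (tt N26825 F270961) (tt N29070 (iv F275707)) (tt N26846 F270962) (tt N28998 (iv F275236)) (tt N29044 (iv F275551)))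
theorem Q28009 : ∀ i, i < 28009 → P i := stepQ 28008 Q28008 (allL N28008 (tt N29074 (iv F275728)) (tt N26824 F270963) (tt N27277 F270964) (tt N29075 D61845) (tt N26823 (iv D60778)) (tt N26988 F270965) (tt N29071 (iv F275712)) (tt N26847 F270966) (tt N27774 F270967) (tt N29045 (iv F275556)))
theorem Q28010 : ∀ i, i < 28010 → P i := stepQ 28009 Q28009 (allL N28009 (tt N27538 F270968) (tt N29075 (iv F275734)) (tt N26854 F270969) (tt N26824 (iv D60779)) (tt N29064 (iv F275667)) (tt N26989 F270970) (tt N29072 (iv F275717)) (tt N26848 F270971) (tt N27400 (iv F270972)) (tt N29046 (iv F275562)))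
theorem Q28011 : ∀ i, i < 28011 → P i := stepQ 28010 Q28010 (allL N28010 (tt N27346 F270973) (tt N29076 D61846) (tt N26826 (iv D60780)) (tt N26947 F270974) (tt N29077 D61847) (tt N26916 F270975) (tt N26931 F270976) (tt N27520 F270977) (tt N26918 F270978) (tt N26827 F270979))
theorem Q28012 : ∀ i, i < 28012 → P i := stepQ 28011 Q28011 (allL N28011 (tt N27288 F270980) (tt N26835 F270981) (tt N29077 (iv F275747)) (tt N26859 F270982) (tt N26826 (iv D60781)) (tt N27365 (iv F270987)) (tt N26932 F270983) (tt N27243 F270984) (tt N26919 F270985) (tt N26828 F270986))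
theorem Q28013 : ∀ i, i < 28013 → P i := stepQ 28012 Q28012 (allL N28012 (tt N29078 D61848) (tt N26827 (iv D60782)) (tt N26836 F270988) (tt N27452 F270989) (tt N29079 D61849) (tt N27595 F270990) (tt N26975 F270991) (tt N27522 F270992) (tt N26829 F270993) (tt N29076 (iv F275745)))
theorem Q28014 : ∀ i, i < 28014 → P i := stepQ 28013 Q28013 (allL N28013 (tt N27287 F270994) (tt N29079 (iv F275761)) (tt N26828 F270995) (tt N27188 F270996) (tt N26827 (iv D60783)) (tt N27360 (iv F271000)) (tt N26976 F270997) (tt N27220 F270998) (tt N26830 F270999) (tt N29077 (iv F275752)))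
theorem Q28015 : ∀ i, i < 28015 → P i := stepQ 28014 Q28014 (allL N28014 (tt N26829 (iv D60784)) (tt N27673 F271001) (tt N26842 F271002) (tt N27278 F271003) (tt N29080 D61850) (tt N27597 F271004) (tt N27591 F271005) (tt N27835 F271006) (tt N29078 (iv F275760)) (tt N27633 F271007))
theorem Q28016 : ∀ i, i < 28016 → P i := stepQ 28015 Q28015 (allL N28015 (tt N29080 (iv F275768)) (tt N26830 F271008) (tt N26843 F271009) (tt N27253 F271010) (tt N26829 (iv D60785)) (tt N27359 (iv F271014)) (tt N27592 F271011) (tt N27836 F271012) (tt N29079 (iv F275766)) (tt N27634 F271013))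
theorem Q28017 : ∀ i, i < 28017 → P i := stepQ 28016 Q28016 (allL N28016 (tt N27507 F271015) (tt N29081 D61851) (tt N26831 (iv D60786)) (tt N26928 F271016) (tt N29082 D61852) (tt N26834 F271017) (tt N27349 F271018) (tt N27393 F271019) (tt N26912 F271020) (tt N26832 F271021))
theorem Q28018 : ∀ i, i < 28018 → P i := stepQ 28017 Q28017 (allL N28017 (tt N27508 F271022) (tt N26917 F271023) (tt N29082 (iv F275784)) (tt N28017 F271024) (tt N26831 (iv D60787)) (tt N29083 D61853) (tt N27350 F271025) (tt N27394 F271026) (tt N26913 F271027) (tt N26833 F271028))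
theorem Q28019 : ∀ i, i < 28019 → P i := stepQ 28018 Q28018 (allL N28018 (tt N29084 D61854) (tt N26832 (iv D60788)) (tt N27595 F271029) (tt N26970 F271030) (tt N29085 D61855) (tt N26836 F271031) (tt N27351 F271032) (tt N27676 F271033) (tt N26839 F271034) (tt N29081 (iv F275782)))
theorem Q28020 : ∀ i, i < 28020 → P i := stepQ 28019 Q28019 (allL N28019 (tt N27510 F271035) (tt N29085 (iv F275804)) (tt N26833 F271036) (tt N29086 D61856) (tt N26832 (iv D60789)) (tt N29087 D61857) (tt N27352 F271037) (tt N27677 F271038) (tt N26840 F271039) (tt N29082 (iv F275788)))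
theorem Q28021 : ∀ i, i < 28021 → P i := stepQ 28020 Q28020 (allL N28020 (tt N27511 F271040) (tt N27364 F271041) (tt N29087 (iv F275815)) (tt N28020 F271042) (tt N26838 F271043) (tt N26833 (iv D60790)) (tt N27878 F271044) (tt N27678 F271045) (tt N26841 F271046) (tt N29083 (iv F275796)))
theorem Q28022 : ∀ i, i < 28022 → P i := stepQ 28021 Q28021 (allL N28021 (tt N29088 D61858) (tt N26834 (iv D60791)) (tt N29076 (iv F275739)) (tt N26930 F271047) (tt N29089 D61859) (tt N29081 (iv F275778)) (tt N26935 F271048) (tt N27648 F271049) (tt N29047 (iv F275568)) (tt N26836 F271050))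
theorem Q28023 : ∀ i, i < 28023 → P i := stepQ 28022 Q28022 (allL N28022 (tt N27916 F271051) (tt N29089 (iv F275825)) (tt N26835 F271052) (tt N27694 F271053) (tt N26834 (iv D60792)) (tt N29090 D61860) (tt N26936 F271054) (tt N27649 F271055) (tt N29048 (iv F275574)) (tt N26837 F271056))
theorem Q28024 : ∀ i, i < 28024 → P i := stepQ 28023 Q28023 (allL N28023 (tt N27917 F271057) (tt N27365 F271058) (tt N29090 (iv F275831)) (tt N26860 F271059) (tt N29083 (iv F275792)) (tt N26835 (iv D60793)) (tt N29091 D61861) (tt N27650 F271060) (tt N29049 (iv F275582)) (tt N26838 F271061))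
theorem Q28025 : ∀ i, i < 28025 → P i := stepQ 28024 Q28024 (allL N28024 (tt N26836 (iv D60794)) (tt N27918 F271062) (tt N29078 (iv F275755)) (tt N26972 F271063) (tt N29092 D61862) (tt N29084 (iv F275800)) (tt N26978 F271064) (tt N27679 F271065) (tt N26842 F271066) (tt N29088 (iv F275824)))
theorem Q28026 : ∀ i, i < 28026 → P i := stepQ 28025 Q28025 (allL N28025 (tt N29092 (iv F275843)) (tt N26837 F271067) (tt N29079 (iv F275762)) (tt N27697 F271068) (tt N26836 (iv D60795)) (tt N29093 D61863) (tt N26979 F271069) (tt N27680 F271070) (tt N26843 F271071) (tt N29089 (iv F275829)))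
theorem Q28027 : ∀ i, i < 28027 → P i := stepQ 28026 Q28026 (allL N28026 (tt N27914 F271072) (tt N29093 (iv F275849)) (tt N26838 F271073) (tt N27698 F271074) (tt N29087 (iv F275816)) (tt N26837 (iv D60796)) (tt N29094 D61864) (tt N27681 F271075) (tt N26844 F271076) (tt N29090 (iv F275834)))
theorem Q28028 : ∀ i, i < 28028 → P i := stepQ 28027 Q28027 (allL N28027 (tt N27624 F271077) (tt N26856 F271078) (tt N29094 (iv F275855)) (tt N26857 F271079) (tt N27878 F271080) (tt N26981 F271081) (tt N26838 (iv D60797)) (tt N27385 (iv F271083)) (tt N26845 F271082) (tt N29091 (iv F275841)))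
theorem Q28029 : ∀ i, i < 28029 → P i := stepQ 28028 Q28028 (allL N28028 (tt N26839 (iv D60798)) (tt N27528 F271084) (tt N27597 F271085) (tt N26846 F271086) (tt N29095 D61865) (tt N26842 F271087) (tt N27355 F271088) (tt N29062 (iv F275657)) (tt N29084 (iv F275803)) (tt N27625 F271089))
theorem Q28030 : ∀ i, i < 28030 → P i := stepQ 28029 Q28029 (allL N28029 (tt N29095 (iv F275861)) (tt N26840 F271090) (tt N27598 F271091) (tt N29096 D61866) (tt N26839 (iv D60799)) (tt N29097 D61867) (tt N27356 F271092) (tt N29063 (iv F275662)) (tt N29085 (iv F275808)) (tt N27626 F271093))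
theorem Q28031 : ∀ i, i < 28031 → P i := stepQ 28030 Q28030 (allL N28030 (tt N27449 F271094) (tt N29096 (iv F275866)) (tt N26855 F271095) (tt N26840 (iv D60800)) (tt N26848 F271096) (tt N27706 (iv F271099)) (tt N27357 F271097) (tt N29064 (iv F275668)) (tt N29098 D61868) (tt N27560 F271098))
theorem Q28032 : ∀ i, i < 28032 → P i := stepQ 28031 Q28031 (allL N28031 (tt N27530 F271100) (tt N29097 (iv F275872)) (tt N26841 F271101) (tt N27706 F271102) (tt N26844 F271103) (tt N26840 (iv D60801)) (tt N27873 F271104) (tt N29065 (iv F275676)) (tt N29087 (iv F275819)) (tt N27627 F271105))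
theorem Q28033 : ∀ i, i < 28033 → P i := stepQ 28032 Q28032 (allL N28032 (tt N26843 F271106) (tt N27925 F271107) (tt N29080 (iv F275770)) (tt N27010 F271108) (tt N26842 (iv D60802)) (tt N29099 D61869) (tt N27593 F271109) (tt N29067 (iv F275691)) (tt N29092 (iv F275848)) (tt N29054 (iv F275607)))
theorem Q28034 : ∀ i, i < 28034 → P i := stepQ 28033 Q28033 (allL N28033 (tt N29099 (iv F275884)) (tt N26844 F271110) (tt N27359 F271111) (tt N27011 F271112) (tt N29097 (iv F275875)) (tt N26843 (iv D60803)) (tt N29100 D61870) (tt N29068 (iv F275696)) (tt N29093 (iv F275853)) (tt N29055 (iv F275613)))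
theorem Q28035 : ∀ i, i < 28035 → P i := stepQ 28034 Q28034 (allL N28034 (tt N27627 F271113) (tt N29100 (iv F275888)) (tt N26845 F271114) (tt N27012 F271115) (tt N27873 F271116) (tt N27021 F271117) (tt N26844 (iv D60804)) (tt N27851 (iv F271119)) (tt N29094 (iv F275859)) (tt N27530 F271118))
theorem Q28036 : ∀ i, i < 28036 → P i := stepQ 28035 Q28035 (allL N28035 (tt N26847 F271120) (tt N27539 F271121) (tt N27285 F271122) (tt N29101 D61871) (tt N26846 (iv D60805)) (tt N27017 F271123) (tt N27358 F271124) (tt N29074 (iv F275732)) (tt N29000 (iv F275253)) (tt N29056 (iv F275619)))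
theorem Q28037 : ∀ i, i < 28037 → P i := stepQ 28036 Q28036 (allL N28036 (tt N29101 (iv F275895)) (tt N26848 F271125) (tt N29100 (iv F275889)) (tt N26847 (iv D60806)) (tt N29096 (iv F275868)) (tt N27018 F271126) (tt N27359 F271127) (tt N29075 (iv F275737)) (tt N29102 D61872) (tt N29057 (iv F275625)))
theorem Q28038 : ∀ i, i < 28038 → P i := stepQ 28037 Q28037 (allL N28037 (tt N27541 F271128) (tt N29102 (iv F275899)) (tt N26856 F271129) (tt N29002 (iv F275263)) (tt N29098 (iv F275880)) (tt N27019 F271130) (tt N27360 F271131) (tt N27400 F271132) (tt N26848 (iv D60807)) (tt N29103 D61873))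
theorem Q28039 : ∀ i, i < 28039 → P i := stepQ 28038 Q28038 (allL N28038 (tt N27445 F271133) (tt N27641 F271134) (tt N29064 (iv F275666)) (tt N26849 (iv D60808)) (tt N26854 F271135) (tt N27390 F271136) (tt N29017 (iv F275374)) (tt N26855 F271137) (tt N27397 F271139) (tt N27554 F271138))
theorem Q28040 : ∀ i, i < 28040 → P i := stepQ 28039 Q28039 (allL N28039 (tt N27135 F271140) (tt N27361 F271141) (tt N26900 F271142) (tt N29066 (iv F275681)) (tt N26851 F271143) (tt N29019 (iv F275390)) (tt N26850 (iv D60809)) (tt N26914 F271144) (tt N28039 F271145) (tt N27378 F271146))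
theorem Q28041 : ∀ i, i < 28041 → P i := stepQ 28040 Q28040 (allL N28040 (tt N27550 F271147) (tt N27386 F271148) (tt N29072 (iv F275716)) (tt N26852 (iv D60810)) (tt N29017 (iv F275373)) (tt N27553 F271149) (tt N26854 F271150) (tt N27363 F271151) (tt N27401 F271152) (tt N29059 (iv F275637)))
theorem Q28042 : ∀ i, i < 28042 → P i := stepQ 28041 Q28041 (allL N28041 (tt N27450 F271153) (tt N27878 F271154) (tt N29098 (iv F275879)) (tt N28041 F271155) (tt N26856 F271156) (tt N27369 F271157) (tt N27364 F271158) (tt N27397 F271159) (tt N26855 (iv D60811)) (tt N29104 D61874))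
theorem Q28043 : ∀ i, i < 28043 → P i := stepQ 28042 Q28042 (allL N28042 (tt N27559 F271160) (tt N29091 (iv F275836)) (tt N29103 (iv F275904)) (tt N26858 F271161) (tt N29104 (iv F275911)) (tt N27022 F271162) (tt N27365 F271163) (tt N27144 F271164) (tt N29061 (iv F275652)) (tt N26856 (iv D60812)))
theorem Q28044 : ∀ i, i < 28044 → P i := stepQ 28043 Q28043 (allL N28043 (tt N26915 F271165) (tt N26858 F271166) (tt N27737 F271167) (tt N29091 (iv F275837)) (tt N28043 F271168) (tt N26911 F271169) (tt N26860 F271170) (tt N27136 F271171) (tt N28043 F271172) (tt N26857 (iv D60813)))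
theorem Q28045 : ∀ i, i < 28045 → P i := stepQ 28044 Q28044 (allL N28044 (tt N29105 D61875) (tt N26861 (iv D60814)) (tt N26879 F271173) (tt N27281 F271174) (tt N27366 F271175) (tt N27292 F271176) (tt N27256 F271177) (tt N26862 F271178) (tt N27265 F271179) (tt N26868 F271180))
theorem Q28046 : ∀ i, i < 28046 → P i := stepQ 28045 Q28045 (allL N28045 (tt N26862 (iv D60815)) (tt N27290 F271181) (tt N26886 F271182) (tt N27283 F271183) (tt N27675 F271184) (tt N27297 F271185) (tt N27280 F271186) (tt N29105 (iv F275922)) (tt N27808 F271187) (tt N26875 F271188))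
theorem Q28047 : ∀ i, i < 28047 → P i := stepQ 28046 Q28046 (allL N28046 (tt N27199 F271189) (tt N29106 D61876) (tt N26863 (iv D60816)) (tt N26865 F271190) (tt N29010 (iv F275325)) (tt N27743 F271191) (tt N26866 F271192) (tt N27040 F271193) (tt N27751 F271194) (tt N27195 F271195))
theorem Q28048 : ∀ i, i < 28048 → P i := stepQ 28047 Q28047 (allL N28047 (tt N27049 F271196) (tt N29107 D61877) (tt N26864 (iv D60817)) (tt N27743 F271197) (tt N29108 D61878) (tt N26865 F271198) (tt N27197 F271199) (tt N27043 F271200) (tt N27026 F271201) (tt N27254 F271202))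
theorem Q28049 : ∀ i, i < 28049 → P i := stepQ 28048 Q28048 (allL N28048 (tt N27050 F271203) (tt N26888 F271204) (tt N29108 (iv F275940)) (tt N28048 F271205) (tt N26864 (iv D60818)) (tt N27131 F271206) (tt N27198 F271207) (tt N27044 F271208) (tt N27027 F271209) (tt N27255 F271210))
theorem Q28050 : ∀ i, i < 28050 → P i := stepQ 28049 Q28049 (allL N28049 (tt N29109 D61879) (tt N26865 (iv D60819)) (tt N26889 F271211) (tt N29106 (iv F275926)) (tt N27132 F271212) (tt N29107 (iv F275934)) (tt N26868 F271213) (tt N27045 F271214) (tt N27046 F271215) (tt N27256 F271216))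
theorem Q28051 : ∀ i, i < 28051 → P i := stepQ 28050 Q28050 (allL N28050 (tt N29110 D61880) (tt N26866 (iv D60820)) (tt N27316 F271217) (tt N26868 F271218) (tt N29111 D61881) (tt N27289 F271219) (tt N29106 (iv F275928)) (tt N26871 F271220) (tt N27809 F271221) (tt N27281 F271222))
theorem Q28052 : ∀ i, i < 28052 → P i := stepQ 28051 Q28051 (allL N28051 (tt N27293 F271223) (tt N29111 (iv F275960)) (tt N26867 F271224) (tt N27731 F271225) (tt N26866 (iv D60821)) (tt N27818 F271226) (tt N29010 (iv F275326)) (tt N26872 F271227) (tt N27810 F271228) (tt N27282 F271229))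
theorem Q28053 : ∀ i, i < 28053 → P i := stepQ 28052 Q28052 (allL N28052 (tt N26868 (iv D60822)) (tt N27294 F271230) (tt N26890 F271231) (tt N29110 (iv F275955)) (tt N27736 F271232) (tt N27793 F271233) (tt N29109 (iv F275949)) (tt N26875 F271234) (tt N27795 F271235) (tt N29105 (iv F275924)))
theorem Q28054 : ∀ i, i < 28054 → P i := stepQ 28053 Q28053 (allL N28053 (tt N29112 D61882) (tt N26869 (iv D60823)) (tt N27308 F271236) (tt N27272 F271237) (tt N29113 D61883) (tt N27271 F271238) (tt N27260 F271239) (tt N27809 F271240) (tt N26871 F271241) (tt N27805 F271242))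
theorem Q28055 : ∀ i, i < 28055 → P i := stepQ 28054 Q28054 (allL N28054 (tt N27296 F271243) (tt N29113 (iv F275975)) (tt N26870 F271244) (tt N29114 D61884) (tt N26869 (iv D60824)) (tt N27827 F271245) (tt N27261 F271246) (tt N27810 F271247) (tt N26872 F271248) (tt N27806 F271249))
theorem Q28056 : ∀ i, i < 28056 → P i := stepQ 28055 Q28055 (allL N28055 (tt N26871 (iv D60825)) (tt N27297 F271250) (tt N27319 F271251) (tt N26875 F271252) (tt N29115 D61885) (tt N27290 F271253) (tt N27269 F271254) (tt N29110 (iv F275957)) (tt N29112 (iv F275973)) (tt N27283 F271255))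
theorem Q28057 : ∀ i, i < 28057 → P i := stepQ 28056 Q28056 (allL N28056 (tt N29115 (iv F275990)) (tt N26872 F271256) (tt N27320 F271257) (tt N27733 F271258) (tt N26871 (iv D60826)) (tt N27830 F271259) (tt N27270 F271260) (tt N29111 (iv F275964)) (tt N29113 (iv F275980)) (tt N27284 F271261))
theorem Q28058 : ∀ i, i < 28058 → P i := stepQ 28057 Q28057 (allL N28057 (tt N26873 (iv D60827)) (tt N27283 F271262) (tt N26897 F271263) (tt N27290 F271264) (tt N29116 D61886) (tt N26875 F271265) (tt N27252 F271266) (tt N27793 F271267) (tt N27788 F271268) (tt N27297 F271269))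
theorem Q28059 : ∀ i, i < 28059 → P i := stepQ 28058 Q28058 (allL N28058 (tt N29116 (iv F275997)) (tt N26874 F271270) (tt N26898 F271271) (tt N27592 F271272) (tt N26873 (iv D60828)) (tt N27016 F271273) (tt N27253 F271274) (tt N27794 F271275) (tt N27789 F271276) (tt N27298 F271277))
theorem Q28060 : ∀ i, i < 28060 → P i := stepQ 28059 Q28059 (allL N28059 (tt N29117 D61887) (tt N26876 (iv D60829)) (tt N27295 F271278) (tt N27720 F271279) (tt N29118 D61888) (tt N26878 F271280) (tt N27826 F271281) (tt N27777 F271282) (tt N26884 F271283) (tt N27578 F271284))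
theorem Q28061 : ∀ i, i < 28061 → P i := stepQ 28060 Q28060 (allL N28060 (tt N26925 F271285) (tt N29118 (iv F276014)) (tt N26877 F271286) (tt N29119 D61889) (tt N26876 (iv D60830)) (tt N27403 F271287) (tt N27827 F271288) (tt N27778 F271289) (tt N26885 F271290) (tt N27579 F271291))
theorem Q28062 : ∀ i, i < 28062 → P i := stepQ 28061 Q28061 (allL N28061 (tt N26878 (iv D60831)) (tt N26926 F271292) (tt N27808 F271293) (tt N27725 F271294) (tt N27651 F271295) (tt N29117 (iv F276009)) (tt N27589 F271296) (tt N29033 (iv F275476)) (tt N26886 F271297) (tt N27580 F271298))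
theorem Q28063 : ∀ i, i < 28063 → P i := stepQ 28062 Q28062 (allL N28062 (tt N26879 (iv D60832)) (tt N26942 F271299) (tt N29105 (iv F275917)) (tt N27920 F271300) (tt N27890 F271301) (tt N27798 F271302) (tt N29013 (iv F275347)) (tt N26886 F271303) (tt N29033 (iv F275477)) (tt N26890 F271304))
theorem Q28064 : ∀ i, i < 28064 → P i := stepQ 28063 Q28063 (allL N28063 (tt N29120 D61890) (tt N26880 (iv D60833)) (tt N27351 F271305) (tt N27668 F271306) (tt N29121 D61891) (tt N27347 F271307) (tt N27595 F271308) (tt N27879 F271309) (tt N26882 F271310) (tt N27642 F271311))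
theorem Q28065 : ∀ i, i < 28065 → P i := stepQ 28064 Q28064 (allL N28064 (tt N26951 F271312) (tt N29121 (iv F276037)) (tt N26881 F271313) (tt N29122 D61892) (tt N26880 (iv D60834)) (tt N27869 F271314) (tt N27596 F271315) (tt N27880 F271316) (tt N26883 F271317) (tt N27643 F271318))
theorem Q28066 : ∀ i, i < 28066 → P i := stepQ 28065 Q28065 (allL N28065 (tt N26882 (iv D60835)) (tt N26954 F271319) (tt N27355 F271320) (tt N26886 F271321) (tt N29123 D61893) (tt N27348 F271322) (tt N27597 F271323) (tt N27920 F271324) (tt N29120 (iv F276035)) (tt N26891 F271325))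
theorem Q28067 : ∀ i, i < 28067 → P i := stepQ 28066 Q28066 (allL N28066 (tt N29123 (iv F276052)) (tt N26883 F271326) (tt N27356 F271327) (tt N27888 F271328) (tt N26882 (iv D60836)) (tt N27872 F271329) (tt N27598 F271330) (tt N27921 F271331) (tt N29121 (iv F276042)) (tt N26892 F271332))
theorem Q28068 : ∀ i, i < 28068 → P i := stepQ 28067 Q28067 (allL N28067 (tt N26884 (iv D60837)) (tt N26961 F271333) (tt N27297 F271334) (tt N27348 F271335) (tt N29124 D61894) (tt N26886 F271336) (tt N27829 F271337) (tt N27798 F271338) (tt N29117 (iv F276012)) (tt N26897 F271339))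
theorem Q28069 : ∀ i, i < 28069 → P i := stepQ 28068 Q28068 (allL N28068 (tt N29124 (iv F276060)) (tt N26885 F271340) (tt N27298 F271341) (tt N27666 F271342) (tt N26884 (iv D60838)) (tt N27437 F271343) (tt N27830 F271344) (tt N27799 F271345) (tt N29118 (iv F276019)) (tt N26898 F271346))
theorem Q28070 : ∀ i, i < 28070 → P i := stepQ 28069 Q28069 (allL N28069 (tt N29125 D61895) (tt N26887 (iv D60839)) (tt N29107 (iv F275932)) (tt N27509 F271347) (tt N29126 D61896) (tt N26889 F271348) (tt N27212 F271349) (tt N27604 F271350) (tt N27223 F271351) (tt N29011 (iv F275335)))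
theorem Q28071 : ∀ i, i < 28071 → P i := stepQ 28070 Q28070 (allL N28070 (tt N26971 F271352) (tt N29126 (iv F276074)) (tt N26888 F271353) (tt N29127 D61897) (tt N26887 (iv D60840)) (tt N27769 F271354) (tt N27213 F271355) (tt N27605 F271356) (tt N27224 F271357) (tt N29012 (iv F275342)))
theorem Q28072 : ∀ i, i < 28072 → P i := stepQ 28071 Q28071 (allL N28071 (tt N26889 (iv D60841)) (tt N26972 F271358) (tt N29109 (iv F275947)) (tt N27918 F271359) (tt N27908 F271360) (tt N29125 (iv F276070)) (tt N26890 F271361) (tt N27606 F271362) (tt N27801 F271363) (tt N29013 (iv F275350)))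
theorem Q28073 : ∀ i, i < 28073 → P i := stepQ 28072 Q28072 (allL N28072 (tt N26892 F271364) (tt N27010 F271365) (tt N27926 F271366) (tt N27925 F271367) (tt N26891 (iv D60842)) (tt N27912 F271368) (tt N27635 F271369) (tt N27922 F271370) (tt N27903 F271371) (tt N29123 (iv F276059)))
theorem Q28074 : ∀ i, i < 28074 → P i := stepQ 28073 Q28073 (allL N28073 (tt N29128 D61898) (tt N26893 (iv D60843)) (tt N27064 F271372) (tt N27453 F271373) (tt N29129 D61899) (tt N27246 F271374) (tt N27187 F271375) (tt N26895 F271376) (tt N27062 F271377) (tt N27817 F271378))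
theorem Q28075 : ∀ i, i < 28075 → P i := stepQ 28074 Q28074 (allL N28074 (tt N27014 F271379) (tt N29129 (iv F276093)) (tt N26894 F271380) (tt N26976 F271381) (tt N26893 (iv D60844)) (tt N27282 F271382) (tt N27188 F271383) (tt N26896 F271384) (tt N27063 F271385) (tt N27818 F271386))
theorem Q28076 : ∀ i, i < 28076 → P i := stepQ 28075 Q28075 (allL N28075 (tt N26895 (iv D60845)) (tt N27015 F271387) (tt N27252 F271388) (tt N27504 F271389) (tt N29130 D61900) (tt N27249 F271390) (tt N26897 F271391) (tt N29128 (iv F276090)) (tt N27784 F271392) (tt N27829 F271393))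
theorem Q28077 : ∀ i, i < 28077 → P i := stepQ 28076 Q28076 (allL N28076 (tt N29130 (iv F276101)) (tt N26896 F271394) (tt N27253 F271395) (tt N26999 F271396) (tt N26895 (iv D60846)) (tt N27284 F271397) (tt N26898 F271398) (tt N29129 (iv F276098)) (tt N27785 F271399) (tt N27830 F271400))
theorem Q28078 : ∀ i, i < 28078 → P i := stepQ 28077 Q28077 (allL N28077 (tt N26898 F271401) (tt N27017 F271402) (tt N29116 (iv F275999)) (tt N27717 F271403) (tt N26897 (iv D60847)) (tt N27539 F271404) (tt N29130 (iv F276106)) (tt N27800 F271405) (tt N27790 F271406) (tt N29124 (iv F276067)))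
theorem Q28079 : ∀ i, i < 28079 → P i := stepQ 28078 Q28078 (allL N28078 (tt N27133 F271407) (tt N29131 D61901) (tt N26899 (iv D60848)) (tt N27367 F271408) (tt N29132 D61902) (tt N27646 F271409) (tt N27389 F271410) (tt N26912 F271411) (tt N27393 F271412) (tt N27376 F271413))
theorem Q28080 : ∀ i, i < 28080 → P i := stepQ 28079 Q28079 (allL N28079 (tt N27134 F271414) (tt N26904 F271415) (tt N29132 (iv F276117)) (tt N26900 F271416) (tt N26899 (iv D60849)) (tt N29133 D61903) (tt N27390 F271417) (tt N26913 F271418) (tt N27394 F271419) (tt N27377 F271420))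
theorem Q28081 : ∀ i, i < 28081 → P i := stepQ 28080 Q28080 (allL N28080 (tt N27136 F271421) (tt N26905 F271422) (tt N29019 (iv F275388)) (tt N29133 (iv F276124)) (tt N28080 F271423) (tt N26900 (iv D60850)) (tt N29018 (iv F275382)) (tt N26915 F271424) (tt N28080 F271425) (tt N27379 F271426))
theorem Q28082 : ∀ i, i < 28082 → P i := stepQ 28081 Q28081 (allL N28081 (tt N27656 F271427) (tt N29134 D61904) (tt N26901 (iv D60851)) (tt N26933 F271428) (tt N29135 D61905) (tt N27520 F271429) (tt N27381 F271430) (tt N26916 F271431) (tt N26903 F271432) (tt N27524 F271433))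
theorem Q28083 : ∀ i, i < 28083 → P i := stepQ 28082 Q28082 (allL N28082 (tt N27657 F271434) (tt N27394 F271435) (tt N29135 (iv F276137)) (tt N28082 F271436) (tt N26901 (iv D60852)) (tt N29136 D61906) (tt N27382 F271437) (tt N26917 F271438) (tt N26904 F271439) (tt N27569 F271440))
theorem Q28084 : ∀ i, i < 28084 → P i := stepQ 28083 Q28083 (allL N28083 (tt N27689 F271441) (tt N29137 D61907) (tt N26902 (iv D60853)) (tt N26907 F271442) (tt N29138 D61908) (tt N26903 F271443) (tt N27652 F271444) (tt N26918 F271445) (tt N27520 F271446) (tt N27610 F271447))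
theorem Q28085 : ∀ i, i < 28085 → P i := stepQ 28084 Q28084 (allL N28084 (tt N27690 F271448) (tt N27647 F271449) (tt N29138 (iv F276157)) (tt N28084 F271450) (tt N26902 (iv D60854)) (tt N29139 D61909) (tt N27653 F271451) (tt N26919 F271452) (tt N27243 F271453) (tt N27611 F271454))
theorem Q28086 : ∀ i, i < 28086 → P i := stepQ 28085 Q28085 (allL N28085 (tt N29140 D61910) (tt N26903 (iv D60855)) (tt N29131 (iv F276109)) (tt N26909 F271455) (tt N29141 D61911) (tt N29137 (iv F276151)) (tt N27885 F271456) (tt N26920 F271457) (tt N29134 (iv F276134)) (tt N27612 F271458))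
theorem Q28087 : ∀ i, i < 28087 → P i := stepQ 28086 Q28086 (allL N28086 (tt N27694 F271459) (tt N29141 (iv F276174)) (tt N26904 F271460) (tt N27916 F271461) (tt N26903 (iv D60856)) (tt N29142 D61912) (tt N27886 F271462) (tt N26921 F271463) (tt N29135 (iv F276140)) (tt N27613 F271464))
theorem Q28088 : ∀ i, i < 28088 → P i := stepQ 28087 Q28087 (allL N28087 (tt N27695 F271465) (tt N29133 (iv F276123)) (tt N29142 (iv F276180)) (tt N26905 F271466) (tt N29139 (iv F276165)) (tt N26904 (iv D60857)) (tt N29143 D61913) (tt N26922 F271467) (tt N29136 (iv F276147)) (tt N27614 F271468))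
theorem Q28089 : ∀ i, i < 28089 → P i := stepQ 28088 Q28088 (allL N28088 (tt N27737 F271469) (tt N29018 (iv F275379)) (tt N26915 F271470) (tt N29143 (iv F276185)) (tt N28088 F271471) (tt N26914 F271472) (tt N26905 (iv D60858)) (tt N29019 (iv F275391)) (tt N28088 F271473) (tt N27637 F271474))
theorem Q28090 : ∀ i, i < 28090 → P i := stepQ 28089 Q28089 (allL N28089 (tt N27163 F271475) (tt N29144 D61914) (tt N26906 (iv D60859)) (tt N27652 F271476) (tt N29145 D61915) (tt N27417 F271477) (tt N26907 F271478) (tt N27408 F271479) (tt N26938 F271480) (tt N27096 F271481))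
theorem Q28091 : ∀ i, i < 28091 → P i := stepQ 28090 Q28090 (allL N28090 (tt N27164 F271482) (tt N27372 F271483) (tt N29145 (iv F276196)) (tt N28090 F271484) (tt N26906 (iv D60860)) (tt N29146 D61916) (tt N26908 F271485) (tt N27409 F271486) (tt N26939 F271487) (tt N27097 F271488))
theorem Q28092 : ∀ i, i < 28092 → P i := stepQ 28091 Q28091 (allL N28091 (tt N29147 D61917) (tt N26907 (iv D60861)) (tt N27373 F271489) (tt N29137 (iv F276150)) (tt N29148 D61918) (tt N26909 F271490) (tt N29144 (iv F276191)) (tt N26924 F271491) (tt N26940 F271492) (tt N27768 F271493))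
theorem Q28093 : ∀ i, i < 28093 → P i := stepQ 28092 Q28092 (allL N28092 (tt N27778 F271494) (tt N29148 (iv F276215)) (tt N26908 F271495) (tt N29149 D61919) (tt N26907 (iv D60862)) (tt N29012 (iv F275338)) (tt N29145 (iv F276197)) (tt N26925 F271496) (tt N26941 F271497) (tt N27769 F271498))
theorem Q28094 : ∀ i, i < 28094 → P i := stepQ 28093 Q28093 (allL N28093 (tt N26909 (iv D60863)) (tt N29033 (iv F275470)) (tt N27375 F271499) (tt N29140 (iv F276170)) (tt N29013 (iv F275346)) (tt N29147 (iv F276211)) (tt N27890 F271500) (tt N26926 F271501) (tt N26942 F271502) (tt N27908 F271503))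
theorem Q28095 : ∀ i, i < 28095 → P i := stepQ 28094 Q28094 (allL N28094 (tt N26912 F271504) (tt N29150 D61920) (tt N26910 (iv D60864)) (tt N27376 F271505) (tt N29151 D61921) (tt N27874 F271506) (tt N27427 F271507) (tt N27133 F271508) (tt N27507 F271509) (tt N27367 F271510))
theorem Q28096 : ∀ i, i < 28096 → P i := stepQ 28095 Q28095 (allL N28095 (tt N26913 F271511) (tt N27022 F271512) (tt N29151 (iv F276232)) (tt N26911 F271513) (tt N26910 (iv D60865)) (tt N29091 (iv F275839)) (tt N26937 F271514) (tt N27134 F271515) (tt N27508 F271516) (tt N26981 F271517))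
theorem Q28097 : ∀ i, i < 28097 → P i := stepQ 28096 Q28096 (allL N28096 (tt N29152 D61922) (tt N26912 (iv D60866)) (tt N26920 F271518) (tt N27383 F271519) (tt N29153 D61923) (tt N29047 (iv F275565)) (tt N27639 F271520) (tt N29131 (iv F276113)) (tt N29081 (iv F275781)) (tt N27622 F271521))
theorem Q28098 : ∀ i, i < 28098 → P i := stepQ 28097 Q28097 (allL N28097 (tt N29151 (iv F276231)) (tt N29153 (iv F276241)) (tt N26913 F271522) (tt N29154 D61924) (tt N26912 (iv D60867)) (tt N29155 D61925) (tt N27640 F271523) (tt N29132 (iv F276119)) (tt N29082 (iv F275787)) (tt N27623 F271524))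
theorem Q28099 : ∀ i, i < 28099 → P i := stepQ 28098 Q28098 (allL N28098 (tt N29091 (iv F275835)) (tt N26922 F271525) (tt N29155 (iv F276249)) (tt N26915 F271526) (tt N29049 (iv F275579)) (tt N26913 (iv D60868)) (tt N27917 F271527) (tt N29133 (iv F276126)) (tt N29083 (iv F275795)) (tt N27624 F271528))
theorem Q28100 : ∀ i, i < 28100 → P i := stepQ 28099 Q28099 (allL N28099 (tt N29040 (iv F275518)) (tt N29017 (iv F275372)) (tt N29154 (iv F276245)) (tt N26914 (iv D60869)) (tt N27386 F271529) (tt N29143 (iv F276186)) (tt N27641 F271530) (tt N29066 (iv F275683)) (tt N29156 D61926) (tt N27638 F271531))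
theorem Q28101 : ∀ i, i < 28101 → P i := stepQ 28100 Q28100 (allL N28100 (tt N29157 D61927) (tt N26916 (iv D60870)) (tt N29081 (iv F275776)) (tt N26950 F271532) (tt N29158 D61928) (tt N29076 (iv F275741)) (tt N27642 F271533) (tt N29134 (iv F276133)) (tt N26920 F271534) (tt N27595 F271535))
theorem Q28102 : ∀ i, i < 28102 → P i := stepQ 28101 Q28101 (allL N28101 (tt N27669 F271536) (tt N29158 (iv F276262)) (tt N26917 F271537) (tt N29159 D61929) (tt N26916 (iv D60871)) (tt N29160 D61930) (tt N27643 F271538) (tt N29135 (iv F276139)) (tt N26921 F271539) (tt N27596 F271540))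
theorem Q28103 : ∀ i, i < 28103 → P i := stepQ 28102 Q28102 (allL N28102 (tt N27558 F271541) (tt N29083 (iv F275790)) (tt N29160 (iv F276272)) (tt N28102 F271542) (tt N27365 F271543) (tt N26917 (iv D60872)) (tt N29104 (iv F275913)) (tt N29136 (iv F276146)) (tt N26922 F271544) (tt N27364 F271545))
theorem Q28104 : ∀ i, i < 28104 → P i := stepQ 28103 Q28103 (allL N28103 (tt N29161 D61931) (tt N26918 (iv D60873)) (tt N29047 (iv F275563)) (tt N26924 F271546) (tt N29162 D61932) (tt N26920 F271547) (tt N27857 F271548) (tt N29137 (iv F276153)) (tt N29076 (iv F275744)) (tt N27628 F271549))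
theorem Q28105 : ∀ i, i < 28105 → P i := stepQ 28104 Q28104 (allL N28104 (tt N27721 F271550) (tt N29162 (iv F276281)) (tt N26919 F271551) (tt N29163 D61933) (tt N26918 (iv D60874)) (tt N29164 D61934) (tt N27858 F271552) (tt N29138 (iv F276159)) (tt N29077 (iv F275751)) (tt N27629 F271553))
theorem Q28106 : ∀ i, i < 28106 → P i := stepQ 28105 Q28105 (allL N28105 (tt N27451 F271554) (tt N29049 (iv F275577)) (tt N29164 (iv F276290)) (tt N28105 F271555) (tt N26922 F271556) (tt N26919 (iv D60875)) (tt N29061 (iv F275650)) (tt N29139 (iv F276166)) (tt N27365 F271557) (tt N27325 F271558))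
theorem Q28107 : ∀ i, i < 28107 → P i := stepQ 28106 Q28106 (allL N28106 (tt N26920 (iv D60876)) (tt N27725 F271559) (tt N29152 (iv F276237)) (tt N26926 F271560) (tt N29165 D61935) (tt N29161 (iv F276278)) (tt N27644 F271561) (tt N29140 (iv F276172)) (tt N29157 (iv F276260)) (tt N27630 F271562))
theorem Q28108 : ∀ i, i < 28108 → P i := stepQ 28107 Q28107 (allL N28107 (tt N29165 (iv F276294)) (tt N26921 F271563) (tt N29153 (iv F276242)) (tt N29027 (iv F275440)) (tt N26920 (iv D60877)) (tt N29166 D61936) (tt N27645 F271564) (tt N29141 (iv F276177)) (tt N29158 (iv F276264)) (tt N27631 F271565))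
theorem Q28109 : ∀ i, i < 28109 → P i := stepQ 28108 Q28108 (allL N28108 (tt N27727 F271566) (tt N29166 (iv F276298)) (tt N26922 F271567) (tt N29028 (iv F275446)) (tt N29164 (iv F276291)) (tt N26921 (iv D60878)) (tt N29167 D61937) (tt N29142 (iv F276182)) (tt N29160 (iv F276274)) (tt N27632 F271568))
theorem Q28110 : ∀ i, i < 28110 → P i := stepQ 28109 Q28109 (allL N28109 (tt N27482 F271569) (tt N27917 F271570) (tt N29167 (iv F276301)) (tt N26923 F271571) (tt N29061 (iv F275648)) (tt N27336 F271572) (tt N26922 (iv D60879)) (tt N29016 (iv F275368)) (tt N29104 (iv F275915)) (tt N27561 F271573))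
theorem Q28111 : ∀ i, i < 28111 → P i := stepQ 28110 Q28110 (allL N28110 (tt N26924 (iv D60880)) (tt N29117 (iv F276006)) (tt N27404 F271574) (tt N29161 (iv F276277)) (tt N29168 D61938) (tt N26926 F271575) (tt N27860 F271576) (tt N29147 (iv F276212)) (tt N26961 F271577) (tt N27894 F271578))
theorem Q28112 : ∀ i, i < 28112 → P i := stepQ 28111 Q28111 (allL N28111 (tt N29168 (iv F276304)) (tt N26925 F271579) (tt N27405 F271580) (tt N29169 D61939) (tt N26924 (iv D60881)) (tt N29031 (iv F275461)) (tt N27861 F271581) (tt N29148 (iv F276217)) (tt N26962 F271582) (tt N27895 F271583))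
theorem Q28113 : ∀ i, i < 28113 → P i := stepQ 28112 Q28112 (allL N28112 (tt N29119 (iv F276021)) (tt N29169 (iv F276309)) (tt N28112 F271584) (tt N26925 (iv D60882)) (tt N29163 (iv F276286)) (tt N29032 (iv F275467)) (tt N27862 F271585) (tt N29149 (iv F276222)) (tt N29170 D61940) (tt N27896 F271586))
theorem Q28114 : ∀ i, i < 28114 → P i := stepQ 28113 Q28113 (allL N28113 (tt N27210 F271587) (tt N29171 D61941) (tt N26927 (iv D60883)) (tt N27349 F271588) (tt N29172 D61942) (tt N26938 F271589) (tt N26928 F271590) (tt N27371 F271591) (tt N27417 F271592) (tt N26968 F271593))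
theorem Q28115 : ∀ i, i < 28115 → P i := stepQ 28114 Q28114 (allL N28114 (tt N27211 F271594) (tt N27409 F271595) (tt N29172 (iv F276324)) (tt N28114 F271596) (tt N26927 (iv D60884)) (tt N29173 D61943) (tt N26929 F271597) (tt N27372 F271598) (tt N27418 F271599) (tt N26969 F271600))
theorem Q28116 : ∀ i, i < 28116 → P i := stepQ 28115 Q28115 (allL N28115 (tt N29174 D61944) (tt N26928 (iv D60885)) (tt N27410 F271601) (tt N29081 (iv F275777)) (tt N29175 D61945) (tt N26930 F271602) (tt N29171 (iv F276319)) (tt N27402 F271603) (tt N27434 F271604) (tt N26970 F271605))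
theorem Q28117 : ∀ i, i < 28117 → P i := stepQ 28116 Q28116 (allL N28116 (tt N29012 (iv F275336)) (tt N29175 (iv F276342)) (tt N26929 F271606) (tt N29176 D61946) (tt N26928 (iv D60886)) (tt N27778 F271607) (tt N29172 (iv F276325)) (tt N27403 F271608) (tt N27435 F271609) (tt N26971 F271610))
theorem Q28118 : ∀ i, i < 28118 → P i := stepQ 28117 Q28117 (allL N28117 (tt N26930 (iv D60887)) (tt N29013 (iv F275343)) (tt N27412 F271611) (tt N29088 (iv F275821)) (tt N29033 (iv F275473)) (tt N29174 (iv F276338)) (tt N26942 F271612) (tt N27651 F271613) (tt N27890 F271614) (tt N26972 F271615))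
theorem Q28119 : ∀ i, i < 28119 → P i := stepQ 28118 Q28118 (allL N28118 (tt N29177 D61947) (tt N26931 (iv D60888)) (tt N26935 F271616) (tt N27413 F271617) (tt N29178 D61948) (tt N27467 F271618) (tt N29076 (iv F275742)) (tt N26945 F271619) (tt N27857 F271620) (tt N26975 F271621))
theorem Q28120 : ∀ i, i < 28120 → P i := stepQ 28119 Q28119 (allL N28119 (tt N27469 F271622) (tt N29178 (iv F276359)) (tt N26932 F271623) (tt N27818 F271624) (tt N26931 (iv D60889)) (tt N27731 F271625) (tt N29077 (iv F275749)) (tt N26946 F271626) (tt N27858 F271627) (tt N26976 F271628))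
theorem Q28121 : ∀ i, i < 28121 → P i := stepQ 28120 Q28120 (allL N28120 (tt N29179 D61949) (tt N26933 (iv D60890)) (tt N27857 F271629) (tt N29134 (iv F276130)) (tt N29180 D61950) (tt N27519 F271630) (tt N29047 (iv F275566)) (tt N26950 F271631) (tt N26935 F271632) (tt N27523 F271633))
theorem Q28122 : ∀ i, i < 28122 → P i := stepQ 28121 Q28121 (allL N28121 (tt N27880 F271634) (tt N29180 (iv F276372)) (tt N26934 F271635) (tt N29181 D61951) (tt N26933 (iv D60891)) (tt N27513 F271636) (tt N29048 (iv F275572)) (tt N26951 F271637) (tt N26936 F271638) (tt N27517 F271639))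
theorem Q28123 : ∀ i, i < 28123 → P i := stepQ 28122 Q28122 (allL N28122 (tt N26935 (iv D60892)) (tt N27920 F271640) (tt N29177 (iv F276353)) (tt N26942 F271641) (tt N29182 D61952) (tt N27844 F271642) (tt N29088 (iv F275822)) (tt N26954 F271643) (tt N29179 (iv F276370)) (tt N26978 F271644))
theorem Q28124 : ∀ i, i < 28124 → P i := stepQ 28123 Q28123 (allL N28123 (tt N29182 (iv F276383)) (tt N26936 F271645) (tt N29178 (iv F276360)) (tt N29038 (iv F275508)) (tt N26935 (iv D60893)) (tt N29183 D61953) (tt N29089 (iv F275827)) (tt N26955 F271646) (tt N29180 (iv F276376)) (tt N26979 F271647))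
theorem Q28125 : ∀ i, i < 28125 → P i := stepQ 28124 Q28124 (allL N28124 (tt N27640 F271648) (tt N29183 (iv F276387)) (tt N26937 F271649) (tt N29039 (iv F275514)) (tt N27427 F271650) (tt N26936 (iv D60894)) (tt N29151 (iv F276233)) (tt N26956 F271651) (tt N27513 F271652) (tt N26980 F271653))
theorem Q28126 : ∀ i, i < 28126 → P i := stepQ 28125 Q28125 (allL N28125 (tt N29184 D61954) (tt N26938 (iv D60895)) (tt N27419 F271654) (tt N27353 F271655) (tt N29185 D61955) (tt N29171 (iv F276318)) (tt N26940 F271656) (tt N27866 F271657) (tt N29144 (iv F276193)) (tt N26984 F271658))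
theorem Q28127 : ∀ i, i < 28127 → P i := stepQ 28126 Q28126 (allL N28126 (tt N27216 F271659) (tt N29185 (iv F276399)) (tt N26939 F271660) (tt N27853 F271661) (tt N26938 (iv D60896)) (tt N29186 D61956) (tt N26941 F271662) (tt N27867 F271663) (tt N29145 (iv F276199)) (tt N26985 F271664))
theorem Q28128 : ∀ i, i < 28128 → P i := stepQ 28127 Q28127 (allL N28127 (tt N27217 F271665) (tt N27421 F271666) (tt N29186 (iv F276406)) (tt N26964 F271667) (tt N29173 (iv F276332)) (tt N26939 (iv D60897)) (tt N29043 (iv F275542)) (tt N27239 F271668) (tt N29146 (iv F276207)) (tt N26986 F271669))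
theorem Q28129 : ∀ i, i < 28129 → P i := stepQ 28128 Q28128 (allL N28128 (tt N26940 (iv D60898)) (tt N27798 F271670) (tt N27422 F271671) (tt N27844 F271672) (tt N29187 D61957) (tt N26942 F271673) (tt N29184 (iv F276396)) (tt N26961 F271674) (tt N29147 (iv F276213)) (tt N26987 F271675))
theorem Q28130 : ∀ i, i < 28130 → P i := stepQ 28129 Q28129 (allL N28129 (tt N29187 (iv F276410)) (tt N26941 F271676) (tt N27423 F271677) (tt N29188 D61958) (tt N26940 (iv D60899)) (tt N29045 (iv F275554)) (tt N29185 (iv F276402)) (tt N26962 F271678) (tt N29148 (iv F276218)) (tt N26988 F271679))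
theorem Q28131 : ∀ i, i < 28131 → P i := stepQ 28130 Q28130 (allL N28130 (tt N27655 F271680) (tt N29188 (iv F276415)) (tt N26965 F271681) (tt N26941 (iv D60900)) (tt N27391 F271682) (tt N29046 (iv F275560)) (tt N27853 F271683) (tt N26963 F271684) (tt N29189 D61959) (tt N26989 F271685))
theorem Q28132 : ∀ i, i < 28132 → P i := stepQ 28131 Q28131 (allL N28131 (tt N29190 D61960) (tt N26943 (iv D60901)) (tt N26950 F271686) (tt N27410 F271687) (tt N29191 D61961) (tt N27407 F271688) (tt N27662 F271689) (tt N27857 F271690) (tt N26945 F271691) (tt N27456 F271692))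
theorem Q28133 : ∀ i, i < 28133 → P i := stepQ 28132 Q28132 (allL N28132 (tt N27499 F271693) (tt N29191 (iv F276435)) (tt N26944 F271694) (tt N29192 D61962) (tt N26943 (iv D60902)) (tt N27719 F271695) (tt N27663 F271696) (tt N27858 F271697) (tt N26946 F271698) (tt N27457 F271699))
theorem Q28134 : ∀ i, i < 28134 → P i := stepQ 28133 Q28133 (allL N28133 (tt N26945 (iv D60903)) (tt N27502 F271700) (tt N26954 F271701) (tt N27426 F271702) (tt N29193 D61963) (tt N27496 F271703) (tt N27665 F271704) (tt N29177 (iv F276356)) (tt N29190 (iv F276433)) (tt N26998 F271705))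
theorem Q28135 : ∀ i, i < 28135 → P i := stepQ 28134 Q28134 (allL N28134 (tt N29193 (iv F276450)) (tt N26946 F271706) (tt N26955 F271707) (tt N27830 F271708) (tt N26945 (iv D60904)) (tt N27733 F271709) (tt N27666 F271710) (tt N29178 (iv F276363)) (tt N29191 (iv F276440)) (tt N26999 F271711))
theorem Q28136 : ∀ i, i < 28136 → P i := stepQ 28135 Q28135 (allL N28135 (tt N29194 D61964) (tt N26947 (iv D60905)) (tt N27407 F271712) (tt N29076 (iv F275740)) (tt N27476 F271713) (tt N26950 F271714) (tt N27413 F271715) (tt N27519 F271716) (tt N26953 F271717) (tt N27452 F271718))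
theorem Q28137 : ∀ i, i < 28137 → P i := stepQ 28136 Q28136 (allL N28136 (tt N29195 D61965) (tt N26948 (iv D60906)) (tt N27456 F271719) (tt N27595 F271720) (tt N29196 D61966) (tt N27452 F271721) (tt N27668 F271722) (tt N27523 F271723) (tt N27001 F271724) (tt N26950 F271725))
theorem Q28138 : ∀ i, i < 28138 → P i := stepQ 28137 Q28137 (allL N28137 (tt N27643 F271726) (tt N29196 (iv F276473)) (tt N26949 F271727) (tt N29197 D61967) (tt N26948 (iv D60907)) (tt N27475 F271728) (tt N27669 F271729) (tt N27517 F271730) (tt N27002 F271731) (tt N26951 F271732))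
theorem Q28139 : ∀ i, i < 28139 → P i := stepQ 28138 Q28138 (allL N28138 (tt N26950 (iv D60908)) (tt N29120 (iv F276029)) (tt N29190 (iv F276428)) (tt N29157 (iv F276258)) (tt N29198 D61968) (tt N29194 (iv F276460)) (tt N27670 F271733) (tt N29179 (iv F276369)) (tt N26954 F271734) (tt N29195 (iv F276472)))
theorem Q28140 : ∀ i, i < 28140 → P i := stepQ 28139 Q28139 (allL N28139 (tt N29198 (iv F276488)) (tt N26951 F271735) (tt N29191 (iv F276436)) (tt N29199 D61969) (tt N26950 (iv D60909)) (tt N29200 D61970) (tt N27671 F271736) (tt N29180 (iv F276375)) (tt N26955 F271737) (tt N29196 (iv F276479)))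
theorem Q28141 : ∀ i, i < 28141 → P i := stepQ 28140 Q28140 (allL N28140 (tt N29122 (iv F276044)) (tt N29199 (iv F276491)) (tt N28140 F271738) (tt N26951 (iv D60910)) (tt N29159 (iv F276268)) (tt N29201 D61971) (tt N27672 F271739) (tt N29181 (iv F276381)) (tt N29052 (iv F275596)) (tt N29197 (iv F276487)))
theorem Q28142 : ∀ i, i < 28142 → P i := stepQ 28141 Q28141 (allL N28141 (tt N27869 F271740) (tt N29200 (iv F276493)) (tt N26952 F271741) (tt N29201 (iv F276502)) (tt N27473 F271742) (tt N26951 (iv D60911)) (tt N27709 (iv F271746)) (tt N27513 F271743) (tt N26956 F271744) (tt N27475 F271745))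
theorem Q28143 : ∀ i, i < 28143 → P i := stepQ 28142 Q28142 (allL N28142 (tt N26953 (iv D60912)) (tt N27348 F271747) (tt N27496 F271748) (tt N26961 F271749) (tt N27865 F271750) (tt N26954 F271751) (tt N27842 F271752) (tt N27844 F271753) (tt N29194 (iv F276463)) (tt N27009 F271754))
theorem Q28144 : ∀ i, i < 28144 → P i := stepQ 28143 Q28143 (allL N28143 (tt N26955 F271755) (tt N29123 (iv F276053)) (tt N29193 (iv F276452)) (tt N29054 (iv F275605)) (tt N26954 (iv D60913)) (tt N29202 D61972) (tt N27674 F271756) (tt N29182 (iv F276385)) (tt N29198 (iv F276490)) (tt N27010 F271757))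
theorem Q28145 : ∀ i, i < 28145 → P i := stepQ 28144 Q28144 (allL N28144 (tt N29202 (iv F276506)) (tt N26956 F271758) (tt N27733 F271759) (tt N29055 (iv F275610)) (tt N27714 F271760) (tt N26955 (iv D60914)) (tt N27716 (iv F271762)) (tt N29183 (iv F276390)) (tt N29200 (iv F276497)) (tt N27011 F271761))
theorem Q28146 : ∀ i, i < 28146 → P i := stepQ 28145 Q28145 (allL N28145 (tt N29203 D61973) (tt N26957 (iv D60915)) (tt N27434 F271763) (tt N27425 F271764) (tt N29204 D61974) (tt N27366 F271765) (tt N27866 F271766) (tt N26959 F271767) (tt N27410 F271768) (tt N27013 F271769))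
theorem Q28147 : ∀ i, i < 28147 → P i := stepQ 28146 Q28146 (allL N28146 (tt N27818 F271770) (tt N29204 (iv F276520)) (tt N26958 F271771) (tt N27469 F271772) (tt N26957 (iv D60916)) (tt N27293 F271773) (tt N27867 F271774) (tt N26960 F271775) (tt N27411 F271776) (tt N27014 F271777))
theorem Q28148 : ∀ i, i < 28148 → P i := stepQ 28147 Q28147 (allL N28147 (tt N26959 (iv D60917)) (tt N27829 F271778) (tt N27436 F271779) (tt N27842 F271780) (tt N29205 D61975) (tt N27675 F271781) (tt N26961 F271782) (tt N29203 (iv F276517)) (tt N27860 F271783) (tt N27015 F271784))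
theorem Q28149 : ∀ i, i < 28149 → P i := stepQ 28148 Q28148 (allL N28148 (tt N29205 (iv F276528)) (tt N26960 F271785) (tt N27437 F271786) (tt N27503 F271787) (tt N26959 (iv D60918)) (tt N27298 F271788) (tt N26962 F271789) (tt N29204 (iv F276525)) (tt N27861 F271790) (tt N27016 F271791))
theorem Q28150 : ∀ i, i < 28150 → P i := stepQ 28149 Q28149 (allL N28149 (tt N26962 F271792) (tt N29124 (iv F276061)) (tt N27439 F271793) (tt N29206 D61976) (tt N26961 (iv D60919)) (tt N29056 (iv F275617)) (tt N29205 (iv F276533)) (tt N29187 (iv F276413)) (tt N29168 (iv F276307)) (tt N27017 F271794))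
theorem Q28151 : ∀ i, i < 28151 → P i := stepQ 28150 Q28150 (allL N28150 (tt N29206 (iv F276536)) (tt N26963 F271795) (tt N27529 (iv F271799)) (tt N26962 (iv D60920)) (tt N27501 F271796) (tt N29057 (iv F275623)) (tt N27503 F271797) (tt N29188 (iv F276418)) (tt N29207 D61977) (tt N27018 F271798))
theorem Q28152 : ∀ i, i < 28152 → P i := stepQ 28151 Q28151 (allL N28151 (tt N27663 F271800) (tt N29207 (iv F276542)) (tt N26966 F271801) (tt N29170 (iv F276314)) (tt N27497 F271802) (tt N29058 (iv F275629)) (tt N27499 F271803) (tt N29189 (iv F276425)) (tt N26963 (iv D60921)) (tt N29208 D61978))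
theorem Q28153 : ∀ i, i < 28153 → P i := stepQ 28152 Q28152 (allL N28152 (tt N27653 F271804) (tt N27506 F271805) (tt N29189 (iv F276422)) (tt N28152 F271806) (tt N27137 F271807) (tt N29060 (iv F275642)) (tt N27690 F271808) (tt N26966 F271809) (tt N26965 (iv D60922)) (tt N27139 F271810))
theorem Q28154 : ∀ i, i < 28154 → P i := stepQ 28153 Q28153 (allL N28153 (tt N27455 F271811) (tt N27508 F271812) (tt N29208 (iv F276547)) (tt N28153 F271813) (tt N27127 F271814) (tt N29061 (iv F275649)) (tt N27327 F271815) (tt N27139 F271816) (tt N27022 F271817) (tt N26966 (iv D60923)))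
theorem Q28155 : ∀ i, i < 28155 → P i := stepQ 28154 Q28154 (allL N28154 (tt N27183 F271818) (tt N29209 D61979) (tt N26967 (iv D60924)) (tt N27332 F271819) (tt N29210 D61980) (tt N26982 F271820) (tt N27130 F271821) (tt N26968 F271822) (tt N27094 F271823) (tt N27371 F271824))
theorem Q28156 : ∀ i, i < 28156 → P i := stepQ 28155 Q28155 (allL N28155 (tt N27184 F271825) (tt N27097 F271826) (tt N29210 (iv F276560)) (tt N28155 F271827) (tt N26967 (iv D60925)) (tt N27238 F271828) (tt N27131 F271829) (tt N26969 F271830) (tt N27095 F271831) (tt N27372 F271832))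
theorem Q28157 : ∀ i, i < 28157 → P i := stepQ 28156 Q28156 (allL N28156 (tt N29211 D61981) (tt N26968 (iv D60926)) (tt N27462 F271833) (tt N27351 F271834) (tt N29212 D61982) (tt N26984 F271835) (tt N26970 F271836) (tt N29209 (iv F276556)) (tt N27115 F271837) (tt N29171 (iv F276322)))
theorem Q28158 : ∀ i, i < 28158 → P i := stepQ 28157 Q28157 (allL N28157 (tt N27213 F271838) (tt N29212 (iv F276572)) (tt N26969 F271839) (tt N29213 D61983) (tt N26968 (iv D60927)) (tt N29214 D61984) (tt N26971 F271840) (tt N29210 (iv F276563)) (tt N27116 F271841) (tt N29172 (iv F276328)))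
theorem Q28159 : ∀ i, i < 28159 → P i := stepQ 28158 Q28158 (allL N28158 (tt N27214 F271842) (tt N27178 F271843) (tt N29214 (iv F276581)) (tt N28158 F271844) (tt N26986 F271845) (tt N26969 (iv D60928)) (tt N27167 F271846) (tt N27238 F271847) (tt N27117 F271848) (tt N29173 (iv F276336)))
theorem Q28160 : ∀ i, i < 28160 → P i := stepQ 28159 Q28159 (allL N28159 (tt N26970 (iv D60929)) (tt N29125 (iv F276068)) (tt N27464 F271849) (tt N29084 (iv F275799)) (tt N29215 D61985) (tt N26972 F271850) (tt N29211 (iv F276570)) (tt N27682 F271851) (tt N28999 (iv F275245)) (tt N29174 (iv F276341)))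
theorem Q28161 : ∀ i, i < 28161 → P i := stepQ 28160 Q28160 (allL N28160 (tt N29215 (iv F276586)) (tt N26971 F271852) (tt N27465 F271853) (tt N29216 D61986) (tt N26970 (iv D60930)) (tt N27780 F271854) (tt N29212 (iv F276574)) (tt N27683 F271855) (tt N27783 F271856) (tt N29175 (iv F276347)))
theorem Q28162 : ∀ i, i < 28162 → P i := stepQ 28161 Q28161 (allL N28161 (tt N29127 (iv F276079)) (tt N29216 (iv F276591)) (tt N28161 F271857) (tt N26971 (iv D60931)) (tt N29086 (iv F275811)) (tt N27781 F271858) (tt N29213 (iv F276579)) (tt N27684 F271859) (tt N29217 D61987) (tt N29176 (iv F276351)))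
theorem Q28163 : ∀ i, i < 28163 → P i := stepQ 28162 Q28162 (allL N28162 (tt N29218 D61988) (tt N26973 (iv D60932)) (tt N27415 F271860) (tt N27467 F271861) (tt N29219 D61989) (tt N27413 F271862) (tt N27667 F271863) (tt N26991 F271864) (tt N27590 F271865) (tt N27468 F271866))
theorem Q28164 : ∀ i, i < 28164 → P i := stepQ 28163 Q28163 (allL N28163 (tt N26976 F271867) (tt N29219 (iv F276606)) (tt N26974 F271868) (tt N27014 F271869) (tt N26973 (iv D60933)) (tt N26996 F271870) (tt N27287 F271871) (tt N26992 F271872) (tt N27000 F271873) (tt N27469 F271874))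
theorem Q28165 : ∀ i, i < 28165 → P i := stepQ 28164 Q28164 (allL N28164 (tt N26975 (iv D60934)) (tt N29218 (iv F276598)) (tt N26978 F271875) (tt N27470 F271876) (tt N29220 D61990) (tt N27843 F271877) (tt N29078 (iv F275758)) (tt N26998 F271878) (tt N27591 F271879) (tt N29177 (iv F276358)))
theorem Q28166 : ∀ i, i < 28166 → P i := stepQ 28165 Q28165 (allL N28165 (tt N29220 (iv F276614)) (tt N26976 F271880) (tt N26979 F271881) (tt N29129 (iv F276095)) (tt N26975 (iv D60935)) (tt N29221 D61991) (tt N29079 (iv F275764)) (tt N26999 F271882) (tt N27592 F271883) (tt N29178 (iv F276365)))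
theorem Q28167 : ∀ i, i < 28167 → P i := stepQ 28166 Q28166 (allL N28166 (tt N26996 F271884) (tt N29221 (iv F276618)) (tt N26977 F271885) (tt N27282 F271886) (tt N26990 F271887) (tt N26976 (iv D60936)) (tt N27019 F271888) (tt N27000 F271889) (tt N26992 F271890) (tt N27731 F271891))
theorem Q28168 : ∀ i, i < 28168 → P i := stepQ 28167 Q28167 (allL N28167 (tt N26979 F271892) (tt N27922 F271893) (tt N29220 (iv F276615)) (tt N29067 (iv F275689)) (tt N26978 (iv D60937)) (tt N29222 D61992) (tt N29092 (iv F275846)) (tt N27010 F271894) (tt N27593 F271895) (tt N29182 (iv F276386)))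
theorem Q28169 : ∀ i, i < 28169 → P i := stepQ 28168 Q28168 (allL N28168 (tt N29222 (iv F276626)) (tt N26980 F271896) (tt N29221 (iv F276619)) (tt N29068 (iv F275695)) (tt N27428 F271897) (tt N26979 (iv D60938)) (tt N29223 D61993) (tt N27011 F271898) (tt N27433 F271899) (tt N29183 (iv F276392)))
theorem Q28170 : ∀ i, i < 28170 → P i := stepQ 28169 Q28169 (allL N28169 (tt N27623 F271900) (tt N29223 (iv F276631)) (tt N26981 F271901) (tt N29069 (iv F275700)) (tt N27367 F271902) (tt N29094 (iv F275858)) (tt N26980 (iv D60939)) (tt N27384 F271903) (tt N27021 F271904) (tt N29151 (iv F276236)))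
theorem Q28171 : ∀ i, i < 28171 → P i := stepQ 28170 Q28170 (allL N28170 (tt N29224 D61994) (tt N26982 (iv D60940)) (tt N27487 F271905) (tt N27334 F271906) (tt N29225 D61995) (tt N29209 (iv F276554)) (tt N27013 F271907) (tt N26984 F271908) (tt N27107 F271909) (tt N27866 F271910))
theorem Q28172 : ∀ i, i < 28172 → P i := stepQ 28171 Q28171 (allL N28171 (tt N27188 F271911) (tt N29225 (iv F276643)) (tt N26983 F271912) (tt N27287 F271913) (tt N26982 (iv D60941)) (tt N27237 (iv F271918)) (tt N27014 F271914) (tt N26985 F271915) (tt N27073 F271916) (tt N27867 F271917))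
theorem Q28173 : ∀ i, i < 28173 → P i := stepQ 28172 Q28172 (allL N28172 (tt N26984 (iv D60942)) (tt N27218 F271919) (tt N27489 F271920) (tt N27354 F271921) (tt N29226 D61996) (tt N29211 (iv F276569)) (tt N26987 F271922) (tt N29224 (iv F276640)) (tt N27118 F271923) (tt N29184 (iv F276398)))
theorem Q28174 : ∀ i, i < 28174 → P i := stepQ 28173 Q28173 (allL N28173 (tt N29226 (iv F276651)) (tt N26985 F271924) (tt N27490 F271925) (tt N27855 F271926) (tt N26984 (iv D60943)) (tt N29227 D61997) (tt N26988 F271927) (tt N29225 (iv F276647)) (tt N27119 F271928) (tt N29185 (iv F276404)))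
theorem Q28175 : ∀ i, i < 28175 → P i := stepQ 28174 Q28174 (allL N28174 (tt N27221 F271929) (tt N29227 (iv F276657)) (tt N26986 F271930) (tt N27495 F271931) (tt N29214 (iv F276582)) (tt N26985 (iv D60944)) (tt N29073 (iv F275725)) (tt N27237 F271932) (tt N27120 F271933) (tt N29186 (iv F276409)))
theorem Q28176 : ∀ i, i < 28176 → P i := stepQ 28175 Q28175 (allL N28175 (tt N26988 F271934) (tt N27800 F271935) (tt N27493 F271936) (tt N29228 D61998) (tt N26987 (iv D60945)) (tt N29074 (iv F275731)) (tt N29226 (iv F276655)) (tt N27017 F271937) (tt N27773 F271938) (tt N29187 (iv F276414)))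
theorem Q28177 : ∀ i, i < 28177 → P i := stepQ 28176 Q28176 (allL N28176 (tt N29228 (iv F276662)) (tt N26989 F271939) (tt N29229 D61999) (tt N26988 (iv D60946)) (tt N27392 F271940) (tt N29075 (iv F275736)) (tt N27855 F271941) (tt N27018 F271942) (tt N27399 (iv F271943)) (tt N29188 (iv F276419)))
theorem Q28178 : ∀ i, i < 28178 → P i := stepQ 28177 Q28177 (allL N28177 (tt N29230 D62000) (tt N26990 (iv D60947)) (tt N27428 F271944) (tt N27366 F271945) (tt N29221 (iv F276621)) (tt N27425 F271946) (tt N27370 F271947) (tt N27590 F271948) (tt N26991 F271949) (tt N27730 F271950))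
theorem Q28179 : ∀ i, i < 28179 → P i := stepQ 28178 Q28178 (allL N28178 (tt N26991 (iv D60948)) (tt N26998 F271951) (tt N27432 F271952) (tt N27496 F271953) (tt N29231 D62001) (tt N27426 F271954) (tt N27707 F271955) (tt N29218 (iv F276603)) (tt N29230 (iv F276682)) (tt N27502 F271956))
theorem Q28180 : ∀ i, i < 28180 → P i := stepQ 28179 Q28179 (allL N28179 (tt N29231 (iv F276684)) (tt N26992 F271957) (tt N27433 F271958) (tt N27016 F271959) (tt N26991 (iv D60949)) (tt N27592 F271960) (tt N27018 F271961) (tt N29219 (iv F276611)) (tt N29221 (iv F276624)) (tt N27503 F271962))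
theorem Q28181 : ∀ i, i < 28181 → P i := stepQ 28180 Q28180 (allL N28180 (tt N29232 D62002) (tt N26993 (iv D60950)) (tt N27001 F271963) (tt N27246 F271964) (tt N29233 D62003) (tt N27453 F271965) (tt N27710 F271966) (tt N27247 F271967) (tt N27456 F271968) (tt N26995 F271969))
theorem Q28182 : ∀ i, i < 28182 → P i := stepQ 28181 Q28181 (allL N28181 (tt N27731 F271970) (tt N29233 (iv F276699)) (tt N26994 F271971) (tt N27293 F271972) (tt N26993 (iv D60951)) (tt N27469 F271973) (tt N27711 F271974) (tt N27248 F271975) (tt N27457 F271976) (tt N26996 F271977))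
theorem Q28183 : ∀ i, i < 28183 → P i := stepQ 28182 Q28182 (allL N28182 (tt N26995 (iv D60952)) (tt N29230 (iv F276676)) (tt N27003 F271978) (tt N27819 F271979) (tt N29234 D62004) (tt N27841 F271980) (tt N27712 F271981) (tt N27591 F271982) (tt N26998 F271983) (tt N29232 (iv F276698)))
theorem Q28184 : ∀ i, i < 28184 → P i := stepQ 28183 Q28183 (allL N28183 (tt N29234 (iv F276707)) (tt N26996 F271984) (tt N27004 F271985) (tt N27794 F271986) (tt N26995 (iv D60953)) (tt N29219 (iv F276609)) (tt N27713 F271987) (tt N27592 F271988) (tt N26999 F271989) (tt N29233 (iv F276706)))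
theorem Q28185 : ∀ i, i < 28185 → P i := stepQ 28184 Q28184 (allL N28184 (tt N26997 (iv D60954)) (tt N27426 F271990) (tt N27009 F271991) (tt N27502 F271992) (tt N27842 F271993) (tt N26998 F271994) (tt N27865 F271995) (tt N27843 F271996) (tt N27841 F271997) (tt N27496 F271998))
theorem Q28186 : ∀ i, i < 28186 → P i := stepQ 28185 Q28185 (allL N28185 (tt N26999 F271999) (tt N29231 (iv F276685)) (tt N27010 F272000) (tt N29130 (iv F276104)) (tt N26998 (iv D60955)) (tt N29235 D62005) (tt N27717 F272001) (tt N29220 (iv F276616)) (tt N29234 (iv F276712)) (tt N29193 (iv F276456)))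
theorem Q28187 : ∀ i, i < 28187 → P i := stepQ 28186 Q28186 (allL N28186 (tt N29235 (iv F276713)) (tt N27000 F272002) (tt N27011 F272003) (tt N27284 F272004) (tt N27590 F272005) (tt N26999 (iv D60956)) (tt N27286 F272006) (tt N29221 (iv F276623)) (tt N29219 (iv F276612)) (tt N27733 F272007))
theorem Q28188 : ∀ i, i < 28188 → P i := stepQ 28187 Q28187 (allL N28187 (tt N27001 (iv D60957)) (tt N27644 F272008) (tt N29232 (iv F276692)) (tt N27589 F272009) (tt N29236 D62006) (tt N27486 F272010) (tt N27725 F272011) (tt N27535 F272012) (tt N29195 (iv F276471)) (tt N27003 F272013))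
theorem Q28189 : ∀ i, i < 28189 → P i := stepQ 28188 Q28188 (allL N28188 (tt N29236 (iv F276720)) (tt N27002 F272014) (tt N29233 (iv F276700)) (tt N27661 F272015) (tt N27001 (iv D60958)) (tt N27484 F272016) (tt N27726 F272017) (tt N27533 F272018) (tt N29196 (iv F276478)) (tt N27004 F272019))
theorem Q28190 : ∀ i, i < 28190 → P i := stepQ 28189 Q28189 (allL N28189 (tt N27004 F272020) (tt N27903 F272021) (tt N29234 (iv F276708)) (tt N27702 F272022) (tt N27003 (iv D60959)) (tt N29237 D62007) (tt N27728 F272023) (tt N27593 F272024) (tt N27010 F272025) (tt N29236 (iv F276726)))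
theorem Q28191 : ∀ i, i < 28191 → P i := stepQ 28190 Q28190 (allL N28190 (tt N29237 (iv F276727)) (tt N27005 F272026) (tt N29219 (iv F276607)) (tt N27703 F272027) (tt N27415 F272028) (tt N27004 (iv D60960)) (tt N29238 D62008) (tt N27433 F272029) (tt N27011 F272030) (tt N27484 F272031))
theorem Q28192 : ∀ i, i < 28192 → P i := stepQ 28191 Q28191 (allL N28191 (tt N27905 F272032) (tt N29238 (iv F276734)) (tt N27006 F272033) (tt N27704 F272034) (tt N27414 F272035) (tt N27562 F272036) (tt N27005 (iv D60961)) (tt N27848 (iv F272039)) (tt N27012 F272037) (tt N27481 F272038))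
theorem Q28193 : ∀ i, i < 28193 → P i := stepQ 28192 Q28192 (allL N28192 (tt N29239 D62009) (tt N27007 (iv D60962)) (tt N27429 F272040) (tt N27013 F272041) (tt N27467 F272042) (tt N27730 F272043) (tt N27334 F272044) (tt N27008 F272045) (tt N27328 F272046) (tt N27425 F272047))
theorem Q28194 : ∀ i, i < 28194 → P i := stepQ 28193 Q28193 (allL N28193 (tt N27008 (iv D60963)) (tt N27504 F272048) (tt N27865 F272049) (tt N27015 F272050) (tt N27496 F272051) (tt N27732 F272052) (tt N27009 F272053) (tt N29239 (iv F276748)) (tt N27837 F272054) (tt N27842 F272055))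
theorem Q28195 : ∀ i, i < 28195 → P i := stepQ 28194 Q28194 (allL N28194 (tt N27011 F272056) (tt N27912 F272057) (tt N29235 (iv F276715)) (tt N29099 (iv F275887)) (tt N27909 F272058) (tt N27010 (iv D60964)) (tt N29240 D62010) (tt N29222 (iv F276629)) (tt N29237 (iv F276732)) (tt N29202 (iv F276510)))
theorem Q28196 : ∀ i, i < 28196 → P i := stepQ 28195 Q28195 (allL N28195 (tt N29240 (iv F276751)) (tt N27012 F272059) (tt N27286 F272060) (tt N29100 (iv F275890)) (tt N27664 F272061) (tt N27543 F272062) (tt N27011 (iv D60965)) (tt N27850 (iv F272064)) (tt N29238 (iv F276740)) (tt N27716 F272063))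
theorem Q28197 : ∀ i, i < 28197 → P i := stepQ 28196 Q28196 (allL N28196 (tt N27013 (iv D60966)) (tt N29128 (iv F276085)) (tt N27536 F272065) (tt N29239 (iv F276744)) (tt N29241 D62011) (tt N27736 F272066) (tt N29224 (iv F276639)) (tt N27015 F272067) (tt N29005 (iv F275291)) (tt N29203 (iv F276519)))
theorem Q28198 : ∀ i, i < 28198 → P i := stepQ 28197 Q28197 (allL N28197 (tt N29241 (iv F276758)) (tt N27014 F272068) (tt N27537 F272069) (tt N29219 (iv F276608)) (tt N27013 (iv D60967)) (tt N27794 F272070) (tt N29225 (iv F276646)) (tt N27016 F272071) (tt N27797 F272072) (tt N29204 (iv F276527)))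
theorem Q28199 : ∀ i, i < 28199 → P i := stepQ 28198 Q28198 (allL N28198 (tt N27016 F272073) (tt N29130 (iv F276102)) (tt N27539 F272074) (tt N29231 (iv F276687)) (tt N27015 (iv D60968)) (tt N29116 (iv F276001)) (tt N27017 F272075) (tt N29241 (iv F276761)) (tt N29006 (iv F275300)) (tt N29205 (iv F276535)))
theorem Q28200 : ∀ i, i < 28200 → P i := stepQ 28199 Q28199 (allL N28199 (tt N27018 F272076) (tt N27717 F272077) (tt N29242 D62012) (tt N27017 (iv D60969)) (tt N27707 F272078) (tt N29101 (iv F275897)) (tt N29231 (iv F276689)) (tt N29228 (iv F276666)) (tt N29243 D62013) (tt N29206 (iv F276540)))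
theorem Q28201 : ∀ i, i < 28201 → P i := stepQ 28200 Q28200 (allL N28200 (tt N29242 (iv F276763)) (tt N27021 F272079) (tt N27018 (iv D60970)) (tt N27543 F272080) (tt N27431 F272081) (tt N29100 (iv F275892)) (tt N27433 F272082) (tt N29229 (iv F276673)) (tt N29223 (iv F276635)) (tt N27529 F272083))
theorem Q28202 : ∀ i, i < 28202 → P i := stepQ 28201 Q28201 (allL N28201 (tt N29243 (iv F276769)) (tt N27019 F272084) (tt N29223 (iv F276632)) (tt N29009 (iv F275318)) (tt N27370 F272085) (tt N29102 (iv F275900)) (tt N29221 (iv F276622)) (tt N27399 F272086) (tt N27018 (iv D60971)) (tt N29244 D62014))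
theorem Q28203 : ∀ i, i < 28203 → P i := stepQ 28202 Q28202 (allL N28202 (tt N27711 F272087) (tt N29244 (iv F276773)) (tt N27022 F272088) (tt N29010 (iv F275324)) (tt N27129 F272089) (tt N29103 (iv F275905)) (tt N27731 F272090) (tt N27143 F272091) (tt N29208 (iv F276551)) (tt N27019 (iv D60972)))
theorem Q28204 : ∀ i, i < 28204 → P i := stepQ 28203 Q28203 (allL N28203 (tt N27608 F272092) (tt N29229 (iv F276668)) (tt N27020 (iv D60973)) (tt N27555 F272093) (tt N27380 F272094) (tt N27851 F272095) (tt N27848 F272096) (tt N27021 F272097) (tt N27384 F272098) (tt N27526 F272099))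
theorem Q28205 : ∀ i, i < 28205 → P i := stepQ 28204 Q28204 (allL N28204 (tt N29245 D62015) (tt N27023 (iv D60974)) (tt N27032 F272100) (tt N27179 F272101) (tt N27075 F272102) (tt N27062 F272103) (tt N27093 F272104) (tt N27024 F272105) (tt N27246 F272106) (tt N27106 F272107))
theorem Q28206 : ∀ i, i < 28206 → P i := stepQ 28205 Q28205 (allL N28205 (tt N27024 (iv D60975)) (tt N27585 F272108) (tt N27037 F272109) (tt N27786 F272110) (tt N27082 F272111) (tt N27784 F272112) (tt N27572 F272113) (tt N29245 (iv F276783)) (tt N27249 F272114) (tt N27772 F272115))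
theorem Q28207 : ∀ i, i < 28207 → P i := stepQ 28206 Q28206 (allL N28206 (tt N29246 D62016) (tt N27025 (iv D60976)) (tt N27106 F272116) (tt N27056 F272117) (tt N27093 F272118) (tt N27051 F272119) (tt N27075 F272120) (tt N27030 F272121) (tt N27291 F272122) (tt N27032 F272123))
theorem Q28208 : ∀ i, i < 28208 → P i := stepQ 28207 Q28207 (allL N28207 (tt N29247 D62017) (tt N27026 (iv D60977)) (tt N27223 F272124) (tt N27030 F272125) (tt N29248 D62018) (tt N27046 F272126) (tt N27204 F272127) (tt N27056 F272128) (tt N29107 (iv F275937)) (tt N27033 F272129))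
theorem Q28209 : ∀ i, i < 28209 → P i := stepQ 28208 Q28208 (allL N28208 (tt N27052 F272130) (tt N29248 (iv F276802)) (tt N27027 F272131) (tt N27100 F272132) (tt N27026 (iv D60978)) (tt N27156 F272133) (tt N27205 F272134) (tt N27057 F272135) (tt N29108 (iv F275944)) (tt N27034 F272136))
theorem Q28210 : ∀ i, i < 28210 → P i := stepQ 28209 Q28209 (allL N28209 (tt N29249 D62019) (tt N27028 (iv D60979)) (tt N27581 F272137) (tt N27046 F272138) (tt N29250 D62020) (tt N27030 F272139) (tt N27575 F272140) (tt N27051 F272141) (tt N27812 F272142) (tt N27035 F272143))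
theorem Q28211 : ∀ i, i < 28211 → P i := stepQ 28210 Q28210 (allL N28210 (tt N27057 F272144) (tt N29250 (iv F276817)) (tt N27029 F272145) (tt N27154 F272146) (tt N27028 (iv D60980)) (tt N27103 F272147) (tt N27576 F272148) (tt N27052 F272149) (tt N27813 F272150) (tt N27036 F272151))
theorem Q28212 : ∀ i, i < 28212 → P i := stepQ 28211 Q28211 (allL N28211 (tt N27030 (iv D60981)) (tt N27058 F272152) (tt N27772 F272153) (tt N29247 (iv F276797)) (tt N27104 F272154) (tt N29249 (iv F276812)) (tt N27738 F272155) (tt N29246 (iv F276792)) (tt N27825 F272156) (tt N27037 F272157))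
theorem Q28213 : ∀ i, i < 28213 → P i := stepQ 28212 Q28212 (allL N28212 (tt N29251 D62021) (tt N27031 (iv D60982)) (tt N27093 F272158) (tt N27069 F272159) (tt N27106 F272160) (tt N27080 F272161) (tt N27032 F272162) (tt N27074 F272163) (tt N27250 F272164) (tt N27075 F272165))
theorem Q28214 : ∀ i, i < 28214 → P i := stepQ 28213 Q28213 (allL N28213 (tt N27032 (iv D60983)) (tt N27061 F272166) (tt N29245 (iv F276778)) (tt N27071 F272167) (tt N27110 F272168) (tt N27066 F272169) (tt N29251 (iv F276830)) (tt N27037 F272170) (tt N27251 F272171) (tt N29246 (iv F276794)))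
theorem Q28215 : ∀ i, i < 28215 → P i := stepQ 28214 Q28214 (allL N28214 (tt N27033 (iv D60984)) (tt N27066 F272172) (tt N28998 (iv F275230)) (tt N27037 F272173) (tt N29252 D62022) (tt N27061 F272174) (tt N27740 F272175) (tt N27071 F272176) (tt N27276 F272177) (tt N29247 (iv F276801)))
theorem Q28216 : ∀ i, i < 28216 → P i := stepQ 28215 Q28215 (allL N28215 (tt N29252 (iv F276834)) (tt N27034 F272178) (tt N27774 F272179) (tt N27119 F272180) (tt N27033 (iv D60985)) (tt N27194 F272181) (tt N27741 F272182) (tt N27072 F272183) (tt N27277 F272184) (tt N29248 (iv F276808)))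
theorem Q28217 : ∀ i, i < 28217 → P i := stepQ 28216 Q28216 (allL N28216 (tt N27035 (iv D60986)) (tt N27071 F272185) (tt N27784 F272186) (tt N27061 F272187) (tt N29253 D62023) (tt N27037 F272188) (tt N27788 F272189) (tt N27066 F272190) (tt N27252 F272191) (tt N29249 (iv F276816)))
theorem Q28218 : ∀ i, i < 28218 → P i := stepQ 28217 Q28217 (allL N28217 (tt N29253 (iv F276842)) (tt N27036 F272192) (tt N27785 F272193) (tt N27192 F272194) (tt N27035 (iv D60987)) (tt N27122 F272195) (tt N27789 F272196) (tt N27067 F272197) (tt N27253 F272198) (tt N29250 (iv F276824)))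
theorem Q28219 : ∀ i, i < 28219 → P i := stepQ 28218 Q28218 (allL N28218 (tt N27743 F272199) (tt N29254 D62024) (tt N27038 (iv D60988)) (tt N27049 F272200) (tt N29255 D62025) (tt N27199 F272201) (tt N27254 F272202) (tt N27751 F272203) (tt N27040 F272204) (tt N27197 F272205))
theorem Q28220 : ∀ i, i < 28220 → P i := stepQ 28219 Q28219 (allL N28219 (tt N27744 F272206) (tt N27211 F272207) (tt N29255 (iv F276858)) (tt N28219 F272208) (tt N27038 (iv D60989)) (tt N29256 D62026) (tt N27255 F272209) (tt N27752 F272210) (tt N27041 F272211) (tt N27198 F272212))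
theorem Q28221 : ∀ i, i < 28221 → P i := stepQ 28220 Q28220 (allL N28220 (tt N27751 F272213) (tt N29257 D62027) (tt N27039 (iv D60990)) (tt N27043 F272214) (tt N29258 D62028) (tt N27040 F272215) (tt N27263 F272216) (tt N27743 F272217) (tt N27199 F272218) (tt N27158 F272219))
theorem Q28222 : ∀ i, i < 28222 → P i := stepQ 28221 Q28221 (allL N28221 (tt N27752 F272220) (tt N27164 F272221) (tt N29258 (iv F276879)) (tt N28221 F272222) (tt N27039 (iv D60991)) (tt N29259 D62029) (tt N27264 F272223) (tt N27744 F272224) (tt N27200 F272225) (tt N27159 F272226))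
theorem Q28223 : ∀ i, i < 28223 → P i := stepQ 28222 Q28222 (allL N28222 (tt N29260 D62030) (tt N27040 (iv D60992)) (tt N29041 (iv F275525)) (tt N27045 F272227) (tt N29261 D62031) (tt N29257 (iv F276873)) (tt N27266 F272228) (tt N29106 (iv F275929)) (tt N29254 (iv F276855)) (tt N27257 F272229))
theorem Q28224 : ∀ i, i < 28224 → P i := stepQ 28223 Q28223 (allL N28223 (tt N27757 F272230) (tt N29261 (iv F276896)) (tt N27041 F272231) (tt N27143 F272232) (tt N27040 (iv D60993)) (tt N29262 D62032) (tt N27267 F272233) (tt N29010 (iv F275327)) (tt N29255 (iv F276861)) (tt N27258 F272234))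
theorem Q28225 : ∀ i, i < 28225 → P i := stepQ 28224 Q28224 (allL N28224 (tt N27758 F272235) (tt N29043 (iv F275539)) (tt N29262 (iv F276901)) (tt N27042 F272236) (tt N29259 (iv F276887)) (tt N27041 (iv D60994)) (tt N27421 F272237) (tt N29003 (iv F275274)) (tt N29256 (iv F276869)) (tt N27259 F272238))
theorem Q28226 : ∀ i, i < 28226 → P i := stepQ 28225 Q28225 (allL N28225 (tt N29263 D62033) (tt N27043 (iv D60995)) (tt N27604 F272239) (tt N29257 (iv F276872)) (tt N29264 D62034) (tt N27045 F272240) (tt N27805 F272241) (tt N29107 (iv F275936)) (tt N27056 F272242) (tt N27260 F272243))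
theorem Q28227 : ∀ i, i < 28227 → P i := stepQ 28226 Q28226 (allL N28226 (tt N27813 F272244) (tt N29264 (iv F276911)) (tt N27044 F272245) (tt N29265 D62035) (tt N27043 (iv D60996)) (tt N27147 F272246) (tt N27806 F272247) (tt N29108 (iv F275943)) (tt N27057 F272248) (tt N27261 F272249))
theorem Q28228 : ∀ i, i < 28228 → P i := stepQ 28227 Q28227 (allL N28227 (tt N27045 (iv D60997)) (tt N27825 F272250) (tt N27606 F272251) (tt N29260 (iv F276893)) (tt N27148 F272252) (tt N29263 (iv F276907)) (tt N27594 F272253) (tt N29109 (iv F275950)) (tt N27058 F272254) (tt N27262 F272255))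
theorem Q28229 : ∀ i, i < 28229 → P i := stepQ 28228 Q28228 (allL N28228 (tt N27046 (iv D60998)) (tt N29246 (iv F276786)) (tt N27801 F272256) (tt N29249 (iv F276811)) (tt N27157 F272257) (tt N29247 (iv F276798)) (tt N27795 F272258) (tt N27058 F272259) (tt N29109 (iv F275951)) (tt N27061 F272260))
theorem Q28230 : ∀ i, i < 28230 → P i := stepQ 28229 Q28229 (allL N28229 (tt N29266 D62036) (tt N27047 (iv D60999)) (tt N27051 F272261) (tt N27149 F272262) (tt N29267 D62037) (tt N27106 F272263) (tt N27153 F272264) (tt N27581 F272265) (tt N27329 F272266) (tt N27062 F272267))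
theorem Q28231 : ∀ i, i < 28231 → P i := stepQ 28230 Q28230 (allL N28230 (tt N27180 F272268) (tt N29267 (iv F276931)) (tt N27048 F272269) (tt N27576 F272270) (tt N27047 (iv D61000)) (tt N27081 F272271) (tt N27154 F272272) (tt N27582 F272273) (tt N27330 F272274) (tt N27063 F272275))
theorem Q28232 : ∀ i, i < 28232 → P i := stepQ 28231 Q28231 (allL N28231 (tt N29268 D62038) (tt N27049 (iv D61001)) (tt N27329 F272276) (tt N29254 (iv F276851)) (tt N29269 D62039) (tt N27291 F272277) (tt N27745 F272278) (tt N27812 F272279) (tt N27051 F272280) (tt N27820 F272281))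
theorem Q28233 : ∀ i, i < 28233 → P i := stepQ 28232 Q28232 (allL N28232 (tt N29108 (iv F275939)) (tt N29269 (iv F276945)) (tt N27050 F272282) (tt N29270 D62040) (tt N27049 (iv D61002)) (tt N29271 D62041) (tt N27746 F272283) (tt N27813 F272284) (tt N27052 F272285) (tt N27821 F272286))
theorem Q28234 : ∀ i, i < 28234 → P i := stepQ 28233 Q28233 (allL N28233 (tt N27131 F272287) (tt N27079 F272288) (tt N29271 (iv F276957)) (tt N28233 F272289) (tt N27076 F272290) (tt N27050 (iv D61003)) (tt N27184 (iv F272294)) (tt N27090 F272291) (tt N27053 F272292) (tt N27300 F272293))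
theorem Q28235 : ∀ i, i < 28235 → P i := stepQ 28234 Q28234 (allL N28234 (tt N27051 (iv D61004)) (tt N29247 (iv F276795)) (tt N29266 (iv F276924)) (tt N27058 F272295) (tt N29272 D62042) (tt N29246 (iv F276790)) (tt N27748 F272296) (tt N29249 (iv F276814)) (tt N29268 (iv F276943)) (tt N27066 F272297))
theorem Q28236 : ∀ i, i < 28236 → P i := stepQ 28235 Q28235 (allL N28235 (tt N29272 (iv F276963)) (tt N27052 F272298) (tt N29267 (iv F276932)) (tt N27171 F272299) (tt N27051 (iv D61005)) (tt N29273 D62043) (tt N27749 F272300) (tt N29250 (iv F276822)) (tt N29269 (iv F276949)) (tt N27067 F272301))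
theorem Q28237 : ∀ i, i < 28237 → P i := stepQ 28236 Q28236 (allL N28236 (tt N27156 F272302) (tt N29273 (iv F276967)) (tt N27053 F272303) (tt N27172 F272304) (tt N27077 F272305) (tt N27052 (iv D61006)) (tt N27190 (iv F272308)) (tt N27103 F272306) (tt N29271 (iv F276960)) (tt N27068 F272307))
theorem Q28238 : ∀ i, i < 28238 → P i := stepQ 28237 Q28237 (allL N28237 (tt N29274 D62044) (tt N27054 (iv D61007)) (tt N27102 F272309) (tt N27075 F272310) (tt N29275 D62045) (tt N27074 F272311) (tt N27056 F272312) (tt N27080 F272313) (tt N27805 F272314) (tt N27069 F272315))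
theorem Q28239 : ∀ i, i < 28239 → P i := stepQ 28238 Q28238 (allL N28238 (tt N27576 F272316) (tt N29275 (iv F276982)) (tt N27055 F272317) (tt N27180 F272318) (tt N27054 (iv D61008)) (tt N27582 F272319) (tt N27057 F272320) (tt N27081 F272321) (tt N27806 F272322) (tt N27070 F272323))
theorem Q28240 : ∀ i, i < 28240 → P i := stepQ 28239 Q28239 (allL N28239 (tt N27056 (iv D61009)) (tt N29249 (iv F276809)) (tt N28996 (iv F275214)) (tt N29246 (iv F276788)) (tt N29276 D62046) (tt N27058 F272324) (tt N29274 (iv F276978)) (tt N29247 (iv F276800)) (tt N29263 (iv F276909)) (tt N27071 F272325))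
theorem Q28241 : ∀ i, i < 28241 → P i := stepQ 28240 Q28240 (allL N28240 (tt N29276 (iv F276990)) (tt N27057 F272326) (tt N28997 (iv F275222)) (tt N29277 D62047) (tt N27056 (iv D61010)) (tt N27176 F272327) (tt N29275 (iv F276986)) (tt N29248 (iv F276807)) (tt N29264 (iv F276915)) (tt N27072 F272328))
theorem Q28242 : ∀ i, i < 28242 → P i := stepQ 28241 Q28241 (allL N28241 (tt N27154 F272329) (tt N29277 (iv F276993)) (tt N27059 F272330) (tt N27057 (iv D61011)) (tt N27092 F272331) (tt N27177 F272332) (tt N27180 F272333) (tt N27100 F272334) (tt N27463 (iv F272336)) (tt N27073 F272335))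
theorem Q28243 : ∀ i, i < 28243 → P i := stepQ 28242 Q28242 (allL N28242 (tt N27060 (iv D61012)) (tt N29251 (iv F276825)) (tt N27574 F272337) (tt N27788 F272338) (tt N27181 F272339) (tt N27775 F272340) (tt N27061 F272341) (tt N27577 F272342) (tt N27274 F272343) (tt N27795 F272344))
theorem Q28244 : ∀ i, i < 28244 → P i := stepQ 28243 Q28243 (allL N28243 (tt N27062 (iv D61013)) (tt N29005 (iv F275284)) (tt N27066 F272345) (tt N27181 F272346) (tt N29278 D62048) (tt N29245 (iv F276781)) (tt N27191 F272347) (tt N27784 F272348) (tt N29128 (iv F276091)) (tt N29266 (iv F276930)))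
theorem Q28245 : ∀ i, i < 28245 → P i := stepQ 28244 Q28244 (allL N28244 (tt N29278 (iv F277001)) (tt N27063 F272349) (tt N27067 F272350) (tt N27789 F272351) (tt N27062 (iv D61014)) (tt N27792 F272352) (tt N27192 F272353) (tt N27785 F272354) (tt N29129 (iv F276099)) (tt N29267 (iv F276938)))
theorem Q28246 : ∀ i, i < 28246 → P i := stepQ 28245 Q28245 (allL N28245 (tt N27064 (iv D61015)) (tt N27276 F272355) (tt N29128 (iv F276086)) (tt N27279 F272356) (tt N29279 D62049) (tt N27251 F272357) (tt N27759 F272358) (tt N27252 F272359) (tt N27066 F272360) (tt N27823 F272361))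
theorem Q28247 : ∀ i, i < 28247 → P i := stepQ 28246 Q28246 (allL N28246 (tt N29279 (iv F277008)) (tt N27065 F272362) (tt N29129 (iv F276094)) (tt N27836 F272363) (tt N27064 (iv D61016)) (tt N27344 F272364) (tt N27760 F272365) (tt N27253 F272366) (tt N27067 F272367) (tt N27824 F272368))
theorem Q28248 : ∀ i, i < 28248 → P i := stepQ 28247 Q28247 (allL N28247 (tt N27067 F272369) (tt N29252 (iv F276835)) (tt N29278 (iv F277003)) (tt N27229 F272370) (tt N27066 (iv D61017)) (tt N29280 D62050) (tt N27765 F272371) (tt N29253 (iv F276848)) (tt N29279 (iv F277014)) (tt N29272 (iv F276966)))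
theorem Q28249 : ∀ i, i < 28249 → P i := stepQ 28248 Q28248 (allL N28248 (tt N29280 (iv F277016)) (tt N27068 F272372) (tt N27792 F272373) (tt N27230 F272374) (tt N27109 F272375) (tt N27067 (iv D61018)) (tt N29008 (iv F275312)) (tt N27122 F272376) (tt N27344 F272377) (tt N29273 (iv F276972)))
theorem Q28250 : ∀ i, i < 28250 → P i := stepQ 28249 Q28249 (allL N28249 (tt N27069 (iv D61019)) (tt N27788 F272378) (tt N27121 F272379) (tt N29251 (iv F276827)) (tt N29281 D62051) (tt N27082 F272380) (tt N27071 F272381) (tt N27791 F272382) (tt N27283 F272383) (tt N29274 (iv F276981)))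
theorem Q28251 : ∀ i, i < 28251 → P i := stepQ 28250 Q28250 (allL N28250 (tt N29281 (iv F277023)) (tt N27070 F272384) (tt N27122 F272385) (tt N27797 F272386) (tt N27069 (iv D61020)) (tt N27785 F272387) (tt N27072 F272388) (tt N27792 F272389) (tt N27284 F272390) (tt N29275 (iv F276989)))
theorem Q28252 : ∀ i, i < 28252 → P i := stepQ 28251 Q28251 (allL N28251 (tt N27072 F272391) (tt N29253 (iv F276843)) (tt N29000 (iv F275249)) (tt N29282 D62052) (tt N27071 (iv D61021)) (tt N27235 F272392) (tt N29281 (iv F277028)) (tt N29252 (iv F276840)) (tt N27285 F272393) (tt N29276 (iv F276992)))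
theorem Q28253 : ∀ i, i < 28253 → P i := stepQ 28252 Q28252 (allL N28252 (tt N29282 (iv F277031)) (tt N27073 F272394) (tt N27804 (iv F272399)) (tt N27072 (iv D61022)) (tt N27107 F272395) (tt N27236 F272396) (tt N27797 F272397) (tt N27119 F272398) (tt N29225 (iv F276648)) (tt N29277 (iv F276998)))
theorem Q28254 : ∀ i, i < 28254 → P i := stepQ 28253 Q28253 (allL N28253 (tt N27074 (iv D61023)) (tt N27577 F272400) (tt N27104 F272401) (tt N27791 F272402) (tt N27772 F272403) (tt N29274 (iv F276977)) (tt N27739 F272404) (tt N29251 (iv F276831)) (tt N27807 F272405) (tt N27082 F272406))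
theorem Q28255 : ∀ i, i < 28255 → P i := stepQ 28254 Q28254 (allL N28254 (tt N27075 (iv D61024)) (tt N27795 F272407) (tt N27110 F272408) (tt N29274 (iv F276976)) (tt N29245 (iv F276780)) (tt N27791 F272409) (tt N29246 (iv F276791)) (tt N27082 F272410) (tt N27294 F272411) (tt N29251 (iv F276833)))
theorem Q28256 : ∀ i, i < 28256 → P i := stepQ 28255 Q28255 (allL N28255 (tt N27130 F272412) (tt N29283 D62053) (tt N27076 (iv D61025)) (tt N27471 F272413) (tt N29271 (iv F276958)) (tt N27083 F272414) (tt N27183 F272415) (tt N27089 F272416) (tt N27077 F272417) (tt N27299 F272418))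
theorem Q28257 : ∀ i, i < 28257 → P i := stepQ 28256 Q28256 (allL N28256 (tt N29284 D62054) (tt N27077 (iv D61026)) (tt N27080 F272419) (tt N27111 F272420) (tt N29273 (iv F276970)) (tt N27093 F272421) (tt N27189 F272422) (tt N27102 F272423) (tt N29283 (iv F277043)) (tt N27109 F272424))
theorem Q28258 : ∀ i, i < 28258 → P i := stepQ 28257 Q28257 (allL N28257 (tt N29285 D62055) (tt N27078 (iv D61027)) (tt N29283 (iv F277038)) (tt N27295 F272425) (tt N29286 D62056) (tt N27250 F272426) (tt N27753 F272427) (tt N27805 F272428) (tt N27080 F272429) (tt N27809 F272430))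
theorem Q28259 : ∀ i, i < 28259 → P i := stepQ 28258 Q28258 (allL N28258 (tt N27273 F272431) (tt N29286 (iv F277059)) (tt N27079 F272432) (tt N27899 (iv F272438)) (tt N27078 (iv D61028)) (tt N27330 F272433) (tt N27754 F272434) (tt N27806 F272435) (tt N27081 F272436) (tt N27810 F272437))
theorem Q28260 : ∀ i, i < 28260 → P i := stepQ 28259 Q28259 (allL N28259 (tt N27080 (iv D61029)) (tt N27775 F272439) (tt N29284 (iv F277046)) (tt N27082 F272440) (tt N29287 D62057) (tt N29251 (iv F276829)) (tt N27762 F272441) (tt N29274 (iv F276979)) (tt N29285 (iv F277057)) (tt N27791 F272442))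
theorem Q28261 : ∀ i, i < 28261 → P i := stepQ 28260 Q28260 (allL N28260 (tt N29287 (iv F277066)) (tt N27081 F272443) (tt N29273 (iv F276968)) (tt N27787 F272444) (tt N27080 (iv D61030)) (tt N29267 (iv F276934)) (tt N27763 F272445) (tt N29275 (iv F276987)) (tt N29286 (iv F277063)) (tt N27792 F272446))
theorem Q28262 : ∀ i, i < 28262 → P i := stepQ 28261 Q28261 (allL N28261 (tt N29288 D62058) (tt N27083 (iv D61031)) (tt N27250 F272447) (tt N27710 F272448) (tt N27291 F272449) (tt N29283 (iv F277040)) (tt N27246 F272450) (tt N27091 F272451) (tt N27093 F272452) (tt N27301 F272453))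
theorem Q28263 : ∀ i, i < 28263 → P i := stepQ 28262 Q28262 (allL N28262 (tt N27138 F272454) (tt N29289 D62059) (tt N27084 (iv D61032)) (tt N27096 F272455) (tt N29290 D62060) (tt N27478 F272456) (tt N27610 F272457) (tt N27454 F272458) (tt N27086 F272459) (tt N27652 F272460))
theorem Q28264 : ∀ i, i < 28264 → P i := stepQ 28263 Q28263 (allL N28263 (tt N27139 F272461) (tt N27657 F272462) (tt N29290 (iv F277087)) (tt N28263 F272463) (tt N27084 (iv D61033)) (tt N29291 D62061) (tt N27611 F272464) (tt N27455 F272465) (tt N27087 F272466) (tt N27653 F272467))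
theorem Q28265 : ∀ i, i < 28265 → P i := stepQ 28264 Q28264 (allL N28264 (tt N27140 F272468) (tt N29292 D62062) (tt N27085 (iv D61034)) (tt N27089 F272469) (tt N29293 D62063) (tt N27086 F272470) (tt N27505 F272471) (tt N27471 F272472) (tt N27478 F272473) (tt N27302 F272474))
theorem Q28266 : ∀ i, i < 28266 → P i := stepQ 28265 Q28265 (allL N28265 (tt N27141 F272475) (tt N27690 F272476) (tt N29293 (iv F277107)) (tt N28265 F272477) (tt N27085 (iv D61035)) (tt N29294 D62064) (tt N27506 F272478) (tt N27472 F272479) (tt N27479 F272480) (tt N27303 F272481))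
theorem Q28267 : ∀ i, i < 28267 → P i := stepQ 28266 Q28266 (allL N28266 (tt N29295 D62065) (tt N27086 (iv D61036)) (tt N27693 F272482) (tt N27091 F272483) (tt N29296 D62066) (tt N29292 (iv F277101)) (tt N27615 F272484) (tt N27710 F272485) (tt N29289 (iv F277084)) (tt N27304 F272486))
theorem Q28268 : ∀ i, i < 28268 → P i := stepQ 28267 Q28267 (allL N28267 (tt N27143 F272487) (tt N29296 (iv F277125)) (tt N27087 F272488) (tt N27757 F272489) (tt N27086 (iv D61037)) (tt N29297 D62067) (tt N27616 F272490) (tt N27711 F272491) (tt N29290 (iv F277090)) (tt N27305 F272492))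
theorem Q28269 : ∀ i, i < 28269 → P i := stepQ 28268 Q28268 (allL N28268 (tt N27144 F272493) (tt N27695 F272494) (tt N29297 (iv F277132)) (tt N27088 F272495) (tt N29294 (iv F277115)) (tt N27087 (iv D61038)) (tt N29298 D62068) (tt N27559 F272496) (tt N29291 (iv F277097)) (tt N27306 F272497))
theorem Q28270 : ∀ i, i < 28270 → P i := stepQ 28269 Q28269 (allL N28269 (tt N27145 F272498) (tt N27737 F272499) (tt N27323 F272500) (tt N29298 (iv F277138)) (tt N28269 F272501) (tt N27322 F272502) (tt N27088 (iv D61039)) (tt N27565 F272503) (tt N28269 F272504) (tt N27307 F272505))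
theorem Q28271 : ∀ i, i < 28271 → P i := stepQ 28270 Q28270 (allL N28270 (tt N29299 D62069) (tt N27089 (iv D61040)) (tt N27805 F272506) (tt N29292 (iv F277100)) (tt N29300 D62070) (tt N27091 F272507) (tt N27604 F272508) (tt N29283 (iv F277042)) (tt N27102 F272509) (tt N27308 F272510))
theorem Q28272 : ∀ i, i < 28272 → P i := stepQ 28271 Q28271 (allL N28271 (tt N27147 F272511) (tt N29300 (iv F277148)) (tt N27090 F272512) (tt N29301 D62071) (tt N27089 (iv D61041)) (tt N27813 F272513) (tt N27605 F272514) (tt N29271 (iv F276959)) (tt N27103 F272515) (tt N27309 F272516))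
theorem Q28273 : ∀ i, i < 28273 → P i := stepQ 28272 Q28272 (allL N28272 (tt N27091 (iv D61042)) (tt N27148 F272517) (tt N27807 F272518) (tt N29295 (iv F277121)) (tt N27825 F272519) (tt N29299 (iv F277144)) (tt N27621 F272520) (tt N29288 (iv F277076)) (tt N27104 F272521) (tt N27310 F272522))
theorem Q28274 : ∀ i, i < 28274 → P i := stepQ 28273 Q28273 (allL N28273 (tt N29302 D62072) (tt N27092 (iv D61043)) (tt N27115 F272523) (tt N27093 F272524) (tt N29277 (iv F276994)) (tt N27111 F272525) (tt N27179 F272526) (tt N27099 F272527) (tt N27462 F272528) (tt N27107 F272529))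
theorem Q28275 : ∀ i, i < 28275 → P i := stepQ 28274 Q28274 (allL N28274 (tt N27093 (iv D61044)) (tt N27157 F272530) (tt N29251 (iv F276826)) (tt N29302 (iv F277161)) (tt N29246 (iv F276789)) (tt N29284 (iv F277048)) (tt N29245 (iv F276782)) (tt N27104 F272531) (tt N29288 (iv F277077)) (tt N27110 F272532))
theorem Q28276 : ∀ i, i < 28276 → P i := stepQ 28275 Q28275 (allL N28275 (tt N29303 D62073) (tt N27094 (iv D61045)) (tt N27099 F272533) (tt N27109 F272534) (tt N29304 D62074) (tt N27107 F272535) (tt N27155 F272536) (tt N27115 F272537) (tt N29209 (iv F276557)) (tt N27111 F272538))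
theorem Q28277 : ∀ i, i < 28277 → P i := stepQ 28276 Q28276 (allL N28276 (tt N27190 F272539) (tt N29304 (iv F277174)) (tt N27095 F272540) (tt N27228 F272541) (tt N27094 (iv D61046)) (tt N27227 F272542) (tt N27156 F272543) (tt N27116 F272544) (tt N29210 (iv F276564)) (tt N27112 F272545))
theorem Q28278 : ∀ i, i < 28278 → P i := stepQ 28277 Q28277 (allL N28277 (tt N29305 D62075) (tt N27096 (iv D61047)) (tt N29209 (iv F276552)) (tt N29289 (iv F277080)) (tt N29306 D62076) (tt N27487 F272546) (tt N27768 F272547) (tt N27462 F272548) (tt N27099 F272549) (tt N29144 (iv F276194)))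
theorem Q28279 : ∀ i, i < 28279 → P i := stepQ 28278 Q28278 (allL N28278 (tt N27166 F272550) (tt N29306 (iv F277186)) (tt N27097 F272551) (tt N29307 D62077) (tt N27096 (iv D61048)) (tt N29308 D62078) (tt N27769 F272552) (tt N27463 F272553) (tt N27100 F272554) (tt N29145 (iv F276200)))
theorem Q28280 : ∀ i, i < 28280 → P i := stepQ 28279 Q28279 (allL N28279 (tt N27167 F272555) (tt N27238 F272556) (tt N29308 (iv F277195)) (tt N28279 F272557) (tt N27222 F272558) (tt N27097 (iv D61049)) (tt N27214 F272559) (tt N27178 F272560) (tt N27101 F272561) (tt N29146 (iv F276208)))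
theorem Q28281 : ∀ i, i < 28281 → P i := stepQ 28280 Q28280 (allL N28280 (tt N29309 D62079) (tt N27098 (iv D61050)) (tt N27107 F272562) (tt N27102 F272563) (tt N27804 F272564) (tt N27099 F272565) (tt N27232 F272566) (tt N27111 F272567) (tt N27487 F272568) (tt N27115 F272569))
theorem Q28282 : ∀ i, i < 28282 → P i := stepQ 28281 Q28281 (allL N28281 (tt N27099 (iv D61051)) (tt N27170 F272570) (tt N29303 (iv F277168)) (tt N27104 F272571) (tt N29310 D62080) (tt N29309 (iv F277204)) (tt N27770 F272572) (tt N29302 (iv F277164)) (tt N29305 (iv F277185)) (tt N27118 F272573))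
theorem Q28283 : ∀ i, i < 28283 → P i := stepQ 28282 Q28282 (allL N28282 (tt N29310 (iv F277209)) (tt N27100 F272574) (tt N29304 (iv F277175)) (tt N29248 (iv F276804)) (tt N27099 (iv D61052)) (tt N29311 D62081) (tt N27771 F272575) (tt N29277 (iv F276997)) (tt N29306 (iv F277189)) (tt N27119 F272576))
theorem Q28284 : ∀ i, i < 28284 → P i := stepQ 28283 Q28283 (allL N28283 (tt N27172 F272577) (tt N29311 (iv F277213)) (tt N27101 F272578) (tt N27156 F272579) (tt N27231 F272580) (tt N27100 (iv D61053)) (tt N27228 F272581) (tt N27177 F272582) (tt N29308 (iv F277199)) (tt N27120 F272583))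
theorem Q28285 : ∀ i, i < 28285 → P i := stepQ 28284 Q28284 (allL N28284 (tt N27102 (iv D61054)) (tt N27175 F272584) (tt N29274 (iv F276975)) (tt N29309 (iv F277202)) (tt N29312 D62082) (tt N27104 F272585) (tt N28996 (iv F275217)) (tt N29284 (iv F277050)) (tt N29299 (iv F277146)) (tt N27121 F272586))
theorem Q28286 : ∀ i, i < 28286 → P i := stepQ 28285 Q28285 (allL N28285 (tt N29312 (iv F277220)) (tt N27103 F272587) (tt N29275 (iv F276983)) (tt N29313 D62083) (tt N27102 (iv D61055)) (tt N29250 (iv F276820)) (tt N28997 (iv F275225)) (tt N29273 (iv F276971)) (tt N29300 (iv F277152)) (tt N27122 F272588))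
theorem Q28287 : ∀ i, i < 28287 → P i := stepQ 28286 Q28286 (allL N28286 (tt N27177 F272589) (tt N29313 (iv F277223)) (tt N27105 F272590) (tt N27103 (iv D61056)) (tt N27767 F272591) (tt N27154 F272592) (tt N27764 F272593) (tt N27172 F272594) (tt N29314 D62084) (tt N27123 F272595))
theorem Q28288 : ∀ i, i < 28288 → P i := stepQ 28287 Q28287 (allL N28287 (tt N27178 F272596) (tt N27747 F272597) (tt N29314 (iv F277231)) (tt N28287 F272598) (tt N27342 F272599) (tt N27152 F272600) (tt N27755 F272601) (tt N27167 F272602) (tt N27105 (iv D61057)) (tt N29315 D62085))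
theorem Q28289 : ∀ i, i < 28289 → P i := stepQ 28288 Q28288 (allL N28288 (tt N27106 (iv D61058)) (tt N27181 F272603) (tt N29246 (iv F276787)) (tt N29005 (iv F275286)) (tt N29251 (iv F276828)) (tt N29266 (iv F276926)) (tt N27110 F272604) (tt N27772 F272605) (tt N27331 F272606) (tt N29245 (iv F276785)))
theorem Q28290 : ∀ i, i < 28290 → P i := stepQ 28289 Q28289 (allL N28289 (tt N27107 (iv D61059)) (tt N27191 F272607) (tt N29309 (iv F277201)) (tt N27110 F272608) (tt N29282 (iv F277033)) (tt N29303 (iv F277170)) (tt N29005 (iv F275289)) (tt N27118 F272609) (tt N29224 (iv F276641)) (tt N29302 (iv F277166)))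
theorem Q28291 : ∀ i, i < 28291 → P i := stepQ 28290 Q28290 (allL N28290 (tt N29316 D62086) (tt N27108 (iv D61060)) (tt N27196 F272610) (tt N27155 F272611) (tt N29008 (iv F275310)) (tt N27153 F272612) (tt N27109 F272613) (tt N27168 F272614) (tt N27340 F272615) (tt N27189 F272616))
theorem Q28292 : ∀ i, i < 28292 → P i := stepQ 28291 Q28291 (allL N28291 (tt N27109 (iv D61061)) (tt N27193 F272617) (tt N27791 F272618) (tt N29303 (iv F277169)) (tt N29280 (iv F277020)) (tt N27110 F272619) (tt N29316 (iv F277248)) (tt N27121 F272620) (tt N27343 F272621) (tt N29284 (iv F277051)))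
theorem Q28293 : ∀ i, i < 28293 → P i := stepQ 28292 Q28292 (allL N28292 (tt N27111 (iv D61062)) (tt N29316 (iv F277244)) (tt N27118 F272622) (tt N29284 (iv F277047)) (tt N29317 D62087) (tt N29302 (iv F277162)) (tt N27193 F272623) (tt N29309 (iv F277206)) (tt N27489 F272624) (tt N29303 (iv F277173)))
theorem Q28294 : ∀ i, i < 28294 → P i := stepQ 28293 Q28293 (allL N28293 (tt N29317 (iv F277252)) (tt N27112 F272625) (tt N27119 F272626) (tt N29318 D62088) (tt N27111 (iv D61063)) (tt N29319 D62089) (tt N27194 F272627) (tt N27804 F272628) (tt N27490 F272629) (tt N29304 (iv F277180)))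
theorem Q28295 : ∀ i, i < 28295 → P i := stepQ 28294 Q28294 (allL N28294 (tt N27231 F272630) (tt N29318 (iv F277257)) (tt N27114 F272631) (tt N27112 (iv D61064)) (tt N27172 F272632) (tt N27169 (iv F272636)) (tt N27120 F272633) (tt N27767 F272634) (tt N29073 (iv F275727)) (tt N27228 F272635))
theorem Q28296 : ∀ i, i < 28296 → P i := stepQ 28295 Q28295 (allL N28295 (tt N27767 F272637) (tt N29319 (iv F277264)) (tt N27113 F272638) (tt N27169 F272639) (tt N27177 F272640) (tt N27112 (iv D61065)) (tt N27742 F272641) (tt N27231 F272642) (tt N27492 F272643) (tt N27227 F272644))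
theorem Q28297 : ∀ i, i < 28297 → P i := stepQ 28296 Q28296 (allL N28296 (tt N27115 (iv D61066)) (tt N27225 F272645) (tt N29302 (iv F277160)) (tt N27121 F272646) (tt N29320 D62090) (tt N27118 F272647) (tt N28999 (iv F275243)) (tt N29303 (iv F277172)) (tt N29211 (iv F276571)) (tt N29309 (iv F277208)))
theorem Q28298 : ∀ i, i < 28298 → P i := stepQ 28297 Q28297 (allL N28297 (tt N29320 (iv F277272)) (tt N27116 F272648) (tt N29277 (iv F276999)) (tt N29321 D62091) (tt N27115 (iv D61067)) (tt N29322 D62092) (tt N27783 F272649) (tt N29304 (iv F277179)) (tt N29212 (iv F276575)) (tt N27804 F272650))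
theorem Q28299 : ∀ i, i < 28299 → P i := stepQ 28298 Q28298 (allL N28298 (tt N27227 F272651) (tt N29321 (iv F277276)) (tt N27124 F272652) (tt N27116 (iv D61068)) (tt N27123 F272653) (tt N27190 (iv F272657)) (tt N27750 F272654) (tt N27228 F272655) (tt N29323 D62093) (tt N27767 F272656))
theorem Q28300 : ∀ i, i < 28300 → P i := stepQ 28299 Q28299 (allL N28299 (tt N27228 F272658) (tt N29322 (iv F277283)) (tt N27117 F272659) (tt N27190 F272660) (tt N27120 F272661) (tt N27116 (iv D61069)) (tt N27172 F272662) (tt N27227 F272663) (tt N29214 (iv F276585)) (tt N27231 F272664))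
theorem Q28301 : ∀ i, i < 28301 → P i := stepQ 28300 Q28300 (allL N28300 (tt N27119 F272665) (tt N27229 F272666) (tt N29317 (iv F277253)) (tt N29252 (iv F276837)) (tt N27118 (iv D61070)) (tt N29324 D62094) (tt N27773 F272667) (tt N29282 (iv F277036)) (tt N29226 (iv F276656)) (tt N29310 (iv F277212)))
theorem Q28302 : ∀ i, i < 28302 → P i := stepQ 28301 Q28301 (allL N28301 (tt N29324 (iv F277296)) (tt N27120 F272668) (tt N29319 (iv F277265)) (tt N27194 F272669) (tt N29322 (iv F277286)) (tt N27119 (iv D61071)) (tt N29318 (iv F277260)) (tt N27236 F272670) (tt N29227 (iv F276661)) (tt N29311 (iv F277219)))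
theorem Q28303 : ∀ i, i < 28303 → P i := stepQ 28302 Q28302 (allL N28302 (tt N27122 F272671) (tt N27235 F272672) (tt N29281 (iv F277025)) (tt N29325 D62095) (tt N27121 (iv D61072)) (tt N29253 (iv F276846)) (tt N29000 (iv F275251)) (tt N29280 (iv F277021)) (tt N27358 F272673) (tt N29312 (iv F277222)))
theorem Q28304 : ∀ i, i < 28304 → P i := stepQ 28303 Q28303 (allL N28303 (tt N29325 (iv F277300)) (tt N27123 F272674) (tt N27766 F272675) (tt N27122 (iv D61073)) (tt N29321 (iv F277278)) (tt N27192 F272676) (tt N29001 (iv F275258)) (tt N27230 F272677) (tt N29326 D62096) (tt N29313 (iv F277229)))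
theorem Q28305 : ∀ i, i < 28305 → P i := stepQ 28304 Q28304 (allL N28304 (tt N27237 F272678) (tt N29326 (iv F277305)) (tt N27125 F272679) (tt N27360 F272680) (tt N29323 (iv F277292)) (tt N27188 F272681) (tt N29002 (iv F275266)) (tt N27221 F272682) (tt N27123 (iv D61074)) (tt N29327 D62097))
theorem Q28306 : ∀ i, i < 28306 → P i := stepQ 28305 Q28305 (allL N28305 (tt N27238 F272683) (tt N27755 F272684) (tt N29323 (iv F277291)) (tt N28305 F272685) (tt N27125 F272686) (tt N27184 F272687) (tt N27747 F272688) (tt N27214 F272689) (tt N27124 (iv D61075)) (tt N29328 D62098))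
theorem Q28307 : ∀ i, i < 28307 → P i := stepQ 28306 Q28306 (allL N28306 (tt N27239 F272690) (tt N27758 F272691) (tt N29327 (iv F277311)) (tt N27126 F272692) (tt N29328 (iv F277318)) (tt N27186 F272693) (tt N29003 (iv F275273)) (tt N27217 F272694) (tt N29315 (iv F277243)) (tt N27125 (iv D61076)))
theorem Q28308 : ∀ i, i < 28308 → P i := stepQ 28307 Q28307 (allL N28307 (tt N27454 F272695) (tt N29329 D62099) (tt N27127 (iv D61077)) (tt N27151 F272696) (tt N29208 (iv F276548)) (tt N27335 F272697) (tt N27326 F272698) (tt N27138 F272699) (tt N27129 F272700) (tt N27497 F272701))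
theorem Q28309 : ∀ i, i < 28309 → P i := stepQ 28308 Q28308 (allL N28308 (tt N27471 F272702) (tt N29330 D62100) (tt N27128 (iv D61078)) (tt N27130 F272703) (tt N29331 D62101) (tt N27129 F272704) (tt N27332 F272705) (tt N27140 F272706) (tt N27335 F272707) (tt N27368 F272708))
theorem Q28310 : ∀ i, i < 28310 → P i := stepQ 28309 Q28309 (allL N28309 (tt N27472 F272709) (tt N27875 F272710) (tt N29331 (iv F277338)) (tt N28309 F272711) (tt N27128 (iv D61079)) (tt N29104 (iv F275912)) (tt N27333 F272712) (tt N27141 F272713) (tt N27336 F272714) (tt N27369 F272715))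
theorem Q28311 : ∀ i, i < 28311 → P i := stepQ 28310 Q28310 (allL N28310 (tt N29332 D62102) (tt N27129 (iv D61080)) (tt N29150 (iv F276224)) (tt N27132 F272716) (tt N29244 (iv F276774)) (tt N29330 (iv F277332)) (tt N27730 F272717) (tt N27142 F272718) (tt N29329 (iv F277328)) (tt N27370 F272719))
theorem Q28312 : ∀ i, i < 28312 → P i := stepQ 28311 Q28311 (allL N28311 (tt N29333 D62103) (tt N27130 (iv D61081)) (tt N27768 F272720) (tt N29330 (iv F277331)) (tt N29334 D62104) (tt N27132 F272721) (tt N29209 (iv F276555)) (tt N27146 F272722) (tt N27155 F272723) (tt N27373 F272724))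
theorem Q28313 : ∀ i, i < 28313 → P i := stepQ 28312 Q28312 (allL N28312 (tt N29271 (iv F276956)) (tt N29334 (iv F277353)) (tt N27131 F272725) (tt N29335 D62105) (tt N27130 (iv D61082)) (tt N29108 (iv F275941)) (tt N29210 (iv F276562)) (tt N27147 F272726) (tt N27156 F272727) (tt N27374 F272728))
theorem Q28314 : ∀ i, i < 28314 → P i := stepQ 28313 Q28313 (allL N28313 (tt N27132 (iv D61083)) (tt N29288 (iv F277071)) (tt N27908 F272729) (tt N29332 (iv F277344)) (tt N29109 (iv F275948)) (tt N29333 (iv F277349)) (tt N27736 F272730) (tt N27148 F272731) (tt N27157 F272732) (tt N27375 F272733))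
theorem Q28315 : ∀ i, i < 28315 → P i := stepQ 28314 Q28314 (allL N28314 (tt N29336 D62106) (tt N27133 (iv D61084)) (tt N27142 F272734) (tt N27622 F272735) (tt N29337 D62107) (tt N29020 (iv F275396)) (tt N27685 F272736) (tt N29150 (iv F276228)) (tt N29023 (iv F275419)) (tt N27383 F272737))
theorem Q28316 : ∀ i, i < 28316 → P i := stepQ 28315 Q28315 (allL N28315 (tt N29132 (iv F276116)) (tt N29337 (iv F277365)) (tt N27134 F272738) (tt N29338 D62108) (tt N27133 (iv D61085)) (tt N29339 D62109) (tt N27686 F272739) (tt N29151 (iv F276234)) (tt N29024 (iv F275425)) (tt N27384 F272740))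
theorem Q28317 : ∀ i, i < 28317 → P i := stepQ 28316 Q28316 (allL N28316 (tt N29133 (iv F276122)) (tt N27144 F272741) (tt N29339 (iv F277373)) (tt N27136 F272742) (tt N29022 (iv F275410)) (tt N27134 (iv D61086)) (tt N29340 D62110) (tt N29091 F275842) (tt N29025 (iv F275432)) (tt N27385 F272743))
theorem Q28318 : ∀ i, i < 28318 → P i := stepQ 28317 Q28317 (allL N28317 (tt N29066 (iv F275679)) (tt N29059 (iv F275632)) (tt N29338 (iv F277369)) (tt N27135 (iv D61087)) (tt N27638 F272744) (tt N29341 D62111) (tt N27527 F272745) (tt N29040 (iv F275523)) (tt N29342 D62112) (tt N27386 F272746))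
theorem Q28319 : ∀ i, i < 28319 → P i := stepQ 28318 Q28318 (allL N28318 (tt N29019 (iv F275386)) (tt N27565 F272747) (tt N27136 F272748) (tt N29341 (iv F277381)) (tt N28318 F272749) (tt N27135 (iv D61088)) (tt N27546 F272750) (tt N27737 F272751) (tt N28318 F272752) (tt N27387 F272753))
theorem Q28320 : ∀ i, i < 28320 → P i := stepQ 28319 Q28319 (allL N28319 (tt N29018 (iv F275378)) (tt N27145 F272754) (tt N27546 F272755) (tt N29340 (iv F277376)) (tt N28319 F272756) (tt N27443 F272757) (tt N27136 (iv D61089)) (tt N27548 F272758) (tt N28319 F272759) (tt N27388 F272760))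
theorem Q28321 : ∀ i, i < 28321 → P i := stepQ 28320 Q28320 (allL N28320 (tt N27652 F272761) (tt N29343 D62113) (tt N27137 (iv D61090)) (tt N27163 F272762) (tt N29189 (iv F276423)) (tt N27599 F272763) (tt N27689 F272764) (tt N27497 F272765) (tt N27391 F272766) (tt N27138 F272767))
theorem Q28322 : ∀ i, i < 28322 → P i := stepQ 28321 Q28321 (allL N28321 (tt N29344 D62114) (tt N27138 (iv D61091)) (tt N29023 (iv F275414)) (tt N27165 F272768) (tt N29345 D62115) (tt N29014 (iv F275353)) (tt N27691 F272769) (tt N29329 (iv F277327)) (tt N27142 F272770) (tt N29343 (iv F277395)))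
theorem Q28323 : ∀ i, i < 28323 → P i := stepQ 28322 Q28322 (allL N28322 (tt N29290 (iv F277086)) (tt N29345 (iv F277399)) (tt N27139 F272771) (tt N29346 D62116) (tt N27138 (iv D61092)) (tt N29347 D62117) (tt N27692 F272772) (tt N29208 (iv F276550)) (tt N27143 F272773) (tt N29189 (iv F276426)))
theorem Q28324 : ∀ i, i < 28324 → P i := stepQ 28323 Q28323 (allL N28323 (tt N29291 (iv F277092)) (tt N29025 (iv F275428)) (tt N29347 (iv F277405)) (tt N28323 F272774) (tt N29016 (iv F275367)) (tt N27139 (iv D61093)) (tt N29348 D62118) (tt N29061 (iv F275651)) (tt N27144 F272775) (tt N29060 (iv F275644)))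
theorem Q28325 : ∀ i, i < 28325 → P i := stepQ 28324 Q28324 (allL N28324 (tt N29349 D62119) (tt N27140 (iv D61094)) (tt N29020 (iv F275394)) (tt N27146 F272776) (tt N29350 D62120) (tt N27142 F272777) (tt N27676 F272778) (tt N29330 (iv F277334)) (tt N29014 (iv F275356)) (tt N27395 F272779))
theorem Q28326 : ∀ i, i < 28326 → P i := stepQ 28325 Q28325 (allL N28325 (tt N29293 (iv F277106)) (tt N29350 (iv F277414)) (tt N27141 F272780) (tt N29351 D62121) (tt N27140 (iv D61095)) (tt N29352 D62122) (tt N27677 F272781) (tt N29331 (iv F277340)) (tt N29015 (iv F275362)) (tt N27396 F272782))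
theorem Q28327 : ∀ i, i < 28327 → P i := stepQ 28326 Q28326 (allL N28326 (tt N29294 (iv F277112)) (tt N29022 (iv F275408)) (tt N29352 (iv F277421)) (tt N28326 F272783) (tt N27144 F272784) (tt N27141 (iv D61096)) (tt N29353 D62123) (tt N29104 (iv F275914)) (tt N29016 (iv F275369)) (tt N27397 F272785))
theorem Q28328 : ∀ i, i < 28328 → P i := stepQ 28327 Q28327 (allL N28327 (tt N27142 (iv D61097)) (tt N29295 (iv F277119)) (tt N29336 (iv F277361)) (tt N27148 F272786) (tt N29354 D62124) (tt N29349 (iv F277411)) (tt N27700 F272787) (tt N29332 (iv F277346)) (tt N29344 (iv F277398)) (tt N27398 F272788))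
theorem Q28329 : ∀ i, i < 28329 → P i := stepQ 28328 Q28328 (allL N28328 (tt N29354 (iv F277428)) (tt N27143 F272789) (tt N29337 (iv F277366)) (tt N29261 (iv F276897)) (tt N27142 (iv D61098)) (tt N29355 D62125) (tt N27701 F272790) (tt N29244 (iv F276776)) (tt N29345 (iv F277401)) (tt N27399 F272791))
theorem Q28330 : ∀ i, i < 28330 → P i := stepQ 28329 Q28329 (allL N28329 (tt N29297 (iv F277131)) (tt N29355 (iv F277431)) (tt N27144 F272792) (tt N29262 (iv F276902)) (tt N29352 (iv F277422)) (tt N27143 (iv D61099)) (tt N29356 D62126) (tt N29103 (iv F275907)) (tt N29347 (iv F277406)) (tt N27400 F272793))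

end Cfsg.Agent.Helper17.Fi23TC
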