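import Cfsg.Agent.Helper17.Fi23TC.Fin6

set_option autoImplicit false
set_option linter.all false
set_option maxRecDepth 100000

noncomputable section

namespace Cfsg.Agent.Helper17.Fi23TC

theorem Q28331 : ∀ i, i < 28331 → P i := stepQ 28330 Q28330 (allL N28330 (tt N29298 (iv F277136)) (tt N29340 (iv F277375)) (tt N29356 (iv F277433)) (tt N27145 F272794) (tt N29353 (iv F277425)) (tt N27444 F272795) (tt N27144 (iv D61100)) (tt N29357 D62127) (tt N29348 (iv F277409)) (tt N27401 F272796))
theorem Q28332 : ∀ i, i < 28332 → P i := stepQ 28331 Q28331 (allL N28331 (tt N27565 F272797) (tt N27548 F272798) (tt N27242 F272799) (tt N29357 (iv F277439)) (tt N28331 F272800) (tt N27442 F272801) (tt N27244 F272802) (tt N27145 (iv D61101)) (tt N28331 F272803) (tt N27241 F272804))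
theorem Q28333 : ∀ i, i < 28333 → P i := stepQ 28332 Q28332 (allL N28332 (tt N27146 (iv D61102)) (tt N29299 (iv F277142)) (tt N27894 F272805) (tt N29349 (iv F277410)) (tt N29358 D62128) (tt N27148 F272806) (tt N27682 F272807) (tt N29333 (iv F277350)) (tt N27175 F272808) (tt N27404 F272809))
theorem Q28334 : ∀ i, i < 28334 → P i := stepQ 28333 Q28333 (allL N28333 (tt N29358 (iv F277443)) (tt N27147 F272810) (tt N27895 F272811) (tt N29359 D62129) (tt N27146 (iv D61103)) (tt N29264 (iv F276913)) (tt N27683 F272812) (tt N29334 (iv F277355)) (tt N27176 F272813) (tt N27405 F272814))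
theorem Q28335 : ∀ i, i < 28335 → P i := stepQ 28334 Q28334 (allL N28334 (tt N29301 (iv F277154)) (tt N29359 (iv F277448)) (tt N28334 F272815) (tt N27147 (iv D61104)) (tt N29351 (iv F277418)) (tt N29265 (iv F276919)) (tt N27684 F272816) (tt N29335 (iv F277359)) (tt N29360 D62130) (tt N27406 F272817))
theorem Q28336 : ∀ i, i < 28336 → P i := stepQ 28335 Q28335 (allL N28335 (tt N27149 (iv D61105)) (tt N29245 (iv F276777)) (tt N27802 F272818) (tt N29266 (iv F276925)) (tt N27795 F272819) (tt N29005 (iv F275288)) (tt N27157 F272820) (tt N27585 F272821) (tt N27736 F272822) (tt N27181 F272823))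
theorem Q28337 : ∀ i, i < 28337 → P i := stepQ 28336 Q28336 (allL N28336 (tt N27408 F272824) (tt N29361 D62131) (tt N27150 (iv D61106)) (tt N27497 F272825) (tt N29362 D62132) (tt N27314 F272826) (tt N27311 F272827) (tt N27163 F272828) (tt N27185 F272829) (tt N27151 F272830))
theorem Q28338 : ∀ i, i < 28338 → P i := stepQ 28337 Q28337 (allL N28337 (tt N27409 F272831) (tt N27744 F272832) (tt N29362 (iv F277463)) (tt N28337 F272833) (tt N27150 (iv D61107)) (tt N29315 (iv F277240)) (tt N27312 F272834) (tt N27164 F272835) (tt N27186 F272836) (tt N27152 F272837))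
theorem Q28339 : ∀ i, i < 28339 → P i := stepQ 28338 Q28338 (allL N28338 (tt N29363 D62133) (tt N27151 (iv D61108)) (tt N27745 F272838) (tt N29329 (iv F277324)) (tt N29364 D62134) (tt N27340 F272839) (tt N27329 F272840) (tt N27165 F272841) (tt N27153 F272842) (tt N29361 (iv F277461)))
theorem Q28340 : ∀ i, i < 28340 → P i := stepQ 28339 Q28339 (allL N28339 (tt N27463 F272843) (tt N29364 (iv F277474)) (tt N27152 F272844) (tt N29365 D62135) (tt N27151 (iv D61109)) (tt N29314 (iv F277233)) (tt N27330 F272845) (tt N27166 F272846) (tt N27154 F272847) (tt N29362 (iv F277467)))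
theorem Q28341 : ∀ i, i < 28341 → P i := stepQ 28340 Q28340 (allL N28340 (tt N27153 (iv D61110)) (tt N29302 (iv F277159)) (tt N27748 F272848) (tt N27157 F272849) (tt N29366 D62136) (tt N29316 (iv F277247)) (tt N29266 (iv F276927)) (tt N27170 F272850) (tt N29363 (iv F277473)) (tt N27191 F272851))
theorem Q28342 : ∀ i, i < 28342 → P i := stepQ 28341 Q28341 (allL N28341 (tt N29366 (iv F277484)) (tt N27154 F272852) (tt N27749 F272853) (tt N29250 (iv F276819)) (tt N27153 (iv D61111)) (tt N29313 (iv F277226)) (tt N29267 (iv F276935)) (tt N27171 F272854) (tt N29364 (iv F277478)) (tt N27192 F272855))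
theorem Q28343 : ∀ i, i < 28343 → P i := stepQ 28342 Q28342 (allL N28342 (tt N27155 (iv D61112)) (tt N29284 (iv F277045)) (tt N27770 F272856) (tt N29316 (iv F277246)) (tt N29367 D62137) (tt N27157 F272857) (tt N29303 (iv F277171)) (tt N27175 F272858) (tt N29333 (iv F277351)) (tt N27193 F272859))
theorem Q28344 : ∀ i, i < 28344 → P i := stepQ 28343 Q28343 (allL N28343 (tt N29367 (iv F277488)) (tt N27156 F272860) (tt N27771 F272861) (tt N29311 (iv F277215)) (tt N27155 (iv D61113)) (tt N29248 (iv F276805)) (tt N29304 (iv F277178)) (tt N27176 F272862) (tt N29334 (iv F277356)) (tt N27194 F272863))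
theorem Q28345 : ∀ i, i < 28345 → P i := stepQ 28344 Q28344 (allL N28344 (tt N29368 D62138) (tt N27158 (iv D61114)) (tt N27165 F272864) (tt N27260 F272865) (tt N29369 D62139) (tt N27257 F272866) (tt N27272 F272867) (tt N27745 F272868) (tt N27160 F272869) (tt N29257 (iv F276877)))
theorem Q28346 : ∀ i, i < 28346 → P i := stepQ 28345 Q28345 (allL N28345 (tt N27754 F272870) (tt N29369 (iv F277499)) (tt N27159 F272871) (tt N29370 D62140) (tt N27158 (iv D61115)) (tt N29371 D62141) (tt N27273 F272872) (tt N27746 F272873) (tt N27161 F272874) (tt N29258 (iv F276883)))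
theorem Q28347 : ∀ i, i < 28347 → P i := stepQ 28346 Q28346 (allL N28346 (tt N27755 F272875) (tt N27167 F272876) (tt N29371 (iv F277512)) (tt N28346 F272877) (tt N27259 F272878) (tt N27159 (iv D61116)) (tt N27178 F272879) (tt N27747 F272880) (tt N27162 F272881) (tt N29259 (iv F276891)))
theorem Q28348 : ∀ i, i < 28348 → P i := stepQ 28347 Q28347 (allL N28347 (tt N27160 (iv D61117)) (tt N27762 F272882) (tt N27170 F272883) (tt N27571 F272884) (tt N29372 D62142) (tt N27740 F272885) (tt N27775 F272886) (tt N27748 F272887) (tt N29368 (iv F277498)) (tt N27207 F272888))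
theorem Q28349 : ∀ i, i < 28349 → P i := stepQ 28348 Q28348 (allL N28348 (tt N29372 (iv F277518)) (tt N27161 F272889) (tt N27171 F272890) (tt N27584 F272891) (tt N27160 (iv D61118)) (tt N29373 D62143) (tt N27776 F272892) (tt N27749 F272893) (tt N29369 (iv F277503)) (tt N27208 F272894))
theorem Q28350 : ∀ i, i < 28350 → P i := stepQ 28349 Q28349 (allL N28349 (tt N27764 F272895) (tt N29373 (iv F277525)) (tt N27162 F272896) (tt N27174 F272897) (tt N27742 F272898) (tt N27161 (iv D61119)) (tt N27177 F272899) (tt N27750 F272900) (tt N29371 (iv F277517)) (tt N27209 F272901))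
theorem Q28351 : ∀ i, i < 28351 → P i := stepQ 28350 Q28350 (allL N28350 (tt N29374 D62144) (tt N27163 (iv D61120)) (tt N29257 (iv F276871)) (tt N29343 (iv F277390)) (tt N29375 D62145) (tt N29041 (iv F275527)) (tt N27777 F272902) (tt N29361 (iv F277459)) (tt N27215 F272903) (tt N27165 F272904))
theorem Q28352 : ∀ i, i < 28352 → P i := stepQ 28351 Q28351 (allL N28351 (tt N29145 (iv F276195)) (tt N29375 (iv F277535)) (tt N27164 F272905) (tt N29376 D62146) (tt N27163 (iv D61121)) (tt N29377 D62147) (tt N27778 F272906) (tt N29362 (iv F277465)) (tt N27216 F272907) (tt N27166 F272908))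
theorem Q28353 : ∀ i, i < 28353 → P i := stepQ 28352 Q28352 (allL N28352 (tt N29146 (iv F276201)) (tt N29259 (iv F276885)) (tt N29377 (iv F277542)) (tt N28352 F272909) (tt N29043 (iv F275541)) (tt N27164 (iv D61122)) (tt N29173 (iv F276333)) (tt N29315 (iv F277242)) (tt N27217 F272910) (tt N27167 F272911))
theorem Q28354 : ∀ i, i < 28354 → P i := stepQ 28353 Q28353 (allL N28353 (tt N27165 (iv D61123)) (tt N29305 (iv F277181)) (tt N29368 (iv F277493)) (tt N29344 (iv F277396)) (tt N29378 D62148) (tt N29070 (iv F275706)) (tt N27779 F272912) (tt N29363 (iv F277472)) (tt N27170 F272913) (tt N29374 (iv F277534)))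
theorem Q28355 : ∀ i, i < 28355 → P i := stepQ 28354 Q28354 (allL N28354 (tt N29378 (iv F277545)) (tt N27166 F272914) (tt N29369 (iv F277500)) (tt N29379 D62149) (tt N27165 (iv D61124)) (tt N29380 D62150) (tt N27780 F272915) (tt N29364 (iv F277477)) (tt N27171 F272916) (tt N29375 (iv F277538)))
theorem Q28356 : ∀ i, i < 28356 → P i := stepQ 28355 Q28355 (allL N28355 (tt N29307 (iv F277190)) (tt N29379 (iv F277548)) (tt N28355 F272917) (tt N27166 (iv D61125)) (tt N29346 (iv F277403)) (tt N29381 D62151) (tt N27781 F272918) (tt N29365 (iv F277482)) (tt N29270 (iv F276954)) (tt N29376 (iv F277541)))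
theorem Q28357 : ∀ i, i < 28357 → P i := stepQ 28356 Q28356 (allL N28356 (tt N29308 (iv F277194)) (tt N29380 (iv F277550)) (tt N27167 F272919) (tt N29381 (iv F277553)) (tt N29073 (iv F275724)) (tt N27166 (iv D61126)) (tt N29214 (iv F276583)) (tt N29314 (iv F277235)) (tt N27172 F272920) (tt N29377 (iv F277544)))
theorem Q28358 : ∀ i, i < 28358 → P i := stepQ 28357 Q28357 (allL N28357 (tt N27168 (iv D61127)) (tt N29309 (iv F277200)) (tt N27740 F272921) (tt N27175 F272922) (tt N29382 D62152) (tt N27170 F272923) (tt N28998 (iv F275234)) (tt N29316 (iv F277249)) (tt N29070 (iv F275709)) (tt N27225 F272924))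
theorem Q28359 : ∀ i, i < 28359 → P i := stepQ 28358 Q28358 (allL N28358 (tt N29382 (iv F277554)) (tt N27169 F272925) (tt N27741 F272926) (tt N29319 (iv F277266)) (tt N27168 (iv D61128)) (tt N29318 F277263) (tt N27774 F272927) (tt N29008 (iv F275313)) (tt N29071 (iv F275714)) (tt N27226 F272928))
theorem Q28360 : ∀ i, i < 28360 → P i := stepQ 28359 Q28359 (allL N28359 (tt N27171 F272929) (tt N29310 (iv F277210)) (tt N29372 (iv F277520)) (tt N29272 (iv F276964)) (tt N27170 (iv D61129)) (tt N29383 D62153) (tt N27782 F272930) (tt N29366 (iv F277486)) (tt N29378 (iv F277547)) (tt N27229 F272931))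
theorem Q28361 : ∀ i, i < 28361 → P i := stepQ 28360 Q28360 (allL N28360 (tt N29383 (iv F277559)) (tt N27172 F272932) (tt N29373 (iv F277526)) (tt N29273 (iv F276969)) (tt N29318 (iv F277259)) (tt N27171 (iv D61130)) (tt N29322 (iv F277287)) (tt N29313 (iv F277228)) (tt N29380 (iv F277551)) (tt N27230 F272933))
theorem Q28362 : ∀ i, i < 28362 → P i := stepQ 28361 Q28361 (allL N28361 (tt N27173 (iv D61131)) (tt N28996 (iv F275213)) (tt N27786 F272934) (tt N28998 (iv F275231)) (tt N29384 D62154) (tt N27573 F272935) (tt N27175 F272936) (tt N28999 (iv F275244)) (tt N27682 F272937) (tt N27233 F272938))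
theorem Q28363 : ∀ i, i < 28363 → P i := stepQ 28362 Q28362 (allL N28362 (tt N29384 (iv F277561)) (tt N27174 F272939) (tt N27787 F272940) (tt N29373 (iv F277527)) (tt N27173 (iv D61132)) (tt N27584 F272941) (tt N27176 F272942) (tt N27783 F272943) (tt N27683 F272944) (tt N27234 F272945))
theorem Q28364 : ∀ i, i < 28364 → P i := stepQ 28363 Q28363 (allL N28363 (tt N27176 F272946) (tt N29312 (iv F277221)) (tt N29004 (iv F275278)) (tt N29385 D62155) (tt N27175 (iv D61133)) (tt N29276 (iv F276991)) (tt N29384 (iv F277564)) (tt N29367 (iv F277490)) (tt N29358 (iv F277446)) (tt N27235 F272947))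
theorem Q28365 : ∀ i, i < 28365 → P i := stepQ 28364 Q28364 (allL N28364 (tt N29385 (iv F277568)) (tt N27177 F272948) (tt N29322 (iv F277284)) (tt N27176 (iv D61134)) (tt N29319 (iv F277267)) (tt N29277 (iv F276995)) (tt N29373 (iv F277529)) (tt N29311 (iv F277218)) (tt N29386 D62156) (tt N27236 F272949))
theorem Q28366 : ∀ i, i < 28366 → P i := stepQ 28365 Q28365 (allL N28365 (tt N29314 (iv F277230)) (tt N29386 (iv F277570)) (tt N27178 F272950) (tt N29360 (iv F277452)) (tt N27492 F272951) (tt N27463 F272952) (tt N29371 (iv F277515)) (tt N29308 (iv F277198)) (tt N27177 (iv D61135)) (tt N29387 D62157))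
theorem Q28367 : ∀ i, i < 28367 → P i := stepQ 28366 Q28366 (allL N28366 (tt N29315 (iv F277236)) (tt N29173 (iv F276330)) (tt N29387 (iv F277573)) (tt N28366 F272953) (tt N27421 F272954) (tt N27409 F272955) (tt N29259 (iv F276888)) (tt N29146 (iv F276206)) (tt N27239 F272956) (tt N27178 (iv D61136)))
theorem Q28368 : ∀ i, i < 28368 → P i := stepQ 28367 Q28367 (allL N28367 (tt N27179 (iv D61137)) (tt N29266 (iv F276923)) (tt N28999 (iv F275239)) (tt N29245 (iv F276779)) (tt N29388 D62158) (tt N27181 F272957) (tt N29302 (iv F277163)) (tt N27786 F272958) (tt N27464 F272959) (tt N29005 (iv F275292)))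
theorem Q28369 : ∀ i, i < 28369 → P i := stepQ 28368 Q28368 (allL N28368 (tt N29388 (iv F277577)) (tt N27180 F272960) (tt N27783 F272961) (tt N29275 (iv F276984)) (tt N27179 (iv D61138)) (tt N27776 F272962) (tt N29277 (iv F276996)) (tt N27787 F272963) (tt N27465 F272964) (tt N27797 F272965))
theorem Q28370 : ∀ i, i < 28370 → P i := stepQ 28369 Q28369 (allL N28369 (tt N27371 F272966) (tt N29389 D62159) (tt N27182 (iv D61139)) (tt N27473 F272967) (tt N29390 D62160) (tt N27185 F272968) (tt N27299 F272969) (tt N27210 F272970) (tt N27314 F272971) (tt N27183 F272972))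
theorem Q28371 : ∀ i, i < 28371 → P i := stepQ 28370 Q28370 (allL N28370 (tt N27372 F272973) (tt N27752 F272974) (tt N29390 (iv F277591)) (tt N28370 F272975) (tt N27182 (iv D61140)) (tt N29328 (iv F277319)) (tt N27300 F272976) (tt N27211 F272977) (tt N27315 F272978) (tt N27184 F272979))
theorem Q28372 : ∀ i, i < 28372 → P i := stepQ 28371 Q28371 (allL N28371 (tt N29391 D62161) (tt N27183 (iv D61141)) (tt N27753 F272980) (tt N27474 F272981) (tt N29392 D62162) (tt N27187 F272982) (tt N29283 (iv F277041)) (tt N27212 F272983) (tt N27189 F272984) (tt N29389 (iv F277589)))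
theorem Q28373 : ∀ i, i < 28373 → P i := stepQ 28372 Q28372 (allL N28372 (tt N29210 (iv F276559)) (tt N29392 (iv F277601)) (tt N27184 F272985) (tt N29393 D62163) (tt N27183 (iv D61142)) (tt N29323 (iv F277293)) (tt N29271 F276962) (tt N27213 F272986) (tt N27190 F272987) (tt N29390 (iv F277595)))
theorem Q28374 : ∀ i, i < 28374 → P i := stepQ 28373 Q28373 (allL N28373 (tt N29394 D62164) (tt N27185 (iv D61143)) (tt N27756 F272988) (tt N27476 F272989) (tt N29395 D62165) (tt N29389 (iv F277585)) (tt N27817 F272990) (tt N27215 F272991) (tt N29361 (iv F277460)) (tt N27187 F272992))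
theorem Q28375 : ∀ i, i < 28375 → P i := stepQ 28374 Q28374 (allL N28374 (tt N27867 F272993) (tt N29395 (iv F277614)) (tt N27186 F272994) (tt N29077 (iv F275748)) (tt N27185 (iv D61144)) (tt N29327 (iv F277313)) (tt N27818 F272995) (tt N27216 F272996) (tt N29362 (iv F277466)) (tt N27188 F272997))
theorem Q28376 : ∀ i, i < 28376 → P i := stepQ 28375 Q28375 (allL N28375 (tt N27187 (iv D61145)) (tt N29224 (iv F276636)) (tt N27759 F272998) (tt N27477 F272999) (tt N29396 D62166) (tt N29391 (iv F277598)) (tt N29128 (iv F276089)) (tt N27218 F273000) (tt N27191 F273001) (tt N29394 (iv F277613)))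
theorem Q28377 : ∀ i, i < 28377 → P i := stepQ 28376 Q28376 (allL N28376 (tt N29396 (iv F277619)) (tt N27188 F273002) (tt N27760 F273003) (tt N29079 (iv F275763)) (tt N27187 (iv D61146)) (tt N29326 (iv F277308)) (tt N29129 (iv F276097)) (tt N27219 F273004) (tt N27192 F273005) (tt N29395 (iv F277618)))
theorem Q28378 : ∀ i, i < 28378 → P i := stepQ 28377 Q28377 (allL N28377 (tt N27189 (iv D61147)) (tt N29303 (iv F277167)) (tt N27762 F273006) (tt N27193 F273007) (tt N29397 D62167) (tt N27191 F273008) (tt N29284 (iv F277049)) (tt N27225 F273009) (tt N29391 (iv F277600)) (tt N29316 (iv F277251)))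
theorem Q28379 : ∀ i, i < 28379 → P i := stepQ 28378 Q28378 (allL N28378 (tt N29397 (iv F277623)) (tt N27190 F273010) (tt N27763 F273011) (tt N29322 (iv F277285)) (tt N27189 (iv D61148)) (tt N29321 F277282) (tt N29273 F276973) (tt N27226 F273012) (tt N29392 (iv F277604)) (tt N29008 (iv F275314)))
theorem Q28380 : ∀ i, i < 28380 → P i := stepQ 28379 Q28379 (allL N28379 (tt N27192 F273013) (tt N29282 (iv F277032)) (tt N27765 F273014) (tt N29253 (iv F276845)) (tt N27191 (iv D61149)) (tt N29325 (iv F277303)) (tt N29278 (iv F277006)) (tt N27229 F273015) (tt N29396 (iv F277622)) (tt N29366 (iv F277487)))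
theorem Q28381 : ∀ i, i < 28381 → P i := stepQ 28380 Q28380 (allL N28380 (tt N27194 F273016) (tt N29280 (iv F277017)) (tt N27773 F273017) (tt N29324 (iv F277298)) (tt N27193 (iv D61150)) (tt N29252 (iv F276838)) (tt N29317 (iv F277254)) (tt N27235 F273018) (tt N27493 F273019) (tt N29367 (iv F277491)))
theorem Q28382 : ∀ i, i < 28382 → P i := stepQ 28381 Q28381 (allL N28381 (tt N29398 D62168) (tt N27195 (iv D61151)) (tt N27340 F273020) (tt N27256 F273021) (tt N29009 (iv F275319)) (tt N27745 F273022) (tt N27281 F273023) (tt N27257 F273024) (tt N27196 F273025) (tt N29106 (iv F275931)))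
theorem Q28383 : ∀ i, i < 28383 → P i := stepQ 28382 Q28382 (allL N28382 (tt N27196 (iv D61152)) (tt N27207 F273026) (tt N29316 (iv F277245)) (tt N27739 F273027) (tt N29007 (iv F275304)) (tt N27748 F273028) (tt N27791 F273029) (tt N27740 F273030) (tt N29398 (iv F277632)) (tt N27762 F273031))
theorem Q28384 : ∀ i, i < 28384 → P i := stepQ 28383 Q28383 (allL N28383 (tt N29399 D62169) (tt N27197 (iv D61153)) (tt N27212 F273032) (tt N27820 F273033) (tt N29400 D62170) (tt N27201 F273034) (tt N29107 (iv F275935)) (tt N27753 F273035) (tt N27204 F273036) (tt N29254 (iv F276856)))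
theorem Q28385 : ∀ i, i < 28385 → P i := stepQ 28384 Q28384 (allL N28384 (tt N27746 F273037) (tt N29400 (iv F277639)) (tt N27198 F273038) (tt N29401 D62171) (tt N27197 (iv D61154)) (tt N29402 D62172) (tt N29108 (iv F275942)) (tt N27754 F273039) (tt N27205 F273040) (tt N29255 (iv F276862)))
theorem Q28386 : ∀ i, i < 28386 → P i := stepQ 28385 Q28385 (allL N28385 (tt N27747 F273041) (tt N27214 F273042) (tt N29402 (iv F277649)) (tt N28385 F273043) (tt N27203 F273044) (tt N27198 (iv D61155)) (tt N27238 F273045) (tt N27755 F273046) (tt N27206 F273047) (tt N29256 (iv F276870)))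
theorem Q28387 : ∀ i, i < 28387 → P i := stepQ 28386 Q28386 (allL N28386 (tt N29403 D62173) (tt N27199 (iv D61156)) (tt N27215 F273048) (tt N27291 F273049) (tt N29404 D62174) (tt N29254 (iv F276852)) (tt N27292 F273050) (tt N27756 F273051) (tt N29257 (iv F276876)) (tt N27201 F273052))
theorem Q28388 : ∀ i, i < 28388 → P i := stepQ 28387 Q28387 (allL N28387 (tt N29010 (iv F275322)) (tt N29404 (iv F277659)) (tt N27200 F273053) (tt N27711 F273054) (tt N27199 (iv D61157)) (tt N29405 D62175) (tt N27293 F273055) (tt N27757 F273056) (tt N29258 (iv F276882)) (tt N27202 F273057))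
theorem Q28389 : ∀ i, i < 28389 → P i := stepQ 28388 Q28388 (allL N28388 (tt N29003 (iv F275268)) (tt N27217 F273058) (tt N29405 (iv F277665)) (tt N27240 F273059) (tt N29256 (iv F276866)) (tt N27200 (iv D61158)) (tt N27239 F273060) (tt N27758 F273061) (tt N29259 (iv F276890)) (tt N27203 F273062))
theorem Q28390 : ∀ i, i < 28390 → P i := stepQ 28389 Q28389 (allL N28389 (tt N27201 (iv D61159)) (tt N29398 (iv F277626)) (tt N27218 F273063) (tt N27822 F273064) (tt N29406 D62176) (tt N29399 (iv F277636)) (tt N27793 F273065) (tt N27759 F273066) (tt N27207 F273067) (tt N29403 (iv F277658)))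
theorem Q28391 : ∀ i, i < 28391 → P i := stepQ 28390 Q28390 (allL N28390 (tt N29406 (iv F277670)) (tt N27202 F273068) (tt N27219 F273069) (tt N27713 F273070) (tt N27201 (iv D61160)) (tt N29407 D62177) (tt N27794 F273071) (tt N27760 F273072) (tt N27208 F273073) (tt N29404 (iv F277664)))
theorem Q28392 : ∀ i, i < 28392 → P i := stepQ 28391 Q28391 (allL N28391 (tt N29002 (iv F275261)) (tt N29407 (iv F277676)) (tt N27203 F273074) (tt N27541 F273075) (tt N29402 (iv F277650)) (tt N27202 (iv D61161)) (tt N27237 F273076) (tt N27761 F273077) (tt N27209 F273078) (tt N29405 (iv F277669)))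
theorem Q28393 : ∀ i, i < 28393 → P i := stepQ 28392 Q28392 (allL N28392 (tt N27204 (iv D61162)) (tt N27748 F273079) (tt N27225 F273080) (tt N27738 F273081) (tt N29408 D62178) (tt N27207 F273082) (tt N29247 (iv F276799)) (tt N27762 F273083) (tt N29399 (iv F277638)) (tt N27740 F273084))
theorem Q28394 : ∀ i, i < 28394 → P i := stepQ 28393 Q28393 (allL N28393 (tt N29408 (iv F277682)) (tt N27205 F273085) (tt N27226 F273086) (tt N27771 F273087) (tt N27204 (iv D61163)) (tt N29409 D62179) (tt N29248 (iv F276806)) (tt N27763 F273088) (tt N29400 (iv F277642)) (tt N27741 F273089))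
theorem Q28395 : ∀ i, i < 28395 → P i := stepQ 28394 Q28394 (allL N28394 (tt N27750 F273090) (tt N29409 (iv F277688)) (tt N27206 F273091) (tt N27224 F273092) (tt N27209 F273093) (tt N27205 (iv D61164)) (tt N27227 F273094) (tt N27764 F273095) (tt N29402 (iv F277653)) (tt N27742 F273096))
theorem Q28396 : ∀ i, i < 28396 → P i := stepQ 28395 Q28395 (allL N28395 (tt N27208 F273097) (tt N29007 (iv F275303)) (tt N27229 F273098) (tt N27790 F273099) (tt N27207 (iv D61165)) (tt N29410 D62180) (tt N27796 F273100) (tt N27765 F273101) (tt N29406 (iv F277675)) (tt N29372 (iv F277524)))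
theorem Q28397 : ∀ i, i < 28397 → P i := stepQ 28396 Q28396 (allL N28396 (tt N29410 (iv F277695)) (tt N27209 F273102) (tt N27230 F273103) (tt N27234 F273104) (tt N29409 (iv F277691)) (tt N27208 (iv D61166)) (tt N27236 F273105) (tt N27766 F273106) (tt N29407 (iv F277681)) (tt N29373 (iv F277531)))
theorem Q28398 : ∀ i, i < 28398 → P i := stepQ 28397 Q28397 (allL N28397 (tt N29411 D62181) (tt N27210 (iv D61167)) (tt N29254 (iv F276850)) (tt N27512 F273107) (tt N29412 D62182) (tt N27215 F273108) (tt N29011 (iv F275332)) (tt N29389 (iv F277587)) (tt N29041 (iv F275530)) (tt N27212 F273109))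
theorem Q28399 : ∀ i, i < 28399 → P i := stepQ 28398 Q28398 (allL N28398 (tt N29172 (iv F276323)) (tt N29412 (iv F277703)) (tt N27211 F273110) (tt N29413 D62183) (tt N27210 (iv D61168)) (tt N29414 D62184) (tt N29012 (iv F275339)) (tt N29390 (iv F277593)) (tt N29042 (iv F275536)) (tt N27213 F273111))
theorem Q28400 : ∀ i, i < 28400 → P i := stepQ 28399 Q28399 (allL N28399 (tt N29173 (iv F276329)) (tt N29256 (iv F276864)) (tt N29414 (iv F277708)) (tt N28399 F273112) (tt N27217 F273113) (tt N27211 (iv D61169)) (tt N29146 (iv F276205)) (tt N29328 (iv F277321)) (tt N29043 (iv F275544)) (tt N27214 F273114))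
theorem Q28401 : ∀ i, i < 28401 → P i := stepQ 28400 Q28400 (allL N28400 (tt N27212 (iv D61170)) (tt N29211 (iv F276566)) (tt N29399 (iv F277634)) (tt N27514 F273115) (tt N29415 D62185) (tt N27218 F273116) (tt N29125 (iv F276071)) (tt N29391 (iv F277599)) (tt N27225 F273117) (tt N29411 (iv F277702)))
theorem Q28402 : ∀ i, i < 28402 → P i := stepQ 28401 Q28401 (allL N28401 (tt N29415 (iv F277711)) (tt N27213 F273118) (tt N29400 (iv F277640)) (tt N29416 D62186) (tt N27212 (iv D61171)) (tt N29417 D62187) (tt N29126 (iv F276076)) (tt N29392 (iv F277603)) (tt N27226 F273119) (tt N29412 (iv F277704)))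
theorem Q28403 : ∀ i, i < 28403 → P i := stepQ 28402 Q28402 (allL N28402 (tt N29213 (iv F276576)) (tt N29416 (iv F277713)) (tt N28402 F273120) (tt N27213 (iv D61172)) (tt N27516 F273121) (tt N29418 D62188) (tt N29127 (iv F276083)) (tt N29393 (iv F277607)) (tt N29419 D62189) (tt N29413 (iv F277707)))
theorem Q28404 : ∀ i, i < 28404 → P i := stepQ 28403 Q28403 (allL N28403 (tt N29214 (iv F276580)) (tt N29417 (iv F277715)) (tt N27214 F273122) (tt N29418 (iv F277719)) (tt N27221 F273123) (tt N27213 (iv D61173)) (tt N29308 (iv F277197)) (tt N29323 (iv F277295)) (tt N27228 F273124) (tt N29414 (iv F277710)))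
theorem Q28405 : ∀ i, i < 28405 → P i := stepQ 28404 Q28404 (allL N28404 (tt N27215 (iv D61174)) (tt N29184 (iv F276393)) (tt N29403 (iv F277654)) (tt N27518 F273125) (tt N29420 D62190) (tt N29411 (iv F277701)) (tt N27798 F273126) (tt N29394 (iv F277612)) (tt N29374 (iv F277533)) (tt N27218 F273127))
theorem Q28406 : ∀ i, i < 28406 → P i := stepQ 28405 Q28405 (allL N28405 (tt N29420 (iv F277723)) (tt N27216 F273128) (tt N29404 (iv F277660)) (tt N29421 D62191) (tt N27215 (iv D61175)) (tt N29422 D62192) (tt N27799 F273129) (tt N29395 (iv F277617)) (tt N29375 (iv F277537)) (tt N27219 F273130))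
theorem Q28407 : ∀ i, i < 28407 → P i := stepQ 28406 Q28406 (allL N28406 (tt N27853 F273131) (tt N29421 (iv F277726)) (tt N27243 F273132) (tt N27216 (iv D61176)) (tt N27520 F273133) (tt N29423 D62193) (tt N27655 F273134) (tt N29077 (iv F275750)) (tt N29138 (iv F276160)) (tt N27220 F273135))
theorem Q28408 : ∀ i, i < 28408 → P i := stepQ 28407 Q28407 (allL N28407 (tt N29186 (iv F276405)) (tt N29422 (iv F277731)) (tt N27217 F273136) (tt N29423 (iv F277735)) (tt N29414 (iv F277709)) (tt N27216 (iv D61177)) (tt N29424 D62194) (tt N29327 (iv F277314)) (tt N29377 (iv F277543)) (tt N27221 F273137))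
theorem Q28409 : ∀ i, i < 28409 → P i := stepQ 28408 Q28408 (allL N28408 (tt N29043 (iv F275538)) (tt N27239 F273138) (tt N29424 (iv F277738)) (tt N27242 F273139) (tt N29146 (iv F276204)) (tt N27418 F273140) (tt N27217 (iv D61178)) (tt N27421 (iv F273142)) (tt N29173 (iv F276335)) (tt N27222 F273141))
theorem Q28410 : ∀ i, i < 28410 → P i := stepQ 28409 Q28409 (allL N28409 (tt N27219 F273143) (tt N29226 (iv F276652)) (tt N29406 (iv F277671)) (tt N29425 D62195) (tt N27218 (iv D61179)) (tt N29426 D62196) (tt N27800 F273144) (tt N29396 (iv F277621)) (tt N27229 F273145) (tt N29420 (iv F277725)))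
theorem Q28411 : ∀ i, i < 28411 → P i := stepQ 28410 Q28410 (allL N28410 (tt N29425 (iv F277742)) (tt N27220 F273146) (tt N27680 F273147) (tt N27219 (iv D61180)) (tt N27522 F273148) (tt N29427 D62197) (tt N27688 F273149) (tt N29079 (iv F275765)) (tt N27836 F273150) (tt N29421 (iv F277730)))
theorem Q28412 : ∀ i, i < 28412 → P i := stepQ 28411 Q28411 (allL N28411 (tt N29426 (iv F277748)) (tt N27221 F273151) (tt N29407 (iv F277677)) (tt N29427 (iv F277752)) (tt N29417 (iv F277716)) (tt N27219 (iv D61181)) (tt N29428 D62198) (tt N29326 (iv F277309)) (tt N27230 F273152) (tt N29422 (iv F277732)))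
theorem Q28413 : ∀ i, i < 28413 → P i := stepQ 28412 Q28412 (allL N28412 (tt N27495 F273153) (tt N29427 (iv F277750)) (tt N27245 F273154) (tt N27221 F273155) (tt N29429 D62199) (tt N27220 (iv D61182)) (tt N29430 D62200) (tt N27360 F273156) (tt N27345 F273157) (tt N29423 (iv F277737)))
theorem Q28414 : ∀ i, i < 28414 → P i := stepQ 28413 Q28413 (allL N28413 (tt N29073 (iv F275721)) (tt N29428 (iv F277755)) (tt N27222 F273158) (tt N29430 (iv F277767)) (tt N29308 (iv F277196)) (tt N27488 F273159) (tt N27221 (iv D61183)) (tt N27492 (iv F273161)) (tt N27231 F273160) (tt N29424 (iv F277740)))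
theorem Q28415 : ∀ i, i < 28415 → P i := stepQ 28414 Q28414 (allL N28414 (tt N27223 (iv D61184)) (tt N28999 (iv F275238)) (tt N29247 (iv F276796)) (tt N27233 F273162) (tt N29431 D62201) (tt N27801 F273163) (tt N27225 F273164) (tt N28996 (iv F275218)) (tt N29125 (iv F276073)) (tt N28998 (iv F275237)))
theorem Q28416 : ∀ i, i < 28416 → P i := stepQ 28415 Q28415 (allL N28415 (tt N29431 (iv F277771)) (tt N27224 F273165) (tt N29248 (iv F276803)) (tt N29409 (iv F277690)) (tt N27223 (iv D61185)) (tt N27771 F273166) (tt N27226 F273167) (tt N28997 (iv F275226)) (tt N29126 (iv F276078)) (tt N27774 F273168))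
theorem Q28417 : ∀ i, i < 28417 → P i := stepQ 28416 Q28416 (allL N28416 (tt N27226 F273169) (tt N29320 (iv F277273)) (tt N29408 (iv F277684)) (tt N29432 D62202) (tt N27225 (iv D61186)) (tt N29433 D62203) (tt N29431 (iv F277774)) (tt N29397 (iv F277625)) (tt N29415 (iv F277712)) (tt N29382 (iv F277558)))
theorem Q28418 : ∀ i, i < 28418 → P i := stepQ 28417 Q28417 (allL N28417 (tt N29432 (iv F277776)) (tt N27227 F273170) (tt N29311 (iv F277214)) (tt N27226 (iv D61187)) (tt N27236 F273171) (tt N29304 (iv F277177)) (tt N29409 (iv F277692)) (tt N29322 (iv F277288)) (tt N29434 D62204) (tt N29319 (iv F277271)))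
theorem Q28419 : ∀ i, i < 28419 → P i := stepQ 28418 Q28418 (allL N28418 (tt N29433 (iv F277778)) (tt N27228 F273172) (tt N29409 (iv F277689)) (tt N29304 (iv F277176)) (tt N27230 F273173) (tt N27226 (iv D61188)) (tt N29311 (iv F277217)) (tt N29321 (iv F277280)) (tt N29417 (iv F277717)) (tt N29318 (iv F277262)))
theorem Q28420 : ∀ i, i < 28420 → P i := stepQ 28419 Q28419 (allL N28419 (tt N29323 (iv F277290)) (tt N29434 (iv F277780)) (tt N27238 F273174) (tt N29419 (iv F277721)) (tt N27237 F273175) (tt N29210 (iv F276561)) (tt N29402 (iv F277651)) (tt N29214 (iv F276584)) (tt N27227 (iv D61189)) (tt N29435 D62205))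
theorem Q28421 : ∀ i, i < 28421 → P i := stepQ 28420 Q28420 (allL N28420 (tt N27230 F273176) (tt N29324 (iv F277297)) (tt N29410 (iv F277696)) (tt N29280 (iv F277019)) (tt N29433 (iv F277779)) (tt N27229 (iv D61190)) (tt N29436 D62206) (tt N29325 (iv F277304)) (tt N29426 (iv F277749)) (tt N29383 (iv F277560)))
theorem Q28422 : ∀ i, i < 28422 → P i := stepQ 28421 Q28421 (allL N28421 (tt N29436 (iv F277786)) (tt N27231 F273177) (tt N27236 F273178) (tt N29008 (iv F275309)) (tt N29311 (iv F277216)) (tt N27804 F273179) (tt N27230 (iv D61191)) (tt N29319 (iv F277269)) (tt N29428 (iv F277758)) (tt N29322 (iv F277289)))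
theorem Q28423 : ∀ i, i < 28423 → P i := stepQ 28422 Q28422 (allL N28422 (tt N27232 (iv D61192)) (tt N28998 (iv F275229)) (tt N29005 (iv F275285)) (tt N28996 (iv F275215)) (tt N27803 F273180) (tt N27802 F273181) (tt N29309 (iv F277205)) (tt N27233 F273182) (tt N27536 F273183) (tt N28999 (iv F275246)))
theorem Q28424 : ∀ i, i < 28424 → P i := stepQ 28423 Q28423 (allL N28423 (tt N27234 F273184) (tt N29000 (iv F275248)) (tt N29006 (iv F275295)) (tt N29410 (iv F277697)) (tt N27233 (iv D61193)) (tt N27790 F273185) (tt N27235 F273186) (tt N27803 F273187) (tt N27539 F273188) (tt N29384 (iv F277567)))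
theorem Q28425 : ∀ i, i < 28425 → P i := stepQ 28424 Q28424 (allL N28424 (tt N27236 F273189) (tt N29325 (iv F277301)) (tt N29436 (iv F277787)) (tt N27235 (iv D61194)) (tt N29432 (iv F277777)) (tt N29282 (iv F277034)) (tt N29410 (iv F277698)) (tt N29324 (iv F277299)) (tt N29437 D62207) (tt N29385 (iv F277569)))
theorem Q28426 : ∀ i, i < 28426 → P i := stepQ 28425 Q28425 (allL N28425 (tt N29437 (iv F277789)) (tt N27237 F273190) (tt N29428 (iv F277756)) (tt N27544 F273191) (tt N29434 (iv F277781)) (tt N29225 F276650) (tt N29407 (iv F277679)) (tt N29227 (iv F276660)) (tt N27236 (iv D61195)) (tt N29438 D62208))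
theorem Q28427 : ∀ i, i < 28427 → P i := stepQ 28426 Q28426 (allL N28426 (tt N29327 (iv F277310)) (tt N29438 (iv F277791)) (tt N27239 F273192) (tt N27545 F273193) (tt N29435 (iv F277783)) (tt N27867 F273194) (tt N29405 (iv F277667)) (tt N29186 (iv F276408)) (tt N29387 (iv F277576)) (tt N27237 (iv D61196)))
theorem Q28428 : ∀ i, i < 28428 → P i := stepQ 28427 Q28427 (allL N28427 (tt N29328 (iv F277315)) (tt N29146 (iv F276202)) (tt N29435 (iv F277782)) (tt N28427 F273195) (tt N27239 F273196) (tt N27372 F273197) (tt N29256 (iv F276867)) (tt N29173 (iv F276334)) (tt N27421 F273198) (tt N27238 (iv D61197)))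
theorem Q28429 : ∀ i, i < 28429 → P i := stepQ 28428 Q28428 (allL N28428 (tt N27553 F273199) (tt N27568 F273200) (tt N29430 (iv F277766)) (tt N27241 (iv D61198)) (tt N29439 D62209) (tt N27550 F273201) (tt N27245 F273202) (tt N27401 F273203) (tt N27363 F273204) (tt N29357 (iv F277442)))
theorem Q28430 : ∀ i, i < 28430 → P i := stepQ 28429 Q28429 (allL N28429 (tt N27557 F273205) (tt N27650 F273206) (tt N29423 (iv F277734)) (tt N27244 F273207) (tt N29136 (iv F276145)) (tt N27243 (iv D61199)) (tt N29357 (iv F277441)) (tt N27365 F273208) (tt N29139 (iv F276167)) (tt N27245 F273209))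
theorem Q28431 : ∀ i, i < 28431 → P i := stepQ 28430 Q28430 (allL N28430 (tt N27549 F273210) (tt N27678 F273211) (tt N29429 (iv F277761)) (tt N28430 F273212) (tt N27245 (iv D61200)) (tt N27569 F273213) (tt N29439 (iv F277797)) (tt N27364 F273214) (tt N27362 F273215) (tt N29136 (iv F276148)))
theorem Q28432 : ∀ i, i < 28432 → P i := stepQ 28431 Q28431 (allL N28431 (tt N27246 (iv D61201)) (tt N27736 F273216) (tt N27251 F273217) (tt N29232 (iv F276693)) (tt N27294 F273218) (tt N29128 (iv F276088)) (tt N29288 (iv F277075)) (tt N27249 F273219) (tt N29245 (iv F276784)) (tt N27819 F273220))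
theorem Q28433 : ∀ i, i < 28433 → P i := stepQ 28432 Q28432 (allL N28432 (tt N27247 (iv D61202)) (tt N27732 F273221) (tt N27535 F273222) (tt N27249 F273223) (tt N29440 D62210) (tt N27504 F273224) (tt N27633 F273225) (tt N29232 (iv F276696)) (tt N27891 F273226) (tt N27591 F273227))
theorem Q28434 : ∀ i, i < 28434 → P i := stepQ 28433 Q28433 (allL N28433 (tt N29440 (iv F277800)) (tt N27248 F273228) (tt N27533 F273229) (tt N27298 F273230) (tt N27247 (iv D61203)) (tt N27503 F273231) (tt N27634 F273232) (tt N29233 (iv F276704)) (tt N27892 F273233) (tt N27592 F273234))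
theorem Q28435 : ∀ i, i < 28435 → P i := stepQ 28434 Q28434 (allL N28434 (tt N27250 (iv D61204)) (tt N27274 F273235) (tt N29288 (iv F277072)) (tt N27808 F273236) (tt N27331 F273237) (tt N29285 (iv F277054)) (tt N27251 F273238) (tt N27807 F273239) (tt N29251 (iv F276832)) (tt N27811 F273240))
theorem Q28436 : ∀ i, i < 28436 → P i := stepQ 28435 Q28435 (allL N28435 (tt N27253 F273241) (tt N27285 F273242) (tt N29130 (iv F276103)) (tt N29080 (iv F275771)) (tt N27252 (iv D61205)) (tt N27358 F273243) (tt N29116 (iv F276002)) (tt N29279 (iv F277013)) (tt N29253 (iv F276849)) (tt N27834 F273244))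
theorem Q28437 : ∀ i, i < 28437 → P i := stepQ 28436 Q28436 (allL N28436 (tt N29441 D62211) (tt N27254 (iv D61206)) (tt N29011 (iv F275329)) (tt N27745 F273245) (tt N29442 D62212) (tt N27256 F273246) (tt N29254 (iv F276853)) (tt N27260 F273247) (tt N27266 F273248) (tt N29107 (iv F275938)))
theorem Q28438 : ∀ i, i < 28438 → P i := stepQ 28437 Q28437 (allL N28437 (tt N27821 F273249) (tt N29442 (iv F277813)) (tt N27255 F273250) (tt N29443 D62213) (tt N27254 (iv D61207)) (tt N27374 F273251) (tt N29255 (iv F276859)) (tt N27261 F273252) (tt N27267 F273253) (tt N29108 (iv F275945)))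
theorem Q28439 : ∀ i, i < 28439 → P i := stepQ 28438 Q28438 (allL N28438 (tt N27256 (iv D61208)) (tt N27822 F273254) (tt N29013 (iv F275344)) (tt N29398 (iv F277628)) (tt N27375 F273255) (tt N29441 (iv F277810)) (tt N29105 (iv F275921)) (tt N27262 F273256) (tt N27268 F273257) (tt N29109 (iv F275952)))
theorem Q28440 : ∀ i, i < 28440 → P i := stepQ 28439 Q28439 (allL N28439 (tt N27257 (iv D61209)) (tt N27759 F273258) (tt N29070 (iv F275705)) (tt N27262 F273259) (tt N29444 D62214) (tt N29368 (iv F277495)) (tt N27276 F273260) (tt N29398 (iv F277631)) (tt N27740 F273261) (tt N29260 (iv F276895)))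
theorem Q28441 : ∀ i, i < 28441 → P i := stepQ 28440 Q28440 (allL N28440 (tt N29444 (iv F277823)) (tt N27258 F273262) (tt N29071 (iv F275711)) (tt N27399 F273263) (tt N27257 (iv D61210)) (tt N29445 D62215) (tt N27277 F273264) (tt N29009 (iv F275321)) (tt N27741 F273265) (tt N29261 (iv F276899)))
theorem Q28442 : ∀ i, i < 28442 → P i := stepQ 28441 Q28441 (allL N28441 (tt N27761 F273266) (tt N29445 (iv F277828)) (tt N27259 F273267) (tt N27400 F273268) (tt N29371 (iv F277514)) (tt N27258 (iv D61211)) (tt N27492 F273269) (tt N29002 (iv F275267)) (tt N27742 F273270) (tt N29262 (iv F276904)))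
theorem Q28443 : ∀ i, i < 28443 → P i := stepQ 28442 Q28442 (allL N28442 (tt N27260 (iv D61212)) (tt N27831 F273271) (tt N29030 (iv F275454)) (tt N29368 (iv F277494)) (tt N29446 D62216) (tt N27262 F273272) (tt N29112 (iv F275971)) (tt N29441 (iv F277811)) (tt N27269 F273273) (tt N29263 (iv F276910)))
theorem Q28444 : ∀ i, i < 28444 → P i := stepQ 28443 Q28443 (allL N28443 (tt N29446 (iv F277832)) (tt N27261 F273274) (tt N29031 (iv F275460)) (tt N29447 D62217) (tt N27260 (iv D61213)) (tt N27405 F273275) (tt N29113 (iv F275978)) (tt N29442 (iv F277815)) (tt N27270 F273276) (tt N29264 (iv F276916)))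
theorem Q28445 : ∀ i, i < 28445 → P i := stepQ 28444 Q28444 (allL N28444 (tt N27833 F273277) (tt N29447 (iv F277836)) (tt N28444 F273278) (tt N27261 (iv D61214)) (tt N29370 (iv F277506)) (tt N27406 F273279) (tt N29114 (iv F275986)) (tt N29443 (iv F277821)) (tt N27724 F273280) (tt N29265 (iv F276922)))
theorem Q28446 : ∀ i, i < 28446 → P i := stepQ 28445 Q28445 (allL N28445 (tt N29448 D62218) (tt N27263 (iv D61215)) (tt N27777 F273281) (tt N27805 F273282) (tt N29449 D62219) (tt N27265 F273283) (tt N29257 (iv F276874)) (tt N27295 F273284) (tt N27292 F273285) (tt N27272 F273286))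
theorem Q28447 : ∀ i, i < 28447 → P i := stepQ 28446 Q28446 (allL N28446 (tt N27810 F273287) (tt N29449 (iv F277846)) (tt N27264 F273288) (tt N29450 D62220) (tt N27263 (iv D61216)) (tt N27411 F273289) (tt N29258 (iv F276880)) (tt N27296 F273290) (tt N27293 F273291) (tt N27273 F273292))
theorem Q28448 : ∀ i, i < 28448 → P i := stepQ 28447 Q28447 (allL N28447 (tt N27265 (iv D61217)) (tt N27811 F273293) (tt N29033 (iv F275471)) (tt N27807 F273294) (tt N27412 F273295) (tt N29448 (iv F277842)) (tt N27268 F273296) (tt N27808 F273297) (tt N29105 (iv F275923)) (tt N27274 F273298))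
theorem Q28449 : ∀ i, i < 28449 → P i := stepQ 28448 Q28448 (allL N28448 (tt N27266 (iv D61218)) (tt N27823 F273299) (tt N29044 (iv F275547)) (tt N27594 F273300) (tt N29451 D62221) (tt N27268 F273301) (tt N29260 (iv F276894)) (tt N27269 F273302) (tt N29441 (iv F277812)) (tt N27276 F273303))
theorem Q28450 : ∀ i, i < 28450 → P i := stepQ 28449 Q28449 (allL N28449 (tt N29451 (iv F277859)) (tt N27267 F273304) (tt N29045 (iv F275553)) (tt N27701 F273305) (tt N27266 (iv D61219)) (tt N27423 F273306) (tt N29261 (iv F276898)) (tt N27270 F273307) (tt N29442 (iv F277816)) (tt N27277 F273308))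
theorem Q28451 : ∀ i, i < 28451 → P i := stepQ 28450 Q28450 (allL N28450 (tt N27270 F273309) (tt N27834 F273310) (tt N29056 (iv F275616)) (tt N27734 F273311) (tt N27269 (iv D61220)) (tt N27439 F273312) (tt N29115 (iv F275995)) (tt N29451 (iv F277863)) (tt N29446 (iv F277835)) (tt N27285 F273313))
theorem Q28452 : ∀ i, i < 28452 → P i := stepQ 28451 Q28451 (allL N28451 (tt N27271 (iv D61221)) (tt N27808 F273314) (tt N27310 F273315) (tt N27274 F273316) (tt N27828 F273317) (tt N29112 (iv F275970)) (tt N27275 F273318) (tt N27811 F273319) (tt N27290 F273320) (tt N27807 F273321))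
theorem Q28453 : ∀ i, i < 28453 → P i := stepQ 28452 Q28452 (allL N28452 (tt N27272 (iv D61222)) (tt N29285 (iv F277052)) (tt N27779 F273322) (tt N29112 (iv F275969)) (tt N29452 D62222) (tt N27274 F273323) (tt N29368 (iv F277496)) (tt N27814 F273324) (tt N27775 F273325) (tt N29448 (iv F277845)))
theorem Q28454 : ∀ i, i < 28454 → P i := stepQ 28453 Q28453 (allL N28453 (tt N29452 (iv F277865)) (tt N27273 F273326) (tt N27780 F273327) (tt N29453 D62223) (tt N27272 (iv D61223)) (tt N27465 F273328) (tt N29369 (iv F277501)) (tt N27815 F273329) (tt N27776 F273330) (tt N29449 (iv F277851)))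
theorem Q28455 : ∀ i, i < 28455 → P i := stepQ 28454 Q28454 (allL N28454 (tt N27899 F273331) (tt N29453 (iv F277870)) (tt N28454 F273332) (tt N27273 (iv D61224)) (tt N29114 (iv F275984)) (tt N27466 F273333) (tt N29370 (iv F277507)) (tt N27816 F273334) (tt N27840 F273335) (tt N29450 (iv F277858)))
theorem Q28456 : ∀ i, i < 28456 → P i := stepQ 28455 Q28455 (allL N28455 (tt N27277 F273336) (tt N29279 (iv F277009)) (tt N29074 (iv F275730)) (tt N27856 F273337) (tt N27276 (iv D61225)) (tt N27493 F273338) (tt N29444 (iv F277826)) (tt N27285 F273339) (tt N29252 (iv F276841)) (tt N29451 (iv F277864)))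
theorem Q28457 : ∀ i, i < 28457 → P i := stepQ 28456 Q28456 (allL N28456 (tt N27281 (iv D61226)) (tt N27793 F273340) (tt N27343 F273341) (tt N29105 (iv F275918)) (tt N29454 D62224) (tt N27294 F273342) (tt N29398 (iv F277630)) (tt N27283 F273343) (tt N27791 F273344) (tt N29110 (iv F275959)))
theorem Q28458 : ∀ i, i < 28458 → P i := stepQ 28457 Q28457 (allL N28457 (tt N29454 (iv F277874)) (tt N27282 F273345) (tt N27344 F273346) (tt N29221 (iv F276620)) (tt N27281 (iv D61227)) (tt N29129 (iv F276096)) (tt N29009 (iv F275320)) (tt N27284 F273347) (tt N27792 F273348) (tt N29111 (iv F275966)))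
theorem Q28459 : ∀ i, i < 28459 → P i := stepQ 28458 Q28458 (allL N28458 (tt N27284 F273349) (tt N29116 (iv F275998)) (tt N27358 F273350) (tt N29235 (iv F276716)) (tt N27283 (iv D61228)) (tt N29130 (iv F276105)) (tt N27285 F273351) (tt N29454 (iv F277877)) (tt N29281 (iv F277030)) (tt N29115 (iv F275996)))
theorem Q28460 : ∀ i, i < 28460 → P i := stepQ 28459 Q28459 (allL N28459 (tt N27286 F273352) (tt N29080 (iv F275769)) (tt N29240 (iv F276753)) (tt N27285 (iv D61229)) (tt N27673 F273353) (tt N27542 F273354) (tt N29235 (iv F276718)) (tt N27856 F273355) (tt N29455 D62225) (tt N27734 F273356))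
theorem Q28461 : ∀ i, i < 28461 → P i := stepQ 28460 Q28460 (allL N28460 (tt N29455 (iv F277879)) (tt N27287 F273357) (tt N29238 (iv F276735)) (tt N29225 (iv F276645)) (tt N27667 F273358) (tt N27544 F273359) (tt N29219 (iv F276610)) (tt N27855 F273360) (tt N27286 (iv D61230)) (tt N29456 D62226))
theorem Q28462 : ∀ i, i < 28462 → P i := stepQ 28461 Q28461 (allL N28461 (tt N29077 (iv F275746)) (tt N29456 (iv F277883)) (tt N27288 F273361) (tt N27867 F273362) (tt N27346 F273363) (tt N27545 F273364) (tt N27469 F273365) (tt N27853 F273366) (tt N27721 F273367) (tt N27287 (iv D61231)))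
theorem Q28463 : ∀ i, i < 28463 → P i := stepQ 28462 Q28462 (allL N28462 (tt N27289 (iv D61232)) (tt N29105 (iv F275916)) (tt N27318 F273368) (tt N27793 F273369) (tt N27819 F273370) (tt N29110 (iv F275956)) (tt N27822 F273371) (tt N27290 F273372) (tt N27811 F273373) (tt N27294 F273374))
theorem Q28464 : ∀ i, i < 28464 → P i := stepQ 28463 Q28463 (allL N28463 (tt N27291 (iv D61233)) (tt N29109 (iv F275946)) (tt N27331 F273375) (tt N29403 (iv F277655)) (tt N29288 (iv F277074)) (tt N29268 (iv F276940)) (tt N27294 F273376) (tt N27825 F273377) (tt N29246 (iv F276793)) (tt N27822 F273378))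
theorem Q28465 : ∀ i, i < 28465 → P i := stepQ 28464 Q28464 (allL N28464 (tt N27292 (iv D61234)) (tt N29110 (iv F275953)) (tt N27798 F273379) (tt N27294 F273380) (tt N29457 D62227) (tt N29105 (iv F275920)) (tt N29403 (iv F277656)) (tt N27297 F273381) (tt N29448 (iv F277844)) (tt N27793 F273382))
theorem Q28466 : ∀ i, i < 28466 → P i := stepQ 28465 Q28465 (allL N28465 (tt N29457 (iv F277891)) (tt N27293 F273383) (tt N27799 F273384) (tt N29233 (iv F276701)) (tt N27292 (iv D61235)) (tt N29204 (iv F276523)) (tt N29404 (iv F277662)) (tt N27298 F273385) (tt N29449 (iv F277850)) (tt N27794 F273386))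
theorem Q28467 : ∀ i, i < 28467 → P i := stepQ 28466 Q28466 (allL N28466 (tt N27295 (iv D61236)) (tt N29112 (iv F275967)) (tt N29117 (iv F276007)) (tt N29285 (iv F277053)) (tt N29458 D62228) (tt N27808 F273387) (tt N27831 F273388) (tt N29448 (iv F277843)) (tt N27297 F273389) (tt N27814 F273390))
theorem Q28468 : ∀ i, i < 28468 → P i := stepQ 28467 Q28467 (allL N28467 (tt N29458 (iv F277895)) (tt N27296 F273391) (tt N29118 (iv F276015)) (tt N29459 D62229) (tt N27295 (iv D61237)) (tt N27861 F273392) (tt N27832 F273393) (tt N29449 (iv F277849)) (tt N27298 F273394) (tt N27815 F273395))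
theorem Q28469 : ∀ i, i < 28469 → P i := stepQ 28468 Q28468 (allL N28468 (tt N29114 (iv F275982)) (tt N29459 (iv F277900)) (tt N28468 F273396) (tt N27296 (iv D61238)) (tt N27899 F273397) (tt N27862 F273398) (tt N27833 F273399) (tt N29450 (iv F277856)) (tt N27893 F273400) (tt N27816 F273401))
theorem Q28470 : ∀ i, i < 28470 → P i := stepQ 28469 Q28469 (allL N28469 (tt N27298 F273402) (tt N29115 (iv F275991)) (tt N29124 (iv F276062)) (tt N29440 (iv F277803)) (tt N27297 (iv D61239)) (tt N29205 (iv F276532)) (tt N27834 F273403) (tt N29457 (iv F277893)) (tt N29458 (iv F277898)) (tt N29116 (iv F276005)))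
theorem Q28471 : ∀ i, i < 28471 → P i := stepQ 28470 Q28470 (allL N28470 (tt N29460 D62230) (tt N27299 (iv D61240)) (tt N27809 F273404) (tt N27708 F273405) (tt N29461 D62231) (tt N27301 F273406) (tt N29389 (iv F277586)) (tt N27308 F273407) (tt N27316 F273408) (tt N29283 (iv F277044)))
theorem Q28472 : ∀ i, i < 28472 → P i := stepQ 28471 Q28471 (allL N28471 (tt N27374 F273409) (tt N29461 (iv F277912)) (tt N27300 F273410) (tt N29462 D62232) (tt N27299 (iv D61241)) (tt N27821 F273411) (tt N29390 (iv F277592)) (tt N27309 F273412) (tt N27317 F273413) (tt N29271 (iv F276961)))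
theorem Q28473 : ∀ i, i < 28473 → P i := stepQ 28472 Q28472 (allL N28472 (tt N27301 (iv D61242)) (tt N27375 F273414) (tt N27811 F273415) (tt N27712 F273416) (tt N27822 F273417) (tt N29460 (iv F277909)) (tt N27819 F273418) (tt N27310 F273419) (tt N27318 F273420) (tt N29288 (iv F277078)))
theorem Q28474 : ∀ i, i < 28474 → P i := stepQ 28473 Q28473 (allL N28473 (tt N29463 D62233) (tt N27302 (iv D61243)) (tt N27691 F273421) (tt N27308 F273422) (tt N29464 D62234) (tt N27304 F273423) (tt N29023 (iv F275417)) (tt N27708 F273424) (tt N27685 F273425) (tt N29292 (iv F277105)))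
theorem Q28475 : ∀ i, i < 28475 → P i := stepQ 28474 Q28474 (allL N28474 (tt N27396 F273426) (tt N29464 (iv F277928)) (tt N27303 F273427) (tt N29465 D62235) (tt N27302 (iv D61244)) (tt N29466 D62236) (tt N29024 (iv F275423)) (tt N27709 F273428) (tt N27686 F273429) (tt N29293 (iv F277111)))
theorem Q28476 : ∀ i, i < 28476 → P i := stepQ 28475 Q28475 (allL N28475 (tt N27397 F273430) (tt N27446 F273431) (tt N29466 (iv F277937)) (tt N28475 F273432) (tt N27306 F273433) (tt N27303 (iv D61245)) (tt N29467 D62237) (tt N27450 F273434) (tt N27445 F273435) (tt N29294 (iv F277118)))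
theorem Q28477 : ∀ i, i < 28477 → P i := stepQ 28476 Q28476 (allL N28476 (tt N27304 (iv D61246)) (tt N27398 F273436) (tt N27696 F273437) (tt N27310 F273438) (tt N29468 D62238) (tt N29463 (iv F277925)) (tt N27835 F273439) (tt N27712 F273440) (tt N27687 F273441) (tt N29295 (iv F277124)))
theorem Q28478 : ∀ i, i < 28478 → P i := stepQ 28477 Q28477 (allL N28477 (tt N29468 (iv F277947)) (tt N27305 F273442) (tt N27697 F273443) (tt N27760 F273444) (tt N27304 (iv D61247)) (tt N29469 D62239) (tt N27836 F273445) (tt N27713 F273446) (tt N27688 F273447) (tt N29296 (iv F277130)))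
theorem Q28479 : ∀ i, i < 28479 → P i := stepQ 28478 Q28478 (allL N28478 (tt N27400 F273448) (tt N29469 (iv F277954)) (tt N27306 F273449) (tt N27761 F273450) (tt N29466 (iv F277938)) (tt N27305 (iv D61248)) (tt N29470 D62240) (tt N27541 F273451) (tt N27538 F273452) (tt N29297 (iv F277135)))
theorem Q28480 : ∀ i, i < 28480 → P i := stepQ 28479 Q28479 (allL N28479 (tt N27401 F273453) (tt N27699 F273454) (tt N29470 (iv F277960)) (tt N27307 F273455) (tt N29467 (iv F277944)) (tt N27363 F273456) (tt N27306 (iv D61249)) (tt N27553 F273457) (tt N27550 F273458) (tt N29298 (iv F277141)))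
theorem Q28481 : ∀ i, i < 28481 → P i := stepQ 28480 Q28480 (allL N28480 (tt N27308 (iv D61250)) (tt N27404 F273459) (tt N29112 (iv F275968)) (tt N29463 (iv F277924)) (tt N29471 D62241) (tt N27310 F273460) (tt N29030 (iv F275456)) (tt N29460 (iv F277910)) (tt N27319 F273461) (tt N29299 (iv F277147)))
theorem Q28482 : ∀ i, i < 28482 → P i := stepQ 28481 Q28481 (allL N28481 (tt N29471 (iv F277965)) (tt N27309 F273462) (tt N29113 (iv F275976)) (tt N29472 D62242) (tt N27308 (iv D61251)) (tt N27832 F273463) (tt N29031 (iv F275462)) (tt N29461 (iv F277915)) (tt N27320 F273464) (tt N29300 (iv F277153)))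
theorem Q28483 : ∀ i, i < 28483 → P i := stepQ 28482 Q28482 (allL N28482 (tt N27406 F273465) (tt N29472 (iv F277969)) (tt N28482 F273466) (tt N27309 (iv D61252)) (tt N29465 (iv F277934)) (tt N27833 F273467) (tt N29032 (iv F275468)) (tt N29462 (iv F277921)) (tt N29473 D62243) (tt N29301 (iv F277158)))
theorem Q28484 : ∀ i, i < 28484 → P i := stepQ 28483 Q28483 (allL N28483 (tt N29474 D62244) (tt N27311 (iv D61253)) (tt N27820 F273468) (tt N27498 F273469) (tt N29475 D62245) (tt N27313 F273470) (tt N29361 (iv F277458)) (tt N27826 F273471) (tt N27817 F273472) (tt N27329 F273473))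
theorem Q28485 : ∀ i, i < 28485 → P i := stepQ 28484 Q28484 (allL N28484 (tt N27411 F273474) (tt N29475 (iv F277982)) (tt N27312 F273475) (tt N29476 D62246) (tt N27311 (iv D61254)) (tt N27810 F273476) (tt N29362 (iv F277464)) (tt N27827 F273477) (tt N27818 F273478) (tt N27330 F273479))
theorem Q28486 : ∀ i, i < 28486 → P i := stepQ 28485 Q28485 (allL N28485 (tt N27313 (iv D61255)) (tt N27412 F273480) (tt N27822 F273481) (tt N27500 F273482) (tt N27811 F273483) (tt N29474 (iv F277978)) (tt N27318 F273484) (tt N27828 F273485) (tt N27819 F273486) (tt N27331 F273487))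
theorem Q28487 : ∀ i, i < 28487 → P i := stepQ 28486 Q28486 (allL N28486 (tt N29477 D62247) (tt N27314 (iv D61256)) (tt N29106 (iv F275925)) (tt N27907 F273488) (tt N29478 D62248) (tt N29361 (iv F277457)) (tt N27316 F273489) (tt N29041 (iv F275529)) (tt N29389 (iv F277588)) (tt N27340 F273490))
theorem Q28488 : ∀ i, i < 28488 → P i := stepQ 28487 Q28487 (allL N28487 (tt N27420 F273491) (tt N29478 (iv F277999)) (tt N27315 F273492) (tt N29479 D62249) (tt N27314 (iv D61257)) (tt N29480 D62250) (tt N27317 F273493) (tt N29042 (iv F275535)) (tt N29390 (iv F277594)) (tt N27341 F273494))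
theorem Q28489 : ∀ i, i < 28489 → P i := stepQ 28488 Q28488 (allL N28488 (tt N27421 F273495) (tt N29003 (iv F275269)) (tt N29480 (iv F278008)) (tt N27323 F273496) (tt N29315 (iv F277239)) (tt N27315 (iv D61258)) (tt N27758 F273497) (tt N29043 (iv F275543)) (tt N29328 (iv F277322)) (tt N27342 F273498))
theorem Q28490 : ∀ i, i < 28490 → P i := stepQ 28489 Q28489 (allL N28489 (tt N27316 (iv D61259)) (tt N27422 F273499) (tt N29110 (iv F275954)) (tt N27906 F273500) (tt N29481 D62251) (tt N27318 F273501) (tt N29477 (iv F277997)) (tt N27319 F273502) (tt N29460 (iv F277911)) (tt N27343 F273503))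
theorem Q28491 : ∀ i, i < 28491 → P i := stepQ 28490 Q28490 (allL N28490 (tt N29481 (iv F278011)) (tt N27317 F273504) (tt N29111 (iv F275961)) (tt N29482 D62252) (tt N27316 (iv D61260)) (tt N27824 F273505) (tt N29478 (iv F278000)) (tt N27320 F273506) (tt N29461 (iv F277916)) (tt N27344 F273507))
theorem Q28492 : ∀ i, i < 28492 → P i := stepQ 28491 Q28491 (allL N28491 (tt N27424 F273508) (tt N29482 (iv F278016)) (tt N27324 F273509) (tt N27317 (iv D61261)) (tt N27619 F273510) (tt N27616 F273511) (tt N29479 (iv F278005)) (tt N27321 F273512) (tt N29483 D62253) (tt N27345 F273513))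
theorem Q28493 : ∀ i, i < 28493 → P i := stepQ 28492 Q28492 (allL N28492 (tt N27320 F273514) (tt N27439 F273515) (tt N29115 (iv F275992)) (tt N29484 D62254) (tt N27319 (iv D61262)) (tt N27834 F273516) (tt N29056 (iv F275618)) (tt N29481 (iv F278014)) (tt N29471 (iv F277968)) (tt N27358 F273517))
theorem Q28494 : ∀ i, i < 28494 → P i := stepQ 28493 Q28493 (allL N28493 (tt N29484 (iv F278026)) (tt N27321 F273518) (tt N29055 (iv F275609)) (tt N27320 (iv D61263)) (tt N27636 F273519) (tt N27634 F273520) (tt N29057 (iv F275624)) (tt N29482 (iv F278019)) (tt N29485 D62255) (tt N27359 F273521))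
theorem Q28495 : ∀ i, i < 28495 → P i := stepQ 28494 Q28494 (allL N28494 (tt N27441 F273522) (tt N29485 (iv F278031)) (tt N27325 F273523) (tt N29473 (iv F277973)) (tt N27632 F273524) (tt N27629 F273525) (tt N29058 (iv F275630)) (tt N29483 (iv F278025)) (tt N27321 (iv D61264)) (tt N29164 (iv F276293)))
theorem Q28496 : ∀ i, i < 28496 → P i := stepQ 28495 Q28495 (allL N28495 (tt N27444 F273526) (tt N29040 (iv F275519)) (tt N29479 (iv F278003)) (tt N27322 (iv D61265)) (tt N27620 F273527) (tt N29298 (iv F277139)) (tt N27324 F273528) (tt N29059 (iv F275636)) (tt N29486 D62256) (tt N27363 F273529))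
theorem Q28497 : ∀ i, i < 28497 → P i := stepQ 28496 Q28496 (allL N28496 (tt N27446 F273530) (tt N29036 (iv F275493)) (tt N29483 (iv F278022)) (tt N28496 F273531) (tt N27614 F273532) (tt N27611 F273533) (tt N29486 (iv F278037)) (tt N27325 F273534) (tt N27324 (iv D61266)) (tt N29139 (iv F276168)))
theorem Q28498 : ∀ i, i < 28498 → P i := stepQ 28497 Q28497 (allL N28497 (tt N29487 D62257) (tt N27326 (iv D61267)) (tt N27512 F273535) (tt N27329 F273536) (tt N29488 D62258) (tt N27328 F273537) (tt N29329 (iv F277326)) (tt N27718 F273538) (tt N27730 F273539) (tt N27498 F273540))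
theorem Q28499 : ∀ i, i < 28499 → P i := stepQ 28498 Q28498 (allL N28498 (tt N27457 F273541) (tt N29488 (iv F278045)) (tt N27327 F273542) (tt N29489 D62259) (tt N27326 (iv D61268)) (tt N27858 F273543) (tt N29208 (iv F276549)) (tt N27719 F273544) (tt N27731 F273545) (tt N27499 F273546))
theorem Q28500 : ∀ i, i < 28500 → P i := stepQ 28499 Q28499 (allL N28499 (tt N27328 (iv D61269)) (tt N27459 F273547) (tt N27518 F273548) (tt N27331 F273549) (tt N27859 F273550) (tt N29487 (iv F278041)) (tt N27339 F273551) (tt N27837 F273552) (tt N29239 (iv F276749)) (tt N27500 F273553))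
theorem Q28501 : ∀ i, i < 28501 → P i := stepQ 28500 Q28500 (allL N28500 (tt N27329 (iv D61270)) (tt N27464 F273554) (tt N29268 (iv F276939)) (tt N29487 (iv F278040)) (tt N29490 D62260) (tt N27331 F273555) (tt N29363 (iv F277471)) (tt N27838 F273556) (tt N29266 (iv F276929)) (tt N29474 (iv F277981)))
theorem Q28502 : ∀ i, i < 28502 → P i := stepQ 28501 Q28501 (allL N28501 (tt N29490 (iv F278058)) (tt N27330 F273557) (tt N29269 (iv F276946)) (tt N29491 D62261) (tt N27329 (iv D61271)) (tt N29286 (iv F277060)) (tt N29364 (iv F277476)) (tt N27839 F273558) (tt N29267 (iv F276937)) (tt N29475 (iv F277987)))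
theorem Q28503 : ∀ i, i < 28503 → P i := stepQ 28502 Q28502 (allL N28502 (tt N27466 F273559) (tt N29491 (iv F278061)) (tt N28502 F273560) (tt N27330 (iv D61272)) (tt N29489 (iv F278053)) (tt N27899 F273561) (tt N29365 (iv F277481)) (tt N27840 F273562) (tt N27816 F273563) (tt N29476 (iv F277994)))
theorem Q28504 : ∀ i, i < 28504 → P i := stepQ 28503 Q28503 (allL N28503 (tt N29492 D62262) (tt N27332 (iv D61273)) (tt N27879 F273564) (tt N29209 (iv F276553)) (tt N29493 D62263) (tt N27334 F273565) (tt N29330 (iv F277333)) (tt N27351 F273566) (tt N27337 F273567) (tt N27868 F273568))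
theorem Q28505 : ∀ i, i < 28505 → P i := stepQ 28504 Q28504 (allL N28504 (tt N27475 F273569) (tt N29493 (iv F278071)) (tt N27333 F273570) (tt N29494 D62264) (tt N27332 (iv D61274)) (tt N27643 F273571) (tt N29331 (iv F277339)) (tt N27352 F273572) (tt N27338 F273573) (tt N27869 F273574))
theorem Q28506 : ∀ i, i < 28506 → P i := stepQ 28505 Q28505 (allL N28505 (tt N27334 (iv D61275)) (tt N27477 F273575) (tt N27884 F273576) (tt N29224 (iv F276638)) (tt N27864 F273577) (tt N29492 (iv F278067)) (tt N29239 (iv F276747)) (tt N27354 F273578) (tt N27339 F273579) (tt N27870 F273580))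
theorem Q28507 : ∀ i, i < 28507 → P i := stepQ 28506 Q28506 (allL N28506 (tt N29495 D62265) (tt N27335 (iv D61276)) (tt N27915 F273581) (tt N27340 F273582) (tt N29496 D62266) (tt N29329 (iv F277325)) (tt N27337 F273583) (tt N29014 (iv F275355)) (tt N29330 (iv F277335)) (tt N27907 F273584))
theorem Q28508 : ∀ i, i < 28508 → P i := stepQ 28507 Q28507 (allL N28507 (tt N27481 F273585) (tt N29496 (iv F278087)) (tt N27336 F273586) (tt N29497 D62267) (tt N27335 (iv D61277)) (tt N29167 (iv F276302)) (tt N27338 F273587) (tt N29015 (iv F275361)) (tt N29331 (iv F277341)) (tt N27905 F273588))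
theorem Q28509 : ∀ i, i < 28509 → P i := stepQ 28508 Q28508 (allL N28508 (tt N27337 (iv D61278)) (tt N27483 F273589) (tt N27920 F273590) (tt N27343 F273591) (tt N29498 D62268) (tt N27339 F273592) (tt N29495 (iv F278085)) (tt N27355 F273593) (tt N29492 (iv F278069)) (tt N27906 F273594))
theorem Q28510 : ∀ i, i < 28510 → P i := stepQ 28509 Q28509 (allL N28509 (tt N29498 (iv F278096)) (tt N27338 F273595) (tt N27921 F273596) (tt N29499 D62269) (tt N27337 (iv D61279)) (tt N27645 F273597) (tt N29496 (iv F278089)) (tt N27356 F273598) (tt N29493 (iv F278075)) (tt N27904 F273599))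
theorem Q28511 : ∀ i, i < 28511 → P i := stepQ 28510 Q28510 (allL N28510 (tt N27485 F273600) (tt N29499 (iv F278102)) (tt N27362 F273601) (tt N27338 (iv D61280)) (tt N27345 F273602) (tt N27587 F273603) (tt N29497 (iv F278094)) (tt N27357 F273604) (tt N29429 (iv F277764)) (tt N27619 F273605))
theorem Q28512 : ∀ i, i < 28512 → P i := stepQ 28511 Q28511 (allL N28511 (tt N27340 (iv D61281)) (tt N27489 F273606) (tt N29398 (iv F277627)) (tt N29495 (iv F278084)) (tt N29500 D62270) (tt N29363 (iv F277470)) (tt N27343 F273607) (tt N29070 (iv F275708)) (tt N29316 (iv F277250)) (tt N29477 (iv F277998)))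
theorem Q28513 : ∀ i, i < 28513 → P i := stepQ 28512 Q28512 (allL N28512 (tt N29500 (iv F278107)) (tt N27341 F273608) (tt N29009 (iv F275317)) (tt N29501 D62271) (tt N27340 (iv D61282)) (tt N29502 D62272) (tt N27344 F273609) (tt N29071 (iv F275713)) (tt N29008 F275315) (tt N29478 (iv F278001)))
theorem Q28514 : ∀ i, i < 28514 → P i := stepQ 28513 Q28513 (allL N28513 (tt N27491 F273610) (tt N29501 (iv F278110)) (tt N27363 F273611) (tt N27341 (iv D61283)) (tt N29497 (iv F278093)) (tt N29470 (iv F277962)) (tt N27345 F273612) (tt N29072 (iv F275718)) (tt N29430 (iv F277770)) (tt N29479 (iv F278006)))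
theorem Q28515 : ∀ i, i < 28515 → P i := stepQ 28514 Q28514 (allL N28514 (tt N27492 F273613) (tt N29502 (iv F278112)) (tt N27342 F273614) (tt N29470 (iv F277961)) (tt N29314 (iv F277232)) (tt N27341 (iv D61284)) (tt N27761 F273615) (tt N29073 (iv F275726)) (tt N27767 F273616) (tt N29480 (iv F278010)))
theorem Q28516 : ∀ i, i < 28516 → P i := stepQ 28515 Q28515 (allL N28515 (tt N27344 F273617) (tt N27493 F273618) (tt N29454 (iv F277876)) (tt N29503 D62273) (tt N27343 (iv D61285)) (tt N29279 (iv F277011)) (tt N29500 (iv F278109)) (tt N27358 F273619) (tt N29280 (iv F277022)) (tt N29481 (iv F278015)))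
theorem Q28517 : ∀ i, i < 28517 → P i := stepQ 28516 Q28516 (allL N28516 (tt N29503 (iv F278115)) (tt N27345 F273620) (tt N29068 (iv F275694)) (tt N27344 (iv D61286)) (tt N29499 (iv F278103)) (tt N27836 F273621) (tt N29501 (iv F278111)) (tt N27359 F273622) (tt N29427 (iv F277754)) (tt N29482 (iv F278020)))
theorem Q28518 : ∀ i, i < 28518 → P i := stepQ 28517 Q28517 (allL N28517 (tt N29504 D62274) (tt N27346 (iv D61287)) (tt N27480 F273623) (tt N27347 F273624) (tt N29456 (iv F277886)) (tt N27668 F273625) (tt N27468 F273626) (tt N27852 F273627) (tt N27720 F273628) (tt N27667 F273629))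
theorem Q28519 : ∀ i, i < 28519 → P i := stepQ 28518 Q28518 (allL N28518 (tt N27347 (iv D61288)) (tt N29194 (iv F276457)) (tt N27354 F273630) (tt N29504 (iv F278120)) (tt N27870 F273631) (tt N29120 (iv F276032)) (tt N27843 F273632) (tt N27884 F273633) (tt N27348 F273634) (tt N27864 F273635))
theorem Q28520 : ∀ i, i < 28520 → P i := stepQ 28519 Q28519 (allL N28519 (tt N29505 D62275) (tt N27349 (iv D61289)) (tt N27642 F273636) (tt N29171 (iv F276317)) (tt N29506 D62276) (tt N27353 F273637) (tt N29081 (iv F275779)) (tt N27868 F273638) (tt N27639 F273639) (tt N27351 F273640))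
theorem Q28521 : ∀ i, i < 28521 → P i := stepQ 28520 Q28520 (allL N28520 (tt N27513 F273641) (tt N29506 (iv F278132)) (tt N27350 F273642) (tt N29507 D62277) (tt N27349 (iv D61290)) (tt N27880 F273643) (tt N29082 (iv F275785)) (tt N27869 F273644) (tt N27640 F273645) (tt N27352 F273646))
theorem Q28522 : ∀ i, i < 28522 → P i := stepQ 28521 Q28521 (allL N28521 (tt N27351 (iv D61291)) (tt N27514 F273647) (tt N29120 (iv F276030)) (tt N29211 (iv F276568)) (tt N29508 D62278) (tt N27354 F273648) (tt N29084 (iv F275801)) (tt N29492 (iv F278068)) (tt N27355 F273649) (tt N29505 (iv F278131)))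
theorem Q28523 : ∀ i, i < 28523 → P i := stepQ 28522 Q28522 (allL N28522 (tt N29508 (iv F278143)) (tt N27352 F273650) (tt N29121 (iv F276038)) (tt N29509 D62279) (tt N27351 (iv D61292)) (tt N27882 F273651) (tt N29085 (iv F275806)) (tt N29493 (iv F278074)) (tt N27356 F273652) (tt N29506 (iv F278137)))
theorem Q28524 : ∀ i, i < 28524 → P i := stepQ 28523 Q28523 (allL N28523 (tt N27516 F273653) (tt N29509 (iv F278147)) (tt N28523 F273654) (tt N27352 (iv D61293)) (tt N29213 (iv F276578)) (tt N27883 F273655) (tt N29086 (iv F275812)) (tt N29494 (iv F278080)) (tt N29510 D62280) (tt N29507 (iv F278142)))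
theorem Q28525 : ∀ i, i < 28525 → P i := stepQ 28524 Q28524 (allL N28524 (tt N27353 (iv D61294)) (tt N27518 F273656) (tt N27864 F273657) (tt N29184 (iv F276395)) (tt N27884 F273658) (tt N29505 (iv F278128)) (tt N27844 F273659) (tt N27870 F273660) (tt N27863 F273661) (tt N27354 F273662))
theorem Q28526 : ∀ i, i < 28526 → P i := stepQ 28525 Q28525 (allL N28525 (tt N27356 F273663) (tt N27531 F273664) (tt N29123 (iv F276054)) (tt N29511 D62281) (tt N27355 (iv D61295)) (tt N27889 F273665) (tt N29095 (iv F275864)) (tt N29498 (iv F278100)) (tt N29508 (iv F278146)) (tt N27926 F273666))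
theorem Q28527 : ∀ i, i < 28527 → P i := stepQ 28526 Q28526 (allL N28526 (tt N29511 (iv F278153)) (tt N27357 F273667) (tt N29097 (iv F275873)) (tt N27356 (iv D61296)) (tt N27359 F273668) (tt N27598 F273669) (tt N29096 (iv F275869)) (tt N29499 (iv F278105)) (tt N29512 D62282) (tt N27636 F273670))
theorem Q28528 : ∀ i, i < 28528 → P i := stepQ 28527 Q28527 (allL N28527 (tt N27534 F273671) (tt N29512 (iv F278158)) (tt N27364 F273672) (tt N29510 (iv F278151)) (tt N27360 F273673) (tt N27596 F273674) (tt N29098 (iv F275882)) (tt N29429 (iv F277763)) (tt N27357 (iv D61297)) (tt N29160 (iv F276275)))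
theorem Q28529 : ∀ i, i < 28529 → P i := stepQ 28528 Q28528 (allL N28528 (tt N27359 F273675) (tt N27542 F273676) (tt N29099 (iv F275886)) (tt N27358 (iv D61298)) (tt N29511 (iv F278155)) (tt N29080 F275775) (tt N29101 (iv F275898)) (tt N29503 (iv F278118)) (tt N29513 D62283) (tt N29484 (iv F278030)))
theorem Q28530 : ∀ i, i < 28530 → P i := stepQ 28529 Q28529 (allL N28529 (tt N29513 (iv F278161)) (tt N27360 F273677) (tt N29093 (iv F275850)) (tt N29326 (iv F277307)) (tt N29512 (iv F278159)) (tt N29079 F275767) (tt N29102 (iv F275901)) (tt N29427 (iv F277753)) (tt N27359 (iv D61299)) (tt N29514 D62284))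
theorem Q28531 : ∀ i, i < 28531 → P i := stepQ 28530 Q28530 (allL N28530 (tt N27545 F273678) (tt N29514 (iv F278163)) (tt N27365 F273679) (tt N29327 (iv F277312)) (tt N29160 (iv F276273)) (tt N29077 F275753) (tt N29103 (iv F275906)) (tt N29423 (iv F277736)) (tt N29164 (iv F276292)) (tt N27360 (iv D61300)))
theorem Q28532 : ∀ i, i < 28532 → P i := stepQ 28531 Q28531 (allL N28531 (tt N27547 F273680) (tt N29066 (iv F275680)) (tt N29497 (iv F278092)) (tt N27361 (iv D61301)) (tt N27363 F273681) (tt N29029 (iv F275451)) (tt N27362 F273682) (tt N29017 (iv F275375)) (tt N29439 (iv F277799)) (tt N27620 F273683))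
theorem Q28533 : ∀ i, i < 28533 → P i := stepQ 28532 Q28532 (allL N28532 (tt N27366 (iv D61302)) (tt N27819 F273684) (tt N27890 F273685) (tt N29230 (iv F276678)) (tt N29105 (iv F275919)) (tt N29203 (iv F276515)) (tt N27375 F273686) (tt N27675 F273687) (tt N27412 F273688) (tt N27736 F273689))
theorem Q28534 : ∀ i, i < 28534 → P i := stepQ 28533 Q28533 (allL N28533 (tt N29515 D62285) (tt N27367 (iv D61303)) (tt N27370 F273690) (tt N29131 (iv F276110)) (tt N29223 (iv F276633)) (tt N27876 F273691) (tt N27428 F273692) (tt N27383 F273693) (tt N27431 F273694) (tt N29150 (iv F276230)))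
theorem Q28535 : ∀ i, i < 28535 → P i := stepQ 28534 Q28534 (allL N28534 (tt N29516 D62286) (tt N27368 (iv D61304)) (tt N27876 F273695) (tt N27373 F273696) (tt N29517 D62287) (tt N27370 F273697) (tt N27868 F273698) (tt N27395 F273699) (tt N27705 F273700) (tt N29330 (iv F277336)))
theorem Q28536 : ∀ i, i < 28536 → P i := stepQ 28535 Q28535 (allL N28535 (tt N27709 F273701) (tt N29517 (iv F278177)) (tt N27369 F273702) (tt N29518 D62288) (tt N27368 (iv D61305)) (tt N29098 (iv F275881)) (tt N27869 F273703) (tt N27396 F273704) (tt N27706 F273705) (tt N29331 (iv F277342)))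
theorem Q28537 : ∀ i, i < 28537 → P i := stepQ 28536 Q28536 (allL N28536 (tt N27370 (iv D61306)) (tt N27712 F273706) (tt N29515 (iv F278165)) (tt N27375 F273707) (tt N29243 (iv F276771)) (tt N29516 (iv F278173)) (tt N29230 (iv F276680)) (tt N27398 F273708) (tt N27707 F273709) (tt N29332 (iv F277347)))
theorem Q28538 : ∀ i, i < 28538 → P i := stepQ 28537 Q28537 (allL N28537 (tt N29519 D62289) (tt N27371 (iv D61307)) (tt N29144 (iv F276188)) (tt N27868 F273710) (tt N29520 D62290) (tt N27866 F273711) (tt N27373 F273712) (tt N29171 (iv F276320)) (tt N27419 F273713) (tt N29209 (iv F276558)))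
theorem Q28539 : ∀ i, i < 28539 → P i := stepQ 28538 Q28538 (allL N28538 (tt N29390 (iv F277590)) (tt N29520 (iv F278191)) (tt N27372 F273714) (tt N29521 D62291) (tt N27371 (iv D61308)) (tt N29435 (iv F277784)) (tt N27374 F273715) (tt N29172 (iv F276326)) (tt N27420 F273716) (tt N29210 (iv F276565)))
theorem Q28540 : ∀ i, i < 28540 → P i := stepQ 28539 Q28539 (allL N28539 (tt N27373 (iv D61309)) (tt N29460 (iv F277906)) (tt N29147 (iv F276210)) (tt N29516 (iv F278172)) (tt N29522 D62292) (tt N27375 F273717) (tt N29519 (iv F278189)) (tt N27404 F273718) (tt N27422 F273719) (tt N29333 (iv F277352)))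
theorem Q28541 : ∀ i, i < 28541 → P i := stepQ 28540 Q28540 (allL N28540 (tt N29522 (iv F278197)) (tt N27374 F273720) (tt N29148 (iv F276216)) (tt N29523 D62293) (tt N27373 (iv D61310)) (tt N29442 (iv F277814)) (tt N29520 (iv F278192)) (tt N27405 F273721) (tt N27423 F273722) (tt N29334 (iv F277357)))
theorem Q28542 : ∀ i, i < 28542 → P i := stepQ 28541 Q28541 (allL N28541 (tt N29462 (iv F277917)) (tt N29523 (iv F278200)) (tt N28541 F273723) (tt N27374 (iv D61311)) (tt N29518 (iv F278184)) (tt N29443 (iv F277820)) (tt N29521 (iv F278196)) (tt N27406 F273724) (tt N29524 D62294) (tt N29335 (iv F277360)))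
theorem Q28543 : ∀ i, i < 28543 → P i := stepQ 28542 Q28542 (allL N28542 (tt N29525 D62295) (tt N27376 (iv D61312)) (tt N27612 F273725) (tt N29150 (iv F276225)) (tt N29526 D62296) (tt N29034 (iv F275481)) (tt N27845 F273726) (tt N27622 F273727) (tt N27607 F273728) (tt N29131 (iv F276115)))
theorem Q28544 : ∀ i, i < 28544 → P i := stepQ 28543 Q28543 (allL N28543 (tt N27384 F273729) (tt N29526 (iv F278211)) (tt N27377 F273730) (tt N29527 D62297) (tt N27376 (iv D61313)) (tt N29528 D62298) (tt N27846 F273731) (tt N27623 F273732) (tt N27608 F273733) (tt N29132 (iv F276121)))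
theorem Q28545 : ∀ i, i < 28545 → P i := stepQ 28544 Q28544 (allL N28544 (tt N27385 F273734) (tt N27614 F273735) (tt N29528 (iv F278221)) (tt N27379 F273736) (tt N29036 (iv F275495)) (tt N27377 (iv D61314)) (tt N29529 D62299) (tt N27624 F273737) (tt N27609 F273738) (tt N29133 (iv F276128)))
theorem Q28546 : ∀ i, i < 28546 → P i := stepQ 28545 Q28545 (allL N28545 (tt N27386 F273739) (tt N27620 F273740) (tt N29527 (iv F278217)) (tt N27378 (iv D61315)) (tt N29040 (iv F275521)) (tt N29530 D62300) (tt N27609 F273741) (tt N27638 F273742) (tt N29529 (iv F278229)) (tt N29066 (iv F275685)))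
theorem Q28547 : ∀ i, i < 28547 → P i := stepQ 28546 Q28546 (allL N28546 (tt N27387 F273743) (tt N27567 F273744) (tt N27379 F273745) (tt N29530 (iv F278232)) (tt N28546 F273746) (tt N27378 (iv D61316)) (tt N27566 F273747) (tt N27637 F273748) (tt N27563 F273749) (tt N29019 (iv F275393)))
theorem Q28548 : ∀ i, i < 28548 → P i := stepQ 28547 Q28547 (allL N28547 (tt N27388 F273750) (tt N27637 F273751) (tt N27566 F273752) (tt N29529 (iv F278226)) (tt N28547 F273753) (tt N27551 F273754) (tt N27379 (iv D61317)) (tt N27567 F273755) (tt N27564 F273756) (tt N29018 (iv F275385)))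
theorem Q28549 : ∀ i, i < 28549 → P i := stepQ 28548 Q28548 (allL N28548 (tt N29531 D62301) (tt N27380 (iv D61318)) (tt N27392 F273757) (tt N27434 F273758) (tt N29229 (iv F276670)) (tt N27885 F273759) (tt N27847 F273760) (tt N27431 F273761) (tt N27383 F273762) (tt N27525 F273763))
theorem Q28550 : ∀ i, i < 28550 → P i := stepQ 28549 Q28549 (allL N28549 (tt N29532 D62302) (tt N27381 (iv D61319)) (tt N27395 F273764) (tt N29047 (iv F275564)) (tt N29533 D62303) (tt N27383 F273765) (tt N29134 (iv F276132)) (tt N27876 F273766) (tt N27885 F273767) (tt N29020 (iv F275400)))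
theorem Q28551 : ∀ i, i < 28551 → P i := stepQ 28550 Q28550 (allL N28550 (tt N29035 (iv F275486)) (tt N29533 (iv F278248)) (tt N27382 F273768) (tt N29534 D62304) (tt N27381 (iv D61320)) (tt N29535 D62305) (tt N29135 (iv F276138)) (tt N27877 F273769) (tt N27886 F273770) (tt N29021 (iv F275406)))
theorem Q28552 : ∀ i, i < 28552 → P i := stepQ 28551 Q28551 (allL N28551 (tt N29036 (iv F275492)) (tt N27397 F273771) (tt N29535 (iv F278255)) (tt N28551 F273772) (tt N27385 F273773) (tt N27382 (iv D61321)) (tt N29156 (iv F276255)) (tt N27878 F273774) (tt N27641 F273775) (tt N29022 (iv F275413)))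
theorem Q28553 : ∀ i, i < 28553 → P i := stepQ 28552 Q28552 (allL N28552 (tt N27383 (iv D61322)) (tt N29525 (iv F278206)) (tt N27398 F273776) (tt N29152 (iv F276238)) (tt N29536 D62306) (tt N29532 (iv F278245)) (tt N27849 F273777) (tt N29515 (iv F278168)) (tt N29531 (iv F278242)) (tt N29336 (iv F277364)))
theorem Q28554 : ∀ i, i < 28554 → P i := stepQ 28553 Q28553 (allL N28553 (tt N29536 (iv F278259)) (tt N27384 F273778) (tt N27399 F273779) (tt N29537 D62307) (tt N27383 (iv D61323)) (tt N29538 D62308) (tt N27850 F273780) (tt N29223 (iv F276634)) (tt N29229 (iv F276674)) (tt N29337 (iv F277368)))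
theorem Q28555 : ∀ i, i < 28555 → P i := stepQ 28554 Q28554 (allL N28554 (tt N29527 (iv F278216)) (tt N29537 (iv F278262)) (tt N27386 F273781) (tt N27384 (iv D61324)) (tt N29154 (iv F276246)) (tt N29539 D62309) (tt N27851 F273782) (tt N29069 (iv F275702)) (tt N29540 D62310) (tt N29338 (iv F277372)))
theorem Q28556 : ∀ i, i < 28556 → P i := stepQ 28555 Q28555 (allL N28555 (tt N29528 (iv F278220)) (tt N29538 (iv F278264)) (tt N27385 F273783) (tt N29539 (iv F278268)) (tt N29535 (iv F278256)) (tt N27384 (iv D61325)) (tt N29540 (iv F278275)) (tt N29094 F275860) (tt N27851 F273784) (tt N29339 (iv F277374)))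
theorem Q28557 : ∀ i, i < 28557 → P i := stepQ 28556 Q28556 (allL N28556 (tt N29529 (iv F278224)) (tt N27401 F273785) (tt N29540 (iv F278272)) (tt N27388 F273786) (tt N29156 (iv F276254)) (tt N27552 F273787) (tt N27385 (iv D61326)) (tt N27568 F273788) (tt N27386 F273789) (tt N29340 (iv F277379)))
theorem Q28558 : ∀ i, i < 28558 → P i := stepQ 28557 Q28557 (allL N28557 (tt N29530 (iv F278230)) (tt N27553 F273790) (tt N29539 (iv F278267)) (tt N27387 F273791) (tt N29541 D62311) (tt N27386 (iv D61327)) (tt N27556 F273792) (tt N27699 F273793) (tt N27552 F273794) (tt N29341 (iv F277384)))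
theorem Q28559 : ∀ i, i < 28559 → P i := stepQ 28558 Q28558 (allL N28558 (tt N29542 D62312) (tt N27389 (iv D61328)) (tt N27885 F273795) (tt N27428 F273796) (tt N29543 D62313) (tt N27392 F273797) (tt N29131 (iv F276112)) (tt N27705 F273798) (tt N27395 F273799) (tt N27845 F273800))
theorem Q28560 : ∀ i, i < 28560 → P i := stepQ 28559 Q28559 (allL N28559 (tt N27686 F273801) (tt N29543 (iv F278289)) (tt N27390 F273802) (tt N29065 (iv F275674)) (tt N27389 (iv D61329)) (tt N29064 F275670) (tt N29132 (iv F276118)) (tt N27706 F273803) (tt N27396 F273804) (tt N27846 F273805))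
theorem Q28561 : ∀ i, i < 28561 → P i := stepQ 28560 Q28560 (allL N28560 (tt N29544 D62314) (tt N27391 (iv D61330)) (tt N27525 F273806) (tt N27429 F273807) (tt N29188 (iv F276416)) (tt N27845 F273808) (tt N27852 F273809) (tt N27501 F273810) (tt N29343 (iv F277394)) (tt N27392 F273811))
theorem Q28562 : ∀ i, i < 28562 → P i := stepQ 28561 Q28561 (allL N28561 (tt N27392 (iv D61331)) (tt N27687 F273812) (tt N29531 (iv F278237)) (tt N27430 F273813) (tt N29228 (iv F276664)) (tt N29542 (iv F278285)) (tt N27854 F273814) (tt N27707 F273815) (tt N27398 F273816) (tt N29544 (iv F278300)))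
theorem Q28563 : ∀ i, i < 28563 → P i := stepQ 28562 Q28562 (allL N28562 (tt N29545 D62315) (tt N27393 (iv D61332)) (tt N29134 (iv F276129)) (tt N27402 F273817) (tt N29546 D62316) (tt N27648 F273818) (tt N27395 F273819) (tt N29081 (iv F275780)) (tt N29131 (iv F276114)) (tt N27676 F273820))
theorem Q28564 : ∀ i, i < 28564 → P i := stepQ 28563 Q28563 (allL N28563 (tt N29024 (iv F275421)) (tt N29546 (iv F278305)) (tt N27394 F273821) (tt N29547 D62317) (tt N27393 (iv D61333)) (tt N29548 D62318) (tt N27396 F273822) (tt N29082 (iv F275786)) (tt N29132 (iv F276120)) (tt N27677 F273823))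
theorem Q28565 : ∀ i, i < 28565 → P i := stepQ 28564 Q28564 (allL N28564 (tt N29025 (iv F275427)) (tt N29136 (iv F276143)) (tt N29548 (iv F278312)) (tt N28564 F273824) (tt N27650 F273825) (tt N27394 (iv D61334)) (tt N29549 D62319) (tt N29083 (iv F275794)) (tt N29133 (iv F276127)) (tt N27678 F273826))
theorem Q28566 : ∀ i, i < 28566 → P i := stepQ 28565 Q28565 (allL N28565 (tt N27395 (iv D61335)) (tt N29463 (iv F277922)) (tt N29532 (iv F278244)) (tt N27404 F273827) (tt N29550 D62320) (tt N27398 F273828) (tt N29545 (iv F278303)) (tt N29516 (iv F278175)) (tt N29542 (iv F278287)) (tt N29349 (iv F277413)))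
theorem Q28567 : ∀ i, i < 28567 → P i := stepQ 28566 Q28566 (allL N28566 (tt N29550 (iv F278319)) (tt N27396 F273829) (tt N29533 (iv F278249)) (tt N29551 D62321) (tt N27395 (iv D61336)) (tt N29552 D62322) (tt N29546 (iv F278306)) (tt N29517 (iv F278180)) (tt N29543 (iv F278292)) (tt N29350 (iv F277416)))
theorem Q28568 : ∀ i, i < 28568 → P i := stepQ 28567 Q28567 (allL N28567 (tt N29465 (iv F277932)) (tt N29551 (iv F278320)) (tt N28567 F273830) (tt N27396 (iv D61337)) (tt N27406 F273831) (tt N29553 D62323) (tt N29547 (iv F278310)) (tt N29518 (iv F278186)) (tt N29554 D62324) (tt N29351 (iv F277420)))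
theorem Q28569 : ∀ i, i < 28569 → P i := stepQ 28568 Q28568 (allL N28568 (tt N29466 (iv F277936)) (tt N29552 (iv F278322)) (tt N27397 F273832) (tt N29553 (iv F278325)) (tt N27400 F273833) (tt N27396 (iv D61338)) (tt N29555 D62325) (tt N29098 (iv F275883)) (tt N29064 (iv F275671)) (tt N29352 (iv F277423)))
theorem Q28570 : ∀ i, i < 28570 → P i := stepQ 28569 Q28569 (allL N28569 (tt N29467 (iv F277941)) (tt N29156 (iv F276252)) (tt N29555 (iv F278332)) (tt N28569 F273834) (tt N27401 F273835) (tt N29549 (iv F278317)) (tt N27397 (iv D61339)) (tt N29439 (iv F277798)) (tt N29017 F275377) (tt N29353 (iv F277427)))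
theorem Q28571 : ∀ i, i < 28571 → P i := stepQ 28570 Q28570 (allL N28570 (tt N27399 F273836) (tt N29468 (iv F277948)) (tt N29536 (iv F278260)) (tt N29444 (iv F277825)) (tt N27398 (iv D61340)) (tt N29556 D62326) (tt N27856 F273837) (tt N29243 (iv F276772)) (tt N29228 F276667) (tt N29354 (iv F277430)))
theorem Q28572 : ∀ i, i < 28572 → P i := stepQ 28571 Q28571 (allL N28571 (tt N29556 (iv F278334)) (tt N27400 F273838) (tt N29538 (iv F278265)) (tt N29445 (iv F277829)) (tt N29552 (iv F278323)) (tt N27399 (iv D61341)) (tt N29557 D62327) (tt N29102 (iv F275902)) (tt N29075 F275738) (tt N29355 (iv F277432)))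
theorem Q28573 : ∀ i, i < 28573 → P i := stepQ 28572 Q28572 (allL N28572 (tt N29470 (iv F277959)) (tt N29557 (iv F278335)) (tt N27401 F273839) (tt N27492 F273840) (tt N29555 (iv F278333)) (tt N27491 F273841) (tt N27400 (iv D61342)) (tt N29430 (iv F277769)) (tt N29072 (iv F275719)) (tt N29356 (iv F277436)))
theorem Q28574 : ∀ i, i < 28574 → P i := stepQ 28573 Q28573 (allL N28573 (tt N27402 (iv D61343)) (tt N29030 (iv F275453)) (tt N27860 F273842) (tt N29545 (iv F278301)) (tt N29558 D62328) (tt N27651 F273843) (tt N27404 F273844) (tt N29174 (iv F276339)) (tt N27436 F273845) (tt N27682 F273846))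
theorem Q28575 : ∀ i, i < 28575 → P i := stepQ 28574 Q28574 (allL N28574 (tt N29558 (iv F278338)) (tt N27403 F273847) (tt N27861 F273848) (tt N29559 D62329) (tt N27402 (iv D61344)) (tt N29118 (iv F276016)) (tt N27405 F273849) (tt N29175 (iv F276345)) (tt N27437 F273850) (tt N27683 F273851))
theorem Q28576 : ∀ i, i < 28576 → P i := stepQ 28575 Q28575 (allL N28575 (tt N29032 (iv F275465)) (tt N29559 (iv F278343)) (tt N28575 F273852) (tt N27403 (iv D61345)) (tt N29547 (iv F278309)) (tt N29119 (iv F276024)) (tt N27406 F273853) (tt N29176 (iv F276350)) (tt N29560 D62330) (tt N27684 F273854))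
theorem Q28577 : ∀ i, i < 28577 → P i := stepQ 28576 Q28576 (allL N28576 (tt N27405 F273855) (tt N29471 (iv F277966)) (tt N29168 (iv F276305)) (tt N29561 D62331) (tt N27404 (iv D61346)) (tt N29446 (iv F277834)) (tt N29558 (iv F278340)) (tt N29522 (iv F278198)) (tt N27439 F273856) (tt N29358 (iv F277447)))
theorem Q28578 : ∀ i, i < 28578 → P i := stepQ 28577 Q28577 (allL N28577 (tt N29561 (iv F278350)) (tt N27406 F273857) (tt N29562 D62332) (tt N27405 (iv D61347)) (tt N29551 (iv F278321)) (tt N29447 (iv F277837)) (tt N29559 (iv F278344)) (tt N29523 (iv F278201)) (tt N29563 D62333) (tt N29359 (iv F277450)))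
theorem Q28579 : ∀ i, i < 28579 → P i := stepQ 28578 Q28578 (allL N28578 (tt N29473 (iv F277971)) (tt N29563 (iv F278352)) (tt N28578 F273858) (tt N27441 F273859) (tt N29554 (iv F278330)) (tt N27724 F273860) (tt N29560 (iv F278349)) (tt N29524 (iv F278205)) (tt N27406 (iv D61348)) (tt N29564 D62334))
theorem Q28580 : ∀ i, i < 28580 → P i := stepQ 28579 Q28579 (allL N28579 (tt N27407 (iv D61349)) (tt N27500 F273861) (tt N29194 (iv F276458)) (tt N27412 F273862) (tt N27837 F273863) (tt N29190 (iv F276430)) (tt N27416 F273864) (tt N27859 F273865) (tt N27496 F273866) (tt N27459 F273867))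
theorem Q28581 : ∀ i, i < 28581 → P i := stepQ 28580 Q28580 (allL N28580 (tt N29565 D62335) (tt N27408 (iv D61350)) (tt N29171 (iv F276316)) (tt N27662 F273868) (tt N29566 D62336) (tt N27419 F273869) (tt N27410 F273870) (tt N29144 (iv F276192)) (tt N27866 F273871) (tt N27462 F273872))
theorem Q28582 : ∀ i, i < 28582 → P i := stepQ 28581 Q28581 (allL N28581 (tt N29362 (iv F277462)) (tt N29566 (iv F278363)) (tt N27409 F273873) (tt N29567 D62337) (tt N27408 (iv D61351)) (tt N29387 (iv F277575)) (tt N27411 F273874) (tt N29145 (iv F276198)) (tt N27867 F273875) (tt N27463 F273876))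
theorem Q28583 : ∀ i, i < 28583 → P i := stepQ 28582 Q28582 (allL N28582 (tt N27410 (iv D61352)) (tt N29474 (iv F277975)) (tt N29174 (iv F276337)) (tt N29190 (iv F276429)) (tt N29568 D62338) (tt N27412 F273877) (tt N29565 (iv F278360)) (tt N27860 F273878) (tt N29203 (iv F276518)) (tt N27464 F273879))
theorem Q28584 : ∀ i, i < 28584 → P i := stepQ 28583 Q28583 (allL N28583 (tt N29568 (iv F278372)) (tt N27411 F273880) (tt N29175 (iv F276343)) (tt N29569 D62339) (tt N27410 (iv D61353)) (tt N29449 (iv F277848)) (tt N29566 (iv F278364)) (tt N27861 F273881) (tt N29204 (iv F276526)) (tt N27465 F273882))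
theorem Q28585 : ∀ i, i < 28585 → P i := stepQ 28584 Q28584 (allL N28584 (tt N29476 (iv F277988)) (tt N29569 (iv F278375)) (tt N28584 F273883) (tt N27411 (iv D61354)) (tt N29192 (iv F276444)) (tt N29450 (iv F277855)) (tt N29567 (iv F278369)) (tt N27862 F273884) (tt N29570 D62340) (tt N27466 F273885))
theorem Q28586 : ∀ i, i < 28586 → P i := stepQ 28585 Q28585 (allL N28585 (tt N27413 (iv D61355)) (tt N27843 F273886) (tt N27416 F273887) (tt N29177 (iv F276354)) (tt N27841 F273888) (tt N29218 (iv F276601)) (tt N29194 (iv F276461)) (tt N27426 F273889) (tt N27842 F273890) (tt N27470 F273891))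
theorem Q28587 : ∀ i, i < 28587 → P i := stepQ 28586 Q28586 (allL N28586 (tt N29571 D62341) (tt N27414 (iv D61356)) (tt N27667 F273892) (tt N27419 F273893) (tt N29238 (iv F276737)) (tt N27662 F273894) (tt N27415 F273895) (tt N27847 F273896) (tt N27664 F273897) (tt N27480 F273898))
theorem Q28588 : ∀ i, i < 28588 → P i := stepQ 28587 Q28587 (allL N28587 (tt N27415 (iv D61357)) (tt N27906 F273899) (tt N29218 (iv F276599)) (tt N27422 F273900) (tt N29237 (iv F276730)) (tt N27416 F273901) (tt N29571 (iv F278390)) (tt N27432 F273902) (tt N27909 F273903) (tt N27483 F273904))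
theorem Q28589 : ∀ i, i < 28589 → P i := stepQ 28588 Q28588 (allL N28588 (tt N29572 D62342) (tt N27417 (iv D61358)) (tt N27866 F273905) (tt N27847 F273906) (tt N29573 D62343) (tt N29144 (iv F276190)) (tt N27434 F273907) (tt N27419 F273908) (tt N29171 (iv F276321)) (tt N27487 F273909))
theorem Q28590 : ∀ i, i < 28590 → P i := stepQ 28589 Q28589 (allL N28589 (tt N29042 (iv F275532)) (tt N29573 (iv F278399)) (tt N27418 F273910) (tt N29574 D62344) (tt N27417 (iv D61359)) (tt N29424 (iv F277739)) (tt N27435 F273911) (tt N27420 F273912) (tt N29172 (iv F276327)) (tt N27488 F273913))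
theorem Q28591 : ∀ i, i < 28591 → P i := stepQ 28590 Q28590 (allL N28590 (tt N27419 (iv D61360)) (tt N29477 (iv F277995)) (tt N29184 (iv F276394)) (tt N29571 (iv F278388)) (tt N29575 D62345) (tt N29565 (iv F278359)) (tt N27422 F273914) (tt N29572 (iv F278397)) (tt N29519 (iv F278190)) (tt N27489 F273915))
theorem Q28592 : ∀ i, i < 28592 → P i := stepQ 28591 Q28591 (allL N28591 (tt N29575 (iv F278409)) (tt N27420 F273916) (tt N29185 (iv F276400)) (tt N29576 D62346) (tt N27419 (iv D61361)) (tt N29577 D62347) (tt N27423 F273917) (tt N29573 (iv F278402)) (tt N29520 (iv F278193)) (tt N27490 F273918))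
theorem Q28593 : ∀ i, i < 28593 → P i := stepQ 28592 Q28592 (allL N28592 (tt N29479 (iv F278002)) (tt N29576 (iv F278412)) (tt N27444 F273919) (tt N27420 (iv D61362)) (tt N27704 F273920) (tt N29356 (iv F277435)) (tt N27424 F273921) (tt N29574 (iv F278407)) (tt N29578 D62348) (tt N27491 F273922))
theorem Q28594 : ∀ i, i < 28594 → P i := stepQ 28593 Q28593 (allL N28593 (tt N29480 (iv F278007)) (tt N29577 (iv F278416)) (tt N27421 F273923) (tt N29356 (iv F277434)) (tt N29387 (iv F277574)) (tt N27420 (iv D61363)) (tt N29262 (iv F276903)) (tt N29424 F277741) (tt N29435 (iv F277785)) (tt N27492 F273924))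
theorem Q28595 : ∀ i, i < 28595 → P i := stepQ 28594 Q28594 (allL N28594 (tt N27423 F273925) (tt N29481 (iv F278012)) (tt N29187 (iv F276412)) (tt N29579 D62349) (tt N27422 (iv D61364)) (tt N29451 (iv F277862)) (tt N29575 (iv F278410)) (tt N27439 F273926) (tt N29522 (iv F278199)) (tt N27493 F273927))
theorem Q28596 : ∀ i, i < 28596 → P i := stepQ 28595 Q28595 (allL N28595 (tt N29579 (iv F278421)) (tt N27424 F273928) (tt N29580 D62350) (tt N27423 (iv D61365)) (tt N27703 F273929) (tt N27701 F273930) (tt N29576 (iv F278414)) (tt N27440 F273931) (tt N29581 D62351) (tt N27494 F273932))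
theorem Q28597 : ∀ i, i < 28597 → P i := stepQ 28596 Q28596 (allL N28596 (tt N29483 (iv F278021)) (tt N29581 (iv F278432)) (tt N27446 F273933) (tt N29524 (iv F278203)) (tt N27698 F273934) (tt N27692 F273935) (tt N29578 (iv F278420)) (tt N27441 F273936) (tt N27424 (iv D61366)) (tt N29582 D62352))
theorem Q28598 : ∀ i, i < 28598 → P i := stepQ 28597 Q28597 (allL N28597 (tt N27425 (iv D61367)) (tt N27841 F273937) (tt N27430 F273938) (tt N29203 (iv F276514)) (tt N27843 F273939) (tt N29230 (iv F276679)) (tt N27870 F273940) (tt N27842 F273941) (tt N27426 F273942) (tt N29239 (iv F276750)))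
theorem Q28599 : ∀ i, i < 28599 → P i := stepQ 28598 Q28598 (allL N28598 (tt N29583 D62353) (tt N27427 (iv D61368)) (tt N27730 F273943) (tt N27845 F273944) (tt N29183 (iv F276389)) (tt N27429 F273945) (tt N29150 (iv F276227)) (tt N27714 F273946) (tt N27512 F273947) (tt N27428 F273948))
theorem Q28600 : ∀ i, i < 28600 → P i := stepQ 28599 Q28599 (allL N28599 (tt N27428 (iv D61369)) (tt N27900 F273949) (tt N29230 (iv F276677)) (tt N29542 (iv F278284)) (tt N29222 (iv F276628)) (tt N27430 F273950) (tt N29515 (iv F278167)) (tt N27909 F273951) (tt N27432 F273952) (tt N29583 (iv F278447)))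
theorem Q28601 : ∀ i, i < 28601 → P i := stepQ 28600 Q28600 (allL N28600 (tt N27429 (iv D61370)) (tt N27863 F273953) (tt N29239 (iv F276743)) (tt N29544 (iv F278296)) (tt N27844 F273954) (tt N29583 (iv F278444)) (tt N27884 F273955) (tt N27865 F273956) (tt N27518 F273957) (tt N27430 F273958))
theorem Q28602 : ∀ i, i < 28602 → P i := stepQ 28601 Q28601 (allL N28601 (tt N27431 (iv D61371)) (tt N27625 F273959) (tt N27707 F273960) (tt N27436 F273961) (tt N29242 (iv F276766)) (tt N27887 F273962) (tt N27432 F273963) (tt N29531 (iv F278241)) (tt N29515 (iv F278169)) (tt N27528 F273964))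
theorem Q28603 : ∀ i, i < 28603 → P i := stepQ 28602 Q28602 (allL N28602 (tt N27433 F273965) (tt N27926 F273966) (tt N29231 (iv F276686)) (tt N27735 (iv F273969)) (tt N27432 (iv D61372)) (tt N27593 F273967) (tt N29242 (iv F276767)) (tt N29237 (iv F276731)) (tt N29222 (iv F276630)) (tt N27531 F273968))
theorem Q28604 : ∀ i, i < 28604 → P i := stepQ 28603 Q28603 (allL N28603 (tt N27434 (iv D61373)) (tt N29044 (iv F275546)) (tt N29203 (iv F276513)) (tt N29531 (iv F278238)) (tt N29584 D62354) (tt N27890 F273970) (tt N29572 (iv F278396)) (tt N27436 F273971) (tt N29174 (iv F276340)) (tt N27536 F273972))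
theorem Q28605 : ∀ i, i < 28605 → P i := stepQ 28604 Q28604 (allL N28604 (tt N29584 (iv F278448)) (tt N27435 F273973) (tt N29204 (iv F276521)) (tt N29585 D62355) (tt N27434 (iv D61374)) (tt N27799 F273974) (tt N29573 (iv F278401)) (tt N27437 F273975) (tt N29175 (iv F276346)) (tt N27537 F273976))
theorem Q28606 : ∀ i, i < 28606 → P i := stepQ 28605 Q28605 (allL N28605 (tt N29046 (iv F275557)) (tt N29585 (iv F278452)) (tt N27447 F273977) (tt N27435 (iv D61375)) (tt N27555 F273978) (tt N27655 F273979) (tt N29574 (iv F278406)) (tt N27438 F273980) (tt N29586 D62356) (tt N27538 F273981))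
theorem Q28607 : ∀ i, i < 28607 → P i := stepQ 28606 Q28606 (allL N28606 (tt N27437 F273982) (tt N29056 (iv F275615)) (tt N29205 (iv F276530)) (tt N29587 D62357) (tt N27436 (iv D61376)) (tt N29124 (iv F276064)) (tt N27439 F273983) (tt N29584 (iv F278450)) (tt N29558 (iv F278341)) (tt N27539 F273984))
theorem Q28608 : ∀ i, i < 28608 → P i := stepQ 28607 Q28607 (allL N28607 (tt N29587 (iv F278462)) (tt N27438 F273985) (tt N27532 F273986) (tt N27437 (iv D61377)) (tt N27543 F273987) (tt N27666 F273988) (tt N27440 F273989) (tt N29585 (iv F278456)) (tt N29588 D62358) (tt N27540 F273990))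
theorem Q28609 : ∀ i, i < 28609 → P i := stepQ 28608 Q28608 (allL N28608 (tt N29058 (iv F275626)) (tt N29588 (iv F278468)) (tt N27448 F273991) (tt N29560 (iv F278347)) (tt N27562 F273992) (tt N27663 F273993) (tt N27441 F273994) (tt N29586 (iv F278461)) (tt N27438 (iv D61378)) (tt N29589 D62359))
theorem Q28610 : ∀ i, i < 28610 → P i := stepQ 28609 Q28609 (allL N28609 (tt N27440 F273995) (tt N29484 (iv F278027)) (tt N29590 D62360) (tt N27439 (iv D61379)) (tt N27735 F273996) (tt N27734 F273997) (tt N29587 (iv F278466)) (tt N29579 (iv F278424)) (tt N29591 D62361) (tt N27542 F273998))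
theorem Q28611 : ∀ i, i < 28611 → P i := stepQ 28610 Q28610 (allL N28610 (tt N29590 (iv F278478)) (tt N27449 F273999) (tt N27440 (iv D61380)) (tt N27529 F274000) (tt N27540 F274001) (tt N27716 F274002) (tt N27532 F274003) (tt N29580 (iv F278430)) (tt N29592 D62362) (tt N27543 F274004))
theorem Q28612 : ∀ i, i < 28612 → P i := stepQ 28611 Q28611 (allL N28611 (tt N29591 (iv F278484)) (tt N27441 F274005) (tt N29592 (iv F278488)) (tt N29563 (iv F278353)) (tt N27729 F274006) (tt N27723 F274007) (tt N29588 (iv F278472)) (tt N29581 (iv F278435)) (tt N27440 (iv D61381)) (tt N29593 D62363))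
theorem Q28613 : ∀ i, i < 28613 → P i := stepQ 28612 Q28612 (allL N28612 (tt N29164 (iv F276289)) (tt N29593 (iv F278492)) (tt N27451 F274008) (tt N29564 (iv F278356)) (tt N27727 F274009) (tt N27721 F274010) (tt N29589 (iv F278476)) (tt N29582 (iv F278439)) (tt N27545 F274011) (tt N27441 (iv D61382)))
theorem Q28614 : ∀ i, i < 28614 → P i := stepQ 28613 Q28613 (allL N28613 (tt N29059 (iv F275631)) (tt N27547 F274012) (tt N29574 (iv F278404)) (tt N27442 (iv D61383)) (tt N27552 F274013) (tt N29357 (iv F277440)) (tt N27447 F274014) (tt N27444 F274015) (tt N29541 (iv F278281)) (tt N27550 F274016))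
theorem Q28615 : ∀ i, i < 28615 → P i := stepQ 28614 Q28614 (allL N28614 (tt N29017 (iv F275371)) (tt N27444 F274017) (tt N29594 D62364) (tt N27443 (iv D61384)) (tt N27550 F274018) (tt N29340 (iv F277377)) (tt N27445 F274019) (tt N27547 F274020) (tt N29467 (iv F277946)) (tt N27552 F274021))
theorem Q28616 : ∀ i, i < 28616 → P i := stepQ 28615 Q28615 (allL N28615 (tt N29486 (iv F278034)) (tt N29467 (iv F277942)) (tt N29578 (iv F278418)) (tt N28615 F274022) (tt N27699 F274023) (tt N29348 (iv F277408)) (tt N27446 F274024) (tt N29541 (iv F278280)) (tt N27444 (iv D61385)) (tt N29595 D62365))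
theorem Q28617 : ∀ i, i < 28617 → P i := stepQ 28616 Q28616 (allL N28616 (tt N29064 (iv F275665)) (tt N29580 (iv F278426)) (tt N27445 (iv D61386)) (tt N27526 F274025) (tt N27538 F274026) (tt N27686 F274027) (tt N29594 (iv F278498)) (tt N27449 F274028) (tt N29466 (iv F277940)) (tt N27555 F274029))
theorem Q28618 : ∀ i, i < 28618 → P i := stepQ 28617 Q28617 (allL N28617 (tt N29139 (iv F276162)) (tt N29294 (iv F277113)) (tt N29582 (iv F278436)) (tt N28617 F274030) (tt N27695 F274031) (tt N27690 F274032) (tt N29595 (iv F278503)) (tt N27451 F274033) (tt N27557 F274034) (tt N27446 (iv D61387)))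
theorem Q28619 : ∀ i, i < 28619 → P i := stepQ 28618 Q28618 (allL N28618 (tt N29060 (iv F275638)) (tt N27549 F274035) (tt N29586 (iv F278458)) (tt N28618 F274036) (tt N27556 F274037) (tt N27653 F274038) (tt N29541 (iv F278279)) (tt N27448 F274039) (tt N27447 (iv D61388)) (tt N29291 (iv F277098)))
theorem Q28620 : ∀ i, i < 28620 → P i := stepQ 28619 Q28619 (allL N28619 (tt N29061 (iv F275645)) (tt N27558 F274040) (tt N29589 (iv F278473)) (tt N28619 F274041) (tt N27482 F274042) (tt N27455 F274043) (tt N27451 F274044) (tt N29291 (iv F277096)) (tt N27559 F274045) (tt N27448 (iv D61389)))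
theorem Q28621 : ∀ i, i < 28621 → P i := stepQ 28620 Q28620 (allL N28620 (tt N29098 (iv F275878)) (tt N29592 (iv F278487)) (tt N27450 F274046) (tt N29596 D62366) (tt N27541 F274047) (tt N27709 F274048) (tt N27534 F274049) (tt N29466 (iv F277939)) (tt N27449 (iv D61390)) (tt N29597 D62367))
theorem Q28622 : ∀ i, i < 28622 → P i := stepQ 28621 Q28621 (allL N28621 (tt N29104 (iv F275908)) (tt N27451 F274050) (tt N29597 (iv F278509)) (tt N28621 F274051) (tt N27559 F274052) (tt N27472 F274053) (tt N27558 F274054) (tt N29294 (iv F277116)) (tt N27482 F274055) (tt N27450 (iv D61391)))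
theorem Q28623 : ∀ i, i < 28623 → P i := stepQ 28622 Q28622 (allL N28622 (tt N27452 (iv D61392)) (tt N27864 F274056) (tt N27459 F274057) (tt N29078 (iv F275756)) (tt N27477 F274058) (tt N29195 (iv F276468)) (tt N27470 F274059) (tt N27521 F274060) (tt N27486 F274061) (tt N29194 (iv F276464)))
theorem Q28624 : ∀ i, i < 28624 → P i := stepQ 28623 Q28623 (allL N28623 (tt N27453 (iv D61393)) (tt N29239 (iv F276742)) (tt N27486 F274062) (tt N29128 (iv F276087)) (tt N27470 F274063) (tt N29232 (iv F276694)) (tt N27477 F274064) (tt N27504 F274065) (tt N27459 F274066) (tt N27841 F274067))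
theorem Q28625 : ∀ i, i < 28625 → P i := stepQ 28624 Q28624 (allL N28624 (tt N29598 D62368) (tt N27454 (iv D61394)) (tt N27668 F274068) (tt N27462 F274069) (tt N29599 D62369) (tt N27480 F274070) (tt N27456 F274071) (tt N29289 (iv F277083)) (tt N27710 F274072) (tt N27662 F274073))
theorem Q28626 : ∀ i, i < 28626 → P i := stepQ 28625 Q28625 (allL N28625 (tt N29208 (iv F276546)) (tt N29599 (iv F278520)) (tt N27455 F274074) (tt N29600 D62370) (tt N27454 (iv D61395)) (tt N29589 (iv F278475)) (tt N27457 F274075) (tt N29290 (iv F277089)) (tt N27711 F274076) (tt N27663 F274077))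
theorem Q28627 : ∀ i, i < 28627 → P i := stepQ 28626 Q28626 (allL N28626 (tt N27456 (iv D61396)) (tt N29487 (iv F278038)) (tt N29195 (iv F276466)) (tt N27464 F274078) (tt N29601 D62371) (tt N27459 F274079) (tt N29598 (iv F278517)) (tt N27891 F274080) (tt N29232 (iv F276697)) (tt N29190 (iv F276434)))
theorem Q28628 : ∀ i, i < 28628 → P i := stepQ 28627 Q28627 (allL N28627 (tt N29601 (iv F278529)) (tt N27457 F274081) (tt N29196 (iv F276474)) (tt N29602 D62372) (tt N27456 (iv D61397)) (tt N29603 D62373) (tt N29599 (iv F278522)) (tt N27892 F274082) (tt N29233 (iv F276705)) (tt N29191 (iv F276441)))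
theorem Q28629 : ∀ i, i < 28629 → P i := stepQ 28628 Q28628 (allL N28628 (tt N29489 (iv F278051)) (tt N29602 (iv F278531)) (tt N28628 F274083) (tt N27457 (iv D61398)) (tt N27466 F274084) (tt N29570 (iv F278382)) (tt N29600 (iv F278527)) (tt N27893 F274085) (tt N29450 (iv F277857)) (tt N29192 (iv F276449)))
theorem Q28630 : ∀ i, i < 28630 → P i := stepQ 28629 Q28629 (allL N28629 (tt N27858 F274086) (tt N29603 (iv F278534)) (tt N27458 F274087) (tt N29570 (iv F278380)) (tt N27461 F274088) (tt N27457 (iv D61399)) (tt N27721 (iv F274092)) (tt N27499 F274089) (tt N27469 F274090) (tt N27719 F274091))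
theorem Q28631 : ∀ i, i < 28631 → P i := stepQ 28630 Q28630 (allL N28630 (tt N27460 F274093) (tt N27859 F274094) (tt N27477 F274095) (tt N27828 F274096) (tt N27459 (iv D61400)) (tt N29604 D62374) (tt N27486 F274097) (tt N27500 F274098) (tt N27470 F274099) (tt N27837 F274100))
theorem Q28632 : ∀ i, i < 28632 → P i := stepQ 28631 Q28631 (allL N28631 (tt N29604 (iv F278541)) (tt N27461 F274101) (tt N27474 F274102) (tt N27826 F274103) (tt N29603 (iv F278536)) (tt N27460 (iv D61401)) (tt N27720 F274104) (tt N27498 F274105) (tt N27468 F274106) (tt N27718 F274107))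
theorem Q28633 : ∀ i, i < 28633 → P i := stepQ 28632 Q28632 (allL N28632 (tt N27462 (iv D61402)) (tt N29363 (iv F277468)) (tt N29211 (iv F276567)) (tt N29598 (iv F278515)) (tt N29605 D62375) (tt N27489 F274108) (tt N27464 F274109) (tt N29305 (iv F277184)) (tt N29302 (iv F277165)) (tt N29565 (iv F278362)))
theorem Q28634 : ∀ i, i < 28634 → P i := stepQ 28633 Q28633 (allL N28633 (tt N29605 (iv F278549)) (tt N27463 F274110) (tt N29212 (iv F276573)) (tt N29606 D62376) (tt N27462 (iv D61403)) (tt N29386 (iv F277572)) (tt N27465 F274111) (tt N29306 (iv F277188)) (tt N29277 F277000) (tt N29566 (iv F278366)))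
theorem Q28635 : ∀ i, i < 28635 → P i := stepQ 28634 Q28634 (allL N28634 (tt N29365 (iv F277479)) (tt N29606 (iv F278551)) (tt N28634 F274112) (tt N27463 (iv D61404)) (tt N29600 (iv F278526)) (tt N29360 (iv F277453)) (tt N27466 F274113) (tt N29307 (iv F277193)) (tt N29265 (iv F276921)) (tt N29567 (iv F278371)))
theorem Q28636 : ∀ i, i < 28636 → P i := stepQ 28635 Q28635 (allL N28635 (tt N27465 F274114) (tt N29490 (iv F278059)) (tt N29215 (iv F276587)) (tt N29607 D62377) (tt N27464 (iv D61405)) (tt N29452 (iv F277867)) (tt N29605 (iv F278550)) (tt N27897 F274115) (tt N29388 (iv F277581)) (tt N29568 (iv F278374)))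
theorem Q28637 : ∀ i, i < 28637 → P i := stepQ 28636 Q28636 (allL N28636 (tt N29607 (iv F278553)) (tt N27466 F274116) (tt N29608 D62378) (tt N27465 (iv D61406)) (tt N29602 (iv F278532)) (tt N29453 (iv F277871)) (tt N29606 (iv F278552)) (tt N27898 F274117) (tt N29609 D62379) (tt N29569 (iv F278377)))
theorem Q28638 : ∀ i, i < 28638 → P i := stepQ 28637 Q28637 (allL N28637 (tt N27816 F274118) (tt N29609 (iv F278557)) (tt N28637 F274119) (tt N27806 F274120) (tt N29450 (iv F277854)) (tt N27840 F274121) (tt N29265 (iv F276920)) (tt N27899 F274122) (tt N27466 (iv D61407)) (tt N29114 (iv F275989)))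
theorem Q28639 : ∀ i, i < 28639 → P i := stepQ 28638 Q28638 (allL N28638 (tt N27467 (iv D61408)) (tt N27470 F274123) (tt N27844 F274124) (tt N29218 (iv F276600)) (tt N29239 (iv F276745)) (tt N29177 (iv F276355)) (tt N27864 F274125) (tt N27496 F274126) (tt N27859 F274127) (tt N27843 F274128))
theorem Q28640 : ∀ i, i < 28640 → P i := stepQ 28639 Q28639 (allL N28639 (tt N27468 (iv D61409)) (tt N29177 (iv F276352)) (tt N27483 F274129) (tt N27843 F274130) (tt N29610 D62380) (tt N27470 F274131) (tt N29504 (iv F278122)) (tt N27502 F274132) (tt N29604 (iv F278547)) (tt N29218 (iv F276605)))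
theorem Q28641 : ∀ i, i < 28641 → P i := stepQ 28640 Q28640 (allL N28640 (tt N29610 (iv F278561)) (tt N27469 F274133) (tt N27484 F274134) (tt N29204 (iv F276522)) (tt N27468 (iv D61410)) (tt N29233 (iv F276702)) (tt N29456 (iv F277888)) (tt N27503 F274135) (tt N29603 (iv F278538)) (tt N29219 (iv F276613)))
theorem Q28642 : ∀ i, i < 28642 → P i := stepQ 28641 Q28641 (allL N28641 (tt N29611 D62381) (tt N27471 (iv D61411)) (tt N27720 F274136) (tt N29283 (iv F277039)) (tt N29612 D62382) (tt N27710 F274137) (tt N27474 F274138) (tt N29292 (iv F277103)) (tt N27480 F274139) (tt N27708 F274140))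
theorem Q28643 : ∀ i, i < 28643 → P i := stepQ 28642 Q28642 (allL N28642 (tt N29331 (iv F277337)) (tt N29612 (iv F278569)) (tt N27472 F274141) (tt N29613 D62383) (tt N27471 (iv D61412)) (tt N29597 (iv F278511)) (tt N27475 F274142) (tt N29293 (iv F277109)) (tt N27481 F274143) (tt N27709 F274144))
theorem Q28644 : ∀ i, i < 28644 → P i := stepQ 28643 Q28643 (allL N28643 (tt N29614 D62384) (tt N27473 (iv D61413)) (tt N27718 F274145) (tt N29389 (iv F277584)) (tt N29200 (iv F276495)) (tt N27476 F274146) (tt N27708 F274147) (tt N27512 F274148) (tt N27714 F274149) (tt N27474 F274150))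
theorem Q28645 : ∀ i, i < 28645 → P i := stepQ 28644 Q28644 (allL N28644 (tt N27474 (iv D61414)) (tt N29492 (iv F278065)) (tt N29604 (iv F278543)) (tt N29391 (iv F277597)) (tt N29615 D62385) (tt N27477 F274151) (tt N29611 (iv F278566)) (tt N27514 F274152) (tt N27483 F274153) (tt N29614 (iv F278583)))
theorem Q28646 : ∀ i, i < 28646 → P i := stepQ 28645 Q28645 (allL N28645 (tt N29615 (iv F278584)) (tt N27475 F274154) (tt N29603 (iv F278535)) (tt N29616 D62386) (tt N27474 (iv D61415)) (tt N29196 (iv F276475)) (tt N29612 (iv F278571)) (tt N27515 F274155) (tt N27484 F274156) (tt N29200 (iv F276498)))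
theorem Q28647 : ∀ i, i < 28647 → P i := stepQ 28646 Q28646 (allL N28646 (tt N29494 (iv F278077)) (tt N29616 (iv F278587)) (tt N28646 F274157) (tt N27475 (iv D61416)) (tt N29393 (iv F277606)) (tt N29197 (iv F276483)) (tt N29613 (iv F278575)) (tt N27516 F274158) (tt N29617 D62387) (tt N29201 (iv F276504)))
theorem Q28648 : ∀ i, i < 28648 → P i := stepQ 28647 Q28647 (allL N28647 (tt N27476 (iv D61417)) (tt N27870 F274159) (tt N27837 F274160) (tt N29394 (iv F277610)) (tt N29194 (iv F276459)) (tt N29614 (iv F278579)) (tt N27841 F274161) (tt N27518 F274162) (tt N27865 F274163) (tt N27477 F274164))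
theorem Q28649 : ∀ i, i < 28649 → P i := stepQ 28648 Q28648 (allL N28648 (tt N29618 D62388) (tt N27478 (iv D61418)) (tt N27852 F274165) (tt N27487 F274166) (tt N29619 D62389) (tt N29289 (iv F277081)) (tt N27525 F274167) (tt N27480 F274168) (tt N29292 (iv F277104)) (tt N27847 F274169))
theorem Q28650 : ∀ i, i < 28650 → P i := stepQ 28649 Q28649 (allL N28649 (tt N29015 (iv F275358)) (tt N29619 (iv F278598)) (tt N27479 F274170) (tt N29594 (iv F278496)) (tt N27478 (iv D61419)) (tt N29620 D62390) (tt N27526 F274171) (tt N27481 F274172) (tt N29293 (iv F277110)) (tt N27848 F274173))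
theorem Q28651 : ∀ i, i < 28651 → P i := stepQ 28650 Q28650 (allL N28650 (tt N29016 (iv F275364)) (tt N27557 F274174) (tt N29620 (iv F278603)) (tt N27546 F274175) (tt N29291 (iv F277095)) (tt N27479 (iv D61420)) (tt N29341 (iv F277382)) (tt N27482 F274176) (tt N29294 (iv F277117)) (tt N27556 F274177))
theorem Q28652 : ∀ i, i < 28652 → P i := stepQ 28651 Q28651 (allL N28651 (tt N27480 (iv D61421)) (tt N29495 (iv F278082)) (tt N29504 (iv F278119)) (tt N27489 F274178) (tt N29621 D62391) (tt N29598 (iv F278516)) (tt N27483 F274179) (tt N29618 (iv F278596)) (tt N29611 (iv F278567)) (tt N29571 (iv F278393)))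
theorem Q28653 : ∀ i, i < 28653 → P i := stepQ 28652 Q28652 (allL N28652 (tt N29621 (iv F278606)) (tt N27481 F274180) (tt N29456 (iv F277884)) (tt N29622 D62392) (tt N27480 (iv D61422)) (tt N29623 D62393) (tt N27484 F274181) (tt N29619 (iv F278601)) (tt N29612 (iv F278572)) (tt N29238 (iv F276741)))
theorem Q28654 : ∀ i, i < 28654 → P i := stepQ 28653 Q28653 (allL N28653 (tt N29497 (iv F278091)) (tt N29622 (iv F278608)) (tt N27547 F274182) (tt N27481 (iv D61423)) (tt N27491 F274183) (tt N29624 D62394) (tt N27485 F274184) (tt N29594 (iv F278499)) (tt N29625 D62395) (tt N27704 F274185))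
theorem Q28655 : ∀ i, i < 28655 → P i := stepQ 28654 Q28654 (allL N28654 (tt N29167 (iv F276300)) (tt N29623 (iv F278612)) (tt N27482 F274186) (tt N29624 (iv F278617)) (tt N29589 (iv F278474)) (tt N27481 (iv D61424)) (tt N27727 F274187) (tt N29620 (iv F278604)) (tt N29597 (iv F278513)) (tt N27562 F274188))
theorem Q28656 : ∀ i, i < 28656 → P i := stepQ 28655 Q28655 (allL N28655 (tt N27484 F274189) (tt N29498 (iv F278097)) (tt N29610 (iv F278562)) (tt N29626 D62396) (tt N27483 (iv D61425)) (tt N29236 (iv F276723)) (tt N29621 (iv F278607)) (tt N27531 F274190) (tt N29615 (iv F278586)) (tt N29237 (iv F276733)))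
theorem Q28657 : ∀ i, i < 28657 → P i := stepQ 28656 Q28656 (allL N28656 (tt N29626 (iv F278623)) (tt N27485 F274191) (tt N29585 (iv F278453)) (tt N27484 (iv D61426)) (tt N27494 F274192) (tt N27661 F274193) (tt N29622 (iv F278610)) (tt N27532 F274194) (tt N29627 D62397) (tt N27703 F274195))
theorem Q28658 : ∀ i, i < 28658 → P i := stepQ 28657 Q28657 (allL N28657 (tt N29429 (iv F277760)) (tt N29627 (iv F278628)) (tt N27549 F274196) (tt N29617 (iv F278590)) (tt N27495 F274197) (tt N27659 F274198) (tt N29625 (iv F278622)) (tt N27534 F274199) (tt N27485 (iv D61427)) (tt N29628 D62398))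
theorem Q28659 : ∀ i, i < 28659 → P i := stepQ 28658 Q28658 (allL N28658 (tt N27487 (iv D61428)) (tt N29070 (iv F275704)) (tt N29224 (iv F276637)) (tt N29618 (iv F278594)) (tt N29629 D62399) (tt N29305 (iv F277182)) (tt N27536 F274200) (tt N27489 F274201) (tt N29309 (iv F277207)) (tt N29572 (iv F278398)))
theorem Q28660 : ∀ i, i < 28660 → P i := stepQ 28659 Q28659 (allL N28659 (tt N29629 (iv F278637)) (tt N27488 F274202) (tt N29225 (iv F276644)) (tt N29630 D62400) (tt N27487 (iv D61429)) (tt N29428 (iv F277757)) (tt N27537 F274203) (tt N27490 F274204) (tt N27804 F274205) (tt N29573 (iv F278403)))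
theorem Q28661 : ∀ i, i < 28661 → P i := stepQ 28660 Q28660 (allL N28660 (tt N29072 (iv F275715)) (tt N29630 (iv F278641)) (tt N27550 F274206) (tt N27488 (iv D61430)) (tt N29594 (iv F278497)) (tt N29430 (iv F277768)) (tt N27538 F274207) (tt N27491 F274208) (tt N29470 (iv F277964)) (tt N29574 (iv F278408)))
theorem Q28662 : ∀ i, i < 28662 → P i := stepQ 28661 Q28661 (allL N28661 (tt N27490 F274209) (tt N29500 (iv F278108)) (tt N29226 (iv F276653)) (tt N29631 D62401) (tt N27489 (iv D61431)) (tt N29632 D62402) (tt N27493 F274210) (tt N29629 (iv F278639)) (tt N29317 (iv F277256)) (tt N29575 (iv F278411)))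
theorem Q28663 : ∀ i, i < 28663 → P i := stepQ 28662 Q28662 (allL N28662 (tt N29631 (iv F278645)) (tt N27491 F274211) (tt N29633 D62403) (tt N27490 (iv D61432)) (tt N29622 (iv F278609)) (tt N29557 (iv F278337)) (tt N27494 F274212) (tt N29630 (iv F278644)) (tt N29634 D62404) (tt N29576 (iv F278415)))
theorem Q28664 : ∀ i, i < 28664 → P i := stepQ 28663 Q28663 (allL N28663 (tt N29632 (iv F278647)) (tt N27492 F274213) (tt N29227 (iv F276658)) (tt N29557 (iv F278336)) (tt N29386 (iv F277571)) (tt N27490 (iv D61433)) (tt N29445 (iv F277830)) (tt N29428 F277759) (tt N29319 (iv F277270)) (tt N29577 (iv F278417)))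
theorem Q28665 : ∀ i, i < 28665 → P i := stepQ 28664 Q28664 (allL N28664 (tt N29430 (iv F277765)) (tt N29634 (iv F278652)) (tt N27553 F274214) (tt N29073 (iv F275723)) (tt N29625 (iv F278621)) (tt N29072 F275720) (tt N27495 F274215) (tt N29470 (iv F277963)) (tt N27491 (iv D61434)) (tt N29635 D62405))
theorem Q28666 : ∀ i, i < 28666 → P i := stepQ 28665 Q28665 (allL N28665 (tt N27494 F274216) (tt N29503 (iv F278116)) (tt N29636 D62406) (tt N27493 (iv D61435)) (tt N29626 (iv F278624)) (tt N27856 F274217) (tt N29631 (iv F278646)) (tt N27542 F274218) (tt N29637 D62407) (tt N29579 (iv F278425)))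
theorem Q28667 : ∀ i, i < 28667 → P i := stepQ 28666 Q28666 (allL N28666 (tt N29636 (iv F278656)) (tt N27555 F274219) (tt N27494 (iv D61436)) (tt N29229 (iv F276669)) (tt N29585 (iv F278454)) (tt N27850 F274220) (tt N29633 (iv F278650)) (tt N27543 F274221) (tt N29638 D62408) (tt N29580 (iv F278431)))
theorem Q28668 : ∀ i, i < 28668 → P i := stepQ 28667 Q28667 (allL N28667 (tt N29637 (iv F278659)) (tt N27495 F274222) (tt N29638 (iv F278663)) (tt N29227 (iv F276659)) (tt N29627 (iv F278629)) (tt N27855 F274223) (tt N29634 (iv F278653)) (tt N27544 F274224) (tt N27494 (iv D61437)) (tt N29639 D62409))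
theorem Q28669 : ∀ i, i < 28669 → P i := stepQ 28668 Q28668 (allL N28668 (tt N29423 (iv F277733)) (tt N29639 (iv F278666)) (tt N27557 F274225) (tt N29186 (iv F276407)) (tt N29628 (iv F278633)) (tt N27853 F274226) (tt N29635 (iv F278655)) (tt N27545 F274227) (tt N29582 (iv F278440)) (tt N27495 (iv D61438)))
theorem Q28670 : ∀ i, i < 28670 → P i := stepQ 28669 Q28669 (allL N28669 (tt N29640 D62410) (tt N27497 (iv D61439)) (tt N27509 F274228) (tt N29361 (iv F277456)) (tt N29207 (iv F276544)) (tt N27907 F274229) (tt N27498 F274230) (tt N29343 (iv F277393)) (tt N27501 F274231) (tt N29329 (iv F277329)))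
theorem Q28671 : ∀ i, i < 28671 → P i := stepQ 28670 Q28670 (allL N28670 (tt N27498 (iv D61440)) (tt N29190 (iv F276427)) (tt N27514 F274232) (tt N29474 (iv F277977)) (tt N29641 D62411) (tt N27500 F274233) (tt N29640 (iv F278672)) (tt N29604 (iv F278546)) (tt N27502 F274234) (tt N29487 (iv F278044)))
theorem Q28672 : ∀ i, i < 28672 → P i := stepQ 28671 Q28671 (allL N28671 (tt N29641 (iv F278674)) (tt N27499 F274235) (tt N27515 F274236) (tt N29642 D62412) (tt N27498 (iv D61441)) (tt N27892 F274237) (tt N29207 (iv F276545)) (tt N29603 (iv F278537)) (tt N27503 F274238) (tt N29488 (iv F278050)))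
theorem Q28673 : ∀ i, i < 28673 → P i := stepQ 28672 Q28672 (allL N28672 (tt N29192 (iv F276442)) (tt N29642 (iv F278678)) (tt N28672 F274239) (tt N27499 (iv D61442)) (tt N29476 (iv F277990)) (tt N27893 F274240) (tt N29170 (iv F276315)) (tt N29570 (iv F278384)) (tt N27862 F274241) (tt N29489 (iv F278057)))
theorem Q28674 : ∀ i, i < 28674 → P i := stepQ 28673 Q28673 (allL N28673 (tt N27501 (iv D61443)) (tt N27665 F274242) (tt N27528 F274243) (tt N27865 F274244) (tt N29206 (iv F276538)) (tt N27910 F274245) (tt N27502 F274246) (tt N29544 (iv F278299)) (tt N29640 (iv F278673)) (tt N27707 F274247))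
theorem Q28675 : ∀ i, i < 28675 → P i := stepQ 28674 Q28674 (allL N28674 (tt N27503 F274248) (tt N29193 (iv F276451)) (tt N27531 F274249) (tt N29205 (iv F276531)) (tt N27502 (iv D61444)) (tt N29440 (iv F277804)) (tt N29206 (iv F276539)) (tt N29610 (iv F278563)) (tt N29641 (iv F278677)) (tt N29231 (iv F276690)))
theorem Q28676 : ∀ i, i < 28676 → P i := stepQ 28675 Q28675 (allL N28675 (tt N29643 D62413) (tt N27505 (iv D61445)) (tt N29343 (iv F277389)) (tt N27604 F274250) (tt N29644 D62414) (tt N27601 F274251) (tt N29292 (iv F277102)) (tt N27509 F274252) (tt N27525 F274253) (tt N29023 (iv F275420)))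
theorem Q28677 : ∀ i, i < 28677 → P i := stepQ 28676 Q28676 (allL N28676 (tt N27677 F274254) (tt N29644 (iv F278686)) (tt N27506 F274255) (tt N29645 D62415) (tt N27505 (iv D61446)) (tt N29646 D62416) (tt N29293 (iv F277108)) (tt N27510 F274256) (tt N27526 F274257) (tt N29024 (iv F275426)))
theorem Q28678 : ∀ i, i < 28678 → P i := stepQ 28677 Q28677 (allL N28677 (tt N27678 F274258) (tt N29060 (iv F275639)) (tt N29646 (iv F278694)) (tt N28677 F274259) (tt N27603 F274260) (tt N27506 (iv D61447)) (tt N29342 (iv F277388)) (tt N27511 F274261) (tt N27527 F274262) (tt N29025 (iv F275433)))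
theorem Q28679 : ∀ i, i < 28679 → P i := stepQ 28678 Q28678 (allL N28678 (tt N29647 D62417) (tt N27507 (iv D61448)) (tt N29329 (iv F277323)) (tt N29011 (iv F275330)) (tt N29648 D62418) (tt N27915 F274263) (tt N27512 F274264) (tt N29023 (iv F275418)) (tt N29150 (iv F276229)) (tt N27509 F274265))
theorem Q28680 : ∀ i, i < 28680 → P i := stepQ 28679 Q28679 (allL N28679 (tt N29082 (iv F275783)) (tt N29648 (iv F278701)) (tt N27508 F274266) (tt N29649 D62419) (tt N27507 (iv D61449)) (tt N29650 D62420) (tt N27513 F274267) (tt N29024 (iv F275424)) (tt N29151 (iv F276235)) (tt N27510 F274268))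
theorem Q28681 : ∀ i, i < 28681 → P i := stepQ 28680 Q28680 (allL N28680 (tt N29083 (iv F275789)) (tt N29061 (iv F275646)) (tt N29650 (iv F278707)) (tt N28680 F274269) (tt N27917 F274270) (tt N27508 (iv D61450)) (tt N29049 (iv F275580)) (tt N29025 (iv F275431)) (tt N29091 (iv F275840)) (tt N27511 F274271))
theorem Q28682 : ∀ i, i < 28682 → P i := stepQ 28681 Q28681 (allL N28681 (tt N27509 (iv D61451)) (tt N29084 (iv F275797)) (tt N29640 (iv F278670)) (tt N29125 (iv F276069)) (tt N29651 D62421) (tt N27918 F274272) (tt N27514 F274273) (tt N29643 (iv F278684)) (tt N27528 F274274) (tt N29647 (iv F278700)))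
theorem Q28683 : ∀ i, i < 28683 → P i := stepQ 28682 Q28682 (allL N28682 (tt N29651 (iv F278710)) (tt N27510 F274275) (tt N29207 (iv F276543)) (tt N29652 D62422) (tt N27509 (iv D61452)) (tt N29653 D62423) (tt N27515 F274276) (tt N29644 (iv F278687)) (tt N27529 F274277) (tt N29648 (iv F278703)))
theorem Q28684 : ∀ i, i < 28684 → P i := stepQ 28683 Q28683 (allL N28683 (tt N29086 (iv F275809)) (tt N29652 (iv F278713)) (tt N28683 F274278) (tt N27510 (iv D61453)) (tt N29127 (iv F276081)) (tt N29654 D62424) (tt N27516 F274279) (tt N29645 (iv F278692)) (tt N29596 (iv F278508)) (tt N29649 (iv F278706)))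
theorem Q28685 : ∀ i, i < 28685 → P i := stepQ 28684 Q28684 (allL N28684 (tt N29087 (iv F275814)) (tt N29653 (iv F278715)) (tt N27511 F274280) (tt N29654 (iv F278719)) (tt N27914 F274281) (tt N27510 (iv D61454)) (tt N29053 (iv F275600)) (tt N29646 (iv F278696)) (tt N27530 F274282) (tt N29650 (iv F278709)))
theorem Q28686 : ∀ i, i < 28686 → P i := stepQ 28685 Q28685 (allL N28685 (tt N27512 (iv D61455)) (tt N29505 (iv F278126)) (tt N29487 (iv F278039)) (tt N29411 (iv F277700)) (tt N29655 D62425) (tt N27518 F274283) (tt N29647 (iv F278699)) (tt N29614 (iv F278581)) (tt N29583 (iv F278446)) (tt N27514 F274284))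
theorem Q28687 : ∀ i, i < 28687 → P i := stepQ 28686 Q28686 (allL N28686 (tt N29655 (iv F278721)) (tt N27513 F274285) (tt N29488 (iv F278046)) (tt N29656 D62426) (tt N27512 (iv D61456)) (tt N29180 (iv F276374)) (tt N29648 (iv F278702)) (tt N29200 (iv F276496)) (tt N29183 (iv F276391)) (tt N27515 F274286))
theorem Q28688 : ∀ i, i < 28688 → P i := stepQ 28687 Q28687 (allL N28687 (tt N29507 (iv F278138)) (tt N29656 (iv F278723)) (tt N28687 F274287) (tt N27513 (iv D61457)) (tt N29413 (iv F277706)) (tt N29181 (iv F276380)) (tt N29649 (iv F278705)) (tt N29201 (iv F276503)) (tt N29657 D62427) (tt N27516 F274288))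
theorem Q28689 : ∀ i, i < 28689 → P i := stepQ 28688 Q28688 (allL N28688 (tt N27515 F274289) (tt N29508 (iv F278144)) (tt N29641 (iv F278675)) (tt N29658 D62428) (tt N27514 (iv D61458)) (tt N29659 D62429) (tt N29651 (iv F278711)) (tt N29615 (iv F278585)) (tt N27531 F274290) (tt N29655 (iv F278722)))
theorem Q28690 : ∀ i, i < 28690 → P i := stepQ 28689 Q28689 (allL N28689 (tt N29658 (iv F278726)) (tt N27516 F274291) (tt N29660 D62430) (tt N27515 (iv D61459)) (tt N29416 (iv F277714)) (tt N29661 D62431) (tt N29652 (iv F278714)) (tt N29616 (iv F278588)) (tt N29662 D62432) (tt N29656 (iv F278724)))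
theorem Q28691 : ∀ i, i < 28691 → P i := stepQ 28690 Q28690 (allL N28690 (tt N29659 (iv F278727)) (tt N27517 F274292) (tt N27892 F274293) (tt N29661 (iv F278734)) (tt N27523 F274294) (tt N27515 (iv D61460)) (tt N29051 (iv F275591)) (tt N29196 (iv F276477)) (tt N27533 F274295) (tt N29180 (iv F276377)))
theorem Q28692 : ∀ i, i < 28692 → P i := stepQ 28691 Q28691 (allL N28691 (tt N27883 F274296) (tt N29661 (iv F278733)) (tt N28691 F274297) (tt N27517 F274298) (tt N29663 D62433) (tt N27516 (iv D61461)) (tt N29052 (iv F275595)) (tt N29197 (iv F276485)) (tt N27672 (iv F274299)) (tt N29181 (iv F276382)))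
theorem Q28693 : ∀ i, i < 28693 → P i := stepQ 28692 Q28692 (allL N28692 (tt N29510 (iv F278149)) (tt N29662 (iv F278736)) (tt N28692 F274300) (tt N27534 F274301) (tt N29419 (iv F277722)) (tt N27672 F274302) (tt N29596 (iv F278507)) (tt N29617 (iv F278592)) (tt N27516 (iv D61462)) (tt N29664 D62434))
theorem Q28694 : ∀ i, i < 28694 → P i := stepQ 28693 Q28693 (allL N28693 (tt N27519 F274303) (tt N27884 F274304) (tt N27859 F274305) (tt N29665 D62435) (tt N27518 (iv D61463)) (tt N29179 (iv F276368)) (tt N27863 F274306) (tt N29194 (iv F276462)) (tt N27844 F274307) (tt N27521 F274308))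
theorem Q28695 : ∀ i, i < 28695 → P i := stepQ 28694 Q28694 (allL N28694 (tt N29665 (iv F278747)) (tt N27520 F274309) (tt N27648 F274310) (tt N27519 (iv D61464)) (tt N29421 (iv F277728)) (tt N29134 (iv F276131)) (tt N27654 F274311) (tt N29076 (iv F275743)) (tt N29137 (iv F276154)) (tt N27522 F274312))
theorem Q28696 : ∀ i, i < 28696 → P i := stepQ 28695 Q28695 (allL N28695 (tt N27522 F274313) (tt N27854 F274314) (tt N27679 F274315) (tt N27521 (iv D61465)) (tt N29425 (iv F277745)) (tt N29666 D62436) (tt N27687 F274316) (tt N29078 (iv F275759)) (tt N27835 F274317) (tt N29665 (iv F278751)))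
theorem Q28697 : ∀ i, i < 28697 → P i := stepQ 28696 Q28696 (allL N28696 (tt N27523 F274318) (tt N27881 F274319) (tt N27891 F274320) (tt N29666 (iv F278755)) (tt N29659 (iv F278730)) (tt N27521 (iv D61466)) (tt N29050 (iv F275587)) (tt N29195 (iv F276470)) (tt N27535 F274321) (tt N29179 (iv F276371)))
theorem Q28698 : ∀ i, i < 28698 → P i := stepQ 28697 Q28697 (allL N28697 (tt N29666 (iv F278752)) (tt N27524 F274322) (tt N27676 F274323) (tt N27523 F274324) (tt N29667 D62437) (tt N27522 (iv D61467)) (tt N29020 (iv F275397)) (tt N27595 F274325) (tt N27586 F274326) (tt N29134 (iv F276135)))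
theorem Q28699 : ∀ i, i < 28699 → P i := stepQ 28698 Q28698 (allL N28698 (tt N27659 F274327) (tt N29667 (iv F278758)) (tt N27569 F274328) (tt N29663 (iv F278741)) (tt N27524 (iv D61468)) (tt N29429 (iv F277762)) (tt N29021 (iv F275403)) (tt N27596 F274329) (tt N27587 F274330) (tt N29135 (iv F276141)))
theorem Q28700 : ∀ i, i < 28700 → P i := stepQ 28699 Q28699 (allL N28699 (tt N27525 (iv D61469)) (tt N29062 (iv F275653)) (tt N29544 (iv F278295)) (tt N27536 F274331) (tt N29668 D62438) (tt N27924 F274332) (tt N29618 (iv F278595)) (tt N27528 F274333) (tt N29643 (iv F278685)) (tt N29531 (iv F278243)))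
theorem Q28701 : ∀ i, i < 28701 → P i := stepQ 28700 Q28700 (allL N28700 (tt N29668 (iv F278762)) (tt N27526 F274334) (tt N29188 (iv F276420)) (tt N29580 (iv F278427)) (tt N27525 (iv D61470)) (tt N29669 D62439) (tt N29619 (iv F278600)) (tt N27529 F274335) (tt N29644 (iv F278688)) (tt N29229 (iv F276675)))
theorem Q28702 : ∀ i, i < 28702 → P i := stepQ 28701 Q28701 (allL N28701 (tt N29065 (iv F275672)) (tt N29669 (iv F278764)) (tt N27527 F274336) (tt N27686 F274337) (tt N27902 F274338) (tt N27526 (iv D61471)) (tt N29338 (iv F277371)) (tt N27530 F274339) (tt N29646 (iv F278697)) (tt N27851 F274340))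
theorem Q28703 : ∀ i, i < 28703 → P i := stepQ 28702 Q28702 (allL N28702 (tt N27529 F274341) (tt N29095 (iv F275862)) (tt N29206 F276541) (tt N29590 (iv F278479)) (tt N27528 (iv D61472)) (tt N29670 D62440) (tt N27531 F274342) (tt N29668 (iv F278763)) (tt N29651 (iv F278712)) (tt N29242 (iv F276768)))
theorem Q28704 : ∀ i, i < 28704 → P i := stepQ 28703 Q28703 (allL N28703 (tt N29670 (iv F278769)) (tt N27530 F274343) (tt N29057 (iv F275621)) (tt N27716 F274344) (tt N27913 F274345) (tt N27529 (iv D61473)) (tt N29055 (iv F275612)) (tt N29669 (iv F278767)) (tt N29653 (iv F278717)) (tt N29100 (iv F275893)))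
theorem Q28705 : ∀ i, i < 28705 → P i := stepQ 28704 Q28704 (allL N28704 (tt N27532 F274346) (tt N29511 (iv F278154)) (tt N29587 (iv F278463)) (tt N27531 (iv D61474)) (tt N27542 F274347) (tt N27674 (iv F274349)) (tt N29590 (iv F278482)) (tt N29626 (iv F278626)) (tt N29671 D62441) (tt N27735 F274348))
theorem Q28706 : ∀ i, i < 28706 → P i := stepQ 28705 Q28705 (allL N28705 (tt N27533 F274350) (tt N27889 F274351) (tt N29440 (iv F277802)) (tt N27674 F274352) (tt N27535 F274353) (tt N27531 (iv D61475)) (tt N29054 (iv F275606)) (tt N29236 (iv F276725)) (tt N29659 (iv F278731)) (tt N27593 F274354))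
theorem Q28707 : ∀ i, i < 28707 → P i := stepQ 28706 Q28706 (allL N28706 (tt N29671 (iv F278772)) (tt N27534 F274355) (tt N29588 (iv F278469)) (tt N29662 (iv F278737)) (tt N27544 F274356) (tt N27671 F274357) (tt N29592 (iv F278491)) (tt N29627 (iv F278631)) (tt N27532 (iv D61476)) (tt N29672 D62442))
theorem Q28708 : ∀ i, i < 28708 → P i := stepQ 28707 Q28707 (allL N28707 (tt N29160 (iv F276271)) (tt N29672 (iv F278775)) (tt N27558 F274358) (tt N29664 (iv F278745)) (tt N27545 F274359) (tt N27669 F274360) (tt N29597 (iv F278512)) (tt N29628 (iv F278635)) (tt N27727 F274361) (tt N27534 (iv D61477)))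
theorem Q28709 : ∀ i, i < 28709 → P i := stepQ 28708 Q28708 (allL N28708 (tt N27537 F274362) (tt N29074 (iv F275729)) (tt N29241 (iv F276759)) (tt N29673 D62443) (tt N27536 (iv D61478)) (tt N27800 F274363) (tt N29629 (iv F278638)) (tt N27539 F274364) (tt N27803 F274365) (tt N29584 (iv F278451)))
theorem Q28710 : ∀ i, i < 28710 → P i := stepQ 28709 Q28709 (allL N28709 (tt N29673 (iv F278779)) (tt N27538 F274366) (tt N27703 (iv F274369)) (tt N27537 (iv D61479)) (tt N29580 (iv F278428)) (tt N27688 F274367) (tt N29630 (iv F278643)) (tt N27540 F274368) (tt N29469 (iv F277958)) (tt N29585 (iv F278457)))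
theorem Q28711 : ∀ i, i < 28711 → P i := stepQ 28710 Q28710 (allL N28710 (tt N27540 F274370) (tt N29101 (iv F275896)) (tt N27735 (iv F274373)) (tt N27539 (iv D61480)) (tt N29590 (iv F278480)) (tt N27717 F274371) (tt N27542 F274372) (tt N29673 (iv F278781)) (tt N29674 D62444) (tt N29587 (iv F278467)))
theorem Q28712 : ∀ i, i < 28712 → P i := stepQ 28711 Q28711 (allL N28711 (tt N29674 (iv F278783)) (tt N27541 F274374) (tt N27729 F274375) (tt N29407 (iv F277678)) (tt N29592 (iv F278489)) (tt N27713 F274376) (tt N27544 F274377) (tt N29469 (iv F277957)) (tt N27540 (iv D61481)) (tt N29675 D62445))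
theorem Q28713 : ∀ i, i < 28713 → P i := stepQ 28712 Q28712 (allL N28712 (tt N29103 (iv F275903)) (tt N29675 (iv F278787)) (tt N27559 F274378) (tt N29405 (iv F277666)) (tt N29597 (iv F278510)) (tt N27711 F274379) (tt N27545 F274380) (tt N29297 (iv F277134)) (tt N29589 (iv F278477)) (tt N27541 (iv D61482)))
theorem Q28714 : ∀ i, i < 28714 → P i := stepQ 28713 Q28713 (allL N28713 (tt N27543 F274381) (tt N29676 D62446) (tt N27542 (iv D61483)) (tt N29242 (iv F276765)) (tt N29587 (iv F278464)) (tt N29240 (iv F276755)) (tt N27735 F274382) (tt N29636 (iv F278658)) (tt N29677 D62447) (tt N29590 (iv F278483)))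
theorem Q28715 : ∀ i, i < 28715 → P i := stepQ 28714 Q28714 (allL N28714 (tt N27544 F274383) (tt N29513 (iv F278162)) (tt N29677 (iv F278797)) (tt N29437 (iv F277790)) (tt N29671 (iv F278773)) (tt N29455 (iv F277881)) (tt N29674 (iv F278786)) (tt N29637 (iv F278661)) (tt N27542 (iv D61484)) (tt N29678 D62448))
theorem Q28716 : ∀ i, i < 28716 → P i := stepQ 28715 Q28715 (allL N28715 (tt N29677 (iv F278796)) (tt N27562 F274384) (tt N27544 F274385) (tt N29679 D62449) (tt N29588 (iv F278470)) (tt N29238 (iv F276738)) (tt N27729 F274386) (tt N29638 (iv F278665)) (tt N27543 (iv D61485)) (tt N29623 (iv F278615)))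
theorem Q28717 : ∀ i, i < 28717 → P i := stepQ 28716 Q28716 (allL N28716 (tt N29678 (iv F278799)) (tt N27545 F274387) (tt N29623 (iv F278613)) (tt N29438 (iv F277792)) (tt N29672 (iv F278776)) (tt N29456 (iv F277887)) (tt N29675 (iv F278790)) (tt N29639 (iv F278668)) (tt N29593 (iv F278495)) (tt N27544 (iv D61486)))
theorem Q28718 : ∀ i, i < 28718 → P i := stepQ 28717 Q28717 (allL N28717 (tt N29029 (iv F275449)) (tt N29357 (iv F277438)) (tt N29624 (iv F278616)) (tt N27548 F274388) (tt N29549 (iv F278316)) (tt N27547 (iv D61487)) (tt N27650 F274389) (tt N29340 (iv F277378)) (tt N29680 D62450) (tt N27568 F274390))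
theorem Q28719 : ∀ i, i < 28719 → P i := stepQ 28718 Q28718 (allL N28718 (tt N29439 (iv F277794)) (tt N29541 (iv F278277)) (tt N29625 (iv F278620)) (tt N28718 F274391) (tt N27553 F274392) (tt N29680 (iv F278804)) (tt N27549 F274393) (tt N29467 (iv F277945)) (tt N27547 (iv D61488)) (tt N29681 D62451))
theorem Q28720 : ∀ i, i < 28720 → P i := stepQ 28719 Q28719 (allL N28719 (tt N29136 (iv F276142)) (tt N29291 (iv F277093)) (tt N29628 (iv F278632)) (tt N28719 F274394) (tt N27557 F274395) (tt N27657 F274396) (tt N29681 (iv F278808)) (tt N27558 F274397) (tt N27695 F274398) (tt N27549 (iv D61489)))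
theorem Q28721 : ∀ i, i < 28721 → P i := stepQ 28720 Q28720 (allL N28720 (tt N27552 F274399) (tt N27638 F274400) (tt N29682 D62452) (tt N27551 (iv D61490)) (tt N29059 (iv F275633)) (tt N29529 (iv F278227)) (tt N27554 F274401) (tt N27620 F274402) (tt N29530 (iv F278235)) (tt N29017 (iv F275376)))
theorem Q28722 : ∀ i, i < 28722 → P i := stepQ 28721 Q28721 (allL N28721 (tt N29682 (iv F278810)) (tt N29633 (iv F278648)) (tt N27552 (iv D61491)) (tt N27848 F274403) (tt N29574 (iv F278405)) (tt N29540 (iv F278274)) (tt N27555 F274404) (tt N27704 F274405) (tt N29539 F278271) (tt N29594 (iv F278500)))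
theorem Q28723 : ∀ i, i < 28723 → P i := stepQ 28722 Q28722 (allL N28722 (tt N29357 (iv F277437)) (tt N29341 (iv F277380)) (tt N29635 (iv F278654)) (tt N27565 F274406) (tt N29681 (iv F278807)) (tt N29059 (iv F275634)) (tt N27557 F274407) (tt N29298 (iv F277140)) (tt N29595 (iv F278504)) (tt N27553 (iv D61492)))
theorem Q28724 : ∀ i, i < 28724 → P i := stepQ 28723 Q28723 (allL N28723 (tt N27555 F274408) (tt N29683 D62453) (tt N27554 (iv D61493)) (tt N27608 F274409) (tt N29046 (iv F275559)) (tt N27846 F274410) (tt N29682 (iv F278812)) (tt N27560 F274411) (tt N29684 D62454) (tt N29064 (iv F275669)))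
theorem Q28725 : ∀ i, i < 28725 → P i := stepQ 28724 Q28724 (allL N28724 (tt N27556 F274412) (tt N27603 F274413) (tt N29684 (iv F278819)) (tt N27566 F274414) (tt N29060 (iv F275641)) (tt N27600 F274415) (tt N29530 (iv F278233)) (tt N27561 F274416) (tt N27554 (iv D61494)) (tt N29016 (iv F275370)))
theorem Q28726 : ∀ i, i < 28726 → P i := stepQ 28725 Q28725 (allL N28725 (tt N29684 (iv F278818)) (tt N29638 (iv F278662)) (tt N27556 F274417) (tt N29540 (iv F278273)) (tt N29586 (iv F278459)) (tt N27848 F274418) (tt N29539 (iv F278269)) (tt N27562 F274419) (tt N27555 (iv D61495)) (tt N29620 (iv F278605)))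
theorem Q28727 : ∀ i, i < 28727 → P i := stepQ 28726 Q28726 (allL N28726 (tt N29676 (iv F278791)) (tt N27560 (iv D61496)) (tt N27913 F274420) (tt N27626 F274421) (tt N29057 (iv F275622)) (tt N27911 F274422) (tt N27636 F274423) (tt N29683 (iv F278817)) (tt N29685 D62455) (tt N29096 (iv F275870)))
theorem Q28728 : ∀ i, i < 28728 → P i := stepQ 28727 Q28727 (allL N28727 (tt N27562 F274424) (tt N29685 (iv F278822)) (tt N27561 F274425) (tt N29686 D62456) (tt N29058 (iv F275628)) (tt N27905 F274426) (tt N27632 F274427) (tt N29684 (iv F278821)) (tt N27560 (iv D61497)) (tt N29167 (iv F276303)))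
theorem Q28729 : ∀ i, i < 28729 → P i := stepQ 28728 Q28728 (allL N28728 (tt N29686 (iv F278826)) (tt N29679 (iv F278800)) (tt N27568 F274428) (tt N27562 (iv D61498)) (tt N29687 D62457) (tt N27704 F274429) (tt N27681 F274430) (tt N29540 (iv F278276)) (tt N29069 (iv F275703)) (tt N29624 (iv F278619)))
theorem Q28730 : ∀ i, i < 28730 → P i := stepQ 28729 Q28729 (allL N28729 (tt N27568 F274431) (tt N29530 (iv F278231)) (tt N29686 (iv F278827)) (tt N27567 (iv D61499)) (tt N29342 (iv F277387)) (tt N27620 F274432) (tt N27603 F274433) (tt N29529 (iv F278228)) (tt N27638 F274434) (tt N29029 (iv F275452)))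
theorem Q28731 : ∀ i, i < 28731 → P i := stepQ 28730 Q28730 (allL N28730 (tt N29342 (iv F277385)) (tt N29439 (iv F277795)) (tt N29687 (iv F278831)) (tt N28730 F274435) (tt N27568 (iv D61500)) (tt N29353 (iv F277426)) (tt N27678 F274436) (tt N29156 (iv F276256)) (tt N29066 (iv F275684)) (tt N29549 (iv F278318)))
theorem Q28732 : ∀ i, i < 28732 → P i := stepQ 28731 Q28731 (allL N28731 (tt N27575 (iv D61501)) (tt N29274 (iv F276974)) (tt N27583 F274437) (tt N27795 F274438) (tt N29688 D62458) (tt N27577 F274439) (tt N29249 (iv F276813)) (tt N27775 F274440) (tt N27814 F274441) (tt N27788 F274442))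
theorem Q28733 : ∀ i, i < 28733 → P i := stepQ 28732 Q28732 (allL N28732 (tt N29688 (iv F278833)) (tt N27576 F274443) (tt N27584 F274444) (tt N29267 (iv F276933)) (tt N27575 (iv D61502)) (tt N27787 F274445) (tt N29250 (iv F276821)) (tt N27776 F274446) (tt N27815 F274447) (tt N27789 F274448))
theorem Q28734 : ∀ i, i < 28734 → P i := stepQ 28733 Q28733 (allL N28733 (tt N27578 (iv D61503)) (tt N27894 F274449) (tt N27814 F274450) (tt N27722 F274451) (tt N29689 D62459) (tt N27580 F274452) (tt N27838 F274453) (tt N27779 F274454) (tt N27583 F274455) (tt N29117 (iv F276013)))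
theorem Q28735 : ∀ i, i < 28735 → P i := stepQ 28734 Q28734 (allL N28734 (tt N29689 (iv F278839)) (tt N27579 F274456) (tt N27815 F274457) (tt N29690 D62460) (tt N27578 (iv D61504)) (tt N27683 F274458) (tt N27839 F274459) (tt N27780 F274460) (tt N27584 F274461) (tt N29118 (iv F276020)))
theorem Q28736 : ∀ i, i < 28736 → P i := stepQ 28735 Q28735 (allL N28735 (tt N27896 F274462) (tt N29690 (iv F278846)) (tt N28735 F274463) (tt N27579 (iv D61505)) (tt N27724 F274464) (tt N27684 F274465) (tt N27840 F274466) (tt N27781 F274467) (tt N29370 (iv F277509)) (tt N29119 (iv F276028)))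
theorem Q28737 : ∀ i, i < 28737 → P i := stepQ 28736 Q28736 (allL N28736 (tt N27581 (iv D61506)) (tt N27786 F274468) (tt N29249 (iv F276810)) (tt N27585 F274469) (tt N29691 D62461) (tt N27772 F274470) (tt N27583 F274471) (tt N29266 (iv F276928)) (tt N27838 F274472) (tt N27784 F274473))
theorem Q28738 : ∀ i, i < 28738 → P i := stepQ 28737 Q28737 (allL N28737 (tt N29691 (iv F278851)) (tt N27582 F274474) (tt N29250 (iv F276818)) (tt N27776 F274475) (tt N27581 (iv D61507)) (tt N29275 (iv F276985)) (tt N27584 F274476) (tt N29267 (iv F276936)) (tt N27839 F274477) (tt N27785 F274478))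
theorem Q28739 : ∀ i, i < 28739 → P i := stepQ 28738 Q28738 (allL N28738 (tt N27584 F274479) (tt N29004 (iv F275277)) (tt N29688 (iv F278834)) (tt N29372 (iv F277521)) (tt N27583 (iv D61508)) (tt N29384 (iv F277563)) (tt N29691 (iv F278854)) (tt N27782 F274480) (tt N29689 (iv F278845)) (tt N27790 F274481))
theorem Q28740 : ∀ i, i < 28740 → P i := stepQ 28739 Q28739 (allL N28739 (tt N27586 (iv D61509)) (tt N27660 F274482) (tt N29062 (iv F275654)) (tt N27588 F274483) (tt N29692 D62462) (tt N27835 F274484) (tt N29026 (iv F275436)) (tt N27597 F274485) (tt N29666 (iv F278757)) (tt N27617 F274486))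
theorem Q28741 : ∀ i, i < 28741 → P i := stepQ 28740 Q28740 (allL N28740 (tt N29692 (iv F278857)) (tt N27587 F274487) (tt N29063 (iv F275661)) (tt N27645 F274488) (tt N27586 (iv D61510)) (tt N29499 (iv F278104)) (tt N29027 (iv F275441)) (tt N27598 F274489) (tt N29667 (iv F278761)) (tt N27618 F274490))
theorem Q28742 : ∀ i, i < 28742 → P i := stepQ 28741 Q28741 (allL N28741 (tt N27590 (iv D61511)) (tt N27591 F274491) (tt N27909 F274492) (tt N27675 F274493) (tt N29235 (iv F276717)) (tt N27842 F274494) (tt N27673 F274495) (tt N29230 (iv F276681)) (tt N29218 (iv F276604)) (tt N27732 F274496))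
theorem Q28743 : ∀ i, i < 28743 → P i := stepQ 28742 Q28742 (allL N28742 (tt N27592 F274497) (tt N29235 (iv F276714)) (tt N27593 F274498) (tt N29116 (iv F276000)) (tt N27591 (iv D61512)) (tt N29231 (iv F276688)) (tt N29080 (iv F275772)) (tt N29234 (iv F276711)) (tt N29220 (iv F276617)) (tt N29440 (iv F277807)))
theorem Q28744 : ∀ i, i < 28744 → P i := stepQ 28743 Q28743 (allL N28743 (tt N27595 (iv D61513)) (tt N27670 F274499) (tt N29084 (iv F275798)) (tt N29195 (iv F276467)) (tt N29693 D62463) (tt N29078 (iv F275757)) (tt N29120 (iv F276033)) (tt N29666 (iv F278756)) (tt N27597 F274500) (tt N29157 (iv F276261)))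
theorem Q28745 : ∀ i, i < 28745 → P i := stepQ 28744 Q28744 (allL N28744 (tt N29693 (iv F278862)) (tt N27596 F274501) (tt N29085 (iv F275805)) (tt N29694 D62464) (tt N27595 (iv D61514)) (tt N29512 (iv F278160)) (tt N29121 (iv F276040)) (tt N29667 (iv F278760)) (tt N27598 F274502) (tt N29158 (iv F276265)))
theorem Q28746 : ∀ i, i < 28746 → P i := stepQ 28745 Q28745 (allL N28745 (tt N27672 F274503) (tt N29694 (iv F278865)) (tt N28745 F274504) (tt N27596 (iv D61515)) (tt N29197 (iv F276482)) (tt N29510 (iv F278152)) (tt N29122 (iv F276048)) (tt N29663 (iv F278742)) (tt N27883 F274505) (tt N29159 (iv F276270)))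
theorem Q28747 : ∀ i, i < 28747 → P i := stepQ 28746 Q28746 (allL N28746 (tt N27598 F274506) (tt N27674 F274507) (tt N29095 (iv F275863)) (tt N27889 F274508) (tt N27597 (iv D61516)) (tt N29511 (iv F278156)) (tt N29123 (iv F276057)) (tt N29692 (iv F278860)) (tt N29693 (iv F278864)) (tt N27635 F274509))
theorem Q28748 : ∀ i, i < 28748 → P i := stepQ 28747 Q28747 (allL N28747 (tt N29695 D62465) (tt N27599 (iv D61517)) (tt N27601 F274510) (tt N29041 (iv F275526)) (tt N29696 D62466) (tt N29343 (iv F277391)) (tt N27607 F274511) (tt N27907 F274512) (tt N27845 F274513) (tt N29014 (iv F275357)))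
theorem Q28749 : ∀ i, i < 28749 → P i := stepQ 28748 Q28748 (allL N28748 (tt N27848 F274514) (tt N29696 (iv F278872)) (tt N27600 F274515) (tt N29682 (iv F278811)) (tt N27599 (iv D61518)) (tt N29684 (iv F278820)) (tt N27608 F274516) (tt N27905 F274517) (tt N27846 F274518) (tt N29015 (iv F275363)))
theorem Q28750 : ∀ i, i < 28750 → P i := stepQ 28749 Q28749 (allL N28749 (tt N27601 (iv D61519)) (tt N27679 F274519) (tt N29695 (iv F278868)) (tt N27606 F274520) (tt N29697 D62467) (tt N29643 (iv F278683)) (tt N27617 F274521) (tt N27918 F274522) (tt N27924 F274523) (tt N29026 (iv F275438)))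
theorem Q28751 : ∀ i, i < 28751 → P i := stepQ 28750 Q28750 (allL N28750 (tt N29697 (iv F278877)) (tt N27602 F274524) (tt N29696 (iv F278873)) (tt N27631 F274525) (tt N27601 (iv D61520)) (tt N29698 D62468) (tt N27618 F274526) (tt N27919 F274527) (tt N27923 F274528) (tt N29027 (iv F275443)))
theorem Q28752 : ∀ i, i < 28752 → P i := stepQ 28751 Q28751 (allL N28751 (tt N27681 F274529) (tt N29698 (iv F278883)) (tt N27603 F274530) (tt N27632 F274531) (tt N29646 (iv F278695)) (tt N27602 (iv D61521)) (tt N29686 (iv F278829)) (tt N27914 F274532) (tt N27902 F274533) (tt N29028 (iv F275448)))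
theorem Q28753 : ∀ i, i < 28753 → P i := stepQ 28752 Q28752 (allL N28752 (tt N27604 (iv D61522)) (tt N27682 F274534) (tt N29263 (iv F276906)) (tt N29643 (iv F278682)) (tt N29699 D62469) (tt N27606 F274535) (tt N29299 (iv F277145)) (tt N29125 (iv F276072)) (tt N28996 (iv F275219)) (tt N29030 (iv F275458)))
theorem Q28754 : ∀ i, i < 28754 → P i := stepQ 28753 Q28753 (allL N28753 (tt N29699 (iv F278887)) (tt N27605 F274536) (tt N29264 (iv F276912)) (tt N29700 D62470) (tt N27604 (iv D61523)) (tt N27895 F274537) (tt N29300 (iv F277151)) (tt N29126 (iv F276077)) (tt N28997 (iv F275227)) (tt N29031 (iv F275464)))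
theorem Q28755 : ∀ i, i < 28755 → P i := stepQ 28754 Q28754 (allL N28754 (tt N27684 F274538) (tt N29700 (iv F278890)) (tt N28754 F274539) (tt N27605 (iv D61524)) (tt N29645 (iv F278691)) (tt N27896 F274540) (tt N29301 (iv F277157)) (tt N29127 (iv F276084)) (tt N29701 D62471) (tt N29032 (iv F275469)))
theorem Q28756 : ∀ i, i < 28756 → P i := stepQ 28755 Q28755 (allL N28755 (tt N27607 (iv D61525)) (tt N29531 (iv F278236)) (tt N27617 F274541) (tt N29044 (iv F275548)) (tt N29702 D62472) (tt N29037 (iv F275502)) (tt N29695 (iv F278869)) (tt N27625 F274542) (tt N29525 (iv F278210)) (tt N29062 (iv F275659)))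
theorem Q28757 : ∀ i, i < 28757 → P i := stepQ 28756 Q28756 (allL N28756 (tt N29702 (iv F278896)) (tt N27608 F274543) (tt N27618 F274544) (tt N29683 (iv F278815)) (tt N27607 (iv D61526)) (tt N29703 D62473) (tt N29696 (iv F278874)) (tt N27626 F274545) (tt N29526 (iv F278215)) (tt N29063 (iv F275664)))
theorem Q28758 : ∀ i, i < 28758 → P i := stepQ 28757 Q28757 (allL N28757 (tt N27851 F274546) (tt N29703 (iv F278899)) (tt N27609 F274547) (tt N27846 F274548) (tt N29039 (iv F275515)) (tt N27608 (iv D61527)) (tt N29527 (iv F278218)) (tt N27627 F274549) (tt N29528 (iv F278223)) (tt N29065 (iv F275678)))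
theorem Q28759 : ∀ i, i < 28759 → P i := stepQ 28758 Q28758 (allL N28758 (tt N29704 D62474) (tt N27610 (iv D61528)) (tt N29034 (iv F275479)) (tt N27768 F274550) (tt N29705 D62475) (tt N27612 F274551) (tt N29289 (iv F277082)) (tt N27628 F274552) (tt N27615 F274553) (tt N29137 (iv F276155)))
theorem Q28760 : ∀ i, i < 28760 → P i := stepQ 28759 Q28759 (allL N28759 (tt N27692 F274554) (tt N29705 (iv F278908)) (tt N27611 F274555) (tt N29706 D62476) (tt N27610 (iv D61529)) (tt N29483 (iv F278024)) (tt N29290 (iv F277088)) (tt N27629 F274556) (tt N27616 F274557) (tt N29138 (iv F276161)))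
theorem Q28761 : ∀ i, i < 28761 → P i := stepQ 28760 Q28760 (allL N28760 (tt N27612 (iv D61530)) (tt N27696 F274558) (tt N29525 (iv F278207)) (tt N27908 F274559) (tt N29707 D62477) (tt N29704 (iv F278905)) (tt N27924 F274560) (tt N27630 F274561) (tt N27617 F274562) (tt N29140 (iv F276173)))
theorem Q28762 : ∀ i, i < 28762 → P i := stepQ 28761 Q28761 (allL N28761 (tt N29707 (iv F278916)) (tt N27613 F274563) (tt N29526 (iv F278212)) (tt N27919 F274564) (tt N27612 (iv D61531)) (tt N29708 D62478) (tt N27923 F274565) (tt N27631 F274566) (tt N27618 F274567) (tt N29141 (iv F276178)))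
theorem Q28763 : ∀ i, i < 28763 → P i := stepQ 28762 Q28762 (allL N28762 (tt N27698 F274568) (tt N29708 (iv F278922)) (tt N27614 F274569) (tt N27914 F274570) (tt N29483 (iv F278023)) (tt N27613 (iv D61532)) (tt N29709 D62479) (tt N27632 F274571) (tt N27619 F274572) (tt N29142 (iv F276183)))
theorem Q28764 : ∀ i, i < 28764 → P i := stepQ 28763 Q28763 (allL N28763 (tt N27699 F274573) (tt N29529 (iv F278225)) (tt N29709 (iv F278927)) (tt N27637 F274574) (tt N29486 (iv F278036)) (tt N27638 F274575) (tt N27614 (iv D61533)) (tt N29530 (iv F278234)) (tt N27620 F274576) (tt N29143 (iv F276187)))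
theorem Q28765 : ∀ i, i < 28765 → P i := stepQ 28764 Q28764 (allL N28764 (tt N27615 (iv D61534)) (tt N27700 F274577) (tt N29037 (iv F275500)) (tt N27621 F274578) (tt N29710 D62480) (tt N27617 F274579) (tt N29295 (iv F277122)) (tt N27633 F274580) (tt N29704 (iv F278907)) (tt N27835 F274581))
theorem Q28766 : ∀ i, i < 28766 → P i := stepQ 28765 Q28765 (allL N28765 (tt N29710 (iv F278931)) (tt N27616 F274582) (tt N29038 (iv F275507)) (tt N27824 F274583) (tt N27615 (iv D61535)) (tt N29482 (iv F278018)) (tt N29296 (iv F277128)) (tt N27634 F274584) (tt N29705 (iv F278910)) (tt N27836 F274585))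
theorem Q28767 : ∀ i, i < 28767 → P i := stepQ 28766 Q28766 (allL N28766 (tt N27618 F274586) (tt N27702 F274587) (tt N29702 (iv F278897)) (tt N27903 F274588) (tt N27617 (iv D61536)) (tt N29711 D62481) (tt N29697 (iv F278880)) (tt N27635 F274589) (tt N29707 (iv F278921)) (tt N29692 (iv F278861)))
theorem Q28768 : ∀ i, i < 28768 → P i := stepQ 28767 Q28767 (allL N28767 (tt N29711 (iv F278936)) (tt N27619 F274590) (tt N29703 (iv F278900)) (tt N27904 F274591) (tt N29482 (iv F278017)) (tt N27618 (iv D61537)) (tt N29712 D62482) (tt N27636 F274592) (tt N29708 (iv F278925)) (tt N29499 (iv F278106)))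
theorem Q28769 : ∀ i, i < 28769 → P i := stepQ 28768 Q28768 (allL N28768 (tt N27704 F274593) (tt N29712 (iv F278940)) (tt N27620 F274594) (tt N27905 F274595) (tt N29479 (iv F278004)) (tt N29686 (iv F278828)) (tt N27619 (iv D61538)) (tt N29682 (iv F278813)) (tt N29709 (iv F278930)) (tt N29497 (iv F278095)))
theorem Q28770 : ∀ i, i < 28770 → P i := stepQ 28769 Q28769 (allL N28769 (tt N27622 (iv D61539)) (tt N29515 (iv F278164)) (tt N27630 F274596) (tt N29336 (iv F277362)) (tt N29713 D62483) (tt N29050 (iv F275586)) (tt N27900 F274597) (tt N29525 (iv F278209)) (tt N27625 F274598) (tt N29152 (iv F276240)))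
theorem Q28771 : ∀ i, i < 28771 → P i := stepQ 28770 Q28770 (allL N28770 (tt N29713 (iv F278942)) (tt N27623 F274599) (tt N27631 F274600) (tt N29714 D62484) (tt N27622 (iv D61540)) (tt N29715 D62485) (tt N27901 F274601) (tt N29526 (iv F278214)) (tt N27626 F274602) (tt N29153 (iv F276244)))
theorem Q28772 : ∀ i, i < 28772 → P i := stepQ 28771 Q28771 (allL N28771 (tt N29069 (iv F275698)) (tt N29714 (iv F278946)) (tt N27638 F274603) (tt N27623 (iv D61541)) (tt N29338 (iv F277370)) (tt N29709 (iv F278929)) (tt N27902 F274604) (tt N29527 (iv F278219)) (tt N29686 (iv F278830)) (tt N29154 (iv F276248)))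
theorem Q28773 : ∀ i, i < 28773 → P i := stepQ 28772 Q28772 (allL N28772 (tt N29094 (iv F275854)) (tt N29715 (iv F278948)) (tt N27624 F274605) (tt N29709 (iv F278928)) (tt N29053 (iv F275599)) (tt N27623 (iv D61542)) (tt N27914 F274606) (tt N29528 (iv F278222)) (tt N27627 F274607) (tt N29155 (iv F276251)))
theorem Q28774 : ∀ i, i < 28774 → P i := stepQ 28773 Q28773 (allL N28773 (tt N27626 F274608) (tt N29242 (iv F276764)) (tt N27635 F274609) (tt N29676 (iv F278793)) (tt N27625 (iv D61543)) (tt N29716 D62486) (tt N27926 F274610) (tt N29702 (iv F278898)) (tt N29713 (iv F278945)) (tt N29095 (iv F275865)))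
theorem Q28775 : ∀ i, i < 28775 → P i := stepQ 28774 Q28774 (allL N28774 (tt N29716 (iv F278952)) (tt N27627 F274611) (tt N27636 F274612) (tt N27911 F274613) (tt N29055 (iv F275611)) (tt N27626 (iv D61544)) (tt N27913 F274614) (tt N29703 (iv F278902)) (tt N29715 (iv F278951)) (tt N29097 (iv F275877)))
theorem Q28776 : ∀ i, i < 28776 → P i := stepQ 28775 Q28775 (allL N28775 (tt N27628 (iv D61545)) (tt N27722 F274615) (tt N29050 (iv F275585)) (tt N27894 F274616) (tt N29717 D62487) (tt N27630 F274617) (tt N27891 F274618) (tt N29704 (iv F278906)) (tt N27633 F274619) (tt N29161 (iv F276280)))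
theorem Q28777 : ∀ i, i < 28777 → P i := stepQ 28776 Q28776 (allL N28776 (tt N29717 (iv F278956)) (tt N27629 F274620) (tt N29051 (iv F275590)) (tt N29718 D62488) (tt N27628 (iv D61546)) (tt N29485 (iv F278033)) (tt N27892 F274621) (tt N29705 (iv F278909)) (tt N27634 F274622) (tt N29162 (iv F276283)))
theorem Q28778 : ∀ i, i < 28778 → P i := stepQ 28777 Q28777 (allL N28777 (tt N27724 F274623) (tt N29718 (iv F278960)) (tt N28777 F274624) (tt N27629 (iv D61547)) (tt N27896 F274625) (tt N29473 (iv F277974)) (tt N27893 F274626) (tt N29706 (iv F278914)) (tt N27833 F274627) (tt N29163 (iv F276288)))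
theorem Q28779 : ∀ i, i < 28779 → P i := stepQ 28778 Q28778 (allL N28778 (tt N27631 F274628) (tt N27728 F274629) (tt N29713 (iv F278943)) (tt N29697 (iv F278879)) (tt N27630 (iv D61548)) (tt N29719 D62489) (tt N27903 F274630) (tt N29707 (iv F278920)) (tt N27635 F274631) (tt N29165 (iv F276297)))
theorem Q28780 : ∀ i, i < 28780 → P i := stepQ 28779 Q28779 (allL N28779 (tt N29719 (iv F278964)) (tt N27632 F274632) (tt N29715 (iv F278949)) (tt N29698 (iv F278884)) (tt N29485 (iv F278032)) (tt N27631 (iv D61549)) (tt N29685 (iv F278825)) (tt N29708 (iv F278924)) (tt N27636 F274633) (tt N29166 (iv F276299)))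
theorem Q28781 : ∀ i, i < 28781 → P i := stepQ 28780 Q28780 (allL N28780 (tt N27634 F274634) (tt N27734 F274635) (tt N29054 (iv F275604)) (tt N27834 F274636) (tt N27633 (iv D61550)) (tt N29484 (iv F278029)) (tt N29440 (iv F277805)) (tt N29710 (iv F278934)) (tt N29717 (iv F278959)) (tt N29080 (iv F275774)))
theorem Q28782 : ∀ i, i < 28782 → P i := stepQ 28781 Q28781 (allL N28781 (tt N27636 F274637) (tt N27735 F274638) (tt N29716 (iv F278953)) (tt N27926 F274639) (tt N29484 (iv F278028)) (tt N27635 (iv D61551)) (tt N29676 (iv F278795)) (tt N29711 (iv F278939)) (tt N29719 (iv F278966)) (tt N29511 (iv F278157)))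
theorem Q28783 : ∀ i, i < 28783 → P i := stepQ 28782 Q28782 (allL N28782 (tt N27639 (iv D61552)) (tt N29583 (iv F278441)) (tt N27644 F274640) (tt N27849 F274641) (tt N29720 D62490) (tt N27863 F274642) (tt N29152 (iv F276239)) (tt N27871 F274643) (tt N29505 (iv F278130)) (tt N27900 F274644))
theorem Q28784 : ∀ i, i < 28784 → P i := stepQ 28783 Q28783 (allL N28783 (tt N29720 (iv F278967)) (tt N27640 F274645) (tt N27645 F274646) (tt N29721 D62491) (tt N27639 (iv D61553)) (tt N27921 F274647) (tt N29153 (iv F276243)) (tt N27872 F274648) (tt N29506 (iv F278136)) (tt N27901 F274649))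
theorem Q28785 : ∀ i, i < 28785 → P i := stepQ 28784 Q28784 (allL N28784 (tt N29039 (iv F275512)) (tt N29721 (iv F278972)) (tt N27641 F274650) (tt N27640 (iv D61554)) (tt N27851 F274651) (tt N27886 F274652) (tt N29154 (iv F276247)) (tt N27873 F274653) (tt N29535 (iv F278258)) (tt N27902 F274654))
theorem Q28786 : ∀ i, i < 28786 → P i := stepQ 28785 Q28785 (allL N28785 (tt N27642 (iv D61555)) (tt N29195 (iv F276465)) (tt N29505 (iv F278127)) (tt N27670 F274655) (tt N29722 D62492) (tt N27864 F274656) (tt N29157 (iv F276259)) (tt N27881 F274657) (tt N27644 F274658) (tt N29120 (iv F276036)))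
theorem Q28787 : ∀ i, i < 28787 → P i := stepQ 28786 Q28786 (allL N28786 (tt N29722 (iv F278977)) (tt N27643 F274659) (tt N29506 (iv F278133)) (tt N29723 D62493) (tt N27642 (iv D61556)) (tt N29493 (iv F278073)) (tt N29158 (iv F276263)) (tt N27882 F274660) (tt N27645 F274661) (tt N29121 (iv F276043)))
theorem Q28788 : ∀ i, i < 28788 → P i := stepQ 28787 Q28787 (allL N28787 (tt N29197 (iv F276480)) (tt N29723 (iv F278980)) (tt N28787 F274662) (tt N27643 (iv D61557)) (tt N27672 F274663) (tt N29494 (iv F278079)) (tt N29159 (iv F276269)) (tt N27883 F274664) (tt N29663 (iv F278743)) (tt N29122 (iv F276051)))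
theorem Q28789 : ∀ i, i < 28789 → P i := stepQ 28788 Q28788 (allL N28788 (tt N27645 F274665) (tt N29236 (iv F276721)) (tt N29720 (iv F278968)) (tt N29692 (iv F278859)) (tt N27644 (iv D61558)) (tt N29498 (iv F278099)) (tt N29165 (iv F276296)) (tt N27889 F274666) (tt N29722 (iv F278979)) (tt N27903 F274667))
theorem Q28790 : ∀ i, i < 28790 → P i := stepQ 28789 Q28789 (allL N28789 (tt N29724 D62494) (tt N27646 (iv D61559)) (tt N29137 (iv F276149)) (tt N27876 F274668) (tt N29725 D62495) (tt N29131 (iv F276111)) (tt N27658 F274669) (tt N29047 (iv F275567)) (tt N27648 F274670) (tt N29034 (iv F275485)))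
theorem Q28791 : ∀ i, i < 28791 → P i := stepQ 28790 Q28790 (allL N28790 (tt N29021 (iv F275401)) (tt N29725 (iv F278986)) (tt N27647 F274671) (tt N29726 D62496) (tt N27646 (iv D61560)) (tt N29727 D62497) (tt N27659 F274672) (tt N29048 (iv F275573)) (tt N27649 F274673) (tt N29035 (iv F275491)))
theorem Q28792 : ∀ i, i < 28792 → P i := stepQ 28791 Q28791 (allL N28791 (tt N29022 (iv F275407)) (tt N29139 (iv F276163)) (tt N29727 (iv F278993)) (tt N28791 F274674) (tt N29133 (iv F276125)) (tt N27647 (iv D61561)) (tt N29680 (iv F278805)) (tt N29049 (iv F275581)) (tt N27650 F274675) (tt N29036 (iv F275498)))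
theorem Q28793 : ∀ i, i < 28793 → P i := stepQ 28792 Q28792 (allL N28792 (tt N27648 (iv D61562)) (tt N29026 (iv F275434)) (tt N29665 (iv F278749)) (tt N27651 F274676) (tt N29728 D62498) (tt N29545 (iv F278302)) (tt N27660 F274677) (tt N29088 (iv F275823)) (tt N29724 (iv F278985)) (tt N27679 F274678))
theorem Q28794 : ∀ i, i < 28794 → P i := stepQ 28793 Q28793 (allL N28793 (tt N29728 (iv F278995)) (tt N27649 F274679) (tt N29421 (iv F277727)) (tt N27726 F274680) (tt N27648 (iv D61563)) (tt N29729 D62499) (tt N27661 F274681) (tt N29089 (iv F275828)) (tt N29725 (iv F278988)) (tt N27680 F274682))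
theorem Q28795 : ∀ i, i < 28795 → P i := stepQ 28794 Q28794 (allL N28794 (tt N29028 (iv F275444)) (tt N29729 (iv F278999)) (tt N27650 F274683) (tt N27727 F274684) (tt N29548 (iv F278313)) (tt N27649 (iv D61564)) (tt N29624 (iv F278618)) (tt N29090 (iv F275833)) (tt N29727 (iv F278994)) (tt N27681 F274685))
theorem Q28796 : ∀ i, i < 28796 → P i := stepQ 28795 Q28795 (allL N28795 (tt N29730 D62500) (tt N27652 (iv D61565)) (tt N27658 F274686) (tt N29144 (iv F276189)) (tt N29731 D62501) (tt N27847 F274687) (tt N29137 (iv F276152)) (tt N27662 F274688) (tt N27654 F274689) (tt N29289 (iv F277085)))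
theorem Q28797 : ∀ i, i < 28797 → P i := stepQ 28796 Q28796 (allL N28796 (tt N29189 (iv F276421)) (tt N29731 (iv F279006)) (tt N27653 F274690) (tt N29732 D62502) (tt N27652 (iv D61566)) (tt N29586 (iv F278460)) (tt N29138 (iv F276158)) (tt N27663 F274691) (tt N27655 F274692) (tt N29290 (iv F277091)))
theorem Q28798 : ∀ i, i < 28798 → P i := stepQ 28797 Q28797 (allL N28797 (tt N27654 (iv D61567)) (tt N29544 (iv F278294)) (tt N27660 F274693) (tt N27863 F274694) (tt N29733 D62503) (tt N27849 F274695) (tt N29665 (iv F278750)) (tt N27665 F274696) (tt N29730 (iv F279005)) (tt N27687 F274697))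
theorem Q28799 : ∀ i, i < 28799 → P i := stepQ 28798 Q28798 (allL N28798 (tt N29733 (iv F279013)) (tt N27655 F274698) (tt N27661 F274699) (tt N27799 F274700) (tt N27654 (iv D61568)) (tt N29585 (iv F278455)) (tt N29421 (iv F277729)) (tt N27666 F274701) (tt N29731 (iv F279009)) (tt N27688 F274702))
theorem Q28800 : ∀ i, i < 28800 → P i := stepQ 28799 Q28799 (allL N28799 (tt N29734 D62504) (tt N27656 (iv D61569)) (tt N29289 (iv F277079)) (tt N27879 F274703) (tt N29735 D62505) (tt N27852 F274704) (tt N29034 (iv F275482)) (tt N27668 F274705) (tt N27693 F274706) (tt N27658 F274707))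
theorem Q28801 : ∀ i, i < 28801 → P i := stepQ 28800 Q28800 (allL N28800 (tt N29135 (iv F276136)) (tt N29735 (iv F279023)) (tt N27657 F274708) (tt N29736 D62506) (tt N27656 (iv D61570)) (tt N29628 (iv F278634)) (tt N29035 (iv F275488)) (tt N27669 F274709) (tt N27694 F274710) (tt N27659 F274711))
theorem Q28802 : ∀ i, i < 28802 → P i := stepQ 28801 Q28801 (allL N28801 (tt N27658 (iv D61571)) (tt N29666 (iv F278753)) (tt N29730 (iv F279002)) (tt N27881 F274712) (tt N29737 D62507) (tt N27854 F274713) (tt N29724 (iv F278984)) (tt N27670 F274714) (tt N27660 F274715) (tt N29734 (iv F279022)))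
theorem Q28803 : ∀ i, i < 28803 → P i := stepQ 28802 Q28802 (allL N28802 (tt N29737 (iv F279031)) (tt N27659 F274716) (tt N29731 (iv F279007)) (tt N29738 D62508) (tt N27658 (iv D61572)) (tt N29627 (iv F278630)) (tt N29725 (iv F278987)) (tt N27671 F274717) (tt N27661 F274718) (tt N29735 (iv F279026)))
theorem Q28804 : ∀ i, i < 28804 → P i := stepQ 28803 Q28803 (allL N28803 (tt N29663 (iv F278739)) (tt N29738 (iv F279034)) (tt N28803 F274719) (tt N27659 (iv D61573)) (tt N27883 F274720) (tt N29617 (iv F278591)) (tt N29726 (iv F278991)) (tt N27672 F274721) (tt N29197 (iv F276486)) (tt N29736 (iv F279030)))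
theorem Q28805 : ∀ i, i < 28805 → P i := stepQ 28804 Q28804 (allL N28804 (tt N27661 F274722) (tt N29692 (iv F278858)) (tt N29733 (iv F279014)) (tt N29236 (iv F276722)) (tt N27660 (iv D61574)) (tt N29626 (iv F278625)) (tt N29728 (iv F278997)) (tt N27674 F274723) (tt N29737 (iv F279033)) (tt N27702 F274724))
theorem Q28806 : ∀ i, i < 28806 → P i := stepQ 28805 Q28805 (allL N28805 (tt N27662 (iv D61575)) (tt N29640 (iv F278669)) (tt N27670 F274725) (tt N29565 (iv F278358)) (tt N29739 D62509) (tt N29571 (iv F278389)) (tt N29190 (iv F276431)) (tt N29730 (iv F279004)) (tt N27665 F274726) (tt N29598 (iv F278519)))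
theorem Q28807 : ∀ i, i < 28807 → P i := stepQ 28806 Q28806 (allL N28806 (tt N29739 (iv F279037)) (tt N27663 F274727) (tt N27671 F274728) (tt N29740 D62510) (tt N27662 (iv D61576)) (tt N29588 (iv F278471)) (tt N29191 (iv F276438)) (tt N29731 (iv F279008)) (tt N27666 F274729) (tt N29599 (iv F278524)))
theorem Q28808 : ∀ i, i < 28808 → P i := stepQ 28807 Q28807 (allL N28807 (tt N29170 (iv F276312)) (tt N29740 (iv F279040)) (tt N28807 F274730) (tt N27663 (iv D61577)) (tt N29567 (iv F278368)) (tt N29560 (iv F278348)) (tt N29192 (iv F276446)) (tt N29732 (iv F279011)) (tt N29119 (iv F276027)) (tt N29600 (iv F278528)))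
theorem Q28809 : ∀ i, i < 28809 → P i := stepQ 28808 Q28808 (allL N28808 (tt N27664 (iv D61578)) (tt N27910 F274731) (tt N27673 F274732) (tt N27871 F274733) (tt N29240 (iv F276754)) (tt N27665 F274734) (tt N27909 F274735) (tt N27849 F274736) (tt N29571 (iv F278392)) (tt N27715 F274737))
theorem Q28810 : ∀ i, i < 28810 → P i := stepQ 28809 Q28809 (allL N28809 (tt N27666 F274738) (tt N29206 (iv F276537)) (tt N27674 F274739) (tt N29124 (iv F276063)) (tt N27665 (iv D61579)) (tt N29587 (iv F278465)) (tt N29193 (iv F276455)) (tt N29733 (iv F279016)) (tt N29739 (iv F279039)) (tt N27717 F274740))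
theorem Q28811 : ∀ i, i < 28811 → P i := stepQ 28810 Q28810 (allL N28810 (tt N27667 (iv D61580)) (tt N29078 (iv F275754)) (tt N29571 (iv F278387)) (tt N27864 F274741) (tt N29455 (iv F277880)) (tt N27670 F274742) (tt N29218 (iv F276602)) (tt N27854 F274743) (tt N27673 F274744) (tt N29504 (iv F278125)))
theorem Q28812 : ∀ i, i < 28812 → P i := stepQ 28811 Q28811 (allL N28811 (tt N27668 (iv D61581)) (tt N29157 (iv F276257)) (tt N29598 (iv F278514)) (tt N29120 (iv F276031)) (tt N29741 D62511) (tt N29504 (iv F278121)) (tt N29195 (iv F276469)) (tt N29734 (iv F279020)) (tt N27725 F274745) (tt N27670 F274746))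
theorem Q28813 : ∀ i, i < 28813 → P i := stepQ 28812 Q28812 (allL N28812 (tt N29741 (iv F279041)) (tt N27669 F274747) (tt N29599 (iv F278521)) (tt N29742 D62512) (tt N27668 (iv D61582)) (tt N29672 (iv F278777)) (tt N29196 (iv F276476)) (tt N29735 (iv F279024)) (tt N27726 F274748) (tt N27671 F274749))
theorem Q28814 : ∀ i, i < 28814 → P i := stepQ 28813 Q28813 (allL N28813 (tt N29159 (iv F276266)) (tt N29742 (iv F279044)) (tt N28813 F274750) (tt N27669 (iv D61583)) (tt N29122 (iv F276046)) (tt N29664 (iv F278746)) (tt N29197 (iv F276484)) (tt N29736 (iv F279029)) (tt N29726 (iv F278992)) (tt N27672 F274751))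
theorem Q28815 : ∀ i, i < 28815 → P i := stepQ 28814 Q28814 (allL N28814 (tt N27671 F274752) (tt N29693 (iv F278863)) (tt N29739 (iv F279038)) (tt N29743 D62513) (tt N27670 (iv D61584)) (tt N29671 (iv F278774)) (tt N29198 (iv F276489)) (tt N29737 (iv F279032)) (tt N27674 F274753) (tt N29741 (iv F279043)))
theorem Q28816 : ∀ i, i < 28816 → P i := stepQ 28815 Q28815 (allL N28815 (tt N29743 (iv F279046)) (tt N27672 F274754) (tt N29744 D62514) (tt N27671 (iv D61585)) (tt N29723 (iv F278981)) (tt N29662 (iv F278738)) (tt N29199 (iv F276492)) (tt N29738 (iv F279036)) (tt N29661 F278735) (tt N29742 (iv F279045)))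
theorem Q28817 : ∀ i, i < 28817 → P i := stepQ 28816 Q28816 (allL N28816 (tt N27676 (iv D61586)) (tt N29643 (iv F278681)) (tt N29666 (iv F278754)) (tt N27682 F274755) (tt N29745 D62515) (tt N27679 F274756) (tt N29349 (iv F277412)) (tt N29084 (iv F275802)) (tt N29062 (iv F275658)) (tt N29545 (iv F278304)))
theorem Q28818 : ∀ i, i < 28818 → P i := stepQ 28817 Q28817 (allL N28817 (tt N29745 (iv F279048)) (tt N27677 F274757) (tt N29667 (iv F278759)) (tt N29746 D62516) (tt N27676 (iv D61587)) (tt N29747 D62517) (tt N29350 (iv F277415)) (tt N29085 (iv F275807)) (tt N29063 (iv F275663)) (tt N29546 (iv F278307)))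
theorem Q28819 : ∀ i, i < 28819 → P i := stepQ 28818 Q28818 (allL N28818 (tt N29645 (iv F278689)) (tt N29746 (iv F279049)) (tt N28818 F274758) (tt N27677 (iv D61588)) (tt N27684 F274759) (tt N29554 (iv F278331)) (tt N29351 (iv F277419)) (tt N29086 (iv F275813)) (tt N29553 F278327) (tt N29547 (iv F278311)))
theorem Q28820 : ∀ i, i < 28820 → P i := stepQ 28819 Q28819 (allL N28819 (tt N29646 (iv F278693)) (tt N29747 (iv F279051)) (tt N27678 F274760) (tt N29554 (iv F278329)) (tt N27681 F274761) (tt N27677 (iv D61589)) (tt N29687 (iv F278832)) (tt N29087 (iv F275818)) (tt N29065 (iv F275677)) (tt N29548 (iv F278314)))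
theorem Q28821 : ∀ i, i < 28821 → P i := stepQ 28820 Q28820 (allL N28820 (tt N27680 F274762) (tt N29697 (iv F278878)) (tt N29425 (iv F277744)) (tt N27728 F274763) (tt N27679 (iv D61590)) (tt N29748 D62518) (tt N27702 F274764) (tt N29092 (iv F275847)) (tt N29067 (iv F275692)) (tt N29728 (iv F278998)))
theorem Q28822 : ∀ i, i < 28822 → P i := stepQ 28821 Q28821 (allL N28821 (tt N29748 (iv F279053)) (tt N27681 F274765) (tt N29427 (iv F277751)) (tt N27729 F274766) (tt N29747 (iv F279052)) (tt N27680 (iv D61591)) (tt N29679 (iv F278802)) (tt N29093 (iv F275852)) (tt N29068 (iv F275697)) (tt N29729 (iv F279001)))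
theorem Q28823 : ∀ i, i < 28823 → P i := stepQ 28822 Q28822 (allL N28822 (tt N27683 F274767) (tt N29699 (iv F278888)) (tt N27897 F274768) (tt N29749 D62519) (tt N27682 (iv D61592)) (tt N29689 (iv F278842)) (tt N29358 (iv F277445)) (tt N29215 (iv F276589)) (tt N29384 (iv F277566)) (tt N29558 (iv F278342)))
theorem Q28824 : ∀ i, i < 28824 → P i := stepQ 28823 Q28823 (allL N28823 (tt N29749 (iv F279055)) (tt N27684 F274769) (tt N29750 D62520) (tt N27683 (iv D61593)) (tt N29746 (iv F279050)) (tt N29690 (iv F278848)) (tt N29359 (iv F277449)) (tt N29216 (iv F276593)) (tt N29751 D62521) (tt N29559 (iv F278345)))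
theorem Q28825 : ∀ i, i < 28825 → P i := stepQ 28824 Q28824 (allL N28824 (tt N29701 (iv F278892)) (tt N29751 (iv F279058)) (tt N28824 F274770) (tt N29371 (iv F277513)) (tt N29553 (iv F278326)) (tt N29370 F277510) (tt N29360 (iv F277454)) (tt N29217 (iv F276597)) (tt N27684 (iv D61594)) (tt N29752 D62522))
theorem Q28826 : ∀ i, i < 28826 → P i := stepQ 28825 Q28825 (allL N28825 (tt N27685 (iv D61595)) (tt N29542 (iv F278282)) (tt N27700 F274771) (tt N27900 F274772) (tt N29753 D62523) (tt N27687 F274773) (tt N29336 (iv F277363)) (tt N27715 F274774) (tt N29463 (iv F277927)) (tt N27849 F274775))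
theorem Q28827 : ∀ i, i < 28827 → P i := stepQ 28826 Q28826 (allL N28826 (tt N29753 (iv F279060)) (tt N27686 F274776) (tt N27701 F274777) (tt N29669 (iv F278765)) (tt N27685 (iv D61596)) (tt N29580 (iv F278429)) (tt N29337 (iv F277367)) (tt N27716 F274778) (tt N29464 (iv F277931)) (tt N27850 F274779))
theorem Q28828 : ∀ i, i < 28828 → P i := stepQ 28827 Q28827 (allL N28827 (tt N27688 F274780) (tt N29228 (iv F276663)) (tt N27702 F274781) (tt N27800 F274782) (tt N27687 (iv D61597)) (tt N29673 (iv F278780)) (tt N29425 (iv F277746)) (tt N27717 F274783) (tt N29468 (iv F277953)) (tt N29733 (iv F279017)))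
theorem Q28829 : ∀ i, i < 28829 → P i := stepQ 28828 Q28828 (allL N28828 (tt N29754 D62524) (tt N27689 (iv D61598)) (tt N29292 (iv F277099)) (tt N27777 F274784) (tt N29755 D62525) (tt N27693 F274785) (tt N29343 (iv F277392)) (tt N27720 F274786) (tt N27852 F274787) (tt N27691 F274788))
theorem Q28830 : ∀ i, i < 28830 → P i := stepQ 28829 Q28829 (allL N28829 (tt N29138 (iv F276156)) (tt N29755 (iv F279069)) (tt N27690 F274789) (tt N29756 D62526) (tt N27689 (iv D61599)) (tt N29582 (iv F278438)) (tt N29189 (iv F276424)) (tt N27721 F274790) (tt N27853 F274791) (tt N27692 F274792))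
theorem Q28831 : ∀ i, i < 28831 → P i := stepQ 28830 Q28830 (allL N28830 (tt N27691 (iv D61600)) (tt N29704 (iv F278903)) (tt N29463 (iv F277923)) (tt N27779 F274793) (tt N29757 D62527) (tt N27696 F274794) (tt N29344 (iv F277397)) (tt N27722 F274795) (tt N27700 F274796) (tt N29754 (iv F279068)))
theorem Q28832 : ∀ i, i < 28832 → P i := stepQ 28831 Q28831 (allL N28831 (tt N29757 (iv F279077)) (tt N27692 F274797) (tt N29464 (iv F277929)) (tt N29758 D62528) (tt N27691 (iv D61601)) (tt N29581 (iv F278434)) (tt N29345 (iv F277400)) (tt N27723 F274798) (tt N27701 F274799) (tt N29755 (iv F279072)))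
theorem Q28833 : ∀ i, i < 28833 → P i := stepQ 28832 Q28832 (allL N28832 (tt N29706 (iv F278911)) (tt N29758 (iv F279080)) (tt N28832 F274800) (tt N27692 (iv D61602)) (tt N27781 F274801) (tt N29524 (iv F278204)) (tt N29346 (iv F277404)) (tt N27724 F274802) (tt N29443 (iv F277822)) (tt N29756 (iv F279076)))
theorem Q28834 : ∀ i, i < 28834 → P i := stepQ 28833 Q28833 (allL N28833 (tt N27693 (iv D61603)) (tt N29140 (iv F276169)) (tt N29295 (iv F277120)) (tt N29033 (iv F275472)) (tt N29759 D62529) (tt N29754 (iv F279065)) (tt N29037 (iv F275503)) (tt N27725 F274803) (tt N29734 (iv F279021)) (tt N27696 F274804))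
theorem Q28835 : ∀ i, i < 28835 → P i := stepQ 28834 Q28834 (allL N28834 (tt N29759 (iv F279083)) (tt N27694 F274805) (tt N29296 (iv F277126)) (tt N29089 (iv F275826)) (tt N27693 (iv D61604)) (tt N29760 D62530) (tt N29038 (iv F275509)) (tt N27726 F274806) (tt N29735 (iv F279025)) (tt N27697 F274807))
theorem Q28836 : ∀ i, i < 28836 → P i := stepQ 28835 Q28835 (allL N28835 (tt N29142 (iv F276179)) (tt N29760 (iv F279086)) (tt N27695 F274808) (tt N29090 (iv F275832)) (tt N29582 (iv F278437)) (tt N27694 (iv D61605)) (tt N29761 D62531) (tt N27727 F274809) (tt N29628 (iv F278636)) (tt N27698 F274810))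
theorem Q28837 : ∀ i, i < 28837 → P i := stepQ 28836 Q28836 (allL N28836 (tt N29143 (iv F276184)) (tt N29298 (iv F277137)) (tt N29761 (iv F279089)) (tt N27737 F274811) (tt N29595 (iv F278502)) (tt N29040 (iv F275522)) (tt N27695 (iv D61606)) (tt N29341 (iv F277383)) (tt N29681 (iv F278809)) (tt N27699 F274812))
theorem Q28838 : ∀ i, i < 28838 → P i := stepQ 28837 Q28837 (allL N28837 (tt N27697 F274813) (tt N29707 (iv F278917)) (tt N29468 (iv F277949)) (tt N29092 (iv F275845)) (tt N27696 (iv D61607)) (tt N29762 D62532) (tt N29067 (iv F275690)) (tt N27728 F274814) (tt N27702 F274815) (tt N29759 (iv F279085)))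
theorem Q28839 : ∀ i, i < 28839 → P i := stepQ 28838 Q28838 (allL N28838 (tt N29762 (iv F279091)) (tt N27698 F274816) (tt N29469 (iv F277955)) (tt N29093 (iv F275851)) (tt N29581 (iv F278433)) (tt N27697 (iv D61608)) (tt N29763 D62533) (tt N27729 F274817) (tt N27703 F274818) (tt N29760 (iv F279088)))
theorem Q28840 : ∀ i, i < 28840 → P i := stepQ 28839 Q28839 (allL N28839 (tt N29709 (iv F278926)) (tt N29763 (iv F279094)) (tt N27699 F274819) (tt N29094 (iv F275856)) (tt N29578 (iv F278419)) (tt N29069 (iv F275701)) (tt N27698 (iv D61609)) (tt N29539 (iv F278270)) (tt N27704 F274820) (tt N29761 (iv F279090)))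
theorem Q28841 : ∀ i, i < 28841 → P i := stepQ 28840 Q28840 (allL N28840 (tt N27701 F274821) (tt N29710 (iv F278932)) (tt N29753 (iv F279061)) (tt N29451 (iv F277861)) (tt N27700 (iv D61610)) (tt N29579 (iv F278423)) (tt N29354 (iv F277429)) (tt N27734 F274822) (tt N29757 (iv F279079)) (tt N27856 F274823))
theorem Q28842 : ∀ i, i < 28842 → P i := stepQ 28841 Q28841 (allL N28841 (tt N27703 F274824) (tt N29711 (iv F278937)) (tt N29673 F278782) (tt N29237 (iv F276729)) (tt N29579 (iv F278422)) (tt N27702 (iv D61611)) (tt N29764 D62534) (tt N27735 F274825) (tt N29762 (iv F279093)) (tt N29626 (iv F278627)))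
theorem Q28843 : ∀ i, i < 28843 → P i := stepQ 28842 Q28842 (allL N28842 (tt N29764 (iv F279096)) (tt N27704 F274826) (tt N29630 (iv F278642)) (tt N29238 (iv F276736)) (tt N29576 (iv F278413)) (tt N29679 (iv F278801)) (tt N27703 (iv D61612)) (tt N29633 (iv F278651)) (tt N29763 (iv F279095)) (tt N29622 (iv F278611)))
theorem Q28844 : ∀ i, i < 28844 → P i := stepQ 28843 Q28843 (allL N28843 (tt N27705 (iv D61613)) (tt N27715 F274827) (tt N27887 F274828) (tt N27909 F274829) (tt N29765 D62535) (tt N27707 F274830) (tt N27871 F274831) (tt N29542 (iv F278286)) (tt N29516 (iv F278176)) (tt N27910 F274832))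
theorem Q28845 : ∀ i, i < 28845 → P i := stepQ 28844 Q28844 (allL N28844 (tt N29765 (iv F279097)) (tt N27706 F274833) (tt N27888 F274834) (tt N29097 (iv F275874)) (tt N27705 (iv D61614)) (tt N29096 F275871) (tt N27872 F274835) (tt N29543 (iv F278291)) (tt N29517 (iv F278181)) (tt N27911 F274836))
theorem Q28846 : ∀ i, i < 28846 → P i := stepQ 28845 Q28845 (allL N28845 (tt N27708 (iv D61615)) (tt N29516 (iv F278170)) (tt N27722 F274837) (tt N29460 (iv F277908)) (tt N29766 D62536) (tt N27712 F274838) (tt N29614 (iv F278580)) (tt N29463 (iv F277926)) (tt N27715 F274839) (tt N29611 (iv F278568)))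
theorem Q28847 : ∀ i, i < 28847 → P i := stepQ 28846 Q28846 (allL N28846 (tt N29766 (iv F279102)) (tt N27709 F274840) (tt N27723 F274841) (tt N29767 D62537) (tt N27708 (iv D61616)) (tt N29592 (iv F278490)) (tt N29200 F276499) (tt N29464 (iv F277930)) (tt N27716 F274842) (tt N29612 (iv F278573)))
theorem Q28848 : ∀ i, i < 28848 → P i := stepQ 28847 Q28847 (allL N28847 (tt N29518 (iv F278182)) (tt N29767 (iv F279105)) (tt N28847 F274843) (tt N27709 (iv D61617)) (tt N29462 (iv F277919)) (tt N29596 (iv F278506)) (tt N29201 F276505) (tt N29465 (iv F277935)) (tt N29654 (iv F278720)) (tt N29613 (iv F278576)))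
theorem Q28849 : ∀ i, i < 28849 → P i := stepQ 28848 Q28848 (allL N28848 (tt N27710 (iv D61618)) (tt N29332 (iv F277343)) (tt N27725 F274844) (tt N29288 (iv F277073)) (tt N29768 D62538) (tt N29611 (iv F278565)) (tt N29232 (iv F276695)) (tt N29295 (iv F277123)) (tt N29598 (iv F278518)) (tt N27712 F274845))
theorem Q28850 : ∀ i, i < 28850 → P i := stepQ 28849 Q28849 (allL N28849 (tt N29768 (iv F279106)) (tt N27711 F274846) (tt N27726 F274847) (tt N29404 (iv F277661)) (tt N27710 (iv D61619)) (tt N29675 (iv F278789)) (tt N29233 (iv F276703)) (tt N29296 (iv F277129)) (tt N29599 (iv F278523)) (tt N27713 F274848))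
theorem Q28851 : ∀ i, i < 28851 → P i := stepQ 28850 Q28850 (allL N28850 (tt N27713 F274849) (tt N29243 (iv F276770)) (tt N27728 F274850) (tt N29406 (iv F277672)) (tt N27712 (iv D61620)) (tt N29674 (iv F278785)) (tt N29234 (iv F276710)) (tt N29468 (iv F277952)) (tt N27717 F274851) (tt N29768 (iv F279108)))
theorem Q28852 : ∀ i, i < 28852 → P i := stepQ 28851 Q28851 (allL N28851 (tt N27714 (iv D61621)) (tt N27871 F274852) (tt N27732 F274853) (tt N27910 F274854) (tt N29202 (iv F276509)) (tt N27865 F274855) (tt N27715 F274856) (tt N29583 (iv F278445)) (tt N29614 (iv F278582)) (tt N27909 F274857))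
theorem Q28853 : ∀ i, i < 28853 → P i := stepQ 28852 Q28852 (allL N28852 (tt N27716 F274858) (tt N29765 (iv F279098)) (tt N27734 F274859) (tt N29670 (iv F278770)) (tt N27715 (iv D61622)) (tt N29590 (iv F278481)) (tt N29202 F276511) (tt N29753 (iv F279062)) (tt N29766 (iv F279104)) (tt N29240 (iv F276756)))
theorem Q28854 : ∀ i, i < 28854 → P i := stepQ 28853 Q28853 (allL N28853 (tt N27718 (iv D61623)) (tt N27891 F274860) (tt N29614 (iv F278578)) (tt N27838 F274861) (tt N29769 D62539) (tt N27837 F274862) (tt N27722 F274863) (tt N29487 (iv F278042)) (tt N27732 F274864) (tt N29604 (iv F278548)))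
theorem Q28855 : ∀ i, i < 28855 → P i := stepQ 28854 Q28854 (allL N28854 (tt N29769 (iv F279109)) (tt N27719 F274865) (tt N29200 (iv F276494)) (tt N29770 D62540) (tt N27718 (iv D61624)) (tt N29191 (iv F276437)) (tt N27723 F274866) (tt N29488 (iv F278048)) (tt N27733 F274867) (tt N29603 (iv F278539)))
theorem Q28856 : ∀ i, i < 28856 → P i := stepQ 28855 Q28855 (allL N28855 (tt N27893 F274868) (tt N29770 (iv F279113)) (tt N28855 F274869) (tt N27719 (iv D61625)) (tt N27840 F274870) (tt N29192 (iv F276445)) (tt N27724 F274871) (tt N29489 (iv F278055)) (tt N29114 (iv F275988)) (tt N29570 (iv F278385)))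
theorem Q28857 : ∀ i, i < 28857 → P i := stepQ 28856 Q28856 (allL N28856 (tt N27720 (iv D61626)) (tt N29161 (iv F276276)) (tt N29611 (iv F278564)) (tt N29117 (iv F276008)) (tt N29771 D62541) (tt N27725 F274872) (tt N29604 (iv F278545)) (tt N29754 (iv F279066)) (tt N29504 (iv F278124)) (tt N27722 F274873))
theorem Q28858 : ∀ i, i < 28858 → P i := stepQ 28857 Q28857 (allL N28857 (tt N29771 (iv F279116)) (tt N27721 F274874) (tt N29612 (iv F278570)) (tt N29772 D62542) (tt N27720 (iv D61627)) (tt N29593 (iv F278494)) (tt N29603 F278540) (tt N29755 (iv F279070)) (tt N29456 (iv F277890)) (tt N27723 F274875))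
theorem Q28859 : ∀ i, i < 28859 → P i := stepQ 28858 Q28858 (allL N28858 (tt N29163 (iv F276284)) (tt N29772 (iv F279118)) (tt N28858 F274876) (tt N27721 (iv D61628)) (tt N29119 (iv F276023)) (tt N29564 (iv F278357)) (tt N29570 (iv F278383)) (tt N29756 (iv F279075)) (tt N29567 (iv F278370)) (tt N27724 F274877))
theorem Q28860 : ∀ i, i < 28860 → P i := stepQ 28859 Q28859 (allL N28859 (tt N27723 F274878) (tt N29717 (iv F278957)) (tt N29766 (iv F279103)) (tt N29773 D62543) (tt N27722 (iv D61629)) (tt N29591 (iv F278486)) (tt N29769 (iv F279111)) (tt N29757 (iv F279078)) (tt N27734 F274879) (tt N29771 (iv F279117)))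
theorem Q28861 : ∀ i, i < 28861 → P i := stepQ 28860 Q28860 (allL N28860 (tt N29773 (iv F279120)) (tt N27724 F274880) (tt N29774 D62544) (tt N27723 (iv D61630)) (tt N29690 (iv F278847)) (tt N29563 (iv F278354)) (tt N29770 (iv F279115)) (tt N29758 (iv F279082)) (tt N29447 (iv F277838)) (tt N29772 (iv F279119)))
theorem Q28862 : ∀ i, i < 28862 → P i := stepQ 28861 Q28861 (allL N28861 (tt N27726 F274881) (tt N29165 (iv F276295)) (tt N29768 (iv F279107)) (tt N29728 (iv F278996)) (tt N27725 (iv D61631)) (tt N29775 D62545) (tt N29236 (iv F276724)) (tt N29759 (iv F279084)) (tt N29741 (iv F279042)) (tt N27728 F274882))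
theorem Q28863 : ∀ i, i < 28863 → P i := stepQ 28862 Q28862 (allL N28862 (tt N29775 (iv F279122)) (tt N27727 F274883) (tt N29675 (iv F278788)) (tt N29729 (iv F279000)) (tt N29593 (iv F278493)) (tt N27726 (iv D61632)) (tt N29623 (iv F278614)) (tt N29760 (iv F279087)) (tt N29672 (iv F278778)) (tt N27729 F274884))
theorem Q28864 : ∀ i, i < 28864 → P i := stepQ 28863 Q28863 (allL N28863 (tt N27729 F274885) (tt N29719 (iv F278965)) (tt N29674 (iv F278784)) (tt N29748 (iv F279054)) (tt N29591 (iv F278485)) (tt N27728 (iv D61633)) (tt N29677 (iv F278798)) (tt N29762 (iv F279092)) (tt N27735 F274886) (tt N29775 (iv F279123)))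
theorem Q28865 : ∀ i, i < 28865 → P i := stepQ 28864 Q28864 (allL N28864 (tt N27730 (iv D61634)) (tt N29232 (iv F276691)) (tt N29583 (iv F278442)) (tt N27736 F274887) (tt N29776 D62546) (tt N29239 (iv F276746)) (tt N29332 (iv F277345)) (tt N27732 F274888) (tt N29487 (iv F278043)) (tt N29230 (iv F276683)))
theorem Q28866 : ∀ i, i < 28866 → P i := stepQ 28865 Q28865 (allL N28865 (tt N29776 (iv F279124)) (tt N27731 F274889) (tt N29183 (iv F276388)) (tt N29111 (iv F275962)) (tt N27730 (iv D61635)) (tt N29178 (iv F276362)) (tt N29244 (iv F276775)) (tt N27733 F274890) (tt N29488 (iv F278049)) (tt N29221 (iv F276625)))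
theorem Q28867 : ∀ i, i < 28867 → P i := stepQ 28866 Q28866 (allL N28866 (tt N27733 F274891) (tt N29440 (iv F277801)) (tt N29202 (iv F276508)) (tt N29115 (iv F275993)) (tt N27732 (iv D61636)) (tt N29193 (iv F276454)) (tt N27734 F274892) (tt N29776 (iv F279125)) (tt N29769 (iv F279112)) (tt N29235 (iv F276719)))
theorem Q28868 : ∀ i, i < 28868 → P i := stepQ 28867 Q28867 (allL N28867 (tt N27741 F274893) (tt N27765 F274894) (tt N29382 (iv F277556)) (tt N27773 F274895) (tt N27740 (iv D61637)) (tt N29777 D62547) (tt N29252 (iv F276839)) (tt N29007 (iv F275306)) (tt N29444 (iv F277827)) (tt N29408 (iv F277687)))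
theorem Q28869 : ∀ i, i < 28869 → P i := stepQ 28868 Q28868 (allL N28868 (tt N29777 (iv F279126)) (tt N27742 F274896) (tt N29318 (iv F277258)) (tt N27774 F274897) (tt N29373 (iv F277528)) (tt N27741 (iv D61638)) (tt N29319 (iv F277268)) (tt N29001 (iv F275259)) (tt N29445 (iv F277831)) (tt N29409 (iv F277694)))
theorem Q28870 : ∀ i, i < 28870 → P i := stepQ 28869 Q28869 (allL N28869 (tt N29778 D62548) (tt N27743 (iv D61639)) (tt N29361 (iv F277455)) (tt N29107 (iv F275933)) (tt N29779 D62549) (tt N29106 (iv F275927)) (tt N27820 F274898) (tt N29257 (iv F276875)) (tt N27756 F274899) (tt N27745 F274900))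
theorem Q28871 : ∀ i, i < 28871 → P i := stepQ 28870 Q28870 (allL N28870 (tt N29255 (iv F276857)) (tt N29779 (iv F279132)) (tt N27744 F274901) (tt N29780 D62550) (tt N27743 (iv D61640)) (tt N29781 D62551) (tt N27821 F274902) (tt N29258 (iv F276881)) (tt N27757 F274903) (tt N27746 F274904))
theorem Q28872 : ∀ i, i < 28872 → P i := stepQ 28871 Q28871 (allL N28871 (tt N29256 (iv F276863)) (tt N29315 (iv F277237)) (tt N29781 (iv F279139)) (tt N28871 F274905) (tt N29003 (iv F275271)) (tt N27744 (iv D61641)) (tt N29328 (iv F277320)) (tt N29259 (iv F276889)) (tt N27758 F274906) (tt N27747 F274907))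
theorem Q28873 : ∀ i, i < 28873 → P i := stepQ 28872 Q28872 (allL N28872 (tt N27745 (iv D61642)) (tt N29399 (iv F277633)) (tt N29363 (iv F277469)) (tt N29441 (iv F277809)) (tt N29782 D62552) (tt N29398 (iv F277629)) (tt N29268 (iv F276941)) (tt N29368 (iv F277497)) (tt N27748 F274908) (tt N29778 (iv F279131)))
theorem Q28874 : ∀ i, i < 28874 → P i := stepQ 28873 Q28873 (allL N28873 (tt N29782 (iv F279142)) (tt N27746 F274909) (tt N29364 (iv F277475)) (tt N29783 D62553) (tt N27745 (iv D61643)) (tt N29784 D62554) (tt N29269 (iv F276947)) (tt N29369 (iv F277502)) (tt N27749 F274910) (tt N29779 (iv F279135)))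
theorem Q28875 : ∀ i, i < 28875 → P i := stepQ 28874 Q28874 (allL N28874 (tt N29401 (iv F277643)) (tt N29783 (iv F279144)) (tt N28874 F274911) (tt N27746 (iv D61644)) (tt N29443 (iv F277819)) (tt N29217 (iv F276596)) (tt N29270 (iv F276952)) (tt N29370 (iv F277508)) (tt N27781 F274912) (tt N29780 (iv F279138)))
theorem Q28876 : ∀ i, i < 28876 → P i := stepQ 28875 Q28875 (allL N28875 (tt N29402 (iv F277648)) (tt N29784 (iv F279146)) (tt N27747 F274913) (tt N29217 (iv F276595)) (tt N29002 (iv F275264)) (tt N27746 (iv D61645)) (tt N29323 (iv F277294)) (tt N29371 (iv F277516)) (tt N27750 F274914) (tt N29781 (iv F279141)))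
theorem Q28877 : ∀ i, i < 28877 → P i := stepQ 28876 Q28876 (allL N28876 (tt N27749 F274915) (tt N29408 (iv F277683)) (tt N29366 (iv F277485)) (tt N27782 F274916) (tt N27748 (iv D61646)) (tt N29785 D62555) (tt N29272 (iv F276965)) (tt N29372 (iv F277523)) (tt N29782 (iv F279143)) (tt N27765 F274917))
theorem Q28878 : ∀ i, i < 28878 → P i := stepQ 28877 Q28877 (allL N28877 (tt N29785 (iv F279148)) (tt N27750 F274918) (tt N29313 (iv F277224)) (tt N27783 F274919) (tt N29001 (iv F275256)) (tt N27749 (iv D61647)) (tt N29321 (iv F277279)) (tt N29373 (iv F277530)) (tt N29784 (iv F279147)) (tt N27766 F274920))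
theorem Q28879 : ∀ i, i < 28879 → P i := stepQ 28878 Q28878 (allL N28878 (tt N29786 D62556) (tt N27751 (iv D61648)) (tt N29389 (iv F277583)) (tt N27812 F274921) (tt N29787 D62557) (tt N27756 F274922) (tt N27809 F274923) (tt N29254 (iv F276854)) (tt N29106 (iv F275930)) (tt N27753 F274924))
theorem Q28880 : ∀ i, i < 28880 → P i := stepQ 28879 Q28879 (allL N28879 (tt N29258 (iv F276878)) (tt N29787 (iv F279155)) (tt N27752 F274925) (tt N29788 D62558) (tt N27751 (iv D61649)) (tt N29789 D62559) (tt N27810 F274926) (tt N29255 (iv F276860)) (tt N29010 (iv F275328)) (tt N27754 F274927))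
theorem Q28881 : ∀ i, i < 28881 → P i := stepQ 28880 Q28880 (allL N28880 (tt N29259 (iv F276884)) (tt N29328 (iv F277316)) (tt N29789 (iv F279162)) (tt N28880 F274928) (tt N27758 F274929) (tt N27752 (iv D61650)) (tt N29315 (iv F277241)) (tt N29256 (iv F276868)) (tt N29003 (iv F275275)) (tt N27755 F274930))
theorem Q28882 : ∀ i, i < 28882 → P i := stepQ 28881 Q28881 (allL N28881 (tt N27753 (iv D61651)) (tt N29368 (iv F277492)) (tt N29391 (iv F277596)) (tt N27831 F274931) (tt N29790 D62560) (tt N27759 F274932) (tt N29285 (iv F277055)) (tt N29399 (iv F277637)) (tt N27762 F274933) (tt N29786 (iv F279154)))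
theorem Q28883 : ∀ i, i < 28883 → P i := stepQ 28882 Q28882 (allL N28882 (tt N29790 (iv F279165)) (tt N27754 F274934) (tt N29392 (iv F277602)) (tt N29791 D62561) (tt N27753 (iv D61652)) (tt N29792 D62562) (tt N29286 (iv F277061)) (tt N29400 (iv F277641)) (tt N27763 F274935) (tt N29787 (iv F279157)))
theorem Q28884 : ∀ i, i < 28884 → P i := stepQ 28883 Q28883 (allL N28883 (tt N29370 (iv F277504)) (tt N29791 (iv F279167)) (tt N28883 F274936) (tt N27754 (iv D61653)) (tt N27833 F274937) (tt N29701 (iv F278895)) (tt N27899 F274938) (tt N29401 (iv F277646)) (tt N27896 F274939) (tt N29788 (iv F279161)))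
theorem Q28885 : ∀ i, i < 28885 → P i := stepQ 28884 Q28884 (allL N28884 (tt N29371 (iv F277511)) (tt N29792 (iv F279171)) (tt N27755 F274940) (tt N29701 (iv F278894)) (tt N27761 F274941) (tt N27754 (iv D61654)) (tt N29314 (iv F277234)) (tt N29402 (iv F277652)) (tt N27764 F274942) (tt N29789 (iv F279164)))
theorem Q28886 : ∀ i, i < 28886 → P i := stepQ 28885 Q28885 (allL N28885 (tt N27756 (iv D61655)) (tt N29260 (iv F276892)) (tt N29394 (iv F277609)) (tt N27825 F274943) (tt N29793 D62563) (tt N29786 (iv F279152)) (tt N27823 F274944) (tt N29403 (iv F277657)) (tt N29778 (iv F279130)) (tt N27759 F274945))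
theorem Q28887 : ∀ i, i < 28887 → P i := stepQ 28886 Q28886 (allL N28886 (tt N29793 (iv F279174)) (tt N27757 F274946) (tt N29395 (iv F277615)) (tt N29296 (iv F277127)) (tt N27756 (iv D61656)) (tt N29794 D62564) (tt N27824 F274947) (tt N29404 (iv F277663)) (tt N29779 (iv F279134)) (tt N27760 F274948))
theorem Q28888 : ∀ i, i < 28888 → P i := stepQ 28887 Q28887 (allL N28887 (tt N29262 (iv F276900)) (tt N29794 (iv F279177)) (tt N27758 F274949) (tt N29297 (iv F277133)) (tt N29789 (iv F279163)) (tt N27757 (iv D61657)) (tt N29480 (iv F278009)) (tt N29405 (iv F277668)) (tt N29781 (iv F279140)) (tt N27761 F274950))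
theorem Q28889 : ∀ i, i < 28889 → P i := stepQ 28888 Q28888 (allL N28888 (tt N27760 F274951) (tt N29444 (iv F277824)) (tt N29396 (iv F277620)) (tt N29468 (iv F277950)) (tt N27759 (iv D61658)) (tt N29795 D62565) (tt N29279 (iv F277012)) (tt N29406 (iv F277674)) (tt N27765 F274952) (tt N29793 (iv F279176)))
theorem Q28890 : ∀ i, i < 28890 → P i := stepQ 28889 Q28889 (allL N28889 (tt N29795 (iv F279179)) (tt N27761 F274953) (tt N29326 (iv F277306)) (tt N29469 (iv F277956)) (tt N29792 (iv F279172)) (tt N27760 (iv D61659)) (tt N29502 (iv F278113)) (tt N29407 (iv F277680)) (tt N27766 F274954) (tt N29794 (iv F279178)))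
theorem Q28891 : ∀ i, i < 28891 → P i := stepQ 28890 Q28890 (allL N28890 (tt N27763 F274955) (tt N29372 (iv F277519)) (tt N29397 (iv F277624)) (tt N29004 (iv F275279)) (tt N27762 (iv D61660)) (tt N29796 D62566) (tt N29287 (iv F277069)) (tt N29408 (iv F277686)) (tt N29790 (iv F279166)) (tt N29007 (iv F275307)))
theorem Q28892 : ∀ i, i < 28892 → P i := stepQ 28891 Q28891 (allL N28891 (tt N29796 (iv F279181)) (tt N27764 F274956) (tt N29321 (iv F277277)) (tt N28997 (iv F275223)) (tt N27766 F274957) (tt N27763 (iv D61661)) (tt N29313 (iv F277227)) (tt N29409 (iv F277693)) (tt N29792 (iv F279173)) (tt N29001 (iv F275260)))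
theorem Q28893 : ∀ i, i < 28893 → P i := stepQ 28892 Q28892 (allL N28892 (tt N27766 F274958) (tt N29777 (iv F279127)) (tt N29325 (iv F277302)) (tt N27803 F274959) (tt N29796 (iv F279182)) (tt N27765 (iv D61662)) (tt N29797 D62567) (tt N29410 (iv F277699)) (tt N29795 (iv F279180)) (tt N29785 (iv F279150)))
theorem Q28894 : ∀ i, i < 28894 → P i := stepQ 28893 Q28893 (allL N28893 (tt N29797 (iv F279183)) (tt N27767 F274960) (tt N29001 (iv F275255)) (tt N27804 F274961) (tt N29313 (iv F277225)) (tt N29008 (iv F275311)) (tt N27766 (iv D61663)) (tt N29318 (iv F277261)) (tt N29502 (iv F278114)) (tt N29321 (iv F277281)))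
theorem Q28895 : ∀ i, i < 28895 → P i := stepQ 28894 Q28894 (allL N28894 (tt N27768 (iv D61664)) (tt N27779 F274962) (tt N29333 (iv F277348)) (tt N29704 (iv F278904)) (tt N29798 D62568) (tt N27908 F274963) (tt N29305 (iv F277183)) (tt N27894 F274964) (tt N27770 F274965) (tt N29147 (iv F276214)))
theorem Q28896 : ∀ i, i < 28896 → P i := stepQ 28895 Q28895 (allL N28895 (tt N29798 (iv F279185)) (tt N27769 F274966) (tt N29334 (iv F277354)) (tt N29799 D62569) (tt N27768 (iv D61665)) (tt N29126 (iv F276075)) (tt N29306 (iv F277187)) (tt N27895 F274967) (tt N27771 F274968) (tt N29148 (iv F276219)))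
theorem Q28897 : ∀ i, i < 28897 → P i := stepQ 28896 Q28896 (allL N28896 (tt N27781 F274969) (tt N29799 (iv F279189)) (tt N28896 F274970) (tt N27769 (iv D61666)) (tt N29706 (iv F278913)) (tt N29127 (iv F276082)) (tt N29307 (iv F277192)) (tt N27896 F274971) (tt N29401 (iv F277647)) (tt N29149 (iv F276223)))
theorem Q28898 : ∀ i, i < 28898 → P i := stepQ 28897 Q28897 (allL N28897 (tt N27771 F274972) (tt N27782 F274973) (tt N29367 (iv F277489)) (tt N29408 (iv F277685)) (tt N27770 (iv D61667)) (tt N29431 (iv F277773)) (tt N29310 (iv F277211)) (tt N29004 (iv F275281)) (tt N29798 (iv F279188)) (tt N27773 F274974))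
theorem Q28899 : ∀ i, i < 28899 → P i := stepQ 28898 Q28898 (allL N28898 (tt N27774 F274975) (tt N27803 F274976) (tt N29252 (iv F276836)) (tt N29777 (iv F279128)) (tt N28998 (iv F275232)) (tt N27773 (iv D61668)) (tt N29382 (iv F277557)) (tt N29000 (iv F275252)) (tt N29074 (iv F275733)) (tt N29431 (iv F277775)))
theorem Q28900 : ∀ i, i < 28900 → P i := stepQ 28899 Q28899 (allL N28899 (tt N27776 F274977) (tt N29287 (iv F277067)) (tt N27782 F274978) (tt N29691 (iv F278853)) (tt N27775 (iv D61669)) (tt N29388 (iv F277579)) (tt N29372 (iv F277522)) (tt N29688 (iv F278836)) (tt N29452 (iv F277869)) (tt N27796 F274979))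
theorem Q28901 : ∀ i, i < 28901 → P i := stepQ 28900 Q28900 (allL N28900 (tt N27777 (iv D61670)) (tt N29147 (iv F276209)) (tt N29448 (iv F277840)) (tt N29754 (iv F279064)) (tt N29800 D62570) (tt N29033 (iv F275474)) (tt N29374 (iv F277532)) (tt N29117 (iv F276011)) (tt N27798 F274980) (tt N27779 F274981))
theorem Q28902 : ∀ i, i < 28902 → P i := stepQ 28901 Q28901 (allL N28901 (tt N29800 (iv F279191)) (tt N27778 F274982) (tt N29449 (iv F277847)) (tt N29801 D62571) (tt N27777 (iv D61671)) (tt N29175 (iv F276344)) (tt N29375 (iv F277536)) (tt N29118 (iv F276018)) (tt N27799 F274983) (tt N27780 F274984))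
theorem Q28903 : ∀ i, i < 28903 → P i := stepQ 28902 Q28902 (allL N28902 (tt N29149 (iv F276220)) (tt N29801 (iv F279194)) (tt N28902 F274985) (tt N27778 (iv D61672)) (tt N29756 (iv F279074)) (tt N29176 (iv F276349)) (tt N29376 (iv F277540)) (tt N29119 (iv F276026)) (tt N29732 (iv F279012)) (tt N27781 F274986))
theorem Q28904 : ∀ i, i < 28904 → P i := stepQ 28903 Q28903 (allL N28903 (tt N27780 F274987) (tt N29798 (iv F279186)) (tt N29452 (iv F277866)) (tt N29802 D62572) (tt N27779 (iv D61673)) (tt N29215 (iv F276588)) (tt N29378 (iv F277546)) (tt N29689 (iv F278844)) (tt N27782 F274988) (tt N29800 (iv F279193)))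
theorem Q28905 : ∀ i, i < 28905 → P i := stepQ 28904 Q28904 (allL N28904 (tt N29802 (iv F279196)) (tt N27781 F274989) (tt N29803 D62573) (tt N27780 (iv D61674)) (tt N29758 (iv F279081)) (tt N29216 (iv F276592)) (tt N29379 (iv F277549)) (tt N29690 (iv F278850)) (tt N29783 (iv F279145)) (tt N29801 (iv F279195)))
theorem Q28906 : ∀ i, i < 28906 → P i := stepQ 28905 Q28905 (allL N28905 (tt N27783 F274990) (tt N29431 (iv F277772)) (tt N29388 (iv F277578)) (tt N29785 (iv F279149)) (tt N28999 (iv F275241)) (tt N27782 (iv D61675)) (tt N29320 (iv F277274)) (tt N29384 (iv F277565)) (tt N29215 (iv F276590)) (tt N27803 F274991))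
theorem Q28907 : ∀ i, i < 28907 → P i := stepQ 28906 Q28906 (allL N28906 (tt N27785 F274992) (tt N29006 (iv F275294)) (tt N29253 (iv F276844)) (tt N27796 F274993) (tt N27784 (iv D61676)) (tt N29281 (iv F277027)) (tt N27790 F274994) (tt N29278 (iv F277007)) (tt N29130 (iv F276107)) (tt N29691 (iv F278856)))
theorem Q28908 : ∀ i, i < 28908 → P i := stepQ 28907 Q28907 (allL N28907 (tt N27787 F274995) (tt N29691 (iv F278852)) (tt N29384 (iv F277562)) (tt N29287 (iv F277068)) (tt N27786 (iv D61677)) (tt N29688 (iv F278835)) (tt N29004 (iv F275280)) (tt N29388 (iv F277580)) (tt N27897 F274996) (tt N29006 (iv F275301)))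
theorem Q28909 : ∀ i, i < 28909 → P i := stepQ 28908 Q28908 (allL N28908 (tt N27789 F274997) (tt N29281 (iv F277024)) (tt N27790 F274998) (tt N29278 (iv F277004)) (tt N27788 (iv D61678)) (tt N29006 (iv F275297)) (tt N29253 (iv F276847)) (tt N27796 F274999) (tt N29116 (iv F276004)) (tt N29688 (iv F278838)))
theorem Q28910 : ∀ i, i < 28910 → P i := stepQ 28909 Q28909 (allL N28909 (tt N27792 F275000) (tt N27796 F275001) (tt N29280 (iv F277018)) (tt N29006 (iv F275296)) (tt N27791 (iv D61679)) (tt N29278 (iv F277005)) (tt N29007 (iv F275305)) (tt N29281 (iv F277029)) (tt N29454 (iv F277878)) (tt N29287 (iv F277070)))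
theorem Q28911 : ∀ i, i < 28911 → P i := stepQ 28910 Q28910 (allL N28910 (tt N27794 F275002) (tt N29454 (iv F277875)) (tt N27800 F275003) (tt N29234 (iv F276709)) (tt N27793 (iv D61680)) (tt N29241 (iv F276760)) (tt N29406 (iv F277673)) (tt N29116 (iv F276003)) (tt N27796 F275004) (tt N29457 (iv F277894)))
theorem Q28912 : ∀ i, i < 28912 → P i := stepQ 28911 Q28911 (allL N28911 (tt N27797 F275005) (tt N29278 (iv F277002)) (tt N27803 F275006) (tt N29281 (iv F277026)) (tt N29005 (iv F275287)) (tt N27796 (iv D61681)) (tt N29282 (iv F277035)) (tt N29006 (iv F275299)) (tt N29241 (iv F276762)) (tt N29388 (iv F277582)))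
theorem Q28913 : ∀ i, i < 28913 → P i := stepQ 28912 Q28912 (allL N28912 (tt N27799 F275007) (tt N29187 (iv F276411)) (tt N29457 (iv F277892)) (tt N29733 (iv F279015)) (tt N27798 (iv D61682)) (tt N29584 (iv F278449)) (tt N29420 (iv F277724)) (tt N29124 (iv F276066)) (tt N29800 (iv F279192)) (tt N27800 F275008))
theorem Q28914 : ∀ i, i < 28914 → P i := stepQ 28913 Q28913 (allL N28913 (tt N27804 F275009) (tt N29382 (iv F277555)) (tt N29282 F277037) (tt N29797 (iv F279184)) (tt N29309 (iv F277203)) (tt N29436 (iv F277788)) (tt N27803 (iv D61683)) (tt N29317 (iv F277255)) (tt N29629 (iv F278640)) (tt N29320 (iv F277275)))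
theorem Q28915 : ∀ i, i < 28915 → P i := stepQ 28914 Q28914 (allL N28914 (tt N27805 (iv D61684)) (tt N27814 F275010) (tt N29299 (iv F277143)) (tt N29448 (iv F277841)) (tt N29804 D62574) (tt N27807 F275011) (tt N29263 (iv F276908)) (tt N29285 (iv F277056)) (tt N29274 (iv F276980)) (tt N29112 (iv F275974)))
theorem Q28916 : ∀ i, i < 28916 → P i := stepQ 28915 Q28915 (allL N28915 (tt N29804 (iv F279198)) (tt N27806 F275012) (tt N29300 (iv F277149)) (tt N29609 (iv F278558)) (tt N27805 (iv D61685)) (tt N27839 F275013) (tt N29264 (iv F276914)) (tt N29286 (iv F277062)) (tt N29275 (iv F276988)) (tt N29113 (iv F275981)))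
theorem Q28917 : ∀ i, i < 28917 → P i := stepQ 28916 Q28916 (allL N28916 (tt N27809 (iv D61686)) (tt N29448 (iv F277839)) (tt N29460 (iv F277907)) (tt N27814 F275014) (tt N29805 D62575) (tt N27811 F275015) (tt N29786 (iv F279153)) (tt N29112 (iv F275972)) (tt N29110 (iv F275958)) (tt N29285 (iv F277058)))
theorem Q28918 : ∀ i, i < 28918 → P i := stepQ 28917 Q28917 (allL N28917 (tt N29805 (iv F279201)) (tt N27810 F275016) (tt N29461 (iv F277913)) (tt N29806 D62576) (tt N27809 (iv D61687)) (tt N29475 (iv F277984)) (tt N29787 (iv F279156)) (tt N29113 (iv F275979)) (tt N29111 (iv F275965)) (tt N29286 (iv F277064)))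
theorem Q28919 : ∀ i, i < 28919 → P i := stepQ 28918 Q28918 (allL N28918 (tt N29450 (iv F277852)) (tt N29806 (iv F279202)) (tt N28918 F275017) (tt N27810 (iv D61688)) (tt N27816 F275018) (tt N29476 (iv F277991)) (tt N29788 (iv F279160)) (tt N29114 (iv F275987)) (tt N29489 (iv F278056)) (tt N27899 F275019))
theorem Q28920 : ∀ i, i < 28920 → P i := stepQ 28919 Q28919 (allL N28919 (tt N27812 (iv D61689)) (tt N29263 (iv F276905)) (tt N27838 F275020) (tt N29786 (iv F279151)) (tt N29807 D62577) (tt N27825 F275021) (tt N27814 F275022) (tt N29268 (iv F276942)) (tt N29249 (iv F276815)) (tt N27831 F275023))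
theorem Q28921 : ∀ i, i < 28921 → P i := stepQ 28920 Q28920 (allL N28920 (tt N29807 (iv F279205)) (tt N27813 F275024) (tt N27839 F275025) (tt N29808 D62578) (tt N27812 (iv D61690)) (tt N29300 (iv F277150)) (tt N27815 F275026) (tt N29269 (iv F276948)) (tt N29250 (iv F276823)) (tt N27832 F275027))
theorem Q28922 : ∀ i, i < 28922 → P i := stepQ 28921 Q28921 (allL N28921 (tt N29265 (iv F276917)) (tt N29808 (iv F279209)) (tt N28921 F275028) (tt N27813 (iv D61691)) (tt N29788 (iv F279159)) (tt N29301 (iv F277156)) (tt N27816 F275029) (tt N29270 (iv F276953)) (tt N29365 (iv F277483)) (tt N27833 F275030))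
theorem Q28923 : ∀ i, i < 28923 → P i := stepQ 28922 Q28922 (allL N28922 (tt N27815 F275031) (tt N29804 (iv F279199)) (tt N29689 (iv F278841)) (tt N29809 D62579) (tt N27814 (iv D61692)) (tt N27897 F275032) (tt N29807 (iv F279207)) (tt N29452 (iv F277868)) (tt N29688 (iv F278837)) (tt N29458 (iv F277899)))
theorem Q28924 : ∀ i, i < 28924 → P i := stepQ 28923 Q28923 (allL N28923 (tt N29809 (iv F279212)) (tt N27816 F275033) (tt N29810 D62580) (tt N27815 (iv D61693)) (tt N29806 (iv F279203)) (tt N27898 F275034) (tt N29808 (iv F279210)) (tt N29453 (iv F277872)) (tt N29491 (iv F278064)) (tt N29459 (iv F277905)))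
theorem Q28925 : ∀ i, i < 28925 → P i := stepQ 28924 Q28924 (allL N28924 (tt N27817 (iv D61694)) (tt N29203 (iv F276512)) (tt N27823 F275035) (tt N27841 F275036) (tt N29811 D62581) (tt N27819 F275037) (tt N29394 (iv F277611)) (tt N27829 F275038) (tt N29474 (iv F277980)) (tt N29128 (iv F276092)))
theorem Q28926 : ∀ i, i < 28926 → P i := stepQ 28925 Q28925 (allL N28925 (tt N29811 (iv F279216)) (tt N27818 F275039) (tt N27824 F275040) (tt N29178 (iv F276361)) (tt N27817 (iv D61695)) (tt N29111 (iv F275963)) (tt N29395 (iv F277616)) (tt N27830 F275041) (tt N29475 (iv F277986)) (tt N29129 (iv F276100)))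
theorem Q28927 : ∀ i, i < 28927 → P i := stepQ 28926 Q28926 (allL N28926 (tt N27820 (iv D61696)) (tt N29441 (iv F277808)) (tt N29474 (iv F277976)) (tt N29399 (iv F277635)) (tt N29812 D62582) (tt N27822 F275042) (tt N29778 (iv F279129)) (tt N27831 F275043) (tt N27823 F275044) (tt N29268 (iv F276944)))
theorem Q28928 : ∀ i, i < 28928 → P i := stepQ 28927 Q28927 (allL N28927 (tt N29812 (iv F279219)) (tt N27821 F275045) (tt N29475 (iv F277983)) (tt N29813 D62583) (tt N27820 (iv D61697)) (tt N29461 (iv F277914)) (tt N29779 (iv F279133)) (tt N27832 F275046) (tt N27824 F275047) (tt N29269 (iv F276950)))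
theorem Q28929 : ∀ i, i < 28929 → P i := stepQ 28928 Q28928 (allL N28928 (tt N29443 (iv F277817)) (tt N29813 (iv F279222)) (tt N28928 F275048) (tt N27821 (iv D61698)) (tt N29401 (iv F277645)) (tt N29462 (iv F277920)) (tt N29780 (iv F279137)) (tt N27833 F275049) (tt N29706 (iv F278915)) (tt N29270 (iv F276955)))
theorem Q28930 : ∀ i, i < 28930 → P i := stepQ 28929 Q28929 (allL N28929 (tt N27824 F275050) (tt N29451 (iv F277860)) (tt N29811 (iv F279217)) (tt N29710 (iv F278933)) (tt N27823 (iv D61699)) (tt N29481 (iv F278013)) (tt N29793 (iv F279175)) (tt N27834 F275051) (tt N29812 (iv F279221)) (tt N29279 (iv F277015)))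
theorem Q28931 : ∀ i, i < 28931 → P i := stepQ 28930 Q28930 (allL N28930 (tt N27826 (iv D61700)) (tt N27860 F275052) (tt N27831 F275053) (tt N29604 (iv F278544)) (tt N29814 D62584) (tt N27828 F275054) (tt N29117 (iv F276010)) (tt N29474 (iv F277979)) (tt N27829 F275055) (tt N27838 F275056))
theorem Q28932 : ∀ i, i < 28932 → P i := stepQ 28931 Q28931 (allL N28931 (tt N29814 (iv F279224)) (tt N27827 F275057) (tt N27832 F275058) (tt N29815 D62585) (tt N27826 (iv D61701)) (tt N29113 (iv F275977)) (tt N29118 (iv F276017)) (tt N29475 (iv F277985)) (tt N27830 F275059) (tt N27839 F275060))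
theorem Q28933 : ∀ i, i < 28933 → P i := stepQ 28932 Q28932 (allL N28932 (tt N27862 F275061) (tt N29815 (iv F279229)) (tt N28932 F275062) (tt N27827 (iv D61702)) (tt N29570 (iv F278381)) (tt N29114 (iv F275985)) (tt N29119 (iv F276025)) (tt N29476 (iv F277992)) (tt N29192 (iv F276448)) (tt N27840 F275063))
theorem Q28934 : ∀ i, i < 28934 → P i := stepQ 28933 Q28933 (allL N28933 (tt N27830 F275064) (tt N29205 (iv F276529)) (tt N27834 F275065) (tt N29193 (iv F276453)) (tt N27829 (iv D61703)) (tt N29115 (iv F275994)) (tt N29124 (iv F276065)) (tt N29811 (iv F279218)) (tt N29814 (iv F279227)) (tt N29130 (iv F276108)))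
theorem Q28935 : ∀ i, i < 28935 → P i := stepQ 28934 Q28934 (allL N28934 (tt N27832 F275066) (tt N29446 (iv F277833)) (tt N29814 (iv F279226)) (tt N29816 D62586) (tt N27831 (iv D61704)) (tt N29471 (iv F277967)) (tt N29458 (iv F277897)) (tt N29812 (iv F279220)) (tt N27834 F275067) (tt N29807 (iv F279208)))
theorem Q28936 : ∀ i, i < 28936 → P i := stepQ 28935 Q28935 (allL N28935 (tt N29816 (iv F279231)) (tt N27833 F275068) (tt N29817 D62587) (tt N27832 (iv D61705)) (tt N29791 (iv F279168)) (tt N29472 (iv F277970)) (tt N29459 (iv F277903)) (tt N29813 (iv F279223)) (tt N29718 (iv F278963)) (tt N29808 (iv F279211)))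
theorem Q28937 : ∀ i, i < 28937 → P i := stepQ 28936 Q28936 (allL N28936 (tt N27836 F275069) (tt N27856 F275070) (tt N29067 (iv F275688)) (tt N29279 (iv F277010)) (tt N27835 (iv D61706)) (tt N29503 (iv F278117)) (tt N29468 (iv F277951)) (tt N29080 (iv F275773)) (tt N29425 (iv F277747)) (tt N29710 (iv F278935)))
theorem Q28938 : ∀ i, i < 28938 → P i := stepQ 28937 Q28937 (allL N28937 (tt N27839 F275071) (tt N27897 F275072) (tt N29807 (iv F279206)) (tt N29818 D62588) (tt N27838 (iv D61707)) (tt N29804 (iv F279200)) (tt N29689 (iv F278843)) (tt N29490 (iv F278060)) (tt N29691 (iv F278855)) (tt N29814 (iv F279228)))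
theorem Q28939 : ∀ i, i < 28939 → P i := stepQ 28938 Q28938 (allL N28938 (tt N29818 (iv F279233)) (tt N27840 F275073) (tt N29819 D62589) (tt N27839 (iv D61708)) (tt N29770 (iv F279114)) (tt N29609 (iv F278559)) (tt N29690 (iv F278849)) (tt N29491 (iv F278063)) (tt N29453 (iv F277873)) (tt N29815 (iv F279230)))
theorem Q28940 : ∀ i, i < 28940 → P i := stepQ 28939 Q28939 (allL N28939 (tt N27845 (iv D61709)) (tt N27849 F275074) (tt N27924 F275075) (tt N29583 (iv F278443)) (tt N29820 D62590) (tt N29544 (iv F278297)) (tt N29525 (iv F278208)) (tt N27910 F275076) (tt N29695 (iv F278871)) (tt N29542 (iv F278288)))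
theorem Q28941 : ∀ i, i < 28941 → P i := stepQ 28940 Q28940 (allL N28940 (tt N29820 (iv F279236)) (tt N27846 F275077) (tt N27923 F275078) (tt N29703 (iv F278901)) (tt N27845 (iv D61710)) (tt N29683 (iv F278816)) (tt N29526 (iv F278213)) (tt N27911 F275079) (tt N29696 (iv F278876)) (tt N29543 (iv F278293)))
theorem Q28942 : ∀ i, i < 28942 → P i := stepQ 28941 Q28941 (allL N28941 (tt N27847 (iv D61711)) (tt N29695 (iv F278867)) (tt N27854 F275080) (tt N29572 (iv F278395)) (tt N29821 D62591) (tt N29730 (iv F279003)) (tt N29531 (iv F278240)) (tt N29571 (iv F278391)) (tt N27849 F275081) (tt N29618 (iv F278597)))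
theorem Q28943 : ∀ i, i < 28943 → P i := stepQ 28942 Q28942 (allL N28942 (tt N29821 (iv F279240)) (tt N27848 F275082) (tt N27855 F275083) (tt N29633 (iv F278649)) (tt N27847 (iv D61712)) (tt N29638 (iv F278664)) (tt N29229 (iv F276672)) (tt N29238 (iv F276739)) (tt N27850 F275084) (tt N29619 (iv F278602)))
theorem Q28944 : ∀ i, i < 28944 → P i := stepQ 28943 Q28943 (allL N28943 (tt N27850 F275085) (tt N29820 (iv F279237)) (tt N27856 F275086) (tt N29822 D62592) (tt N27849 (iv D61713)) (tt N29636 (iv F278657)) (tt N29536 (iv F278261)) (tt N29240 F276757) (tt N29821 (iv F279242)) (tt N29753 (iv F279063)))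
theorem Q28945 : ∀ i, i < 28945 → P i := stepQ 28944 Q28944 (allL N28944 (tt N29822 (iv F279243)) (tt N27851 F275087) (tt N29075 (iv F275735)) (tt N27850 (iv D61714)) (tt N29721 (iv F278973)) (tt N29229 (iv F276671)) (tt N29537 (iv F278263)) (tt N29100 F275894) (tt N29538 (iv F278266)) (tt N29669 (iv F278768)))
theorem Q28946 : ∀ i, i < 28946 → P i := stepQ 28945 Q28945 (allL N28945 (tt N27852 (iv D61715)) (tt N29665 (iv F278748)) (tt N29618 (iv F278593)) (tt N27884 F275088) (tt N29823 D62593) (tt N29734 (iv F279019)) (tt N29544 (iv F278298)) (tt N29504 (iv F278123)) (tt N29754 (iv F279067)) (tt N27854 F275089))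
theorem Q28947 : ∀ i, i < 28947 → P i := stepQ 28946 Q28946 (allL N28946 (tt N29823 (iv F279244)) (tt N27853 F275090) (tt N29619 (iv F278599)) (tt N29185 (iv F276401)) (tt N27852 (iv D61716)) (tt N29639 (iv F278667)) (tt N29188 (iv F276417)) (tt N29456 (iv F277889)) (tt N29755 (iv F279071)) (tt N27855 F275091))
theorem Q28948 : ∀ i, i < 28948 → P i := stepQ 28947 Q28947 (allL N28947 (tt N27855 F275092) (tt N29425 (iv F277743)) (tt N29821 (iv F279241)) (tt N29226 (iv F276654)) (tt N27854 (iv D61717)) (tt N29637 (iv F278660)) (tt N29228 (iv F276665)) (tt N29455 (iv F277882)) (tt N27856 F275093) (tt N29823 (iv F279245)))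
theorem Q28949 : ∀ i, i < 28949 → P i := stepQ 28948 Q28948 (allL N28948 (tt N27857 (iv D61718)) (tt N29604 (iv F278542)) (tt N29179 (iv F276367)) (tt N27860 F275094) (tt N29824 D62594) (tt N27859 F275095) (tt N29161 (iv F276279)) (tt N29190 (iv F276432)) (tt N29177 (iv F276357)) (tt N27891 F275096))
theorem Q28950 : ∀ i, i < 28950 → P i := stepQ 28949 Q28949 (allL N28949 (tt N29824 (iv F279246)) (tt N27858 F275097) (tt N29180 (iv F276373)) (tt N29825 D62595) (tt N27857 (iv D61719)) (tt N29488 (iv F278047)) (tt N29162 (iv F276282)) (tt N29191 (iv F276439)) (tt N29178 (iv F276364)) (tt N27892 F275098))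
theorem Q28951 : ∀ i, i < 28951 → P i := stepQ 28950 Q28950 (allL N28950 (tt N29570 (iv F278378)) (tt N29825 (iv F279248)) (tt N28950 F275099) (tt N27858 (iv D61720)) (tt N27862 F275100) (tt N29489 (iv F278054)) (tt N29163 (iv F276287)) (tt N29192 (iv F276447)) (tt N29476 (iv F277993)) (tt N27893 F275101))
theorem Q28952 : ∀ i, i < 28952 → P i := stepQ 28951 Q28951 (allL N28951 (tt N27861 F275102) (tt N29814 (iv F279225)) (tt N29558 (iv F278339)) (tt N29826 D62596) (tt N27860 (iv D61721)) (tt N29458 (iv F277896)) (tt N29168 (iv F276306)) (tt N29568 (iv F278373)) (tt N29205 (iv F276534)) (tt N27897 F275103))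
theorem Q28953 : ∀ i, i < 28953 → P i := stepQ 28952 Q28952 (allL N28952 (tt N29826 (iv F279251)) (tt N27862 F275104) (tt N29827 D62597) (tt N27861 (iv D61722)) (tt N29825 (iv F279249)) (tt N29459 (iv F277902)) (tt N29169 (iv F276310)) (tt N29569 (iv F278376)) (tt N29642 (iv F278680)) (tt N27898 F275105))
theorem Q28954 : ∀ i, i < 28954 → P i := stepQ 28953 Q28953 (allL N28953 (tt N27866 (iv D61723)) (tt N29394 (iv F277608)) (tt N29572 (iv F278394)) (tt N27870 F275106) (tt N29828 D62598) (tt N29519 (iv F278188)) (tt N29203 (iv F276516)) (tt N29184 (iv F276397)) (tt N29565 (iv F278361)) (tt N29224 (iv F276642)))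
theorem Q28955 : ∀ i, i < 28955 → P i := stepQ 28954 Q28954 (allL N28954 (tt N29828 (iv F279255)) (tt N27867 F275107) (tt N29573 (iv F278400)) (tt N29456 (iv F277885)) (tt N27866 (iv D61724)) (tt N29438 (iv F277793)) (tt N29204 (iv F276524)) (tt N29185 (iv F276403)) (tt N29566 (iv F278365)) (tt N29225 (iv F276649)))
theorem Q28956 : ∀ i, i < 28956 → P i := stepQ 28955 Q28955 (allL N28955 (tt N27868 (iv D61725)) (tt N29614 (iv F278577)) (tt N27881 F275108) (tt N29519 (iv F278187)) (tt N29829 D62599) (tt N27870 F275109) (tt N29516 (iv F278174)) (tt N29505 (iv F278129)) (tt N27871 F275110) (tt N29492 (iv F278070)))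
theorem Q28957 : ∀ i, i < 28957 → P i := stepQ 28956 Q28956 (allL N28956 (tt N29829 (iv F279256)) (tt N27869 F275111) (tt N27882 F275112) (tt N29830 D62600) (tt N27868 (iv D61726)) (tt N29121 (iv F276039)) (tt N29517 (iv F278179)) (tt N29506 (iv F278135)) (tt N27872 F275113) (tt N29493 (iv F278076)))
theorem Q28958 : ∀ i, i < 28958 → P i := stepQ 28957 Q28957 (allL N28957 (tt N29201 (iv F276500)) (tt N29830 (iv F279259)) (tt N28957 F275114) (tt N27869 (iv D61727)) (tt N29521 (iv F278195)) (tt N29122 (iv F276047)) (tt N29518 (iv F278185)) (tt N29507 (iv F278141)) (tt N29831 D62601) (tt N29494 (iv F278081)))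
theorem Q28959 : ∀ i, i < 28959 → P i := stepQ 28958 Q28958 (allL N28958 (tt N27872 F275115) (tt N29202 (iv F276507)) (tt N27889 F275116) (tt N29832 D62602) (tt N27871 (iv D61728)) (tt N29123 (iv F276056)) (tt N29765 (iv F279100)) (tt N29720 (iv F278970)) (tt N29829 (iv F279258)) (tt N27912 F275117))
theorem Q28960 : ∀ i, i < 28960 → P i := stepQ 28959 Q28959 (allL N28959 (tt N29832 (iv F279263)) (tt N27873 F275118) (tt N29096 (iv F275867)) (tt N27872 (iv D61729)) (tt N29100 (iv F275891)) (tt N27888 F275119) (tt N29097 (iv F275876)) (tt N29721 (iv F278975)) (tt N29833 D62603) (tt N27913 F275120))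
theorem Q28961 : ∀ i, i < 28961 → P i := stepQ 28960 Q28960 (allL N28960 (tt N29053 (iv F275597)) (tt N29833 (iv F279266)) (tt N27878 F275121) (tt N29831 (iv F279261)) (tt N29094 (iv F275857)) (tt N27877 F275122) (tt N29087 (iv F275817)) (tt N29535 (iv F278257)) (tt N27873 (iv D61730)) (tt N29834 D62604))
theorem Q28962 : ∀ i, i < 28962 → P i := stepQ 28961 Q28961 (allL N28961 (tt N29835 D62605) (tt N27874 (iv D61731)) (tt N29330 (iv F277330)) (tt N29034 (iv F275480)) (tt N29836 D62606) (tt N29150 (iv F276226)) (tt N27879 F275123) (tt N29020 (iv F275398)) (tt N27915 F275124) (tt N27876 F275125))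
theorem Q28963 : ∀ i, i < 28963 → P i := stepQ 28962 Q28962 (allL N28962 (tt N29048 (iv F275570)) (tt N29836 (iv F279274)) (tt N27875 F275126) (tt N29837 D62607) (tt N27874 (iv D61732)) (tt N29834 (iv F279269)) (tt N27880 F275127) (tt N29021 (iv F275404)) (tt N27916 F275128) (tt N27877 F275129))
theorem Q28964 : ∀ i, i < 28964 → P i := stepQ 28963 Q28963 (allL N28963 (tt N29049 (iv F275576)) (tt N29104 (iv F275909)) (tt N29834 (iv F279268)) (tt N28963 F275130) (tt N29091 (iv F275838)) (tt N27875 (iv D61733)) (tt N29083 (iv F275793)) (tt N29022 (iv F275411)) (tt N27917 F275131) (tt N27878 F275132))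
theorem Q28965 : ∀ i, i < 28965 → P i := stepQ 28964 Q28964 (allL N28964 (tt N27876 (iv D61734)) (tt N29050 (iv F275584)) (tt N29516 (iv F278171)) (tt N29724 (iv F278983)) (tt N29838 D62608) (tt N29515 (iv F278166)) (tt N27881 F275133) (tt N29532 (iv F278246)) (tt N27887 F275134) (tt N29835 (iv F279273)))
theorem Q28966 : ∀ i, i < 28966 → P i := stepQ 28965 Q28965 (allL N28965 (tt N29838 (iv F279281)) (tt N27877 F275135) (tt N29517 (iv F278178)) (tt N29839 D62609) (tt N27876 (iv D61735)) (tt N29833 (iv F279267)) (tt N27882 F275136) (tt N29533 (iv F278250)) (tt N27888 F275137) (tt N29836 (iv F279277)))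
theorem Q28967 : ∀ i, i < 28967 → P i := stepQ 28966 Q28966 (allL N28966 (tt N29052 (iv F275593)) (tt N29839 (iv F279284)) (tt N28966 F275138) (tt N27877 (iv D61736)) (tt N29726 (iv F278990)) (tt N29831 (iv F279262)) (tt N27883 F275139) (tt N29534 (iv F278253)) (tt N29122 (iv F276050)) (tt N29837 (iv F279280)))
theorem Q28968 : ∀ i, i < 28968 → P i := stepQ 28967 Q28967 (allL N28967 (tt N27879 (iv D61737)) (tt N29179 (iv F276366)) (tt N29492 (iv F278066)) (tt N29734 (iv F279018)) (tt N29840 D62610) (tt N27884 F275140) (tt N29835 (iv F279271)) (tt N29120 (iv F276034)) (tt N27920 F275141) (tt N27881 F275142))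
theorem Q28969 : ∀ i, i < 28969 → P i := stepQ 28968 Q28968 (allL N28968 (tt N29840 (iv F279286)) (tt N27880 F275143) (tt N29493 (iv F278072)) (tt N29841 D62611) (tt N27879 (iv D61738)) (tt N29506 (iv F278134)) (tt N29836 (iv F279275)) (tt N29121 (iv F276041)) (tt N27921 F275144) (tt N27882 F275145))
theorem Q28970 : ∀ i, i < 28970 → P i := stepQ 28969 Q28969 (allL N28969 (tt N29181 (iv F276378)) (tt N29841 (iv F279289)) (tt N28969 F275146) (tt N27880 (iv D61739)) (tt N29736 (iv F279028)) (tt N29507 (iv F278140)) (tt N29837 (iv F279279)) (tt N29122 (iv F276049)) (tt N29534 (iv F278254)) (tt N27883 F275147))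
theorem Q28971 : ∀ i, i < 28971 → P i := stepQ 28970 Q28970 (allL N28970 (tt N27882 F275148) (tt N29659 (iv F278728)) (tt N29829 (iv F279257)) (tt N29842 D62612) (tt N27881 (iv D61740)) (tt N29508 (iv F278145)) (tt N29838 (iv F279282)) (tt N29722 (iv F278978)) (tt N27889 F275149) (tt N29840 (iv F279288)))
theorem Q28972 : ∀ i, i < 28972 → P i := stepQ 28971 Q28971 (allL N28971 (tt N29842 (iv F279291)) (tt N27883 F275150) (tt N29843 D62613) (tt N27882 (iv D61741)) (tt N29738 (iv F279035)) (tt N29509 (iv F278148)) (tt N29839 (iv F279285)) (tt N29723 (iv F278982)) (tt N29694 (iv F278866)) (tt N29841 (iv F279290)))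
theorem Q28973 : ∀ i, i < 28973 → P i := stepQ 28972 Q28972 (allL N28972 (tt N27885 (iv D61742)) (tt N29037 (iv F275499)) (tt N29542 (iv F278283)) (tt N27890 F275151) (tt N29844 D62614) (tt N29531 (iv F278239)) (tt N29140 (iv F276171)) (tt N27887 F275152) (tt N29532 (iv F278247)) (tt N27924 F275153))
theorem Q28974 : ∀ i, i < 28974 → P i := stepQ 28973 Q28973 (allL N28973 (tt N29844 (iv F279293)) (tt N27886 F275154) (tt N29543 (iv F278290)) (tt N27921 F275155) (tt N27885 (iv D61743)) (tt N29721 (iv F278974)) (tt N29141 (iv F276176)) (tt N27888 F275156) (tt N29533 (iv F278251)) (tt N27923 F275157))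
theorem Q28975 : ∀ i, i < 28975 → P i := stepQ 28974 Q28974 (allL N28974 (tt N27888 F275158) (tt N29054 (iv F275603)) (tt N29765 (iv F279099)) (tt N29123 (iv F276055)) (tt N27887 (iv D61744)) (tt N29832 (iv F279264)) (tt N27889 F275159) (tt N29844 (iv F279295)) (tt N29838 (iv F279283)) (tt N27925 F275160))
theorem Q28976 : ∀ i, i < 28976 → P i := stepQ 28975 Q28975 (allL N28975 (tt N27892 F275161) (tt N29769 (iv F279110)) (tt N29659 (iv F278729)) (tt N29845 D62615) (tt N27891 (iv D61745)) (tt N29641 (iv F278676)) (tt N29717 (iv F278958)) (tt N29601 (iv F278530)) (tt N29440 (iv F277806)) (tt N29824 (iv F279247)))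
theorem Q28977 : ∀ i, i < 28977 → P i := stepQ 28976 Q28976 (allL N28976 (tt N29845 (iv F279297)) (tt N27893 F275162) (tt N29846 D62616) (tt N27892 (iv D61746)) (tt N27898 F275163) (tt N29642 (iv F278679)) (tt N29718 (iv F278962)) (tt N29602 (iv F278533)) (tt N29459 (iv F277904)) (tt N29825 (iv F279250)))
theorem Q28978 : ∀ i, i < 28978 → P i := stepQ 28977 Q28977 (allL N28977 (tt N27895 F275164) (tt N29689 (iv F278840)) (tt N29358 (iv F277444)) (tt N29847 D62617) (tt N27894 (iv D61747)) (tt N29699 (iv F278889)) (tt N27897 F275165) (tt N29798 (iv F279187)) (tt N29004 (iv F275282)) (tt N29168 (iv F276308)))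
theorem Q28979 : ∀ i, i < 28979 → P i := stepQ 28978 Q28978 (allL N28978 (tt N29847 (iv F279301)) (tt N27896 F275166) (tt N29848 D62618) (tt N27895 (iv D61748)) (tt N29718 (iv F278961)) (tt N29700 (iv F278891)) (tt N27898 F275167) (tt N29799 (iv F279190)) (tt N29791 (iv F279170)) (tt N29169 (iv F276311)))
theorem Q28980 : ∀ i, i < 28980 → P i := stepQ 28979 Q28979 (allL N28979 (tt N27898 F275168) (tt N29818 (iv F279234)) (tt N29849 D62619) (tt N27897 (iv D61749)) (tt N29845 (iv F279298)) (tt N29809 (iv F279213)) (tt N29847 (iv F279302)) (tt N29607 (iv F278554)) (tt N29850 D62620) (tt N29826 (iv F279252)))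
theorem Q28981 : ∀ i, i < 28981 → P i := stepQ 28980 Q28980 (allL N28980 (tt N29849 (iv F279305)) (tt N28980 F275169) (tt N27898 (iv D61750)) (tt N29750 (iv F279057)) (tt N29846 (iv F279300)) (tt N29810 (iv F279215)) (tt N29848 (iv F279304)) (tt N29608 (iv F278556)) (tt N29851 D62621) (tt N29827 (iv F279254)))
theorem Q28982 : ∀ i, i < 28982 → P i := stepQ 28981 Q28981 (allL N28981 (tt N29850 (iv F279306)) (tt N27899 F275170) (tt N29851 (iv F279308)) (tt N29286 F277065) (tt N29459 (iv F277901)) (tt N29491 (iv F278062)) (tt N29791 (iv F279169)) (tt N29609 (iv F278560)) (tt N27898 (iv D61751)) (tt N29806 (iv F279204)))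
theorem Q28983 : ∀ i, i < 28983 → P i := stepQ 28982 Q28982 (allL N28982 (tt N27901 F275171) (tt N29222 (iv F276627)) (tt N27903 F275172) (tt N29852 D62622) (tt N27900 (iv D61752)) (tt N27922 F275173) (tt N29713 (iv F278944)) (tt N27912 F275174) (tt N27926 F275175) (tt N29720 (iv F278971)))
theorem Q28984 : ∀ i, i < 28984 → P i := stepQ 28983 Q28983 (allL N28983 (tt N29852 (iv F279309)) (tt N27902 F275176) (tt N29683 (iv F278814)) (tt N27901 (iv D61753)) (tt N29669 (iv F278766)) (tt N27923 F275177) (tt N29714 (iv F278947)) (tt N27913 F275178) (tt N29698 (iv F278886)) (tt N29721 (iv F278976)))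
theorem Q28985 : ∀ i, i < 28985 → P i := stepQ 28984 Q28984 (allL N28984 (tt N27904 F275179) (tt N29237 (iv F276728)) (tt N27922 F275180) (tt N29711 (iv F278938)) (tt N27906 F275181) (tt N27903 (iv D61754)) (tt N29853 D62623) (tt N27926 F275182) (tt N27912 F275183) (tt N29498 (iv F278101)))
theorem Q28986 : ∀ i, i < 28986 → P i := stepQ 28985 Q28985 (allL N28985 (tt N29853 (iv F279312)) (tt N27905 F275184) (tt N27919 F275185) (tt N29712 (iv F278941)) (tt N27907 F275186) (tt N29685 (iv F278824)) (tt N27904 (iv D61755)) (tt N29696 (iv F278875)) (tt N27911 F275187) (tt N29496 (iv F278090)))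
theorem Q28987 : ∀ i, i < 28987 → P i := stepQ 28986 Q28986 (allL N28986 (tt N27907 F275188) (tt N29571 (iv F278386)) (tt N27918 F275189) (tt N29477 (iv F277996)) (tt N29853 (iv F279314)) (tt N29640 (iv F278671)) (tt N27906 (iv D61756)) (tt N29695 (iv F278870)) (tt N27910 F275190) (tt N29495 (iv F278086)))
theorem Q28988 : ∀ i, i < 28988 → P i := stepQ 28987 Q28987 (allL N28987 (tt N27911 F275191) (tt N29240 (iv F276752)) (tt N27925 F275192) (tt N29716 (iv F278954)) (tt N27910 (iv D61757)) (tt N29676 (iv F278794)) (tt N27912 F275193) (tt N29820 (iv F279239)) (tt N29853 (iv F279315)) (tt N29765 (iv F279101)))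
theorem Q28989 : ∀ i, i < 28989 → P i := stepQ 28988 Q28988 (allL N28988 (tt N27913 F275194) (tt N29099 (iv F275885)) (tt N29676 (iv F278792)) (tt N27912 (iv D61758)) (tt N29670 (iv F278771)) (tt N27925 F275195) (tt N29716 (iv F278955)) (tt N29852 (iv F279311)) (tt N29854 D62624) (tt N29832 (iv F279265)))
theorem Q28990 : ∀ i, i < 28990 → P i := stepQ 28989 Q28989 (allL N28989 (tt N29854 (iv F279316)) (tt N27914 F275196) (tt N29685 (iv F278823)) (tt N29708 (iv F278923)) (tt N29653 (iv F278716)) (tt N27919 F275197) (tt N29715 (iv F278950)) (tt N29698 (iv F278885)) (tt N27913 (iv D61759)) (tt N29855 D62625))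
theorem Q28991 : ∀ i, i < 28991 → P i := stepQ 28990 Q28990 (allL N28990 (tt N29090 (iv F275830)) (tt N29855 (iv F279318)) (tt N27917 F275198) (tt N29142 (iv F276181)) (tt N29650 (iv F278708)) (tt N27916 F275199) (tt N29155 (iv F276250)) (tt N29028 (iv F275447)) (tt N29834 (iv F279270)) (tt N27914 (iv D61760)))
theorem Q28992 : ∀ i, i < 28992 → P i := stepQ 28991 Q28991 (allL N28991 (tt N27915 (iv D61761)) (tt N29088 (iv F275820)) (tt N29495 (iv F278083)) (tt N29013 (iv F275345)) (tt N29856 D62626) (tt N29647 (iv F278698)) (tt N27920 F275200) (tt N29026 (iv F275437)) (tt N29835 (iv F279272)) (tt N27918 F275201))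
theorem Q28993 : ∀ i, i < 28993 → P i := stepQ 28992 Q28992 (allL N28992 (tt N29856 (iv F279320)) (tt N27916 F275202) (tt N29496 (iv F278088)) (tt N29141 (iv F276175)) (tt N27915 (iv D61762)) (tt N29855 (iv F279319)) (tt N27921 F275203) (tt N29027 (iv F275442)) (tt N29836 (iv F279276)) (tt N27919 F275204))
theorem Q28994 : ∀ i, i < 28994 → P i := stepQ 28993 Q28993 (allL N28993 (tt N27919 F275205) (tt N29092 (iv F275844)) (tt N29853 (iv F279313)) (tt N29707 (iv F278918)) (tt N27918 (iv D61763)) (tt N29854 (iv F279317)) (tt N27922 F275206) (tt N29697 (iv F278881)) (tt N27925 F275207) (tt N29856 (iv F279322)))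
theorem Q28995 : ∀ i, i < 28995 → P i := stepQ 28994 Q28994 (allL N28994 (tt N27921 F275208) (tt N29182 (iv F276384)) (tt N29498 (iv F278098)) (tt N29844 (iv F279294)) (tt N27920 (iv D61764)) (tt N29720 (iv F278969)) (tt N29856 (iv F279321)) (tt N29123 (iv F276058)) (tt N29840 (iv F279287)) (tt N27922 F275209))
theorem Q28996 : ∀ i, i < 28996 → P i := stepQ 28995 Q28995 (allL N28995 (tt N27923 F275210) (tt N29067 (iv F275687)) (tt N29820 (iv F279238)) (tt N27922 (iv D61765)) (tt N27924 F275211) (tt N29852 (iv F279310)) (tt N29707 (iv F278919)) (tt N27925 F275212) (tt N29697 (iv F278882)) (tt N29844 (iv F279296)))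
theorem Q28997 : ∀ i, i < 28997 → P i := stepQ 28996 Q28996 (allL N28996 (tt N27927 (iv D61766)) (tt N28361 F275213) (tt N28239 F275214) (tt N28422 F275215) (tt N29857 D62627) (tt N27929 F275216) (tt N28284 F275217) (tt N28414 F275218) (tt N28752 F275219) (tt N27934 F275220))
theorem Q28998 : ∀ i, i < 28998 → P i := stepQ 28997 Q28997 (allL N28997 (tt N29857 (iv F279323)) (tt N27928 F275221) (tt N28240 F275222) (tt N28891 F275223) (tt N27927 (iv D61767)) (tt N27942 F275224) (tt N28285 F275225) (tt N28415 F275226) (tt N28753 F275227) (tt N27935 F275228))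
theorem Q28999 : ∀ i, i < 28999 → P i := stepQ 28998 Q28998 (allL N28998 (tt N27930 (iv D61768)) (tt N28422 F275229) (tt N28214 F275230) (tt N28361 F275231) (tt N28898 F275232) (tt N27931 F275233) (tt N28357 F275234) (tt N27934 F275235) (tt N28007 F275236) (tt N28414 F275237))
theorem Q29000 : ∀ i, i < 29000 → P i := stepQ 28999 Q28999 (allL N28999 (tt N27932 (iv D61769)) (tt N28414 F275238) (tt N28367 F275239) (tt N27934 F275240) (tt N28905 F275241) (tt N27933 F275242) (tt N28296 F275243) (tt N28361 F275244) (tt N28159 F275245) (tt N28422 F275246))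
theorem Q29001 : ∀ i, i < 29001 → P i := stepQ 29000 Q29000 (allL N29000 (tt N27935 F275247) (tt N28423 F275248) (tt N28251 F275249) (tt N29858 D62628) (tt N27934 (iv D61770)) (tt N27946 F275250) (tt N28302 F275251) (tt N28898 F275252) (tt N28035 F275253) (tt N29857 (iv F279331)))
theorem Q29002 : ∀ i, i < 29002 → P i := stepQ 29001 Q29001 (allL N29001 (tt N29858 (iv F279332)) (tt N27936 F275254) (tt N28893 F275255) (tt N27935 (iv D61771)) (tt N28877 F275256) (tt N27947 F275257) (tt N28303 F275258) (tt N28868 F275259) (tt N29859 D62629) (tt N28891 F275260))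
theorem Q29003 : ∀ i, i < 29003 → P i := stepQ 29002 Q29002 (allL N29002 (tt N28391 F275261) (tt N29859 (iv F279340)) (tt N27937 F275262) (tt N28037 F275263) (tt N28875 F275264) (tt N27948 F275265) (tt N28304 F275266) (tt N28441 F275267) (tt N27936 (iv D61772)) (tt N29860 D62630))
theorem Q29004 : ∀ i, i < 29004 → P i := stepQ 29003 Q29003 (allL N29003 (tt N28388 F275268) (tt N28488 F275269) (tt N29860 (iv F279348)) (tt N27938 F275270) (tt N28871 F275271) (tt N27950 F275272) (tt N28306 F275273) (tt N28224 F275274) (tt N28880 F275275) (tt N27937 (iv D61773)))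
theorem Q29005 : ∀ i, i < 29005 → P i := stepQ 29004 Q29004 (allL N29004 (tt N27942 F275276) (tt N28738 F275277) (tt N28363 F275278) (tt N28890 F275279) (tt N27941 (iv D61774)) (tt N29857 (iv F279327)) (tt N28907 F275280) (tt N28897 F275281) (tt N28977 F275282) (tt N27946 F275283))
theorem Q29006 : ∀ i, i < 29006 → P i := stepQ 29005 Q29005 (allL N29005 (tt N27943 (iv D61775)) (tt N28243 F275284) (tt N28422 F275285) (tt N28288 F275286) (tt N28911 F275287) (tt N28335 F275288) (tt N28289 F275289) (tt N27944 F275290) (tt N28196 F275291) (tt N28367 F275292))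
theorem Q29007 : ∀ i, i < 29007 → P i := stepQ 29006 Q29006 (allL N29006 (tt N27945 F275293) (tt N28906 F275294) (tt N28423 F275295) (tt N28909 F275296) (tt N27944 (iv D61776)) (tt N28908 F275297) (tt N27946 F275298) (tt N28911 F275299) (tt N28198 F275300) (tt N28907 F275301))
theorem Q29008 : ∀ i, i < 29008 → P i := stepQ 29007 Q29007 (allL N29007 (tt N27947 F275302) (tt N28395 F275303) (tt N29861 D62631) (tt N27946 (iv D61777)) (tt N28382 F275304) (tt N29858 (iv F279336)) (tt N28909 F275305) (tt N28867 F275306) (tt N29862 D62632) (tt N28890 F275307))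
theorem Q29009 : ∀ i, i < 29009 → P i := stepQ 29008 Q29008 (allL N29008 (tt N29861 (iv F279355)) (tt N27949 F275308) (tt N27947 (iv D61778)) (tt N28421 F275309) (tt N28290 F275310) (tt N28893 F275311) (tt N28248 F275312) (tt N28358 F275313) (tt N28512 (iv F275315)) (tt N28378 F275314))
theorem Q29010 : ∀ i, i < 29010 → P i := stepQ 29009 Q29009 (allL N29009 (tt N29862 (iv F279364)) (tt N27948 F275316) (tt N28512 F275317) (tt N28201 F275318) (tt N28381 F275319) (tt N29859 (iv F279344)) (tt N28457 F275320) (tt N28440 F275321) (tt N27947 (iv D61779)) (tt N29863 D62633))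
theorem Q29011 : ∀ i, i < 29011 → P i := stepQ 29010 Q29010 (allL N29010 (tt N28387 F275322) (tt N29863 (iv F279371)) (tt N27950 F275323) (tt N28202 F275324) (tt N28046 F275325) (tt N29860 (iv F279351)) (tt N28051 F275326) (tt N28223 F275327) (tt N28879 F275328) (tt N27948 (iv D61780)))
theorem Q29012 : ∀ i, i < 29012 → P i := stepQ 29011 Q29011 (allL N29011 (tt N29864 D62634) (tt N27951 (iv D61781)) (tt N28436 F275329) (tt N28678 F275330) (tt N29865 D62635) (tt N27953 F275331) (tt N28397 F275332) (tt N27966 F275333) (tt N27978 F275334) (tt N28069 F275335))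
theorem Q29013 : ∀ i, i < 29013 → P i := stepQ 29012 Q29012 (allL N29012 (tt N28116 F275336) (tt N29865 (iv F279386)) (tt N27952 F275337) (tt N29866 D62636) (tt N27951 (iv D61782)) (tt N28092 F275338) (tt N28398 F275339) (tt N27967 F275340) (tt N27979 F275341) (tt N28070 F275342))
theorem Q29014 : ∀ i, i < 29014 → P i := stepQ 29013 Q29013 (allL N29013 (tt N27953 (iv D61783)) (tt N28117 F275343) (tt N28438 F275344) (tt N28991 F275345) (tt N28093 F275346) (tt N29864 (iv F279381)) (tt N28062 F275347) (tt N27968 F275348) (tt N27980 F275349) (tt N28071 F275350))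
theorem Q29015 : ∀ i, i < 29015 → P i := stepQ 29014 Q29014 (allL N29014 (tt N29867 D62637) (tt N27954 (iv D61784)) (tt N27962 F275351) (tt N28004 F275352) (tt N29868 D62638) (tt N28321 F275353) (tt N27997 F275354) (tt N28506 F275355) (tt N28324 F275356) (tt N28747 F275357))
theorem Q29016 : ∀ i, i < 29016 → P i := stepQ 29015 Q29015 (allL N29015 (tt N28649 F275358) (tt N29868 (iv F279408)) (tt N27955 F275359) (tt N29869 D62639) (tt N27954 (iv D61785)) (tt N29870 D62640) (tt N27998 F275360) (tt N28507 F275361) (tt N28325 F275362) (tt N28748 F275363))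
theorem Q29017 : ∀ i, i < 29017 → P i := stepQ 29016 Q29016 (allL N29016 (tt N28650 F275364) (tt N27964 F275365) (tt N29870 (iv F279422)) (tt N27957 F275366) (tt N28323 F275367) (tt N27955 (iv D61786)) (tt N29871 D62641) (tt N28109 F275368) (tt N28326 F275369) (tt N28724 F275370))
theorem Q29018 : ∀ i, i < 29018 → P i := stepQ 29017 Q29017 (allL N29017 (tt N28614 F275371) (tt N28099 F275372) (tt N29869 (iv F279415)) (tt N27956 (iv D61787)) (tt N28040 F275373) (tt N29872 D62642) (tt N28038 F275374) (tt N28531 F275375) (tt N28569 (iv F275377)) (tt N28720 F275376))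
theorem Q29019 : ∀ i, i < 29019 → P i := stepQ 29018 Q29018 (allL N29018 (tt N28319 F275378) (tt N28088 F275379) (tt N27957 F275380) (tt N29872 (iv F279437)) (tt N29018 F275381) (tt N27956 (iv D61788)) (tt N28080 F275382) (tt N27965 F275383) (tt N29018 F275384) (tt N28547 F275385))
theorem Q29020 : ∀ i, i < 29020 → P i := stepQ 29019 Q29019 (allL N29019 (tt N28318 F275386) (tt N27965 F275387) (tt N28080 F275388) (tt N29871 (iv F279429)) (tt N29019 F275389) (tt N28039 F275390) (tt N27957 (iv D61789)) (tt N28088 F275391) (tt N29019 F275392) (tt N28546 F275393))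
theorem Q29021 : ∀ i, i < 29021 → P i := stepQ 29020 Q29020 (allL N29020 (tt N29873 D62643) (tt N27958 (iv D61790)) (tt N28324 F275394) (tt N27983 F275395) (tt N29874 D62644) (tt N28314 F275396) (tt N28697 F275397) (tt N28961 F275398) (tt N27962 F275399) (tt N28549 F275400))
theorem Q29022 : ∀ i, i < 29022 → P i := stepQ 29021 Q29021 (allL N29021 (tt N28790 F275401) (tt N29874 (iv F279451)) (tt N27959 F275402) (tt N29875 D62645) (tt N27958 (iv D61791)) (tt N29876 D62646) (tt N28698 F275403) (tt N28962 F275404) (tt N27963 F275405) (tt N28550 F275406))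
theorem Q29023 : ∀ i, i < 29023 → P i := stepQ 29022 Q29022 (allL N29022 (tt N28791 F275407) (tt N28326 F275408) (tt N29876 (iv F279465)) (tt N29022 F275409) (tt N28316 F275410) (tt N27959 (iv D61792)) (tt N29877 D62647) (tt N28963 F275411) (tt N27964 F275412) (tt N28551 F275413))
theorem Q29024 : ∀ i, i < 29024 → P i := stepQ 29023 Q29023 (allL N29023 (tt N29878 D62648) (tt N27960 (iv D61793)) (tt N28321 F275414) (tt N27966 F275415) (tt N29879 D62649) (tt N27962 F275416) (tt N28473 F275417) (tt N28678 F275418) (tt N28314 F275419) (tt N28675 F275420))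
theorem Q29025 : ∀ i, i < 29025 → P i := stepQ 29024 Q29024 (allL N29024 (tt N28563 F275421) (tt N29879 (iv F279486)) (tt N27961 F275422) (tt N29880 D62650) (tt N27960 (iv D61794)) (tt N29881 D62651) (tt N28474 F275423) (tt N28679 F275424) (tt N28315 F275425) (tt N28676 F275426))
theorem Q29026 : ∀ i, i < 29026 → P i := stepQ 29025 Q29025 (allL N29025 (tt N28564 F275427) (tt N28323 F275428) (tt N29881 (iv F279499)) (tt N29025 F275429) (tt N27964 F275430) (tt N27961 (iv D61795)) (tt N29882 D62652) (tt N28680 F275431) (tt N28316 F275432) (tt N28677 F275433))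
theorem Q29027 : ∀ i, i < 29027 → P i := stepQ 29026 Q29026 (allL N29026 (tt N27962 (iv D61796)) (tt N28792 F275434) (tt N29867 (iv F279401)) (tt N27968 F275435) (tt N29883 D62653) (tt N29878 (iv F279481)) (tt N28739 F275436) (tt N28991 F275437) (tt N29873 (iv F279449)) (tt N28749 F275438))
theorem Q29028 : ∀ i, i < 29028 → P i := stepQ 29027 Q29027 (allL N29027 (tt N29883 (iv F279512)) (tt N27963 F275439) (tt N29868 (iv F279409)) (tt N28107 F275440) (tt N27962 (iv D61797)) (tt N29884 D62654) (tt N28740 F275441) (tt N28992 F275442) (tt N29874 (iv F279455)) (tt N28750 F275443))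
theorem Q29029 : ∀ i, i < 29029 → P i := stepQ 29028 Q29028 (allL N29028 (tt N28794 F275444) (tt N29884 (iv F279518)) (tt N27964 F275445) (tt N28108 F275446) (tt N29881 (iv F279500)) (tt N27963 (iv D61798)) (tt N29885 D62655) (tt N28990 F275447) (tt N29876 (iv F279468)) (tt N28751 F275448))
theorem Q29030 : ∀ i, i < 29030 → P i := stepQ 29029 Q29029 (allL N29029 (tt N28717 F275449) (tt N29871 (iv F279428)) (tt N29885 (iv F279523)) (tt N27965 F275450) (tt N29882 (iv F279507)) (tt N28531 F275451) (tt N27964 (iv D61799)) (tt N29872 (iv F279440)) (tt N29877 (iv F279476)) (tt N28729 F275452))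
theorem Q29031 : ∀ i, i < 29031 → P i := stepQ 29030 Q29030 (allL N29030 (tt N27966 (iv D61800)) (tt N28573 F275453) (tt N28442 F275454) (tt N29878 (iv F279480)) (tt N29886 D62656) (tt N27968 F275455) (tt N28480 F275456) (tt N29864 (iv F279383)) (tt N27989 F275457) (tt N28752 F275458))
theorem Q29032 : ∀ i, i < 29032 → P i := stepQ 29031 Q29031 (allL N29031 (tt N29886 (iv F279527)) (tt N27967 F275459) (tt N28443 F275460) (tt N29887 D62657) (tt N27966 (iv D61801)) (tt N28111 F275461) (tt N28481 F275462) (tt N29865 (iv F279390)) (tt N27990 F275463) (tt N28753 F275464))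
theorem Q29033 : ∀ i, i < 29033 → P i := stepQ 29032 Q29032 (allL N29032 (tt N28575 F275465) (tt N29887 (iv F279534)) (tt N29032 F275466) (tt N27967 (iv D61802)) (tt N29880 (iv F279494)) (tt N28112 F275467) (tt N28482 F275468) (tt N29866 (iv F279398)) (tt N29888 D62658) (tt N28754 F275469))
theorem Q29034 : ∀ i, i < 29034 → P i := stepQ 29033 Q29033 (allL N29033 (tt N27969 (iv D61803)) (tt N28093 F275470) (tt N28447 F275471) (tt N28833 F275472) (tt N28117 F275473) (tt N28900 F275474) (tt N27980 F275475) (tt N28061 F275476) (tt N28062 F275477) (tt N27996 F275478))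
theorem Q29035 : ∀ i, i < 29035 → P i := stepQ 29034 Q29034 (allL N29034 (tt N29889 D62659) (tt N27970 (iv D61804)) (tt N28758 F275479) (tt N28961 F275480) (tt N29890 D62660) (tt N28542 F275481) (tt N28799 F275482) (tt N27983 F275483) (tt N27972 F275484) (tt N28789 F275485))
theorem Q29036 : ∀ i, i < 29036 → P i := stepQ 29035 Q29035 (allL N29035 (tt N28550 F275486) (tt N29890 (iv F279551)) (tt N27971 F275487) (tt N29891 D62661) (tt N27970 (iv D61805)) (tt N29892 D62662) (tt N28800 F275488) (tt N27984 F275489) (tt N27973 F275490) (tt N28790 F275491))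
theorem Q29037 : ∀ i, i < 29037 → P i := stepQ 29036 Q29036 (allL N29036 (tt N28551 F275492) (tt N28496 F275493) (tt N29892 (iv F279566)) (tt N29036 F275494) (tt N28544 F275495) (tt N27971 (iv D61806)) (tt N29893 D62663) (tt N27985 F275496) (tt N27974 F275497) (tt N28791 F275498))
theorem Q29038 : ∀ i, i < 29038 → P i := stepQ 29037 Q29037 (allL N29037 (tt N27972 (iv D61807)) (tt N28972 F275499) (tt N28764 F275500) (tt N27980 F275501) (tt N29894 D62664) (tt N28755 F275502) (tt N28833 F275503) (tt N27986 F275504) (tt N29889 (iv F279549)) (tt N28000 F275505))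
theorem Q29039 : ∀ i, i < 29039 → P i := stepQ 29038 Q29038 (allL N29038 (tt N29894 (iv F279580)) (tt N27973 F275506) (tt N28765 F275507) (tt N28123 F275508) (tt N27972 (iv D61808)) (tt N29895 D62665) (tt N28834 F275509) (tt N27987 F275510) (tt N29890 (iv F279555)) (tt N28001 F275511))
theorem Q29040 : ∀ i, i < 29040 → P i := stepQ 29039 Q29039 (allL N29039 (tt N28784 F275512) (tt N29895 (iv F279587)) (tt N27974 F275513) (tt N28124 F275514) (tt N28757 F275515) (tt N27973 (iv D61809)) (tt N29896 D62666) (tt N27988 F275516) (tt N29892 (iv F279570)) (tt N28002 F275517))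
theorem Q29041 : ∀ i, i < 29041 → P i := stepQ 29040 Q29040 (allL N29040 (tt N28099 F275518) (tt N28495 F275519) (tt N29896 (iv F279594)) (tt N27975 F275520) (tt N28545 F275521) (tt N28836 F275522) (tt N27974 (iv D61810)) (tt N28317 F275523) (tt N29893 (iv F279578)) (tt N28003 F275524))
theorem Q29042 : ∀ i, i < 29042 → P i := stepQ 29041 Q29041 (allL N29041 (tt N29897 D62667) (tt N27976 (iv D61811)) (tt N28222 F275525) (tt N28747 F275526) (tt N29898 D62668) (tt N28350 F275527) (tt N27978 F275528) (tt N28486 F275529) (tt N28397 F275530) (tt N28004 F275531))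
theorem Q29043 : ∀ i, i < 29043 → P i := stepQ 29042 Q29042 (allL N29042 (tt N28589 F275532) (tt N29898 (iv F279608)) (tt N27977 F275533) (tt N29899 D62669) (tt N27976 (iv D61812)) (tt N29900 D62670) (tt N27979 F275534) (tt N28487 F275535) (tt N28398 F275536) (tt N28005 F275537))
theorem Q29044 : ∀ i, i < 29044 → P i := stepQ 29043 Q29043 (allL N29043 (tt N28408 F275538) (tt N28224 F275539) (tt N29900 (iv F279622)) (tt N27993 F275540) (tt N28352 F275541) (tt N27977 (iv D61813)) (tt N28127 F275542) (tt N28488 F275543) (tt N28399 F275544) (tt N28006 F275545))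
theorem Q29045 : ∀ i, i < 29045 → P i := stepQ 29044 Q29044 (allL N29044 (tt N27978 (iv D61814)) (tt N28603 F275546) (tt N28448 F275547) (tt N28755 F275548) (tt N29901 D62671) (tt N27980 F275549) (tt N29897 (iv F279604)) (tt N27989 F275550) (tt N29864 (iv F279384)) (tt N28007 F275551))
theorem Q29046 : ∀ i, i < 29046 → P i := stepQ 29045 Q29045 (allL N29045 (tt N29901 (iv F279629)) (tt N27979 F275552) (tt N28449 F275553) (tt N29902 D62672) (tt N27978 (iv D61815)) (tt N28129 F275554) (tt N29898 (iv F279610)) (tt N27990 F275555) (tt N29865 (iv F279391)) (tt N28008 F275556))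
theorem Q29047 : ∀ i, i < 29047 → P i := stepQ 29046 Q29046 (allL N29046 (tt N28605 F275557) (tt N29902 (iv F279635)) (tt N27994 F275558) (tt N27979 (iv D61816)) (tt N28723 F275559) (tt N28130 F275560) (tt N29899 (iv F279617)) (tt N27991 F275561) (tt N29903 D62673) (tt N28009 F275562))
theorem Q29048 : ∀ i, i < 29048 → P i := stepQ 29047 Q29047 (allL N29047 (tt N29904 D62674) (tt N27981 (iv D61817)) (tt N28103 F275563) (tt N28549 F275564) (tt N29905 D62675) (tt N28096 F275565) (tt N28120 F275566) (tt N28789 F275567) (tt N28021 F275568) (tt N27983 F275569))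
theorem Q29049 : ∀ i, i < 29049 → P i := stepQ 29048 Q29048 (allL N29048 (tt N28962 F275570) (tt N29905 (iv F279655)) (tt N27982 F275571) (tt N29906 D62676) (tt N27981 (iv D61818)) (tt N29907 D62677) (tt N28121 F275572) (tt N28790 F275573) (tt N28022 F275574) (tt N27984 F275575))
theorem Q29050 : ∀ i, i < 29050 → P i := stepQ 29049 Q29049 (allL N29049 (tt N28963 F275576) (tt N28105 F275577) (tt N29907 (iv F279669)) (tt N29049 F275578) (tt N28098 F275579) (tt N27982 (iv D61819)) (tt N28680 F275580) (tt N28791 F275581) (tt N28023 F275582) (tt N27985 F275583))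
theorem Q29051 : ∀ i, i < 29051 → P i := stepQ 29050 Q29050 (allL N29050 (tt N27983 (iv D61820)) (tt N28964 F275584) (tt N28775 F275585) (tt N29873 (iv F279445)) (tt N29908 D62678) (tt N28769 F275586) (tt N28696 F275587) (tt N29889 (iv F279548)) (tt N27986 F275588) (tt N29904 (iv F279654)))
theorem Q29052 : ∀ i, i < 29052 → P i := stepQ 29051 Q29051 (allL N29051 (tt N29908 (iv F279675)) (tt N27984 F275589) (tt N28776 F275590) (tt N29909 D62679) (tt N27983 (iv D61821)) (tt N29910 D62680) (tt N28690 F275591) (tt N29890 (iv F279554)) (tt N27987 F275592) (tt N29905 (iv F279660)))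
theorem Q29053 : ∀ i, i < 29053 → P i := stepQ 29052 Q29052 (allL N29052 (tt N28966 F275593) (tt N29909 (iv F279680)) (tt N29052 F275594) (tt N27984 (iv D61822)) (tt N29875 (iv F279459)) (tt N29911 D62681) (tt N28691 F275595) (tt N29891 (iv F279561)) (tt N28140 F275596) (tt N29906 (iv F279667)))
theorem Q29054 : ∀ i, i < 29054 → P i := stepQ 29053 Q29053 (allL N29053 (tt N28960 F275597) (tt N29910 (iv F279683)) (tt N27985 F275598) (tt N29911 (iv F279690)) (tt N28772 F275599) (tt N27984 (iv D61823)) (tt N28684 F275600) (tt N29892 (iv F279569)) (tt N27988 F275601) (tt N29907 (iv F279674)))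
theorem Q29055 : ∀ i, i < 29055 → P i := stepQ 29054 Q29054 (allL N29054 (tt N27987 F275602) (tt N28974 F275603) (tt N28780 F275604) (tt N28143 F275605) (tt N27986 (iv D61824)) (tt N29912 D62682) (tt N28705 F275606) (tt N29894 (iv F279585)) (tt N29908 (iv F279679)) (tt N28032 F275607))
theorem Q29056 : ∀ i, i < 29056 → P i := stepQ 29055 Q29055 (allL N29055 (tt N29912 (iv F279694)) (tt N27988 F275608) (tt N28493 F275609) (tt N28144 F275610) (tt N28774 F275611) (tt N27987 (iv D61825)) (tt N28703 F275612) (tt N29895 (iv F279591)) (tt N29910 (iv F279687)) (tt N28033 F275613))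
theorem Q29057 : ∀ i, i < 29057 → P i := stepQ 29056 Q29056 (allL N29056 (tt N27990 F275614) (tt N28606 F275615) (tt N28450 F275616) (tt N29913 D62683) (tt N27989 (iv D61826)) (tt N28149 F275617) (tt N28492 F275618) (tt N29901 (iv F279633)) (tt N29886 (iv F279532)) (tt N28035 F275619))
theorem Q29058 : ∀ i, i < 29058 → P i := stepQ 29057 Q29057 (allL N29057 (tt N29913 (iv F279701)) (tt N27991 F275620) (tt N28703 F275621) (tt N27990 (iv D61827)) (tt N28726 F275622) (tt N28150 F275623) (tt N28493 F275624) (tt N29902 (iv F279639)) (tt N29914 D62684) (tt N28036 F275625))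
theorem Q29059 : ∀ i, i < 29059 → P i := stepQ 29058 Q29058 (allL N29058 (tt N28608 F275626) (tt N29914 (iv F279708)) (tt N27995 F275627) (tt N29888 (iv F279540)) (tt N28727 F275628) (tt N28151 F275629) (tt N28494 F275630) (tt N29903 (iv F279645)) (tt N27991 (iv D61828)) (tt N29915 D62685))
theorem Q29060 : ∀ i, i < 29060 → P i := stepQ 29059 Q29059 (allL N29059 (tt N28613 F275631) (tt N28317 F275632) (tt N29899 (iv F279615)) (tt N27992 (iv D61829)) (tt N28720 F275633) (tt N28722 F275634) (tt N27994 F275635) (tt N28495 F275636) (tt N29916 D62686) (tt N28040 F275637))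
theorem Q29061 : ∀ i, i < 29061 → P i := stepQ 29060 Q29060 (allL N29060 (tt N28618 F275638) (tt N28677 F275639) (tt N29903 (iv F279642)) (tt N29060 F275640) (tt N28724 F275641) (tt N28152 F275642) (tt N29916 (iv F279725)) (tt N27995 F275643) (tt N27994 (iv D61830)) (tt N28323 F275644))
theorem Q29062 : ∀ i, i < 29062 → P i := stepQ 29061 Q29061 (allL N29061 (tt N28619 F275645) (tt N28680 F275646) (tt N29915 (iv F279714)) (tt N29061 F275647) (tt N28109 F275648) (tt N28153 F275649) (tt N28105 F275650) (tt N28323 F275651) (tt N28042 F275652) (tt N27995 (iv D61831)))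
theorem Q29063 : ∀ i, i < 29063 → P i := stepQ 29062 Q29062 (allL N29062 (tt N27997 (iv D61832)) (tt N28699 F275653) (tt N28739 F275654) (tt N28007 F275655) (tt N29917 D62687) (tt N28000 F275656) (tt N29867 (iv F279404)) (tt N28028 F275657) (tt N28816 F275658) (tt N28755 F275659))
theorem Q29064 : ∀ i, i < 29064 → P i := stepQ 29063 Q29063 (allL N29063 (tt N29917 (iv F279728)) (tt N27998 F275660) (tt N28740 F275661) (tt N29918 D62688) (tt N27997 (iv D61833)) (tt N29919 D62689) (tt N29868 (iv F279410)) (tt N28029 F275662) (tt N28817 F275663) (tt N28756 F275664))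
theorem Q29065 : ∀ i, i < 29065 → P i := stepQ 29064 Q29064 (allL N29064 (tt N28616 F275665) (tt N29918 (iv F279734)) (tt N28038 F275666) (tt N27998 (iv D61834)) (tt N28009 F275667) (tt N28559 (iv F275670)) (tt N29869 (iv F279417)) (tt N28030 F275668) (tt N28568 F275671) (tt N28723 F275669))
theorem Q29066 : ∀ i, i < 29066 → P i := stepQ 29065 Q29065 (allL N29065 (tt N28701 F275672) (tt N29919 (iv F279741)) (tt N27999 F275673) (tt N28559 F275674) (tt N28002 F275675) (tt N27998 (iv D61835)) (tt N29920 D62690) (tt N28031 F275676) (tt N28819 F275677) (tt N28757 F275678))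
theorem Q29067 : ∀ i, i < 29067 → P i := stepQ 29066 Q29066 (allL N29066 (tt N28317 F275679) (tt N28531 F275680) (tt N29920 (iv F279749)) (tt N28039 F275681) (tt N28003 F275682) (tt N29871 (iv F279431)) (tt N27999 (iv D61836)) (tt N28099 F275683) (tt N28730 F275684) (tt N28545 F275685))
theorem Q29068 : ∀ i, i < 29068 → P i := stepQ 29067 Q29067 (allL N29067 (tt N28001 F275686) (tt N28995 F275687) (tt N28936 F275688) (tt N28167 F275689) (tt N28000 (iv D61837)) (tt N29921 D62691) (tt N28837 F275690) (tt N28032 F275691) (tt N28820 F275692) (tt N29894 (iv F279586)))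
theorem Q29069 : ∀ i, i < 29069 → P i := stepQ 29068 Q29068 (allL N29068 (tt N29921 (iv F279755)) (tt N28002 F275693) (tt N28516 F275694) (tt N28168 F275695) (tt N29919 (iv F279744)) (tt N28001 (iv D61838)) (tt N29922 D62692) (tt N28033 F275696) (tt N28821 F275697) (tt N29895 (iv F279592)))
theorem Q29070 : ∀ i, i < 29070 → P i := stepQ 29069 Q29069 (allL N29069 (tt N28771 F275698) (tt N29922 (iv F279761)) (tt N28003 F275699) (tt N28169 F275700) (tt N29920 (iv F279751)) (tt N28839 F275701) (tt N28002 (iv D61839)) (tt N28554 F275702) (tt N28728 F275703) (tt N29896 (iv F279599)))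
theorem Q29071 : ∀ i, i < 29071 → P i := stepQ 29070 Q29070 (allL N29070 (tt N28004 (iv D61840)) (tt N28658 F275704) (tt N28439 F275705) (tt N29867 (iv F279402)) (tt N29923 D62693) (tt N28353 F275706) (tt N28007 F275707) (tt N28511 F275708) (tt N28357 F275709) (tt N29897 (iv F279607)))
theorem Q29072 : ∀ i, i < 29072 → P i := stepQ 29071 Q29071 (allL N29071 (tt N29923 (iv F279767)) (tt N28005 F275710) (tt N28440 F275711) (tt N29924 D62694) (tt N28004 (iv D61841)) (tt N29925 D62695) (tt N28008 F275712) (tt N28512 F275713) (tt N28358 F275714) (tt N29898 (iv F279613)))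
theorem Q29073 : ∀ i, i < 29073 → P i := stepQ 29072 Q29072 (allL N29072 (tt N28660 F275715) (tt N29924 (iv F279773)) (tt N28040 F275716) (tt N28005 (iv D61842)) (tt N29869 (iv F279416)) (tt N28664 (iv F275720)) (tt N28009 F275717) (tt N28513 F275718) (tt N28572 F275719) (tt N29899 (iv F279619)))
theorem Q29074 : ∀ i, i < 29074 → P i := stepQ 29073 Q29073 (allL N29073 (tt N28413 F275721) (tt N29925 (iv F279779)) (tt N28006 F275722) (tt N28664 F275723) (tt N28356 F275724) (tt N28005 (iv D61843)) (tt N28174 F275725) (tt N28514 F275726) (tt N28294 F275727) (tt N29900 (iv F279628)))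
theorem Q29075 : ∀ i, i < 29075 → P i := stepQ 29074 Q29074 (allL N29074 (tt N28008 F275728) (tt N28708 F275729) (tt N28455 F275730) (tt N29926 D62696) (tt N28007 (iv D61844)) (tt N28175 F275731) (tt N29923 (iv F279770)) (tt N28035 F275732) (tt N28898 F275733) (tt N29901 (iv F279634)))
theorem Q29076 : ∀ i, i < 29076 → P i := stepQ 29075 Q29075 (allL N29075 (tt N29926 (iv F279786)) (tt N28009 F275734) (tt N28944 F275735) (tt N28008 (iv D61845)) (tt N29918 (iv F279736)) (tt N28176 F275736) (tt N29924 (iv F279775)) (tt N28036 F275737) (tt N28571 (iv F275738)) (tt N29902 (iv F279640)))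
theorem Q29077 : ∀ i, i < 29077 → P i := stepQ 29076 Q29076 (allL N29076 (tt N29927 D62697) (tt N28010 (iv D61846)) (tt N28021 F275739) (tt N28135 F275740) (tt N29928 D62698) (tt N28100 F275741) (tt N28118 F275742) (tt N28694 F275743) (tt N28103 F275744) (tt N28012 F275745))
theorem Q29078 : ∀ i, i < 29078 → P i := stepQ 29077 Q29077 (allL N29077 (tt N28461 F275746) (tt N29928 (iv F279800)) (tt N28011 F275747) (tt N28374 F275748) (tt N28010 (iv D61847)) (tt N28530 (iv F275753)) (tt N28119 F275749) (tt N28406 F275750) (tt N28104 F275751) (tt N28013 F275752))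
theorem Q29079 : ∀ i, i < 29079 → P i := stepQ 29078 Q29078 (allL N29078 (tt N28012 (iv D61848)) (tt N28810 F275754) (tt N28024 F275755) (tt N28622 F275756) (tt N29929 D62699) (tt N28743 F275757) (tt N28164 F275758) (tt N28695 F275759) (tt N28014 F275760) (tt N29927 (iv F279799)))
theorem Q29080 : ∀ i, i < 29080 → P i := stepQ 29079 Q29079 (allL N29079 (tt N29929 (iv F279808)) (tt N28013 F275761) (tt N28025 F275762) (tt N28376 F275763) (tt N28012 (iv D61849)) (tt N28529 (iv F275767)) (tt N28165 F275764) (tt N28410 F275765) (tt N28015 F275766) (tt N29928 (iv F279806)))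
theorem Q29081 : ∀ i, i < 29081 → P i := stepQ 29080 Q29080 (allL N29080 (tt N28015 F275768) (tt N28459 F275769) (tt N28032 F275770) (tt N28435 F275771) (tt N28014 (iv D61850)) (tt N28528 (iv F275775)) (tt N28742 F275772) (tt N28936 F275773) (tt N29929 (iv F279814)) (tt N28780 F275774))
theorem Q29082 : ∀ i, i < 29082 → P i := stepQ 29081 Q29081 (allL N29081 (tt N29930 D62700) (tt N28016 (iv D61851)) (tt N28100 F275776) (tt N28115 F275777) (tt N29931 D62701) (tt N28021 F275778) (tt N28519 F275779) (tt N28562 F275780) (tt N28096 F275781) (tt N28018 F275782))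
theorem Q29083 : ∀ i, i < 29083 → P i := stepQ 29082 Q29082 (allL N29082 (tt N28679 F275783) (tt N29931 (iv F279824)) (tt N28017 F275784) (tt N29932 D62702) (tt N28016 (iv D61852)) (tt N29933 D62703) (tt N28520 F275785) (tt N28563 F275786) (tt N28097 F275787) (tt N28019 F275788))
theorem Q29084 : ∀ i, i < 29084 → P i := stepQ 29083 Q29083 (allL N29083 (tt N28680 F275789) (tt N28102 F275790) (tt N29933 (iv F279837)) (tt N29083 F275791) (tt N28023 F275792) (tt N28017 (iv D61853)) (tt N28963 F275793) (tt N28564 F275794) (tt N28098 F275795) (tt N28020 F275796))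
theorem Q29085 : ∀ i, i < 29085 → P i := stepQ 29084 Q29084 (allL N29084 (tt N28018 (iv D61854)) (tt N28681 F275797) (tt N28743 F275798) (tt N28159 F275799) (tt N29934 D62704) (tt N28024 F275800) (tt N28521 F275801) (tt N28816 F275802) (tt N28028 F275803) (tt N29930 (iv F279823)))
theorem Q29086 : ∀ i, i < 29086 → P i := stepQ 29085 Q29085 (allL N29085 (tt N29934 (iv F279843)) (tt N28019 F275804) (tt N28744 F275805) (tt N29935 D62705) (tt N28018 (iv D61855)) (tt N29936 D62706) (tt N28522 F275806) (tt N28817 F275807) (tt N28029 F275808) (tt N29931 (iv F279829)))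
theorem Q29087 : ∀ i, i < 29087 → P i := stepQ 29086 Q29086 (allL N29086 (tt N28683 F275809) (tt N29935 (iv F279849)) (tt N29086 F275810) (tt N28019 (iv D61856)) (tt N28161 F275811) (tt N29937 D62707) (tt N28523 F275812) (tt N28818 F275813) (tt N29938 D62708) (tt N29932 (iv F279835)))
theorem Q29088 : ∀ i, i < 29088 → P i := stepQ 29087 Q29087 (allL N29087 (tt N28684 F275814) (tt N29936 (iv F279853)) (tt N28020 F275815) (tt N29937 (iv F279861)) (tt N28026 F275816) (tt N28019 (iv D61857)) (tt N28960 F275817) (tt N28819 F275818) (tt N28031 F275819) (tt N29933 (iv F279842)))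
theorem Q29089 : ∀ i, i < 29089 → P i := stepQ 29088 Q29088 (allL N29088 (tt N28021 (iv D61858)) (tt N28991 F275820) (tt N29927 (iv F279793)) (tt N28117 F275821) (tt N29939 D62709) (tt N29930 (iv F279819)) (tt N28122 F275822) (tt N28792 F275823) (tt N29904 (iv F279653)) (tt N28024 F275824))
theorem Q29090 : ∀ i, i < 29090 → P i := stepQ 29089 Q29089 (allL N29089 (tt N29939 (iv F279873)) (tt N28022 F275825) (tt N29928 (iv F279801)) (tt N28834 F275826) (tt N28021 (iv D61859)) (tt N29940 D62710) (tt N28123 F275827) (tt N28793 F275828) (tt N29905 (iv F279659)) (tt N28025 F275829))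
theorem Q29091 : ∀ i, i < 29091 → P i := stepQ 29090 Q29090 (allL N29090 (tt N28990 F275830) (tt N29940 (iv F279879)) (tt N28023 F275831) (tt N28835 F275832) (tt N29933 (iv F279838)) (tt N28022 (iv D61860)) (tt N29941 D62711) (tt N28794 F275833) (tt N29907 (iv F279673)) (tt N28026 F275834))
theorem Q29092 : ∀ i, i < 29092 → P i := stepQ 29091 Q29091 (allL N29091 (tt N28098 F275835) (tt N28042 F275836) (tt N29941 (iv F279885)) (tt N28043 F275837) (tt N28963 F275838) (tt N28095 F275839) (tt N28023 (iv D61861)) (tt N28316 (iv F275842)) (tt N28680 F275840) (tt N28027 F275841))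
theorem Q29093 : ∀ i, i < 29093 → P i := stepQ 29092 Q29092 (allL N29092 (tt N28025 F275843) (tt N28993 F275844) (tt N29929 (iv F279810)) (tt N28837 F275845) (tt N28024 (iv D61862)) (tt N29942 D62712) (tt N28167 F275846) (tt N28820 F275847) (tt N28032 F275848) (tt N29939 (iv F279878)))
theorem Q29094 : ∀ i, i < 29094 → P i := stepQ 29093 Q29093 (allL N29093 (tt N29942 (iv F279892)) (tt N28026 F275849) (tt N28529 F275850) (tt N28838 F275851) (tt N29936 (iv F279855)) (tt N28025 (iv D61863)) (tt N29943 D62713) (tt N28821 F275852) (tt N28033 F275853) (tt N29940 (iv F279883)))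
theorem Q29095 : ∀ i, i < 29095 → P i := stepQ 29094 Q29094 (allL N29094 (tt N28772 F275854) (tt N29943 (iv F279898)) (tt N28027 F275855) (tt N28839 F275856) (tt N28960 F275857) (tt N28169 F275858) (tt N28026 (iv D61864)) (tt N28555 (iv F275860)) (tt N28034 F275859) (tt N29941 (iv F279890)))
theorem Q29096 : ∀ i, i < 29096 → P i := stepQ 29095 Q29095 (allL N29095 (tt N28029 F275861) (tt N28702 F275862) (tt N28746 F275863) (tt N29944 D62714) (tt N28028 (iv D61865)) (tt N29945 D62715) (tt N28525 F275864) (tt N29917 (iv F279731)) (tt N29934 (iv F279848)) (tt N28773 F275865))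
theorem Q29097 : ∀ i, i < 29097 → P i := stepQ 29096 Q29096 (allL N29096 (tt N29944 (iv F279905)) (tt N28030 F275866) (tt N28959 F275867) (tt N28029 (iv D61866)) (tt N28036 F275868) (tt N28844 (iv F275871)) (tt N28526 F275869) (tt N29918 (iv F279737)) (tt N29946 D62716) (tt N28726 F275870))
theorem Q29098 : ∀ i, i < 29098 → P i := stepQ 29097 Q29097 (allL N29097 (tt N29945 (iv F279912)) (tt N28031 F275872) (tt N28526 F275873) (tt N28844 F275874) (tt N28033 F275875) (tt N28029 (iv D61867)) (tt N28959 F275876) (tt N29919 (iv F279745)) (tt N29936 (iv F279858)) (tt N28774 F275877))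
theorem Q29099 : ∀ i, i < 29099 → P i := stepQ 29098 Q29098 (allL N29098 (tt N28620 F275878) (tt N29946 (iv F279919)) (tt N28041 F275879) (tt N29938 (iv F279868)) (tt N28037 F275880) (tt N28535 F275881) (tt N28527 F275882) (tt N28568 F275883) (tt N28030 (iv D61868)) (tt N29947 D62717))
theorem Q29100 : ∀ i, i < 29100 → P i := stepQ 29099 Q29099 (allL N29099 (tt N28033 F275884) (tt N28988 F275885) (tt N28528 F275886) (tt N28194 F275887) (tt N29945 (iv F279916)) (tt N28032 (iv D61869)) (tt N29948 D62718) (tt N29921 (iv F279759)) (tt N29942 (iv F279897)) (tt N29912 (iv F279700)))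
theorem Q29101 : ∀ i, i < 29101 → P i := stepQ 29100 Q29100 (allL N29100 (tt N29948 (iv F279932)) (tt N28034 F275888) (tt N28036 F275889) (tt N28195 F275890) (tt N28959 F275891) (tt N28200 F275892) (tt N28033 (iv D61870)) (tt N28944 (iv F275894)) (tt N29943 (iv F279903)) (tt N28703 F275893))
theorem Q29102 : ∀ i, i < 29102 → P i := stepQ 29101 Q29101 (allL N29101 (tt N28036 F275895) (tt N28710 F275896) (tt N29948 (iv F279934)) (tt N28035 (iv D61871)) (tt N29944 (iv F279908)) (tt N28199 F275897) (tt N28528 F275898) (tt N29926 (iv F279790)) (tt N29949 D62719) (tt N29913 (iv F279707)))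
theorem Q29103 : ∀ i, i < 29103 → P i := stepQ 29102 Q29102 (allL N29102 (tt N29949 (iv F279940)) (tt N28037 F275899) (tt N29943 (iv F279899)) (tt N29859 (iv F279342)) (tt N29946 (iv F279921)) (tt N28201 F275900) (tt N28529 F275901) (tt N28571 F275902) (tt N28036 (iv D61872)) (tt N29950 D62720))
theorem Q29104 : ∀ i, i < 29104 → P i := stepQ 29103 Q29103 (allL N29103 (tt N28712 F275903) (tt N29950 (iv F279945)) (tt N28042 F275904) (tt N29860 (iv F279349)) (tt N29947 (iv F279927)) (tt N28202 F275905) (tt N28530 F275906) (tt N28329 F275907) (tt N29915 (iv F279719)) (tt N28037 (iv D61873)))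
theorem Q29105 : ∀ i, i < 29105 → P i := stepQ 29104 Q29104 (allL N29104 (tt N28621 F275908) (tt N28963 F275909) (tt N29947 (iv F279926)) (tt N29104 F275910) (tt N28042 F275911) (tt N28309 F275912) (tt N28102 F275913) (tt N28326 F275914) (tt N28109 F275915) (tt N28041 (iv D61874)))
theorem Q29106 : ∀ i, i < 29106 → P i := stepQ 29105 Q29105 (allL N29105 (tt N28044 (iv D61875)) (tt N28462 F275916) (tt N28062 F275917) (tt N28456 F275918) (tt N28532 F275919) (tt N28464 F275920) (tt N28438 F275921) (tt N28045 F275922) (tt N28447 F275923) (tt N28052 F275924))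
theorem Q29107 : ∀ i, i < 29107 → P i := stepQ 29106 Q29106 (allL N29106 (tt N29951 D62721) (tt N28046 (iv D61876)) (tt N28486 F275925) (tt N28049 F275926) (tt N29863 (iv F279374)) (tt N28869 F275927) (tt N28050 F275928) (tt N28222 F275929) (tt N28878 F275930) (tt N28381 F275931))
theorem Q29108 : ∀ i, i < 29108 → P i := stepQ 29107 Q29107 (allL N29107 (tt N29952 D62722) (tt N28047 (iv D61877)) (tt N28069 F275932) (tt N28869 F275933) (tt N29953 D62723) (tt N28049 F275934) (tt N28383 F275935) (tt N28225 F275936) (tt N28207 F275937) (tt N28436 F275938))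
theorem Q29109 : ∀ i, i < 29109 → P i := stepQ 29108 Q29108 (allL N29108 (tt N28232 F275939) (tt N29953 (iv F279965)) (tt N28048 F275940) (tt N29954 D62724) (tt N28047 (iv D61878)) (tt N28312 F275941) (tt N28384 F275942) (tt N28226 F275943) (tt N28208 F275944) (tt N28437 F275945))
theorem Q29110 : ∀ i, i < 29110 → P i := stepQ 29109 Q29109 (allL N29109 (tt N28049 (iv D61879)) (tt N28463 F275946) (tt N28071 F275947) (tt N29951 (iv F279951)) (tt N28313 F275948) (tt N29952 (iv F279960)) (tt N28052 F275949) (tt N28227 F275950) (tt N28228 F275951) (tt N28438 F275952))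
theorem Q29111 : ∀ i, i < 29111 → P i := stepQ 29110 Q29110 (allL N29110 (tt N28050 (iv D61880)) (tt N28464 F275953) (tt N28489 F275954) (tt N28052 F275955) (tt N29955 D62725) (tt N28462 F275956) (tt N29951 (iv F279953)) (tt N28055 F275957) (tt N28916 F275958) (tt N28456 F275959))
theorem Q29112 : ∀ i, i < 29112 → P i := stepQ 29111 Q29111 (allL N29111 (tt N29955 (iv F279980)) (tt N28051 F275960) (tt N28490 F275961) (tt N28865 F275962) (tt N28050 (iv D61881)) (tt N28925 F275963) (tt N29863 (iv F279375)) (tt N28056 F275964) (tt N28917 F275965) (tt N28457 F275966))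
theorem Q29113 : ∀ i, i < 29113 → P i := stepQ 29112 Q29112 (allL N29112 (tt N28053 (iv D61882)) (tt N28466 F275967) (tt N28480 F275968) (tt N28452 F275969) (tt N29956 D62726) (tt N28451 F275970) (tt N28442 F275971) (tt N28916 F275972) (tt N28055 F275973) (tt N28914 F275974))
theorem Q29114 : ∀ i, i < 29114 → P i := stepQ 29113 Q29113 (allL N29113 (tt N29956 (iv F279988)) (tt N28054 F275975) (tt N28481 F275976) (tt N29957 D62727) (tt N28053 (iv D61883)) (tt N28931 F275977) (tt N28443 F275978) (tt N28917 F275979) (tt N28056 F275980) (tt N28915 F275981))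
theorem Q29115 : ∀ i, i < 29115 → P i := stepQ 29114 Q29114 (allL N29114 (tt N28468 F275982) (tt N29957 (iv F279996)) (tt N29114 F275983) (tt N28054 (iv D61884)) (tt N28454 F275984) (tt N28932 F275985) (tt N28444 F275986) (tt N28918 F275987) (tt N28855 F275988) (tt N28637 F275989))
theorem Q29116 : ∀ i, i < 29116 → P i := stepQ 29115 Q29115 (allL N29115 (tt N28056 F275990) (tt N28469 F275991) (tt N28492 F275992) (tt N28866 F275993) (tt N28055 (iv D61885)) (tt N28933 F275994) (tt N28450 F275995) (tt N29955 (iv F279985)) (tt N29956 (iv F279994)) (tt N28458 F275996))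
theorem Q29117 : ∀ i, i < 29117 → P i := stepQ 29116 Q29116 (allL N29116 (tt N28058 F275997) (tt N28458 F275998) (tt N28077 F275999) (tt N28742 F276000) (tt N28057 (iv D61886)) (tt N28198 F276001) (tt N28435 F276002) (tt N28910 F276003) (tt N28908 F276004) (tt N28469 F276005))
theorem Q29118 : ∀ i, i < 29118 → P i := stepQ 29117 Q29117 (allL N29117 (tt N28059 (iv D61887)) (tt N28110 F276006) (tt N28466 F276007) (tt N28856 F276008) (tt N29958 D62728) (tt N28061 F276009) (tt N28930 F276010) (tt N28900 F276011) (tt N28067 F276012) (tt N28733 F276013))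
theorem Q29119 : ∀ i, i < 29119 → P i := stepQ 29118 Q29118 (allL N29118 (tt N29958 (iv F280003)) (tt N28060 F276014) (tt N28467 F276015) (tt N29959 D62729) (tt N28059 (iv D61888)) (tt N28574 F276016) (tt N28931 F276017) (tt N28901 F276018) (tt N28068 F276019) (tt N28734 F276020))
theorem Q29120 : ∀ i, i < 29120 → P i := stepQ 29119 Q29119 (allL N29119 (tt N28112 F276021) (tt N29959 (iv F280011)) (tt N29119 F276022) (tt N28060 (iv D61889)) (tt N28858 F276023) (tt N28575 F276024) (tt N28932 F276025) (tt N28902 F276026) (tt N28807 F276027) (tt N28735 F276028))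
theorem Q29121 : ∀ i, i < 29121 → P i := stepQ 29120 Q29120 (allL N29120 (tt N28063 (iv D61890)) (tt N28138 F276029) (tt N28521 F276030) (tt N28811 F276031) (tt N29960 D62730) (tt N28518 F276032) (tt N28743 F276033) (tt N28967 F276034) (tt N28065 F276035) (tt N28785 F276036))
theorem Q29122 : ∀ i, i < 29122 → P i := stepQ 29121 Q29121 (allL N29121 (tt N29960 (iv F280018)) (tt N28064 F276037) (tt N28522 F276038) (tt N29961 D62731) (tt N28063 (iv D61891)) (tt N28956 F276039) (tt N28744 F276040) (tt N28968 F276041) (tt N28066 F276042) (tt N28786 F276043))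
theorem Q29123 : ∀ i, i < 29123 → P i := stepQ 29122 Q29122 (allL N29122 (tt N28140 F276044) (tt N29961 (iv F280026)) (tt N29122 F276045) (tt N28064 (iv D61892)) (tt N28813 F276046) (tt N28957 F276047) (tt N28745 F276048) (tt N28969 F276049) (tt N28966 F276050) (tt N28787 F276051))
theorem Q29124 : ∀ i, i < 29124 → P i := stepQ 29123 Q29123 (allL N29123 (tt N28066 F276052) (tt N28143 F276053) (tt N28525 F276054) (tt N28974 F276055) (tt N28065 (iv D61893)) (tt N28958 F276056) (tt N28746 F276057) (tt N28994 F276058) (tt N29960 (iv F280024)) (tt N28072 F276059))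
theorem Q29125 : ∀ i, i < 29125 → P i := stepQ 29124 Q29124 (allL N29124 (tt N28068 F276060) (tt N28149 F276061) (tt N28469 F276062) (tt N28809 F276063) (tt N28067 (iv D61894)) (tt N28606 F276064) (tt N28933 F276065) (tt N28912 F276066) (tt N29958 (iv F280009)) (tt N28077 F276067))
theorem Q29126 : ∀ i, i < 29126 → P i := stepQ 29125 Q29125 (allL N29125 (tt N28069 (iv D61895)) (tt N28159 F276068) (tt N29952 (iv F279958)) (tt N28681 F276069) (tt N29962 D62732) (tt N28071 F276070) (tt N28400 F276071) (tt N28752 F276072) (tt N28414 F276073) (tt N29864 (iv F279385)))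
theorem Q29127 : ∀ i, i < 29127 → P i := stepQ 29126 Q29126 (allL N29126 (tt N29962 (iv F280033)) (tt N28070 F276074) (tt N29953 (iv F279966)) (tt N29963 D62733) (tt N28069 (iv D61896)) (tt N28895 F276075) (tt N28401 F276076) (tt N28753 F276077) (tt N28415 F276078) (tt N29865 (iv F279392)))
theorem Q29128 : ∀ i, i < 29128 → P i := stepQ 29127 Q29127 (allL N29127 (tt N28161 F276079) (tt N29963 (iv F280039)) (tt N29127 F276080) (tt N28070 (iv D61897)) (tt N28683 F276081) (tt N28896 F276082) (tt N28402 F276083) (tt N28754 F276084) (tt N29964 D62734) (tt N29866 (iv F279399)))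
theorem Q29129 : ∀ i, i < 29129 → P i := stepQ 29128 Q29128 (allL N29128 (tt N28073 (iv D61898)) (tt N28196 F276085) (tt N28245 F276086) (tt N28623 F276087) (tt N29965 D62735) (tt N28431 F276088) (tt N28375 F276089) (tt N28075 F276090) (tt N28243 F276091) (tt N28924 F276092))
theorem Q29130 : ∀ i, i < 29130 → P i := stepQ 29129 Q29129 (allL N29129 (tt N29965 (iv F280051)) (tt N28074 F276093) (tt N28246 F276094) (tt N28165 F276095) (tt N28073 (iv D61899)) (tt N28457 F276096) (tt N28376 F276097) (tt N28076 F276098) (tt N28244 F276099) (tt N28925 F276100))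
theorem Q29131 : ∀ i, i < 29131 → P i := stepQ 29130 Q29130 (allL N29130 (tt N28076 F276101) (tt N28198 F276102) (tt N28435 F276103) (tt N28185 F276104) (tt N28075 (iv D61900)) (tt N28458 F276105) (tt N28077 F276106) (tt N29965 (iv F280057)) (tt N28906 F276107) (tt N28933 F276108))
theorem Q29132 : ∀ i, i < 29132 → P i := stepQ 29131 Q29131 (allL N29131 (tt N29966 D62736) (tt N28078 (iv D61901)) (tt N28085 F276109) (tt N28533 F276110) (tt N29967 D62737) (tt N28789 F276111) (tt N28558 F276112) (tt N28096 F276113) (tt N28562 F276114) (tt N28542 F276115))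
theorem Q29133 : ∀ i, i < 29133 → P i := stepQ 29132 Q29132 (allL N29132 (tt N28315 F276116) (tt N29967 (iv F280068)) (tt N28079 F276117) (tt N29920 (iv F279750)) (tt N28078 (iv D61902)) (tt N29968 D62738) (tt N28559 F276118) (tt N28097 F276119) (tt N28563 F276120) (tt N28543 F276121))
theorem Q29134 : ∀ i, i < 29134 → P i := stepQ 29133 Q29133 (allL N29133 (tt N28316 F276122) (tt N28087 F276123) (tt N29968 (iv F280075)) (tt N28080 F276124) (tt N28791 F276125) (tt N28079 (iv D61903)) (tt N29872 (iv F279439)) (tt N28098 F276126) (tt N28564 F276127) (tt N28544 F276128))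
theorem Q29135 : ∀ i, i < 29135 → P i := stepQ 29134 Q29134 (allL N29134 (tt N29969 D62739) (tt N28081 (iv D61904)) (tt N28562 F276129) (tt N28120 F276130) (tt N29970 D62740) (tt N28694 F276131) (tt N28549 F276132) (tt N28100 F276133) (tt N28085 F276134) (tt N28697 F276135))
theorem Q29136 : ∀ i, i < 29136 → P i := stepQ 29135 Q29135 (allL N29135 (tt N28800 F276136) (tt N29970 (iv F280088)) (tt N28082 F276137) (tt N29971 D62741) (tt N28081 (iv D61905)) (tt N29972 D62742) (tt N28550 F276138) (tt N28101 F276139) (tt N28086 F276140) (tt N28698 F276141))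
theorem Q29137 : ∀ i, i < 29137 → P i := stepQ 29136 Q29136 (allL N29136 (tt N28719 F276142) (tt N28564 F276143) (tt N29972 (iv F280102)) (tt N29136 F276144) (tt N28429 F276145) (tt N28082 (iv D61906)) (tt N29973 D62743) (tt N28102 F276146) (tt N28087 F276147) (tt N28430 F276148))
theorem Q29138 : ∀ i, i < 29138 → P i := stepQ 29137 Q29137 (allL N29137 (tt N29974 D62744) (tt N28083 (iv D61907)) (tt N28789 F276149) (tt N28091 F276150) (tt N29975 D62745) (tt N28085 F276151) (tt N28795 F276152) (tt N28103 F276153) (tt N28694 F276154) (tt N28758 F276155))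
theorem Q29139 : ∀ i, i < 29139 → P i := stepQ 29138 Q29138 (allL N29138 (tt N28829 F276156) (tt N29975 (iv F280123)) (tt N28084 F276157) (tt N29976 D62746) (tt N28083 (iv D61908)) (tt N29977 D62747) (tt N28796 F276158) (tt N28104 F276159) (tt N28406 F276160) (tt N28759 F276161))
theorem Q29140 : ∀ i, i < 29140 → P i := stepQ 29139 Q29139 (allL N29139 (tt N28617 F276162) (tt N28791 F276163) (tt N29977 (iv F280137)) (tt N29139 F276164) (tt N28087 F276165) (tt N28084 (iv D61909)) (tt N29978 D62748) (tt N28105 F276166) (tt N28429 F276167) (tt N28496 F276168))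
theorem Q29141 : ∀ i, i < 29141 → P i := stepQ 29140 Q29140 (allL N29140 (tt N28085 (iv D61910)) (tt N28833 F276169) (tt N29966 (iv F280061)) (tt N28093 F276170) (tt N29979 D62749) (tt N29974 (iv F280118)) (tt N28972 F276171) (tt N28106 F276172) (tt N29969 (iv F280086)) (tt N28760 F276173))
theorem Q29142 : ∀ i, i < 29142 → P i := stepQ 29141 Q29141 (allL N29141 (tt N29979 (iv F280150)) (tt N28086 F276174) (tt N29967 (iv F280069)) (tt N28992 F276175) (tt N28085 (iv D61911)) (tt N29980 D62750) (tt N28973 F276176) (tt N28107 F276177) (tt N29970 (iv F280092)) (tt N28761 F276178))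
theorem Q29143 : ∀ i, i < 29143 → P i := stepQ 29142 Q29142 (allL N29142 (tt N28835 F276179) (tt N29980 (iv F280156)) (tt N28087 F276180) (tt N28990 F276181) (tt N29977 (iv F280138)) (tt N28086 (iv D61912)) (tt N29981 D62751) (tt N28108 F276182) (tt N29972 (iv F280105)) (tt N28762 F276183))
theorem Q29144 : ∀ i, i < 29144 → P i := stepQ 29143 Q29143 (allL N29143 (tt N28836 F276184) (tt N29872 (iv F279436)) (tt N29981 (iv F280161)) (tt N28088 F276185) (tt N29978 (iv F280145)) (tt N28099 F276186) (tt N28087 (iv D61913)) (tt N29871 (iv F279432)) (tt N29973 (iv F280113)) (tt N28763 F276187))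
theorem Q29145 : ∀ i, i < 29145 → P i := stepQ 29144 Q29144 (allL N29144 (tt N29982 D62752) (tt N28089 (iv D61914)) (tt N28537 F276188) (tt N28795 F276189) (tt N29983 D62753) (tt N28588 F276190) (tt N28091 F276191) (tt N28580 F276192) (tt N28125 F276193) (tt N28277 F276194))
theorem Q29146 : ∀ i, i < 29146 → P i := stepQ 29145 Q29145 (allL N29145 (tt N28351 F276195) (tt N29983 (iv F280173)) (tt N28090 F276196) (tt N29984 D62754) (tt N28089 (iv D61915)) (tt N29985 D62755) (tt N28092 F276197) (tt N28581 F276198) (tt N28126 F276199) (tt N28278 F276200))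
theorem Q29147 : ∀ i, i < 29147 → P i := stepQ 29146 Q29146 (allL N29146 (tt N28352 F276201) (tt N28427 F276202) (tt N29985 (iv F280187)) (tt N29146 F276203) (tt N28408 F276204) (tt N28090 (iv D61916)) (tt N28399 F276205) (tt N28366 F276206) (tt N28127 F276207) (tt N28279 F276208))
theorem Q29148 : ∀ i, i < 29148 → P i := stepQ 29147 Q29147 (allL N29147 (tt N28091 (iv D61917)) (tt N28900 F276209) (tt N28539 F276210) (tt N29974 (iv F280117)) (tt N29986 D62756) (tt N28093 F276211) (tt N29982 (iv F280169)) (tt N28110 F276212) (tt N28128 F276213) (tt N28894 F276214))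
theorem Q29149 : ∀ i, i < 29149 → P i := stepQ 29148 Q29148 (allL N29148 (tt N29986 (iv F280193)) (tt N28092 F276215) (tt N28540 F276216) (tt N29987 D62757) (tt N28091 (iv D61918)) (tt N29865 (iv F279388)) (tt N29983 (iv F280175)) (tt N28111 F276217) (tt N28129 F276218) (tt N28895 F276219))
theorem Q29150 : ∀ i, i < 29150 → P i := stepQ 29149 Q29149 (allL N29149 (tt N28902 F276220) (tt N29987 (iv F280199)) (tt N29149 F276221) (tt N28092 (iv D61919)) (tt N29976 (iv F280131)) (tt N29866 (iv F279396)) (tt N29984 (iv F280182)) (tt N28112 F276222) (tt N29988 D62758) (tt N28896 F276223))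
theorem Q29151 : ∀ i, i < 29151 → P i := stepQ 29150 Q29150 (allL N29150 (tt N29989 D62759) (tt N28094 (iv D61920)) (tt N28310 F276224) (tt N28542 F276225) (tt N29990 D62760) (tt N28961 F276226) (tt N28598 F276227) (tt N28314 F276228) (tt N28678 F276229) (tt N28533 F276230))
theorem Q29152 : ∀ i, i < 29152 → P i := stepQ 29151 Q29151 (allL N29151 (tt N28097 F276231) (tt N29990 (iv F280217)) (tt N28095 F276232) (tt N29896 (iv F279595)) (tt N28094 (iv D61921)) (tt N29941 (iv F279888)) (tt N28124 F276233) (tt N28315 F276234) (tt N28679 F276235) (tt N28169 F276236))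
theorem Q29153 : ∀ i, i < 29153 → P i := stepQ 29152 Q29152 (allL N29152 (tt N28096 (iv D61922)) (tt N29989 (iv F280209)) (tt N28106 F276237) (tt N28552 F276238) (tt N29991 D62761) (tt N29904 (iv F279650)) (tt N28782 F276239) (tt N29966 (iv F280065)) (tt N29930 (iv F279822)) (tt N28769 F276240))
theorem Q29154 : ∀ i, i < 29154 → P i := stepQ 29153 Q29153 (allL N29153 (tt N29991 (iv F280223)) (tt N28097 F276241) (tt N28107 F276242) (tt N29992 D62762) (tt N28096 (iv D61923)) (tt N29993 D62763) (tt N28783 F276243) (tt N29967 (iv F280071)) (tt N29931 (iv F279828)) (tt N28770 F276244))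
theorem Q29155 : ∀ i, i < 29155 → P i := stepQ 29154 Q29154 (allL N29154 (tt N29896 (iv F279593)) (tt N29992 (iv F280227)) (tt N28099 F276245) (tt N28097 (iv D61924)) (tt N28554 F276246) (tt N29981 (iv F280163)) (tt N28784 F276247) (tt N29920 (iv F279752)) (tt N29994 D62764) (tt N28771 F276248))
theorem Q29156 : ∀ i, i < 29156 → P i := stepQ 29155 Q29155 (allL N29155 (tt N29941 (iv F279884)) (tt N29993 (iv F280231)) (tt N28098 F276249) (tt N29981 (iv F280162)) (tt N29907 (iv F279670)) (tt N28097 (iv D61925)) (tt N28990 F276250) (tt N29968 (iv F280077)) (tt N29933 (iv F279841)) (tt N28772 F276251))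
theorem Q29157 : ∀ i, i < 29157 → P i := stepQ 29156 Q29156 (allL N29156 (tt N29893 (iv F279572)) (tt N28569 F276252) (tt N29994 (iv F280235)) (tt N29156 F276253) (tt N28556 F276254) (tt N29973 (iv F280111)) (tt N28551 F276255) (tt N28730 F276256) (tt N28099 (iv D61926)) (tt N29877 (iv F279477)))
theorem Q29158 : ∀ i, i < 29158 → P i := stepQ 29157 Q29157 (allL N29157 (tt N28100 (iv D61927)) (tt N28811 F276257) (tt N29930 (iv F279817)) (tt N28138 F276258) (tt N29995 D62765) (tt N29927 (iv F279795)) (tt N28785 F276259) (tt N29969 (iv F280085)) (tt N28106 F276260) (tt N28743 F276261))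
theorem Q29159 : ∀ i, i < 29159 → P i := stepQ 29158 Q29158 (allL N29158 (tt N29995 (iv F280239)) (tt N28101 F276262) (tt N29931 (iv F279825)) (tt N29996 D62766) (tt N28100 (iv D61928)) (tt N29997 D62767) (tt N28786 F276263) (tt N29970 (iv F280091)) (tt N28107 F276264) (tt N28744 F276265))
theorem Q29160 : ∀ i, i < 29160 → P i := stepQ 29159 Q29159 (allL N29159 (tt N28813 F276266) (tt N29996 (iv F280244)) (tt N29159 F276267) (tt N28101 (iv D61929)) (tt N28140 F276268) (tt N29998 D62768) (tt N28787 F276269) (tt N29971 (iv F280098)) (tt N29875 (iv F279462)) (tt N28745 F276270))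
theorem Q29161 : ∀ i, i < 29161 → P i := stepQ 29160 Q29160 (allL N29160 (tt N28707 F276271) (tt N29997 (iv F280248)) (tt N28102 F276272) (tt N29998 (iv F280254)) (tt N28530 F276273) (tt N28101 (iv D61930)) (tt N29947 (iv F279929)) (tt N29972 (iv F280104)) (tt N28108 F276274) (tt N28527 F276275))
theorem Q29162 : ∀ i, i < 29162 → P i := stepQ 29161 Q29161 (allL N29161 (tt N28103 (iv D61931)) (tt N28856 F276276) (tt N29904 (iv F279648)) (tt N28110 F276277) (tt N29999 D62769) (tt N28106 F276278) (tt N28948 F276279) (tt N29974 (iv F280120)) (tt N29927 (iv F279798)) (tt N28775 F276280))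
theorem Q29163 : ∀ i, i < 29163 → P i := stepQ 29162 Q29162 (allL N29162 (tt N29999 (iv F280256)) (tt N28104 F276281) (tt N29905 (iv F279656)) (tt N30000 D62770) (tt N28103 (iv D61932)) (tt N30001 D62771) (tt N28949 F276282) (tt N29975 (iv F280126)) (tt N29928 (iv F279805)) (tt N28776 F276283))
theorem Q29164 : ∀ i, i < 29164 → P i := stepQ 29163 Q29163 (allL N29163 (tt N28858 F276284) (tt N30000 (iv F280260)) (tt N29163 F276285) (tt N28104 (iv D61933)) (tt N28112 F276286) (tt N30002 D62772) (tt N28950 F276287) (tt N29976 (iv F280133)) (tt N30003 D62773) (tt N28777 F276288))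
theorem Q29165 : ∀ i, i < 29165 → P i := stepQ 29164 Q29164 (allL N29164 (tt N28612 F276289) (tt N30001 (iv F280264)) (tt N28105 F276290) (tt N30002 (iv F280270)) (tt N28108 F276291) (tt N28104 (iv D61934)) (tt N29915 (iv F279717)) (tt N29977 (iv F280139)) (tt N28530 F276292) (tt N28494 F276293))
theorem Q29166 : ∀ i, i < 29166 → P i := stepQ 29165 Q29165 (allL N29165 (tt N28107 F276294) (tt N28861 F276295) (tt N29991 (iv F280224)) (tt N29883 (iv F279514)) (tt N28106 (iv D61935)) (tt N30004 D62774) (tt N28788 F276296) (tt N29979 (iv F280154)) (tt N29995 (iv F280242)) (tt N28778 F276297))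
theorem Q29167 : ∀ i, i < 29167 → P i := stepQ 29166 Q29166 (allL N29166 (tt N30004 (iv F280279)) (tt N28108 F276298) (tt N29993 (iv F280232)) (tt N29884 (iv F279519)) (tt N30001 (iv F280265)) (tt N28107 (iv D61936)) (tt N30005 D62775) (tt N29980 (iv F280158)) (tt N29997 (iv F280250)) (tt N28779 F276299))
theorem Q29168 : ∀ i, i < 29168 → P i := stepQ 29167 Q29167 (allL N29167 (tt N28654 F276300) (tt N30005 (iv F280282)) (tt N28109 F276301) (tt N29885 (iv F279524)) (tt N29915 (iv F279715)) (tt N28507 F276302) (tt N28108 (iv D61937)) (tt N29870 (iv F279424)) (tt N29947 (iv F279931)) (tt N28727 F276303))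
theorem Q29169 : ∀ i, i < 29169 → P i := stepQ 29168 Q29168 (allL N29168 (tt N28111 F276304) (tt N29958 (iv F280004)) (tt N28576 F276305) (tt N30006 D62776) (tt N28110 (iv D61938)) (tt N29886 (iv F279530)) (tt N28951 F276306) (tt N29986 (iv F280196)) (tt N28149 F276307) (tt N28977 F276308))
theorem Q29170 : ∀ i, i < 29170 → P i := stepQ 29169 Q29169 (allL N29169 (tt N30006 (iv F280286)) (tt N28112 F276309) (tt N30007 D62777) (tt N28111 (iv D61939)) (tt N30000 (iv F280261)) (tt N29887 (iv F279535)) (tt N28952 F276310) (tt N29987 (iv F280200)) (tt N30008 D62778) (tt N28978 F276311))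
theorem Q29171 : ∀ i, i < 29171 → P i := stepQ 29170 Q29170 (allL N29170 (tt N28807 F276312) (tt N30008 (iv F280293)) (tt N29170 F276313) (tt N28151 F276314) (tt N30003 (iv F280275)) (tt N29888 (iv F279541)) (tt N28672 F276315) (tt N29988 (iv F280207)) (tt N28112 (iv D61940)) (tt N30009 D62779))
theorem Q29172 : ∀ i, i < 29172 → P i := stepQ 29171 Q29171 (allL N29171 (tt N30010 D62780) (tt N28113 (iv D61941)) (tt N28580 F276316) (tt N28519 F276317) (tt N30011 D62781) (tt N28125 F276318) (tt N28115 F276319) (tt N28537 F276320) (tt N28588 F276321) (tt N28156 F276322))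
theorem Q29173 : ∀ i, i < 29173 → P i := stepQ 29172 Q29172 (allL N29172 (tt N28398 F276323) (tt N30011 (iv F280311)) (tt N28114 F276324) (tt N30012 D62782) (tt N28113 (iv D61942)) (tt N30013 D62783) (tt N28116 F276325) (tt N28538 F276326) (tt N28589 F276327) (tt N28157 F276328))
theorem Q29174 : ∀ i, i < 29174 → P i := stepQ 29173 Q29173 (allL N29173 (tt N28399 F276329) (tt N28366 F276330) (tt N30013 (iv F280324)) (tt N29173 F276331) (tt N28127 F276332) (tt N28114 (iv D61943)) (tt N28352 F276333) (tt N28427 F276334) (tt N28408 F276335) (tt N28158 F276336))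
theorem Q29175 : ∀ i, i < 29175 → P i := stepQ 29174 Q29174 (allL N29174 (tt N28115 (iv D61944)) (tt N29864 (iv F279378)) (tt N28582 F276337) (tt N29930 (iv F279818)) (tt N30014 D62784) (tt N28117 F276338) (tt N30010 (iv F280307)) (tt N28573 F276339) (tt N28603 F276340) (tt N28159 F276341))
theorem Q29176 : ∀ i, i < 29176 → P i := stepQ 29175 Q29175 (allL N29175 (tt N30014 (iv F280330)) (tt N28116 F276342) (tt N28583 F276343) (tt N30015 D62785) (tt N28115 (iv D61945)) (tt N28901 F276344) (tt N30011 (iv F280313)) (tt N28574 F276345) (tt N28604 F276346) (tt N28160 F276347))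
theorem Q29177 : ∀ i, i < 29177 → P i := stepQ 29176 Q29176 (allL N29176 (tt N29866 (iv F279393)) (tt N30015 (iv F280336)) (tt N29176 F276348) (tt N28116 (iv D61946)) (tt N29932 (iv F279832)) (tt N28902 F276349) (tt N30012 (iv F280320)) (tt N28575 F276350) (tt N30016 D62786) (tt N28161 F276351))
theorem Q29178 : ∀ i, i < 29178 → P i := stepQ 29177 Q29177 (allL N29177 (tt N28118 (iv D61947)) (tt N28639 F276352) (tt N28122 F276353) (tt N28585 F276354) (tt N30017 D62787) (tt N28638 F276355) (tt N29927 (iv F279796)) (tt N28133 F276356) (tt N28948 F276357) (tt N28164 F276358))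
theorem Q29179 : ∀ i, i < 29179 → P i := stepQ 29178 Q29178 (allL N29178 (tt N30017 (iv F280344)) (tt N28119 F276359) (tt N28123 F276360) (tt N28925 F276361) (tt N28118 (iv D61948)) (tt N28865 F276362) (tt N29928 (iv F279803)) (tt N28134 F276363) (tt N28949 F276364) (tt N28165 F276365))
theorem Q29180 : ∀ i, i < 29180 → P i := stepQ 29179 Q29179 (allL N29179 (tt N28120 (iv D61949)) (tt N28967 F276366) (tt N28948 F276367) (tt N29969 (iv F280082)) (tt N30018 D62788) (tt N28693 F276368) (tt N29904 (iv F279651)) (tt N28138 F276369) (tt N28122 F276370) (tt N28696 F276371))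
theorem Q29181 : ∀ i, i < 29181 → P i := stepQ 29180 Q29180 (allL N29180 (tt N30018 (iv F280352)) (tt N28121 F276372) (tt N28949 F276373) (tt N30019 D62789) (tt N28120 (iv D61950)) (tt N28686 F276374) (tt N29905 (iv F279657)) (tt N28139 F276375) (tt N28123 F276376) (tt N28690 F276377))
theorem Q29182 : ∀ i, i < 29182 → P i := stepQ 29181 Q29181 (allL N29181 (tt N28969 F276378) (tt N30019 (iv F280359)) (tt N29181 F276379) (tt N28121 (iv D61951)) (tt N29971 (iv F280096)) (tt N28687 F276380) (tt N29906 (iv F279664)) (tt N28140 F276381) (tt N29891 (iv F279562)) (tt N28691 F276382))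
theorem Q29183 : ∀ i, i < 29183 → P i := stepQ 29182 Q29182 (allL N29182 (tt N28123 F276383) (tt N28994 F276384) (tt N30017 (iv F280346)) (tt N29894 (iv F279583)) (tt N28122 (iv D61952)) (tt N30020 D62790) (tt N29939 (iv F279876)) (tt N28143 F276385) (tt N30018 (iv F280357)) (tt N28167 F276386))
theorem Q29184 : ∀ i, i < 29184 → P i := stepQ 29183 Q29183 (allL N29183 (tt N30020 (iv F280363)) (tt N28124 F276387) (tt N28865 F276388) (tt N29895 (iv F279589)) (tt N28598 F276389) (tt N28123 (iv D61953)) (tt N29990 (iv F280219)) (tt N28144 F276390) (tt N28686 F276391) (tt N28168 F276392))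
theorem Q29185 : ∀ i, i < 29185 → P i := stepQ 29184 Q29184 (allL N29184 (tt N28125 (iv D61954)) (tt N28404 F276393) (tt N28590 F276394) (tt N28524 F276395) (tt N30021 D62791) (tt N30010 (iv F280306)) (tt N28128 F276396) (tt N28953 F276397) (tt N29982 (iv F280171)) (tt N28172 F276398))
theorem Q29186 : ∀ i, i < 29186 → P i := stepQ 29185 Q29185 (allL N29185 (tt N30021 (iv F280370)) (tt N28126 F276399) (tt N28591 F276400) (tt N28946 F276401) (tt N28125 (iv D61955)) (tt N30022 D62792) (tt N28129 F276402) (tt N28954 F276403) (tt N29983 (iv F280177)) (tt N28173 F276404))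
theorem Q29187 : ∀ i, i < 29187 → P i := stepQ 29186 Q29186 (allL N29186 (tt N28407 F276405) (tt N30022 (iv F280377)) (tt N28127 F276406) (tt N28668 F276407) (tt N30013 (iv F280325)) (tt N28126 (iv D61956)) (tt N29900 (iv F279625)) (tt N28426 F276408) (tt N29985 (iv F280191)) (tt N28174 F276409))
theorem Q29188 : ∀ i, i < 29188 → P i := stepQ 29187 Q29187 (allL N29187 (tt N28129 F276410) (tt N28912 F276411) (tt N28594 F276412) (tt N30023 D62793) (tt N28128 (iv D61957)) (tt N29901 (iv F279632)) (tt N30021 (iv F280374)) (tt N28149 F276413) (tt N29986 (iv F280197)) (tt N28175 F276414))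
theorem Q29189 : ∀ i, i < 29189 → P i := stepQ 29188 Q29188 (allL N29188 (tt N30023 (iv F280382)) (tt N28130 F276415) (tt N28700 F276420) (tt N28129 (iv D61958)) (tt N28560 F276416) (tt N29902 (iv F279638)) (tt N28946 F276417) (tt N28150 F276418) (tt N30024 D62794) (tt N28176 F276419))
theorem Q29190 : ∀ i, i < 29190 → P i := stepQ 29189 Q29189 (allL N29189 (tt N28796 F276421) (tt N30024 (iv F280389)) (tt N28152 F276422) (tt N29988 (iv F280204)) (tt N28320 F276423) (tt N29903 (iv F279644)) (tt N28829 F276424) (tt N28151 F276425) (tt N28130 (iv D61959)) (tt N28322 F276426))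
theorem Q29191 : ∀ i, i < 29191 → P i := stepQ 29190 Q29190 (allL N29190 (tt N28131 (iv D61960)) (tt N28670 F276427) (tt N28138 F276428) (tt N28582 F276429) (tt N30025 D62795) (tt N28579 F276430) (tt N28805 F276431) (tt N28948 F276432) (tt N28133 F276433) (tt N28626 F276434))
theorem Q29192 : ∀ i, i < 29192 → P i := stepQ 29191 Q29191 (allL N29191 (tt N30025 (iv F280395)) (tt N28132 F276435) (tt N28139 F276436) (tt N30026 D62796) (tt N28131 (iv D61961)) (tt N28854 F276437) (tt N28806 F276438) (tt N28949 F276439) (tt N28134 F276440) (tt N28627 F276441))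
theorem Q29193 : ∀ i, i < 29193 → P i := stepQ 29192 Q29192 (allL N29192 (tt N28672 F276442) (tt N30026 (iv F280403)) (tt N29192 F276443) (tt N28132 (iv D61962)) (tt N28584 F276444) (tt N28855 F276445) (tt N28807 F276446) (tt N28950 F276447) (tt N28932 F276448) (tt N28628 F276449))
theorem Q29194 : ∀ i, i < 29194 → P i := stepQ 29193 Q29193 (allL N29193 (tt N28134 F276450) (tt N28674 F276451) (tt N28143 F276452) (tt N28933 F276453) (tt N28133 (iv D61963)) (tt N28866 F276454) (tt N28809 F276455) (tt N30017 (iv F280349)) (tt N30025 (iv F280401)) (tt N28185 F276456))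
theorem Q29195 : ∀ i, i < 29195 → P i := stepQ 29194 Q29194 (allL N29194 (tt N28135 (iv D61964)) (tt N28518 F276457) (tt N28579 F276458) (tt N29927 (iv F279794)) (tt N28647 F276459) (tt N28138 F276460) (tt N28585 F276461) (tt N28693 F276462) (tt N28142 F276463) (tt N28622 F276464))
theorem Q29196 : ∀ i, i < 29196 → P i := stepQ 29195 Q29195 (allL N29195 (tt N28136 (iv D61965)) (tt N28785 F276465) (tt N28626 F276466) (tt N28743 F276467) (tt N30027 D62797) (tt N28622 F276468) (tt N28811 F276469) (tt N28696 F276470) (tt N28187 F276471) (tt N28138 F276472))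
theorem Q29197 : ∀ i, i < 29197 → P i := stepQ 29196 Q29196 (allL N29196 (tt N30027 (iv F280410)) (tt N28137 F276473) (tt N28627 F276474) (tt N30028 D62798) (tt N28136 (iv D61966)) (tt N28645 F276475) (tt N28812 F276476) (tt N28690 F276477) (tt N28188 F276478) (tt N28139 F276479))
theorem Q29198 : ∀ i, i < 29198 → P i := stepQ 29197 Q29197 (allL N29197 (tt N28787 F276480) (tt N30028 (iv F280418)) (tt N29197 F276481) (tt N28137 (iv D61967)) (tt N28745 F276482) (tt N28646 F276483) (tt N28813 F276484) (tt N28691 F276485) (tt N28803 F276486) (tt N28140 F276487))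
theorem Q29199 : ∀ i, i < 29199 → P i := stepQ 29198 Q29198 (allL N29198 (tt N28139 F276488) (tt N29960 (iv F280019)) (tt N30025 (iv F280397)) (tt N30029 D62799) (tt N28138 (iv D61968)) (tt N30030 D62800) (tt N28814 F276489) (tt N30018 (iv F280356)) (tt N28143 F276490) (tt N30027 (iv F280417)))
theorem Q29200 : ∀ i, i < 29200 → P i := stepQ 29199 Q29199 (allL N29199 (tt N30029 (iv F280425)) (tt N28140 F276491) (tt N30031 D62801) (tt N28139 (iv D61969)) (tt N29996 (iv F280245)) (tt N30032 D62802) (tt N28815 F276492) (tt N30019 (iv F280361)) (tt N29909 (iv F279682)) (tt N30028 (iv F280424)))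
theorem Q29201 : ∀ i, i < 29201 → P i := stepQ 29200 Q29200 (allL N29200 (tt N30030 (iv F280427)) (tt N28141 F276493) (tt N28854 F276494) (tt N30032 (iv F280438)) (tt N28643 F276495) (tt N28139 (iv D61970)) (tt N28846 (iv F276499)) (tt N28686 F276496) (tt N28144 F276497) (tt N28645 F276498))
theorem Q29202 : ∀ i, i < 29202 → P i := stepQ 29201 Q29201 (allL N29201 (tt N28957 F276500) (tt N30032 (iv F280437)) (tt N29201 F276501) (tt N28141 F276502) (tt N30033 D62803) (tt N28140 (iv D61971)) (tt N28847 (iv F276505)) (tt N28687 F276503) (tt N29911 (iv F279693)) (tt N28646 F276504))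
theorem Q29203 : ∀ i, i < 29203 → P i := stepQ 29202 Q29202 (allL N29202 (tt N28144 F276506) (tt N28958 F276507) (tt N28866 F276508) (tt N29912 (iv F279697)) (tt N28851 F276509) (tt N28143 (iv D61972)) (tt N28852 (iv F276511)) (tt N30020 (iv F280367)) (tt N30030 (iv F280432)) (tt N28194 F276510))
theorem Q29204 : ∀ i, i < 29204 → P i := stepQ 29203 Q29203 (allL N29203 (tt N28145 (iv D61973)) (tt N28924 F276512) (tt N28603 F276513) (tt N28597 F276514) (tt N30034 D62804) (tt N28532 F276515) (tt N28953 F276516) (tt N28147 F276517) (tt N28582 F276518) (tt N28196 F276519))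
theorem Q29205 : ∀ i, i < 29205 → P i := stepQ 29204 Q29204 (allL N29204 (tt N30034 (iv F280448)) (tt N28146 F276520) (tt N28604 F276521) (tt N28640 F276522) (tt N28145 (iv D61974)) (tt N28465 F276523) (tt N28954 F276524) (tt N28148 F276525) (tt N28583 F276526) (tt N28197 F276527))
theorem Q29206 : ∀ i, i < 29206 → P i := stepQ 29205 Q29205 (allL N29205 (tt N28148 F276528) (tt N28933 F276529) (tt N28606 F276530) (tt N28674 F276531) (tt N28147 (iv D61975)) (tt N28469 F276532) (tt N28149 F276533) (tt N30034 (iv F280454)) (tt N28951 F276534) (tt N28198 F276535))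
theorem Q29207 : ∀ i, i < 29207 → P i := stepQ 29206 Q29206 (allL N29206 (tt N28150 F276536) (tt N28809 F276537) (tt N28702 (iv F276541)) (tt N28149 (iv D61976)) (tt N28673 F276538) (tt N29913 (iv F279705)) (tt N28674 F276539) (tt N30023 (iv F280386)) (tt N30035 D62805) (tt N28199 F276540))
theorem Q29208 : ∀ i, i < 29208 → P i := stepQ 29207 Q29207 (allL N29207 (tt N30035 (iv F280457)) (tt N28151 F276542) (tt N28682 F276543) (tt N30008 (iv F280294)) (tt N28669 F276544) (tt N29914 (iv F279711)) (tt N28671 F276545) (tt N30024 (iv F280393)) (tt N28150 (iv D61977)) (tt N30036 D62806))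
theorem Q29209 : ∀ i, i < 29209 → P i := stepQ 29208 Q29208 (allL N29208 (tt N28625 F276546) (tt N30036 (iv F280462)) (tt N28153 F276547) (tt N30009 (iv F280298)) (tt N28307 F276548) (tt N29915 (iv F279716)) (tt N28498 F276549) (tt N28322 F276550) (tt N28202 F276551) (tt N28151 (iv D61978)))
theorem Q29210 : ∀ i, i < 29210 → P i := stepQ 29209 Q29209 (allL N29209 (tt N30037 D62807) (tt N28154 (iv D61979)) (tt N28277 F276552) (tt N28503 F276553) (tt N30038 D62808) (tt N28170 F276554) (tt N28311 F276555) (tt N28156 F276556) (tt N28275 F276557) (tt N28537 F276558))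
theorem Q29211 : ∀ i, i < 29211 → P i := stepQ 29210 Q29210 (allL N29210 (tt N28372 F276559) (tt N30038 (iv F280476)) (tt N28155 F276560) (tt N30039 D62809) (tt N28154 (iv D61980)) (tt N28419 F276561) (tt N28312 F276562) (tt N28157 F276563) (tt N28276 F276564) (tt N28538 F276565))
theorem Q29212 : ∀ i, i < 29212 → P i := stepQ 29211 Q29211 (allL N29211 (tt N28156 (iv D61981)) (tt N28400 F276566) (tt N28632 F276567) (tt N28521 F276568) (tt N30040 D62810) (tt N28172 F276569) (tt N28159 F276570) (tt N30037 (iv F280473)) (tt N28296 F276571) (tt N30010 (iv F280310)))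
theorem Q29213 : ∀ i, i < 29213 → P i := stepQ 29212 Q29212 (allL N29212 (tt N30040 (iv F280491)) (tt N28157 F276572) (tt N28633 F276573) (tt N30041 D62811) (tt N28156 (iv D61982)) (tt N30042 D62812) (tt N28160 F276574) (tt N30038 (iv F280480)) (tt N28297 F276575) (tt N30011 (iv F280316)))
theorem Q29214 : ∀ i, i < 29214 → P i := stepQ 29213 Q29213 (allL N29213 (tt N28402 F276576) (tt N30041 (iv F280496)) (tt N29213 F276577) (tt N28157 (iv D61983)) (tt N28523 F276578) (tt N30043 D62813) (tt N28161 F276579) (tt N30039 (iv F280488)) (tt N30044 D62814) (tt N30012 (iv F280322)))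
theorem Q29215 : ∀ i, i < 29215 → P i := stepQ 29214 Q29214 (allL N29214 (tt N28403 F276580) (tt N30042 (iv F280499)) (tt N28158 F276581) (tt N30043 (iv F280507)) (tt N28174 F276582) (tt N28157 (iv D61984)) (tt N28356 F276583) (tt N28419 F276584) (tt N28299 F276585) (tt N30013 (iv F280329)))
theorem Q29216 : ∀ i, i < 29216 → P i := stepQ 29215 Q29215 (allL N29215 (tt N28160 F276586) (tt N29962 (iv F280034)) (tt N28635 F276587) (tt N30045 D62815) (tt N28159 (iv D61985)) (tt N28903 F276588) (tt N30040 (iv F280494)) (tt N28822 F276589) (tt N28905 F276590) (tt N30014 (iv F280335)))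
theorem Q29217 : ∀ i, i < 29217 → P i := stepQ 29216 Q29216 (allL N29216 (tt N30045 (iv F280519)) (tt N28161 F276591) (tt N30046 D62816) (tt N28160 (iv D61986)) (tt N29935 (iv F279850)) (tt N28904 F276592) (tt N30041 (iv F280498)) (tt N28823 F276593) (tt N30047 D62817) (tt N30015 (iv F280339)))
theorem Q29218 : ∀ i, i < 29218 → P i := stepQ 29217 Q29217 (allL N29217 (tt N29964 (iv F280044)) (tt N30047 (iv F280526)) (tt N29217 F276594) (tt N28875 F276595) (tt N29938 (iv F279869)) (tt N28874 F276596) (tt N30044 (iv F280517)) (tt N28824 F276597) (tt N28161 (iv D61987)) (tt N30048 D62818))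
theorem Q29219 : ∀ i, i < 29219 → P i := stepQ 29218 Q29218 (allL N29218 (tt N28162 (iv D61988)) (tt N28164 F276598) (tt N28587 F276599) (tt N28638 F276600) (tt N30049 D62819) (tt N28585 F276601) (tt N28810 F276602) (tt N28178 F276603) (tt N28741 F276604) (tt N28639 F276605))
theorem Q29220 : ∀ i, i < 29220 → P i := stepQ 29219 Q29219 (allL N29219 (tt N30049 (iv F280534)) (tt N28163 F276606) (tt N28190 F276607) (tt N28197 F276608) (tt N28162 (iv D61989)) (tt N28183 F276609) (tt N28460 F276610) (tt N28179 F276611) (tt N28186 F276612) (tt N28640 F276613))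
theorem Q29221 : ∀ i, i < 29221 → P i := stepQ 29220 Q29220 (allL N29220 (tt N28165 F276614) (tt N30049 (iv F280535)) (tt N28167 F276615) (tt N29965 (iv F280054)) (tt N28164 (iv D61990)) (tt N30050 D62820) (tt N29929 (iv F279812)) (tt N28185 F276616) (tt N28742 F276617) (tt N30017 (iv F280351)))
theorem Q29222 : ∀ i, i < 29222 → P i := stepQ 29221 Q29221 (allL N29221 (tt N30050 (iv F280543)) (tt N28166 F276618) (tt N28168 F276619) (tt N28457 F276620) (tt N28177 F276621) (tt N28165 (iv D61991)) (tt N28201 F276622) (tt N28186 F276623) (tt N28179 F276624) (tt N28865 F276625))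
theorem Q29223 : ∀ i, i < 29223 → P i := stepQ 29222 Q29222 (allL N29222 (tt N28168 F276626) (tt N28982 F276627) (tt N30050 (iv F280545)) (tt N29921 (iv F279758)) (tt N28599 F276628) (tt N28167 (iv D61992)) (tt N30051 D62821) (tt N28194 F276629) (tt N28602 F276630) (tt N30020 (iv F280369)))
theorem Q29224 : ∀ i, i < 29224 → P i := stepQ 29223 Q29223 (allL N29223 (tt N30051 (iv F280552)) (tt N28169 F276631) (tt N28201 F276632) (tt N29922 (iv F279763)) (tt N28533 F276633) (tt N29943 (iv F279902)) (tt N28168 (iv D61993)) (tt N28553 F276634) (tt N28200 F276635) (tt N29990 (iv F280222)))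
theorem Q29225 : ∀ i, i < 29225 → P i := stepQ 29224 Q29224 (allL N29224 (tt N28170 (iv D61994)) (tt N28375 F276636) (tt N28658 F276637) (tt N28505 F276638) (tt N30052 D62822) (tt N30037 (iv F280471)) (tt N28196 F276639) (tt N28172 F276640) (tt N28289 F276641) (tt N28953 F276642))
theorem Q29226 : ∀ i, i < 29226 → P i := stepQ 29225 Q29225 (allL N29225 (tt N30052 (iv F280558)) (tt N28171 F276643) (tt N28659 F276644) (tt N28460 F276645) (tt N28170 (iv D61995)) (tt N28425 (iv F276650)) (tt N28197 F276646) (tt N28173 F276647) (tt N28252 F276648) (tt N28954 F276649))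
theorem Q29227 : ∀ i, i < 29227 → P i := stepQ 29226 Q29226 (allL N29226 (tt N28173 F276651) (tt N28409 F276652) (tt N28661 F276653) (tt N28947 F276654) (tt N28172 (iv D61996)) (tt N30053 D62823) (tt N28175 F276655) (tt N30052 (iv F280563)) (tt N28300 F276656) (tt N30021 (iv F280376)))
theorem Q29228 : ∀ i, i < 29228 → P i := stepQ 29227 Q29227 (allL N29227 (tt N30053 (iv F280567)) (tt N28174 F276657) (tt N28663 F276658) (tt N28667 F276659) (tt N30042 (iv F280501)) (tt N28173 (iv D61997)) (tt N29925 (iv F279783)) (tt N28425 F276660) (tt N28301 F276661) (tt N30022 (iv F280381)))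
theorem Q29229 : ∀ i, i < 29229 → P i := stepQ 29228 Q29228 (allL N29228 (tt N28176 F276662) (tt N28827 F276663) (tt N30054 D62824) (tt N28175 (iv D61998)) (tt N28561 F276664) (tt N29926 (iv F279789)) (tt N28947 F276665) (tt N28199 F276666) (tt N28570 (iv F276667)) (tt N30023 (iv F280387)))
theorem Q29230 : ∀ i, i < 29230 → P i := stepQ 29229 Q29229 (allL N29229 (tt N30054 (iv F280573)) (tt N28203 F276668) (tt N28176 (iv D61999)) (tt N28666 F276669) (tt N28548 F276670) (tt N28944 F276671) (tt N28942 F276672) (tt N28200 F276673) (tt N28553 F276674) (tt N28700 F276675))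
theorem Q29231 : ∀ i, i < 29231 → P i := stepQ 29230 Q29230 (allL N29230 (tt N28177 (iv D62000)) (tt N28182 F276676) (tt N28599 F276677) (tt N28532 F276678) (tt N30050 (iv F280547)) (tt N28597 F276679) (tt N28536 F276680) (tt N28741 F276681) (tt N28178 F276682) (tt N28864 F276683))
theorem Q29232 : ∀ i, i < 29232 → P i := stepQ 29231 Q29231 (allL N29231 (tt N28179 F276684) (tt N28185 F276685) (tt N28602 F276686) (tt N28198 F276687) (tt N28178 (iv D62001)) (tt N28742 F276688) (tt N28199 F276689) (tt N30049 (iv F280540)) (tt N30050 (iv F280550)) (tt N28674 F276690))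
theorem Q29233 : ∀ i, i < 29233 → P i := stepQ 29232 Q29232 (allL N29232 (tt N28180 (iv D62002)) (tt N28864 F276691) (tt N28187 F276692) (tt N28431 F276693) (tt N30055 D62825) (tt N28623 F276694) (tt N28848 F276695) (tt N28432 F276696) (tt N28626 F276697) (tt N28182 F276698))
theorem Q29234 : ∀ i, i < 29234 → P i := stepQ 29233 Q29233 (allL N29233 (tt N30055 (iv F280582)) (tt N28181 F276699) (tt N28188 F276700) (tt N28465 F276701) (tt N28180 (iv D62003)) (tt N28640 F276702) (tt N28849 F276703) (tt N28433 F276704) (tt N28627 F276705) (tt N28183 F276706))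
theorem Q29235 : ∀ i, i < 29235 → P i := stepQ 29234 Q29234 (allL N29234 (tt N28183 F276707) (tt N30050 (iv F280544)) (tt N28189 F276708) (tt N28910 F276709) (tt N28182 (iv D62004)) (tt N30049 (iv F280538)) (tt N28850 F276710) (tt N28742 F276711) (tt N28185 F276712) (tt N30055 (iv F280590)))
theorem Q29236 : ∀ i, i < 29236 → P i := stepQ 29235 Q29235 (allL N29235 (tt N28186 F276713) (tt N28742 F276714) (tt N28194 F276715) (tt N28458 F276716) (tt N28741 F276717) (tt N28185 (iv D62005)) (tt N28459 F276718) (tt N30050 (iv F280549)) (tt N30049 (iv F280541)) (tt N28866 F276719))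
theorem Q29237 : ∀ i, i < 29237 → P i := stepQ 29236 Q29236 (allL N29236 (tt N28188 F276720) (tt N28788 F276721) (tt N30055 (iv F280584)) (tt N28804 F276722) (tt N28187 (iv D62006)) (tt N28655 F276723) (tt N28861 F276724) (tt N28705 F276725) (tt N30027 (iv F280416)) (tt N28189 F276726))
theorem Q29238 : ∀ i, i < 29238 → P i := stepQ 29237 Q29237 (allL N29237 (tt N28190 F276727) (tt N28984 F276728) (tt N30049 (iv F280536)) (tt N28841 F276729) (tt N28587 F276730) (tt N28189 (iv D62007)) (tt N30056 D62826) (tt N28602 F276731) (tt N28194 F276732) (tt N28655 F276733))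
theorem Q29239 : ∀ i, i < 29239 → P i := stepQ 29238 Q29238 (allL N29238 (tt N30056 (iv F280591)) (tt N28191 F276734) (tt N28460 F276735) (tt N28842 F276736) (tt N28586 F276737) (tt N28715 F276738) (tt N28190 (iv D62008)) (tt N28942 F276739) (tt N28195 F276740) (tt N28652 F276741))
theorem Q29240 : ∀ i, i < 29240 → P i := stepQ 29239 Q29239 (allL N29239 (tt N28192 (iv D62009)) (tt N28623 F276742) (tt N28600 F276743) (tt N28196 F276744) (tt N28638 F276745) (tt N28864 F276746) (tt N28505 F276747) (tt N28193 F276748) (tt N28499 F276749) (tt N28597 F276750))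
theorem Q29241 : ∀ i, i < 29241 → P i := stepQ 29240 Q29240 (allL N29240 (tt N28195 F276751) (tt N28987 F276752) (tt N28459 F276753) (tt N29948 (iv F279935)) (tt N28808 F276754) (tt N28713 F276755) (tt N28194 (iv D62010)) (tt N28943 (iv F276757)) (tt N30056 (iv F280598)) (tt N28852 F276756))
theorem Q29242 : ∀ i, i < 29242 → P i := stepQ 29241 Q29241 (allL N29241 (tt N28197 F276758) (tt N29965 (iv F280052)) (tt N28708 F276759) (tt N30049 (iv F280537)) (tt N28196 (iv D62011)) (tt N28910 F276760) (tt N30052 (iv F280562)) (tt N28198 F276761) (tt N28911 F276762) (tt N30034 (iv F280456)))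
theorem Q29243 : ∀ i, i < 29243 → P i := stepQ 29242 Q29242 (allL N29242 (tt N28200 F276763) (tt N28773 F276764) (tt N28199 (iv D62012)) (tt N28713 F276765) (tt N28601 F276766) (tt N29948 (iv F279937)) (tt N28602 F276767) (tt N30054 (iv F280579)) (tt N30051 (iv F280557)) (tt N28702 F276768))
theorem Q29244 : ∀ i, i < 29244 → P i := stepQ 29243 Q29243 (allL N29243 (tt N28201 F276769) (tt N28850 F276770) (tt N30051 (iv F280554)) (tt N29862 (iv F279367)) (tt N28536 F276771) (tt N29949 (iv F279942)) (tt N30050 (iv F280548)) (tt N28570 F276772) (tt N28199 (iv D62013)) (tt N30057 D62827))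
theorem Q29245 : ∀ i, i < 29245 → P i := stepQ 29244 Q29244 (allL N29244 (tt N30057 (iv F280600)) (tt N28202 F276773) (tt N29990 (iv F280218)) (tt N29863 (iv F279373)) (tt N28310 F276774) (tt N29950 (iv F279946)) (tt N28865 F276775) (tt N28328 F276776) (tt N30036 (iv F280467)) (tt N28201 (iv D62014)))
theorem Q29246 : ∀ i, i < 29246 → P i := stepQ 29245 Q29245 (allL N29245 (tt N28204 (iv D62015)) (tt N28335 F276777) (tt N28213 F276778) (tt N28367 F276779) (tt N28254 F276780) (tt N28243 F276781) (tt N28274 F276782) (tt N28205 F276783) (tt N28431 F276784) (tt N28288 F276785))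
theorem Q29247 : ∀ i, i < 29247 → P i := stepQ 29246 Q29246 (allL N29246 (tt N28206 (iv D62016)) (tt N28228 F276786) (tt N28288 F276787) (tt N28239 F276788) (tt N28274 F276789) (tt N28234 F276790) (tt N28254 F276791) (tt N28211 F276792) (tt N28463 F276793) (tt N28213 F276794))
theorem Q29248 : ∀ i, i < 29248 → P i := stepQ 29247 Q29247 (allL N29247 (tt N28207 (iv D62017)) (tt N28234 F276795) (tt N28414 F276796) (tt N28211 F276797) (tt N30058 D62828) (tt N28228 F276798) (tt N28392 F276799) (tt N28239 F276800) (tt N29952 (iv F279963)) (tt N28214 F276801))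
theorem Q29249 : ∀ i, i < 29249 → P i := stepQ 29248 Q29248 (allL N29248 (tt N30058 (iv F280605)) (tt N28208 F276802) (tt N28415 F276803) (tt N28282 F276804) (tt N28207 (iv D62018)) (tt N28343 F276805) (tt N28393 F276806) (tt N28240 F276807) (tt N29953 (iv F279970)) (tt N28215 F276808))
theorem Q29250 : ∀ i, i < 29250 → P i := stepQ 29249 Q29249 (allL N29249 (tt N28209 (iv D62019)) (tt N28239 F276809) (tt N28736 F276810) (tt N28228 F276811) (tt N30059 D62829) (tt N28211 F276812) (tt N28731 F276813) (tt N28234 F276814) (tt N28919 F276815) (tt N28216 F276816))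
theorem Q29251 : ∀ i, i < 29251 → P i := stepQ 29250 Q29250 (allL N29250 (tt N30059 (iv F280613)) (tt N28210 F276817) (tt N28737 F276818) (tt N28341 F276819) (tt N28209 (iv D62020)) (tt N28285 F276820) (tt N28732 F276821) (tt N28235 F276822) (tt N28920 F276823) (tt N28217 F276824))
theorem Q29252 : ∀ i, i < 29252 → P i := stepQ 29251 Q29251 (allL N29251 (tt N28212 (iv D62021)) (tt N28242 F276825) (tt N28274 F276826) (tt N28249 F276827) (tt N28288 F276828) (tt N28259 F276829) (tt N28213 F276830) (tt N28253 F276831) (tt N28434 F276832) (tt N28254 F276833))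
theorem Q29253 : ∀ i, i < 29253 → P i := stepQ 29252 Q29252 (allL N29252 (tt N28215 F276834) (tt N28247 F276835) (tt N28898 F276836) (tt N28300 F276837) (tt N28214 (iv D62022)) (tt N28380 F276838) (tt N28867 F276839) (tt N28251 F276840) (tt N28455 F276841) (tt N30058 (iv F280612)))
theorem Q29254 : ∀ i, i < 29254 → P i := stepQ 29253 Q29253 (allL N29253 (tt N28217 F276842) (tt N28251 F276843) (tt N28906 F276844) (tt N28379 F276845) (tt N28216 (iv D62023)) (tt N28302 F276846) (tt N28908 F276847) (tt N28247 F276848) (tt N28435 F276849) (tt N30059 (iv F280621)))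
theorem Q29255 : ∀ i, i < 29255 → P i := stepQ 29254 Q29254 (allL N29254 (tt N30060 D62830) (tt N28218 (iv D62024)) (tt N28397 F276850) (tt N28231 F276851) (tt N30061 D62831) (tt N28386 F276852) (tt N28436 F276853) (tt N28878 F276854) (tt N28222 F276855) (tt N28383 F276856))
theorem Q29256 : ∀ i, i < 29256 → P i := stepQ 29255 Q29255 (allL N29255 (tt N28870 F276857) (tt N30061 (iv F280630)) (tt N28219 F276858) (tt N30062 D62832) (tt N28218 (iv D62025)) (tt N30063 D62833) (tt N28437 F276859) (tt N28879 F276860) (tt N28223 F276861) (tt N28384 F276862))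
theorem Q29257 : ∀ i, i < 29257 → P i := stepQ 29256 Q29256 (allL N29256 (tt N28871 F276863) (tt N28399 F276864) (tt N30063 (iv F280644)) (tt N29256 F276865) (tt N28388 F276866) (tt N28219 (iv D62026)) (tt N28427 F276867) (tt N28880 F276868) (tt N28224 F276869) (tt N28385 F276870))
theorem Q29258 : ∀ i, i < 29258 → P i := stepQ 29257 Q29257 (allL N29257 (tt N30064 D62834) (tt N28220 (iv D62027)) (tt N28350 F276871) (tt N28225 F276872) (tt N30065 D62835) (tt N28222 F276873) (tt N28445 F276874) (tt N28869 F276875) (tt N28386 F276876) (tt N28344 F276877))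
theorem Q29259 : ∀ i, i < 29259 → P i := stepQ 29258 Q29258 (allL N29258 (tt N28879 F276878) (tt N30065 (iv F280658)) (tt N28221 F276879) (tt N30066 D62836) (tt N28220 (iv D62028)) (tt N30067 D62837) (tt N28446 F276880) (tt N28870 F276881) (tt N28387 F276882) (tt N28345 F276883))
theorem Q29260 : ∀ i, i < 29260 → P i := stepQ 29259 Q29259 (allL N29259 (tt N28880 F276884) (tt N28352 F276885) (tt N30067 (iv F280673)) (tt N29259 F276886) (tt N28224 F276887) (tt N28221 (iv D62029)) (tt N28366 F276888) (tt N28871 F276889) (tt N28388 F276890) (tt N28346 F276891))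
theorem Q29261 : ∀ i, i < 29261 → P i := stepQ 29260 Q29260 (allL N29260 (tt N28222 (iv D62030)) (tt N28885 F276892) (tt N29897 (iv F279601)) (tt N28227 F276893) (tt N30068 D62838) (tt N30064 (iv F280653)) (tt N28448 F276894) (tt N29951 (iv F279954)) (tt N30060 (iv F280628)) (tt N28439 F276895))
theorem Q29262 : ∀ i, i < 29262 → P i := stepQ 29261 Q29261 (allL N29261 (tt N30068 (iv F280680)) (tt N28223 F276896) (tt N29898 (iv F279609)) (tt N28328 F276897) (tt N28222 (iv D62031)) (tt N30069 D62839) (tt N28449 F276898) (tt N29863 (iv F279376)) (tt N30061 (iv F280634)) (tt N28440 F276899))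
theorem Q29263 : ∀ i, i < 29263 → P i := stepQ 29262 Q29262 (allL N29262 (tt N28887 F276900) (tt N30069 (iv F280685)) (tt N28224 F276901) (tt N28329 F276902) (tt N30067 (iv F280675)) (tt N28223 (iv D62032)) (tt N28593 F276903) (tt N29860 (iv F279353)) (tt N30063 (iv F280648)) (tt N28441 F276904))
theorem Q29264 : ∀ i, i < 29264 → P i := stepQ 29263 Q29263 (allL N29263 (tt N28225 (iv D62033)) (tt N28919 F276905) (tt N28752 F276906) (tt N30064 (iv F280652)) (tt N30070 D62840) (tt N28227 F276907) (tt N28914 F276908) (tt N29952 (iv F279962)) (tt N28239 F276909) (tt N28442 F276910))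
theorem Q29265 : ∀ i, i < 29265 → P i := stepQ 29264 Q29264 (allL N29264 (tt N30070 (iv F280689)) (tt N28226 F276911) (tt N28753 F276912) (tt N30071 D62841) (tt N28225 (iv D62034)) (tt N28333 F276913) (tt N28915 F276914) (tt N29953 (iv F279969)) (tt N28240 F276915) (tt N28443 F276916))
theorem Q29266 : ∀ i, i < 29266 → P i := stepQ 29265 Q29265 (allL N29265 (tt N28921 F276917) (tt N30071 (iv F280696)) (tt N29265 F276918) (tt N28226 (iv D62035)) (tt N30066 (iv F280666)) (tt N28334 F276919) (tt N28637 F276920) (tt N29954 (iv F279977)) (tt N28634 F276921) (tt N28444 F276922))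
theorem Q29267 : ∀ i, i < 29267 → P i := stepQ 29266 Q29266 (allL N29266 (tt N28229 (iv D62036)) (tt N28367 F276923) (tt N28234 F276924) (tt N28335 F276925) (tt N30072 D62842) (tt N28288 F276926) (tt N28340 F276927) (tt N28736 F276928) (tt N28500 F276929) (tt N28243 F276930))
theorem Q29268 : ∀ i, i < 29268 → P i := stepQ 29267 Q29267 (allL N29267 (tt N30072 (iv F280701)) (tt N28230 F276931) (tt N28235 F276932) (tt N28732 F276933) (tt N28229 (iv D62037)) (tt N28260 F276934) (tt N28341 F276935) (tt N28737 F276936) (tt N28501 F276937) (tt N28244 F276938))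
theorem Q29269 : ∀ i, i < 29269 → P i := stepQ 29268 Q29268 (allL N29268 (tt N28231 (iv D62038)) (tt N29952 (iv F279957)) (tt N28500 F276939) (tt N30060 (iv F280624)) (tt N30073 D62843) (tt N28463 F276940) (tt N28872 F276941) (tt N28919 F276942) (tt N28234 F276943) (tt N28926 F276944))
theorem Q29270 : ∀ i, i < 29270 → P i := stepQ 29269 Q29269 (allL N29269 (tt N30073 (iv F280710)) (tt N28232 F276945) (tt N28501 F276946) (tt N30074 D62844) (tt N28231 (iv D62039)) (tt N30075 D62845) (tt N28873 F276947) (tt N28920 F276948) (tt N28235 F276949) (tt N28927 F276950))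
theorem Q29271 : ∀ i, i < 29271 → P i := stepQ 29270 Q29270 (allL N29270 (tt N29954 (iv F279972)) (tt N30074 (iv F280716)) (tt N29270 F276951) (tt N28232 (iv D62040)) (tt N30062 (iv F280638)) (tt N30076 D62846) (tt N28874 F276952) (tt N28921 F276953) (tt N28355 F276954) (tt N28928 F276955))
theorem Q29272 : ∀ i, i < 29272 → P i := stepQ 29271 Q29271 (allL N29271 (tt N28312 F276956) (tt N30075 (iv F280721)) (tt N28233 F276957) (tt N30076 (iv F280730)) (tt N28255 F276958) (tt N28232 (iv D62041)) (tt N28372 (iv F276962)) (tt N28271 F276959) (tt N28236 F276960) (tt N28471 F276961))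
theorem Q29273 : ∀ i, i < 29273 → P i := stepQ 29272 Q29272 (allL N29272 (tt N28235 F276963) (tt N30058 (iv F280606)) (tt N30072 (iv F280703)) (tt N28359 F276964) (tt N28234 (iv D62042)) (tt N30077 D62847) (tt N28876 F276965) (tt N30059 (iv F280619)) (tt N30073 (iv F280714)) (tt N28247 F276966))
theorem Q29274 : ∀ i, i < 29274 → P i := stepQ 29273 Q29273 (allL N29273 (tt N30077 (iv F280736)) (tt N28236 F276967) (tt N28260 F276968) (tt N28360 F276969) (tt N28256 F276970) (tt N28235 (iv D62043)) (tt N28378 (iv F276973)) (tt N28285 F276971) (tt N30075 (iv F280725)) (tt N28248 F276972))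
theorem Q29275 : ∀ i, i < 29275 → P i := stepQ 29274 Q29274 (allL N29274 (tt N28237 (iv D62044)) (tt N28731 F276974) (tt N28284 F276975) (tt N28254 F276976) (tt N30078 D62848) (tt N28253 F276977) (tt N28239 F276978) (tt N28259 F276979) (tt N28914 F276980) (tt N28249 F276981))
theorem Q29276 : ∀ i, i < 29276 → P i := stepQ 29275 Q29275 (allL N29275 (tt N30078 (iv F280744)) (tt N28238 F276982) (tt N28285 F276983) (tt N28368 F276984) (tt N28237 (iv D62045)) (tt N28737 F276985) (tt N28240 F276986) (tt N28260 F276987) (tt N28915 F276988) (tt N28250 F276989))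
theorem Q29277 : ∀ i, i < 29277 → P i := stepQ 29276 Q29276 (allL N29276 (tt N28240 F276990) (tt N30059 (iv F280614)) (tt N29857 (iv F279325)) (tt N30079 D62849) (tt N28239 (iv D62046)) (tt N28363 F276991) (tt N30078 (iv F280749)) (tt N30058 (iv F280611)) (tt N30070 (iv F280694)) (tt N28251 F276992))
theorem Q29278 : ∀ i, i < 29278 → P i := stepQ 29277 Q29277 (allL N29277 (tt N30079 (iv F280753)) (tt N28241 F276993) (tt N28297 F276999) (tt N28240 (iv D62047)) (tt N28273 F276994) (tt N28364 F276995) (tt N28368 F276996) (tt N28282 F276997) (tt N28633 (iv F277000)) (tt N28252 F276998))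
theorem Q29279 : ∀ i, i < 29279 → P i := stepQ 29278 Q29278 (allL N29278 (tt N28244 F277001) (tt N28911 F277002) (tt N28247 F277003) (tt N28908 F277004) (tt N28243 (iv D62048)) (tt N28909 F277005) (tt N28379 F277006) (tt N28906 F277007) (tt N29965 (iv F280058)) (tt N30072 (iv F280709)))
theorem Q29280 : ∀ i, i < 29280 → P i := stepQ 29279 Q29279 (allL N29279 (tt N28246 F277008) (tt N28455 F277009) (tt N29965 (iv F280053)) (tt N28936 F277010) (tt N28245 (iv D62049)) (tt N28515 F277011) (tt N28888 F277012) (tt N28435 F277013) (tt N28247 F277014) (tt N28929 F277015))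
theorem Q29281 : ∀ i, i < 29281 → P i := stepQ 29280 Q29280 (allL N29280 (tt N28248 F277016) (tt N28380 F277017) (tt N28909 F277018) (tt N28420 F277019) (tt N28291 F277020) (tt N28247 (iv D62050)) (tt N29861 (iv F279360)) (tt N28302 F277021) (tt N28515 F277022) (tt N30077 (iv F280742)))
theorem Q29282 : ∀ i, i < 29282 → P i := stepQ 29281 Q29281 (allL N29281 (tt N28250 F277023) (tt N28908 F277024) (tt N28302 F277025) (tt N28911 F277026) (tt N28249 (iv D62051)) (tt N28906 F277027) (tt N28251 F277028) (tt N28909 F277029) (tt N28458 F277030) (tt N30078 (iv F280752)))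
theorem Q29283 : ∀ i, i < 29283 → P i := stepQ 29282 Q29282 (allL N29282 (tt N28252 F277031) (tt N28379 F277032) (tt N28913 (iv F277037)) (tt N28251 (iv D62052)) (tt N28289 F277033) (tt N28424 F277034) (tt N28911 F277035) (tt N28300 F277036) (tt N30052 (iv F280564)) (tt N30079 (iv F280759)))
theorem Q29284 : ∀ i, i < 29284 → P i := stepQ 29283 Q29283 (allL N29283 (tt N30080 D62850) (tt N28255 (iv D62053)) (tt N28257 F277038) (tt N28641 F277039) (tt N30075 (iv F280723)) (tt N28261 F277040) (tt N28371 F277041) (tt N28270 F277042) (tt N28256 F277043) (tt N28470 F277044))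
theorem Q29285 : ∀ i, i < 29285 → P i := stepQ 29284 Q29284 (allL N29284 (tt N28256 (iv D62054)) (tt N28342 F277045) (tt N28259 F277046) (tt N28292 F277047) (tt N30077 (iv F280740)) (tt N28274 F277048) (tt N28377 F277049) (tt N28284 F277050) (tt N30080 (iv F280768)) (tt N28291 F277051))
theorem Q29286 : ∀ i, i < 29286 → P i := stepQ 29285 Q29285 (allL N29285 (tt N28257 (iv D62055)) (tt N28452 F277052) (tt N30080 (iv F280763)) (tt N28466 F277053) (tt N30081 D62851) (tt N28434 F277054) (tt N28881 F277055) (tt N28914 F277056) (tt N28259 F277057) (tt N28916 F277058))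
theorem Q29287 : ∀ i, i < 29287 → P i := stepQ 29286 Q29286 (allL N29286 (tt N30081 (iv F280770)) (tt N28258 F277059) (tt N30075 (iv F280722)) (tt N28981 (iv F277065)) (tt N28257 (iv D62056)) (tt N28501 F277060) (tt N28882 F277061) (tt N28915 F277062) (tt N28260 F277063) (tt N28917 F277064))
theorem Q29288 : ∀ i, i < 29288 → P i := stepQ 29287 Q29287 (allL N29287 (tt N28260 F277066) (tt N28899 F277067) (tt N30077 (iv F280738)) (tt N28907 F277068) (tt N28259 (iv D62057)) (tt N30072 (iv F280705)) (tt N28890 F277069) (tt N30078 (iv F280750)) (tt N30081 (iv F280775)) (tt N28909 F277070))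
theorem Q29289 : ∀ i, i < 29289 → P i := stepQ 29288 Q29288 (allL N29288 (tt N28261 (iv D62058)) (tt N28313 F277071) (tt N28434 F277072) (tt N28848 F277073) (tt N28463 F277074) (tt N30080 (iv F280765)) (tt N28431 F277075) (tt N28272 F277076) (tt N28274 F277077) (tt N28472 F277078))
theorem Q29290 : ∀ i, i < 29290 → P i := stepQ 29289 Q29289 (allL N29289 (tt N30082 D62852) (tt N28262 (iv D62059)) (tt N28799 F277079) (tt N28277 F277080) (tt N30083 D62853) (tt N28648 F277081) (tt N28758 F277082) (tt N28624 F277083) (tt N28266 F277084) (tt N28795 F277085))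
theorem Q29291 : ∀ i, i < 29291 → P i := stepQ 29290 Q29290 (allL N29290 (tt N28322 F277086) (tt N30083 (iv F280786)) (tt N28263 F277087) (tt N30084 D62854) (tt N28262 (iv D62060)) (tt N30085 D62855) (tt N28759 F277088) (tt N28625 F277089) (tt N28267 F277090) (tt N28796 F277091))
theorem Q29292 : ∀ i, i < 29292 → P i := stepQ 29291 Q29291 (allL N29291 (tt N28323 F277092) (tt N28719 F277093) (tt N30085 (iv F280800)) (tt N29291 F277094) (tt N28650 F277095) (tt N28263 (iv D62061)) (tt N30086 D62856) (tt N28619 F277096) (tt N28268 F277097) (tt N28618 F277098))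
theorem Q29293 : ∀ i, i < 29293 → P i := stepQ 29292 Q29292 (allL N29292 (tt N30087 D62857) (tt N28264 (iv D62062)) (tt N28828 F277099) (tt N28270 F277100) (tt N30088 D62858) (tt N28266 F277101) (tt N28675 F277102) (tt N28641 F277103) (tt N28648 F277104) (tt N28473 F277105))
theorem Q29294 : ∀ i, i < 29294 → P i := stepQ 29293 Q29293 (allL N29293 (tt N28325 F277106) (tt N30088 (iv F280821)) (tt N28265 F277107) (tt N30089 D62859) (tt N28264 (iv D62063)) (tt N30090 D62860) (tt N28676 F277108) (tt N28642 F277109) (tt N28649 F277110) (tt N28474 F277111))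
theorem Q29295 : ∀ i, i < 29295 → P i := stepQ 29294 Q29294 (allL N29294 (tt N28326 F277112) (tt N28617 F277113) (tt N30090 (iv F280834)) (tt N29294 F277114) (tt N28268 F277115) (tt N28265 (iv D62064)) (tt N30091 D62861) (tt N28621 F277116) (tt N28650 F277117) (tt N28475 F277118))
theorem Q29296 : ∀ i, i < 29296 → P i := stepQ 29295 Q29295 (allL N29295 (tt N28266 (iv D62065)) (tt N28327 F277119) (tt N28833 F277120) (tt N28272 F277121) (tt N30092 D62862) (tt N30087 (iv F280816)) (tt N28764 F277122) (tt N28848 F277123) (tt N30082 (iv F280784)) (tt N28476 F277124))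
theorem Q29297 : ∀ i, i < 29297 → P i := stepQ 29296 Q29296 (allL N29296 (tt N30092 (iv F280847)) (tt N28267 F277125) (tt N28834 F277126) (tt N28886 F277127) (tt N28266 (iv D62066)) (tt N30093 D62863) (tt N28765 F277128) (tt N28849 F277129) (tt N30083 (iv F280790)) (tt N28477 F277130))
theorem Q29298 : ∀ i, i < 29298 → P i := stepQ 29297 Q29297 (allL N29297 (tt N28329 F277131) (tt N30093 (iv F280854)) (tt N28268 F277132) (tt N28887 F277133) (tt N30090 (iv F280835)) (tt N28267 (iv D62067)) (tt N30094 D62864) (tt N28712 F277134) (tt N30085 (iv F280803)) (tt N28478 F277135))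
theorem Q29299 : ∀ i, i < 29299 → P i := stepQ 29298 Q29298 (allL N29298 (tt N28330 F277136) (tt N28836 F277137) (tt N30094 (iv F280860)) (tt N28269 F277138) (tt N30091 (iv F280842)) (tt N28495 F277139) (tt N28268 (iv D62068)) (tt N28722 F277140) (tt N30086 (iv F280811)) (tt N28479 F277141))
theorem Q29300 : ∀ i, i < 29300 → P i := stepQ 29299 Q29299 (allL N29299 (tt N28270 (iv D62069)) (tt N28332 F277142) (tt N28914 F277143) (tt N30087 (iv F280815)) (tt N30095 D62865) (tt N28272 F277144) (tt N28752 F277145) (tt N30080 (iv F280767)) (tt N28284 F277146) (tt N28480 F277147))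
theorem Q29301 : ∀ i, i < 29301 → P i := stepQ 29300 Q29300 (allL N29300 (tt N30095 (iv F280865)) (tt N28271 F277148) (tt N28915 F277149) (tt N30096 D62866) (tt N28270 (iv D62070)) (tt N28920 F277150) (tt N28753 F277151) (tt N30075 (iv F280724)) (tt N28285 F277152) (tt N28481 F277153))
theorem Q29302 : ∀ i, i < 29302 → P i := stepQ 29301 Q29301 (allL N29301 (tt N28334 F277154) (tt N30096 (iv F280872)) (tt N29301 F277155) (tt N28271 (iv D62071)) (tt N30089 (iv F280829)) (tt N28921 F277156) (tt N28754 F277157) (tt N30076 (iv F280732)) (tt N30097 D62867) (tt N28482 F277158))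
theorem Q29303 : ∀ i, i < 29303 → P i := stepQ 29302 Q29302 (allL N29302 (tt N28273 (iv D62072)) (tt N28340 F277159) (tt N28296 F277160) (tt N28274 F277161) (tt N30079 (iv F280755)) (tt N28292 F277162) (tt N28367 F277163) (tt N28281 F277164) (tt N28632 F277165) (tt N28289 F277166))
theorem Q29304 : ∀ i, i < 29304 → P i := stepQ 29303 Q29303 (allL N29303 (tt N28275 (iv D62073)) (tt N28377 F277167) (tt N28281 F277168) (tt N28291 F277169) (tt N30098 D62868) (tt N28289 F277170) (tt N28342 F277171) (tt N28296 F277172) (tt N30037 (iv F280474)) (tt N28292 F277173))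
theorem Q29305 : ∀ i, i < 29305 → P i := stepQ 29304 Q29304 (allL N29304 (tt N30098 (iv F280882)) (tt N28276 F277174) (tt N28282 F277175) (tt N28418 F277176) (tt N28275 (iv D62074)) (tt N28417 F277177) (tt N28343 F277178) (tt N28297 F277179) (tt N30038 (iv F280481)) (tt N28293 F277180))
theorem Q29306 : ∀ i, i < 29306 → P i := stepQ 29305 Q29305 (allL N29305 (tt N28277 (iv D62075)) (tt N28353 F277181) (tt N30037 (iv F280469)) (tt N30082 (iv F280780)) (tt N30099 D62869) (tt N28658 F277182) (tt N28894 F277183) (tt N28632 F277184) (tt N28281 F277185) (tt N29982 (iv F280172)))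
theorem Q29307 : ∀ i, i < 29307 → P i := stepQ 29306 Q29306 (allL N29306 (tt N30099 (iv F280890)) (tt N28278 F277186) (tt N30038 (iv F280477)) (tt N30100 D62870) (tt N28277 (iv D62076)) (tt N30101 D62871) (tt N28895 F277187) (tt N28633 F277188) (tt N28282 F277189) (tt N29983 (iv F280178)))
theorem Q29308 : ∀ i, i < 29308 → P i := stepQ 29307 Q29307 (allL N29307 (tt N28355 F277190) (tt N30100 (iv F280895)) (tt N29307 F277191) (tt N28278 (iv D62077)) (tt N30084 (iv F280794)) (tt N30102 D62872) (tt N28896 F277192) (tt N28634 F277193) (tt N29954 (iv F279978)) (tt N29984 (iv F280185)))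
theorem Q29309 : ∀ i, i < 29309 → P i := stepQ 29308 Q29308 (allL N29308 (tt N28356 F277194) (tt N30101 (iv F280898)) (tt N28279 F277195) (tt N30102 (iv F280906)) (tt N28413 F277196) (tt N28278 (iv D62078)) (tt N28403 F277197) (tt N28365 F277198) (tt N28283 F277199) (tt N29985 (iv F280192)))
theorem Q29310 : ∀ i, i < 29310 → P i := stepQ 29309 Q29309 (allL N29309 (tt N28280 (iv D62079)) (tt N28357 F277200) (tt N28289 F277201) (tt N28284 F277202) (tt N28913 F277203) (tt N28281 F277204) (tt N28422 F277205) (tt N28292 F277206) (tt N28658 F277207) (tt N28296 F277208))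
theorem Q29311 : ∀ i, i < 29311 → P i := stepQ 29310 Q29310 (allL N29310 (tt N28282 F277209) (tt N28359 F277210) (tt N30098 (iv F280884)) (tt N30058 (iv F280608)) (tt N28281 (iv D62080)) (tt N30103 D62873) (tt N28897 F277211) (tt N30079 (iv F280758)) (tt N30099 (iv F280894)) (tt N28300 F277212))
theorem Q29312 : ∀ i, i < 29312 → P i := stepQ 29311 Q29311 (allL N29311 (tt N30103 (iv F280910)) (tt N28283 F277213) (tt N28417 F277214) (tt N28343 F277215) (tt N28421 F277216) (tt N28282 (iv D62081)) (tt N28418 F277217) (tt N28364 F277218) (tt N30101 (iv F280903)) (tt N28301 F277219))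
theorem Q29313 : ∀ i, i < 29313 → P i := stepQ 29312 Q29312 (allL N29312 (tt N28285 F277220) (tt N28363 F277221) (tt N30078 (iv F280746)) (tt N30104 D62874) (tt N28284 (iv D62082)) (tt N30059 (iv F280617)) (tt N29857 (iv F279328)) (tt N30077 (iv F280741)) (tt N30095 (iv F280870)) (tt N28302 F277222))
theorem Q29314 : ∀ i, i < 29314 → P i := stepQ 29313 Q29313 (allL N29313 (tt N30104 (iv F280918)) (tt N28286 F277223) (tt N28877 F277224) (tt N28285 (iv D62083)) (tt N28893 F277225) (tt N28341 F277226) (tt N28891 F277227) (tt N28360 F277228) (tt N30105 D62875) (tt N28303 F277229))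
theorem Q29315 : ∀ i, i < 29315 → P i := stepQ 29314 Q29314 (allL N29314 (tt N28365 F277230) (tt N30105 (iv F280926)) (tt N28287 F277231) (tt N30097 (iv F280878)) (tt N28514 F277232) (tt N28339 F277233) (tt N28884 F277234) (tt N28356 F277235) (tt N28286 (iv D62084)) (tt N30106 D62876))
theorem Q29316 : ∀ i, i < 29316 → P i := stepQ 29315 Q29315 (allL N29315 (tt N28366 F277236) (tt N28871 F277237) (tt N30106 (iv F280933)) (tt N29315 F277238) (tt N28488 F277239) (tt N28337 F277240) (tt N28880 F277241) (tt N28352 F277242) (tt N28306 F277243) (tt N28287 (iv D62085)))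
theorem Q29317 : ∀ i, i < 29317 → P i := stepQ 29316 Q29316 (allL N29316 (tt N28290 (iv D62086)) (tt N28292 F277244) (tt N28382 F277245) (tt N28342 F277246) (tt N29861 (iv F279358)) (tt N28340 F277247) (tt N28291 F277248) (tt N28357 F277249) (tt N28511 F277250) (tt N28377 F277251))
theorem Q29318 : ∀ i, i < 29318 → P i := stepQ 29317 Q29317 (allL N29317 (tt N28293 F277252) (tt N29861 (iv F279356)) (tt N28300 F277253) (tt N30107 D62877) (tt N28292 (iv D62087)) (tt N30108 D62878) (tt N28380 F277254) (tt N28913 F277255) (tt N28661 F277256) (tt N30098 (iv F280889)))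
theorem Q29319 : ∀ i, i < 29319 → P i := stepQ 29318 Q29318 (allL N29318 (tt N30107 (iv F280939)) (tt N28294 F277257) (tt N28868 F277258) (tt N28293 (iv D62088)) (tt N28360 F277259) (tt N28358 (iv F277263)) (tt N28301 F277260) (tt N28893 F277261) (tt N29925 (iv F279785)) (tt N28418 F277262))
theorem Q29320 : ∀ i, i < 29320 → P i := stepQ 29319 Q29319 (allL N29319 (tt N30108 (iv F280947)) (tt N28295 F277264) (tt N28301 F277265) (tt N28358 F277266) (tt N28364 F277267) (tt N28293 (iv D62089)) (tt N28868 F277268) (tt N28421 F277269) (tt N28663 F277270) (tt N28417 F277271))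
theorem Q29321 : ∀ i, i < 29321 → P i := stepQ 29320 Q29320 (allL N29320 (tt N28297 F277272) (tt N28416 F277273) (tt N30079 (iv F280760)) (tt N30109 D62879) (tt N28296 (iv D62090)) (tt N30110 D62880) (tt N28905 F277274) (tt N30098 (iv F280888)) (tt N30040 (iv F280495)) (tt N28913 F277275))
theorem Q29322 : ∀ i, i < 29322 → P i := stepQ 29321 Q29321 (allL N29321 (tt N30109 (iv F280956)) (tt N28298 F277276) (tt N28891 F277277) (tt N28297 (iv D62091)) (tt N28303 F277278) (tt N28378 (iv F277282)) (tt N28877 F277279) (tt N28418 F277280) (tt N30111 D62881) (tt N28893 F277281))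
theorem Q29323 : ∀ i, i < 29323 → P i := stepQ 29322 Q29322 (allL N29322 (tt N30110 (iv F280964)) (tt N28299 F277283) (tt N28364 F277284) (tt N28378 F277285) (tt N28301 F277286) (tt N28297 (iv D62092)) (tt N28360 F277287) (tt N28417 F277288) (tt N30042 (iv F280504)) (tt N28421 F277289))
theorem Q29324 : ∀ i, i < 29324 → P i := stepQ 29323 Q29323 (allL N29323 (tt N28419 F277290) (tt N30111 (iv F280972)) (tt N28305 F277291) (tt N30044 (iv F280514)) (tt N28304 F277292) (tt N28372 F277293) (tt N28875 F277294) (tt N28403 F277295) (tt N28298 (iv D62093)) (tt N30112 D62882))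
theorem Q29325 : ∀ i, i < 29325 → P i := stepQ 29324 Q29324 (allL N29324 (tt N28301 F277296) (tt N28420 F277297) (tt N30108 (iv F280949)) (tt N28380 F277298) (tt N30110 (iv F280968)) (tt N28300 (iv D62094)) (tt N30107 (iv F280943)) (tt N28424 F277299) (tt N30053 (iv F280572)) (tt N30103 (iv F280917)))
theorem Q29326 : ∀ i, i < 29326 → P i := stepQ 29325 Q29325 (allL N29325 (tt N28303 F277300) (tt N28424 F277301) (tt N28892 F277302) (tt N28302 (iv D62095)) (tt N30109 (iv F280959)) (tt N28379 F277303) (tt N29858 (iv F279337)) (tt N28420 F277304) (tt N30113 D62883) (tt N30104 (iv F280925)))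
theorem Q29327 : ∀ i, i < 29327 → P i := stepQ 29326 Q29326 (allL N29326 (tt N30113 (iv F280985)) (tt N28304 F277305) (tt N28889 F277306) (tt N28529 F277307) (tt N30111 (iv F280974)) (tt N28376 F277308) (tt N29859 (iv F279345)) (tt N28411 F277309) (tt N28303 (iv D62096)) (tt N30114 D62884))
theorem Q29328 : ∀ i, i < 29328 → P i := stepQ 29327 Q29327 (allL N29327 (tt N28426 F277310) (tt N30114 (iv F280991)) (tt N28306 F277311) (tt N28530 F277312) (tt N30112 (iv F280980)) (tt N28374 F277313) (tt N29860 (iv F279352)) (tt N28407 F277314) (tt N30106 (iv F280938)) (tt N28304 (iv D62097)))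
theorem Q29329 : ∀ i, i < 29329 → P i := stepQ 29328 Q29328 (allL N29328 (tt N28427 F277315) (tt N28880 F277316) (tt N30112 (iv F280979)) (tt N29328 F277317) (tt N28306 F277318) (tt N28370 F277319) (tt N28871 F277320) (tt N28399 F277321) (tt N28488 F277322) (tt N28305 (iv D62098)))
theorem Q29330 : ∀ i, i < 29330 → P i := stepQ 29329 Q29329 (allL N29329 (tt N30115 D62885) (tt N28307 (iv D62099)) (tt N28678 F277323) (tt N28338 F277324) (tt N30036 (iv F280464)) (tt N28506 F277325) (tt N28497 F277326) (tt N28321 F277327) (tt N28310 F277328) (tt N28669 F277329))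
theorem Q29331 : ∀ i, i < 29331 → P i := stepQ 29330 Q29330 (allL N29330 (tt N30116 D62886) (tt N28308 (iv D62100)) (tt N28961 F277330) (tt N28311 F277331) (tt N30117 D62887) (tt N28310 F277332) (tt N28503 F277333) (tt N28324 F277334) (tt N28506 F277335) (tt N28534 F277336))
theorem Q29332 : ∀ i, i < 29332 → P i := stepQ 29331 Q29331 (allL N29331 (tt N28642 F277337) (tt N30117 (iv F281012)) (tt N28309 F277338) (tt N30118 D62888) (tt N28308 (iv D62101)) (tt N29947 (iv F279928)) (tt N28504 F277339) (tt N28325 F277340) (tt N28507 F277341) (tt N28535 F277342))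
theorem Q29333 : ∀ i, i < 29333 → P i := stepQ 29332 Q29332 (allL N29332 (tt N28310 (iv D62102)) (tt N28848 F277343) (tt N29989 (iv F280210)) (tt N28313 F277344) (tt N30057 (iv F280602)) (tt N30116 (iv F281007)) (tt N28864 F277345) (tt N28327 F277346) (tt N30115 (iv F281002)) (tt N28536 F277347))
theorem Q29334 : ∀ i, i < 29334 → P i := stepQ 29333 Q29333 (allL N29333 (tt N28311 (iv D62103)) (tt N30080 (iv F280762)) (tt N28894 F277348) (tt N30116 (iv F281006)) (tt N30119 D62889) (tt N28313 F277349) (tt N30037 (iv F280472)) (tt N28332 F277350) (tt N28342 F277351) (tt N28539 F277352))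
theorem Q29335 : ∀ i, i < 29335 → P i := stepQ 29334 Q29334 (allL N29334 (tt N30119 (iv F281024)) (tt N28312 F277353) (tt N28895 F277354) (tt N30120 D62890) (tt N28311 (iv D62104)) (tt N29953 (iv F279967)) (tt N30038 (iv F280479)) (tt N28333 F277355) (tt N28343 F277356) (tt N28540 F277357))
theorem Q29336 : ∀ i, i < 29336 → P i := stepQ 29335 Q29335 (allL N29335 (tt N30076 (iv F280728)) (tt N30120 (iv F281029)) (tt N29335 F277358) (tt N28312 (iv D62105)) (tt N30118 (iv F281020)) (tt N29954 (iv F279975)) (tt N30039 (iv F280487)) (tt N28334 F277359) (tt N30102 (iv F280909)) (tt N28541 F277360))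
theorem Q29337 : ∀ i, i < 29337 → P i := stepQ 29336 Q29336 (allL N29336 (tt N28314 (iv D62106)) (tt N29966 (iv F280060)) (tt N28327 F277361) (tt N28769 F277362) (tt N30121 D62891) (tt N29873 (iv F279446)) (tt N28825 F277363) (tt N29989 (iv F280214)) (tt N29878 (iv F279484)) (tt N28552 F277364))
theorem Q29338 : ∀ i, i < 29338 → P i := stepQ 29337 Q29337 (allL N29337 (tt N30121 (iv F281032)) (tt N28315 F277365) (tt N28328 F277366) (tt N30122 D62892) (tt N28314 (iv D62107)) (tt N30123 D62893) (tt N28826 F277367) (tt N29990 (iv F280220)) (tt N29879 (iv F279490)) (tt N28553 F277368))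
theorem Q29339 : ∀ i, i < 29339 → P i := stepQ 29338 Q29338 (allL N29338 (tt N29920 (iv F279748)) (tt N30122 (iv F281036)) (tt N28317 F277369) (tt N28315 (iv D62108)) (tt N28771 F277370) (tt N30124 D62894) (tt N28701 F277371) (tt N29896 (iv F279598)) (tt N30125 D62895) (tt N28554 F277372))
theorem Q29340 : ∀ i, i < 29340 → P i := stepQ 29339 Q29339 (allL N29339 (tt N29968 (iv F280074)) (tt N30123 (iv F281040)) (tt N28316 F277373) (tt N30124 (iv F281044)) (tt N29876 (iv F279466)) (tt N28315 (iv D62109)) (tt N30126 D62896) (tt N29941 F279891) (tt N29881 (iv F279502)) (tt N28555 F277374))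
theorem Q29341 : ∀ i, i < 29341 → P i := stepQ 29340 Q29340 (allL N29340 (tt N29872 (iv F279435)) (tt N28330 F277375) (tt N30126 (iv F281052)) (tt N28319 F277376) (tt N29877 (iv F279473)) (tt N28614 F277377) (tt N28316 (iv D62110)) (tt N28717 F277378) (tt N29882 (iv F279510)) (tt N28556 F277379))
theorem Q29342 : ∀ i, i < 29342 → P i := stepQ 29341 Q29341 (allL N29341 (tt N29871 (iv F279427)) (tt N28722 F277380) (tt N30124 (iv F281043)) (tt N28318 F277381) (tt N30086 (iv F280808)) (tt N28317 (iv D62111)) (tt N28650 F277382) (tt N28836 F277383) (tt N30091 (iv F280845)) (tt N28557 F277384))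
theorem Q29343 : ∀ i, i < 29343 → P i := stepQ 29342 Q29342 (allL N29342 (tt N28730 F277385) (tt N29916 (iv F279721)) (tt N30125 (iv F281049)) (tt N29342 F277386) (tt N28729 F277387) (tt N30091 (iv F280843)) (tt N28677 F277388) (tt N29893 (iv F279577)) (tt N28317 (iv D62112)) (tt N29882 (iv F279511)))
theorem Q29344 : ∀ i, i < 29344 → P i := stepQ 29343 Q29343 (allL N29343 (tt N30127 D62897) (tt N28320 (iv D62113)) (tt N28675 F277389) (tt N28350 F277390) (tt N30024 (iv F280391)) (tt N28747 F277391) (tt N28828 F277392) (tt N28669 F277393) (tt N28560 F277394) (tt N28321 F277395))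
theorem Q29345 : ∀ i, i < 29345 → P i := stepQ 29344 Q29344 (allL N29344 (tt N28321 (iv D62114)) (tt N30082 (iv F280778)) (tt N29878 (iv F279479)) (tt N28353 F277396) (tt N30128 D62898) (tt N29867 (iv F279403)) (tt N28830 F277397) (tt N30115 (iv F281001)) (tt N28327 F277398) (tt N30127 (iv F281064)))
theorem Q29346 : ∀ i, i < 29346 → P i := stepQ 29345 Q29345 (allL N29345 (tt N30128 (iv F281065)) (tt N28322 F277399) (tt N29879 (iv F279487)) (tt N30129 D62899) (tt N28321 (iv D62115)) (tt N30130 D62900) (tt N28831 F277400) (tt N30036 (iv F280466)) (tt N28328 F277401) (tt N30024 (iv F280394)))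
theorem Q29347 : ∀ i, i < 29347 → P i := stepQ 29346 Q29346 (allL N29346 (tt N30084 (iv F280792)) (tt N30129 (iv F281068)) (tt N29346 F277402) (tt N28322 (iv D62116)) (tt N28355 F277403) (tt N30131 D62901) (tt N28832 F277404) (tt N30009 (iv F280301)) (tt N30062 (iv F280641)) (tt N29988 F280208))
theorem Q29348 : ∀ i, i < 29348 → P i := stepQ 29347 Q29347 (allL N29347 (tt N30085 (iv F280799)) (tt N30130 (iv F281071)) (tt N28323 F277405) (tt N30131 (iv F281074)) (tt N29870 (iv F279423)) (tt N28322 (iv D62117)) (tt N30132 D62902) (tt N29915 (iv F279718)) (tt N28329 F277406) (tt N29903 (iv F279646)))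
theorem Q29349 : ∀ i, i < 29349 → P i := stepQ 29348 Q29348 (allL N29348 (tt N30086 (iv F280805)) (tt N29882 (iv F279505)) (tt N30132 (iv F281075)) (tt N29348 F277407) (tt N29871 (iv F279430)) (tt N28615 F277408) (tt N28323 (iv D62118)) (tt N29978 (iv F280147)) (tt N28330 F277409) (tt N29916 (iv F279727)))
theorem Q29350 : ∀ i, i < 29350 → P i := stepQ 29349 Q29349 (allL N29349 (tt N28324 (iv D62119)) (tt N30087 (iv F280813)) (tt N29873 (iv F279444)) (tt N28332 F277410) (tt N30133 D62903) (tt N28327 F277411) (tt N28816 F277412) (tt N30116 (iv F281009)) (tt N29867 (iv F279406)) (tt N28565 F277413))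
theorem Q29351 : ∀ i, i < 29351 → P i := stepQ 29350 Q29350 (allL N29350 (tt N30133 (iv F281078)) (tt N28325 F277414) (tt N29874 (iv F279452)) (tt N30134 D62904) (tt N28324 (iv D62120)) (tt N30135 D62905) (tt N28817 F277415) (tt N30117 (iv F281015)) (tt N29868 (iv F279412)) (tt N28566 F277416))
theorem Q29352 : ∀ i, i < 29352 → P i := stepQ 29351 Q29351 (allL N29351 (tt N30089 (iv F280827)) (tt N30134 (iv F281081)) (tt N29351 F277417) (tt N28325 (iv D62121)) (tt N28334 F277418) (tt N30136 D62906) (tt N28818 F277419) (tt N30118 (iv F281022)) (tt N30137 D62907) (tt N28567 F277420))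
theorem Q29353 : ∀ i, i < 29353 → P i := stepQ 29352 Q29352 (allL N29352 (tt N30090 (iv F280833)) (tt N30135 (iv F281085)) (tt N28326 F277421) (tt N30136 (iv F281089)) (tt N28329 F277422) (tt N28325 (iv D62122)) (tt N30138 D62908) (tt N29947 (iv F279930)) (tt N29870 (iv F279425)) (tt N28568 F277423))
theorem Q29354 : ∀ i, i < 29354 → P i := stepQ 29353 Q29353 (allL N29353 (tt N30091 (iv F280839)) (tt N29877 (iv F279471)) (tt N30138 (iv F281096)) (tt N29353 F277424) (tt N28330 F277425) (tt N28730 F277426) (tt N28326 (iv D62123)) (tt N29973 (iv F280112)) (tt N29871 (iv F279433)) (tt N28569 F277427))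
theorem Q29355 : ∀ i, i < 29355 → P i := stepQ 29354 Q29354 (allL N29354 (tt N28328 F277428) (tt N30092 (iv F280848)) (tt N30121 (iv F281033)) (tt N30068 (iv F280682)) (tt N28327 (iv D62124)) (tt N30139 D62909) (tt N28840 F277429) (tt N30057 (iv F280604)) (tt N30128 (iv F281067)) (tt N28570 F277430))
theorem Q29356 : ∀ i, i < 29356 → P i := stepQ 29355 Q29355 (allL N29355 (tt N30139 (iv F281100)) (tt N28329 F277431) (tt N30123 (iv F281041)) (tt N30069 (iv F280686)) (tt N30135 (iv F281086)) (tt N28328 (iv D62125)) (tt N30140 D62910) (tt N29950 (iv F279948)) (tt N30130 (iv F281072)) (tt N28571 F277432))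
theorem Q29357 : ∀ i, i < 29357 → P i := stepQ 29356 Q29356 (allL N29356 (tt N30094 (iv F280859)) (tt N30140 (iv F281102)) (tt N28330 F277433) (tt N28593 F277434) (tt N30138 (iv F281097)) (tt N28592 F277435) (tt N28329 (iv D62126)) (tt N30141 D62911) (tt N30132 (iv F281077)) (tt N28572 F277436))
theorem Q29358 : ∀ i, i < 29358 → P i := stepQ 29357 Q29357 (allL N29357 (tt N28722 F277437) (tt N28717 F277438) (tt N30141 (iv F281107)) (tt N28331 F277439) (tt N29973 (iv F280110)) (tt N28613 F277440) (tt N28429 F277441) (tt N28330 (iv D62127)) (tt N29978 (iv F280148)) (tt N28428 F277442))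
theorem Q29359 : ∀ i, i < 29359 → P i := stepQ 29358 Q29358 (allL N29358 (tt N28333 F277443) (tt N30095 (iv F280866)) (tt N28977 F277444) (tt N30142 D62912) (tt N28332 (iv D62128)) (tt N30070 (iv F280692)) (tt N28822 F277445) (tt N30119 (iv F281026)) (tt N28363 F277446) (tt N28576 F277447))
theorem Q29360 : ∀ i, i < 29360 → P i := stepQ 29359 Q29359 (allL N29359 (tt N30142 (iv F281112)) (tt N28334 F277448) (tt N30143 D62913) (tt N28333 (iv D62129)) (tt N30134 (iv F281082)) (tt N30071 (iv F280697)) (tt N28823 F277449) (tt N30120 (iv F281030)) (tt N30144 D62914) (tt N28577 F277450))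
theorem Q29361 : ∀ i, i < 29361 → P i := stepQ 29360 Q29360 (allL N29360 (tt N30097 (iv F280876)) (tt N30144 (iv F281119)) (tt N29360 F277451) (tt N28365 F277452) (tt N30137 (iv F281094)) (tt N28634 F277453) (tt N28824 F277454) (tt N30102 (iv F280908)) (tt N28334 (iv D62130)) (tt N30145 D62915))
theorem Q29362 : ∀ i, i < 29362 → P i := stepQ 29361 Q29361 (allL N29361 (tt N30146 D62916) (tt N28336 (iv D62131)) (tt N28869 F277455) (tt N28669 F277456) (tt N30147 D62917) (tt N28486 F277457) (tt N28483 F277458) (tt N28350 F277459) (tt N28373 F277460) (tt N28338 F277461))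
theorem Q29363 : ∀ i, i < 29363 → P i := stepQ 29362 Q29362 (allL N29362 (tt N28581 F277462) (tt N30147 (iv F281136)) (tt N28337 F277463) (tt N30003 (iv F280274)) (tt N28336 (iv D62132)) (tt N30106 (iv F280935)) (tt N28484 F277464) (tt N28351 F277465) (tt N28374 F277466) (tt N28339 F277467))
theorem Q29364 : ∀ i, i < 29364 → P i := stepQ 29363 Q29363 (allL N29363 (tt N28338 (iv D62133)) (tt N28632 F277468) (tt N28872 F277469) (tt N30115 (iv F280998)) (tt N30148 D62918) (tt N28511 F277470) (tt N28500 F277471) (tt N28353 F277472) (tt N28340 F277473) (tt N30146 (iv F281135)))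
theorem Q29365 : ∀ i, i < 29365 → P i := stepQ 29364 Q29364 (allL N29364 (tt N30148 (iv F281142)) (tt N28339 F277474) (tt N28873 F277475) (tt N30149 D62919) (tt N28338 (iv D62134)) (tt N30105 (iv F280929)) (tt N28501 F277476) (tt N28354 F277477) (tt N28341 F277478) (tt N30147 (iv F281141)))
theorem Q29366 : ∀ i, i < 29366 → P i := stepQ 29365 Q29365 (allL N29365 (tt N28634 F277479) (tt N30149 (iv F281148)) (tt N29365 F277480) (tt N28339 (iv D62135)) (tt N30009 (iv F280299)) (tt N30097 (iv F280879)) (tt N28502 F277481) (tt N28355 F277482) (tt N28921 F277483) (tt N30003 (iv F280278)))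
theorem Q29367 : ∀ i, i < 29367 → P i := stepQ 29366 Q29366 (allL N29366 (tt N28341 F277484) (tt N30079 (iv F280754)) (tt N28876 F277485) (tt N30059 (iv F280616)) (tt N28340 (iv D62136)) (tt N30104 (iv F280922)) (tt N30072 (iv F280706)) (tt N28359 F277486) (tt N30148 (iv F281147)) (tt N28379 F277487))
theorem Q29368 : ∀ i, i < 29368 → P i := stepQ 29367 Q29367 (allL N29367 (tt N28343 F277488) (tt N30077 (iv F280737)) (tt N28897 F277489) (tt N30103 (iv F280913)) (tt N28342 (iv D62137)) (tt N30058 (iv F280609)) (tt N30098 (iv F280887)) (tt N28363 F277490) (tt N30119 (iv F281027)) (tt N28380 F277491))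
theorem Q29369 : ∀ i, i < 29369 → P i := stepQ 29368 Q29368 (allL N29368 (tt N28344 (iv D62138)) (tt N28881 F277492) (tt N28353 F277493) (tt N28442 F277494) (tt N30150 D62920) (tt N28439 F277495) (tt N28452 F277496) (tt N28872 F277497) (tt N28347 F277498) (tt N30064 (iv F280657)))
theorem Q29370 : ∀ i, i < 29370 → P i := stepQ 29369 Q29369 (allL N29369 (tt N30150 (iv F281152)) (tt N28345 F277499) (tt N28354 F277500) (tt N30151 D62921) (tt N28344 (iv D62139)) (tt N30152 D62922) (tt N28453 F277501) (tt N28873 F277502) (tt N28348 F277503) (tt N30065 (iv F280663)))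
theorem Q29371 : ∀ i, i < 29371 → P i := stepQ 29370 Q29370 (allL N29370 (tt N28883 F277504) (tt N30151 (iv F281158)) (tt N29370 F277505) (tt N28345 (iv D62140)) (tt N28444 F277506) (tt N28824 (iv F277510)) (tt N28454 F277507) (tt N28874 F277508) (tt N28735 F277509) (tt N30066 (iv F280670)))
theorem Q29372 : ∀ i, i < 29372 → P i := stepQ 29371 Q29371 (allL N29371 (tt N28884 F277511) (tt N30152 (iv F281164)) (tt N28346 F277512) (tt N28824 F277513) (tt N28441 F277514) (tt N28345 (iv D62141)) (tt N28365 F277515) (tt N28875 F277516) (tt N28349 F277517) (tt N30067 (iv F280679)))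
theorem Q29373 : ∀ i, i < 29373 → P i := stepQ 29372 Q29372 (allL N29372 (tt N28348 F277518) (tt N28890 F277519) (tt N28359 F277520) (tt N28738 F277521) (tt N28347 (iv D62142)) (tt N30153 D62923) (tt N28899 F277522) (tt N28876 F277523) (tt N30150 (iv F281157)) (tt N28395 F277524))
theorem Q29374 : ∀ i, i < 29374 → P i := stepQ 29373 Q29373 (allL N29373 (tt N30153 (iv F281171)) (tt N28349 F277525) (tt N28360 F277526) (tt N28362 F277527) (tt N28868 F277528) (tt N28348 (iv D62143)) (tt N28364 F277529) (tt N28877 F277530) (tt N30152 (iv F281170)) (tt N28396 F277531))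
theorem Q29375 : ∀ i, i < 29375 → P i := stepQ 29374 Q29374 (allL N29374 (tt N28350 (iv D62144)) (tt N29982 (iv F280165)) (tt N30064 (iv F280651)) (tt N30127 (iv F281059)) (tt N30154 D62924) (tt N29897 (iv F279603)) (tt N28900 F277532) (tt N30146 (iv F281133)) (tt N28404 F277533) (tt N28353 F277534))
theorem Q29376 : ∀ i, i < 29376 → P i := stepQ 29375 Q29375 (allL N29375 (tt N30154 (iv F281179)) (tt N28351 F277535) (tt N30065 (iv F280659)) (tt N30155 D62925) (tt N28350 (iv D62145)) (tt N30156 D62926) (tt N28901 F277536) (tt N30147 (iv F281139)) (tt N28405 F277537) (tt N28354 F277538))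
theorem Q29377 : ∀ i, i < 29377 → P i := stepQ 29376 Q29376 (allL N29376 (tt N29984 (iv F280179)) (tt N30155 (iv F281183)) (tt N29376 F277539) (tt N28351 (iv D62146)) (tt N29988 (iv F280205)) (tt N30157 D62927) (tt N28902 F277540) (tt N30003 (iv F280277)) (tt N29976 (iv F280134)) (tt N28355 F277541))
theorem Q29378 : ∀ i, i < 29378 → P i := stepQ 29377 Q29377 (allL N29377 (tt N29985 (iv F280186)) (tt N30156 (iv F281186)) (tt N28352 F277542) (tt N30157 (iv F281190)) (tt N29900 (iv F279624)) (tt N28351 (iv D62147)) (tt N30013 (iv F280326)) (tt N30106 (iv F280937)) (tt N28407 F277543) (tt N28356 F277544))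
theorem Q29379 : ∀ i, i < 29379 → P i := stepQ 29378 Q29378 (allL N29378 (tt N28354 F277545) (tt N30099 (iv F280891)) (tt N30150 (iv F281154)) (tt N30158 D62928) (tt N28353 (iv D62148)) (tt N30159 D62929) (tt N28903 F277546) (tt N30148 (iv F281146)) (tt N28359 F277547) (tt N30154 (iv F281182)))
theorem Q29380 : ∀ i, i < 29380 → P i := stepQ 29379 Q29379 (allL N29379 (tt N30158 (iv F281192)) (tt N28355 F277548) (tt N30160 D62930) (tt N28354 (iv D62149)) (tt N30129 (iv F281069)) (tt N30161 D62931) (tt N28904 F277549) (tt N30149 (iv F281150)) (tt N30074 (iv F280719)) (tt N30155 (iv F281185)))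
theorem Q29381 : ∀ i, i < 29381 → P i := stepQ 29380 Q29380 (allL N29380 (tt N30159 (iv F281194)) (tt N28356 F277550) (tt N30152 (iv F281165)) (tt N30161 (iv F281199)) (tt N29925 (iv F279782)) (tt N28354 (iv D62150)) (tt N30042 (iv F280502)) (tt N30105 (iv F280931)) (tt N28360 F277551) (tt N30156 (iv F281188)))
theorem Q29382 : ∀ i, i < 29382 → P i := stepQ 29381 Q29381 (allL N29381 (tt N30102 (iv F280904)) (tt N30161 (iv F281198)) (tt N29381 F277552) (tt N28356 F277553) (tt N30162 D62932) (tt N28355 (iv D62151)) (tt N30043 (iv F280509)) (tt N30097 (iv F280881)) (tt N30076 (iv F280733)) (tt N30157 (iv F281191)))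
theorem Q29383 : ∀ i, i < 29383 → P i := stepQ 29382 Q29382 (allL N29382 (tt N28358 F277554) (tt N28913 F277555) (tt N28867 F277556) (tt N30108 (iv F280950)) (tt N28357 (iv D62152)) (tt N30107 F280946) (tt N28898 F277557) (tt N29861 (iv F279361)) (tt N29923 (iv F279772)) (tt N28416 F277558))
theorem Q29384 : ∀ i, i < 29384 → P i := stepQ 29383 Q29383 (allL N29383 (tt N28360 F277559) (tt N30103 (iv F280911)) (tt N30153 (iv F281173)) (tt N30077 (iv F280739)) (tt N30107 (iv F280942)) (tt N28359 (iv D62153)) (tt N30110 (iv F280969)) (tt N30104 (iv F280924)) (tt N30159 (iv F281195)) (tt N28420 F277560))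
theorem Q29385 : ∀ i, i < 29385 → P i := stepQ 29384 Q29384 (allL N29384 (tt N28362 F277561) (tt N29857 (iv F279324)) (tt N28907 F277562) (tt N30153 (iv F281174)) (tt N28361 (iv D62154)) (tt N28738 F277563) (tt N28363 F277564) (tt N28905 F277565) (tt N28822 F277566) (tt N28423 F277567))
theorem Q29386 : ∀ i, i < 29386 → P i := stepQ 29385 Q29385 (allL N29385 (tt N28364 F277568) (tt N30104 (iv F280919)) (tt N30110 (iv F280966)) (tt N28363 (iv D62155)) (tt N30108 (iv F280951)) (tt N30079 (iv F280756)) (tt N30153 (iv F281176)) (tt N30103 (iv F280916)) (tt N30163 D62933) (tt N28424 F277569))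
theorem Q29387 : ∀ i, i < 29387 → P i := stepQ 29386 Q29386 (allL N29386 (tt N30163 (iv F281204)) (tt N28365 F277570) (tt N30042 (iv F280500)) (tt N30144 (iv F281120)) (tt N28663 F277571) (tt N28633 F277572) (tt N30152 (iv F281168)) (tt N30101 (iv F280902)) (tt N28364 (iv D62156)) (tt N30164 D62934))
theorem Q29388 : ∀ i, i < 29388 → P i := stepQ 29387 Q29387 (allL N29387 (tt N30106 (iv F280932)) (tt N30164 (iv F281207)) (tt N28366 F277573) (tt N30145 (iv F281124)) (tt N28593 F277574) (tt N28581 F277575) (tt N30067 (iv F280676)) (tt N29985 (iv F280190)) (tt N28426 F277576) (tt N28365 (iv D62157)))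
theorem Q29389 : ∀ i, i < 29389 → P i := stepQ 29388 Q29388 (allL N29388 (tt N28368 F277577) (tt N30072 (iv F280702)) (tt N28905 F277578) (tt N30078 (iv F280747)) (tt N28367 (iv D62158)) (tt N28899 F277579) (tt N30079 (iv F280757)) (tt N28907 F277580) (tt N28635 F277581) (tt N28911 F277582))
theorem Q29390 : ∀ i, i < 29390 → P i := stepQ 29389 Q29389 (allL N29389 (tt N30165 D62935) (tt N28369 (iv D62159)) (tt N28878 F277583) (tt N28643 F277584) (tt N30166 D62936) (tt N28373 F277585) (tt N28470 F277586) (tt N28397 F277587) (tt N28486 F277588) (tt N28371 F277589))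
theorem Q29391 : ∀ i, i < 29391 → P i := stepQ 29390 Q29390 (allL N29390 (tt N28538 F277590) (tt N30166 (iv F281219)) (tt N28370 F277591) (tt N30033 (iv F280444)) (tt N28369 (iv D62160)) (tt N30112 (iv F280981)) (tt N28471 F277592) (tt N28398 F277593) (tt N28487 F277594) (tt N28372 F277595))
theorem Q29392 : ∀ i, i < 29392 → P i := stepQ 29391 Q29391 (allL N29391 (tt N28371 (iv D62161)) (tt N30037 (iv F280468)) (tt N28881 F277596) (tt N28644 F277597) (tt N30167 D62937) (tt N28375 F277598) (tt N30080 (iv F280766)) (tt N28400 F277599) (tt N28377 F277600) (tt N30165 (iv F281218)))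
theorem Q29393 : ∀ i, i < 29393 → P i := stepQ 29392 Q29392 (allL N29392 (tt N30167 (iv F281225)) (tt N28372 F277601) (tt N28882 F277602) (tt N30168 D62938) (tt N28371 (iv D62162)) (tt N30111 (iv F280975)) (tt N30075 F280727) (tt N28401 F277603) (tt N28378 F277604) (tt N30166 (iv F281224)))
theorem Q29394 : ∀ i, i < 29394 → P i := stepQ 29393 Q29393 (allL N29393 (tt N30039 (iv F280483)) (tt N30168 (iv F281229)) (tt N29393 F277605) (tt N28372 (iv D62163)) (tt N28646 F277606) (tt N30044 (iv F280516)) (tt N30076 (iv F280731)) (tt N28402 F277607) (tt N30043 F280511) (tt N30033 (iv F280447)))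
theorem Q29395 : ∀ i, i < 29395 → P i := stepQ 29394 Q29394 (allL N29394 (tt N28373 (iv D62164)) (tt N28953 F277608) (tt N28885 F277609) (tt N28647 F277610) (tt N30169 D62939) (tt N30165 (iv F281214)) (tt N28924 F277611) (tt N28404 F277612) (tt N30146 (iv F281134)) (tt N28375 F277613))
theorem Q29396 : ∀ i, i < 29396 → P i := stepQ 29395 Q29395 (allL N29395 (tt N30169 (iv F281232)) (tt N28374 F277614) (tt N28886 F277615) (tt N29928 (iv F279802)) (tt N28373 (iv D62165)) (tt N30114 (iv F280994)) (tt N28925 F277616) (tt N28405 F277617) (tt N30147 (iv F281140)) (tt N28376 F277618))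
theorem Q29397 : ∀ i, i < 29397 → P i := stepQ 29396 Q29396 (allL N29396 (tt N28376 F277619) (tt N30052 (iv F280559)) (tt N28888 F277620) (tt N29929 (iv F279811)) (tt N28375 (iv D62166)) (tt N30113 (iv F280989)) (tt N29965 (iv F280056)) (tt N28409 F277621) (tt N28379 F277622) (tt N30169 (iv F281237)))
theorem Q29398 : ∀ i, i < 29398 → P i := stepQ 29397 Q29397 (allL N29397 (tt N28378 F277623) (tt N30098 (iv F280883)) (tt N28890 F277624) (tt N30110 (iv F280967)) (tt N28377 (iv D62167)) (tt N30109 F280963) (tt N30077 F280743) (tt N28416 F277625) (tt N30167 (iv F281228)) (tt N29861 (iv F279362)))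
theorem Q29399 : ∀ i, i < 29399 → P i := stepQ 29398 Q29398 (allL N29398 (tt N28381 (iv D62168)) (tt N28389 F277626) (tt N28511 F277627) (tt N28438 F277628) (tt N29862 (iv F279368)) (tt N28872 F277629) (tt N28456 F277630) (tt N28439 F277631) (tt N28382 F277632) (tt N29951 (iv F279956)))
theorem Q29400 : ∀ i, i < 29400 → P i := stepQ 29399 Q29399 (allL N29399 (tt N28383 (iv D62169)) (tt N28872 F277633) (tt N28400 F277634) (tt N28926 F277635) (tt N30170 D62940) (tt N28389 F277636) (tt N29952 (iv F279961)) (tt N28881 F277637) (tt N28392 F277638) (tt N30060 (iv F280629)))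
theorem Q29401 : ∀ i, i < 29401 → P i := stepQ 29400 Q29400 (allL N29400 (tt N30170 (iv F281238)) (tt N28384 F277639) (tt N28401 F277640) (tt N30171 D62941) (tt N28383 (iv D62170)) (tt N30172 D62942) (tt N29953 (iv F279968)) (tt N28882 F277641) (tt N28393 F277642) (tt N30061 (iv F280635)))
theorem Q29402 : ∀ i, i < 29402 → P i := stepQ 29401 Q29401 (allL N29401 (tt N28874 F277643) (tt N30171 (iv F281243)) (tt N29401 F277644) (tt N28384 (iv D62171)) (tt N28928 F277645) (tt N29964 (iv F280048)) (tt N29954 (iv F279976)) (tt N28883 F277646) (tt N28896 F277647) (tt N30062 (iv F280642)))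
theorem Q29403 : ∀ i, i < 29403 → P i := stepQ 29402 Q29402 (allL N29402 (tt N28875 F277648) (tt N30172 (iv F281247)) (tt N28385 F277649) (tt N29964 (iv F280046)) (tt N28391 F277650) (tt N28384 (iv D62172)) (tt N28419 F277651) (tt N28884 F277652) (tt N28394 F277653) (tt N30063 (iv F280649)))
theorem Q29404 : ∀ i, i < 29404 → P i := stepQ 29403 Q29403 (allL N29403 (tt N28386 (iv D62173)) (tt N29951 (iv F279949)) (tt N28404 F277654) (tt N28463 F277655) (tt N30173 D62943) (tt N30060 (iv F280625)) (tt N28464 F277656) (tt N28885 F277657) (tt N30064 (iv F280656)) (tt N28389 F277658))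
theorem Q29405 : ∀ i, i < 29405 → P i := stepQ 29404 Q29404 (allL N29404 (tt N30173 (iv F281253)) (tt N28387 F277659) (tt N28405 F277660) (tt N28849 F277661) (tt N28386 (iv D62174)) (tt N30174 D62944) (tt N28465 F277662) (tt N28886 F277663) (tt N30065 (iv F280662)) (tt N28390 F277664))
theorem Q29406 : ∀ i, i < 29406 → P i := stepQ 29405 Q29405 (allL N29405 (tt N29860 (iv F279347)) (tt N30174 (iv F281259)) (tt N28388 F277665) (tt N28712 F277666) (tt N30063 (iv F280645)) (tt N28387 (iv D62175)) (tt N28426 F277667) (tt N28887 F277668) (tt N30067 (iv F280678)) (tt N28391 F277669))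
theorem Q29407 : ∀ i, i < 29407 → P i := stepQ 29406 Q29406 (allL N29406 (tt N28390 F277670) (tt N29862 (iv F279365)) (tt N28409 F277671) (tt N28850 F277672) (tt N28389 (iv D62176)) (tt N30175 D62945) (tt N28910 F277673) (tt N28888 F277674) (tt N28395 F277675) (tt N30173 (iv F281258)))
theorem Q29408 : ∀ i, i < 29408 → P i := stepQ 29407 Q29407 (allL N29407 (tt N30175 (iv F281265)) (tt N28391 F277676) (tt N28411 F277677) (tt N28711 F277678) (tt N30172 (iv F281249)) (tt N28390 (iv D62177)) (tt N28425 F277679) (tt N28889 F277680) (tt N28396 F277681) (tt N30174 (iv F281264)))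
theorem Q29409 : ∀ i, i < 29409 → P i := stepQ 29408 Q29408 (allL N29408 (tt N28393 F277682) (tt N28876 F277683) (tt N28416 F277684) (tt N28897 F277685) (tt N28392 (iv D62178)) (tt N30176 D62946) (tt N30058 (iv F280610)) (tt N28890 F277686) (tt N30170 (iv F281242)) (tt N28867 F277687))
theorem Q29410 : ∀ i, i < 29410 → P i := stepQ 29409 Q29409 (allL N29409 (tt N30176 (iv F281271)) (tt N28394 F277688) (tt N28418 F277689) (tt N28415 F277690) (tt N28396 F277691) (tt N28393 (iv D62179)) (tt N28417 F277692) (tt N28891 F277693) (tt N30172 (iv F281252)) (tt N28868 F277694))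
theorem Q29411 : ∀ i, i < 29411 → P i := stepQ 29410 Q29410 (allL N29410 (tt N28396 F277695) (tt N29858 (iv F279333)) (tt N28420 F277696) (tt N28423 F277697) (tt N30176 (iv F281275)) (tt N28395 (iv D62180)) (tt N28424 F277698) (tt N28892 F277699) (tt N30175 (iv F281270)) (tt N30153 (iv F281178)))
theorem Q29412 : ∀ i, i < 29412 → P i := stepQ 29411 Q29411 (allL N29411 (tt N28397 (iv D62181)) (tt N30010 (iv F280303)) (tt N30060 (iv F280623)) (tt N28685 F277700) (tt N30177 D62947) (tt N28404 F277701) (tt N29864 (iv F279382)) (tt N30165 (iv F281216)) (tt N29897 (iv F279606)) (tt N28400 F277702))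
theorem Q29413 : ∀ i, i < 29413 → P i := stepQ 29412 Q29412 (allL N29412 (tt N30177 (iv F281279)) (tt N28398 F277703) (tt N30061 (iv F280631)) (tt N30178 D62948) (tt N28397 (iv D62182)) (tt N30179 D62949) (tt N29865 (iv F279389)) (tt N30166 (iv F281222)) (tt N29898 (iv F279612)) (tt N28401 F277704))
theorem Q29414 : ∀ i, i < 29414 → P i := stepQ 29413 Q29413 (allL N29413 (tt N30012 (iv F280317)) (tt N30178 (iv F281281)) (tt N29413 F277705) (tt N28398 (iv D62183)) (tt N28687 F277706) (tt N30180 D62950) (tt N29866 (iv F279397)) (tt N30033 (iv F280446)) (tt N30181 D62951) (tt N28402 F277707))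
theorem Q29415 : ∀ i, i < 29415 → P i := stepQ 29414 Q29414 (allL N29414 (tt N30013 (iv F280323)) (tt N30179 (iv F281284)) (tt N28399 F277708) (tt N30180 (iv F281288)) (tt N28407 F277709) (tt N28398 (iv D62184)) (tt N29985 (iv F280189)) (tt N30112 (iv F280983)) (tt N29900 (iv F279627)) (tt N28403 F277710))
theorem Q29416 : ∀ i, i < 29416 → P i := stepQ 29415 Q29415 (allL N29415 (tt N28401 F277711) (tt N30040 (iv F280492)) (tt N30170 (iv F281240)) (tt N30182 D62952) (tt N28400 (iv D62185)) (tt N30183 D62953) (tt N29962 (iv F280036)) (tt N30167 (iv F281227)) (tt N28416 F277712) (tt N30177 (iv F281280)))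
theorem Q29417 : ∀ i, i < 29417 → P i := stepQ 29416 Q29416 (allL N29416 (tt N30182 (iv F281292)) (tt N28402 F277713) (tt N30184 D62954) (tt N28401 (iv D62186)) (tt N28689 F277714) (tt N30185 D62955) (tt N29963 (iv F280042)) (tt N30168 (iv F281231)) (tt N30186 D62956) (tt N30178 (iv F281283)))
theorem Q29418 : ∀ i, i < 29418 → P i := stepQ 29417 Q29417 (allL N29417 (tt N30183 (iv F281294)) (tt N28403 F277715) (tt N30172 (iv F281248)) (tt N30185 (iv F281300)) (tt N28411 F277716) (tt N28401 (iv D62187)) (tt N30101 (iv F280901)) (tt N30111 (iv F280977)) (tt N28418 F277717) (tt N30179 (iv F281286)))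
theorem Q29419 : ∀ i, i < 29419 → P i := stepQ 29418 Q29418 (allL N29418 (tt N30043 (iv F280505)) (tt N30185 (iv F281299)) (tt N29418 F277718) (tt N28403 F277719) (tt N30187 D62957) (tt N28402 (iv D62188)) (tt N30102 (iv F280907)) (tt N30044 (iv F280518)) (tt N30039 (iv F280489)) (tt N30180 (iv F281289)))
theorem Q29420 : ∀ i, i < 29420 → P i := stepQ 29419 Q29419 (allL N29419 (tt N30044 (iv F280512)) (tt N30186 (iv F281301)) (tt N29419 F277720) (tt N28419 F277721) (tt N28692 F277722) (tt N30039 (iv F280486)) (tt N29964 (iv F280049)) (tt N30043 (iv F280510)) (tt N28402 (iv D62189)) (tt N30188 D62958))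
theorem Q29421 : ∀ i, i < 29421 → P i := stepQ 29420 Q29420 (allL N29420 (tt N28405 F277723) (tt N30021 (iv F280371)) (tt N30173 (iv F281254)) (tt N30189 D62959) (tt N28404 (iv D62190)) (tt N30190 D62960) (tt N28912 F277724) (tt N30169 (iv F281236)) (tt N30154 (iv F281181)) (tt N28409 F277725))
theorem Q29422 : ∀ i, i < 29422 → P i := stepQ 29421 Q29421 (allL N29421 (tt N30189 (iv F281314)) (tt N28406 F277726) (tt N28793 F277727) (tt N28405 (iv D62191)) (tt N28694 F277728) (tt N30191 D62961) (tt N28798 F277729) (tt N29928 (iv F279804)) (tt N29975 (iv F280127)) (tt N28410 F277730))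
theorem Q29423 : ∀ i, i < 29423 → P i := stepQ 29422 Q29422 (allL N29422 (tt N30190 (iv F281320)) (tt N28407 F277731) (tt N30174 (iv F281260)) (tt N30191 (iv F281324)) (tt N30179 (iv F281285)) (tt N28405 (iv D62192)) (tt N30192 D62962) (tt N30114 (iv F280995)) (tt N30156 (iv F281187)) (tt N28411 F277732))
theorem Q29424 : ∀ i, i < 29424 → P i := stepQ 29423 Q29423 (allL N29423 (tt N28668 F277733) (tt N30191 (iv F281322)) (tt N28429 F277734) (tt N28407 F277735) (tt N29972 (iv F280103)) (tt N28406 (iv D62193)) (tt N30141 (iv F281110)) (tt N28530 F277736) (tt N29977 (iv F280140)) (tt N28412 F277737))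
theorem Q29425 : ∀ i, i < 29425 → P i := stepQ 29424 Q29424 (allL N29424 (tt N29900 (iv F279621)) (tt N30192 (iv F281327)) (tt N28408 F277738) (tt N30141 (iv F281108)) (tt N29985 (iv F280188)) (tt N28589 F277739) (tt N28407 (iv D62194)) (tt N28593 (iv F277741)) (tt N30013 (iv F280328)) (tt N28413 F277740))
theorem Q29426 : ∀ i, i < 29426 → P i := stepQ 29425 Q29425 (allL N29425 (tt N28410 F277742) (tt N28947 F277743) (tt N28820 F277744) (tt N28409 (iv D62195)) (tt N28695 F277745) (tt N30193 D62963) (tt N28827 F277746) (tt N29929 (iv F279813)) (tt N28936 F277747) (tt N30189 (iv F281319)))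
theorem Q29427 : ∀ i, i < 29427 → P i := stepQ 29426 Q29426 (allL N29426 (tt N28411 F277748) (tt N30053 (iv F280568)) (tt N30175 (iv F281266)) (tt N30193 (iv F281335)) (tt N30183 (iv F281295)) (tt N28409 (iv D62196)) (tt N30194 D62964) (tt N30113 (iv F280990)) (tt N28420 F277749) (tt N30190 (iv F281321)))
theorem Q29428 : ∀ i, i < 29428 → P i := stepQ 29427 Q29427 (allL N29427 (tt N30193 (iv F281332)) (tt N28412 F277750) (tt N28821 F277751) (tt N28411 F277752) (tt N30195 D62965) (tt N28410 (iv D62197)) (tt N30196 D62966) (tt N28529 F277753) (tt N28516 F277754) (tt N30191 (iv F281326)))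
theorem Q29429 : ∀ i, i < 29429 → P i := stepQ 29428 Q29428 (allL N29428 (tt N30194 (iv F281338)) (tt N28413 F277755) (tt N28425 F277756) (tt N30196 (iv F281350)) (tt N30101 (iv F280900)) (tt N28659 F277757) (tt N28411 (iv D62198)) (tt N28663 (iv F277759)) (tt N28421 F277758) (tt N30192 (iv F281330)))
theorem Q29430 : ∀ i, i < 29430 → P i := stepQ 29429 Q29429 (allL N29429 (tt N28657 F277760) (tt N30195 (iv F281343)) (tt N28430 F277761) (tt N30187 (iv F281306)) (tt N28412 (iv D62199)) (tt N28698 F277762) (tt N30197 D62967) (tt N28527 F277763) (tt N28510 F277764) (tt N29972 (iv F280106)))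
theorem Q29431 : ∀ i, i < 29431 → P i := stepQ 29430 Q29430 (allL N29430 (tt N28664 F277765) (tt N30196 (iv F281348)) (tt N28428 F277766) (tt N28413 F277767) (tt N30197 (iv F281356)) (tt N28660 F277768) (tt N28412 (iv D62200)) (tt N28572 F277769) (tt N28513 F277770) (tt N30141 (iv F281111)))
theorem Q29432 : ∀ i, i < 29432 → P i := stepQ 29431 Q29431 (allL N29431 (tt N28415 F277771) (tt N28905 F277772) (tt N30058 (iv F280607)) (tt N30176 (iv F281274)) (tt N28414 (iv D62201)) (tt N28897 F277773) (tt N28416 F277774) (tt N29857 (iv F279329)) (tt N29962 (iv F280038)) (tt N28898 F277775))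
theorem Q29433 : ∀ i, i < 29433 → P i := stepQ 29432 Q29432 (allL N29432 (tt N28417 F277776) (tt N30109 (iv F280957)) (tt N30103 (iv F280912)) (tt N28416 (iv D62202)) (tt N28424 F277777) (tt N30098 (iv F280886)) (tt N30176 (iv F281276)) (tt N30110 (iv F280970)) (tt N30198 D62968) (tt N30108 (iv F280955)))
theorem Q29434 : ∀ i, i < 29434 → P i := stepQ 29433 Q29433 (allL N29433 (tt N28418 F277778) (tt N30110 (iv F280965)) (tt N30176 (iv F281273)) (tt N30098 (iv F280885)) (tt N28420 F277779) (tt N28416 (iv D62203)) (tt N30103 (iv F280915)) (tt N30109 (iv F280961)) (tt N30183 (iv F281296)) (tt N30107 (iv F280945)))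
theorem Q29435 : ∀ i, i < 29435 → P i := stepQ 29434 Q29434 (allL N29434 (tt N30198 (iv F281359)) (tt N28419 F277780) (tt N30101 (iv F280899)) (tt N30186 (iv F281302)) (tt N28425 F277781) (tt N30038 (iv F280478)) (tt N30172 (iv F281250)) (tt N30042 (iv F280503)) (tt N28417 (iv D62204)) (tt N30199 D62969))
theorem Q29436 : ∀ i, i < 29436 → P i := stepQ 29435 Q29435 (allL N29435 (tt N30112 (iv F280978)) (tt N30199 (iv F281361)) (tt N28427 F277782) (tt N30188 (iv F281311)) (tt N28426 F277783) (tt N28538 F277784) (tt N30063 (iv F280646)) (tt N30013 (iv F280327)) (tt N28593 F277785) (tt N28419 (iv D62205)))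
theorem Q29437 : ∀ i, i < 29437 → P i := stepQ 29436 Q29436 (allL N29436 (tt N28421 F277786) (tt N30107 (iv F280940)) (tt N28424 F277787) (tt N29861 (iv F279357)) (tt N30103 (iv F280914)) (tt N28913 F277788) (tt N28420 (iv D62206)) (tt N30108 (iv F280953)) (tt N30194 (iv F281341)) (tt N30110 (iv F280971)))
theorem Q29438 : ∀ i, i < 29438 → P i := stepQ 29437 Q29437 (allL N29437 (tt N28425 F277789) (tt N30113 (iv F280986)) (tt N30194 (iv F281339)) (tt N28714 F277790) (tt N30198 (iv F281360)) (tt N30052 F280566) (tt N30175 (iv F281268)) (tt N30053 (iv F280571)) (tt N28424 (iv D62207)) (tt N30200 D62970))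
theorem Q29439 : ∀ i, i < 29439 → P i := stepQ 29438 Q29438 (allL N29438 (tt N30200 (iv F281365)) (tt N28426 F277791) (tt N30192 (iv F281328)) (tt N28716 F277792) (tt N30199 (iv F281362)) (tt N28954 F277793) (tt N30174 (iv F281262)) (tt N30022 (iv F280380)) (tt N30164 (iv F281210)) (tt N28425 (iv D62208)))
theorem Q29440 : ∀ i, i < 29440 → P i := stepQ 29439 Q29439 (allL N29439 (tt N28718 F277794) (tt N28730 F277795) (tt N30197 (iv F281355)) (tt N29439 F277796) (tt N28428 (iv D62209)) (tt N29877 (iv F279474)) (tt N28430 F277797) (tt N28569 F277798) (tt N28531 F277799) (tt N29973 (iv F280114)))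
theorem Q29441 : ∀ i, i < 29441 → P i := stepQ 29440 Q29440 (allL N29440 (tt N28433 F277800) (tt N28866 F277801) (tt N28705 F277802) (tt N28469 F277803) (tt N28432 (iv D62210)) (tt N28674 F277804) (tt N28780 F277805) (tt N30055 (iv F280588)) (tt N28975 F277806) (tt N28742 F277807))
theorem Q29442 : ∀ i, i < 29442 → P i := stepQ 29441 Q29441 (allL N29441 (tt N28436 (iv D62211)) (tt N28926 F277808) (tt N29864 (iv F279379)) (tt N28872 F277809) (tt N30201 D62971) (tt N28438 F277810) (tt N30060 (iv F280626)) (tt N28442 F277811) (tt N28448 F277812) (tt N29952 (iv F279964)))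
theorem Q29443 : ∀ i, i < 29443 → P i := stepQ 29442 Q29442 (allL N29442 (tt N30201 (iv F281368)) (tt N28437 F277813) (tt N29865 (iv F279387)) (tt N30202 D62972) (tt N28436 (iv D62212)) (tt N28540 F277814) (tt N30061 (iv F280632)) (tt N28443 F277815) (tt N28449 F277816) (tt N29953 (iv F279971)))
theorem Q29444 : ∀ i, i < 29444 → P i := stepQ 29443 Q29443 (allL N29443 (tt N28928 F277817) (tt N30202 (iv F281373)) (tt N29443 F277818) (tt N28437 (iv D62213)) (tt N28874 F277819) (tt N28541 F277820) (tt N30062 (iv F280639)) (tt N28444 F277821) (tt N28832 F277822) (tt N29954 (iv F279979)))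
theorem Q29445 : ∀ i, i < 29445 → P i := stepQ 29444 Q29444 (allL N29444 (tt N28440 F277823) (tt N28888 F277824) (tt N29923 (iv F279769)) (tt N28570 F277825) (tt N28439 (iv D62214)) (tt N30203 D62973) (tt N28455 F277826) (tt N29862 (iv F279370)) (tt N28867 F277827) (tt N30068 (iv F280684)))
theorem Q29446 : ∀ i, i < 29446 → P i := stepQ 29445 Q29445 (allL N29445 (tt N30203 (iv F281378)) (tt N28441 F277828) (tt N29925 (iv F279780)) (tt N28571 F277829) (tt N30152 (iv F281167)) (tt N28440 (iv D62215)) (tt N28663 F277830) (tt N29859 (iv F279346)) (tt N28868 F277831) (tt N30069 (iv F280688)))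
theorem Q29447 : ∀ i, i < 29447 → P i := stepQ 29446 Q29446 (allL N29446 (tt N28443 F277832) (tt N28934 F277833) (tt N29886 (iv F279529)) (tt N30204 D62974) (tt N28442 (iv D62216)) (tt N28576 F277834) (tt N29956 (iv F279992)) (tt N30201 (iv F281371)) (tt N28450 F277835) (tt N30070 (iv F280695)))
theorem Q29448 : ∀ i, i < 29448 → P i := stepQ 29447 Q29447 (allL N29447 (tt N30204 (iv F281383)) (tt N28444 F277836) (tt N30205 D62975) (tt N28443 (iv D62217)) (tt N30151 (iv F281159)) (tt N28577 F277837) (tt N29957 (iv F279999)) (tt N30202 (iv F281376)) (tt N28860 F277838) (tt N30071 (iv F280700)))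
theorem Q29449 : ∀ i, i < 29449 → P i := stepQ 29448 Q29448 (allL N29448 (tt N28445 (iv D62218)) (tt N28916 F277839) (tt N28900 F277840) (tt N28914 F277841) (tt N30206 D62976) (tt N28447 F277842) (tt N30064 (iv F280654)) (tt N28466 F277843) (tt N28464 F277844) (tt N28452 F277845))
theorem Q29450 : ∀ i, i < 29450 → P i := stepQ 29449 Q29449 (allL N29449 (tt N30206 (iv F281390)) (tt N28446 F277846) (tt N28901 F277847) (tt N30207 D62977) (tt N28445 (iv D62219)) (tt N28583 F277848) (tt N30065 (iv F280660)) (tt N28467 F277849) (tt N28465 F277850) (tt N28453 F277851))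
theorem Q29451 : ∀ i, i < 29451 → P i := stepQ 29450 Q29450 (allL N29450 (tt N28918 F277852) (tt N30207 (iv F281397)) (tt N29450 F277853) (tt N28446 (iv D62220)) (tt N28637 F277854) (tt N28584 F277855) (tt N30066 (iv F280667)) (tt N28468 F277856) (tt N28628 F277857) (tt N28454 F277858))
theorem Q29452 : ∀ i, i < 29452 → P i := stepQ 29451 Q29451 (allL N29451 (tt N28449 F277859) (tt N28929 F277860) (tt N29901 (iv F279631)) (tt N28840 F277861) (tt N28448 (iv D62221)) (tt N28594 F277862) (tt N30068 (iv F280683)) (tt N28450 F277863) (tt N30201 (iv F281372)) (tt N28455 F277864))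
theorem Q29453 : ∀ i, i < 29453 → P i := stepQ 29452 Q29452 (allL N29452 (tt N28453 F277865) (tt N30081 (iv F280771)) (tt N28903 F277866) (tt N30208 D62978) (tt N28452 (iv D62222)) (tt N28635 F277867) (tt N30150 (iv F281155)) (tt N28922 F277868) (tt N28899 F277869) (tt N30206 (iv F281396)))
theorem Q29454 : ∀ i, i < 29454 → P i := stepQ 29453 Q29453 (allL N29453 (tt N30208 (iv F281403)) (tt N28454 F277870) (tt N30209 D62979) (tt N28453 (iv D62223)) (tt N29957 (iv F279997)) (tt N28636 F277871) (tt N30151 (iv F281160)) (tt N28923 F277872) (tt N28938 F277873) (tt N30207 (iv F281402)))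
theorem Q29455 : ∀ i, i < 29455 → P i := stepQ 29454 Q29454 (allL N29454 (tt N28457 F277874) (tt N28910 F277875) (tt N28515 F277876) (tt N30050 (iv F280546)) (tt N28456 (iv D62224)) (tt N29965 (iv F280055)) (tt N29862 (iv F279369)) (tt N28458 F277877) (tt N28909 F277878) (tt N29955 (iv F279987)))
theorem Q29456 : ∀ i, i < 29456 → P i := stepQ 29455 Q29455 (allL N29455 (tt N28460 F277879) (tt N29929 (iv F279809)) (tt N30056 (iv F280593)) (tt N30052 (iv F280561)) (tt N28810 F277880) (tt N28714 F277881) (tt N30049 (iv F280539)) (tt N28947 F277882) (tt N28459 (iv D62225)) (tt N30210 D62980))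
theorem Q29457 : ∀ i, i < 29457 → P i := stepQ 29456 Q29456 (allL N29456 (tt N30210 (iv F281413)) (tt N28461 F277883) (tt N28652 F277884) (tt N28954 F277885) (tt N28517 F277886) (tt N28716 F277887) (tt N28640 F277888) (tt N28946 F277889) (tt N28857 F277890) (tt N28460 (iv D62226)))
theorem Q29458 : ∀ i, i < 29458 → P i := stepQ 29457 Q29457 (allL N29457 (tt N28465 F277891) (tt N29955 (iv F279981)) (tt N28912 F277892) (tt N30055 (iv F280585)) (tt N28464 (iv D62227)) (tt N30034 (iv F280452)) (tt N30173 (iv F281256)) (tt N28469 F277893) (tt N30206 (iv F281395)) (tt N28910 F277894))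
theorem Q29459 : ∀ i, i < 29459 → P i := stepQ 29458 Q29458 (allL N29458 (tt N28467 F277895) (tt N29956 (iv F279989)) (tt N29958 (iv F280005)) (tt N30211 D62981) (tt N28466 (iv D62228)) (tt N28951 F277896) (tt N28934 F277897) (tt N30206 (iv F281394)) (tt N28469 F277898) (tt N28922 F277899))
theorem Q29460 : ∀ i, i < 29460 → P i := stepQ 29459 Q29459 (allL N29459 (tt N30211 (iv F281421)) (tt N28468 F277900) (tt N30212 D62982) (tt N28467 (iv D62229)) (tt N28981 F277901) (tt N28952 F277902) (tt N28935 F277903) (tt N30207 (iv F281400)) (tt N28976 F277904) (tt N28923 F277905))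
theorem Q29461 : ∀ i, i < 29461 → P i := stepQ 29460 Q29460 (allL N29460 (tt N28470 (iv D62230)) (tt N28539 F277906) (tt N28916 F277907) (tt N28845 F277908) (tt N30213 D62983) (tt N28472 F277909) (tt N30165 (iv F281215)) (tt N28480 F277910) (tt N28489 F277911) (tt N30080 (iv F280769)))
theorem Q29462 : ∀ i, i < 29462 → P i := stepQ 29461 Q29461 (allL N29461 (tt N30213 (iv F281433)) (tt N28471 F277912) (tt N28917 F277913) (tt N30214 D62984) (tt N28470 (iv D62231)) (tt N28927 F277914) (tt N30166 (iv F281221)) (tt N28481 F277915) (tt N28490 F277916) (tt N30075 (iv F280726)))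
theorem Q29463 : ∀ i, i < 29463 → P i := stepQ 29462 Q29462 (allL N29462 (tt N28541 F277917) (tt N30214 (iv F281439)) (tt N29462 F277918) (tt N28471 (iv D62232)) (tt N28847 F277919) (tt N28928 F277920) (tt N30033 (iv F280445)) (tt N28482 F277921) (tt N30215 D62985) (tt N30076 (iv F280734)))
theorem Q29464 : ∀ i, i < 29464 → P i := stepQ 29463 Q29463 (allL N29463 (tt N28473 (iv D62233)) (tt N28565 F277922) (tt N28830 F277923) (tt N28480 F277924) (tt N30216 D62986) (tt N28476 F277925) (tt N29878 (iv F279482)) (tt N28845 F277926) (tt N28825 F277927) (tt N30087 (iv F280820)))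
theorem Q29465 : ∀ i, i < 29465 → P i := stepQ 29464 Q29464 (allL N29464 (tt N30216 (iv F281449)) (tt N28474 F277928) (tt N28831 F277929) (tt N30217 D62987) (tt N28473 (iv D62234)) (tt N30218 D62988) (tt N29879 (iv F279488)) (tt N28846 F277930) (tt N28826 F277931) (tt N30088 (iv F280826)))
theorem Q29466 : ∀ i, i < 29466 → P i := stepQ 29465 Q29465 (allL N29465 (tt N28567 F277932) (tt N30217 (iv F281454)) (tt N29465 F277933) (tt N28474 (iv D62235)) (tt N28482 F277934) (tt N30219 D62989) (tt N29880 (iv F279495)) (tt N28847 F277935) (tt N30220 D62990) (tt N30089 (iv F280832)))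
theorem Q29467 : ∀ i, i < 29467 → P i := stepQ 29466 Q29466 (allL N29466 (tt N28568 F277936) (tt N30218 (iv F281457)) (tt N28475 F277937) (tt N30219 (iv F281464)) (tt N28478 F277938) (tt N28474 (iv D62236)) (tt N30221 D62991) (tt N28620 F277939) (tt N28616 F277940) (tt N30090 (iv F280838)))
theorem Q29468 : ∀ i, i < 29468 → P i := stepQ 29467 Q29467 (allL N29467 (tt N28569 F277941) (tt N28615 F277942) (tt N30221 (iv F281475)) (tt N29467 F277943) (tt N28479 F277944) (tt N29882 (iv F279508)) (tt N28475 (iv D62237)) (tt N28718 F277945) (tt N28614 F277946) (tt N30091 (iv F280846)))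
theorem Q29469 : ∀ i, i < 29469 → P i := stepQ 29468 Q29468 (allL N29468 (tt N28477 F277947) (tt N28570 F277948) (tt N28837 F277949) (tt N28888 F277950) (tt N28476 (iv D62238)) (tt N30222 D62992) (tt N28936 F277951) (tt N28850 F277952) (tt N28827 F277953) (tt N30092 (iv F280853)))
theorem Q29470 : ∀ i, i < 29470 → P i := stepQ 29469 Q29469 (allL N29469 (tt N30222 (iv F281479)) (tt N28478 F277954) (tt N28838 F277955) (tt N28889 F277956) (tt N30218 (iv F281459)) (tt N28477 (iv D62239)) (tt N30223 D62993) (tt N28711 F277957) (tt N28709 F277958) (tt N30093 (iv F280858)))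
theorem Q29471 : ∀ i, i < 29471 → P i := stepQ 29470 Q29470 (allL N29470 (tt N28572 F277959) (tt N30223 (iv F281485)) (tt N28479 F277960) (tt N28514 F277961) (tt N30221 (iv F281476)) (tt N28513 F277962) (tt N28478 (iv D62240)) (tt N28664 F277963) (tt N28660 F277964) (tt N30094 (iv F280864)))
theorem Q29472 : ∀ i, i < 29472 → P i := stepQ 29471 Q29471 (allL N29471 (tt N28481 F277965) (tt N28576 F277966) (tt N29956 (iv F279990)) (tt N30224 D62994) (tt N28480 (iv D62241)) (tt N28934 F277967) (tt N29886 (iv F279531)) (tt N30213 (iv F281437)) (tt N28492 F277968) (tt N30095 (iv F280871)))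
theorem Q29473 : ∀ i, i < 29473 → P i := stepQ 29472 Q29472 (allL N29472 (tt N30224 (iv F281491)) (tt N28482 F277969) (tt N30225 D62995) (tt N28481 (iv D62242)) (tt N30217 (iv F281455)) (tt N28935 F277970) (tt N29887 (iv F279536)) (tt N30214 (iv F281442)) (tt N30226 D62996) (tt N30096 (iv F280875)))
theorem Q29474 : ∀ i, i < 29474 → P i := stepQ 29473 Q29473 (allL N29473 (tt N28578 F277971) (tt N30226 (iv F281496)) (tt N29473 F277972) (tt N28494 F277973) (tt N30220 (iv F281471)) (tt N28777 F277974) (tt N29888 (iv F279542)) (tt N30215 (iv F281448)) (tt N28482 (iv D62243)) (tt N30002 (iv F280271)))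
theorem Q29475 : ∀ i, i < 29475 → P i := stepQ 29474 Q29474 (allL N29474 (tt N28483 (iv D62244)) (tt N28582 F277975) (tt N28926 F277976) (tt N28670 F277977) (tt N30227 D62997) (tt N28485 F277978) (tt N30146 (iv F281132)) (tt N28930 F277979) (tt N28924 F277980) (tt N28500 F277981))
theorem Q29476 : ∀ i, i < 29476 → P i := stepQ 29475 Q29475 (allL N29475 (tt N30227 (iv F281499)) (tt N28484 F277982) (tt N28927 F277983) (tt N30228 D62998) (tt N28483 (iv D62245)) (tt N28917 F277984) (tt N30147 (iv F281138)) (tt N28931 F277985) (tt N28925 F277986) (tt N28501 F277987))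
theorem Q29477 : ∀ i, i < 29477 → P i := stepQ 29476 Q29476 (allL N29476 (tt N28584 F277988) (tt N30228 (iv F281506)) (tt N29476 F277989) (tt N28484 (iv D62246)) (tt N28672 F277990) (tt N28918 F277991) (tt N30003 (iv F280276)) (tt N28932 F277992) (tt N28950 F277993) (tt N28502 F277994))
theorem Q29478 : ∀ i, i < 29478 → P i := stepQ 29477 Q29477 (allL N29477 (tt N28486 (iv D62247)) (tt N28590 F277995) (tt N29951 (iv F279950)) (tt N28986 F277996) (tt N30229 D62999) (tt N30146 (iv F281131)) (tt N28489 F277997) (tt N29897 (iv F279605)) (tt N30165 (iv F281217)) (tt N28511 F277998))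
theorem Q29479 : ∀ i, i < 29479 → P i := stepQ 29478 Q29478 (allL N29478 (tt N30229 (iv F281512)) (tt N28487 F277999) (tt N29863 (iv F279372)) (tt N30230 D63000) (tt N28486 (iv D62248)) (tt N30231 D63001) (tt N28490 F278000) (tt N29898 (iv F279611)) (tt N30166 (iv F281223)) (tt N28512 F278001))
theorem Q29480 : ∀ i, i < 29480 → P i := stepQ 29479 Q29479 (allL N29479 (tt N28592 F278002) (tt N30230 (iv F281516)) (tt N28495 F278003) (tt N28487 (iv D62249)) (tt N28768 F278004) (tt N30094 (iv F280862)) (tt N28491 F278005) (tt N29899 (iv F279618)) (tt N30232 D63002) (tt N28513 F278006))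
theorem Q29481 : ∀ i, i < 29481 → P i := stepQ 29480 Q29480 (allL N29480 (tt N28593 F278007) (tt N30231 (iv F281520)) (tt N28488 F278008) (tt N30094 (iv F280861)) (tt N30106 (iv F280934)) (tt N28487 (iv D62250)) (tt N28887 F278009) (tt N29900 (iv F279626)) (tt N30112 (iv F280984)) (tt N28514 F278010))
theorem Q29482 : ∀ i, i < 29482 → P i := stepQ 29481 Q29481 (allL N29481 (tt N28490 F278011) (tt N28594 F278012) (tt N29955 (iv F279982)) (tt N30233 D63003) (tt N28489 (iv D62251)) (tt N28929 F278013) (tt N30229 (iv F281514)) (tt N28492 F278014) (tt N30213 (iv F281438)) (tt N28515 F278015))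
theorem Q29483 : ∀ i, i < 29483 → P i := stepQ 29482 Q29482 (allL N29482 (tt N30233 (iv F281527)) (tt N28491 F278016) (tt N29895 (iv F279588)) (tt N28490 (iv D62252)) (tt N28767 F278017) (tt N28765 F278018) (tt N30230 (iv F281518)) (tt N28493 F278019) (tt N30234 D63004) (tt N28516 F278020))
theorem Q29484 : ∀ i, i < 29484 → P i := stepQ 29483 Q29483 (allL N29483 (tt N28596 F278021) (tt N30234 (iv F281533)) (tt N28496 F278022) (tt N30215 (iv F281445)) (tt N28762 F278023) (tt N28759 F278024) (tt N30232 (iv F281526)) (tt N28494 F278025) (tt N28491 (iv D62253)) (tt N29977 (iv F280141)))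
theorem Q29485 : ∀ i, i < 29485 → P i := stepQ 29484 Q29484 (allL N29484 (tt N28493 F278026) (tt N28609 F278027) (tt N29912 (iv F279696)) (tt N28492 (iv D62254)) (tt N28781 F278028) (tt N28780 F278029) (tt N29913 (iv F279706)) (tt N30233 (iv F281531)) (tt N30235 D63005) (tt N28528 F278030))
theorem Q29486 : ∀ i, i < 29486 → P i := stepQ 29485 Q29485 (allL N29485 (tt N30235 (iv F281537)) (tt N28494 F278031) (tt N29910 (iv F279684)) (tt N30226 (iv F281497)) (tt N28779 F278032) (tt N28776 F278033) (tt N29914 (iv F279712)) (tt N30234 (iv F281536)) (tt N28493 (iv D62255)) (tt N30001 (iv F280267)))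
theorem Q29487 : ∀ i, i < 29487 → P i := stepQ 29486 Q29486 (allL N29486 (tt N28615 F278034) (tt N29893 (iv F279573)) (tt N30232 (iv F281524)) (tt N29486 F278035) (tt N28763 F278036) (tt N30086 (iv F280809)) (tt N28496 F278037) (tt N29916 (iv F279726)) (tt N28495 (iv D62256)) (tt N29978 (iv F280149)))
theorem Q29488 : ∀ i, i < 29488 → P i := stepQ 29487 Q29487 (allL N29487 (tt N28497 (iv D62257)) (tt N28626 F278038) (tt N28685 F278039) (tt N28500 F278040) (tt N30236 D63006) (tt N28499 F278041) (tt N30115 (iv F281000)) (tt N28853 F278042) (tt N28864 F278043) (tt N28670 F278044))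
theorem Q29489 : ∀ i, i < 29489 → P i := stepQ 29488 Q29488 (allL N29488 (tt N30236 (iv F281541)) (tt N28498 F278045) (tt N28686 F278046) (tt N30237 D63007) (tt N28497 (iv D62258)) (tt N28949 F278047) (tt N30036 (iv F280465)) (tt N28854 F278048) (tt N28865 F278049) (tt N28671 F278050))
theorem Q29490 : ∀ i, i < 29490 → P i := stepQ 29489 Q29489 (allL N29489 (tt N28628 F278051) (tt N30237 (iv F281548)) (tt N29489 F278052) (tt N28498 (iv D62259)) (tt N28502 F278053) (tt N28950 F278054) (tt N30009 (iv F280300)) (tt N28855 F278055) (tt N28918 F278056) (tt N28672 F278057))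
theorem Q29491 : ∀ i, i < 29491 → P i := stepQ 29490 Q29490 (allL N29490 (tt N28501 F278058) (tt N28635 F278059) (tt N30073 (iv F280711)) (tt N30238 D63008) (tt N28500 (iv D62260)) (tt N30081 (iv F280772)) (tt N30148 (iv F281145)) (tt N28937 F278060) (tt N30072 (iv F280708)) (tt N30227 (iv F281505)))
theorem Q29492 : ∀ i, i < 29492 → P i := stepQ 29491 Q29491 (allL N29491 (tt N30238 (iv F281554)) (tt N28502 F278061) (tt N30239 D63009) (tt N28501 (iv D62261)) (tt N30237 (iv F281549)) (tt N28981 F278062) (tt N30149 (iv F281149)) (tt N28938 F278063) (tt N28923 F278064) (tt N30228 (iv F281511)))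
theorem Q29493 : ∀ i, i < 29493 → P i := stepQ 29492 Q29492 (allL N29492 (tt N28503 (iv D62262)) (tt N28644 F278065) (tt N28967 F278066) (tt N30037 (iv F280470)) (tt N30240 D63010) (tt N28505 F278067) (tt N30116 (iv F281008)) (tt N28521 F278068) (tt N28508 F278069) (tt N28955 F278070))
theorem Q29494 : ∀ i, i < 29494 → P i := stepQ 29493 Q29493 (allL N29493 (tt N30240 (iv F281563)) (tt N28504 F278071) (tt N28968 F278072) (tt N30241 D63011) (tt N28503 (iv D62263)) (tt N28786 F278073) (tt N30117 (iv F281014)) (tt N28522 F278074) (tt N28509 F278075) (tt N28956 F278076))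
theorem Q29495 : ∀ i, i < 29495 → P i := stepQ 29494 Q29494 (allL N29494 (tt N28646 F278077) (tt N30241 (iv F281570)) (tt N29494 F278078) (tt N28504 (iv D62264)) (tt N30039 (iv F280485)) (tt N28787 F278079) (tt N30118 (iv F281021)) (tt N28523 F278080) (tt N30187 (iv F281309)) (tt N28957 F278081))
theorem Q29496 : ∀ i, i < 29496 → P i := stepQ 29495 Q29495 (allL N29495 (tt N28506 (iv D62265)) (tt N28651 F278082) (tt N28991 F278083) (tt N28511 F278084) (tt N30242 D63012) (tt N30115 (iv F280999)) (tt N28508 F278085) (tt N29867 (iv F279405)) (tt N30116 (iv F281010)) (tt N28986 F278086))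
theorem Q29497 : ∀ i, i < 29497 → P i := stepQ 29496 Q29496 (allL N29496 (tt N30242 (iv F281574)) (tt N28507 F278087) (tt N28992 F278088) (tt N30243 D63013) (tt N28506 (iv D62266)) (tt N30005 (iv F280284)) (tt N28509 F278089) (tt N29868 (iv F279411)) (tt N30117 (iv F281016)) (tt N28985 F278090))
theorem Q29498 : ∀ i, i < 29498 → P i := stepQ 29497 Q29497 (allL N29497 (tt N28653 F278091) (tt N30243 (iv F281579)) (tt N28531 F278092) (tt N28507 (iv D62267)) (tt N28513 F278093) (tt N29885 (iv F279525)) (tt N28510 F278094) (tt N29869 (iv F279418)) (tt N30197 (iv F281358)) (tt N28768 F278095))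
theorem Q29499 : ∀ i, i < 29499 → P i := stepQ 29498 Q29498 (allL N29498 (tt N28509 F278096) (tt N28655 F278097) (tt N28994 F278098) (tt N30244 D63014) (tt N28508 (iv D62268)) (tt N28788 F278099) (tt N30242 (iv F281577)) (tt N28525 F278100) (tt N30240 (iv F281568)) (tt N28984 F278101))
theorem Q29500 : ∀ i, i < 29500 → P i := stepQ 29499 Q29499 (allL N29499 (tt N30244 (iv F281583)) (tt N28510 F278102) (tt N29919 (iv F279742)) (tt N28509 (iv D62269)) (tt N28516 F278103) (tt N28740 F278104) (tt N30243 (iv F281581)) (tt N28526 F278105) (tt N30195 (iv F281347)) (tt N28767 F278106))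
theorem Q29501 : ∀ i, i < 29501 → P i := stepQ 29500 Q29500 (allL N29500 (tt N28512 F278107) (tt N28661 F278108) (tt N29862 (iv F279366)) (tt N30245 D63015) (tt N28511 (iv D62270)) (tt N30246 D63016) (tt N28515 F278109) (tt N29923 (iv F279771)) (tt N29861 F279363) (tt N30229 (iv F281515)))
theorem Q29502 : ∀ i, i < 29502 → P i := stepQ 29501 Q29501 (allL N29501 (tt N30245 (iv F281589)) (tt N28513 F278110) (tt N29922 (iv F279762)) (tt N28512 (iv D62271)) (tt N30243 (iv F281580)) (tt N30223 (iv F281488)) (tt N28516 F278111) (tt N29924 (iv F279776)) (tt N30196 (iv F281353)) (tt N30230 (iv F281519)))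
theorem Q29503 : ∀ i, i < 29503 → P i := stepQ 29502 Q29502 (allL N29502 (tt N30246 (iv F281592)) (tt N28514 F278112) (tt N29859 (iv F279341)) (tt N30223 (iv F281487)) (tt N30105 (iv F280928)) (tt N28512 (iv D62272)) (tt N28889 F278113) (tt N29925 (iv F279784)) (tt N28893 F278114) (tt N30231 (iv F281522)))
theorem Q29504 : ∀ i, i < 29504 → P i := stepQ 29503 Q29503 (allL N29503 (tt N28516 F278115) (tt N28665 F278116) (tt N29921 (iv F279757)) (tt N28515 (iv D62273)) (tt N30244 (iv F281585)) (tt N28936 F278117) (tt N30245 (iv F281591)) (tt N28528 F278118) (tt N30193 (iv F281337)) (tt N30233 (iv F281532)))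
theorem Q29505 : ∀ i, i < 29505 → P i := stepQ 29504 Q29504 (allL N29504 (tt N28517 (iv D62274)) (tt N29927 (iv F279792)) (tt N28651 F278119) (tt N28518 F278120) (tt N30210 (iv F281416)) (tt N28811 F278121) (tt N28639 F278122) (tt N28945 F278123) (tt N28856 F278124) (tt N28810 F278125))
theorem Q29506 : ∀ i, i < 29506 → P i := stepQ 29505 Q29505 (allL N29505 (tt N28519 (iv D62275)) (tt N28685 F278126) (tt N28785 F278127) (tt N30010 (iv F280305)) (tt N30247 D63017) (tt N28524 F278128) (tt N29930 (iv F279820)) (tt N28955 F278129) (tt N28782 F278130) (tt N28521 F278131))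
theorem Q29507 : ∀ i, i < 29507 → P i := stepQ 29506 Q29506 (allL N29506 (tt N30247 (iv F281596)) (tt N28520 F278132) (tt N28786 F278133) (tt N30248 D63018) (tt N28519 (iv D62276)) (tt N28968 F278134) (tt N29931 (iv F279826)) (tt N28956 F278135) (tt N28783 F278136) (tt N28522 F278137))
theorem Q29508 : ∀ i, i < 29508 → P i := stepQ 29507 Q29507 (allL N29507 (tt N28687 F278138) (tt N30248 (iv F281603)) (tt N29507 F278139) (tt N28520 (iv D62277)) (tt N30012 (iv F280319)) (tt N28969 F278140) (tt N29932 (iv F279833)) (tt N28957 F278141) (tt N30249 D63019) (tt N28523 F278142))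
theorem Q29509 : ∀ i, i < 29509 → P i := stepQ 29508 Q29508 (allL N29508 (tt N28522 F278143) (tt N28688 F278144) (tt N29960 (iv F280020)) (tt N30250 D63020) (tt N28521 (iv D62278)) (tt N28970 F278145) (tt N29934 (iv F279846)) (tt N30240 (iv F281567)) (tt N28525 F278146) (tt N30247 (iv F281602)))
theorem Q29510 : ∀ i, i < 29510 → P i := stepQ 29509 Q29509 (allL N29509 (tt N30250 (iv F281612)) (tt N28523 F278147) (tt N30251 D63021) (tt N28522 (iv D62279)) (tt N30041 (iv F280497)) (tt N28971 F278148) (tt N29935 (iv F279851)) (tt N30241 (iv F281572)) (tt N30252 D63022) (tt N30248 (iv F281606)))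
theorem Q29511 : ∀ i, i < 29511 → P i := stepQ 29510 Q29510 (allL N29510 (tt N28692 F278149) (tt N30252 (iv F281617)) (tt N29510 F278150) (tt N28527 F278151) (tt N30044 (iv F280515)) (tt N28745 F278152) (tt N29938 (iv F279871)) (tt N30187 (iv F281308)) (tt N28523 (iv D62280)) (tt N29998 (iv F280255)))
theorem Q29512 : ∀ i, i < 29512 → P i := stepQ 29511 Q29511 (allL N29511 (tt N28526 F278153) (tt N28704 F278154) (tt N29945 (iv F279914)) (tt N28525 (iv D62281)) (tt N28528 F278155) (tt N28746 F278156) (tt N29944 (iv F279909)) (tt N30244 (iv F281587)) (tt N30253 D63023) (tt N28781 F278157))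
theorem Q29513 : ∀ i, i < 29513 → P i := stepQ 29512 Q29512 (allL N29512 (tt N30253 (iv F281620)) (tt N28527 F278158) (tt N29936 (iv F279854)) (tt N30252 (iv F281618)) (tt N28529 F278159) (tt N28744 F278160) (tt N29946 (iv F279923)) (tt N30195 (iv F281346)) (tt N28526 (iv D62282)) (tt N29997 (iv F280251)))
theorem Q29514 : ∀ i, i < 29514 → P i := stepQ 29513 Q29513 (allL N29513 (tt N28529 F278161) (tt N28714 F278162) (tt N29942 (iv F279894)) (tt N30113 (iv F280988)) (tt N30253 (iv F281622)) (tt N29929 F279815) (tt N29949 (iv F279943)) (tt N30193 (iv F281336)) (tt N28528 (iv D62283)) (tt N30254 D63024))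
theorem Q29515 : ∀ i, i < 29515 → P i := stepQ 29514 Q29514 (allL N29514 (tt N30254 (iv F281624)) (tt N28530 F278163) (tt N29940 (iv F279880)) (tt N30114 (iv F280993)) (tt N29997 (iv F280249)) (tt N29928 F279807) (tt N29950 (iv F279947)) (tt N30191 (iv F281325)) (tt N30001 (iv F280266)) (tt N28529 (iv D62284)))
theorem Q29516 : ∀ i, i < 29516 → P i := stepQ 29515 Q29515 (allL N29515 (tt N28533 (iv D62285)) (tt N28769 F278164) (tt N28536 F278165) (tt N29966 (iv F280062)) (tt N30051 (iv F280555)) (tt N28964 F278166) (tt N28599 F278167) (tt N28552 F278168) (tt N28601 F278169) (tt N29989 (iv F280216)))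
theorem Q29517 : ∀ i, i < 29517 → P i := stepQ 29516 Q29516 (allL N29516 (tt N28534 (iv D62286)) (tt N28845 F278170) (tt N28964 F278171) (tt N28539 F278172) (tt N30255 D63025) (tt N28536 F278173) (tt N28955 F278174) (tt N28565 F278175) (tt N28843 F278176) (tt N30116 (iv F281011)))
theorem Q29518 : ∀ i, i < 29518 → P i := stepQ 29517 Q29517 (allL N29517 (tt N30255 (iv F281626)) (tt N28535 F278177) (tt N28965 F278178) (tt N30256 D63026) (tt N28534 (iv D62287)) (tt N29946 (iv F279922)) (tt N28956 F278179) (tt N28566 F278180) (tt N28844 F278181) (tt N30117 (iv F281017)))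
theorem Q29519 : ∀ i, i < 29519 → P i := stepQ 29518 Q29518 (allL N29518 (tt N28847 F278182) (tt N30256 (iv F281632)) (tt N29518 F278183) (tt N28535 (iv D62288)) (tt N28541 F278184) (tt N29938 (iv F279870)) (tt N28957 F278185) (tt N28567 F278186) (tt N29937 F279865) (tt N30118 (iv F281023)))
theorem Q29520 : ∀ i, i < 29520 → P i := stepQ 29519 Q29519 (allL N29519 (tt N28537 (iv D62289)) (tt N30165 (iv F281211)) (tt N29982 (iv F280166)) (tt N28955 F278187) (tt N30257 D63027) (tt N28953 F278188) (tt N28539 F278189) (tt N30010 (iv F280308)) (tt N28590 F278190) (tt N30037 (iv F280475)))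
theorem Q29521 : ∀ i, i < 29521 → P i := stepQ 29520 Q29520 (allL N29520 (tt N30257 (iv F281636)) (tt N28538 F278191) (tt N29983 (iv F280174)) (tt N30258 D63028) (tt N28537 (iv D62290)) (tt N30199 (iv F281363)) (tt N28540 F278192) (tt N30011 (iv F280314)) (tt N28591 F278193) (tt N30038 (iv F280482)))
theorem Q29522 : ∀ i, i < 29522 → P i := stepQ 29521 Q29521 (allL N29521 (tt N30033 (iv F280442)) (tt N30258 (iv F281639)) (tt N29521 F278194) (tt N28538 (iv D62291)) (tt N28957 F278195) (tt N30188 (iv F281313)) (tt N28541 F278196) (tt N30012 (iv F280321)) (tt N30259 D63029) (tt N30039 (iv F280490)))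
theorem Q29523 : ∀ i, i < 29523 → P i := stepQ 29522 Q29522 (allL N29522 (tt N28540 F278197) (tt N30213 (iv F281434)) (tt N29986 (iv F280195)) (tt N30260 D63030) (tt N28539 (iv D62292)) (tt N30201 (iv F281370)) (tt N30257 (iv F281637)) (tt N28576 F278198) (tt N28594 F278199) (tt N30119 (iv F281028)))
theorem Q29524 : ∀ i, i < 29524 → P i := stepQ 29523 Q29523 (allL N29523 (tt N30260 (iv F281646)) (tt N28541 F278200) (tt N30261 D63031) (tt N28540 (iv D62293)) (tt N30256 (iv F281633)) (tt N30202 (iv F281375)) (tt N30258 (iv F281641)) (tt N28577 F278201) (tt N30262 D63032) (tt N30120 (iv F281031)))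
theorem Q29525 : ∀ i, i < 29525 → P i := stepQ 29524 Q29524 (allL N29524 (tt N30215 (iv F281443)) (tt N30262 (iv F281650)) (tt N29524 F278202) (tt N28596 F278203) (tt N29937 (iv F279862)) (tt N28832 F278204) (tt N30259 (iv F281645)) (tt N28578 F278205) (tt N28541 (iv D62294)) (tt N30263 D63033))
theorem Q29526 : ∀ i, i < 29526 → P i := stepQ 29525 Q29525 (allL N29525 (tt N28542 (iv D62295)) (tt N28552 F278206) (tt N28760 F278207) (tt N29989 (iv F280211)) (tt N30264 D63034) (tt N29889 (iv F279546)) (tt N28939 F278208) (tt N28769 F278209) (tt N28755 F278210) (tt N29966 (iv F280067)))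
theorem Q29527 : ∀ i, i < 29527 → P i := stepQ 29526 Q29526 (allL N29526 (tt N30264 (iv F281658)) (tt N28543 F278211) (tt N28761 F278212) (tt N30265 D63035) (tt N28542 (iv D62296)) (tt N30266 D63036) (tt N28940 F278213) (tt N28770 F278214) (tt N28756 F278215) (tt N29967 (iv F280073)))
theorem Q29528 : ∀ i, i < 29528 → P i := stepQ 29527 Q29527 (allL N29527 (tt N28554 F278216) (tt N30265 (iv F281664)) (tt N28545 F278217) (tt N28543 (iv D62297)) (tt N29896 (iv F279596)) (tt N30267 D63037) (tt N28757 F278218) (tt N28771 F278219) (tt N30268 D63038) (tt N29920 (iv F279754)))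
theorem Q29529 : ∀ i, i < 29529 → P i := stepQ 29528 Q29528 (allL N29528 (tt N28555 F278220) (tt N30266 (iv F281668)) (tt N28544 F278221) (tt N30267 (iv F281674)) (tt N29892 (iv F279568)) (tt N28543 (iv D62298)) (tt N30268 (iv F281682)) (tt N28772 F278222) (tt N28757 F278223) (tt N29968 (iv F280079)))
theorem Q29530 : ∀ i, i < 29530 → P i := stepQ 29529 Q29529 (allL N29529 (tt N28556 F278224) (tt N28763 F278225) (tt N30268 (iv F281679)) (tt N28547 F278226) (tt N29893 (iv F279575)) (tt N28720 F278227) (tt N28544 (iv D62299)) (tt N28729 F278228) (tt N28545 F278229) (tt N29872 (iv F279442)))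
theorem Q29531 : ∀ i, i < 29531 → P i := stepQ 29530 Q29530 (allL N29530 (tt N28557 F278230) (tt N28729 F278231) (tt N30267 (iv F281673)) (tt N28546 F278232) (tt N29916 (iv F279723)) (tt N28545 (iv D62300)) (tt N28724 F278233) (tt N28763 F278234) (tt N28720 F278235) (tt N29871 (iv F279434)))
theorem Q29532 : ∀ i, i < 29532 → P i := stepQ 29531 Q29531 (allL N29531 (tt N28548 (iv D62301)) (tt N28755 F278236) (tt N28561 F278237) (tt N28603 F278238) (tt N30054 (iv F280576)) (tt N28972 F278239) (tt N28941 F278240) (tt N28601 F278241) (tt N28552 F278242) (tt N28699 F278243))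
theorem Q29533 : ∀ i, i < 29533 → P i := stepQ 29532 Q29532 (allL N29532 (tt N28549 (iv D62302)) (tt N29889 (iv F279543)) (tt N28565 F278244) (tt N29904 (iv F279649)) (tt N30269 D63039) (tt N28552 F278245) (tt N29969 (iv F280084)) (tt N28964 F278246) (tt N28972 F278247) (tt N29873 (iv F279450)))
theorem Q29534 : ∀ i, i < 29534 → P i := stepQ 29533 Q29533 (allL N29533 (tt N30269 (iv F281684)) (tt N28550 F278248) (tt N28566 F278249) (tt N30270 D63040) (tt N28549 (iv D62303)) (tt N30271 D63041) (tt N29970 (iv F280090)) (tt N28965 F278250) (tt N28973 F278251) (tt N29874 (iv F279456)))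
theorem Q29535 : ∀ i, i < 29535 → P i := stepQ 29534 Q29534 (allL N29534 (tt N29891 (iv F279557)) (tt N30270 (iv F281688)) (tt N29534 F278252) (tt N28550 (iv D62304)) (tt N29906 (iv F279663)) (tt N30249 (iv F281610)) (tt N29971 (iv F280097)) (tt N28966 F278253) (tt N28969 F278254) (tt N29875 (iv F279463)))
theorem Q29536 : ∀ i, i < 29536 → P i := stepQ 29535 Q29535 (allL N29535 (tt N29892 (iv F279565)) (tt N30271 (iv F281691)) (tt N28551 F278255) (tt N30249 (iv F281609)) (tt N28555 F278256) (tt N28550 (iv D62305)) (tt N29994 (iv F280237)) (tt N28960 F278257) (tt N28784 F278258) (tt N29876 (iv F279469)))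
theorem Q29537 : ∀ i, i < 29537 → P i := stepQ 29536 Q29536 (allL N29536 (tt N28553 F278259) (tt N30264 (iv F281659)) (tt N28570 F278260) (tt N30272 D63042) (tt N28552 (iv D62306)) (tt N30273 D63043) (tt N28943 F278261) (tt N30051 (iv F280556)) (tt N30054 (iv F280580)) (tt N30121 (iv F281035)))
theorem Q29538 : ∀ i, i < 29538 → P i := stepQ 29537 Q29537 (allL N29537 (tt N30272 (iv F281696)) (tt N28554 F278262) (tt N29924 (iv F279774)) (tt N28553 (iv D62307)) (tt N29992 (iv F280228)) (tt N30274 D63044) (tt N28944 F278263) (tt N29922 (iv F279765)) (tt N30275 D63045) (tt N30122 (iv F281039)))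
theorem Q29539 : ∀ i, i < 29539 → P i := stepQ 29538 Q29538 (allL N29538 (tt N30273 (iv F281698)) (tt N28555 F278264) (tt N28571 F278265) (tt N30274 (iv F281703)) (tt N30271 (iv F281693)) (tt N28553 (iv D62308)) (tt N30275 (iv F281711)) (tt N29943 F279904) (tt N28944 F278266) (tt N30123 (iv F281042)))
theorem Q29540 : ∀ i, i < 29540 → P i := stepQ 29539 Q29539 (allL N29539 (tt N30267 (iv F281672)) (tt N30274 (iv F281701)) (tt N28557 F278267) (tt N28555 F278268) (tt N30276 D63046) (tt N28554 (iv D62309)) (tt N28725 F278269) (tt N28839 F278270) (tt N28721 (iv F278271)) (tt N30124 (iv F281047)))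
theorem Q29541 : ∀ i, i < 29541 → P i := stepQ 29540 Q29540 (allL N29540 (tt N30268 (iv F281678)) (tt N30275 (iv F281707)) (tt N28556 F278272) (tt N28725 F278273) (tt N29994 (iv F280236)) (tt N28721 F278274) (tt N28555 F278275) (tt N28728 F278276) (tt N28554 (iv D62310)) (tt N30126 (iv F281056)))
theorem Q29542 : ∀ i, i < 29542 → P i := stepQ 29541 Q29541 (allL N29541 (tt N29916 (iv F279720)) (tt N28718 F278277) (tt N30276 (iv F281713)) (tt N29541 F278278) (tt N28557 (iv D62311)) (tt N29978 (iv F280146)) (tt N28618 F278279) (tt N28615 F278280) (tt N28613 F278281) (tt N30086 (iv F280812)))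
theorem Q29543 : ∀ i, i < 29543 → P i := stepQ 29542 Q29542 (allL N29542 (tt N28558 (iv D62312)) (tt N28825 F278282) (tt N28972 F278283) (tt N28599 F278284) (tt N30277 D63047) (tt N28561 F278285) (tt N29966 (iv F280064)) (tt N28843 F278286) (tt N28565 F278287) (tt N28939 F278288))
theorem Q29544 : ∀ i, i < 29544 → P i := stepQ 29543 Q29543 (allL N29543 (tt N30277 (iv F281717)) (tt N28559 F278289) (tt N28973 F278290) (tt N29919 (iv F279743)) (tt N28558 (iv D62313)) (tt N29918 F279739) (tt N29967 (iv F280070)) (tt N28844 F278291) (tt N28566 F278292) (tt N28940 F278293))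
theorem Q29545 : ∀ i, i < 29545 → P i := stepQ 29544 Q29544 (allL N29544 (tt N28560 (iv D62314)) (tt N28797 F278294) (tt N28699 F278295) (tt N28600 F278296) (tt N30023 (iv F280384)) (tt N28939 F278297) (tt N28945 F278298) (tt N28673 F278299) (tt N30127 (iv F281063)) (tt N28561 F278300))
theorem Q29546 : ∀ i, i < 29546 → P i := stepQ 29545 Q29545 (allL N29545 (tt N28562 (iv D62315)) (tt N29878 (iv F279478)) (tt N29969 (iv F280081)) (tt N28573 F278301) (tt N30278 D63048) (tt N28792 F278302) (tt N28565 F278303) (tt N29930 (iv F279821)) (tt N29966 (iv F280066)) (tt N28816 F278304))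
theorem Q29547 : ∀ i, i < 29547 → P i := stepQ 29546 Q29546 (allL N29546 (tt N30278 (iv F281723)) (tt N28563 F278305) (tt N29970 (iv F280089)) (tt N30279 D63049) (tt N28562 (iv D62316)) (tt N30280 D63050) (tt N28566 F278306) (tt N29931 (iv F279827)) (tt N29967 (iv F280072)) (tt N28817 F278307))
theorem Q29548 : ∀ i, i < 29548 → P i := stepQ 29547 Q29547 (allL N29547 (tt N29880 (iv F279492)) (tt N30279 (iv F281726)) (tt N29547 F278308) (tt N28563 (iv D62317)) (tt N28575 F278309) (tt N30281 D63051) (tt N28567 F278310) (tt N29932 (iv F279834)) (tt N30282 D63052) (tt N28818 F278311))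
theorem Q29549 : ∀ i, i < 29549 → P i := stepQ 29548 Q29548 (allL N29548 (tt N29881 (iv F279498)) (tt N30280 (iv F281730)) (tt N28564 F278312) (tt N30281 (iv F281734)) (tt N28794 F278313) (tt N28563 (iv D62318)) (tt N30283 D63053) (tt N29933 (iv F279840)) (tt N29968 (iv F280078)) (tt N28819 F278314))
theorem Q29550 : ∀ i, i < 29550 → P i := stepQ 29549 Q29549 (allL N29549 (tt N29882 (iv F279504)) (tt N29973 (iv F280108)) (tt N30283 (iv F281741)) (tt N29549 F278315) (tt N28717 F278316) (tt N28569 F278317) (tt N28564 (iv D62319)) (tt N29877 (iv F279475)) (tt N29872 (iv F279441)) (tt N28730 F278318))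
theorem Q29551 : ∀ i, i < 29551 → P i := stepQ 29550 Q29550 (allL N29550 (tt N28566 F278319) (tt N30216 (iv F281450)) (tt N30269 (iv F281685)) (tt N30284 D63054) (tt N28565 (iv D62320)) (tt N30285 D63055) (tt N30278 (iv F281724)) (tt N30255 (iv F281630)) (tt N30277 (iv F281721)) (tt N30133 (iv F281080)))
theorem Q29552 : ∀ i, i < 29552 → P i := stepQ 29551 Q29551 (allL N29551 (tt N30284 (iv F281745)) (tt N28567 F278320) (tt N30286 D63056) (tt N28566 (iv D62321)) (tt N28577 F278321) (tt N30287 D63057) (tt N30279 (iv F281728)) (tt N30256 (iv F281635)) (tt N30288 D63058) (tt N30134 (iv F281084)))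
theorem Q29553 : ∀ i, i < 29553 → P i := stepQ 29552 Q29552 (allL N29552 (tt N30285 (iv F281747)) (tt N28568 F278322) (tt N30271 (iv F281692)) (tt N30287 (iv F281752)) (tt N28571 F278323) (tt N28566 (iv D62322)) (tt N30289 D63059) (tt N29946 (iv F279924)) (tt N29918 (iv F279740)) (tt N30135 (iv F281087)))
theorem Q29554 : ∀ i, i < 29554 → P i := stepQ 29553 Q29553 (allL N29553 (tt N30219 (iv F281462)) (tt N30287 (iv F281751)) (tt N29553 F278324) (tt N28568 F278325) (tt N28824 F278326) (tt N28567 (iv D62323)) (tt N30137 (iv F281095)) (tt N29938 (iv F279872)) (tt N28818 (iv F278327)) (tt N30136 (iv F281091)))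
theorem Q29555 : ∀ i, i < 29555 → P i := stepQ 29554 Q29554 (allL N29554 (tt N30220 (iv F281468)) (tt N30288 (iv F281755)) (tt N29554 F278328) (tt N28819 F278329) (tt N28578 F278330) (tt N28818 F278331) (tt N30282 (iv F281740)) (tt N29937 (iv F279864)) (tt N28567 (iv D62324)) (tt N30281 (iv F281736)))
theorem Q29556 : ∀ i, i < 29556 → P i := stepQ 29555 Q29555 (allL N29555 (tt N30221 (iv F281474)) (tt N30289 (iv F281759)) (tt N28569 F278332) (tt N30137 (iv F281093)) (tt N28572 F278333) (tt N30283 (iv F281743)) (tt N28568 (iv D62325)) (tt N30197 (iv F281357)) (tt N29869 F279420) (tt N30138 (iv F281099)))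
theorem Q29557 : ∀ i, i < 29557 → P i := stepQ 29556 Q29556 (allL N29556 (tt N28571 F278334) (tt N30222 (iv F281480)) (tt N30273 (iv F281699)) (tt N30203 (iv F281380)) (tt N30285 (iv F281748)) (tt N28570 (iv D62326)) (tt N30290 D63060) (tt N29949 (iv F279944)) (tt N29926 F279791) (tt N30139 (iv F281101)))
theorem Q29558 : ∀ i, i < 29558 → P i := stepQ 29557 Q29557 (allL N29557 (tt N30290 (iv F281761)) (tt N28572 F278335) (tt N30275 (iv F281708)) (tt N28663 F278336) (tt N30289 (iv F281760)) (tt N28662 F278337) (tt N28571 (iv D62327)) (tt N30196 (iv F281352)) (tt N29924 (iv F279777)) (tt N30140 (iv F281105)))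
theorem Q29559 : ∀ i, i < 29559 → P i := stepQ 29558 Q29558 (allL N29558 (tt N28574 F278338) (tt N29886 (iv F279528)) (tt N28951 F278339) (tt N30291 D63061) (tt N28573 (iv D62328)) (tt N29958 (iv F280006)) (tt N28576 F278340) (tt N30014 (iv F280333)) (tt N28606 F278341) (tt N28822 F278342))
theorem Q29560 : ∀ i, i < 29560 → P i := stepQ 29559 Q29559 (allL N29559 (tt N30291 (iv F281764)) (tt N28575 F278343) (tt N30292 D63062) (tt N28574 (iv D62329)) (tt N30279 (iv F281727)) (tt N29959 (iv F280013)) (tt N28577 F278344) (tt N30015 (iv F280338)) (tt N30293 D63063) (tt N28823 F278345))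
theorem Q29561 : ∀ i, i < 29561 → P i := stepQ 29560 Q29560 (allL N29560 (tt N29888 (iv F279538)) (tt N30293 (iv F281771)) (tt N29560 F278346) (tt N28608 F278347) (tt N30282 (iv F281739)) (tt N28807 F278348) (tt N28578 F278349) (tt N30016 (iv F280343)) (tt N28575 (iv D62330)) (tt N30294 D63064))
theorem Q29562 : ∀ i, i < 29562 → P i := stepQ 29561 Q29561 (allL N29561 (tt N28577 F278350) (tt N30224 (iv F281492)) (tt N30295 D63065) (tt N28576 (iv D62331)) (tt N30284 (iv F281746)) (tt N30204 (iv F281385)) (tt N30291 (iv F281765)) (tt N30260 (iv F281647)) (tt N30296 D63066) (tt N30142 (iv F281114)))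
theorem Q29563 : ∀ i, i < 29563 → P i := stepQ 29562 Q29562 (allL N29562 (tt N30295 (iv F281780)) (tt N29562 F278351) (tt N28577 (iv D62332)) (tt N30007 (iv F280290)) (tt N30286 (iv F281750)) (tt N30205 (iv F281388)) (tt N30292 (iv F281769)) (tt N30261 (iv F281649)) (tt N30297 D63067) (tt N30143 (iv F281118)))
theorem Q29564 : ∀ i, i < 29564 → P i := stepQ 29563 Q29563 (allL N29563 (tt N30296 (iv F281781)) (tt N28578 F278352) (tt N30297 (iv F281785)) (tt N28611 F278353) (tt N30288 (iv F281757)) (tt N28860 F278354) (tt N30293 (iv F281774)) (tt N30262 (iv F281653)) (tt N28577 (iv D62333)) (tt N30298 D63068))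
theorem Q29565 : ∀ i, i < 29565 → P i := stepQ 29564 Q29564 (allL N29564 (tt N30002 (iv F280268)) (tt N30298 (iv F281787)) (tt N29564 F278355) (tt N28612 F278356) (tt N30281 (iv F281735)) (tt N28858 F278357) (tt N30294 (iv F281778)) (tt N30263 (iv F281657)) (tt N30145 (iv F281127)) (tt N28578 (iv D62334)))
theorem Q29566 : ∀ i, i < 29566 → P i := stepQ 29565 Q29565 (allL N29565 (tt N28580 (iv D62335)) (tt N30146 (iv F281128)) (tt N30010 (iv F280304)) (tt N28805 F278358) (tt N30299 D63069) (tt N28590 F278359) (tt N28582 F278360) (tt N29982 (iv F280170)) (tt N28953 F278361) (tt N28632 F278362))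
theorem Q29567 : ∀ i, i < 29567 → P i := stepQ 29566 Q29566 (allL N29566 (tt N30299 (iv F281790)) (tt N28581 F278363) (tt N30011 (iv F280312)) (tt N30300 D63070) (tt N28580 (iv D62336)) (tt N30164 (iv F281209)) (tt N28583 F278364) (tt N29983 (iv F280176)) (tt N28954 F278365) (tt N28633 F278366))
theorem Q29568 : ∀ i, i < 29568 → P i := stepQ 29567 Q29567 (allL N29567 (tt N30003 (iv F280272)) (tt N30300 (iv F281794)) (tt N29567 F278367) (tt N28581 (iv D62337)) (tt N28807 F278368) (tt N30145 (iv F281125)) (tt N28584 F278369) (tt N29984 (iv F280183)) (tt N28858 F278370) (tt N28634 F278371))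
theorem Q29569 : ∀ i, i < 29569 → P i := stepQ 29568 Q29568 (allL N29568 (tt N28583 F278372) (tt N30227 (iv F281500)) (tt N30014 (iv F280331)) (tt N30301 D63071) (tt N28582 (iv D62338)) (tt N30206 (iv F281393)) (tt N30299 (iv F281791)) (tt N28951 F278373) (tt N30034 (iv F280455)) (tt N28635 F278374))
theorem Q29570 : ∀ i, i < 29570 → P i := stepQ 29569 Q29569 (allL N29569 (tt N30301 (iv F281799)) (tt N28584 F278375) (tt N30302 D63072) (tt N28583 (iv D62339)) (tt N30026 (iv F280404)) (tt N30207 (iv F281399)) (tt N30300 (iv F281796)) (tt N28952 F278376) (tt N30303 D63073) (tt N28636 F278377))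
theorem Q29571 : ∀ i, i < 29571 → P i := stepQ 29570 Q29570 (allL N29570 (tt N28950 F278378) (tt N30303 (iv F281805)) (tt N29570 F278379) (tt N28629 F278380) (tt N28932 F278381) (tt N28628 F278382) (tt N28858 F278383) (tt N28672 F278384) (tt N28584 (iv D62340)) (tt N28855 F278385))
theorem Q29572 : ∀ i, i < 29572 → P i := stepQ 29571 Q29571 (allL N29571 (tt N28586 (iv D62341)) (tt N28986 F278386) (tt N28810 F278387) (tt N28590 F278388) (tt N30056 (iv F280595)) (tt N28805 F278389) (tt N28587 F278390) (tt N28941 F278391) (tt N28808 F278392) (tt N28651 F278393))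
theorem Q29573 : ∀ i, i < 29573 → P i := stepQ 29572 Q29572 (allL N29572 (tt N28588 (iv D62342)) (tt N29897 (iv F279600)) (tt N28953 F278394) (tt N28941 F278395) (tt N30304 D63074) (tt N29982 (iv F280168)) (tt N28603 F278396) (tt N28590 F278397) (tt N30010 (iv F280309)) (tt N28658 F278398))
theorem Q29574 : ∀ i, i < 29574 → P i := stepQ 29573 Q29573 (allL N29573 (tt N30304 (iv F281812)) (tt N28589 F278399) (tt N28954 F278400) (tt N30305 D63075) (tt N28588 (iv D62343)) (tt N30192 (iv F281329)) (tt N28604 F278401) (tt N28591 F278402) (tt N30011 (iv F280315)) (tt N28659 F278403))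
theorem Q29575 : ∀ i, i < 29575 → P i := stepQ 29574 Q29574 (allL N29574 (tt N29899 (iv F279614)) (tt N30305 (iv F281817)) (tt N28613 F278404) (tt N28589 (iv D62344)) (tt N28721 F278405) (tt N30141 (iv F281109)) (tt N28605 F278406) (tt N28592 F278407) (tt N30276 (iv F281716)) (tt N28660 F278408))
theorem Q29576 : ∀ i, i < 29576 → P i := stepQ 29575 Q29575 (allL N29575 (tt N28591 F278409) (tt N30229 (iv F281513)) (tt N30021 (iv F280372)) (tt N30306 D63076) (tt N28590 (iv D62345)) (tt N30307 D63077) (tt N28594 F278410) (tt N30304 (iv F281815)) (tt N30257 (iv F281638)) (tt N28661 F278411))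
theorem Q29577 : ∀ i, i < 29577 → P i := stepQ 29576 Q29576 (allL N29576 (tt N30306 (iv F281823)) (tt N28592 F278412) (tt N30308 D63078) (tt N28591 (iv D62346)) (tt N28842 F278413) (tt N30140 (iv F281104)) (tt N28595 F278414) (tt N30305 (iv F281821)) (tt N30309 D63079) (tt N28662 F278415))
theorem Q29578 : ∀ i, i < 29578 → P i := stepQ 29577 Q29577 (allL N29577 (tt N30307 (iv F281827)) (tt N28593 F278416) (tt N30022 (iv F280378)) (tt N30140 (iv F281103)) (tt N30164 (iv F281208)) (tt N28591 (iv D62347)) (tt N30069 (iv F280687)) (tt N30192 F281331) (tt N30199 (iv F281364)) (tt N28663 F278417))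
theorem Q29579 : ∀ i, i < 29579 → P i := stepQ 29578 Q29578 (allL N29578 (tt N30232 (iv F281523)) (tt N30309 (iv F281835)) (tt N28615 F278418) (tt N30259 (iv F281643)) (tt N28839 F278419) (tt N30132 (iv F281076)) (tt N28596 F278420) (tt N30276 (iv F281715)) (tt N28592 (iv D62348)) (tt N30310 D63080))
theorem Q29580 : ∀ i, i < 29580 → P i := stepQ 29579 Q29579 (allL N29579 (tt N28595 F278421) (tt N30233 (iv F281528)) (tt N30311 D63081) (tt N28594 (iv D62349)) (tt N28841 F278422) (tt N28840 F278423) (tt N30306 (iv F281825)) (tt N28609 F278424) (tt N30312 D63082) (tt N28665 F278425))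
theorem Q29581 : ∀ i, i < 29581 → P i := stepQ 29580 Q29580 (allL N29580 (tt N30311 (iv F281842)) (tt N28616 F278426) (tt N28595 (iv D62350)) (tt N28700 F278427) (tt N28709 F278428) (tt N28826 F278429) (tt N30308 (iv F281832)) (tt N28610 F278430) (tt N30218 (iv F281461)) (tt N28666 F278431))
theorem Q29582 : ∀ i, i < 29582 → P i := stepQ 29581 Q29581 (allL N29581 (tt N30312 (iv F281848)) (tt N28596 F278432) (tt N30218 (iv F281458)) (tt N30262 (iv F281651)) (tt N28838 F278433) (tt N28831 F278434) (tt N30309 (iv F281837)) (tt N28611 F278435) (tt N28595 (iv D62351)) (tt N30313 D63083))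
theorem Q29583 : ∀ i, i < 29583 → P i := stepQ 29582 Q29582 (allL N29582 (tt N29977 (iv F280136)) (tt N30313 (iv F281852)) (tt N28617 F278436) (tt N30263 (iv F281655)) (tt N28835 F278437) (tt N28829 F278438) (tt N30310 (iv F281840)) (tt N28612 F278439) (tt N28668 F278440) (tt N28596 (iv D62352)))
theorem Q29584 : ∀ i, i < 29584 → P i := stepQ 29583 Q29583 (allL N29583 (tt N28598 (iv D62353)) (tt N28782 F278441) (tt N28864 F278442) (tt N28939 F278443) (tt N30020 (iv F280366)) (tt N28600 F278444) (tt N29989 (iv F280213)) (tt N28851 F278445) (tt N28685 F278446) (tt N28599 F278447))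
theorem Q29585 : ∀ i, i < 29585 → P i := stepQ 29584 Q29584 (allL N29584 (tt N28604 F278448) (tt N29901 (iv F279630)) (tt N30034 (iv F280450)) (tt N30314 D63084) (tt N28603 (iv D62354)) (tt N28912 F278449) (tt N30304 (iv F281814)) (tt N28606 F278450) (tt N30014 (iv F280334)) (tt N28708 F278451))
theorem Q29586 : ∀ i, i < 29586 → P i := stepQ 29585 Q29585 (allL N29585 (tt N30314 (iv F281857)) (tt N28605 F278452) (tt N28656 F278453) (tt N28604 (iv D62355)) (tt N28666 F278454) (tt N28798 F278455) (tt N30305 (iv F281820)) (tt N28607 F278456) (tt N30315 D63085) (tt N28709 F278457))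
theorem Q29587 : ∀ i, i < 29587 → P i := stepQ 29586 Q29586 (allL N29586 (tt N29903 (iv F279641)) (tt N30315 (iv F281863)) (tt N28618 F278458) (tt N30016 (iv F280341)) (tt N28725 F278459) (tt N28796 F278460) (tt N30276 (iv F281714)) (tt N28608 F278461) (tt N28605 (iv D62356)) (tt N30085 (iv F280804)))
theorem Q29588 : ∀ i, i < 29588 → P i := stepQ 29587 Q29587 (allL N29587 (tt N28607 F278462) (tt N29913 (iv F279702)) (tt N28704 F278463) (tt N28606 (iv D62357)) (tt N28713 F278464) (tt N28809 F278465) (tt N28609 F278466) (tt N30314 (iv F281861)) (tt N30316 D63086) (tt N28710 F278467))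
theorem Q29589 : ∀ i, i < 29589 → P i := stepQ 29588 Q29588 (allL N29588 (tt N30316 (iv F281868)) (tt N28608 F278468) (tt N28706 F278469) (tt N30293 (iv F281772)) (tt N28715 F278470) (tt N28806 F278471) (tt N28611 F278472) (tt N30315 (iv F281867)) (tt N28607 (iv D62358)) (tt N30317 D63087))
theorem Q29590 : ∀ i, i < 29590 → P i := stepQ 29589 Q29589 (allL N29589 (tt N29915 (iv F279713)) (tt N30317 (iv F281873)) (tt N28619 F278473) (tt N30294 (iv F281776)) (tt N28654 F278474) (tt N28625 F278475) (tt N28612 F278476) (tt N30085 (iv F280802)) (tt N28712 F278477) (tt N28608 (iv D62359)))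
theorem Q29591 : ∀ i, i < 29591 → P i := stepQ 29590 Q29590 (allL N29590 (tt N28610 F278478) (tt N29944 (iv F279906)) (tt N28609 (iv D62360)) (tt N28702 F278479) (tt N28710 F278480) (tt N28852 F278481) (tt N28704 F278482) (tt N30311 (iv F281846)) (tt N30318 D63088) (tt N28713 F278483))
theorem Q29592 : ∀ i, i < 29592 → P i := stepQ 29591 Q29591 (allL N29591 (tt N28611 F278484) (tt N30235 (iv F281538)) (tt N30318 (iv F281880)) (tt N30296 (iv F281782)) (tt N28863 F278485) (tt N28859 F278486) (tt N30316 (iv F281872)) (tt N30312 (iv F281851)) (tt N28609 (iv D62361)) (tt N30319 D63089))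
theorem Q29593 : ∀ i, i < 29593 → P i := stepQ 29592 Q29592 (allL N29592 (tt N30318 (iv F281879)) (tt N28620 F278487) (tt N28611 F278488) (tt N30320 D63090) (tt N28711 F278489) (tt N28846 F278490) (tt N28706 F278491) (tt N30218 (iv F281460)) (tt N28610 (iv D62362)) (tt N30321 D63091))
theorem Q29594 : ∀ i, i < 29594 → P i := stepQ 29593 Q29593 (allL N29593 (tt N30319 (iv F281884)) (tt N28612 F278492) (tt N30321 (iv F281893)) (tt N30298 (iv F281788)) (tt N28862 F278493) (tt N28857 F278494) (tt N30317 (iv F281877)) (tt N30313 (iv F281855)) (tt N28716 F278495) (tt N28611 (iv D62363)))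
theorem Q29595 : ∀ i, i < 29595 → P i := stepQ 29594 Q29594 (allL N29594 (tt N29869 (iv F279414)) (tt N30308 (iv F281829)) (tt N28614 (iv D62364)) (tt N28649 F278496) (tt N28660 F278497) (tt N30126 (iv F281054)) (tt N28616 F278498) (tt N28653 F278499) (tt N30221 (iv F281478)) (tt N28721 F278500))
theorem Q29596 : ∀ i, i < 29596 → P i := stepQ 29595 Q29595 (allL N29595 (tt N29978 (iv F280142)) (tt N30091 (iv F280840)) (tt N30310 (iv F281838)) (tt N29595 F278501) (tt N28836 F278502) (tt N29916 (iv F279724)) (tt N28617 F278503) (tt N30086 (iv F280810)) (tt N28722 F278504) (tt N28615 (iv D62365)))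
theorem Q29597 : ∀ i, i < 29597 → P i := stepQ 29596 Q29596 (allL N29596 (tt N29938 (iv F279866)) (tt N30320 (iv F281888)) (tt N29596 F278505) (tt N28620 (iv D62366)) (tt N29964 (iv F280047)) (tt N28847 F278506) (tt N28692 F278507) (tt N30219 (iv F281466)) (tt N28683 F278508) (tt N30322 D63092))
theorem Q29598 : ∀ i, i < 29598 → P i := stepQ 29597 Q29597 (allL N29597 (tt N29947 (iv F279925)) (tt N30321 (iv F281892)) (tt N28621 F278509) (tt N30322 (iv F281899)) (tt N28712 F278510) (tt N28642 F278511) (tt N28707 F278512) (tt N30090 (iv F280836)) (tt N28654 F278513) (tt N28620 (iv D62367)))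
theorem Q29599 : ∀ i, i < 29599 → P i := stepQ 29598 Q29598 (allL N29598 (tt N28624 (iv D62368)) (tt N30115 (iv F280996)) (tt N28811 F278514) (tt N28632 F278515) (tt N30323 D63093) (tt N28651 F278516) (tt N28626 F278517) (tt N30082 (iv F280783)) (tt N28848 F278518) (tt N28805 F278519))
theorem Q29600 : ∀ i, i < 29600 → P i := stepQ 29599 Q29599 (allL N29599 (tt N30323 (iv F281902)) (tt N28625 F278520) (tt N28812 F278521) (tt N30324 D63094) (tt N28624 (iv D62369)) (tt N30317 (iv F281876)) (tt N28627 F278522) (tt N30083 (iv F280789)) (tt N28849 F278523) (tt N28806 F278524))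
theorem Q29601 : ∀ i, i < 29601 → P i := stepQ 29600 Q29600 (allL N29600 (tt N30009 (iv F280296)) (tt N30324 (iv F281907)) (tt N29600 F278525) (tt N28625 (iv D62370)) (tt N28634 F278526) (tt N30294 (iv F281777)) (tt N28628 F278527) (tt N30084 (iv F280796)) (tt N30066 (iv F280669)) (tt N28807 F278528))
theorem Q29602 : ∀ i, i < 29602 → P i := stepQ 29601 Q29601 (allL N29601 (tt N28627 F278529) (tt N30236 (iv F281542)) (tt N30027 (iv F280412)) (tt N30325 D63095) (tt N28626 (iv D62371)) (tt N30326 D63096) (tt N30323 (iv F281904)) (tt N28975 F278530) (tt N30055 (iv F280589)) (tt N30025 (iv F280402)))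
theorem Q29603 : ∀ i, i < 29603 → P i := stepQ 29602 Q29602 (allL N29602 (tt N30325 (iv F281911)) (tt N28628 F278531) (tt N30327 D63097) (tt N28627 (iv D62372)) (tt N28636 F278532) (tt N30303 (iv F281808)) (tt N30324 (iv F281909)) (tt N28976 F278533) (tt N30207 (iv F281401)) (tt N30026 (iv F280409)))
theorem Q29604 : ∀ i, i < 29604 → P i := stepQ 29603 Q29603 (allL N29603 (tt N30326 (iv F281914)) (tt N28629 F278534) (tt N28645 F278535) (tt N30303 (iv F281806)) (tt N28631 F278536) (tt N28627 (iv D62373)) (tt N28857 (iv F278540)) (tt N28671 F278537) (tt N28640 F278538) (tt N28854 F278539))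
theorem Q29605 : ∀ i, i < 29605 → P i := stepQ 29604 Q29604 (allL N29604 (tt N28631 F278541) (tt N28948 F278542) (tt N28644 F278543) (tt N28930 F278544) (tt N30326 (iv F281917)) (tt N28630 (iv D62374)) (tt N28856 F278545) (tt N28670 F278546) (tt N28639 F278547) (tt N28853 F278548))
theorem Q29606 : ∀ i, i < 29606 → P i := stepQ 29605 Q29605 (allL N29605 (tt N28633 F278549) (tt N30148 (iv F281143)) (tt N30040 (iv F280493)) (tt N30328 D63098) (tt N28632 (iv D62375)) (tt N30163 (iv F281206)) (tt N28635 F278550) (tt N30099 (iv F280893)) (tt N30079 F280761) (tt N30299 (iv F281793)))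
theorem Q29607 : ∀ i, i < 29607 → P i := stepQ 29606 Q29606 (allL N29606 (tt N30328 (iv F281925)) (tt N28634 F278551) (tt N30329 D63099) (tt N28633 (iv D62376)) (tt N30324 (iv F281908)) (tt N30144 (iv F281121)) (tt N28636 F278552) (tt N30100 (iv F280897)) (tt N30071 (iv F280699)) (tt N30300 (iv F281798)))
theorem Q29608 : ∀ i, i < 29608 → P i := stepQ 29607 Q29607 (allL N29607 (tt N28636 F278553) (tt N30238 (iv F281555)) (tt N30330 D63100) (tt N28635 (iv D62377)) (tt N30325 (iv F281912)) (tt N30208 (iv F281405)) (tt N30328 (iv F281926)) (tt N28979 F278554) (tt N30331 D63101) (tt N30301 (iv F281801)))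
theorem Q29609 : ∀ i, i < 29609 → P i := stepQ 29608 Q29608 (allL N29608 (tt N30330 (iv F281929)) (tt N29608 F278555) (tt N28636 (iv D62378)) (tt N30046 (iv F280523)) (tt N30327 (iv F281923)) (tt N30209 (iv F281410)) (tt N30329 (iv F281928)) (tt N28980 F278556) (tt N30332 D63102) (tt N30302 (iv F281804)))
theorem Q29610 : ∀ i, i < 29610 → P i := stepQ 29609 Q29609 (allL N29609 (tt N30331 (iv F281931)) (tt N28637 F278557) (tt N30332 (iv F281937)) (tt N28915 F278558) (tt N30207 (iv F281398)) (tt N28938 F278559) (tt N30071 (iv F280698)) (tt N28981 F278560) (tt N28636 (iv D62379)) (tt N29957 (iv F280002)))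
theorem Q29611 : ∀ i, i < 29611 → P i := stepQ 29610 Q29610 (allL N29610 (tt N28640 F278561) (tt N30017 (iv F280345)) (tt N28655 F278562) (tt N30034 (iv F280451)) (tt N28639 (iv D62380)) (tt N30055 (iv F280586)) (tt N30210 (iv F281418)) (tt N28674 F278563) (tt N30326 (iv F281919)) (tt N30049 (iv F280542)))
theorem Q29612 : ∀ i, i < 29612 → P i := stepQ 29611 Q29611 (allL N29611 (tt N28641 (iv D62381)) (tt N30116 (iv F281004)) (tt N28856 F278564) (tt N30080 (iv F280764)) (tt N30333 D63103) (tt N28848 F278565) (tt N28644 F278566) (tt N30087 (iv F280818)) (tt N28651 F278567) (tt N28845 F278568))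
theorem Q29613 : ∀ i, i < 29613 → P i := stepQ 29612 Q29612 (allL N29612 (tt N30333 (iv F281940)) (tt N28642 F278569) (tt N28857 F278570) (tt N30334 D63104) (tt N28641 (iv D62382)) (tt N30321 (iv F281895)) (tt N28645 F278571) (tt N30088 (iv F280824)) (tt N28652 F278572) (tt N28846 F278573))
theorem Q29614 : ∀ i, i < 29614 → P i := stepQ 29613 Q29613 (allL N29613 (tt N30118 (iv F281018)) (tt N30334 (iv F281945)) (tt N29613 F278574) (tt N28642 (iv D62383)) (tt N30076 (iv F280735)) (tt N30322 (iv F281900)) (tt N28646 F278575) (tt N30089 (iv F280831)) (tt N30162 (iv F281203)) (tt N28847 F278576))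
theorem Q29615 : ∀ i, i < 29615 → P i := stepQ 29614 Q29614 (allL N29614 (tt N28643 (iv D62384)) (tt N28955 F278577) (tt N28853 F278578) (tt N30165 (iv F281213)) (tt N30030 (iv F280430)) (tt N28647 F278579) (tt N28845 F278580) (tt N28685 F278581) (tt N28851 F278582) (tt N28644 F278583))
theorem Q29616 : ∀ i, i < 29616 → P i := stepQ 29615 Q29615 (allL N29615 (tt N28645 F278584) (tt N30240 (iv F281564)) (tt N30326 (iv F281916)) (tt N30335 D63105) (tt N28644 (iv D62385)) (tt N30027 (iv F280413)) (tt N30333 (iv F281942)) (tt N28688 F278585) (tt N28655 F278586) (tt N30030 (iv F280433)))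
theorem Q29617 : ∀ i, i < 29617 → P i := stepQ 29616 Q29616 (allL N29616 (tt N30335 (iv F281948)) (tt N28646 F278587) (tt N30336 D63106) (tt N28645 (iv D62386)) (tt N30168 (iv F281230)) (tt N30028 (iv F280420)) (tt N30334 (iv F281946)) (tt N28689 F278588) (tt N30337 D63107) (tt N30032 (iv F280440)))
theorem Q29618 : ∀ i, i < 29618 → P i := stepQ 29617 Q29617 (allL N29617 (tt N30187 (iv F281304)) (tt N30337 (iv F281952)) (tt N29617 F278589) (tt N28657 F278590) (tt N30043 (iv F280508)) (tt N28803 F278591) (tt N30162 (iv F281202)) (tt N28692 F278592) (tt N28646 (iv D62387)) (tt N30338 D63108))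
theorem Q29619 : ∀ i, i < 29619 → P i := stepQ 29618 Q29618 (allL N29618 (tt N28648 (iv D62388)) (tt N29867 (iv F279400)) (tt N28945 F278593) (tt N28658 F278594) (tt N30339 D63109) (tt N30082 (iv F280781)) (tt N28699 F278595) (tt N28651 F278596) (tt N30087 (iv F280819)) (tt N28941 F278597))
theorem Q29620 : ∀ i, i < 29620 → P i := stepQ 29619 Q29619 (allL N29619 (tt N30339 (iv F281960)) (tt N28649 F278598) (tt N28946 F278599) (tt N30308 (iv F281830)) (tt N28648 (iv D62389)) (tt N30340 D63110) (tt N28700 F278600) (tt N28652 F278601) (tt N30088 (iv F280825)) (tt N28942 F278602))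
theorem Q29621 : ∀ i, i < 29621 → P i := stepQ 29620 Q29620 (allL N29620 (tt N29870 (iv F279421)) (tt N30340 (iv F281965)) (tt N28650 F278603) (tt N30126 (iv F281053)) (tt N30085 (iv F280801)) (tt N28649 (iv D62390)) (tt N30124 (iv F281045)) (tt N28654 F278604) (tt N30090 (iv F280837)) (tt N28725 F278605))
theorem Q29622 : ∀ i, i < 29622 → P i := stepQ 29621 Q29621 (allL N29621 (tt N28652 F278606) (tt N30242 (iv F281575)) (tt N30210 (iv F281414)) (tt N30341 D63111) (tt N28651 (iv D62391)) (tt N30342 D63112) (tt N28655 F278607) (tt N30339 (iv F281963)) (tt N30333 (iv F281943)) (tt N30056 (iv F280599)))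
theorem Q29623 : ∀ i, i < 29623 → P i := stepQ 29622 Q29622 (allL N29622 (tt N30341 (iv F281969)) (tt N28653 F278608) (tt N30305 (iv F281818)) (tt N28652 (iv D62392)) (tt N28662 F278609) (tt N30343 D63113) (tt N28656 F278610) (tt N30308 (iv F281833)) (tt N30344 D63114) (tt N28842 F278611))
theorem Q29624 : ∀ i, i < 29624 → P i := stepQ 29623 Q29623 (allL N29623 (tt N30342 (iv F281973)) (tt N28654 F278612) (tt N28716 F278613) (tt N30343 (iv F281978)) (tt N30317 (iv F281875)) (tt N28652 (iv D62393)) (tt N28862 F278614) (tt N30340 (iv F281967)) (tt N30321 (iv F281897)) (tt N28715 F278615))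
theorem Q29625 : ∀ i, i < 29625 → P i := stepQ 29624 Q29624 (allL N29624 (tt N29885 (iv F279522)) (tt N30343 (iv F281977)) (tt N28717 F278616) (tt N28654 F278617) (tt N30283 (iv F281742)) (tt N28653 (iv D62394)) (tt N28794 F278618) (tt N30126 (iv F281055)) (tt N30345 D63115) (tt N28728 F278619))
theorem Q29626 : ∀ i, i < 29626 → P i := stepQ 29625 Q29625 (allL N29625 (tt N30197 (iv F281354)) (tt N30344 (iv F281981)) (tt N28718 F278620) (tt N30162 (iv F281201)) (tt N28664 F278621) (tt N30345 (iv F281985)) (tt N28657 F278622) (tt N30221 (iv F281477)) (tt N28653 (iv D62395)) (tt N30346 D63116))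
theorem Q29627 : ∀ i, i < 29627 → P i := stepQ 29626 Q29626 (allL N29626 (tt N28656 F278623) (tt N30244 (iv F281584)) (tt N30314 (iv F281858)) (tt N28655 (iv D62396)) (tt N28665 F278624) (tt N28804 F278625) (tt N30341 (iv F281971)) (tt N28704 F278626) (tt N30347 D63117) (tt N28841 F278627))
theorem Q29628 : ∀ i, i < 29628 → P i := stepQ 29627 Q29627 (allL N29627 (tt N30347 (iv F281991)) (tt N28657 F278628) (tt N30315 (iv F281864)) (tt N30337 (iv F281953)) (tt N28667 F278629) (tt N28802 F278630) (tt N30344 (iv F281983)) (tt N28706 F278631) (tt N28656 (iv D62397)) (tt N30348 D63118))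
theorem Q29629 : ∀ i, i < 29629 → P i := stepQ 29628 Q29628 (allL N29628 (tt N29972 (iv F280101)) (tt N30348 (iv F281995)) (tt N28719 F278632) (tt N30338 (iv F281957)) (tt N28668 F278633) (tt N28800 F278634) (tt N30346 (iv F281989)) (tt N28707 F278635) (tt N28835 F278636) (tt N28657 (iv D62398)))
theorem Q29630 : ∀ i, i < 29630 → P i := stepQ 29629 Q29629 (allL N29629 (tt N28659 F278637) (tt N29923 (iv F279768)) (tt N30052 (iv F280560)) (tt N30349 D63119) (tt N28658 (iv D62399)) (tt N30194 (iv F281340)) (tt N28708 F278638) (tt N28661 F278639) (tt N28913 F278640) (tt N30304 (iv F281816)))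
theorem Q29631 : ∀ i, i < 29631 → P i := stepQ 29630 Q29630 (allL N29630 (tt N30349 (iv F282000)) (tt N28660 F278641) (tt N28842 F278642) (tt N28659 (iv D62400)) (tt N30308 (iv F281831)) (tt N30196 (iv F281351)) (tt N28709 F278643) (tt N28662 F278644) (tt N30223 (iv F281490)) (tt N30305 (iv F281822)))
theorem Q29632 : ∀ i, i < 29632 → P i := stepQ 29631 Q29631 (allL N29631 (tt N28662 F278645) (tt N30245 (iv F281590)) (tt N30350 D63120) (tt N28661 (iv D62401)) (tt N30341 (iv F281970)) (tt N30290 (iv F281763)) (tt N28665 F278646) (tt N30349 (iv F282003)) (tt N30351 D63121) (tt N30306 (iv F281826)))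
theorem Q29633 : ∀ i, i < 29633 → P i := stepQ 29632 Q29632 (allL N29632 (tt N28663 F278647) (tt N30246 (iv F281593)) (tt N30053 (iv F280569)) (tt N30290 (iv F281762)) (tt N30163 (iv F281205)) (tt N28661 (iv D62402)) (tt N30203 (iv F281381)) (tt N30194 F281342) (tt N30108 (iv F280954)) (tt N30307 (iv F281828)))
theorem Q29634 : ∀ i, i < 29634 → P i := stepQ 29633 Q29633 (allL N29633 (tt N30350 (iv F282004)) (tt N28721 F278648) (tt N28662 (iv D62403)) (tt N28942 F278649) (tt N30305 (iv F281819)) (tt N30275 (iv F281710)) (tt N28666 F278650) (tt N28842 F278651) (tt N30274 F281706) (tt N30308 (iv F281834)))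
theorem Q29635 : ∀ i, i < 29635 → P i := stepQ 29634 Q29634 (allL N29634 (tt N30351 (iv F282008)) (tt N28664 F278652) (tt N30274 (iv F281702)) (tt N29925 (iv F279781)) (tt N30344 (iv F281982)) (tt N29924 F279778) (tt N28667 F278653) (tt N30223 (iv F281489)) (tt N28662 (iv D62404)) (tt N30352 D63122))
theorem Q29636 : ∀ i, i < 29636 → P i := stepQ 29635 Q29635 (allL N29635 (tt N30141 (iv F281106)) (tt N30352 (iv F282010)) (tt N28722 F278654) (tt N29900 (iv F279623)) (tt N30346 (iv F281988)) (tt N29899 F279620) (tt N28668 F278655) (tt N30094 (iv F280863)) (tt N30310 (iv F281841)) (tt N28664 (iv D62405)))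
theorem Q29637 : ∀ i, i < 29637 → P i := stepQ 29636 Q29636 (allL N29636 (tt N28666 F278656) (tt N30353 D63123) (tt N28665 (iv D62406)) (tt N30054 (iv F280575)) (tt N30314 (iv F281859)) (tt N28943 F278657) (tt N30350 (iv F282006)) (tt N28713 F278658) (tt N30354 D63124) (tt N30311 (iv F281847)))
theorem Q29638 : ∀ i, i < 29638 → P i := stepQ 29637 Q29637 (allL N29637 (tt N28667 F278659) (tt N30193 (iv F281333)) (tt N30354 (iv F282018)) (tt N30053 (iv F280570)) (tt N30347 (iv F281992)) (tt N28947 F278660) (tt N30351 (iv F282009)) (tt N28714 F278661) (tt N28665 (iv D62407)) (tt N30355 D63125))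
theorem Q29639 : ∀ i, i < 29639 → P i := stepQ 29638 Q29638 (allL N29638 (tt N30354 (iv F282017)) (tt N28725 F278662) (tt N28667 F278663) (tt N30275 (iv F281709)) (tt N30315 (iv F281865)) (tt N28942 F278664) (tt N30274 (iv F281704)) (tt N28715 F278665) (tt N28666 (iv D62408)) (tt N30340 (iv F281968)))
theorem Q29640 : ∀ i, i < 29640 → P i := stepQ 29639 Q29639 (allL N29639 (tt N30355 (iv F282021)) (tt N28668 F278666) (tt N30340 (iv F281966)) (tt N30022 (iv F280379)) (tt N30348 (iv F281996)) (tt N28946 F278667) (tt N30352 (iv F282011)) (tt N28716 F278668) (tt N30313 (iv F281856)) (tt N28667 (iv D62409)))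
theorem Q29641 : ∀ i, i < 29641 → P i := stepQ 29640 Q29640 (allL N29640 (tt N28669 (iv D62410)) (tt N28805 F278669) (tt N28681 F278670) (tt N30146 (iv F281130)) (tt N30035 (iv F280460)) (tt N28986 F278671) (tt N28670 F278672) (tt N30127 (iv F281062)) (tt N28673 F278673) (tt N30115 (iv F281003)))
theorem Q29642 : ∀ i, i < 29642 → P i := stepQ 29641 Q29641 (allL N29641 (tt N28671 F278674) (tt N30025 (iv F280396)) (tt N28688 F278675) (tt N30356 D63126) (tt N28670 (iv D62411)) (tt N28975 F278676) (tt N30035 (iv F280461)) (tt N30326 (iv F281918)) (tt N28674 F278677) (tt N30236 (iv F281547)))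
theorem Q29643 : ∀ i, i < 29643 → P i := stepQ 29642 Q29642 (allL N29642 (tt N30356 (iv F282024)) (tt N28672 F278678) (tt N30357 D63127) (tt N28671 (iv D62412)) (tt N30228 (iv F281507)) (tt N28976 F278679) (tt N30008 (iv F280295)) (tt N30303 (iv F281810)) (tt N28952 F278680) (tt N30237 (iv F281553)))
theorem Q29644 : ∀ i, i < 29644 → P i := stepQ 29643 Q29643 (allL N29643 (tt N28675 (iv D62413)) (tt N28816 F278681) (tt N30127 (iv F281058)) (tt N28752 F278682) (tt N30358 D63128) (tt N28749 F278683) (tt N30087 (iv F280817)) (tt N28681 F278684) (tt N28699 F278685) (tt N29878 (iv F279485)))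
theorem Q29645 : ∀ i, i < 29645 → P i := stepQ 29644 Q29644 (allL N29644 (tt N30358 (iv F282031)) (tt N28676 F278686) (tt N30024 (iv F280390)) (tt N30359 D63129) (tt N28675 (iv D62414)) (tt N30360 D63130) (tt N30088 (iv F280823)) (tt N28682 F278687) (tt N28700 F278688) (tt N29879 (iv F279491)))
theorem Q29646 : ∀ i, i < 29646 → P i := stepQ 29645 Q29645 (allL N29645 (tt N28818 F278689) (tt N30359 (iv F282035)) (tt N29645 F278690) (tt N28676 (iv D62415)) (tt N28754 F278691) (tt N30220 (iv F281472)) (tt N30089 (iv F280830)) (tt N28683 F278692) (tt N30219 F281467) (tt N29880 (iv F279497)))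
theorem Q29647 : ∀ i, i < 29647 → P i := stepQ 29646 Q29646 (allL N29646 (tt N28819 F278693) (tt N30360 (iv F282038)) (tt N28677 F278694) (tt N30220 (iv F281470)) (tt N28751 F278695) (tt N28676 (iv D62416)) (tt N30125 (iv F281051)) (tt N28684 F278696) (tt N28701 F278697) (tt N29881 (iv F279503)))
theorem Q29648 : ∀ i, i < 29648 → P i := stepQ 29647 Q29647 (allL N29647 (tt N28678 (iv D62417)) (tt N29930 (iv F279816)) (tt N30115 (iv F280997)) (tt N29864 (iv F279380)) (tt N30361 D63131) (tt N28991 F278698) (tt N28685 F278699) (tt N29878 (iv F279483)) (tt N29989 (iv F280215)) (tt N28681 F278700))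
theorem Q29649 : ∀ i, i < 29649 → P i := stepQ 29648 Q29648 (allL N29648 (tt N30361 (iv F282042)) (tt N28679 F278701) (tt N30036 (iv F280463)) (tt N30362 D63132) (tt N28678 (iv D62418)) (tt N30363 D63133) (tt N28686 F278702) (tt N29879 (iv F279489)) (tt N29990 (iv F280221)) (tt N28682 F278703))
theorem Q29650 : ∀ i, i < 29650 → P i := stepQ 29649 Q29649 (allL N29649 (tt N29932 (iv F279830)) (tt N30362 (iv F282045)) (tt N29649 F278704) (tt N28679 (iv D62419)) (tt N29866 (iv F279395)) (tt N30364 D63134) (tt N28687 F278705) (tt N29880 (iv F279496)) (tt N30365 D63135) (tt N28683 F278706))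
theorem Q29651 : ∀ i, i < 29651 → P i := stepQ 29650 Q29650 (allL N29650 (tt N29933 (iv F279836)) (tt N30363 (iv F282048)) (tt N28680 F278707) (tt N30364 (iv F282052)) (tt N28990 F278708) (tt N28679 (iv D62420)) (tt N29907 (iv F279671)) (tt N29881 (iv F279501)) (tt N29941 (iv F279889)) (tt N28684 F278709))
theorem Q29652 : ∀ i, i < 29652 → P i := stepQ 29651 Q29651 (allL N29651 (tt N28682 F278710) (tt N29934 (iv F279844)) (tt N30035 (iv F280459)) (tt N30366 D63136) (tt N28681 (iv D62421)) (tt N30367 D63137) (tt N28688 F278711) (tt N30358 (iv F282033)) (tt N28702 F278712) (tt N30361 (iv F282044)))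
theorem Q29653 : ∀ i, i < 29653 → P i := stepQ 29652 Q29652 (allL N29652 (tt N30366 (iv F282056)) (tt N28683 F278713) (tt N30368 D63138) (tt N28682 (iv D62422)) (tt N29963 (iv F280040)) (tt N30369 D63139) (tt N28689 F278714) (tt N30359 (iv F282037)) (tt N30320 (iv F281891)) (tt N30362 (iv F282047)))
theorem Q29654 : ∀ i, i < 29654 → P i := stepQ 29653 Q29653 (allL N29653 (tt N30367 (iv F282058)) (tt N28684 F278715) (tt N29914 (iv F279709)) (tt N30369 (iv F282064)) (tt N28989 F278716) (tt N28682 (iv D62423)) (tt N29910 (iv F279686)) (tt N30360 (iv F282040)) (tt N28703 F278717) (tt N30363 (iv F282050)))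
theorem Q29655 : ∀ i, i < 29655 → P i := stepQ 29654 Q29654 (allL N29654 (tt N29937 (iv F279859)) (tt N30369 (iv F282063)) (tt N29654 F278718) (tt N28684 F278719) (tt N30215 (iv F281446)) (tt N28683 (iv D62424)) (tt N29911 (iv F279691)) (tt N30220 (iv F281473)) (tt N28847 F278720) (tt N30364 (iv F282053)))
theorem Q29656 : ∀ i, i < 29656 → P i := stepQ 29655 Q29655 (allL N29655 (tt N28686 F278721) (tt N30247 (iv F281597)) (tt N30236 (iv F281543)) (tt N30370 D63140) (tt N28685 (iv D62425)) (tt N30018 (iv F280355)) (tt N30361 (iv F282043)) (tt N30030 (iv F280431)) (tt N30020 (iv F280368)) (tt N28688 F278722))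
theorem Q29657 : ∀ i, i < 29657 → P i := stepQ 29656 Q29656 (allL N29656 (tt N30370 (iv F282066)) (tt N28687 F278723) (tt N30371 D63141) (tt N28686 (iv D62426)) (tt N30178 (iv F281282)) (tt N30019 (iv F280360)) (tt N30362 (iv F282046)) (tt N30032 (iv F280439)) (tt N30372 D63142) (tt N28689 F278724))
theorem Q29658 : ∀ i, i < 29658 → P i := stepQ 29657 Q29657 (allL N29657 (tt N30249 (iv F281607)) (tt N30372 (iv F282070)) (tt N29657 F278725) (tt N29892 (iv F279567)) (tt N30181 (iv F281291)) (tt N29891 F279564) (tt N30365 (iv F282055)) (tt N29911 (iv F279692)) (tt N28687 (iv D62427)) (tt N30373 D63143))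
theorem Q29659 : ∀ i, i < 29659 → P i := stepQ 29658 Q29658 (allL N29658 (tt N28689 F278726) (tt N30250 (iv F281613)) (tt N30374 D63144) (tt N28688 (iv D62428)) (tt N30182 (iv F281293)) (tt N30375 D63145) (tt N30366 (iv F282057)) (tt N30335 (iv F281949)) (tt N30376 D63146) (tt N30370 (iv F282067)))
theorem Q29660 : ∀ i, i < 29660 → P i := stepQ 29659 Q29659 (allL N29659 (tt N28690 F278727) (tt N28970 F278728) (tt N28975 F278729) (tt N30375 (iv F282078)) (tt N28696 F278730) (tt N28688 (iv D62429)) (tt N29908 (iv F279678)) (tt N30027 (iv F280415)) (tt N28705 F278731) (tt N30018 (iv F280358)))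
theorem Q29661 : ∀ i, i < 29661 → P i := stepQ 29660 Q29660 (allL N29660 (tt N30374 (iv F282075)) (tt N29660 F278732) (tt N28689 (iv D62430)) (tt N30357 (iv F282028)) (tt N30184 (iv F281298)) (tt N30377 D63147) (tt N30368 (iv F282062)) (tt N30336 (iv F281951)) (tt N30378 D63148) (tt N30371 (iv F282069)))
theorem Q29662 : ∀ i, i < 29662 → P i := stepQ 29661 Q29661 (allL N29661 (tt N30375 (iv F282076)) (tt N28691 F278733) (tt N30377 (iv F282084)) (tt N28690 F278734) (tt N30379 D63149) (tt N28689 (iv D62431)) (tt N29909 (iv F279681)) (tt N30028 (iv F280422)) (tt N28815 (iv F278735)) (tt N30019 (iv F280362)))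
theorem Q29663 : ∀ i, i < 29663 → P i := stepQ 29662 Q29662 (allL N29662 (tt N30376 (iv F282080)) (tt N28692 F278736) (tt N30378 (iv F282088)) (tt N28706 F278737) (tt N30186 (iv F281303)) (tt N28815 F278738) (tt N30320 (iv F281890)) (tt N30337 (iv F281955)) (tt N28689 (iv D62432)) (tt N30380 D63150))
theorem Q29664 : ∀ i, i < 29664 → P i := stepQ 29663 Q29663 (allL N29663 (tt N28803 F278739) (tt N30379 (iv F282090)) (tt N29663 F278740) (tt N28698 F278741) (tt N28691 (iv D62433)) (tt N30187 (iv F281307)) (tt N29875 (iv F279460)) (tt N28745 F278742) (tt N28787 F278743) (tt N29971 (iv F280100)))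
theorem Q29665 : ∀ i, i < 29665 → P i := stepQ 29664 Q29664 (allL N29664 (tt N29998 (iv F280252)) (tt N30380 (iv F282094)) (tt N29664 F278744) (tt N28707 F278745) (tt N30188 (iv F281312)) (tt N28813 F278746) (tt N30322 (iv F281901)) (tt N30338 (iv F281959)) (tt N30373 (iv F282074)) (tt N28692 (iv D62434)))
theorem Q29666 : ∀ i, i < 29666 → P i := stepQ 29665 Q29665 (allL N29665 (tt N28694 F278747) (tt N28945 F278748) (tt N28792 F278749) (tt N28693 (iv D62435)) (tt N30189 (iv F281317)) (tt N29969 (iv F280083)) (tt N28797 F278750) (tt N29927 (iv F279797)) (tt N29974 (iv F280121)) (tt N28695 F278751))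
theorem Q29667 : ∀ i, i < 29667 → P i := stepQ 29666 Q29666 (allL N29666 (tt N28697 F278752) (tt N28801 F278753) (tt N28816 F278754) (tt N28696 F278755) (tt N30381 D63151) (tt N28695 (iv D62436)) (tt N29873 (iv F279447)) (tt N28743 F278756) (tt N28739 F278757) (tt N29969 (iv F280087)))
theorem Q29668 : ∀ i, i < 29668 → P i := stepQ 29667 Q29667 (allL N29667 (tt N30381 (iv F282097)) (tt N28698 F278758) (tt N28817 F278759) (tt N30379 (iv F282091)) (tt N28697 (iv D62437)) (tt N30195 (iv F281345)) (tt N29874 (iv F279453)) (tt N28744 F278760) (tt N28740 F278761) (tt N29970 (iv F280093)))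
theorem Q29669 : ∀ i, i < 29669 → P i := stepQ 29668 Q29668 (allL N29668 (tt N28700 F278762) (tt N29917 (iv F279729)) (tt N30023 (iv F280388)) (tt N30311 (iv F281843)) (tt N28699 (iv D62438)) (tt N30382 D63152) (tt N30339 (iv F281962)) (tt N28702 F278763) (tt N30358 (iv F282034)) (tt N30054 (iv F280581)))
theorem Q29670 : ∀ i, i < 29670 → P i := stepQ 29669 Q29669 (allL N29669 (tt N30382 (iv F282102)) (tt N28701 F278764) (tt N29902 (iv F279636)) (tt N28826 F278765) (tt N28983 F278766) (tt N28700 (iv D62439)) (tt N30122 (iv F281038)) (tt N28703 F278767) (tt N30360 (iv F282041)) (tt N28944 F278768))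
theorem Q29671 : ∀ i, i < 29671 → P i := stepQ 29670 Q29670 (allL N29670 (tt N28703 F278769) (tt N29945 (iv F279913)) (tt N29913 (iv F279703)) (tt N28852 F278770) (tt N28988 F278771) (tt N28702 (iv D62440)) (tt N29912 (iv F279699)) (tt N30382 (iv F282105)) (tt N30367 (iv F282060)) (tt N29948 (iv F279938)))
theorem Q29672 : ∀ i, i < 29672 → P i := stepQ 29671 Q29671 (allL N29671 (tt N28706 F278772) (tt N30253 (iv F281621)) (tt N30316 (iv F281869)) (tt N30376 (iv F282081)) (tt N28714 F278773) (tt N28814 F278774) (tt N30318 (iv F281883)) (tt N30347 (iv F281994)) (tt N28704 (iv D62441)) (tt N30383 D63153))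
theorem Q29673 : ∀ i, i < 29673 → P i := stepQ 29672 Q29672 (allL N29672 (tt N30383 (iv F282107)) (tt N28707 F278775) (tt N30317 (iv F281874)) (tt N30380 (iv F282095)) (tt N28716 F278776) (tt N28812 F278777) (tt N30321 (iv F281896)) (tt N30348 (iv F281998)) (tt N28862 F278778) (tt N28706 (iv D62442)))
theorem Q29674 : ∀ i, i < 29674 → P i := stepQ 29673 Q29673 (allL N29673 (tt N28709 F278779) (tt N29926 (iv F279787)) (tt N28841 (iv F278782)) (tt N28708 (iv D62443)) (tt N30311 (iv F281844)) (tt N28827 F278780) (tt N30349 (iv F282002)) (tt N28710 F278781) (tt N30222 (iv F281484)) (tt N30314 (iv F281862)))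
theorem Q29675 : ∀ i, i < 29675 → P i := stepQ 29674 Q29674 (allL N29674 (tt N28711 F278783) (tt N29949 (iv F279941)) (tt N28863 F278784) (tt N30175 (iv F281267)) (tt N30318 (iv F281881)) (tt N28850 F278785) (tt N28714 F278786) (tt N30222 (iv F281483)) (tt N28710 (iv D62444)) (tt N30384 D63154))
theorem Q29676 : ∀ i, i < 29676 → P i := stepQ 29675 Q29675 (allL N29675 (tt N30384 (iv F282111)) (tt N28712 F278787) (tt N28862 F278788) (tt N30174 (iv F281261)) (tt N30321 (iv F281894)) (tt N28849 F278789) (tt N28716 F278790) (tt N30093 (iv F280857)) (tt N30317 (iv F281878)) (tt N28711 (iv D62445)))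
theorem Q29677 : ∀ i, i < 29677 → P i := stepQ 29676 Q29676 (allL N29676 (tt N28726 F278791) (tt N28713 (iv D62446)) (tt N28988 F278792) (tt N28773 F278793) (tt N29913 (iv F279704)) (tt N28987 F278794) (tt N28781 F278795) (tt N30353 (iv F282016)) (tt N30385 D63155) (tt N29944 (iv F279910)))
theorem Q29678 : ∀ i, i < 29678 → P i := stepQ 29677 Q29677 (allL N29677 (tt N28715 F278796) (tt N30385 (iv F282116)) (tt N28714 F278797) (tt N30386 D63156) (tt N30316 (iv F281870)) (tt N30056 (iv F280596)) (tt N28863 F278798) (tt N30354 (iv F282020)) (tt N28713 (iv D62447)) (tt N30342 (iv F281976)))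
theorem Q29679 : ∀ i, i < 29679 → P i := stepQ 29678 Q29678 (allL N29678 (tt N28716 F278799) (tt N30254 (iv F281625)) (tt N30342 (iv F281974)) (tt N30200 (iv F281366)) (tt N30383 (iv F282108)) (tt N30210 (iv F281417)) (tt N30384 (iv F282114)) (tt N30355 (iv F282023)) (tt N30319 (iv F281887)) (tt N28714 (iv D62448)))
theorem Q29680 : ∀ i, i < 29680 → P i := stepQ 29679 Q29679 (allL N29679 (tt N30386 (iv F282120)) (tt N28728 F278800) (tt N30196 (iv F281349)) (tt N28715 (iv D62449)) (tt N30387 D63157) (tt N28842 F278801) (tt N28821 F278802) (tt N30275 (iv F281712)) (tt N29922 (iv F279766)) (tt N30343 (iv F281980)))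
theorem Q29681 : ∀ i, i < 29681 → P i := stepQ 29680 Q29680 (allL N29680 (tt N29877 (iv F279470)) (tt N29978 (iv F280143)) (tt N30345 (iv F281984)) (tt N29680 F278803) (tt N29872 (iv F279438)) (tt N28718 F278804) (tt N28791 F278805) (tt N29882 (iv F279509)) (tt N28717 (iv D62450)) (tt N29893 (iv F279579)))
theorem Q29682 : ∀ i, i < 29682 → P i := stepQ 29681 Q29681 (allL N29681 (tt N29973 (iv F280107)) (tt N30086 (iv F280806)) (tt N30346 (iv F281987)) (tt N29681 F278806) (tt N28722 F278807) (tt N29893 (iv F279576)) (tt N28719 F278808) (tt N30091 (iv F280844)) (tt N28836 F278809) (tt N28718 (iv D62451)))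
theorem Q29683 : ∀ i, i < 29683 → P i := stepQ 29682 Q29682 (allL N29682 (tt N28721 F278810) (tt N30388 D63158) (tt N28720 (iv D62452)) (tt N28748 F278811) (tt N29899 (iv F279616)) (tt N30268 (iv F281681)) (tt N28723 F278812) (tt N28768 F278813) (tt N30267 F281677) (tt N29869 (iv F279419)))
theorem Q29684 : ∀ i, i < 29684 → P i := stepQ 29683 Q29683 (allL N29683 (tt N30353 (iv F282012)) (tt N28723 (iv D62453)) (tt N28983 F278814) (tt N28756 F278815) (tt N29902 (iv F279637)) (tt N28940 F278816) (tt N30388 (iv F282127)) (tt N28726 F278817) (tt N30389 D63159) (tt N29918 (iv F279738)))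
theorem Q29685 : ∀ i, i < 29685 → P i := stepQ 29684 Q29684 (allL N29684 (tt N28725 F278818) (tt N30389 (iv F282129)) (tt N28724 F278819) (tt N30268 (iv F281680)) (tt N29903 (iv F279643)) (tt N28748 F278820) (tt N30267 (iv F281675)) (tt N28727 F278821) (tt N28723 (iv D62454)) (tt N29870 (iv F279426)))
theorem Q29686 : ∀ i, i < 29686 → P i := stepQ 29685 Q29685 (allL N29685 (tt N30385 (iv F282115)) (tt N28727 F278822) (tt N28989 F278823) (tt N30390 D63160) (tt N29914 (iv F279710)) (tt N28985 F278824) (tt N28779 F278825) (tt N30389 (iv F282132)) (tt N28726 (iv D62455)) (tt N30005 (iv F280285)))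
theorem Q29687 : ∀ i, i < 29687 → P i := stepQ 29686 Q29686 (allL N29686 (tt N28728 F278826) (tt N30390 (iv F282133)) (tt N28729 F278827) (tt N28727 (iv D62456)) (tt N30125 (iv F281050)) (tt N28768 F278828) (tt N28751 F278829) (tt N30268 (iv F281683)) (tt N28771 F278830) (tt N29885 (iv F279526)))
theorem Q29688 : ∀ i, i < 29688 → P i := stepQ 29687 Q29687 (allL N29687 (tt N30125 (iv F281048)) (tt N30387 (iv F282123)) (tt N28730 F278831) (tt N30282 (iv F281738)) (tt N28728 (iv D62457)) (tt N30138 (iv F281098)) (tt N28819 F278832) (tt N29994 (iv F280238)) (tt N29920 (iv F279753)) (tt N30283 (iv F281744)))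
theorem Q29689 : ∀ i, i < 29689 → P i := stepQ 29688 Q29688 (allL N29688 (tt N28732 F278833) (tt N30078 (iv F280745)) (tt N28738 F278834) (tt N30072 (iv F280704)) (tt N28731 (iv D62458)) (tt N28907 F278835) (tt N30059 (iv F280618)) (tt N28899 F278836) (tt N28922 F278837) (tt N28908 F278838))
theorem Q29690 : ∀ i, i < 29690 → P i := stepQ 29689 Q29689 (allL N29689 (tt N28734 F278839) (tt N28977 F278840) (tt N28922 F278841) (tt N30391 D63161) (tt N28733 (iv D62459)) (tt N28822 F278842) (tt N28937 F278843) (tt N28903 F278844) (tt N28738 F278845) (tt N29958 (iv F280010)))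
theorem Q29691 : ∀ i, i < 29691 → P i := stepQ 29690 Q29690 (allL N29690 (tt N30391 (iv F282137)) (tt N28735 F278846) (tt N30392 D63162) (tt N28734 (iv D62460)) (tt N28860 F278847) (tt N28823 F278848) (tt N28938 F278849) (tt N28904 F278850) (tt N30151 (iv F281162)) (tt N29959 (iv F280017)))
theorem Q29692 : ∀ i, i < 29692 → P i := stepQ 29691 Q29691 (allL N29691 (tt N28737 F278851) (tt N28907 F278852) (tt N30059 (iv F280615)) (tt N28899 F278853) (tt N28736 (iv D62461)) (tt N30078 (iv F280748)) (tt N28738 F278854) (tt N30072 (iv F280707)) (tt N28937 F278855) (tt N28906 F278856))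
theorem Q29693 : ∀ i, i < 29693 → P i := stepQ 29692 Q29692 (allL N29692 (tt N28740 F278857) (tt N28804 F278858) (tt N29917 (iv F279730)) (tt N28788 F278859) (tt N28739 (iv D62462)) (tt N30244 (iv F281586)) (tt N29883 (iv F279515)) (tt N28746 F278860) (tt N30381 (iv F282101)) (tt N28766 F278861))
theorem Q29694 : ∀ i, i < 29694 → P i := stepQ 29693 Q29693 (allL N29693 (tt N28744 F278862) (tt N28814 F278863) (tt N29934 (iv F279845)) (tt N30393 D63163) (tt N28743 (iv D62463)) (tt N30253 (iv F281623)) (tt N29960 (iv F280022)) (tt N30381 (iv F282100)) (tt N28746 F278864) (tt N29995 (iv F280243)))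
theorem Q29695 : ∀ i, i < 29695 → P i := stepQ 29694 Q29694 (allL N29694 (tt N30393 (iv F282149)) (tt N28745 F278865) (tt N30394 D63164) (tt N28744 (iv D62464)) (tt N30028 (iv F280419)) (tt N30252 (iv F281619)) (tt N29961 (iv F280029)) (tt N30379 (iv F282092)) (tt N28971 F278866) (tt N29996 (iv F280247)))
theorem Q29696 : ∀ i, i < 29696 → P i := stepQ 29695 Q29695 (allL N29695 (tt N28747 (iv D62465)) (tt N28941 F278867) (tt N28749 F278868) (tt N29897 (iv F279602)) (tt N30395 D63165) (tt N30127 (iv F281060)) (tt N28755 F278869) (tt N28986 F278870) (tt N28939 F278871) (tt N29867 (iv F279407)))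
theorem Q29697 : ∀ i, i < 29697 → P i := stepQ 29696 Q29696 (allL N29696 (tt N30395 (iv F282154)) (tt N28748 F278872) (tt N28750 F278873) (tt N30388 (iv F282126)) (tt N28747 (iv D62466)) (tt N30389 (iv F282131)) (tt N28756 F278874) (tt N28985 F278875) (tt N28940 F278876) (tt N29868 (iv F279413)))
theorem Q29698 : ∀ i, i < 29698 → P i := stepQ 29697 Q29697 (allL N29697 (tt N28750 F278877) (tt N28820 F278878) (tt N30395 (iv F282156)) (tt N28778 F278879) (tt N28749 (iv D62467)) (tt N30396 D63166) (tt N28766 F278880) (tt N28993 F278881) (tt N28995 F278882) (tt N29883 (iv F279517)))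
theorem Q29699 : ∀ i, i < 29699 → P i := stepQ 29698 Q29698 (allL N29698 (tt N30396 (iv F282160)) (tt N28751 F278883) (tt N30389 (iv F282130)) (tt N28779 F278884) (tt N30360 (iv F282039)) (tt N28750 (iv D62468)) (tt N30390 (iv F282135)) (tt N28989 F278885) (tt N28983 F278886) (tt N29884 (iv F279521)))
theorem Q29700 : ∀ i, i < 29700 → P i := stepQ 29699 Q29699 (allL N29699 (tt N28753 F278887) (tt N28822 F278888) (tt N30070 (iv F280691)) (tt N30397 D63167) (tt N28752 (iv D62469)) (tt N28977 F278889) (tt N30095 (iv F280869)) (tt N29962 (iv F280037)) (tt N29857 (iv F279330)) (tt N29886 (iv F279533)))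
theorem Q29701 : ∀ i, i < 29701 → P i := stepQ 29700 Q29700 (allL N29700 (tt N30397 (iv F282165)) (tt N28754 F278890) (tt N30398 D63168) (tt N28753 (iv D62470)) (tt N30359 (iv F282036)) (tt N28978 F278891) (tt N30096 (iv F280874)) (tt N29963 (iv F280043)) (tt N30399 D63169) (tt N29887 (iv F279537)))
theorem Q29702 : ∀ i, i < 29702 → P i := stepQ 29701 Q29701 (allL N29701 (tt N28824 F278892) (tt N30399 (iv F282170)) (tt N29701 F278893) (tt N28884 F278894) (tt N30219 (iv F281465)) (tt N28883 F278895) (tt N30097 (iv F280880)) (tt N29964 (iv F280050)) (tt N28754 (iv D62471)) (tt N30400 D63170))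
theorem Q29703 : ∀ i, i < 29703 → P i := stepQ 29702 Q29702 (allL N29702 (tt N28756 F278896) (tt N30054 (iv F280574)) (tt N28766 F278897) (tt N30353 (iv F282014)) (tt N28755 (iv D62472)) (tt N30401 D63171) (tt N30395 (iv F282157)) (tt N28773 F278898) (tt N30264 (iv F281663)) (tt N29917 (iv F279733)))
theorem Q29704 : ∀ i, i < 29704 → P i := stepQ 29703 Q29703 (allL N29703 (tt N30401 (iv F282177)) (tt N28757 F278899) (tt N28767 F278900) (tt N28940 F278901) (tt N29895 (iv F279590)) (tt N28756 (iv D62473)) (tt N30265 (iv F281666)) (tt N28774 F278902) (tt N30266 (iv F281671)) (tt N29919 (iv F279747)))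
theorem Q29705 : ∀ i, i < 29705 → P i := stepQ 29704 Q29704 (allL N29704 (tt N28758 (iv D62474)) (tt N28830 F278903) (tt N29889 (iv F279544)) (tt N28894 F278904) (tt N30402 D63172) (tt N28760 F278905) (tt N30082 (iv F280782)) (tt N28775 F278906) (tt N28764 F278907) (tt N29974 (iv F280122)))
theorem Q29706 : ∀ i, i < 29706 → P i := stepQ 29705 Q29705 (allL N29705 (tt N30402 (iv F282182)) (tt N28759 F278908) (tt N29890 (iv F279552)) (tt N30403 D63173) (tt N28758 (iv D62475)) (tt N30234 (iv F281535)) (tt N30083 (iv F280788)) (tt N28776 F278909) (tt N28765 F278910) (tt N29975 (iv F280128)))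
theorem Q29707 : ∀ i, i < 29707 → P i := stepQ 29706 Q29706 (allL N29706 (tt N28832 F278911) (tt N30403 (iv F282186)) (tt N29706 F278912) (tt N28759 (iv D62476)) (tt N28896 F278913) (tt N30215 (iv F281447)) (tt N30084 (iv F280795)) (tt N28777 F278914) (tt N28928 F278915) (tt N29976 (iv F280135)))
theorem Q29708 : ∀ i, i < 29708 → P i := stepQ 29707 Q29707 (allL N29707 (tt N28761 F278916) (tt N28837 F278917) (tt N30264 (iv F281660)) (tt N28993 F278918) (tt N28760 (iv D62477)) (tt N30404 D63174) (tt N28995 F278919) (tt N28778 F278920) (tt N28766 F278921) (tt N29979 (iv F280155)))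
theorem Q29709 : ∀ i, i < 29709 → P i := stepQ 29708 Q29708 (allL N29708 (tt N30404 (iv F282190)) (tt N28762 F278922) (tt N30266 (iv F281669)) (tt N28989 F278923) (tt N30234 (iv F281534)) (tt N28761 (iv D62478)) (tt N30405 D63175) (tt N28779 F278924) (tt N28767 F278925) (tt N29980 (iv F280159)))
theorem Q29710 : ∀ i, i < 29710 → P i := stepQ 29709 Q29709 (allL N29709 (tt N28839 F278926) (tt N30405 (iv F282195)) (tt N28763 F278927) (tt N28772 F278928) (tt N30232 (iv F281525)) (tt N28771 F278929) (tt N28762 (iv D62479)) (tt N30267 (iv F281676)) (tt N28768 F278930) (tt N29981 (iv F280164)))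
theorem Q29711 : ∀ i, i < 29711 → P i := stepQ 29710 Q29710 (allL N29710 (tt N28765 F278931) (tt N28840 F278932) (tt N29894 (iv F279582)) (tt N28929 F278933) (tt N28764 (iv D62480)) (tt N30233 (iv F281530)) (tt N30092 (iv F280851)) (tt N28780 F278934) (tt N30402 (iv F282185)) (tt N28936 F278935))
theorem Q29712 : ∀ i, i < 29712 → P i := stepQ 29711 Q29711 (allL N29711 (tt N28767 F278936) (tt N28841 F278937) (tt N30401 (iv F282179)) (tt N28984 F278938) (tt N30233 (iv F281529)) (tt N28766 (iv D62481)) (tt N30406 D63176) (tt N28781 F278939) (tt N30404 (iv F282194)) (tt N30244 (iv F281588)))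
theorem Q29713 : ∀ i, i < 29713 → P i := stepQ 29712 Q29712 (allL N29712 (tt N30406 (iv F282199)) (tt N28768 F278940) (tt N30265 (iv F281665)) (tt N28985 F278941) (tt N30230 (iv F281517)) (tt N30390 (iv F282134)) (tt N28767 (iv D62482)) (tt N30388 (iv F282128)) (tt N30405 (iv F282198)) (tt N30243 (iv F281582)))
theorem Q29714 : ∀ i, i < 29714 → P i := stepQ 29713 Q29713 (allL N29713 (tt N28770 F278942) (tt N30051 (iv F280553)) (tt N28778 F278943) (tt N30407 D63177) (tt N28769 (iv D62483)) (tt N30408 D63178) (tt N28982 F278944) (tt N30264 (iv F281662)) (tt N28773 F278945) (tt N29991 (iv F280226)))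
theorem Q29715 : ∀ i, i < 29715 → P i := stepQ 29714 Q29714 (allL N29714 (tt N30407 (iv F282202)) (tt N28771 F278946) (tt N30388 (iv F282125)) (tt N28770 (iv D62484)) (tt N30122 (iv F281037)) (tt N30405 (iv F282197)) (tt N28983 F278947) (tt N30265 (iv F281667)) (tt N30390 (iv F282136)) (tt N29992 (iv F280230)))
theorem Q29716 : ∀ i, i < 29716 → P i := stepQ 29715 Q29715 (allL N29715 (tt N30408 (iv F282204)) (tt N28772 F278948) (tt N28779 F278949) (tt N30405 (iv F282196)) (tt N29910 (iv F279685)) (tt N28770 (iv D62485)) (tt N28989 F278950) (tt N30266 (iv F281670)) (tt N28774 F278951) (tt N29993 (iv F280234)))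
theorem Q29717 : ∀ i, i < 29717 → P i := stepQ 29716 Q29716 (allL N29716 (tt N28774 F278952) (tt N29948 (iv F279933)) (tt N28781 F278953) (tt N28987 F278954) (tt N29912 (iv F279698)) (tt N28773 (iv D62486)) (tt N28988 F278955) (tt N30401 (iv F282181)) (tt N30408 (iv F282207)) (tt N29945 (iv F279918)))
theorem Q29718 : ∀ i, i < 29718 → P i := stepQ 29717 Q29717 (allL N29717 (tt N28776 F278956) (tt N28859 F278957) (tt N29908 (iv F279677)) (tt N30409 D63179) (tt N28775 (iv D62487)) (tt N30235 (iv F281540)) (tt N28975 F278958) (tt N30402 (iv F282184)) (tt N28780 F278959) (tt N29999 (iv F280259)))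
theorem Q29719 : ∀ i, i < 29719 → P i := stepQ 29718 Q29718 (allL N29718 (tt N30409 (iv F282208)) (tt N28777 F278960) (tt N30410 D63180) (tt N28776 (iv D62488)) (tt N28978 F278961) (tt N30226 (iv F281498)) (tt N28976 F278962) (tt N30403 (iv F282188)) (tt N28935 F278963) (tt N30000 (iv F280263)))
theorem Q29720 : ∀ i, i < 29720 → P i := stepQ 29719 Q29719 (allL N29719 (tt N28779 F278964) (tt N28863 F278965) (tt N30408 (iv F282205)) (tt N30396 (iv F282162)) (tt N30235 (iv F281539)) (tt N28778 (iv D62489)) (tt N30385 (iv F282119)) (tt N30404 (iv F282193)) (tt N28781 F278966) (tt N30004 (iv F280281)))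
theorem Q29721 : ∀ i, i < 29721 → P i := stepQ 29720 Q29720 (allL N29720 (tt N28783 F278967) (tt N30020 (iv F280364)) (tt N28788 F278968) (tt N30411 D63181) (tt N28782 (iv D62490)) (tt N28994 F278969) (tt N29991 (iv F280225)) (tt N28958 F278970) (tt N30247 (iv F281601)) (tt N28982 F278971))
theorem Q29722 : ∀ i, i < 29722 → P i := stepQ 29721 Q29721 (allL N29721 (tt N30411 (iv F282217)) (tt N28784 F278972) (tt N29918 (iv F279735)) (tt N28783 (iv D62491)) (tt N28944 F278973) (tt N28973 F278974) (tt N29992 (iv F280229)) (tt N28959 F278975) (tt N30271 (iv F281695)) (tt N28983 F278976))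
theorem Q29723 : ∀ i, i < 29723 → P i := stepQ 29722 Q29722 (allL N29722 (tt N28786 F278977) (tt N30027 (iv F280411)) (tt N30247 (iv F281598)) (tt N30412 D63182) (tt N28785 (iv D62492)) (tt N30240 (iv F281566)) (tt N29995 (iv F280241)) (tt N28970 F278978) (tt N28788 F278979) (tt N29960 (iv F280025)))
theorem Q29724 : ∀ i, i < 29724 → P i := stepQ 29723 Q29723 (allL N29723 (tt N30412 (iv F282222)) (tt N28787 F278980) (tt N30413 D63183) (tt N28786 (iv D62493)) (tt N28815 F278981) (tt N30241 (iv F281571)) (tt N29996 (iv F280246)) (tt N28971 F278982) (tt N30379 (iv F282093)) (tt N29961 (iv F280032)))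
theorem Q29725 : ∀ i, i < 29725 → P i := stepQ 29724 Q29724 (allL N29724 (tt N28789 (iv D62494)) (tt N29873 (iv F279443)) (tt N29974 (iv F280116)) (tt N28964 F278983) (tt N30414 D63184) (tt N29966 (iv F280063)) (tt N28801 F278984) (tt N29904 (iv F279652)) (tt N28792 F278985) (tt N29889 (iv F279550)))
theorem Q29726 : ∀ i, i < 29726 → P i := stepQ 29725 Q29725 (allL N29725 (tt N30414 (iv F282228)) (tt N28790 F278986) (tt N29975 (iv F280124)) (tt N30415 D63185) (tt N28789 (iv D62495)) (tt N30416 D63186) (tt N28802 F278987) (tt N29905 (iv F279658)) (tt N28793 F278988) (tt N29890 (iv F279556)))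
theorem Q29727 : ∀ i, i < 29727 → P i := stepQ 29726 Q29726 (allL N29726 (tt N29875 (iv F279457)) (tt N30415 (iv F282231)) (tt N29726 F278989) (tt N28790 (iv D62496)) (tt N28966 F278990) (tt N30373 (iv F282073)) (tt N28803 F278991) (tt N29906 (iv F279665)) (tt N28813 F278992) (tt N29891 (iv F279563)))
theorem Q29728 : ∀ i, i < 29728 → P i := stepQ 29727 Q29727 (allL N29727 (tt N29876 (iv F279464)) (tt N30416 (iv F282235)) (tt N28791 F278993) (tt N30373 (iv F282072)) (tt N29968 (iv F280076)) (tt N28790 (iv D62497)) (tt N30345 (iv F281986)) (tt N29907 (iv F279672)) (tt N28794 F278994) (tt N29892 (iv F279571)))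
theorem Q29729 : ∀ i, i < 29729 → P i := stepQ 29728 Q29728 (allL N29728 (tt N28793 F278995) (tt N29883 (iv F279513)) (tt N30189 (iv F281316)) (tt N28861 F278996) (tt N28792 (iv D62498)) (tt N30417 D63187) (tt N28804 F278997) (tt N29939 (iv F279877)) (tt N30414 (iv F282230)) (tt N28820 F278998))
theorem Q29730 : ∀ i, i < 29730 → P i := stepQ 29729 Q29729 (allL N29729 (tt N30417 (iv F282237)) (tt N28794 F278999) (tt N30191 (iv F281323)) (tt N28862 F279000) (tt N30280 (iv F281731)) (tt N28793 (iv D62499)) (tt N30343 (iv F281979)) (tt N29940 (iv F279882)) (tt N30416 (iv F282236)) (tt N28821 F279001))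
theorem Q29731 : ∀ i, i < 29731 → P i := stepQ 29730 Q29730 (allL N29730 (tt N28795 (iv D62500)) (tt N30127 (iv F281057)) (tt N28801 F279002) (tt N29982 (iv F280167)) (tt N30418 D63188) (tt N28941 F279003) (tt N29974 (iv F280119)) (tt N28805 F279004) (tt N28797 F279005) (tt N30082 (iv F280785)))
theorem Q29732 : ∀ i, i < 29732 → P i := stepQ 29731 Q29731 (allL N29731 (tt N30418 (iv F282240)) (tt N28796 F279006) (tt N28802 F279007) (tt N30419 D63189) (tt N28795 (iv D62501)) (tt N30315 (iv F281866)) (tt N29975 (iv F280125)) (tt N28806 F279008) (tt N28798 F279009) (tt N30083 (iv F280791)))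
theorem Q29733 : ∀ i, i < 29733 → P i := stepQ 29732 Q29732 (allL N29732 (tt N29988 (iv F280202)) (tt N30419 (iv F282244)) (tt N29732 F279010) (tt N28796 (iv D62502)) (tt N29984 (iv F280181)) (tt N30016 (iv F280342)) (tt N29976 (iv F280132)) (tt N28807 F279011) (tt N28902 F279012) (tt N30084 (iv F280798)))
theorem Q29734 : ∀ i, i < 29734 → P i := stepQ 29733 Q29733 (allL N29733 (tt N28798 F279013) (tt N30023 (iv F280383)) (tt N28804 F279014) (tt N28912 F279015) (tt N28797 (iv D62503)) (tt N30314 (iv F281860)) (tt N30189 (iv F281318)) (tt N28809 F279016) (tt N30418 (iv F282243)) (tt N28827 F279017))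
theorem Q29735 : ∀ i, i < 29735 → P i := stepQ 29734 Q29734 (allL N29734 (tt N28799 (iv D62504)) (tt N29969 (iv F280080)) (tt N30082 (iv F280779)) (tt N28967 F279018) (tt N30420 D63190) (tt N28945 F279019) (tt N29889 (iv F279547)) (tt N28811 F279020) (tt N28833 F279021) (tt N28801 F279022))
theorem Q29736 : ∀ i, i < 29736 → P i := stepQ 29735 Q29735 (allL N29735 (tt N30420 (iv F282247)) (tt N28800 F279023) (tt N30083 (iv F280787)) (tt N30421 D63191) (tt N28799 (iv D62505)) (tt N30348 (iv F281997)) (tt N29890 (iv F279553)) (tt N28812 F279024) (tt N28834 F279025) (tt N28802 F279026))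
theorem Q29737 : ∀ i, i < 29737 → P i := stepQ 29736 Q29736 (allL N29736 (tt N29971 (iv F280094)) (tt N30421 (iv F282251)) (tt N29736 F279027) (tt N28800 (iv D62506)) (tt N28969 F279028) (tt N30338 (iv F281958)) (tt N29891 (iv F279560)) (tt N28813 F279029) (tt N29906 (iv F279666)) (tt N28803 F279030))
theorem Q29738 : ∀ i, i < 29738 → P i := stepQ 29737 Q29737 (allL N29737 (tt N28802 F279031) (tt N30381 (iv F282098)) (tt N30418 (iv F282241)) (tt N30422 D63192) (tt N28801 (iv D62507)) (tt N30347 (iv F281993)) (tt N30414 (iv F282229)) (tt N28814 F279032) (tt N28804 F279033) (tt N30420 (iv F282250)))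
theorem Q29739 : ∀ i, i < 29739 → P i := stepQ 29738 Q29738 (allL N29738 (tt N30422 (iv F282255)) (tt N28803 F279034) (tt N30423 D63193) (tt N28802 (iv D62508)) (tt N28971 F279035) (tt N30337 (iv F281954)) (tt N30415 (iv F282233)) (tt N28815 F279036) (tt N30028 (iv F280423)) (tt N30421 (iv F282254)))
theorem Q29740 : ∀ i, i < 29740 → P i := stepQ 29739 Q29739 (allL N29739 (tt N28806 F279037) (tt N30035 (iv F280458)) (tt N28814 F279038) (tt N30424 D63194) (tt N28805 (iv D62509)) (tt N30316 (iv F281871)) (tt N30025 (iv F280399)) (tt N30418 (iv F282242)) (tt N28809 F279039) (tt N30323 (iv F281906)))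
theorem Q29741 : ∀ i, i < 29741 → P i := stepQ 29740 Q29740 (allL N29740 (tt N30424 (iv F282261)) (tt N28807 F279040) (tt N30425 D63195) (tt N28806 (iv D62510)) (tt N30300 (iv F281795)) (tt N30293 (iv F281773)) (tt N30026 (iv F280406)) (tt N30419 (iv F282245)) (tt N29959 (iv F280016)) (tt N30324 (iv F281910)))
theorem Q29742 : ∀ i, i < 29742 → P i := stepQ 29741 Q29741 (allL N29741 (tt N28812 F279041) (tt N29995 (iv F280240)) (tt N30323 (iv F281903)) (tt N30426 D63196) (tt N28811 (iv D62511)) (tt N30383 (iv F282109)) (tt N30027 (iv F280414)) (tt N30420 (iv F282248)) (tt N28861 F279042) (tt N28814 F279043))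
theorem Q29743 : ∀ i, i < 29743 → P i := stepQ 29742 Q29742 (allL N29742 (tt N30426 (iv F282264)) (tt N28813 F279044) (tt N30427 D63197) (tt N28812 (iv D62512)) (tt N29961 (iv F280027)) (tt N30380 (iv F282096)) (tt N30028 (iv F280421)) (tt N30421 (iv F282253)) (tt N30415 (iv F282234)) (tt N28815 F279045))
theorem Q29744 : ∀ i, i < 29744 → P i := stepQ 29743 Q29743 (allL N29743 (tt N28815 F279046) (tt N30393 (iv F282150)) (tt N30428 D63198) (tt N28814 (iv D62513)) (tt N30412 (iv F282223)) (tt N30376 (iv F282082)) (tt N30029 (iv F280426)) (tt N30422 (iv F282257)) (tt N30375 F282079) (tt N30426 (iv F282265)))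
theorem Q29745 : ∀ i, i < 29745 → P i := stepQ 29744 Q29744 (allL N29744 (tt N30428 (iv F282268)) (tt N29744 F279047) (tt N28815 (iv D62514)) (tt N30425 (iv F282263)) (tt N30413 (iv F282226)) (tt N30378 (iv F282089)) (tt N30031 (iv F280436)) (tt N30423 (iv F282260)) (tt N30377 F282086) (tt N30427 (iv F282267)))
theorem Q29746 : ∀ i, i < 29746 → P i := stepQ 29745 Q29745 (allL N29745 (tt N28817 F279048) (tt N30358 (iv F282032)) (tt N30381 (iv F282099)) (tt N30429 D63199) (tt N28816 (iv D62515)) (tt N30430 D63200) (tt N30133 (iv F281079)) (tt N29934 (iv F279847)) (tt N29917 (iv F279732)) (tt N30278 (iv F281725)))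
theorem Q29747 : ∀ i, i < 29747 → P i := stepQ 29746 Q29746 (allL N29746 (tt N30429 (iv F282269)) (tt N28818 F279049) (tt N30431 D63201) (tt N28817 (iv D62516)) (tt N28823 F279050) (tt N30288 (iv F281758)) (tt N30134 (iv F281083)) (tt N29935 (iv F279852)) (tt N30287 F281754) (tt N30279 (iv F281729)))
theorem Q29748 : ∀ i, i < 29748 → P i := stepQ 29747 Q29747 (allL N29747 (tt N30430 (iv F282271)) (tt N28819 F279051) (tt N30195 (iv F281344)) (tt N30288 (iv F281756)) (tt N28821 F279052) (tt N28817 (iv D62517)) (tt N30387 (iv F282124)) (tt N29936 (iv F279857)) (tt N29919 (iv F279746)) (tt N30280 (iv F281732)))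
theorem Q29749 : ∀ i, i < 29749 → P i := stepQ 29748 Q29748 (allL N29748 (tt N28821 F279053) (tt N30396 (iv F282161)) (tt N30193 (iv F281334)) (tt N28863 F279054) (tt N30430 (iv F282272)) (tt N28820 (iv D62518)) (tt N30386 (iv F282122)) (tt N29942 (iv F279896)) (tt N29921 (iv F279760)) (tt N30417 (iv F282239)))
theorem Q29750 : ∀ i, i < 29750 → P i := stepQ 29749 Q29749 (allL N29749 (tt N28823 F279055) (tt N30397 (iv F282166)) (tt N30432 D63202) (tt N28822 (iv D62519)) (tt N30429 (iv F282270)) (tt N30391 (iv F282140)) (tt N30142 (iv F281113)) (tt N30045 (iv F280521)) (tt N30433 D63203) (tt N30291 (iv F281766)))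
theorem Q29751 : ∀ i, i < 29751 → P i := stepQ 29750 Q29750 (allL N29750 (tt N30432 (iv F282275)) (tt N29750 F279056) (tt N28823 (iv D62520)) (tt N28980 F279057) (tt N30431 (iv F282274)) (tt N30392 (iv F282146)) (tt N30143 (iv F281117)) (tt N30046 (iv F280525)) (tt N30434 D63204) (tt N30292 (iv F281770)))
theorem Q29752 : ∀ i, i < 29752 → P i := stepQ 29751 Q29751 (allL N29751 (tt N30433 (iv F282277)) (tt N28824 F279058) (tt N30434 (iv F282279)) (tt N30152 (iv F281166)) (tt N30287 (iv F281753)) (tt N30151 F281163) (tt N30144 (iv F281122)) (tt N30047 (iv F280529)) (tt N28823 (iv D62521)) (tt N30435 D63205))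
theorem Q29753 : ∀ i, i < 29753 → P i := stepQ 29752 Q29752 (allL N29752 (tt N30400 (iv F282173)) (tt N30435 (iv F282280)) (tt N29752 F279059) (tt N30067 (iv F280674)) (tt N30136 (iv F281090)) (tt N30066 F280671) (tt N30145 (iv F281126)) (tt N30048 (iv F280533)) (tt N30294 (iv F281779)) (tt N28824 (iv D62522)))
theorem Q29754 : ∀ i, i < 29754 → P i := stepQ 29753 Q29753 (allL N29753 (tt N28826 F279060) (tt N30277 (iv F281718)) (tt N28840 F279061) (tt N30382 (iv F282103)) (tt N28825 (iv D62523)) (tt N30311 (iv F281845)) (tt N30121 (iv F281034)) (tt N28852 F279062) (tt N30216 (iv F281453)) (tt N28943 F279063))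
theorem Q29755 : ∀ i, i < 29755 → P i := stepQ 29754 Q29754 (allL N29754 (tt N28828 (iv D62524)) (tt N29974 (iv F280115)) (tt N30087 (iv F280814)) (tt N28900 F279064) (tt N30436 D63206) (tt N28833 F279065) (tt N30127 (iv F281061)) (tt N28856 F279066) (tt N28945 F279067) (tt N28830 F279068))
theorem Q29756 : ∀ i, i < 29756 → P i := stepQ 29755 Q29755 (allL N29755 (tt N30436 (iv F282281)) (tt N28829 F279069) (tt N30088 (iv F280822)) (tt N30437 D63207) (tt N28828 (iv D62525)) (tt N30313 (iv F281854)) (tt N30024 (iv F280392)) (tt N28857 F279070) (tt N28946 F279071) (tt N28831 F279072))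
theorem Q29757 : ∀ i, i < 29757 → P i := stepQ 29756 Q29756 (allL N29756 (tt N29976 (iv F280129)) (tt N30437 (iv F282285)) (tt N29756 F279073) (tt N28829 (iv D62526)) (tt N28902 F279074) (tt N30263 (iv F281656)) (tt N29988 (iv F280206)) (tt N28858 F279075) (tt N29984 (iv F280184)) (tt N28832 F279076))
theorem Q29758 : ∀ i, i < 29758 → P i := stepQ 29757 Q29757 (allL N29757 (tt N28831 F279077) (tt N30402 (iv F282183)) (tt N30216 (iv F281451)) (tt N30438 D63208) (tt N28830 (iv D62527)) (tt N30312 (iv F281850)) (tt N30128 (iv F281066)) (tt N28859 F279078) (tt N28840 F279079) (tt N30436 (iv F282284)))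
theorem Q29759 : ∀ i, i < 29759 → P i := stepQ 29758 Q29758 (allL N29758 (tt N30438 (iv F282289)) (tt N28832 F279080) (tt N30439 D63209) (tt N28831 (iv D62528)) (tt N28904 F279081) (tt N30262 (iv F281652)) (tt N30129 (iv F281070)) (tt N28860 F279082) (tt N30202 (iv F281377)) (tt N30437 (iv F282288)))
theorem Q29760 : ∀ i, i < 29760 → P i := stepQ 29759 Q29759 (allL N29759 (tt N28834 F279083) (tt N29979 (iv F280151)) (tt N30092 (iv F280849)) (tt N29939 (iv F279875)) (tt N28833 (iv D62529)) (tt N30440 D63210) (tt N29894 (iv F279584)) (tt N28861 F279084) (tt N30420 (iv F282249)) (tt N28837 F279085))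
theorem Q29761 : ∀ i, i < 29761 → P i := stepQ 29760 Q29760 (allL N29760 (tt N30440 (iv F282295)) (tt N28835 F279086) (tt N30093 (iv F280855)) (tt N29940 (iv F279881)) (tt N30313 (iv F281853)) (tt N28834 (iv D62530)) (tt N30441 D63211) (tt N28862 F279087) (tt N30348 (iv F281999)) (tt N28838 F279088))
theorem Q29762 : ∀ i, i < 29762 → P i := stepQ 29761 Q29761 (allL N29761 (tt N29981 (iv F280160)) (tt N30441 (iv F282298)) (tt N28836 F279089) (tt N29941 (iv F279886)) (tt N30310 (iv F281839)) (tt N29896 (iv F279597)) (tt N28835 (iv D62531)) (tt N30124 (iv F281046)) (tt N30346 (iv F281990)) (tt N28839 F279090))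
theorem Q29763 : ∀ i, i < 29763 → P i := stepQ 29762 Q29762 (allL N29762 (tt N28838 F279091) (tt N30404 (iv F282191)) (tt N30222 (iv F281481)) (tt N29942 (iv F279895)) (tt N30312 (iv F281849)) (tt N28837 (iv D62532)) (tt N30442 D63212) (tt N28863 F279092) (tt N28841 F279093) (tt N30440 (iv F282297)))
theorem Q29764 : ∀ i, i < 29764 → P i := stepQ 29763 Q29763 (allL N29763 (tt N30442 (iv F282300)) (tt N28839 F279094) (tt N30223 (iv F281486)) (tt N29943 (iv F279900)) (tt N30309 (iv F281836)) (tt N29922 (iv F279764)) (tt N28838 (iv D62533)) (tt N30274 (iv F281705)) (tt N28842 F279095) (tt N30441 (iv F282299)))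
theorem Q29765 : ∀ i, i < 29765 → P i := stepQ 29764 Q29764 (allL N29764 (tt N28842 F279096) (tt N30406 (iv F282200)) (tt N30349 (iv F282001)) (tt N30056 (iv F280594)) (tt N30306 (iv F281824)) (tt N30386 (iv F282121)) (tt N28841 (iv D62534)) (tt N30350 (iv F282007)) (tt N30442 (iv F282301)) (tt N30341 (iv F281972)))
theorem Q29766 : ∀ i, i < 29766 → P i := stepQ 29765 Q29765 (allL N29765 (tt N28844 F279097) (tt N28852 F279098) (tt N28974 F279099) (tt N29945 (iv F279915)) (tt N28843 (iv D62535)) (tt N29944 F279911) (tt N28958 F279100) (tt N30277 (iv F281720)) (tt N30255 (iv F281631)) (tt N28987 F279101))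
theorem Q29767 : ∀ i, i < 29767 → P i := stepQ 29766 Q29766 (allL N29766 (tt N28846 F279102) (tt N30255 (iv F281627)) (tt N28859 F279103) (tt N30443 D63213) (tt N28845 (iv D62536)) (tt N30318 (iv F281882)) (tt N30030 F280434) (tt N30216 (iv F281452)) (tt N28852 F279104) (tt N30333 (iv F281944)))
theorem Q29768 : ∀ i, i < 29768 → P i := stepQ 29767 Q29767 (allL N29767 (tt N30443 (iv F282302)) (tt N28847 F279105) (tt N30444 D63214) (tt N28846 (iv D62537)) (tt N30214 (iv F281440)) (tt N30320 (iv F281889)) (tt N30032 F280441) (tt N30217 (iv F281456)) (tt N30369 (iv F282065)) (tt N30334 (iv F281947)))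
theorem Q29769 : ∀ i, i < 29769 → P i := stepQ 29768 Q29768 (allL N29768 (tt N28849 F279106) (tt N30057 (iv F280601)) (tt N28861 F279107) (tt N30173 (iv F281255)) (tt N28848 (iv D62538)) (tt N30384 (iv F282113)) (tt N30055 (iv F280587)) (tt N30092 (iv F280852)) (tt N30323 (iv F281905)) (tt N28850 F279108))
theorem Q29770 : ∀ i, i < 29770 → P i := stepQ 29769 Q29769 (allL N29769 (tt N28854 F279109) (tt N28975 F279110) (tt N30030 (iv F280429)) (tt N30445 D63215) (tt N28853 (iv D62539)) (tt N30025 (iv F280398)) (tt N28859 F279111) (tt N30236 (iv F281545)) (tt N28866 F279112) (tt N30326 (iv F281920)))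
theorem Q29771 : ∀ i, i < 29771 → P i := stepQ 29770 Q29770 (allL N29770 (tt N30445 (iv F282305)) (tt N28855 F279113) (tt N30446 D63216) (tt N28854 (iv D62540)) (tt N28938 F279114) (tt N30026 (iv F280405)) (tt N28860 F279115) (tt N30237 (iv F281551)) (tt N29957 (iv F280001)) (tt N30303 (iv F281811)))
theorem Q29772 : ∀ i, i < 29772 → P i := stepQ 29771 Q29771 (allL N29771 (tt N28857 F279116) (tt N29999 (iv F280257)) (tt N30333 (iv F281941)) (tt N30447 D63217) (tt N28856 (iv D62541)) (tt N30319 (iv F281886)) (tt N30326 F281921) (tt N30436 (iv F282282)) (tt N30210 (iv F281420)) (tt N28859 F279117))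
theorem Q29773 : ∀ i, i < 29773 → P i := stepQ 29772 Q29772 (allL N29772 (tt N30447 (iv F282312)) (tt N28858 F279118) (tt N30448 D63218) (tt N28857 (iv D62542)) (tt N29959 (iv F280012)) (tt N30298 (iv F281789)) (tt N30303 (iv F281809)) (tt N30437 (iv F282287)) (tt N30300 (iv F281797)) (tt N28860 F279119))
theorem Q29774 : ∀ i, i < 29774 → P i := stepQ 29773 Q29773 (allL N29773 (tt N28860 F279120) (tt N30409 (iv F282209)) (tt N30449 D63219) (tt N28859 (iv D62543)) (tt N30391 (iv F282139)) (tt N30296 (iv F281783)) (tt N30445 (iv F282308)) (tt N30438 (iv F282291)) (tt N30204 (iv F281386)) (tt N30447 (iv F282313)))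
theorem Q29775 : ∀ i, i < 29775 → P i := stepQ 29774 Q29774 (allL N29774 (tt N30449 (iv F282316)) (tt N29774 F279121) (tt N28860 (iv D62544)) (tt N30444 (iv F282304)) (tt N30392 (iv F282145)) (tt N30297 (iv F281786)) (tt N30446 (iv F282311)) (tt N30439 (iv F282294)) (tt N30205 (iv F281389)) (tt N30448 (iv F282315)))
theorem Q29776 : ∀ i, i < 29776 → P i := stepQ 29775 Q29775 (allL N29775 (tt N28862 F279122) (tt N30004 (iv F280280)) (tt N30384 (iv F282112)) (tt N30417 (iv F282238)) (tt N30319 (iv F281885)) (tt N28861 (iv D62545)) (tt N30342 (iv F281975)) (tt N30440 (iv F282296)) (tt N30383 (iv F282110)) (tt N28863 F279123))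
theorem Q29777 : ∀ i, i < 29777 → P i := stepQ 29776 Q29776 (allL N29776 (tt N28865 F279124) (tt N30055 (iv F280583)) (tt N30020 (iv F280365)) (tt N29955 (iv F279983)) (tt N28864 (iv D62546)) (tt N30017 (iv F280348)) (tt N30057 (iv F280603)) (tt N28866 F279125) (tt N30236 (iv F281546)) (tt N30050 (iv F280551)))
theorem Q29778 : ∀ i, i < 29778 → P i := stepQ 29777 Q29777 (allL N29777 (tt N28868 F279126) (tt N28892 F279127) (tt N30107 (iv F280941)) (tt N28898 F279128) (tt N30153 (iv F281175)) (tt N28867 (iv D62547)) (tt N30108 (iv F280952)) (tt N29858 (iv F279338)) (tt N30203 (iv F281382)) (tt N30176 (iv F281278)))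
theorem Q29779 : ∀ i, i < 29779 → P i := stepQ 29778 Q29778 (allL N29778 (tt N28869 (iv D62548)) (tt N30060 (iv F280622)) (tt N30146 (iv F281129)) (tt N29952 (iv F279959)) (tt N30450 D63220) (tt N29951 (iv F279952)) (tt N28926 F279129) (tt N30064 (iv F280655)) (tt N28885 F279130) (tt N28872 F279131))
theorem Q29780 : ∀ i, i < 29780 → P i := stepQ 29779 Q29779 (allL N29779 (tt N30450 (iv F282317)) (tt N28870 F279132) (tt N30147 (iv F281137)) (tt N30451 D63221) (tt N28869 (iv D62549)) (tt N30452 D63222) (tt N28927 F279133) (tt N30065 (iv F280661)) (tt N28886 F279134) (tt N28873 F279135))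
theorem Q29781 : ∀ i, i < 29781 → P i := stepQ 29780 Q29780 (allL N29780 (tt N30062 (iv F280636)) (tt N30451 (iv F282321)) (tt N29780 F279136) (tt N28870 (iv D62550)) (tt N29954 (iv F279974)) (tt N30048 (iv F280532)) (tt N28928 F279137) (tt N30066 (iv F280668)) (tt N30084 (iv F280797)) (tt N28874 F279138))
theorem Q29782 : ∀ i, i < 29782 → P i := stepQ 29781 Q29781 (allL N29781 (tt N30063 (iv F280643)) (tt N30452 (iv F282324)) (tt N28871 F279139) (tt N30048 (iv F280531)) (tt N29860 (iv F279350)) (tt N28870 (iv D62551)) (tt N30112 (iv F280982)) (tt N30067 (iv F280677)) (tt N28887 F279140) (tt N28875 F279141))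
theorem Q29783 : ∀ i, i < 29783 → P i := stepQ 29782 Q29782 (allL N29782 (tt N28873 F279142) (tt N30170 (iv F281239)) (tt N30148 (iv F281144)) (tt N30453 D63223) (tt N28872 (iv D62552)) (tt N30454 D63224) (tt N30073 (iv F280712)) (tt N30150 (iv F281156)) (tt N28876 F279143) (tt N30450 (iv F282320)))
theorem Q29784 : ∀ i, i < 29784 → P i := stepQ 29783 Q29783 (allL N29783 (tt N30453 (iv F282327)) (tt N28874 F279144) (tt N30455 D63225) (tt N28873 (iv D62553)) (tt N30202 (iv F281374)) (tt N30047 (iv F280528)) (tt N30074 (iv F280717)) (tt N30151 (iv F281161)) (tt N28904 F279145) (tt N30451 (iv F282323)))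
theorem Q29785 : ∀ i, i < 29785 → P i := stepQ 29784 Q29784 (allL N29784 (tt N30454 (iv F282329)) (tt N28875 F279146) (tt N30105 (iv F280927)) (tt N30047 (iv F280527)) (tt N29859 (iv F279343)) (tt N28873 (iv D62554)) (tt N30111 (iv F280976)) (tt N30152 (iv F281169)) (tt N28877 F279147) (tt N30452 (iv F282326)))
theorem Q29786 : ∀ i, i < 29786 → P i := stepQ 29785 Q29785 (allL N29785 (tt N28877 F279148) (tt N30176 (iv F281272)) (tt N30104 (iv F280920)) (tt N28905 F279149) (tt N29858 (iv F279335)) (tt N28876 (iv D62555)) (tt N30109 (iv F280960)) (tt N30153 (iv F281177)) (tt N30454 (iv F282330)) (tt N28892 F279150))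
theorem Q29787 : ∀ i, i < 29787 → P i := stepQ 29786 Q29786 (allL N29786 (tt N28878 (iv D62556)) (tt N30064 (iv F280650)) (tt N30165 (iv F281212)) (tt N28919 F279151) (tt N30456 D63226) (tt N28885 F279152) (tt N28916 F279153) (tt N30060 (iv F280627)) (tt N29951 (iv F279955)) (tt N28881 F279154))
theorem Q29788 : ∀ i, i < 29788 → P i := stepQ 29787 Q29787 (allL N29787 (tt N30456 (iv F282333)) (tt N28879 F279155) (tt N30166 (iv F281220)) (tt N30457 D63227) (tt N28878 (iv D62557)) (tt N30458 D63228) (tt N28917 F279156) (tt N30061 (iv F280633)) (tt N29863 (iv F279377)) (tt N28882 F279157))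
theorem Q29789 : ∀ i, i < 29789 → P i := stepQ 29788 Q29788 (allL N29788 (tt N30066 (iv F280664)) (tt N30457 (iv F282336)) (tt N29788 F279158) (tt N28879 (iv D62558)) (tt N28921 F279159) (tt N30400 (iv F282176)) (tt N28918 F279160) (tt N30062 (iv F280640)) (tt N30009 (iv F280302)) (tt N28883 F279161))
theorem Q29790 : ∀ i, i < 29790 → P i := stepQ 29789 Q29789 (allL N29789 (tt N30067 (iv F280672)) (tt N30458 (iv F282340)) (tt N28880 F279162) (tt N30400 (iv F282175)) (tt N28887 F279163) (tt N28879 (iv D62559)) (tt N30106 (iv F280936)) (tt N30063 (iv F280647)) (tt N29860 (iv F279354)) (tt N28884 F279164))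
theorem Q29791 : ∀ i, i < 29791 → P i := stepQ 29790 Q29790 (allL N29790 (tt N28882 F279165) (tt N30150 (iv F281153)) (tt N30167 (iv F281226)) (tt N30459 D63229) (tt N28881 (iv D62560)) (tt N30460 D63230) (tt N30081 (iv F280773)) (tt N30170 (iv F281241)) (tt N28890 F279166) (tt N30456 (iv F282335)))
theorem Q29792 : ∀ i, i < 29792 → P i := stepQ 29791 Q29791 (allL N29791 (tt N30459 (iv F282343)) (tt N28883 F279167) (tt N30461 D63231) (tt N28882 (iv D62561)) (tt N28935 F279168) (tt N30399 (iv F282172)) (tt N28981 F279169) (tt N30171 (iv F281245)) (tt N28978 F279170) (tt N30457 (iv F282339)))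
theorem Q29793 : ∀ i, i < 29793 → P i := stepQ 29792 Q29792 (allL N29792 (tt N30460 (iv F282347)) (tt N28884 F279171) (tt N30111 (iv F280973)) (tt N30399 (iv F282171)) (tt N28889 F279172) (tt N28882 (iv D62562)) (tt N30105 (iv F280930)) (tt N30172 (iv F281251)) (tt N28891 F279173) (tt N30458 (iv F282342)))
theorem Q29794 : ∀ i, i < 29794 → P i := stepQ 29793 Q29793 (allL N29793 (tt N28886 F279174) (tt N30068 (iv F280681)) (tt N30169 (iv F281234)) (tt N30092 (iv F280850)) (tt N28885 (iv D62563)) (tt N30462 D63232) (tt N28929 F279175) (tt N30173 (iv F281257)) (tt N30450 (iv F282319)) (tt N28888 F279176))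
theorem Q29795 : ∀ i, i < 29795 → P i := stepQ 29794 Q29794 (allL N29794 (tt N30462 (iv F282354)) (tt N28887 F279177) (tt N30114 (iv F280992)) (tt N30093 (iv F280856)) (tt N30458 (iv F282341)) (tt N28886 (iv D62564)) (tt N30231 (iv F281521)) (tt N30174 (iv F281263)) (tt N30452 (iv F282325)) (tt N28889 F279178))
theorem Q29796 : ∀ i, i < 29796 → P i := stepQ 29795 Q29795 (allL N29795 (tt N28889 F279179) (tt N30203 (iv F281379)) (tt N30113 (iv F280987)) (tt N30222 (iv F281482)) (tt N30460 (iv F282348)) (tt N28888 (iv D62565)) (tt N30246 (iv F281594)) (tt N30175 (iv F281269)) (tt N28892 F279180) (tt N30462 (iv F282355)))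
theorem Q29797 : ∀ i, i < 29797 → P i := stepQ 29796 Q29796 (allL N29796 (tt N28891 F279181) (tt N30153 (iv F281172)) (tt N30109 (iv F280958)) (tt N29857 (iv F279326)) (tt N28892 F279182) (tt N28890 (iv D62566)) (tt N30104 (iv F280923)) (tt N30176 (iv F281277)) (tt N30460 (iv F282349)) (tt N29858 (iv F279339)))
theorem Q29798 : ∀ i, i < 29798 → P i := stepQ 29797 Q29797 (allL N29797 (tt N28893 F279183) (tt N30108 (iv F280948)) (tt N29858 (iv F279334)) (tt N28913 F279184) (tt N30104 (iv F280921)) (tt N29861 (iv F279359)) (tt N28892 (iv D62567)) (tt N30107 (iv F280944)) (tt N30246 (iv F281595)) (tt N30109 (iv F280962)))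
theorem Q29799 : ∀ i, i < 29799 → P i := stepQ 29798 Q29798 (allL N29798 (tt N28895 F279185) (tt N28903 F279186) (tt N30119 (iv F281025)) (tt N30463 D63233) (tt N28894 (iv D62568)) (tt N29962 (iv F280035)) (tt N30099 (iv F280892)) (tt N28977 F279187) (tt N28897 F279188) (tt N29986 (iv F280198)))
theorem Q29800 : ∀ i, i < 29800 → P i := stepQ 29799 Q29799 (allL N29799 (tt N30463 (iv F282356)) (tt N28896 F279189) (tt N30464 D63234) (tt N28895 (iv D62569)) (tt N30403 (iv F282187)) (tt N29963 (iv F280041)) (tt N30100 (iv F280896)) (tt N28978 F279190) (tt N30171 (iv F281246)) (tt N29987 (iv F280201)))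
theorem Q29801 : ∀ i, i < 29801 → P i := stepQ 29800 Q29800 (allL N29800 (tt N28901 F279191) (tt N29986 (iv F280194)) (tt N30206 (iv F281392)) (tt N30465 D63235) (tt N28900 (iv D62570)) (tt N30014 (iv F280332)) (tt N30154 (iv F281180)) (tt N29958 (iv F280008)) (tt N28912 F279192) (tt N28903 F279193))
theorem Q29802 : ∀ i, i < 29802 → P i := stepQ 29801 Q29801 (allL N29801 (tt N30465 (iv F282361)) (tt N28902 F279194) (tt N30466 D63236) (tt N28901 (iv D62571)) (tt N30437 (iv F282286)) (tt N30015 (iv F280337)) (tt N30155 (iv F281184)) (tt N29959 (iv F280015)) (tt N30419 (iv F282246)) (tt N28904 F279195))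
theorem Q29803 : ∀ i, i < 29803 → P i := stepQ 29802 Q29802 (allL N29802 (tt N28904 F279196) (tt N30463 (iv F282357)) (tt N30467 D63237) (tt N28903 (iv D62572)) (tt N30438 (iv F282290)) (tt N30045 (iv F280520)) (tt N30158 (iv F281193)) (tt N30391 (iv F282142)) (tt N30453 (iv F282328)) (tt N30465 (iv F282362)))
theorem Q29804 : ∀ i, i < 29804 → P i := stepQ 29803 Q29803 (allL N29803 (tt N30467 (iv F282365)) (tt N29803 F279197) (tt N28904 (iv D62573)) (tt N30209 (iv F281409)) (tt N30439 (iv F282293)) (tt N30046 (iv F280524)) (tt N30160 (iv F281197)) (tt N30392 (iv F282148)) (tt N30455 (iv F282332)) (tt N30466 (iv F282364)))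
theorem Q29805 : ∀ i, i < 29805 → P i := stepQ 29804 Q29804 (allL N29804 (tt N28915 F279198) (tt N28922 F279199) (tt N30095 (iv F280867)) (tt N30331 (iv F281933)) (tt N28914 (iv D62574)) (tt N28937 F279200) (tt N30070 (iv F280693)) (tt N30081 (iv F280774)) (tt N30078 (iv F280751)) (tt N29956 (iv F279995)))
theorem Q29806 : ∀ i, i < 29806 → P i := stepQ 29805 Q29805 (allL N29805 (tt N28917 F279201) (tt N30206 (iv F281391)) (tt N30213 (iv F281435)) (tt N30468 D63238) (tt N28916 (iv D62575)) (tt N30227 (iv F281502)) (tt N30456 (iv F282334)) (tt N29956 (iv F279993)) (tt N29955 (iv F279986)) (tt N30081 (iv F280776)))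
theorem Q29807 : ∀ i, i < 29807 → P i := stepQ 29806 Q29806 (allL N29806 (tt N30468 (iv F282366)) (tt N28918 F279202) (tt N30469 D63239) (tt N28917 (iv D62576)) (tt N28923 F279203) (tt N30228 (iv F281508)) (tt N30457 (iv F282338)) (tt N29957 (iv F280000)) (tt N30237 (iv F281552)) (tt N28981 F279204))
theorem Q29808 : ∀ i, i < 29808 → P i := stepQ 29807 Q29807 (allL N29807 (tt N28920 F279205) (tt N30070 (iv F280690)) (tt N28937 F279206) (tt N30470 D63240) (tt N28919 (iv D62577)) (tt N30095 (iv F280868)) (tt N28922 F279207) (tt N30073 (iv F280713)) (tt N30059 (iv F280620)) (tt N28934 F279208))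
theorem Q29809 : ∀ i, i < 29809 → P i := stepQ 29808 Q29808 (allL N29808 (tt N30470 (iv F282372)) (tt N28921 F279209) (tt N30471 D63241) (tt N28920 (iv D62578)) (tt N30457 (iv F282337)) (tt N30096 (iv F280873)) (tt N28923 F279210) (tt N30074 (iv F280718)) (tt N30149 (iv F281151)) (tt N28935 F279211))
theorem Q29810 : ∀ i, i < 29810 → P i := stepQ 29809 Q29809 (allL N29809 (tt N28923 F279212) (tt N30331 (iv F281932)) (tt N30472 D63242) (tt N28922 (iv D62579)) (tt N30468 (iv F282367)) (tt N28979 F279213) (tt N30470 (iv F282373)) (tt N30208 (iv F281406)) (tt N30238 (iv F281558)) (tt N30211 (iv F281426)))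
theorem Q29811 : ∀ i, i < 29811 → P i := stepQ 29810 Q29810 (allL N29810 (tt N30472 (iv F282379)) (tt N29810 F279214) (tt N28923 (iv D62580)) (tt N30392 (iv F282144)) (tt N30469 (iv F282370)) (tt N28980 F279215) (tt N30471 (iv F282377)) (tt N30209 (iv F281411)) (tt N30239 (iv F281562)) (tt N30212 (iv F281432)))
theorem Q29812 : ∀ i, i < 29812 → P i := stepQ 29811 Q29811 (allL N29811 (tt N28925 F279216) (tt N30034 (iv F280449)) (tt N28929 F279217) (tt N30017 (iv F280347)) (tt N28924 (iv D62581)) (tt N29955 (iv F279984)) (tt N30169 (iv F281235)) (tt N28933 F279218) (tt N30227 (iv F281504)) (tt N29965 (iv F280059)))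
theorem Q29813 : ∀ i, i < 29813 → P i := stepQ 29812 Q29812 (allL N29812 (tt N28927 F279219) (tt N30201 (iv F281369)) (tt N30227 (iv F281501)) (tt N30473 D63243) (tt N28926 (iv D62582)) (tt N30213 (iv F281436)) (tt N30450 (iv F282318)) (tt N28934 F279220) (tt N28929 F279221) (tt N30073 (iv F280715)))
theorem Q29814 : ∀ i, i < 29814 → P i := stepQ 29813 Q29813 (allL N29813 (tt N30473 (iv F282381)) (tt N28928 F279222) (tt N30474 D63244) (tt N28927 (iv D62583)) (tt N30171 (iv F281244)) (tt N30214 (iv F281441)) (tt N30451 (iv F282322)) (tt N28935 F279223) (tt N30403 (iv F282189)) (tt N30074 (iv F280720)))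
theorem Q29815 : ∀ i, i < 29815 → P i := stepQ 29814 Q29814 (allL N29814 (tt N28931 F279224) (tt N28951 F279225) (tt N28934 F279226) (tt N30475 D63245) (tt N28930 (iv D62584)) (tt N29956 (iv F279991)) (tt N29958 (iv F280007)) (tt N30227 (iv F281503)) (tt N28933 F279227) (tt N28937 F279228))
theorem Q29816 : ∀ i, i < 29816 → P i := stepQ 29815 Q29815 (allL N29815 (tt N30475 (iv F282385)) (tt N28932 F279229) (tt N30476 D63246) (tt N28931 (iv D62585)) (tt N30303 (iv F281807)) (tt N29957 (iv F279998)) (tt N29959 (iv F280014)) (tt N30228 (iv F281509)) (tt N30026 (iv F280408)) (tt N28938 F279230))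
theorem Q29817 : ∀ i, i < 29817 → P i := stepQ 29816 Q29816 (allL N29816 (tt N28935 F279231) (tt N30204 (iv F281384)) (tt N30477 D63247) (tt N28934 (iv D62586)) (tt N30459 (iv F282344)) (tt N30224 (iv F281493)) (tt N30211 (iv F281424)) (tt N30473 (iv F282382)) (tt N30409 (iv F282212)) (tt N30470 (iv F282374)))
theorem Q29818 : ∀ i, i < 29818 → P i := stepQ 29817 Q29817 (allL N29817 (tt N30477 (iv F282391)) (tt N29817 F279232) (tt N28935 (iv D62587)) (tt N30476 (iv F282389)) (tt N30461 (iv F282351)) (tt N30225 (iv F281495)) (tt N30212 (iv F281430)) (tt N30474 (iv F282384)) (tt N30410 (iv F282216)) (tt N30471 (iv F282378)))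
theorem Q29819 : ∀ i, i < 29819 → P i := stepQ 29818 Q29818 (allL N29818 (tt N28938 F279233) (tt N28979 F279234) (tt N30478 D63248) (tt N28937 (iv D62588)) (tt N30445 (iv F282307)) (tt N30331 (iv F281934)) (tt N30391 (iv F282141)) (tt N30238 (iv F281557)) (tt N30208 (iv F281407)) (tt N30475 (iv F282387)))
theorem Q29820 : ∀ i, i < 29820 → P i := stepQ 29819 Q29819 (allL N29819 (tt N30478 (iv F282392)) (tt N29819 F279235) (tt N28938 (iv D62589)) (tt N30471 (iv F282376)) (tt N30446 (iv F282310)) (tt N30332 (iv F281938)) (tt N30392 (iv F282147)) (tt N30239 (iv F281561)) (tt N30209 (iv F281412)) (tt N30476 (iv F282390)))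
theorem Q29821 : ∀ i, i < 29821 → P i := stepQ 29820 Q29820 (allL N29820 (tt N28940 F279236) (tt N28943 F279237) (tt N28995 F279238) (tt N30401 (iv F282180)) (tt N28939 (iv D62590)) (tt N30353 (iv F282015)) (tt N30264 (iv F281661)) (tt N28987 F279239) (tt N30395 (iv F282159)) (tt N30277 (iv F281722)))
theorem Q29822 : ∀ i, i < 29822 → P i := stepQ 29821 Q29821 (allL N29821 (tt N28942 F279240) (tt N30395 (iv F282155)) (tt N28947 F279241) (tt N30350 (iv F282005)) (tt N28941 (iv D62591)) (tt N30354 (iv F282019)) (tt N30054 (iv F280578)) (tt N30056 (iv F280597)) (tt N28943 F279242) (tt N30339 (iv F281964)))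
theorem Q29823 : ∀ i, i < 29823 → P i := stepQ 29822 Q29822 (allL N29822 (tt N28944 F279243) (tt N30401 (iv F282178)) (tt N29926 (iv F279788)) (tt N28943 (iv D62592)) (tt N30411 (iv F282218)) (tt N30054 (iv F280577)) (tt N30272 (iv F281697)) (tt N29948 F279939) (tt N30273 (iv F281700)) (tt N30382 (iv F282106)))
theorem Q29824 : ∀ i, i < 29824 → P i := stepQ 29823 Q29823 (allL N29823 (tt N28946 F279244) (tt N30189 (iv F281315)) (tt N30339 (iv F281961)) (tt N30021 (iv F280373)) (tt N28945 (iv D62593)) (tt N30355 (iv F282022)) (tt N30023 (iv F280385)) (tt N30210 (iv F281419)) (tt N30436 (iv F282283)) (tt N28947 F279245))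
theorem Q29825 : ∀ i, i < 29825 → P i := stepQ 29824 Q29824 (allL N29824 (tt N28949 F279246) (tt N30326 (iv F281915)) (tt N30018 (iv F280354)) (tt N30479 D63249) (tt N28948 (iv D62594)) (tt N30236 (iv F281544)) (tt N29999 (iv F280258)) (tt N30025 (iv F280400)) (tt N30017 (iv F280350)) (tt N28975 F279247))
theorem Q29826 : ∀ i, i < 29826 → P i := stepQ 29825 Q29825 (allL N29825 (tt N30479 (iv F282393)) (tt N28950 F279248) (tt N30480 D63250) (tt N28949 (iv D62595)) (tt N28952 F279249) (tt N30237 (iv F281550)) (tt N30000 (iv F280262)) (tt N30026 (iv F280407)) (tt N30228 (iv F281510)) (tt N28976 F279250))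
theorem Q29827 : ∀ i, i < 29827 → P i := stepQ 29826 Q29826 (allL N29826 (tt N28952 F279251) (tt N30475 (iv F282386)) (tt N30481 D63251) (tt N28951 (iv D62596)) (tt N30479 (iv F282394)) (tt N30211 (iv F281423)) (tt N30006 (iv F280287)) (tt N30301 (iv F281800)) (tt N30356 (iv F282026)) (tt N28979 F279252))
theorem Q29828 : ∀ i, i < 29828 → P i := stepQ 29827 Q29827 (allL N29827 (tt N30481 (iv F282399)) (tt N29827 F279253) (tt N28952 (iv D62597)) (tt N30292 (iv F281768)) (tt N30480 (iv F282397)) (tt N30212 (iv F281429)) (tt N30007 (iv F280291)) (tt N30302 (iv F281803)) (tt N30357 (iv F282030)) (tt N28980 F279254))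
theorem Q29829 : ∀ i, i < 29829 → P i := stepQ 29828 Q29828 (allL N29828 (tt N28954 F279255) (tt N30169 (iv F281233)) (tt N30304 (iv F281813)) (tt N30210 (iv F281415)) (tt N28953 (iv D62598)) (tt N30200 (iv F281367)) (tt N30034 (iv F280453)) (tt N30021 (iv F280375)) (tt N30299 (iv F281792)) (tt N30052 (iv F280565)))
theorem Q29830 : ∀ i, i < 29830 → P i := stepQ 29829 Q29829 (allL N29829 (tt N28956 F279256) (tt N30030 (iv F280428)) (tt N28970 F279257) (tt N30482 D63252) (tt N28955 (iv D62599)) (tt N29960 (iv F280021)) (tt N30255 (iv F281629)) (tt N30247 (iv F281600)) (tt N28958 F279258) (tt N30240 (iv F281569)))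
theorem Q29831 : ∀ i, i < 29831 → P i := stepQ 29830 Q29830 (allL N29830 (tt N30482 (iv F282401)) (tt N28957 F279259) (tt N30483 D63253) (tt N28956 (iv D62600)) (tt N30258 (iv F281640)) (tt N29961 (iv F280028)) (tt N30256 (iv F281634)) (tt N30248 (iv F281605)) (tt N30484 D63254) (tt N30241 (iv F281573)))
theorem Q29832 : ∀ i, i < 29832 → P i := stepQ 29831 Q29831 (allL N29831 (tt N29911 (iv F279688)) (tt N30484 (iv F282404)) (tt N29831 F279260) (tt N28960 F279261) (tt N30259 (iv F281644)) (tt N28966 F279262) (tt N29937 (iv F279863)) (tt N30249 (iv F281611)) (tt N28957 (iv D62601)) (tt N30485 D63255))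
theorem Q29833 : ∀ i, i < 29833 → P i := stepQ 29832 Q29832 (allL N29832 (tt N28959 F279263) (tt N29912 (iv F279695)) (tt N29944 (iv F279907)) (tt N28958 (iv D62602)) (tt N29948 (iv F279936)) (tt N28974 F279264) (tt N29945 (iv F279917)) (tt N30411 (iv F282220)) (tt N30486 D63256) (tt N28988 F279265))
theorem Q29834 : ∀ i, i < 29834 → P i := stepQ 29833 Q29833 (allL N29833 (tt N30486 (iv F282410)) (tt N28960 F279266) (tt N29946 (iv F279920)) (tt N30484 (iv F282405)) (tt N29943 (iv F279901)) (tt N28965 F279267) (tt N29936 (iv F279856)) (tt N30271 (iv F281694)) (tt N28959 (iv D62603)) (tt N30487 D63257))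
theorem Q29835 : ∀ i, i < 29835 → P i := stepQ 29834 Q29834 (allL N29834 (tt N29907 (iv F279668)) (tt N30487 (iv F282412)) (tt N28963 F279268) (tt N30485 (iv F282408)) (tt N29941 (iv F279887)) (tt N28962 F279269) (tt N29933 (iv F279839)) (tt N29876 (iv F279467)) (tt N28990 F279270) (tt N28960 (iv D62604)))
theorem Q29836 : ∀ i, i < 29836 → P i := stepQ 29835 Q29835 (allL N29835 (tt N28961 (iv D62605)) (tt N29904 (iv F279647)) (tt N30116 (iv F281005)) (tt N29889 (iv F279545)) (tt N30488 D63258) (tt N29989 (iv F280212)) (tt N28967 F279271) (tt N29873 (iv F279448)) (tt N28991 F279272) (tt N28964 F279273))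
theorem Q29837 : ∀ i, i < 29837 → P i := stepQ 29836 Q29836 (allL N29836 (tt N30488 (iv F282415)) (tt N28962 F279274) (tt N30117 (iv F281013)) (tt N30489 D63259) (tt N28961 (iv D62606)) (tt N30487 (iv F282413)) (tt N28968 F279275) (tt N29874 (iv F279454)) (tt N28992 F279276) (tt N28965 F279277))
theorem Q29838 : ∀ i, i < 29838 → P i := stepQ 29837 Q29837 (allL N29837 (tt N29906 (iv F279661)) (tt N30489 (iv F282419)) (tt N29837 F279278) (tt N28962 (iv D62607)) (tt N29891 (iv F279559)) (tt N30485 (iv F282409)) (tt N28969 F279279) (tt N29875 (iv F279461)) (tt N29971 (iv F280099)) (tt N28966 F279280))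
theorem Q29839 : ∀ i, i < 29839 → P i := stepQ 29838 Q29838 (allL N29838 (tt N28965 F279281) (tt N29908 (iv F279676)) (tt N30255 (iv F281628)) (tt N30490 D63260) (tt N28964 (iv D62608)) (tt N30486 (iv F282411)) (tt N28970 F279282) (tt N30269 (iv F281686)) (tt N28974 F279283) (tt N30488 (iv F282418)))
theorem Q29840 : ∀ i, i < 29840 → P i := stepQ 29839 Q29839 (allL N29839 (tt N30490 (iv F282422)) (tt N28966 F279284) (tt N30491 D63261) (tt N28965 (iv D62609)) (tt N30415 (iv F282232)) (tt N30484 (iv F282406)) (tt N28971 F279285) (tt N30270 (iv F281689)) (tt N29961 (iv F280031)) (tt N30489 (iv F282421)))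
theorem Q29841 : ∀ i, i < 29841 → P i := stepQ 29840 Q29840 (allL N29840 (tt N28968 F279286) (tt N30018 (iv F280353)) (tt N30240 (iv F281565)) (tt N30492 D63262) (tt N28967 (iv D62610)) (tt N30247 (iv F281599)) (tt N30488 (iv F282416)) (tt N29960 (iv F280023)) (tt N28994 F279287) (tt N28970 F279288))
theorem Q29842 : ∀ i, i < 29842 → P i := stepQ 29841 Q29841 (allL N29841 (tt N30492 (iv F282426)) (tt N28969 F279289) (tt N30493 D63263) (tt N28968 (iv D62611)) (tt N30421 (iv F282252)) (tt N30248 (iv F281604)) (tt N30489 (iv F282420)) (tt N29961 (iv F280030)) (tt N30270 (iv F281690)) (tt N28971 F279290))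
theorem Q29843 : ∀ i, i < 29843 → P i := stepQ 29842 Q29842 (allL N29842 (tt N28971 F279291) (tt N30375 (iv F282077)) (tt N30494 D63264) (tt N28970 (iv D62612)) (tt N30422 (iv F282256)) (tt N30250 (iv F281614)) (tt N30490 (iv F282423)) (tt N30412 (iv F282224)) (tt N30393 (iv F282151)) (tt N30492 (iv F282427)))
theorem Q29844 : ∀ i, i < 29844 → P i := stepQ 29843 Q29843 (allL N29843 (tt N30494 (iv F282430)) (tt N29843 F279292) (tt N28971 (iv D62613)) (tt N30483 (iv F282403)) (tt N30423 (iv F282259)) (tt N30251 (iv F281616)) (tt N30491 (iv F282425)) (tt N30413 (iv F282227)) (tt N30394 (iv F282153)) (tt N30493 (iv F282429)))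
theorem Q29845 : ∀ i, i < 29845 → P i := stepQ 29844 Q29844 (allL N29844 (tt N28973 F279293) (tt N29894 (iv F279581)) (tt N30277 (iv F281719)) (tt N28994 F279294) (tt N28972 (iv D62614)) (tt N30411 (iv F282219)) (tt N29979 (iv F280153)) (tt N28974 F279295) (tt N30269 (iv F281687)) (tt N28995 F279296))
theorem Q29846 : ∀ i, i < 29846 → P i := stepQ 29845 Q29845 (allL N29845 (tt N28976 F279297) (tt N30445 (iv F282306)) (tt N30495 D63265) (tt N28975 (iv D62615)) (tt N28979 F279298) (tt N30356 (iv F282025)) (tt N30409 (iv F282211)) (tt N30325 (iv F281913)) (tt N30211 (iv F281425)) (tt N30479 (iv F282395)))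
theorem Q29847 : ∀ i, i < 29847 → P i := stepQ 29846 Q29846 (allL N29846 (tt N30495 (iv F282431)) (tt N29846 F279299) (tt N28976 (iv D62616)) (tt N30377 (iv F282085)) (tt N28980 F279300) (tt N30357 (iv F282029)) (tt N30410 (iv F282215)) (tt N30327 (iv F281924)) (tt N30212 (iv F281431)) (tt N30480 (iv F282398)))
theorem Q29848 : ∀ i, i < 29848 → P i := stepQ 29847 Q29847 (allL N29847 (tt N28978 F279301) (tt N30391 (iv F282138)) (tt N30496 D63266) (tt N28977 (iv D62617)) (tt N30409 (iv F282210)) (tt N30397 (iv F282167)) (tt N28979 F279302) (tt N30463 (iv F282358)) (tt N30459 (iv F282346)) (tt N30006 (iv F280288)))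
theorem Q29849 : ∀ i, i < 29849 → P i := stepQ 29848 Q29848 (allL N29848 (tt N30496 (iv F282433)) (tt N29848 F279303) (tt N28978 (iv D62618)) (tt N30143 (iv F281116)) (tt N30410 (iv F282214)) (tt N30398 (iv F282169)) (tt N28980 F279304) (tt N30464 (iv F282360)) (tt N30461 (iv F282353)) (tt N30007 (iv F280292)))
theorem Q29850 : ∀ i, i < 29850 → P i := stepQ 29849 Q29849 (allL N29849 (tt N28980 F279305) (tt N30497 D63267) (tt N28979 (iv D62619)) (tt N30432 (iv F282276)) (tt N30495 (iv F282432)) (tt N30472 (iv F282380)) (tt N30496 (iv F282434)) (tt N30330 (iv F281930)) (tt N30498 D63268) (tt N30481 (iv F282400)))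
theorem Q29851 : ∀ i, i < 29851 → P i := stepQ 29850 Q29850 (allL N29850 (tt N28981 F279306) (tt N30208 (iv F281404)) (tt N30498 (iv F282437)) (tt N30081 F280777) (tt N30211 (iv F281422)) (tt N30238 (iv F281556)) (tt N30459 (iv F282345)) (tt N30331 (iv F281935)) (tt N28979 (iv D62620)) (tt N30468 (iv F282368)))
theorem Q29852 : ∀ i, i < 29852 → P i := stepQ 29851 Q29851 (allL N29851 (tt N30498 (iv F282436)) (tt N29851 F279307) (tt N28981 F279308) (tt N30499 D63269) (tt N30212 (iv F281428)) (tt N30239 (iv F281560)) (tt N30461 (iv F282352)) (tt N30332 (iv F281939)) (tt N28980 (iv D62621)) (tt N30469 (iv F282371)))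
theorem Q29853 : ∀ i, i < 29853 → P i := stepQ 29852 Q29852 (allL N29852 (tt N28983 F279309) (tt N29921 (iv F279756)) (tt N30353 (iv F282013)) (tt N28982 (iv D62622)) (tt N30382 (iv F282104)) (tt N28995 F279310) (tt N30407 (iv F282203)) (tt N28988 F279311) (tt N30396 (iv F282164)) (tt N30411 (iv F282221)))
theorem Q29854 : ∀ i, i < 29854 → P i := stepQ 29853 Q29853 (allL N29853 (tt N28985 F279312) (tt N30056 (iv F280592)) (tt N28993 F279313) (tt N30406 (iv F282201)) (tt N28986 F279314) (tt N30385 (iv F282118)) (tt N28984 (iv D62623)) (tt N30395 (iv F282158)) (tt N28987 F279315) (tt N30242 (iv F281578)))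
theorem Q29855 : ∀ i, i < 29855 → P i := stepQ 29854 Q29854 (allL N29854 (tt N28989 F279316) (tt N29942 (iv F279893)) (tt N30385 (iv F282117)) (tt N30404 (iv F282192)) (tt N30367 (iv F282059)) (tt N28993 F279317) (tt N30408 (iv F282206)) (tt N30396 (iv F282163)) (tt N28988 (iv D62624)) (tt N30500 D63270))
theorem Q29856 : ∀ i, i < 29856 → P i := stepQ 29855 Q29855 (allL N29855 (tt N30500 (iv F282439)) (tt N28990 F279318) (tt N30005 (iv F280283)) (tt N29980 (iv F280157)) (tt N30363 (iv F282049)) (tt N28992 F279319) (tt N29993 (iv F280233)) (tt N29884 (iv F279520)) (tt N30487 (iv F282414)) (tt N28989 (iv D62625)))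
theorem Q29857 : ∀ i, i < 29857 → P i := stepQ 29856 Q29856 (allL N29856 (tt N28992 F279320) (tt N29939 (iv F279874)) (tt N30242 (iv F281576)) (tt N29979 (iv F280152)) (tt N28991 (iv D62626)) (tt N30500 (iv F282440)) (tt N28994 F279321) (tt N29883 (iv F279516)) (tt N30488 (iv F282417)) (tt N28993 F279322))
theorem Q29858 : ∀ i, i < 29858 → P i := stepQ 29857 Q29857 (allL N29857 (tt N28997 F279323) (tt N29384 F279324) (tt N29276 F279325) (tt N29796 F279326) (tt N28996 (iv D62627)) (tt N29004 F279327) (tt N29312 F279328) (tt N29431 F279329) (tt N29699 F279330) (tt N29000 F279331))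
theorem Q29859 : ∀ i, i < 29859 → P i := stepQ 29858 Q29858 (allL N29858 (tt N29001 F279332) (tt N29410 F279333) (tt N29797 F279334) (tt N29000 (iv D62628)) (tt N29785 F279335) (tt N29007 F279336) (tt N29325 F279337) (tt N29777 F279338) (tt N30501 D63271) (tt N29796 F279339))
theorem Q29860 : ∀ i, i < 29860 → P i := stepQ 29859 Q29859 (allL N29859 (tt N30501 (iv F282441)) (tt N29002 F279340) (tt N29502 F279341) (tt N29102 F279342) (tt N29784 F279343) (tt N29009 F279344) (tt N29326 F279345) (tt N29445 F279346) (tt N29001 (iv D62629)) (tt N30502 D63272))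
theorem Q29861 : ∀ i, i < 29861 → P i := stepQ 29860 Q29860 (allL N29860 (tt N29405 F279347) (tt N30502 (iv F282449)) (tt N29003 F279348) (tt N29103 F279349) (tt N29781 F279350) (tt N29010 F279351) (tt N29327 F279352) (tt N29262 F279353) (tt N29789 F279354) (tt N29002 (iv D62630)))
theorem Q29862 : ∀ i, i < 29862 → P i := stepQ 29861 Q29861 (allL N29861 (tt N29008 F279355) (tt N29317 F279356) (tt N29007 (iv D62631)) (tt N29436 F279357) (tt N29316 F279358) (tt N29797 F279359) (tt N29280 F279360) (tt N29382 F279361) (tt N29500 (iv F279363)) (tt N29397 F279362))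
theorem Q29863 : ∀ i, i < 29863 → P i := stepQ 29862 Q29862 (allL N29862 (tt N29009 F279364) (tt N29406 F279365) (tt N29500 F279366) (tt N29243 F279367) (tt N29398 F279368) (tt N30501 (iv F282446)) (tt N29454 F279369) (tt N29444 F279370) (tt N29007 (iv D62632)) (tt N30503 D63273))
theorem Q29864 : ∀ i, i < 29864 → P i := stepQ 29863 Q29863 (allL N29863 (tt N30503 (iv F282457)) (tt N29010 F279371) (tt N29478 F279372) (tt N29244 F279373) (tt N29106 F279374) (tt N30502 (iv F282453)) (tt N29111 F279375) (tt N29261 F279376) (tt N29787 F279377) (tt N29009 (iv D62633)))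
theorem Q29865 : ∀ i, i < 29865 → P i := stepQ 29864 Q29864 (allL N29864 (tt N29011 (iv D62634)) (tt N29174 F279378) (tt N29441 F279379) (tt N29647 F279380) (tt N30504 D63274) (tt N29013 F279381) (tt N29411 F279382) (tt N29030 F279383) (tt N29044 F279384) (tt N29125 F279385))
theorem Q29866 : ∀ i, i < 29866 → P i := stepQ 29865 Q29865 (allL N29865 (tt N30504 (iv F282465)) (tt N29012 F279386) (tt N29442 F279387) (tt N30505 D63275) (tt N29011 (iv D62635)) (tt N29148 F279388) (tt N29412 F279389) (tt N29031 F279390) (tt N29045 F279391) (tt N29126 F279392))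
theorem Q29867 : ∀ i, i < 29867 → P i := stepQ 29866 Q29866 (allL N29866 (tt N29176 F279393) (tt N30505 (iv F282473)) (tt N29866 F279394) (tt N29012 (iv D62636)) (tt N29649 F279395) (tt N29149 F279396) (tt N29413 F279397) (tt N29032 F279398) (tt N30506 D63276) (tt N29127 F279399))
theorem Q29868 : ∀ i, i < 29868 → P i := stepQ 29867 Q29867 (allL N29867 (tt N29014 (iv D62637)) (tt N29618 F279400) (tt N29026 F279401) (tt N29070 F279402) (tt N30507 D63277) (tt N29344 F279403) (tt N29062 F279404) (tt N29495 F279405) (tt N29349 F279406) (tt N29695 F279407))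
theorem Q29869 : ∀ i, i < 29869 → P i := stepQ 29868 Q29868 (allL N29868 (tt N30507 (iv F282487)) (tt N29015 F279408) (tt N29027 F279409) (tt N30508 D63278) (tt N29014 (iv D62638)) (tt N30509 D63279) (tt N29063 F279410) (tt N29496 F279411) (tt N29350 F279412) (tt N29696 F279413))
theorem Q29870 : ∀ i, i < 29870 → P i := stepQ 29869 Q29869 (allL N29869 (tt N29594 F279414) (tt N30508 (iv F282494)) (tt N29017 F279415) (tt N29015 (iv D62639)) (tt N29072 F279416) (tt N30510 D63280) (tt N29064 F279417) (tt N29497 F279418) (tt N29555 (iv F279420)) (tt N29682 F279419))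
theorem Q29871 : ∀ i, i < 29871 → P i := stepQ 29870 Q29870 (allL N29870 (tt N29620 F279421) (tt N30509 (iv F282501)) (tt N29016 F279422) (tt N30510 (iv F282509)) (tt N29347 F279423) (tt N29015 (iv D62640)) (tt N30511 D63281) (tt N29167 F279424) (tt N29352 F279425) (tt N29684 F279426))
theorem Q29872 : ∀ i, i < 29872 → P i := stepQ 29871 Q29871 (allL N29871 (tt N29341 F279427) (tt N29029 F279428) (tt N30511 (iv F282516)) (tt N29019 F279429) (tt N29348 F279430) (tt N29066 F279431) (tt N29016 (iv D62641)) (tt N29143 F279432) (tt N29353 F279433) (tt N29530 F279434))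
theorem Q29873 : ∀ i, i < 29873 → P i := stepQ 29872 Q29872 (allL N29872 (tt N29340 F279435) (tt N29143 F279436) (tt N30510 (iv F282508)) (tt N29018 F279437) (tt N29680 F279438) (tt N29017 (iv D62642)) (tt N29133 F279439) (tt N29029 F279440) (tt N29549 F279441) (tt N29529 F279442))
theorem Q29874 : ∀ i, i < 29874 → P i := stepQ 29873 Q29873 (allL N29873 (tt N29020 (iv D62643)) (tt N29724 F279443) (tt N29349 F279444) (tt N29050 F279445) (tt N30512 D63282) (tt N29336 F279446) (tt N29666 F279447) (tt N29835 F279448) (tt N29026 F279449) (tt N29532 F279450))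
theorem Q29875 : ∀ i, i < 29875 → P i := stepQ 29874 Q29874 (allL N29874 (tt N30512 (iv F282523)) (tt N29021 F279451) (tt N29350 F279452) (tt N30513 D63283) (tt N29020 (iv D62644)) (tt N30514 D63284) (tt N29667 F279453) (tt N29836 F279454) (tt N29027 F279455) (tt N29533 F279456))
theorem Q29876 : ∀ i, i < 29876 → P i := stepQ 29875 Q29875 (allL N29875 (tt N29726 F279457) (tt N30513 (iv F282530)) (tt N29875 F279458) (tt N29021 (iv D62645)) (tt N29052 F279459) (tt N30515 D63285) (tt N29663 F279460) (tt N29837 F279461) (tt N29159 F279462) (tt N29534 F279463))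
theorem Q29877 : ∀ i, i < 29877 → P i := stepQ 29876 Q29876 (allL N29876 (tt N29727 F279464) (tt N30514 (iv F282536)) (tt N29022 F279465) (tt N30515 (iv F282544)) (tt N29339 F279466) (tt N29021 (iv D62646)) (tt N30516 D63286) (tt N29834 F279467) (tt N29028 F279468) (tt N29535 F279469))
theorem Q29878 : ∀ i, i < 29878 → P i := stepQ 29877 Q29877 (allL N29877 (tt N29680 F279470) (tt N29353 F279471) (tt N30516 (iv F282549)) (tt N29877 F279472) (tt N29340 F279473) (tt N29439 F279474) (tt N29022 (iv D62647)) (tt N29549 F279475) (tt N29029 F279476) (tt N29156 F279477))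
theorem Q29879 : ∀ i, i < 29879 → P i := stepQ 29878 Q29878 (allL N29878 (tt N29023 (iv D62648)) (tt N29545 F279478) (tt N29344 F279479) (tt N29030 F279480) (tt N30517 D63287) (tt N29026 F279481) (tt N29463 F279482) (tt N29647 F279483) (tt N29336 F279484) (tt N29643 F279485))
theorem Q29880 : ∀ i, i < 29880 → P i := stepQ 29879 Q29879 (allL N29879 (tt N30517 (iv F282555)) (tt N29024 F279486) (tt N29345 F279487) (tt N30518 D63288) (tt N29023 (iv D62649)) (tt N30519 D63289) (tt N29464 F279488) (tt N29648 F279489) (tt N29337 F279490) (tt N29644 F279491))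
theorem Q29881 : ∀ i, i < 29881 → P i := stepQ 29880 Q29880 (allL N29880 (tt N29547 F279492) (tt N30518 (iv F282562)) (tt N29880 F279493) (tt N29024 (iv D62650)) (tt N29032 F279494) (tt N30520 D63290) (tt N29465 F279495) (tt N29649 F279496) (tt N30521 D63291) (tt N29645 F279497))
theorem Q29882 : ∀ i, i < 29882 → P i := stepQ 29881 Q29881 (allL N29881 (tt N29548 F279498) (tt N30519 (iv F282567)) (tt N29025 F279499) (tt N30520 (iv F282575)) (tt N29028 F279500) (tt N29024 (iv D62651)) (tt N30522 D63292) (tt N29650 F279501) (tt N29339 F279502) (tt N29646 F279503))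
theorem Q29883 : ∀ i, i < 29883 → P i := stepQ 29882 Q29882 (allL N29882 (tt N29549 F279504) (tt N29348 F279505) (tt N30522 (iv F282586)) (tt N29882 F279506) (tt N29029 F279507) (tt N29467 F279508) (tt N29025 (iv D62652)) (tt N29680 F279509) (tt N29340 F279510) (tt N29342 F279511))
theorem Q29884 : ∀ i, i < 29884 → P i := stepQ 29883 Q29883 (allL N29883 (tt N29027 F279512) (tt N29728 F279513) (tt N30507 (iv F282489)) (tt N29165 F279514) (tt N29026 (iv D62653)) (tt N30523 D63293) (tt N29692 F279515) (tt N29856 F279516) (tt N30512 (iv F282528)) (tt N29697 F279517))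
theorem Q29885 : ∀ i, i < 29885 → P i := stepQ 29884 Q29884 (allL N29884 (tt N30523 (iv F282592)) (tt N29028 F279518) (tt N30509 (iv F282502)) (tt N29166 F279519) (tt N30519 (iv F282569)) (tt N29027 (iv D62654)) (tt N30524 D63294) (tt N29855 F279520) (tt N30514 (iv F282540)) (tt N29698 F279521))
theorem Q29886 : ∀ i, i < 29886 → P i := stepQ 29885 Q29885 (allL N29885 (tt N29624 F279522) (tt N30524 (iv F282597)) (tt N29029 F279523) (tt N29167 F279524) (tt N30522 (iv F282587)) (tt N29497 F279525) (tt N29028 (iv D62655)) (tt N30510 (iv F282512)) (tt N30516 (iv F282553)) (tt N29686 F279526))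
theorem Q29887 : ∀ i, i < 29887 → P i := stepQ 29886 Q29886 (allL N29886 (tt N29031 F279527) (tt N29558 F279528) (tt N29446 F279529) (tt N30525 D63295) (tt N29030 (iv D62656)) (tt N29168 F279530) (tt N29471 F279531) (tt N30504 (iv F282470)) (tt N29056 F279532) (tt N29699 F279533))
theorem Q29888 : ∀ i, i < 29888 → P i := stepQ 29887 Q29887 (allL N29887 (tt N30525 (iv F282601)) (tt N29032 F279534) (tt N30526 D63296) (tt N29031 (iv D62657)) (tt N30518 (iv F282563)) (tt N29169 F279535) (tt N29472 F279536) (tt N30505 (iv F282477)) (tt N30527 D63297) (tt N29700 F279537))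
theorem Q29889 : ∀ i, i < 29889 → P i := stepQ 29888 Q29888 (allL N29888 (tt N29560 F279538) (tt N30527 (iv F282611)) (tt N29888 F279539) (tt N29058 F279540) (tt N30521 (iv F282582)) (tt N29170 F279541) (tt N29473 F279542) (tt N30506 (iv F282485)) (tt N29032 (iv D62658)) (tt N30528 D63298))
theorem Q29890 : ∀ i, i < 29890 → P i := stepQ 29889 Q29889 (allL N29889 (tt N29034 (iv D62659)) (tt N29532 F279543) (tt N29704 F279544) (tt N29835 F279545) (tt N30529 D63299) (tt N29525 F279546) (tt N29734 F279547) (tt N29050 F279548) (tt N29037 F279549) (tt N29724 F279550))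
theorem Q29891 : ∀ i, i < 29891 → P i := stepQ 29890 Q29890 (allL N29890 (tt N30529 (iv F282622)) (tt N29035 F279551) (tt N29705 F279552) (tt N30530 D63300) (tt N29034 (iv D62660)) (tt N30531 D63301) (tt N29735 F279553) (tt N29051 F279554) (tt N29038 F279555) (tt N29725 F279556))
theorem Q29892 : ∀ i, i < 29892 → P i := stepQ 29891 Q29891 (allL N29891 (tt N29534 F279557) (tt N30530 (iv F282629)) (tt N29891 F279558) (tt N29035 (iv D62661)) (tt N29837 F279559) (tt N29657 (iv F279564)) (tt N29736 F279560) (tt N29052 F279561) (tt N29181 F279562) (tt N29726 F279563))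
theorem Q29893 : ∀ i, i < 29893 → P i := stepQ 29892 Q29892 (allL N29892 (tt N29535 F279565) (tt N30531 (iv F282636)) (tt N29036 F279566) (tt N29657 F279567) (tt N29528 F279568) (tt N29035 (iv D62662)) (tt N30532 D63302) (tt N29053 F279569) (tt N29039 F279570) (tt N29727 F279571))
theorem Q29894 : ∀ i, i < 29894 → P i := stepQ 29893 Q29893 (allL N29893 (tt N29156 F279572) (tt N29486 F279573) (tt N30532 (iv F282644)) (tt N29893 F279574) (tt N29529 F279575) (tt N29681 F279576) (tt N29036 (iv D62663)) (tt N29342 F279577) (tt N29040 F279578) (tt N29680 F279579))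
theorem Q29895 : ∀ i, i < 29895 → P i := stepQ 29894 Q29894 (allL N29894 (tt N29038 F279580) (tt N29844 F279581) (tt N29710 F279582) (tt N29182 F279583) (tt N29037 (iv D62664)) (tt N30533 D63303) (tt N29759 F279584) (tt N29054 F279585) (tt N30529 (iv F282627)) (tt N29067 F279586))
theorem Q29896 : ∀ i, i < 29896 → P i := stepQ 29895 Q29895 (allL N29895 (tt N30533 (iv F282651)) (tt N29039 F279587) (tt N29482 F279588) (tt N29183 F279589) (tt N29703 F279590) (tt N29038 (iv D62665)) (tt N30534 D63304) (tt N29055 F279591) (tt N30531 (iv F282641)) (tt N29068 F279592))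
theorem Q29897 : ∀ i, i < 29897 → P i := stepQ 29896 Q29896 (allL N29896 (tt N29154 F279593) (tt N30534 (iv F282658)) (tt N29040 F279594) (tt N29151 F279595) (tt N29527 F279596) (tt N29761 F279597) (tt N29039 (iv D62666)) (tt N29338 F279598) (tt N30532 (iv F282649)) (tt N29069 F279599))
theorem Q29898 : ∀ i, i < 29898 → P i := stepQ 29897 Q29897 (allL N29897 (tt N29041 (iv D62667)) (tt N29572 F279600) (tt N29260 F279601) (tt N29695 F279602) (tt N30535 D63305) (tt N29374 F279603) (tt N29044 F279604) (tt N29477 F279605) (tt N29411 F279606) (tt N29070 F279607))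
theorem Q29899 : ∀ i, i < 29899 → P i := stepQ 29898 Q29898 (allL N29898 (tt N30535 (iv F282665)) (tt N29042 F279608) (tt N29261 F279609) (tt N30536 D63306) (tt N29041 (iv D62668)) (tt N30537 D63307) (tt N29045 F279610) (tt N29478 F279611) (tt N29412 F279612) (tt N29071 F279613))
theorem Q29900 : ∀ i, i < 29900 → P i := stepQ 29899 Q29899 (allL N29899 (tt N29574 F279614) (tt N30536 (iv F282672)) (tt N29059 F279615) (tt N29042 (iv D62669)) (tt N29682 F279616) (tt N29635 (iv F279620)) (tt N29046 F279617) (tt N29479 F279618) (tt N30538 D63308) (tt N29072 F279619))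
theorem Q29901 : ∀ i, i < 29901 → P i := stepQ 29900 Q29900 (allL N29900 (tt N29424 F279621) (tt N30537 (iv F282679)) (tt N29043 F279622) (tt N29635 F279623) (tt N29377 F279624) (tt N29042 (iv D62670)) (tt N29186 F279625) (tt N29480 F279626) (tt N29414 F279627) (tt N29073 F279628))
theorem Q29902 : ∀ i, i < 29902 → P i := stepQ 29901 Q29901 (allL N29901 (tt N29045 F279629) (tt N29584 F279630) (tt N29451 F279631) (tt N30539 D63309) (tt N29044 (iv D62671)) (tt N29187 F279632) (tt N30535 (iv F282668)) (tt N29056 F279633) (tt N30504 (iv F282471)) (tt N29074 F279634))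
theorem Q29903 : ∀ i, i < 29903 → P i := stepQ 29902 Q29902 (allL N29902 (tt N30539 (iv F282695)) (tt N29046 F279635) (tt N29669 F279636) (tt N29045 (iv D62672)) (tt N29683 F279637) (tt N29188 F279638) (tt N30536 (iv F282675)) (tt N29057 F279639) (tt N30540 D63310) (tt N29075 F279640))
theorem Q29904 : ∀ i, i < 29904 → P i := stepQ 29903 Q29903 (allL N29903 (tt N29586 F279641) (tt N30540 (iv F282702)) (tt N29060 F279642) (tt N30506 (iv F282481)) (tt N29684 F279643) (tt N29189 F279644) (tt N30538 (iv F282692)) (tt N29058 F279645) (tt N29046 (iv D62673)) (tt N29347 F279646))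
theorem Q29905 : ∀ i, i < 29905 → P i := stepQ 29904 Q29904 (allL N29904 (tt N29047 (iv D62674)) (tt N29835 F279647) (tt N29161 F279648) (tt N29532 F279649) (tt N30541 D63311) (tt N29152 F279650) (tt N29179 F279651) (tt N29724 F279652) (tt N29088 F279653) (tt N29050 F279654))
theorem Q29906 : ∀ i, i < 29906 → P i := stepQ 29905 Q29905 (allL N29905 (tt N30541 (iv F282708)) (tt N29048 F279655) (tt N29162 F279656) (tt N30542 D63312) (tt N29047 (iv D62675)) (tt N30543 D63313) (tt N29180 F279657) (tt N29725 F279658) (tt N29089 F279659) (tt N29051 F279660))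
theorem Q29907 : ∀ i, i < 29907 → P i := stepQ 29906 Q29906 (allL N29906 (tt N29837 F279661) (tt N30542 (iv F282715)) (tt N29906 F279662) (tt N29048 (iv D62676)) (tt N29534 F279663) (tt N30544 D63314) (tt N29181 F279664) (tt N29726 F279665) (tt N29736 F279666) (tt N29052 F279667))
theorem Q29908 : ∀ i, i < 29908 → P i := stepQ 29907 Q29907 (allL N29907 (tt N29834 F279668) (tt N30543 (iv F282721)) (tt N29049 F279669) (tt N30544 (iv F282730)) (tt N29155 F279670) (tt N29048 (iv D62677)) (tt N29650 F279671) (tt N29727 F279672) (tt N29090 F279673) (tt N29053 F279674))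
theorem Q29909 : ∀ i, i < 29909 → P i := stepQ 29908 Q29908 (allL N29908 (tt N29051 F279675) (tt N29838 F279676) (tt N29717 F279677) (tt N30545 D63315) (tt N29050 (iv D62678)) (tt N30546 D63316) (tt N29659 F279678) (tt N30529 (iv F282626)) (tt N29054 F279679) (tt N30541 (iv F282714)))
theorem Q29910 : ∀ i, i < 29910 → P i := stepQ 29909 Q29909 (allL N29909 (tt N30545 (iv F282735)) (tt N29052 F279680) (tt N30547 D63317) (tt N29051 (iv D62679)) (tt N30513 (iv F282531)) (tt N30548 D63318) (tt N29661 F279681) (tt N30530 (iv F282632)) (tt N29199 F279682) (tt N30542 (iv F282720)))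
theorem Q29911 : ∀ i, i < 29911 → P i := stepQ 29910 Q29910 (allL N29910 (tt N30546 (iv F282739)) (tt N29053 F279683) (tt N29485 F279684) (tt N30548 (iv F282750)) (tt N29715 F279685) (tt N29051 (iv D62680)) (tt N29653 F279686) (tt N30531 (iv F282640)) (tt N29055 F279687) (tt N30543 (iv F282727)))
theorem Q29912 : ∀ i, i < 29912 → P i := stepQ 29911 Q29911 (allL N29911 (tt N29831 F279688) (tt N30548 (iv F282749)) (tt N29911 F279689) (tt N29053 F279690) (tt N30549 D63319) (tt N29052 (iv D62681)) (tt N29654 F279691) (tt N29657 F279692) (tt N29201 F279693) (tt N30544 (iv F282734)))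
theorem Q29913 : ∀ i, i < 29913 → P i := stepQ 29912 Q29912 (allL N29912 (tt N29055 F279694) (tt N29832 F279695) (tt N29484 F279696) (tt N29202 F279697) (tt N29716 F279698) (tt N29054 (iv D62682)) (tt N29670 F279699) (tt N30533 (iv F282656)) (tt N30546 (iv F282744)) (tt N29099 F279700))
theorem Q29914 : ∀ i, i < 29914 → P i := stepQ 29913 Q29913 (allL N29913 (tt N29057 F279701) (tt N29587 F279702) (tt N29670 F279703) (tt N29056 (iv D62683)) (tt N29676 F279704) (tt N29206 F279705) (tt N29484 F279706) (tt N30539 (iv F282700)) (tt N30550 D63320) (tt N29101 F279707))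
theorem Q29915 : ∀ i, i < 29915 → P i := stepQ 29914 Q29914 (allL N29914 (tt N30550 (iv F282760)) (tt N29058 F279708) (tt N29653 F279709) (tt N30527 (iv F282612)) (tt N29685 F279710) (tt N29207 F279711) (tt N29485 F279712) (tt N30540 (iv F282706)) (tt N29057 (iv D62684)) (tt N30551 D63321))
theorem Q29916 : ∀ i, i < 29916 → P i := stepQ 29915 Q29915 (allL N29915 (tt N29589 F279713) (tt N30551 (iv F282766)) (tt N29061 F279714) (tt N30528 (iv F282617)) (tt N29167 F279715) (tt N29208 F279716) (tt N29164 F279717) (tt N29347 F279718) (tt N29103 F279719) (tt N29058 (iv D62685)))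
theorem Q29917 : ∀ i, i < 29917 → P i := stepQ 29916 Q29916 (allL N29916 (tt N29541 F279720) (tt N29342 F279721) (tt N30538 (iv F282688)) (tt N29916 F279722) (tt N29530 F279723) (tt N29595 F279724) (tt N29060 F279725) (tt N29486 F279726) (tt N29059 (iv D62686)) (tt N29348 F279727))
theorem Q29918 : ∀ i, i < 29918 → P i := stepQ 29917 Q29917 (allL N29917 (tt N29063 F279728) (tt N29668 F279729) (tt N29692 F279730) (tt N30552 D63322) (tt N29062 (iv D62687)) (tt N30553 D63323) (tt N30507 (iv F282490)) (tt N29095 F279731) (tt N29745 F279732) (tt N29702 F279733))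
theorem Q29919 : ∀ i, i < 29919 → P i := stepQ 29918 Q29918 (allL N29918 (tt N30552 (iv F282773)) (tt N29064 F279734) (tt N29721 F279735) (tt N29063 (iv D62688)) (tt N29075 F279736) (tt N29543 (iv F279739)) (tt N30508 (iv F282497)) (tt N29096 F279737) (tt N29552 F279740) (tt N29683 F279738))
theorem Q29920 : ∀ i, i < 29920 → P i := stepQ 29919 Q29919 (allL N29919 (tt N30553 (iv F282781)) (tt N29065 F279741) (tt N29499 F279742) (tt N29543 F279743) (tt N29068 F279744) (tt N29063 (iv D62689)) (tt N30554 D63324) (tt N29097 F279745) (tt N29747 F279746) (tt N29703 F279747))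
theorem Q29921 : ∀ i, i < 29921 → P i := stepQ 29920 Q29920 (allL N29920 (tt N29338 F279748) (tt N30554 (iv F282789)) (tt N29066 F279749) (tt N29132 F279750) (tt N29069 F279751) (tt N30511 (iv F282519)) (tt N29065 (iv D62690)) (tt N29154 F279752) (tt N29687 F279753) (tt N29527 F279754))
theorem Q29922 : ∀ i, i < 29922 → P i := stepQ 29921 Q29921 (allL N29921 (tt N29068 F279755) (tt N29852 F279756) (tt N29503 F279757) (tt N29222 F279758) (tt N30553 (iv F282785)) (tt N29067 (iv D62691)) (tt N30555 D63325) (tt N29099 F279759) (tt N29748 F279760) (tt N30533 (iv F282657)))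
theorem Q29923 : ∀ i, i < 29923 → P i := stepQ 29922 Q29922 (allL N29922 (tt N30555 (iv F282796)) (tt N29069 F279761) (tt N29501 F279762) (tt N29223 F279763) (tt N30554 (iv F282792)) (tt N29763 F279764) (tt N29068 (iv D62692)) (tt N29537 F279765) (tt N29679 F279766) (tt N30534 (iv F282664)))
theorem Q29924 : ∀ i, i < 29924 → P i := stepQ 29923 Q29923 (allL N29923 (tt N29071 F279767) (tt N29629 F279768) (tt N29444 F279769) (tt N30556 D63326) (tt N29070 (iv D62693)) (tt N30557 D63327) (tt N29074 F279770) (tt N29500 F279771) (tt N29382 F279772) (tt N30535 (iv F282671)))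
theorem Q29925 : ∀ i, i < 29925 → P i := stepQ 29924 Q29924 (allL N29924 (tt N30556 (iv F282803)) (tt N29072 F279773) (tt N29537 F279774) (tt N29071 (iv D62694)) (tt N30508 (iv F282496)) (tt N29634 (iv F279778)) (tt N29075 F279775) (tt N29501 F279776) (tt N29557 F279777) (tt N30536 (iv F282677)))
theorem Q29926 : ∀ i, i < 29926 → P i := stepQ 29925 Q29925 (allL N29925 (tt N30557 (iv F282810)) (tt N29073 F279779) (tt N29445 F279780) (tt N29634 F279781) (tt N29380 F279782) (tt N29071 (iv D62695)) (tt N29227 F279783) (tt N29502 F279784) (tt N29318 F279785) (tt N30537 (iv F282686)))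
theorem Q29927 : ∀ i, i < 29927 → P i := stepQ 29926 Q29926 (allL N29926 (tt N29075 F279786) (tt N29673 F279787) (tt N29822 F279788) (tt N29074 (iv D62696)) (tt N30552 (iv F282776)) (tt N29228 F279789) (tt N30556 (iv F282806)) (tt N29101 F279790) (tt N29556 (iv F279791)) (tt N30539 (iv F282701)))
theorem Q29928 : ∀ i, i < 29928 → P i := stepQ 29927 Q29927 (allL N29927 (tt N29076 (iv D62697)) (tt N29504 F279792) (tt N29088 F279793) (tt N29194 F279794) (tt N30558 D63328) (tt N29157 F279795) (tt N29177 F279796) (tt N29665 F279797) (tt N29161 F279798) (tt N29078 F279799))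
theorem Q29929 : ∀ i, i < 29929 → P i := stepQ 29928 Q29928 (allL N29928 (tt N30558 (iv F282818)) (tt N29077 F279800) (tt N29089 F279801) (tt N29395 F279802) (tt N29076 (iv D62698)) (tt N29514 (iv F279807)) (tt N29178 F279803) (tt N29421 F279804) (tt N29162 F279805) (tt N29079 F279806))
theorem Q29930 : ∀ i, i < 29930 → P i := stepQ 29929 Q29929 (allL N29929 (tt N29079 F279808) (tt N29455 F279809) (tt N29092 F279810) (tt N29396 F279811) (tt N29078 (iv D62699)) (tt N29513 (iv F279815)) (tt N29220 F279812) (tt N29425 F279813) (tt N29080 F279814) (tt N30558 (iv F282825)))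
theorem Q29931 : ∀ i, i < 29931 → P i := stepQ 29930 Q29930 (allL N29930 (tt N29081 (iv D62700)) (tt N29647 F279816) (tt N29157 F279817) (tt N29174 F279818) (tt N30559 D63329) (tt N29088 F279819) (tt N29505 F279820) (tt N29545 F279821) (tt N29152 F279822) (tt N29084 F279823))
theorem Q29932 : ∀ i, i < 29932 → P i := stepQ 29931 Q29931 (allL N29931 (tt N30559 (iv F282827)) (tt N29082 F279824) (tt N29158 F279825) (tt N30560 D63330) (tt N29081 (iv D62701)) (tt N30561 D63331) (tt N29506 F279826) (tt N29546 F279827) (tt N29153 F279828) (tt N29085 F279829))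
theorem Q29933 : ∀ i, i < 29933 → P i := stepQ 29932 Q29932 (allL N29932 (tt N29649 F279830) (tt N30560 (iv F282834)) (tt N29932 F279831) (tt N29082 (iv D62702)) (tt N29176 F279832) (tt N30562 D63332) (tt N29507 F279833) (tt N29547 F279834) (tt N30563 D63333) (tt N29086 F279835))
theorem Q29934 : ∀ i, i < 29934 → P i := stepQ 29933 Q29933 (allL N29933 (tt N29650 F279836) (tt N30561 (iv F282839)) (tt N29083 F279837) (tt N30562 (iv F282848)) (tt N29090 F279838) (tt N29082 (iv D62703)) (tt N29834 F279839) (tt N29548 F279840) (tt N29155 F279841) (tt N29087 F279842))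
theorem Q29935 : ∀ i, i < 29935 → P i := stepQ 29934 Q29934 (allL N29934 (tt N29085 F279843) (tt N29651 F279844) (tt N29693 F279845) (tt N30564 D63334) (tt N29084 (iv D62704)) (tt N30565 D63335) (tt N29508 F279846) (tt N29745 F279847) (tt N29095 F279848) (tt N30559 (iv F282833)))
theorem Q29936 : ∀ i, i < 29936 → P i := stepQ 29935 Q29935 (allL N29935 (tt N30564 (iv F282859)) (tt N29086 F279849) (tt N30566 D63336) (tt N29085 (iv D62705)) (tt N29216 F279850) (tt N30567 D63337) (tt N29509 F279851) (tt N29746 F279852) (tt N30568 D63338) (tt N30560 (iv F282838)))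
theorem Q29937 : ∀ i, i < 29937 → P i := stepQ 29936 Q29936 (allL N29936 (tt N30565 (iv F282864)) (tt N29087 F279853) (tt N29512 F279854) (tt N30567 (iv F282877)) (tt N29093 F279855) (tt N29085 (iv D62706)) (tt N29833 F279856) (tt N29747 F279857) (tt N29097 F279858) (tt N30561 (iv F282845)))
theorem Q29938 : ∀ i, i < 29938 → P i := stepQ 29937 Q29937 (allL N29937 (tt N29654 F279859) (tt N30567 (iv F282876)) (tt N29937 F279860) (tt N29087 F279861) (tt N29524 F279862) (tt N29086 (iv D62707)) (tt N29831 F279863) (tt N29554 F279864) (tt N29518 (iv F279865)) (tt N30562 (iv F282852)))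
theorem Q29939 : ∀ i, i < 29939 → P i := stepQ 29938 Q29938 (allL N29938 (tt N29596 F279866) (tt N30568 (iv F282882)) (tt N29938 F279867) (tt N29098 F279868) (tt N29217 F279869) (tt N29518 F279870) (tt N29510 F279871) (tt N29553 F279872) (tt N29086 (iv D62708)) (tt N30569 D63339))
theorem Q29940 : ∀ i, i < 29940 → P i := stepQ 29939 Q29939 (allL N29939 (tt N29089 F279873) (tt N29856 F279874) (tt N30558 (iv F282820)) (tt N29759 F279875) (tt N29088 (iv D62709)) (tt N30570 D63340) (tt N29182 F279876) (tt N29728 F279877) (tt N30541 (iv F282713)) (tt N29092 F279878))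
theorem Q29941 : ∀ i, i < 29941 → P i := stepQ 29940 Q29940 (allL N29940 (tt N30570 (iv F282895)) (tt N29090 F279879) (tt N29514 F279880) (tt N29760 F279881) (tt N30561 (iv F282841)) (tt N29089 (iv D62710)) (tt N30571 D63341) (tt N29729 F279882) (tt N30543 (iv F282726)) (tt N29093 F279883))
theorem Q29942 : ∀ i, i < 29942 → P i := stepQ 29941 Q29941 (allL N29941 (tt N29155 F279884) (tt N30571 (iv F282901)) (tt N29091 F279885) (tt N29761 F279886) (tt N29834 F279887) (tt N29151 F279888) (tt N29090 (iv D62711)) (tt N29339 (iv F279891)) (tt N29650 F279889) (tt N29094 F279890))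
theorem Q29943 : ∀ i, i < 29943 → P i := stepQ 29942 Q29942 (allL N29942 (tt N29093 F279892) (tt N29854 F279893) (tt N29513 F279894) (tt N29762 F279895) (tt N30565 (iv F282867)) (tt N29092 (iv D62712)) (tt N30572 D63342) (tt N29748 F279896) (tt N29099 F279897) (tt N30570 (iv F282900)))
theorem Q29944 : ∀ i, i < 29944 → P i := stepQ 29943 Q29943 (allL N29943 (tt N30572 (iv F282909)) (tt N29094 F279898) (tt N29102 F279899) (tt N29763 F279900) (tt N29833 F279901) (tt N29223 F279902) (tt N29093 (iv D62713)) (tt N29538 (iv F279904)) (tt N29100 F279903) (tt N30571 (iv F282907)))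
theorem Q29945 : ∀ i, i < 29945 → P i := stepQ 29944 Q29944 (allL N29944 (tt N29096 F279905) (tt N29590 F279906) (tt N29832 F279907) (tt N29095 (iv D62714)) (tt N29101 F279908) (tt N29765 (iv F279911)) (tt N29511 F279909) (tt N30552 (iv F282777)) (tt N30573 D63343) (tt N29676 F279910))
theorem Q29946 : ∀ i, i < 29946 → P i := stepQ 29945 Q29945 (allL N29945 (tt N29097 F279912) (tt N29670 F279913) (tt N29511 F279914) (tt N29765 F279915) (tt N29099 F279916) (tt N29095 (iv D62715)) (tt N29832 F279917) (tt N30553 (iv F282786)) (tt N30565 (iv F282870)) (tt N29716 F279918))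
theorem Q29947 : ∀ i, i < 29947 → P i := stepQ 29946 Q29946 (allL N29946 (tt N30573 (iv F282917)) (tt N29098 F279919) (tt N29833 F279920) (tt N30568 (iv F282883)) (tt N29102 F279921) (tt N29517 F279922) (tt N29512 F279923) (tt N29552 F279924) (tt N29096 (iv D62716)) (tt N30574 D63344))
theorem Q29948 : ∀ i, i < 29948 → P i := stepQ 29947 Q29947 (allL N29947 (tt N29597 F279925) (tt N30574 (iv F282924)) (tt N29104 F279926) (tt N30569 (iv F282890)) (tt N29103 F279927) (tt N29331 F279928) (tt N29160 F279929) (tt N29352 F279930) (tt N29167 F279931) (tt N29098 (iv D62717)))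
theorem Q29949 : ∀ i, i < 29949 → P i := stepQ 29948 Q29948 (allL N29948 (tt N29100 F279932) (tt N29716 F279933) (tt N29101 F279934) (tt N29240 F279935) (tt N29832 F279936) (tt N29242 F279937) (tt N29099 (iv D62718)) (tt N29822 (iv F279939)) (tt N30572 (iv F282915)) (tt N29670 F279938))
theorem Q29950 : ∀ i, i < 29950 → P i := stepQ 29949 Q29949 (allL N29949 (tt N29102 F279940) (tt N29674 F279941) (tt N30572 (iv F282911)) (tt N30501 (iv F282444)) (tt N30573 (iv F282920)) (tt N29243 F279942) (tt N29513 F279943) (tt N29556 F279944) (tt N29101 (iv D62719)) (tt N30575 D63345))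
theorem Q29951 : ∀ i, i < 29951 → P i := stepQ 29950 Q29950 (allL N29950 (tt N30575 (iv F282931)) (tt N29103 F279945) (tt N30571 (iv F282902)) (tt N30502 (iv F282451)) (tt N30574 (iv F282926)) (tt N29244 F279946) (tt N29514 F279947) (tt N29355 F279948) (tt N30551 (iv F282772)) (tt N29102 (iv D62720)))
theorem Q29952 : ∀ i, i < 29952 → P i := stepQ 29951 Q29951 (allL N29951 (tt N29106 (iv D62721)) (tt N29403 F279949) (tt N29477 F279950) (tt N29109 F279951) (tt N30503 (iv F282461)) (tt N29778 F279952) (tt N29110 F279953) (tt N29260 F279954) (tt N29786 F279955) (tt N29398 F279956))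
theorem Q29953 : ∀ i, i < 29953 → P i := stepQ 29952 Q29952 (allL N29952 (tt N29107 (iv D62722)) (tt N29268 F279957) (tt N29125 F279958) (tt N29778 F279959) (tt N30576 D63346) (tt N29109 F279960) (tt N29399 F279961) (tt N29263 F279962) (tt N29247 F279963) (tt N29441 F279964))
theorem Q29954 : ∀ i, i < 29954 → P i := stepQ 29953 Q29953 (allL N29953 (tt N30576 (iv F282936)) (tt N29108 F279965) (tt N29126 F279966) (tt N30577 D63347) (tt N29107 (iv D62723)) (tt N29334 F279967) (tt N29400 F279968) (tt N29264 F279969) (tt N29248 F279970) (tt N29442 F279971))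
theorem Q29955 : ∀ i, i < 29955 → P i := stepQ 29954 Q29954 (allL N29954 (tt N29270 F279972) (tt N30577 (iv F282944)) (tt N29954 F279973) (tt N29108 (iv D62724)) (tt N29780 F279974) (tt N29335 F279975) (tt N29401 F279976) (tt N29265 F279977) (tt N29307 F279978) (tt N29443 F279979))
theorem Q29956 : ∀ i, i < 29956 → P i := stepQ 29955 Q29955 (allL N29955 (tt N29111 F279980) (tt N29457 F279981) (tt N29481 F279982) (tt N29776 F279983) (tt N29110 (iv D62725)) (tt N29811 F279984) (tt N30503 (iv F282462)) (tt N29115 F279985) (tt N29805 F279986) (tt N29454 F279987))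
theorem Q29957 : ∀ i, i < 29957 → P i := stepQ 29956 Q29956 (allL N29956 (tt N29113 F279988) (tt N29458 F279989) (tt N29471 F279990) (tt N30578 D63348) (tt N29112 (iv D62726)) (tt N29814 F279991) (tt N29446 F279992) (tt N29805 F279993) (tt N29115 F279994) (tt N29804 F279995))
theorem Q29958 : ∀ i, i < 29958 → P i := stepQ 29957 Q29957 (allL N29957 (tt N30578 (iv F282951)) (tt N29114 F279996) (tt N30579 D63349) (tt N29113 (iv D62727)) (tt N29453 F279997) (tt N29815 F279998) (tt N29447 F279999) (tt N29806 F280000) (tt N29770 F280001) (tt N29609 F280002))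
theorem Q29959 : ∀ i, i < 29959 → P i := stepQ 29958 Q29958 (allL N29958 (tt N29118 F280003) (tt N29168 F280004) (tt N29458 F280005) (tt N30580 D63350) (tt N29117 (iv D62728)) (tt N29558 F280006) (tt N29814 F280007) (tt N29800 F280008) (tt N29124 F280009) (tt N29689 F280010))
theorem Q29960 : ∀ i, i < 29960 → P i := stepQ 29959 Q29959 (allL N29959 (tt N30580 (iv F282967)) (tt N29119 F280011) (tt N30581 D63351) (tt N29118 (iv D62729)) (tt N29772 F280012) (tt N29559 F280013) (tt N29815 F280014) (tt N29801 F280015) (tt N29740 F280016) (tt N29690 F280017))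
theorem Q29961 : ∀ i, i < 29961 → P i := stepQ 29960 Q29960 (allL N29960 (tt N29121 F280018) (tt N29198 F280019) (tt N29508 F280020) (tt N30582 D63352) (tt N29120 (iv D62730)) (tt N29829 F280021) (tt N29693 F280022) (tt N29840 F280023) (tt N29123 F280024) (tt N29722 F280025))
theorem Q29962 : ∀ i, i < 29962 → P i := stepQ 29961 Q29961 (allL N29961 (tt N30582 (iv F282983)) (tt N29122 F280026) (tt N30583 D63353) (tt N29121 (iv D62731)) (tt N29742 F280027) (tt N29830 F280028) (tt N29694 F280029) (tt N29841 F280030) (tt N29839 F280031) (tt N29723 F280032))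
theorem Q29963 : ∀ i, i < 29963 → P i := stepQ 29962 Q29962 (allL N29962 (tt N29126 F280033) (tt N29215 F280034) (tt N30576 (iv F282938)) (tt N30584 D63354) (tt N29125 (iv D62732)) (tt N29798 F280035) (tt N29415 F280036) (tt N29699 F280037) (tt N29431 F280038) (tt N30504 (iv F282472)))
theorem Q29964 : ∀ i, i < 29964 → P i := stepQ 29963 Q29963 (allL N29963 (tt N30584 (iv F282999)) (tt N29127 F280039) (tt N30585 D63355) (tt N29126 (iv D62733)) (tt N29652 F280040) (tt N29799 F280041) (tt N29416 F280042) (tt N29700 F280043) (tt N30586 D63356) (tt N30505 (iv F282478)))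
theorem Q29965 : ∀ i, i < 29965 → P i := stepQ 29964 Q29964 (allL N29964 (tt N29217 F280044) (tt N30586 (iv F283010)) (tt N29964 F280045) (tt N29402 F280046) (tt N29596 F280047) (tt N29401 F280048) (tt N29419 F280049) (tt N29701 F280050) (tt N29127 (iv D62734)) (tt N30587 D63357))
theorem Q29966 : ∀ i, i < 29966 → P i := stepQ 29965 Q29965 (allL N29965 (tt N29129 F280051) (tt N29241 F280052) (tt N29279 F280053) (tt N29220 F280054) (tt N29128 (iv D62735)) (tt N29454 F280055) (tt N29396 F280056) (tt N29130 F280057) (tt N29278 F280058) (tt N29811 F280059))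
theorem Q29967 : ∀ i, i < 29967 → P i := stepQ 29966 Q29966 (allL N29966 (tt N29131 (iv D62736)) (tt N29336 F280060) (tt N29140 F280061) (tt N29515 F280062) (tt N30588 D63358) (tt N29724 F280063) (tt N29542 F280064) (tt N29152 F280065) (tt N29545 F280066) (tt N29525 F280067))
theorem Q29968 : ∀ i, i < 29968 → P i := stepQ 29967 Q29967 (allL N29967 (tt N30588 (iv F283024)) (tt N29132 F280068) (tt N29141 F280069) (tt N30554 (iv F282791)) (tt N29131 (iv D62737)) (tt N30589 D63359) (tt N29543 F280070) (tt N29153 F280071) (tt N29546 F280072) (tt N29526 F280073))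
theorem Q29969 : ∀ i, i < 29969 → P i := stepQ 29968 Q29968 (allL N29968 (tt N29339 F280074) (tt N30589 (iv F283031)) (tt N29133 F280075) (tt N30511 (iv F282517)) (tt N29727 F280076) (tt N29132 (iv D62738)) (tt N30510 (iv F282511)) (tt N29155 F280077) (tt N29548 F280078) (tt N29528 F280079))
theorem Q29970 : ∀ i, i < 29970 → P i := stepQ 29969 Q29969 (allL N29969 (tt N29134 (iv D62739)) (tt N29734 F280080) (tt N29545 F280081) (tt N29179 F280082) (tt N30590 D63360) (tt N29665 F280083) (tt N29532 F280084) (tt N29157 F280085) (tt N29140 F280086) (tt N29666 F280087))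
theorem Q29971 : ∀ i, i < 29971 → P i := stepQ 29970 Q29970 (allL N29970 (tt N30590 (iv F283037)) (tt N29135 F280088) (tt N29546 F280089) (tt N30591 D63361) (tt N29134 (iv D62740)) (tt N30592 D63362) (tt N29533 F280090) (tt N29158 F280091) (tt N29141 F280092) (tt N29667 F280093))
theorem Q29972 : ∀ i, i < 29972 → P i := stepQ 29971 Q29971 (allL N29971 (tt N29736 F280094) (tt N30591 (iv F283044)) (tt N29971 F280095) (tt N29135 (iv D62741)) (tt N29181 F280096) (tt N30593 D63363) (tt N29534 F280097) (tt N29159 F280098) (tt N29837 F280099) (tt N29663 F280100))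
theorem Q29973 : ∀ i, i < 29973 → P i := stepQ 29972 Q29972 (allL N29972 (tt N29628 F280101) (tt N30592 (iv F283050)) (tt N29136 F280102) (tt N30593 (iv F283058)) (tt N29423 F280103) (tt N29135 (iv D62742)) (tt N30594 D63364) (tt N29160 F280104) (tt N29142 F280105) (tt N29429 F280106))
theorem Q29974 : ∀ i, i < 29974 → P i := stepQ 29973 Q29973 (allL N29973 (tt N29681 F280107) (tt N29549 F280108) (tt N30594 (iv F283064)) (tt N29973 F280109) (tt N29357 F280110) (tt N29156 F280111) (tt N29136 (iv D62743)) (tt N29353 F280112) (tt N29143 F280113) (tt N29439 F280114))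
theorem Q29975 : ∀ i, i < 29975 → P i := stepQ 29974 Q29974 (allL N29974 (tt N29137 (iv D62744)) (tt N29754 F280115) (tt N29724 F280116) (tt N29147 F280117) (tt N30595 D63365) (tt N29140 F280118) (tt N29730 F280119) (tt N29161 F280120) (tt N29665 F280121) (tt N29704 F280122))
theorem Q29976 : ∀ i, i < 29976 → P i := stepQ 29975 Q29975 (allL N29975 (tt N30595 (iv F283070)) (tt N29138 F280123) (tt N29725 F280124) (tt N30596 D63366) (tt N29137 (iv D62745)) (tt N30597 D63367) (tt N29731 F280125) (tt N29162 F280126) (tt N29421 F280127) (tt N29705 F280128))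
theorem Q29977 : ∀ i, i < 29977 → P i := stepQ 29976 Q29976 (allL N29976 (tt N29756 F280129) (tt N30596 (iv F283077)) (tt N29976 F280130) (tt N29138 (iv D62746)) (tt N29149 F280131) (tt N30598 D63368) (tt N29732 F280132) (tt N29163 F280133) (tt N29376 F280134) (tt N29706 F280135))
theorem Q29978 : ∀ i, i < 29978 → P i := stepQ 29977 Q29977 (allL N29977 (tt N29582 F280136) (tt N30597 (iv F283083)) (tt N29139 F280137) (tt N30598 (iv F283091)) (tt N29142 F280138) (tt N29138 (iv D62747)) (tt N30599 D63369) (tt N29164 F280139) (tt N29423 F280140) (tt N29483 F280141))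
theorem Q29979 : ∀ i, i < 29979 → P i := stepQ 29978 Q29978 (allL N29978 (tt N29595 F280142) (tt N29680 F280143) (tt N30599 (iv F283097)) (tt N29978 F280144) (tt N29143 F280145) (tt N29541 F280146) (tt N29139 (iv D62748)) (tt N29348 F280147) (tt N29357 F280148) (tt N29486 F280149))
theorem Q29980 : ∀ i, i < 29980 → P i := stepQ 29979 Q29979 (allL N29979 (tt N29141 F280150) (tt N29759 F280151) (tt N30588 (iv F283026)) (tt N29856 F280152) (tt N29140 (iv D62749)) (tt N30600 D63370) (tt N29844 F280153) (tt N29165 F280154) (tt N30590 (iv F283042)) (tt N29707 F280155))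
theorem Q29981 : ∀ i, i < 29981 → P i := stepQ 29980 Q29980 (allL N29980 (tt N30600 (iv F283103)) (tt N29142 F280156) (tt N30589 (iv F283032)) (tt N29855 F280157) (tt N30597 (iv F283085)) (tt N29141 (iv D62750)) (tt N30601 D63371) (tt N29166 F280158) (tt N30592 (iv F283054)) (tt N29708 F280159))
theorem Q29982 : ∀ i, i < 29982 → P i := stepQ 29981 Q29981 (allL N29981 (tt N29761 F280160) (tt N30601 (iv F283108)) (tt N29143 F280161) (tt N29155 F280162) (tt N30599 (iv F283098)) (tt N29154 F280163) (tt N29142 (iv D62751)) (tt N30511 (iv F282520)) (tt N30594 (iv F283068)) (tt N29709 F280164))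
theorem Q29983 : ∀ i, i < 29983 → P i := stepQ 29982 Q29982 (allL N29982 (tt N29144 (iv D62752)) (tt N29374 F280165) (tt N29519 F280166) (tt N29730 F280167) (tt N30602 D63372) (tt N29572 F280168) (tt N29147 F280169) (tt N29565 F280170) (tt N29184 F280171) (tt N29305 F280172))
theorem Q29984 : ∀ i, i < 29984 → P i := stepQ 29983 Q29983 (allL N29983 (tt N30602 (iv F283112)) (tt N29145 F280173) (tt N29520 F280174) (tt N30603 D63373) (tt N29144 (iv D62753)) (tt N30604 D63374) (tt N29148 F280175) (tt N29566 F280176) (tt N29185 F280177) (tt N29306 F280178))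
theorem Q29985 : ∀ i, i < 29985 → P i := stepQ 29984 Q29984 (allL N29984 (tt N29376 F280179) (tt N30603 (iv F283119)) (tt N29984 F280180) (tt N29145 (iv D62754)) (tt N29732 F280181) (tt N30605 D63375) (tt N29149 F280182) (tt N29567 F280183) (tt N29756 F280184) (tt N29307 F280185))
theorem Q29986 : ∀ i, i < 29986 → P i := stepQ 29985 Q29985 (allL N29985 (tt N29377 F280186) (tt N30604 (iv F283125)) (tt N29146 F280187) (tt N30605 (iv F283134)) (tt N29424 F280188) (tt N29145 (iv D62755)) (tt N29414 F280189) (tt N29387 F280190) (tt N29186 F280191) (tt N29308 F280192))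
theorem Q29987 : ∀ i, i < 29987 → P i := stepQ 29986 Q29986 (allL N29986 (tt N29148 F280193) (tt N29800 F280194) (tt N29522 F280195) (tt N30606 D63376) (tt N29147 (iv D62756)) (tt N30504 (iv F282468)) (tt N30602 (iv F283115)) (tt N29168 F280196) (tt N29187 F280197) (tt N29798 F280198))
theorem Q29988 : ∀ i, i < 29988 → P i := stepQ 29987 Q29987 (allL N29987 (tt N30606 (iv F283139)) (tt N29149 F280199) (tt N30607 D63377) (tt N29148 (iv D62757)) (tt N30596 (iv F283078)) (tt N30505 (iv F282475)) (tt N30603 (iv F283121)) (tt N29169 F280200) (tt N30608 D63378) (tt N29799 F280201))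
theorem Q29989 : ∀ i, i < 29989 → P i := stepQ 29988 Q29988 (allL N29988 (tt N29732 F280202) (tt N30608 (iv F283147)) (tt N29988 F280203) (tt N29189 F280204) (tt N29376 F280205) (tt N30506 (iv F282483)) (tt N29756 F280206) (tt N29170 F280207) (tt N29149 (iv D62758)) (tt N29346 (iv F280208)))
theorem Q29990 : ∀ i, i < 29990 → P i := stepQ 29989 Q29989 (allL N29989 (tt N29150 (iv D62759)) (tt N29152 F280209) (tt N29332 F280210) (tt N29525 F280211) (tt N30609 D63379) (tt N29835 F280212) (tt N29583 F280213) (tt N29336 F280214) (tt N29647 F280215) (tt N29515 F280216))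
theorem Q29991 : ∀ i, i < 29991 → P i := stepQ 29990 Q29990 (allL N29990 (tt N30609 (iv F283153)) (tt N29151 F280217) (tt N29244 F280218) (tt N30534 (iv F282660)) (tt N29150 (iv D62760)) (tt N30571 (iv F282905)) (tt N29183 F280219) (tt N29337 F280220) (tt N29648 F280221) (tt N29223 F280222))
theorem Q29992 : ∀ i, i < 29992 → P i := stepQ 29991 Q29991 (allL N29991 (tt N29153 F280223) (tt N30609 (iv F283154)) (tt N29165 F280224) (tt N30610 D63380) (tt N29152 (iv D62761)) (tt N30611 D63381) (tt N29720 F280225) (tt N30588 (iv F283028)) (tt N30559 (iv F282832)) (tt N29713 F280226))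
theorem Q29993 : ∀ i, i < 29993 → P i := stepQ 29992 Q29992 (allL N29992 (tt N30610 (iv F283160)) (tt N29154 F280227) (tt N30508 (iv F282495)) (tt N29153 (iv D62762)) (tt N29537 F280228) (tt N30601 (iv F283110)) (tt N29721 F280229) (tt N30554 (iv F282793)) (tt N30612 D63382) (tt N29714 F280230))
theorem Q29994 : ∀ i, i < 29994 → P i := stepQ 29993 Q29993 (allL N29993 (tt N30611 (iv F283164)) (tt N29155 F280231) (tt N29166 F280232) (tt N30601 (iv F283109)) (tt N30543 (iv F282723)) (tt N29153 (iv D62763)) (tt N29855 F280233) (tt N30589 (iv F283034)) (tt N30561 (iv F282844)) (tt N29715 F280234))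
theorem Q29995 : ∀ i, i < 29995 → P i := stepQ 29994 Q29994 (allL N29994 (tt N30532 (iv F282643)) (tt N30612 (iv F283168)) (tt N29156 F280235) (tt N30563 (iv F282855)) (tt N29540 F280236) (tt N30594 (iv F283066)) (tt N29535 F280237) (tt N29687 F280238) (tt N29154 (iv D62764)) (tt N30516 (iv F282554)))
theorem Q29996 : ∀ i, i < 29996 → P i := stepQ 29995 Q29995 (allL N29995 (tt N29158 F280239) (tt N29741 F280240) (tt N30559 (iv F282829)) (tt N30613 D63383) (tt N29157 (iv D62765)) (tt N30614 D63384) (tt N29722 F280241) (tt N30590 (iv F283041)) (tt N29165 F280242) (tt N29693 F280243))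
theorem Q29997 : ∀ i, i < 29997 → P i := stepQ 29996 Q29996 (allL N29996 (tt N30613 (iv F283173)) (tt N29159 F280244) (tt N30615 D63385) (tt N29158 (iv D62766)) (tt N29199 F280245) (tt N30616 D63386) (tt N29723 F280246) (tt N30591 (iv F283047)) (tt N30513 (iv F282534)) (tt N29694 F280247))
theorem Q29998 : ∀ i, i < 29998 → P i := stepQ 29997 Q29997 (allL N29997 (tt N30614 (iv F283178)) (tt N29160 F280248) (tt N30561 (iv F282840)) (tt N30616 (iv F283188)) (tt N29514 F280249) (tt N29158 (iv D62767)) (tt N30574 (iv F282928)) (tt N30592 (iv F283053)) (tt N29166 F280250) (tt N29512 F280251))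
theorem Q29999 : ∀ i, i < 29999 → P i := stepQ 29998 Q29998 (allL N29998 (tt N29664 F280252) (tt N30616 (iv F283187)) (tt N29998 F280253) (tt N29160 F280254) (tt N30617 D63387) (tt N29159 (iv D62768)) (tt N30569 (iv F282893)) (tt N30593 (iv F283060)) (tt N30515 (iv F282546)) (tt N29510 F280255))
theorem Q30000 : ∀ i, i < 30000 → P i := stepQ 29999 Q29999 (allL N29999 (tt N29162 F280256) (tt N29771 F280257) (tt N30541 (iv F282710)) (tt N30618 D63388) (tt N29161 (iv D62769)) (tt N30619 D63389) (tt N29824 F280258) (tt N30595 (iv F283074)) (tt N30558 (iv F282824)) (tt N29717 F280259))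
theorem Q30001 : ∀ i, i < 30001 → P i := stepQ 30000 Q30000 (allL N30000 (tt N30618 (iv F283197)) (tt N29163 F280260) (tt N30620 D63390) (tt N29162 (iv D62770)) (tt N29169 F280261) (tt N30621 D63391) (tt N29825 F280262) (tt N30596 (iv F283080)) (tt N30622 D63392) (tt N29718 F280263))
theorem Q30002 : ∀ i, i < 30002 → P i := stepQ 30001 Q30001 (allL N30001 (tt N30619 (iv F283202)) (tt N29164 F280264) (tt N30543 (iv F282722)) (tt N30621 (iv F283212)) (tt N29166 F280265) (tt N29162 (iv D62771)) (tt N30551 (iv F282770)) (tt N30597 (iv F283086)) (tt N29514 F280266) (tt N29485 F280267))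
theorem Q30003 : ∀ i, i < 30003 → P i := stepQ 30002 Q30002 (allL N30002 (tt N29564 F280268) (tt N30621 (iv F283211)) (tt N30002 F280269) (tt N29164 F280270) (tt N30520 (iv F282576)) (tt N29163 (iv D62772)) (tt N30528 (iv F282619)) (tt N30598 (iv F283093)) (tt N30623 D63393) (tt N29473 F280271))
theorem Q30004 : ∀ i, i < 30004 → P i := stepQ 30003 Q30003 (allL N30003 (tt N29567 F280272) (tt N30622 (iv F283214)) (tt N30003 F280273) (tt N29362 F280274) (tt N29170 F280275) (tt N30623 (iv F283223)) (tt N29476 F280276) (tt N29376 F280277) (tt N29163 (iv D62773)) (tt N29365 F280278))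
theorem Q30005 : ∀ i, i < 30005 → P i := stepQ 30004 Q30004 (allL N30004 (tt N29166 F280279) (tt N29775 F280280) (tt N30611 (iv F283165)) (tt N30523 (iv F282594)) (tt N30619 (iv F283204)) (tt N29165 (iv D62774)) (tt N30624 D63394) (tt N30600 (iv F283106)) (tt N30614 (iv F283181)) (tt N29719 F280281))
theorem Q30006 : ∀ i, i < 30006 → P i := stepQ 30005 Q30005 (allL N30005 (tt N30624 (iv F283227)) (tt N29167 F280282) (tt N29855 F280283) (tt N30524 (iv F282598)) (tt N30551 (iv F282768)) (tt N29496 F280284) (tt N29166 (iv D62775)) (tt N30509 (iv F282504)) (tt N30574 (iv F282930)) (tt N29685 F280285))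
theorem Q30007 : ∀ i, i < 30007 → P i := stepQ 30006 Q30006 (allL N30006 (tt N29169 F280286) (tt N30580 (iv F282968)) (tt N30625 D63395) (tt N29168 (iv D62776)) (tt N30618 (iv F283199)) (tt N30525 (iv F282603)) (tt N29826 F280287) (tt N30606 (iv F283141)) (tt N30626 D63396) (tt N29847 F280288))
theorem Q30008 : ∀ i, i < 30008 → P i := stepQ 30007 Q30007 (allL N30007 (tt N30625 (iv F283232)) (tt N30007 F280289) (tt N29169 (iv D62777)) (tt N29562 F280290) (tt N30620 (iv F283208)) (tt N30526 (iv F282608)) (tt N29827 F280291) (tt N30607 (iv F283145)) (tt N30627 D63397) (tt N29848 F280292))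
theorem Q30009 : ∀ i, i < 30009 → P i := stepQ 30008 Q30008 (allL N30008 (tt N30626 (iv F283236)) (tt N29170 F280293) (tt N30627 (iv F283241)) (tt N29207 F280294) (tt N30622 (iv F283216)) (tt N30527 (iv F282613)) (tt N29642 F280295) (tt N30608 (iv F283151)) (tt N29169 (iv D62778)) (tt N30628 D63398))
theorem Q30010 : ∀ i, i < 30010 → P i := stepQ 30009 Q30009 (allL N30009 (tt N29600 F280296) (tt N30628 (iv F283244)) (tt N30009 F280297) (tt N29208 F280298) (tt N29365 F280299) (tt N30528 (iv F282618)) (tt N29489 F280300) (tt N29346 F280301) (tt N29788 F280302) (tt N29170 (iv D62779)))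
theorem Q30011 : ∀ i, i < 30011 → P i := stepQ 30010 Q30010 (allL N30010 (tt N29171 (iv D62780)) (tt N29411 F280303) (tt N29565 F280304) (tt N29505 F280305) (tt N30629 D63399) (tt N29184 F280306) (tt N29174 F280307) (tt N29519 F280308) (tt N29572 F280309) (tt N29211 F280310))
theorem Q30012 : ∀ i, i < 30012 → P i := stepQ 30011 Q30011 (allL N30011 (tt N30629 (iv F283250)) (tt N29172 F280311) (tt N29566 F280312) (tt N30630 D63400) (tt N29171 (iv D62781)) (tt N30631 D63401) (tt N29175 F280313) (tt N29520 F280314) (tt N29573 F280315) (tt N29212 F280316))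
theorem Q30013 : ∀ i, i < 30013 → P i := stepQ 30012 Q30012 (allL N30012 (tt N29413 F280317) (tt N30630 (iv F283257)) (tt N30012 F280318) (tt N29172 (iv D62782)) (tt N29507 F280319) (tt N30632 D63402) (tt N29176 F280320) (tt N29521 F280321) (tt N30633 D63403) (tt N29213 F280322))
theorem Q30014 : ∀ i, i < 30014 → P i := stepQ 30013 Q30013 (allL N30013 (tt N29414 F280323) (tt N30631 (iv F283262)) (tt N29173 F280324) (tt N30632 (iv F283271)) (tt N29186 F280325) (tt N29172 (iv D62783)) (tt N29377 F280326) (tt N29435 F280327) (tt N29424 F280328) (tt N29214 F280329))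
theorem Q30015 : ∀ i, i < 30015 → P i := stepQ 30014 Q30014 (allL N30014 (tt N29175 F280330) (tt N30504 (iv F282466)) (tt N29568 F280331) (tt N30634 D63404) (tt N29174 (iv D62784)) (tt N29800 F280332) (tt N30629 (iv F283253)) (tt N29558 F280333) (tt N29584 F280334) (tt N29215 F280335))
theorem Q30016 : ∀ i, i < 30016 → P i := stepQ 30015 Q30015 (allL N30015 (tt N30634 (iv F283282)) (tt N29176 F280336) (tt N30635 D63405) (tt N29175 (iv D62785)) (tt N30560 (iv F282835)) (tt N29801 F280337) (tt N30630 (iv F283259)) (tt N29559 F280338) (tt N30636 D63406) (tt N29216 F280339))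
theorem Q30017 : ∀ i, i < 30017 → P i := stepQ 30016 Q30016 (allL N30016 (tt N30506 (iv F282479)) (tt N30636 (iv F283291)) (tt N30016 F280340) (tt N29586 F280341) (tt N30563 (iv F282856)) (tt N29732 F280342) (tt N30633 (iv F283280)) (tt N29560 F280343) (tt N29176 (iv D62786)) (tt N30637 D63407))
theorem Q30018 : ∀ i, i < 30018 → P i := stepQ 30017 Q30017 (allL N30017 (tt N29178 F280344) (tt N29610 F280345) (tt N29182 F280346) (tt N29811 F280347) (tt N29177 (iv D62787)) (tt N29776 F280348) (tt N30558 (iv F282822)) (tt N29193 F280349) (tt N29824 F280350) (tt N29220 F280351))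
theorem Q30019 : ∀ i, i < 30019 → P i := stepQ 30018 Q30018 (allL N30018 (tt N29180 F280352) (tt N29840 F280353) (tt N29824 F280354) (tt N30638 D63408) (tt N29179 (iv D62788)) (tt N29655 F280355) (tt N30541 (iv F282711)) (tt N29198 F280356) (tt N29182 F280357) (tt N29659 F280358))
theorem Q30020 : ∀ i, i < 30020 → P i := stepQ 30019 Q30019 (allL N30019 (tt N30638 (iv F283301)) (tt N29181 F280359) (tt N30639 D63409) (tt N29180 (iv D62789)) (tt N30591 (iv F283045)) (tt N29656 F280360) (tt N30542 (iv F282717)) (tt N29199 F280361) (tt N30530 (iv F282633)) (tt N29661 F280362))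
theorem Q30021 : ∀ i, i < 30021 → P i := stepQ 30020 Q30020 (allL N30020 (tt N29183 F280363) (tt N29720 F280364) (tt N29776 F280365) (tt N30533 (iv F282654)) (tt N29583 F280366) (tt N29182 (iv D62790)) (tt N30609 (iv F283156)) (tt N29202 F280367) (tt N29655 F280368) (tt N29222 F280369))
theorem Q30022 : ∀ i, i < 30022 → P i := stepQ 30021 Q30021 (allL N30021 (tt N29185 F280370) (tt N29420 F280371) (tt N29575 F280372) (tt N29823 F280373) (tt N29184 (iv D62791)) (tt N30640 D63410) (tt N29187 F280374) (tt N29828 F280375) (tt N30602 (iv F283117)) (tt N29226 F280376))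
theorem Q30023 : ∀ i, i < 30023 → P i := stepQ 30022 Q30022 (allL N30022 (tt N30640 (iv F283311)) (tt N29186 F280377) (tt N29577 F280378) (tt N29639 F280379) (tt N30631 (iv F283264)) (tt N29185 (iv D62792)) (tt N30537 (iv F282683)) (tt N29438 F280380) (tt N30604 (iv F283130)) (tt N29227 F280381))
theorem Q30024 : ∀ i, i < 30024 → P i := stepQ 30023 Q30023 (allL N30023 (tt N29188 F280382) (tt N29733 F280383) (tt N29668 F280388) (tt N29187 (iv D62793)) (tt N29544 F280384) (tt N30539 (iv F282699)) (tt N29823 F280385) (tt N29206 F280386) (tt N30641 D63411) (tt N29228 F280387))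
theorem Q30025 : ∀ i, i < 30025 → P i := stepQ 30024 Q30024 (allL N30024 (tt N30641 (iv F283317)) (tt N29189 F280389) (tt N29644 F280390) (tt N30608 (iv F283148)) (tt N29343 F280391) (tt N30540 (iv F282705)) (tt N29755 F280392) (tt N29207 F280393) (tt N29188 (iv D62794)) (tt N29345 F280394))
theorem Q30026 : ∀ i, i < 30026 → P i := stepQ 30025 Q30025 (allL N30025 (tt N29191 F280395) (tt N29641 F280396) (tt N29198 F280397) (tt N30642 D63412) (tt N29190 (iv D62795)) (tt N29769 F280398) (tt N29739 F280399) (tt N29824 F280400) (tt N29193 F280401) (tt N29601 F280402))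
theorem Q30027 : ∀ i, i < 30027 → P i := stepQ 30026 Q30026 (allL N30026 (tt N30642 (iv F283324)) (tt N29192 F280403) (tt N30643 D63413) (tt N29191 (iv D62796)) (tt N29569 F280404) (tt N29770 F280405) (tt N29740 F280406) (tt N29825 F280407) (tt N29815 F280408) (tt N29602 F280409))
theorem Q30028 : ∀ i, i < 30028 → P i := stepQ 30027 Q30027 (allL N30027 (tt N29196 F280410) (tt N29722 F280411) (tt N29601 F280412) (tt N30644 D63414) (tt N29195 (iv D62797)) (tt N29615 F280413) (tt N29741 F280414) (tt N29659 F280415) (tt N29236 F280416) (tt N29198 F280417))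
theorem Q30029 : ∀ i, i < 30029 → P i := stepQ 30028 Q30028 (allL N30028 (tt N30644 (iv F283340)) (tt N29197 F280418) (tt N30645 D63415) (tt N29196 (iv D62798)) (tt N29694 F280419) (tt N29616 F280420) (tt N29742 F280421) (tt N29661 F280422) (tt N29738 F280423) (tt N29199 F280424))
theorem Q30030 : ∀ i, i < 30030 → P i := stepQ 30029 Q30029 (allL N30029 (tt N29199 F280425) (tt N30582 (iv F282984)) (tt N30646 D63416) (tt N29198 (iv D62799)) (tt N30613 (iv F283175)) (tt N30647 D63417) (tt N29743 F280426) (tt N30638 (iv F283304)) (tt N30545 (iv F282738)) (tt N30644 (iv F283347)))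
theorem Q30031 : ∀ i, i < 30031 → P i := stepQ 30030 Q30030 (allL N30030 (tt N29200 F280427) (tt N29829 F280428) (tt N29769 F280429) (tt N30647 (iv F283360)) (tt N29614 F280430) (tt N29198 (iv D62800)) (tt N29766 (iv F280434)) (tt N29655 F280431) (tt N29202 F280432) (tt N29615 F280433))
theorem Q30032 : ∀ i, i < 30032 → P i := stepQ 30031 Q30031 (allL N30031 (tt N30646 (iv F283356)) (tt N30031 F280435) (tt N29199 (iv D62801)) (tt N30643 (iv F283333)) (tt N30615 (iv F283184)) (tt N30648 D63418) (tt N29744 F280436) (tt N30639 (iv F283309)) (tt N30547 (iv F282748)) (tt N30645 (iv F283355)))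
theorem Q30033 : ∀ i, i < 30033 → P i := stepQ 30032 Q30032 (allL N30032 (tt N30647 (iv F283358)) (tt N29201 F280437) (tt N30648 (iv F283365)) (tt N29200 F280438) (tt N30649 D63419) (tt N29199 (iv D62802)) (tt N29767 (iv F280441)) (tt N29656 F280439) (tt N30548 (iv F282753)) (tt N29616 F280440))
theorem Q30034 : ∀ i, i < 30034 → P i := stepQ 30033 Q30033 (allL N30033 (tt N29521 F280442) (tt N30649 (iv F283370)) (tt N30033 F280443) (tt N29390 F280444) (tt N29201 (iv D62803)) (tt N30617 (iv F283193)) (tt N29462 F280445) (tt N29413 F280446) (tt N30549 (iv F282759)) (tt N29393 F280447))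
theorem Q30035 : ∀ i, i < 30035 → P i := stepQ 30034 Q30034 (allL N30034 (tt N29204 F280448) (tt N29811 F280449) (tt N29584 F280450) (tt N29610 F280451) (tt N29203 (iv D62804)) (tt N29457 F280452) (tt N29828 F280453) (tt N29205 F280454) (tt N29568 F280455) (tt N29241 F280456))
theorem Q30036 : ∀ i, i < 30036 → P i := stepQ 30035 Q30035 (allL N30035 (tt N29207 F280457) (tt N29739 F280458) (tt N29651 F280459) (tt N30626 (iv F283238)) (tt N29640 F280460) (tt N30550 (iv F282764)) (tt N29641 F280461) (tt N30641 (iv F283322)) (tt N29206 (iv D62805)) (tt N30650 D63420))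
theorem Q30037 : ∀ i, i < 30037 → P i := stepQ 30036 Q30036 (allL N30036 (tt N30650 (iv F283375)) (tt N29208 F280462) (tt N29648 F280463) (tt N30628 (iv F283245)) (tt N29329 F280464) (tt N30551 (iv F282769)) (tt N29488 F280465) (tt N29345 F280466) (tt N29244 F280467) (tt N29207 (iv D62806)))
theorem Q30038 : ∀ i, i < 30038 → P i := stepQ 30037 Q30037 (allL N30037 (tt N29209 (iv D62807)) (tt N29391 F280468) (tt N29305 F280469) (tt N29492 F280470) (tt N30651 D63421) (tt N29224 F280471) (tt N29333 F280472) (tt N29211 F280473) (tt N29303 F280474) (tt N29519 F280475))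
theorem Q30039 : ∀ i, i < 30039 → P i := stepQ 30038 Q30038 (allL N30038 (tt N30651 (iv F283382)) (tt N29210 F280476) (tt N29306 F280477) (tt N30652 D63422) (tt N29209 (iv D62808)) (tt N29434 F280478) (tt N29334 F280479) (tt N29212 F280480) (tt N29304 F280481) (tt N29520 F280482))
theorem Q30040 : ∀ i, i < 30040 → P i := stepQ 30039 Q30039 (allL N30039 (tt N29393 F280483) (tt N30652 (iv F283390)) (tt N30039 F280484) (tt N29210 (iv D62809)) (tt N29494 F280485) (tt N29419 F280486) (tt N29335 F280487) (tt N29213 F280488) (tt N29418 F280489) (tt N29521 F280490))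
theorem Q30041 : ∀ i, i < 30041 → P i := stepQ 30040 Q30040 (allL N30040 (tt N29212 F280491) (tt N29415 F280492) (tt N29605 F280493) (tt N30653 D63423) (tt N29211 (iv D62810)) (tt N30654 D63424) (tt N29215 F280494) (tt N30651 (iv F283387)) (tt N29320 F280495) (tt N30629 (iv F283256)))
theorem Q30042 : ∀ i, i < 30042 → P i := stepQ 30041 Q30041 (allL N30041 (tt N30653 (iv F283397)) (tt N29213 F280496) (tt N30655 D63425) (tt N29212 (iv D62811)) (tt N29509 F280497) (tt N30656 D63426) (tt N29216 F280498) (tt N30652 (iv F283394)) (tt N30657 D63427) (tt N30630 (iv F283261)))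
theorem Q30043 : ∀ i, i < 30043 → P i := stepQ 30042 Q30042 (allL N30042 (tt N30654 (iv F283401)) (tt N29214 F280499) (tt N29386 F280500) (tt N30656 (iv F283413)) (tt N29227 F280501) (tt N29212 (iv D62812)) (tt N29380 F280502) (tt N29434 F280503) (tt N29322 F280504) (tt N30631 (iv F283268)))
theorem Q30044 : ∀ i, i < 30044 → P i := stepQ 30043 Q30043 (allL N30043 (tt N29418 F280505) (tt N30656 (iv F283412)) (tt N30043 F280506) (tt N29214 F280507) (tt N29617 F280508) (tt N29213 (iv D62813)) (tt N29381 F280509) (tt N29419 F280510) (tt N29393 (iv F280511)) (tt N30632 (iv F283275)))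
theorem Q30045 : ∀ i, i < 30045 → P i := stepQ 30044 Q30044 (allL N30044 (tt N29419 F280512) (tt N30657 (iv F283418)) (tt N30044 F280513) (tt N29323 F280514) (tt N29510 F280515) (tt N29393 F280516) (tt N29217 F280517) (tt N29418 F280518) (tt N29213 (iv D62814)) (tt N30617 (iv F283196)))
theorem Q30046 : ∀ i, i < 30046 → P i := stepQ 30045 Q30045 (allL N30045 (tt N29216 F280519) (tt N30584 (iv F283000)) (tt N30658 D63428) (tt N29215 (iv D62815)) (tt N30564 (iv F282861)) (tt N29802 F280520) (tt N30653 (iv F283400)) (tt N29749 F280521) (tt N30659 D63429) (tt N30634 (iv F283285)))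
theorem Q30047 : ∀ i, i < 30047 → P i := stepQ 30046 Q30046 (allL N30046 (tt N30658 (iv F283424)) (tt N30046 F280522) (tt N29216 (iv D62816)) (tt N29608 F280523) (tt N30566 (iv F282873)) (tt N29803 F280524) (tt N30655 (iv F283411)) (tt N29750 F280525) (tt N30660 D63430) (tt N30635 (iv F283290)))
theorem Q30048 : ∀ i, i < 30048 → P i := stepQ 30047 Q30047 (allL N30047 (tt N30659 (iv F283428)) (tt N29217 F280526) (tt N30660 (iv F283433)) (tt N29784 F280527) (tt N30568 (iv F282884)) (tt N29783 F280528) (tt N30657 (iv F283422)) (tt N29751 F280529) (tt N29216 (iv D62817)) (tt N30661 D63431))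
theorem Q30049 : ∀ i, i < 30049 → P i := stepQ 30048 Q30048 (allL N30048 (tt N30587 (iv F283016)) (tt N30661 (iv F283436)) (tt N30048 F280530) (tt N29781 F280531) (tt N30569 (iv F282891)) (tt N29780 F280532) (tt N30617 (iv F283194)) (tt N29752 F280533) (tt N30637 (iv F283300)) (tt N29217 (iv D62818)))
theorem Q30050 : ∀ i, i < 30050 → P i := stepQ 30049 Q30049 (allL N30049 (tt N29219 F280534) (tt N29220 F280535) (tt N29237 F280536) (tt N29241 F280537) (tt N29218 (iv D62819)) (tt N29234 F280538) (tt N29455 F280539) (tt N29231 F280540) (tt N29235 F280541) (tt N29610 F280542))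
theorem Q30051 : ∀ i, i < 30051 → P i := stepQ 30050 Q30050 (allL N30050 (tt N29221 F280543) (tt N29234 F280544) (tt N29222 F280545) (tt N29454 F280546) (tt N29230 F280547) (tt N29220 (iv D62820)) (tt N29243 F280548) (tt N29235 F280549) (tt N29231 F280550) (tt N29776 F280551))
theorem Q30052 : ∀ i, i < 30052 → P i := stepQ 30051 Q30051 (allL N30051 (tt N29223 F280552) (tt N29713 F280553) (tt N29243 F280554) (tt N30555 (iv F282799)) (tt N29515 F280555) (tt N30572 (iv F282914)) (tt N29222 (iv D62821)) (tt N29536 F280556) (tt N29242 F280557) (tt N30609 (iv F283159)))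
theorem Q30053 : ∀ i, i < 30053 → P i := stepQ 30052 Q30052 (allL N30052 (tt N29225 F280558) (tt N29396 F280559) (tt N29629 F280560) (tt N29455 F280561) (tt N29224 (iv D62822)) (tt N29437 (iv F280566)) (tt N29241 F280562) (tt N29226 F280563) (tt N29282 F280564) (tt N29828 F280565))
theorem Q30054 : ∀ i, i < 30054 → P i := stepQ 30053 Q30053 (allL N30053 (tt N29227 F280567) (tt N29426 F280568) (tt N29632 F280569) (tt N29637 F280570) (tt N30654 (iv F283404)) (tt N29226 (iv D62823)) (tt N30557 (iv F282815)) (tt N29437 F280571) (tt N29324 F280572) (tt N30640 (iv F283316)))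
theorem Q30055 : ∀ i, i < 30055 → P i := stepQ 30054 Q30054 (allL N30054 (tt N29229 F280573) (tt N29702 F280574) (tt N29228 (iv D62824)) (tt N29636 F280575) (tt N29531 F280576) (tt N29822 F280577) (tt N29821 F280578) (tt N29242 F280579) (tt N29536 F280580) (tt N29668 F280581))
theorem Q30056 : ∀ i, i < 30056 → P i := stepQ 30055 Q30055 (allL N30055 (tt N29233 F280582) (tt N29776 F280583) (tt N29236 F280584) (tt N29457 F280585) (tt N29232 (iv D62825)) (tt N29610 F280586) (tt N29768 F280587) (tt N29440 F280588) (tt N29601 F280589) (tt N29234 F280590))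
theorem Q30057 : ∀ i, i < 30057 → P i := stepQ 30056 Q30056 (allL N30056 (tt N29238 F280591) (tt N29853 F280592) (tt N29455 F280593) (tt N29764 F280594) (tt N29571 F280595) (tt N29677 F280596) (tt N29237 (iv D62826)) (tt N29821 F280597) (tt N29240 F280598) (tt N29621 F280599))
theorem Q30058 : ∀ i, i < 30058 → P i := stepQ 30057 Q30057 (allL N30057 (tt N29244 F280600) (tt N29768 F280601) (tt N30609 (iv F283155)) (tt N30503 (iv F282460)) (tt N29332 F280602) (tt N30575 (iv F282933)) (tt N29776 F280603) (tt N29354 F280604) (tt N30650 (iv F283381)) (tt N29243 (iv D62827)))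
theorem Q30059 : ∀ i, i < 30059 → P i := stepQ 30058 Q30058 (allL N30058 (tt N29248 F280605) (tt N29272 F280606) (tt N29431 F280607) (tt N29310 F280608) (tt N29247 (iv D62828)) (tt N29367 F280609) (tt N29408 F280610) (tt N29276 F280611) (tt N30576 (iv F282942)) (tt N29252 F280612))
theorem Q30060 : ∀ i, i < 30060 → P i := stepQ 30059 Q30059 (allL N30059 (tt N29250 F280613) (tt N29276 F280614) (tt N29691 F280615) (tt N29366 F280616) (tt N29249 (iv D62829)) (tt N29312 F280617) (tt N29688 F280618) (tt N29272 F280619) (tt N29807 F280620) (tt N29253 F280621))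
theorem Q30061 : ∀ i, i < 30061 → P i := stepQ 30060 Q30060 (allL N30060 (tt N29254 (iv D62830)) (tt N29778 F280622) (tt N29411 F280623) (tt N29268 F280624) (tt N30662 D63432) (tt N29403 F280625) (tt N29441 F280626) (tt N29786 F280627) (tt N29260 F280628) (tt N29399 F280629))
theorem Q30062 : ∀ i, i < 30062 → P i := stepQ 30061 Q30061 (allL N30061 (tt N30662 (iv F283440)) (tt N29255 F280630) (tt N29412 F280631) (tt N30663 D63433) (tt N29254 (iv D62831)) (tt N30664 D63434) (tt N29442 F280632) (tt N29787 F280633) (tt N29261 F280634) (tt N29400 F280635))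
theorem Q30063 : ∀ i, i < 30063 → P i := stepQ 30062 Q30062 (allL N30062 (tt N29780 F280636) (tt N30663 (iv F283447)) (tt N30062 F280637) (tt N29255 (iv D62832)) (tt N29270 F280638) (tt N30587 (iv F283020)) (tt N29443 F280639) (tt N29788 F280640) (tt N29346 F280641) (tt N29401 F280642))
theorem Q30064 : ∀ i, i < 30064 → P i := stepQ 30063 Q30063 (allL N30063 (tt N29781 F280643) (tt N30664 (iv F283453)) (tt N29256 F280644) (tt N30587 (iv F283018)) (tt N29405 F280645) (tt N29255 (iv D62833)) (tt N29435 F280646) (tt N29789 F280647) (tt N29262 F280648) (tt N29402 F280649))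
theorem Q30065 : ∀ i, i < 30065 → P i := stepQ 30064 Q30064 (allL N30064 (tt N29257 (iv D62834)) (tt N29786 F280650) (tt N29374 F280651) (tt N29263 F280652) (tt N30665 D63435) (tt N29260 F280653) (tt N29448 F280654) (tt N29778 F280655) (tt N29403 F280656) (tt N29368 F280657))
theorem Q30066 : ∀ i, i < 30066 → P i := stepQ 30065 Q30065 (allL N30065 (tt N30665 (iv F283460)) (tt N29258 F280658) (tt N29375 F280659) (tt N30666 D63436) (tt N29257 (iv D62835)) (tt N30667 D63437) (tt N29449 F280660) (tt N29779 F280661) (tt N29404 F280662) (tt N29369 F280663))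
theorem Q30067 : ∀ i, i < 30067 → P i := stepQ 30066 Q30066 (allL N30066 (tt N29788 F280664) (tt N30666 (iv F283467)) (tt N30066 F280665) (tt N29258 (iv D62836)) (tt N29265 F280666) (tt N29752 (iv F280671)) (tt N29450 F280667) (tt N29780 F280668) (tt N29600 F280669) (tt N29370 F280670))
theorem Q30068 : ∀ i, i < 30068 → P i := stepQ 30067 Q30067 (allL N30067 (tt N29789 F280672) (tt N30667 (iv F283474)) (tt N29259 F280673) (tt N29752 F280674) (tt N29262 F280675) (tt N29258 (iv D62837)) (tt N29387 F280676) (tt N29781 F280677) (tt N29405 F280678) (tt N29371 F280679))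
theorem Q30069 : ∀ i, i < 30069 → P i := stepQ 30068 Q30068 (allL N30068 (tt N29261 F280680) (tt N29793 F280681) (tt N30535 (iv F282667)) (tt N29354 F280682) (tt N29260 (iv D62838)) (tt N30668 D63438) (tt N29451 F280683) (tt N30503 (iv F282463)) (tt N30662 (iv F283445)) (tt N29444 F280684))
theorem Q30070 : ∀ i, i < 30070 → P i := stepQ 30069 Q30069 (allL N30069 (tt N30668 (iv F283482)) (tt N29262 F280685) (tt N30537 (iv F282680)) (tt N29355 F280686) (tt N30667 (iv F283477)) (tt N29261 (iv D62839)) (tt N29577 F280687) (tt N30502 (iv F282455)) (tt N30664 (iv F283458)) (tt N29445 F280688))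
theorem Q30071 : ∀ i, i < 30071 → P i := stepQ 30070 Q30070 (allL N30070 (tt N29264 F280689) (tt N29807 F280690) (tt N29699 F280691) (tt N30669 D63439) (tt N29263 (iv D62840)) (tt N29358 F280692) (tt N29804 F280693) (tt N30576 (iv F282941)) (tt N29276 F280694) (tt N29446 F280695))
theorem Q30072 : ∀ i, i < 30072 → P i := stepQ 30071 Q30071 (allL N30071 (tt N30669 (iv F283487)) (tt N29265 F280696) (tt N30670 D63440) (tt N29264 (iv D62841)) (tt N30666 (iv F283468)) (tt N29359 F280697) (tt N29609 F280698) (tt N30577 (iv F282948)) (tt N29606 F280699) (tt N29447 F280700))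
theorem Q30073 : ∀ i, i < 30073 → P i := stepQ 30072 Q30072 (allL N30072 (tt N29267 F280701) (tt N29388 F280702) (tt N29272 F280703) (tt N29688 F280704) (tt N29266 (iv D62842)) (tt N29287 F280705) (tt N29366 F280706) (tt N29691 F280707) (tt N29490 F280708) (tt N29278 F280709))
theorem Q30074 : ∀ i, i < 30074 → P i := stepQ 30073 Q30073 (allL N30073 (tt N29269 F280710) (tt N30576 (iv F282937)) (tt N29490 F280711) (tt N30671 D63441) (tt N29268 (iv D62843)) (tt N30672 D63442) (tt N29782 F280712) (tt N29807 F280713) (tt N29272 F280714) (tt N29812 F280715))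
theorem Q30075 : ∀ i, i < 30075 → P i := stepQ 30074 Q30074 (allL N30074 (tt N30671 (iv F283499)) (tt N29270 F280716) (tt N30673 D63443) (tt N29269 (iv D62844)) (tt N30663 (iv F283448)) (tt N30674 D63444) (tt N29783 F280717) (tt N29808 F280718) (tt N29379 F280719) (tt N29813 F280720))
theorem Q30076 : ∀ i, i < 30076 → P i := stepQ 30075 Q30075 (allL N30075 (tt N30672 (iv F283504)) (tt N29271 F280721) (tt N29286 F280722) (tt N30674 (iv F283521)) (tt N29283 F280723) (tt N29269 (iv D62845)) (tt N29392 (iv F280727)) (tt N29300 F280724) (tt N29273 F280725) (tt N29461 F280726))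
theorem Q30077 : ∀ i, i < 30077 → P i := stepQ 30076 Q30076 (allL N30076 (tt N29335 F280728) (tt N30674 (iv F283519)) (tt N30076 F280729) (tt N29271 F280730) (tt N29613 F280735) (tt N29270 (iv D62846)) (tt N29393 F280731) (tt N29301 F280732) (tt N29381 F280733) (tt N29462 F280734))
theorem Q30078 : ∀ i, i < 30078 → P i := stepQ 30077 Q30077 (allL N30077 (tt N29273 F280736) (tt N29367 F280737) (tt N29287 F280738) (tt N29383 F280739) (tt N29284 F280740) (tt N29272 (iv D62847)) (tt N29397 (iv F280743)) (tt N29312 F280741) (tt N30672 (iv F283509)) (tt N29280 F280742))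
theorem Q30079 : ∀ i, i < 30079 → P i := stepQ 30078 Q30078 (allL N30078 (tt N29275 F280744) (tt N29688 F280745) (tt N29312 F280746) (tt N29388 F280747) (tt N29274 (iv D62848)) (tt N29691 F280748) (tt N29276 F280749) (tt N29287 F280750) (tt N29804 F280751) (tt N29281 F280752))
theorem Q30080 : ∀ i, i < 30080 → P i := stepQ 30079 Q30079 (allL N30079 (tt N29277 F280753) (tt N29366 F280754) (tt N29320 F280760) (tt N29276 (iv D62849)) (tt N29302 F280755) (tt N29385 F280756) (tt N29388 F280757) (tt N29310 F280758) (tt N29605 (iv F280761)) (tt N29282 F280759))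
theorem Q30081 : ∀ i, i < 30081 → P i := stepQ 30080 Q30080 (allL N30080 (tt N29283 (iv D62850)) (tt N29333 F280762) (tt N29285 F280763) (tt N29611 F280764) (tt N30672 (iv F283507)) (tt N29288 F280765) (tt N29391 F280766) (tt N29299 F280767) (tt N29284 F280768) (tt N29460 F280769))
theorem Q30082 : ∀ i, i < 30082 → P i := stepQ 30081 Q30081 (allL N30081 (tt N29286 F280770) (tt N29452 F280771) (tt N30672 (iv F283506)) (tt N29850 (iv F280777)) (tt N29285 (iv D62851)) (tt N29490 F280772) (tt N29790 F280773) (tt N29804 F280774) (tt N29287 F280775) (tt N29805 F280776))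
theorem Q30083 : ∀ i, i < 30083 → P i := stepQ 30082 Q30082 (allL N30082 (tt N29289 (iv D62852)) (tt N29344 F280778) (tt N29734 F280779) (tt N29305 F280780) (tt N30675 D63445) (tt N29618 F280781) (tt N29704 F280782) (tt N29598 F280783) (tt N29295 F280784) (tt N29730 F280785))
theorem Q30084 : ∀ i, i < 30084 → P i := stepQ 30083 Q30083 (allL N30083 (tt N30675 (iv F283527)) (tt N29290 F280786) (tt N29735 F280787) (tt N30676 D63446) (tt N29289 (iv D62853)) (tt N30677 D63447) (tt N29705 F280788) (tt N29599 F280789) (tt N29296 F280790) (tt N29731 F280791))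
theorem Q30085 : ∀ i, i < 30085 → P i := stepQ 30084 Q30084 (allL N30084 (tt N29346 F280792) (tt N30676 (iv F283534)) (tt N30084 F280793) (tt N29290 (iv D62854)) (tt N29307 F280794) (tt N30637 (iv F283298)) (tt N29706 F280795) (tt N29600 F280796) (tt N29780 F280797) (tt N29732 F280798))
theorem Q30086 : ∀ i, i < 30086 → P i := stepQ 30085 Q30085 (allL N30085 (tt N29347 F280799) (tt N30677 (iv F283540)) (tt N29291 F280800) (tt N30637 (iv F283297)) (tt N29620 F280801) (tt N29290 (iv D62855)) (tt N30678 D63448) (tt N29589 F280802) (tt N29297 F280803) (tt N29586 F280804))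
theorem Q30087 : ∀ i, i < 30087 → P i := stepQ 30086 Q30086 (allL N30086 (tt N29348 F280805) (tt N29681 F280806) (tt N30678 (iv F283547)) (tt N30086 F280807) (tt N29341 F280808) (tt N29486 F280809) (tt N29291 (iv D62856)) (tt N29595 F280810) (tt N29298 F280811) (tt N29541 F280812))
theorem Q30088 : ∀ i, i < 30088 → P i := stepQ 30087 Q30087 (allL N30087 (tt N29292 (iv D62857)) (tt N29349 F280813) (tt N29754 F280814) (tt N29299 F280815) (tt N30679 D63449) (tt N29295 F280816) (tt N29643 F280817) (tt N29611 F280818) (tt N29618 F280819) (tt N29463 F280820))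
theorem Q30089 : ∀ i, i < 30089 → P i := stepQ 30088 Q30088 (allL N30088 (tt N30679 (iv F283553)) (tt N29293 F280821) (tt N29755 F280822) (tt N30680 D63450) (tt N29292 (iv D62858)) (tt N30681 D63451) (tt N29644 F280823) (tt N29612 F280824) (tt N29619 F280825) (tt N29464 F280826))
theorem Q30090 : ∀ i, i < 30090 → P i := stepQ 30089 Q30089 (allL N30089 (tt N29351 F280827) (tt N30680 (iv F283560)) (tt N30089 F280828) (tt N29293 (iv D62859)) (tt N29301 F280829) (tt N30682 D63452) (tt N29645 F280830) (tt N29613 F280831) (tt N30683 D63453) (tt N29465 F280832))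
theorem Q30091 : ∀ i, i < 30091 → P i := stepQ 30090 Q30090 (allL N30090 (tt N29352 F280833) (tt N30681 (iv F283565)) (tt N29294 F280834) (tt N30682 (iv F283573)) (tt N29297 F280835) (tt N29293 (iv D62860)) (tt N30684 D63454) (tt N29597 F280836) (tt N29620 F280837) (tt N29466 F280838))
theorem Q30092 : ∀ i, i < 30092 → P i := stepQ 30091 Q30091 (allL N30091 (tt N29353 F280839) (tt N29595 F280840) (tt N30684 (iv F283584)) (tt N30091 F280841) (tt N29298 F280842) (tt N29342 F280843) (tt N29294 (iv D62861)) (tt N29681 F280844) (tt N29341 F280845) (tt N29467 F280846))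
theorem Q30093 : ∀ i, i < 30093 → P i := stepQ 30092 Q30092 (allL N30092 (tt N29296 F280847) (tt N29354 F280848) (tt N29759 F280849) (tt N29793 F280850) (tt N29295 (iv D62862)) (tt N30685 D63455) (tt N29710 F280851) (tt N29768 F280852) (tt N30675 (iv F283532)) (tt N29468 F280853))
theorem Q30094 : ∀ i, i < 30094 → P i := stepQ 30093 Q30093 (allL N30093 (tt N30685 (iv F283590)) (tt N29297 F280854) (tt N29760 F280855) (tt N29794 F280856) (tt N30681 (iv F283567)) (tt N29296 (iv D62863)) (tt N30686 D63456) (tt N29675 F280857) (tt N30677 (iv F283544)) (tt N29469 F280858))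
theorem Q30095 : ∀ i, i < 30095 → P i := stepQ 30094 Q30094 (allL N30094 (tt N29356 F280859) (tt N30686 (iv F283596)) (tt N29298 F280860) (tt N29480 F280861) (tt N30684 (iv F283585)) (tt N29479 F280862) (tt N29297 (iv D62864)) (tt N29635 F280863) (tt N30678 (iv F283551)) (tt N29470 F280864))
theorem Q30096 : ∀ i, i < 30096 → P i := stepQ 30095 Q30095 (allL N30095 (tt N29300 F280865) (tt N29358 F280866) (tt N29804 F280867) (tt N30687 D63457) (tt N29299 (iv D62865)) (tt N29807 F280868) (tt N29699 F280869) (tt N30672 (iv F283508)) (tt N29312 F280870) (tt N29471 F280871))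
theorem Q30097 : ∀ i, i < 30097 → P i := stepQ 30096 Q30096 (allL N30096 (tt N30687 (iv F283602)) (tt N29301 F280872) (tt N30688 D63458) (tt N29300 (iv D62866)) (tt N30680 (iv F283561)) (tt N29808 F280873) (tt N29700 F280874) (tt N30674 (iv F283523)) (tt N30689 D63459) (tt N29472 F280875))
theorem Q30098 : ∀ i, i < 30098 → P i := stepQ 30097 Q30097 (allL N30097 (tt N29360 F280876) (tt N30689 (iv F283613)) (tt N30097 F280877) (tt N29314 F280878) (tt N30683 (iv F283580)) (tt N29365 F280879) (tt N29701 F280880) (tt N29381 F280881) (tt N29301 (iv D62867)) (tt N30623 (iv F283226)))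
theorem Q30099 : ∀ i, i < 30099 → P i := stepQ 30098 Q30098 (allL N30098 (tt N29304 F280882) (tt N29397 F280883) (tt N29310 F280884) (tt N29433 F280885) (tt N29303 (iv D62868)) (tt N29432 F280886) (tt N29367 F280887) (tt N29320 F280888) (tt N30651 (iv F283388)) (tt N29317 F280889))
theorem Q30100 : ∀ i, i < 30100 → P i := stepQ 30099 Q30099 (allL N30099 (tt N29306 F280890) (tt N29378 F280891) (tt N30651 (iv F283384)) (tt N30690 D63460) (tt N29305 (iv D62869)) (tt N30691 D63461) (tt N29798 F280892) (tt N29605 F280893) (tt N29310 F280894) (tt N30602 (iv F283118)))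
theorem Q30101 : ∀ i, i < 30101 → P i := stepQ 30100 Q30100 (allL N30100 (tt N30690 (iv F283618)) (tt N29307 F280895) (tt N30692 D63462) (tt N29306 (iv D62870)) (tt N30676 (iv F283535)) (tt N30693 D63463) (tt N29799 F280896) (tt N29606 F280897) (tt N30577 (iv F282949)) (tt N30603 (iv F283124)))
theorem Q30102 : ∀ i, i < 30102 → P i := stepQ 30101 Q30101 (allL N30101 (tt N30691 (iv F283622)) (tt N29308 F280898) (tt N29434 F280899) (tt N30693 (iv F283633)) (tt N29428 F280900) (tt N29306 (iv D62871)) (tt N29417 F280901) (tt N29386 F280902) (tt N29311 F280903) (tt N30604 (iv F283131)))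
theorem Q30103 : ∀ i, i < 30103 → P i := stepQ 30102 Q30102 (allL N30102 (tt N29381 F280904) (tt N30693 (iv F283632)) (tt N30102 F280905) (tt N29308 F280906) (tt N30694 D63464) (tt N29307 (iv D62872)) (tt N29418 F280907) (tt N29360 F280908) (tt N29335 F280909) (tt N30605 (iv F283138)))
theorem Q30104 : ∀ i, i < 30104 → P i := stepQ 30103 Q30103 (allL N30103 (tt N29311 F280910) (tt N29383 F280911) (tt N29432 F280912) (tt N29367 F280913) (tt N29436 F280914) (tt N29310 (iv D62873)) (tt N29433 F280915) (tt N29385 F280916) (tt N30691 (iv F283628)) (tt N29324 F280917))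
theorem Q30105 : ∀ i, i < 30105 → P i := stepQ 30104 Q30104 (allL N30104 (tt N29313 F280918) (tt N29385 F280919) (tt N29785 F280920) (tt N29312 (iv D62874)) (tt N29797 F280921) (tt N29366 F280922) (tt N29796 F280923) (tt N29383 F280924) (tt N30695 D63465) (tt N29325 F280925))
theorem Q30106 : ∀ i, i < 30106 → P i := stepQ 30105 Q30105 (allL N30105 (tt N30695 (iv F283643)) (tt N29314 F280926) (tt N29784 F280927) (tt N30689 (iv F283614)) (tt N29502 F280928) (tt N29364 F280929) (tt N29792 F280930) (tt N29380 F280931) (tt N29313 (iv D62875)) (tt N30696 D63466))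
theorem Q30107 : ∀ i, i < 30107 → P i := stepQ 30106 Q30106 (allL N30106 (tt N29387 F280932) (tt N30696 (iv F283650)) (tt N29315 F280933) (tt N30623 (iv F283222)) (tt N29480 F280934) (tt N29362 F280935) (tt N29789 F280936) (tt N29377 F280937) (tt N29327 F280938) (tt N29314 (iv D62876)))
theorem Q30108 : ∀ i, i < 30108 → P i := stepQ 30107 Q30107 (allL N30107 (tt N29318 F280939) (tt N29436 F280940) (tt N29777 F280941) (tt N29317 (iv D62877)) (tt N29383 F280942) (tt N29382 (iv F280946)) (tt N29324 F280943) (tt N29797 F280944) (tt N30557 (iv F282817)) (tt N29433 F280945))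
theorem Q30109 : ∀ i, i < 30109 → P i := stepQ 30108 Q30108 (allL N30108 (tt N29319 F280947) (tt N29797 F280948) (tt N29324 F280949) (tt N29382 F280950) (tt N29385 F280951) (tt N29317 (iv D62878)) (tt N29777 F280952) (tt N29436 F280953) (tt N29632 F280954) (tt N29432 F280955))
theorem Q30110 : ∀ i, i < 30110 → P i := stepQ 30109 Q30109 (allL N30109 (tt N29321 F280956) (tt N29432 F280957) (tt N29796 F280958) (tt N29320 (iv D62879)) (tt N29325 F280959) (tt N29397 (iv F280963)) (tt N29785 F280960) (tt N29433 F280961) (tt N30697 D63467) (tt N29797 F280962))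
theorem Q30111 : ∀ i, i < 30111 → P i := stepQ 30110 Q30110 (allL N30110 (tt N29322 F280964) (tt N29433 F280965) (tt N29385 F280966) (tt N29397 F280967) (tt N29324 F280968) (tt N29320 (iv D62880)) (tt N29383 F280969) (tt N29432 F280970) (tt N30654 (iv F283407)) (tt N29436 F280971))
theorem Q30112 : ∀ i, i < 30112 → P i := stepQ 30111 Q30111 (allL N30111 (tt N30697 (iv F283657)) (tt N29323 F280972) (tt N29792 F280973) (tt N30657 (iv F283419)) (tt N29326 F280974) (tt N29392 F280975) (tt N29784 F280976) (tt N29417 F280977) (tt N29321 (iv D62881)) (tt N30698 D63468))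
theorem Q30113 : ∀ i, i < 30113 → P i := stepQ 30112 Q30112 (allL N30112 (tt N29435 F280978) (tt N30698 (iv F283664)) (tt N29328 F280979) (tt N30617 (iv F283192)) (tt N29327 F280980) (tt N29390 F280981) (tt N29781 F280982) (tt N29414 F280983) (tt N29480 F280984) (tt N29323 (iv D62882)))
theorem Q30114 : ∀ i, i < 30114 → P i := stepQ 30113 Q30113 (allL N30113 (tt N29326 F280985) (tt N29437 F280986) (tt N29795 F280987) (tt N29513 F280988) (tt N30697 (iv F283660)) (tt N29396 F280989) (tt N30501 (iv F282447)) (tt N29426 F280990) (tt N29325 (iv D62883)) (tt N30699 D63469))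
theorem Q30115 : ∀ i, i < 30115 → P i := stepQ 30114 Q30114 (allL N30114 (tt N30699 (iv F283671)) (tt N29327 F280991) (tt N29794 F280992) (tt N29514 F280993) (tt N30698 (iv F283666)) (tt N29395 F280994) (tt N30502 (iv F282454)) (tt N29422 F280995) (tt N30696 (iv F283656)) (tt N29326 (iv D62884)))
theorem Q30116 : ∀ i, i < 30116 → P i := stepQ 30115 Q30115 (allL N30115 (tt N29329 (iv D62885)) (tt N29598 F280996) (tt N29647 F280997) (tt N29363 F280998) (tt N30650 (iv F283378)) (tt N29495 F280999) (tt N29487 F281000) (tt N29344 F281001) (tt N29332 F281002) (tt N29640 F281003))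
theorem Q30117 : ∀ i, i < 30117 → P i := stepQ 30116 Q30116 (allL N30116 (tt N29330 (iv D62886)) (tt N29611 F281004) (tt N29835 F281005) (tt N29333 F281006) (tt N30700 D63470) (tt N29332 F281007) (tt N29492 F281008) (tt N29349 F281009) (tt N29495 F281010) (tt N29516 F281011))
theorem Q30118 : ∀ i, i < 30118 → P i := stepQ 30117 Q30117 (allL N30117 (tt N30700 (iv F283677)) (tt N29331 F281012) (tt N29836 F281013) (tt N30701 D63471) (tt N29330 (iv D62887)) (tt N30574 (iv F282927)) (tt N29493 F281014) (tt N29350 F281015) (tt N29496 F281016) (tt N29517 F281017))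
theorem Q30119 : ∀ i, i < 30119 → P i := stepQ 30118 Q30118 (allL N30118 (tt N29613 F281018) (tt N30701 (iv F283684)) (tt N30118 F281019) (tt N29331 (iv D62888)) (tt N29335 F281020) (tt N30569 (iv F282892)) (tt N29494 F281021) (tt N29351 F281022) (tt N30694 (iv F283642)) (tt N29518 F281023))
theorem Q30120 : ∀ i, i < 30120 → P i := stepQ 30119 Q30119 (allL N30119 (tt N29334 F281024) (tt N30672 (iv F283505)) (tt N29798 F281025) (tt N30702 D63472) (tt N29333 (iv D62889)) (tt N30576 (iv F282939)) (tt N30651 (iv F283386)) (tt N29358 F281026) (tt N29367 F281027) (tt N29522 F281028))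
theorem Q30121 : ∀ i, i < 30121 → P i := stepQ 30120 Q30120 (allL N30120 (tt N30702 (iv F283689)) (tt N29335 F281029) (tt N30703 D63473) (tt N29334 (iv D62890)) (tt N30701 (iv F283685)) (tt N30577 (iv F282946)) (tt N30652 (iv F283393)) (tt N29359 F281030) (tt N30693 (iv F283636)) (tt N29523 F281031))
theorem Q30122 : ∀ i, i < 30122 → P i := stepQ 30121 Q30121 (allL N30121 (tt N29337 F281032) (tt N30588 (iv F283025)) (tt N29354 F281033) (tt N30704 D63474) (tt N29336 (iv D62891)) (tt N30705 D63475) (tt N29753 F281034) (tt N30609 (iv F283157)) (tt N30517 (iv F282560)) (tt N29536 F281035))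
theorem Q30123 : ∀ i, i < 30123 → P i := stepQ 30122 Q30122 (allL N30122 (tt N30704 (iv F283696)) (tt N29338 F281036) (tt N30536 (iv F282673)) (tt N29337 (iv D62892)) (tt N29714 F281037) (tt N30706 D63476) (tt N29669 F281038) (tt N30534 (iv F282663)) (tt N30707 D63477) (tt N29537 F281039))
theorem Q30124 : ∀ i, i < 30124 → P i := stepQ 30123 Q30123 (allL N30123 (tt N30705 (iv F283700)) (tt N29339 F281040) (tt N29355 F281041) (tt N30706 (iv F283705)) (tt N30514 (iv F282538)) (tt N29337 (iv D62893)) (tt N30708 D63478) (tt N30571 F282908) (tt N30519 (iv F282571)) (tt N29538 F281042))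
theorem Q30125 : ∀ i, i < 30125 → P i := stepQ 30124 Q30124 (allL N30124 (tt N30511 (iv F282515)) (tt N30706 (iv F283703)) (tt N29341 F281043) (tt N29339 F281044) (tt N30678 (iv F283548)) (tt N29338 (iv D62894)) (tt N29620 F281045) (tt N29761 F281046) (tt N30684 (iv F283588)) (tt N29539 F281047))
theorem Q30126 : ∀ i, i < 30126 → P i := stepQ 30125 Q30125 (allL N30125 (tt N29687 F281048) (tt N30707 (iv F283709)) (tt N29342 F281049) (tt N30521 (iv F282581)) (tt N29686 F281050) (tt N30684 (iv F283586)) (tt N29646 F281051) (tt N30532 (iv F282648)) (tt N29338 (iv D62895)) (tt N30522 (iv F282591)))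
theorem Q30127 : ∀ i, i < 30127 → P i := stepQ 30126 Q30126 (allL N30126 (tt N30510 (iv F282507)) (tt N30708 (iv F283712)) (tt N29340 F281052) (tt N29620 F281053) (tt N30516 (iv F282550)) (tt N29594 F281054) (tt N29339 (iv D62896)) (tt N29624 F281055) (tt N30522 (iv F282590)) (tt N29540 F281056))
theorem Q30128 : ∀ i, i < 30128 → P i := stepQ 30127 Q30127 (allL N30127 (tt N29343 (iv D62897)) (tt N29730 F281057) (tt N29643 F281058) (tt N29374 F281059) (tt N30641 (iv F283320)) (tt N29695 F281060) (tt N29754 F281061) (tt N29640 F281062) (tt N29544 F281063) (tt N29344 F281064))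
theorem Q30129 : ∀ i, i < 30129 → P i := stepQ 30128 Q30128 (allL N30128 (tt N29345 F281065) (tt N30675 (iv F283528)) (tt N30517 (iv F282557)) (tt N30709 D63479) (tt N29344 (iv D62898)) (tt N30710 D63480) (tt N29757 F281066) (tt N30650 (iv F283380)) (tt N29354 F281067) (tt N30641 (iv F283323)))
theorem Q30130 : ∀ i, i < 30130 → P i := stepQ 30129 Q30129 (allL N30129 (tt N30709 (iv F283718)) (tt N29346 F281068) (tt N30711 D63481) (tt N29345 (iv D62899)) (tt N29379 F281069) (tt N30712 D63482) (tt N29758 F281070) (tt N30628 (iv F283248)) (tt N30663 (iv F283451)) (tt N30608 F283152))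
theorem Q30131 : ∀ i, i < 30131 → P i := stepQ 30130 Q30130 (allL N30130 (tt N30710 (iv F283721)) (tt N29347 F281071) (tt N30519 (iv F282568)) (tt N30712 (iv F283727)) (tt N30509 (iv F282503)) (tt N29345 (iv D62900)) (tt N30713 D63483) (tt N30551 (iv F282771)) (tt N29355 F281072) (tt N30540 (iv F282707)))
theorem Q30132 : ∀ i, i < 30132 → P i := stepQ 30131 Q30131 (allL N30131 (tt N30637 (iv F283295)) (tt N30712 (iv F283726)) (tt N30131 F281073) (tt N29347 F281074) (tt N30714 D63484) (tt N29346 (iv D62901)) (tt N30715 D63485) (tt N30528 (iv F282620)) (tt N30587 (iv F283023)) (tt N30506 F282486))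
theorem Q30133 : ∀ i, i < 30133 → P i := stepQ 30132 Q30132 (allL N30132 (tt N30678 (iv F283546)) (tt N30713 (iv F283728)) (tt N29348 F281075) (tt N30715 (iv F283738)) (tt N30511 (iv F282518)) (tt N29578 F281076) (tt N29347 (iv D62902)) (tt N30599 (iv F283100)) (tt N29356 F281077) (tt N30538 (iv F282694)))
theorem Q30134 : ∀ i, i < 30134 → P i := stepQ 30133 Q30133 (allL N30133 (tt N29350 F281078) (tt N30679 (iv F283554)) (tt N30512 (iv F282525)) (tt N30716 D63486) (tt N29349 (iv D62903)) (tt N30717 D63487) (tt N29745 F281079) (tt N30700 (iv F283681)) (tt N30507 (iv F282492)) (tt N29550 F281080))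
theorem Q30135 : ∀ i, i < 30135 → P i := stepQ 30134 Q30134 (allL N30134 (tt N30716 (iv F283743)) (tt N29351 F281081) (tt N30718 D63488) (tt N29350 (iv D62904)) (tt N29359 F281082) (tt N30719 D63489) (tt N29746 F281083) (tt N30701 (iv F283687)) (tt N30720 D63490) (tt N29551 F281084))
theorem Q30136 : ∀ i, i < 30136 → P i := stepQ 30135 Q30135 (allL N30135 (tt N30717 (iv F283747)) (tt N29352 F281085) (tt N30514 (iv F282537)) (tt N30719 (iv F283755)) (tt N29355 F281086) (tt N29350 (iv D62905)) (tt N30721 D63491) (tt N30574 (iv F282929)) (tt N30509 (iv F282505)) (tt N29552 F281087))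
theorem Q30137 : ∀ i, i < 30137 → P i := stepQ 30136 Q30136 (allL N30136 (tt N30682 (iv F283571)) (tt N30719 (iv F283754)) (tt N30136 F281088) (tt N29352 F281089) (tt N29752 F281090) (tt N29351 (iv D62906)) (tt N30722 D63492) (tt N30569 (iv F282894)) (tt N30723 D63493) (tt N29553 F281091))
theorem Q30138 : ∀ i, i < 30138 → P i := stepQ 30137 Q30137 (allL N30137 (tt N30683 (iv F283577)) (tt N30720 (iv F283758)) (tt N30137 F281092) (tt N29555 F281093) (tt N29360 F281094) (tt N30723 (iv F283775)) (tt N29553 F281095) (tt N30694 (iv F283641)) (tt N29351 (iv D62907)) (tt N30722 (iv F283770)))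
theorem Q30139 : ∀ i, i < 30139 → P i := stepQ 30138 Q30138 (allL N30138 (tt N30684 (iv F283583)) (tt N30721 (iv F283762)) (tt N29353 F281096) (tt N30722 (iv F283767)) (tt N29356 F281097) (tt N29687 F281098) (tt N29352 (iv D62908)) (tt N30594 (iv F283067)) (tt N30511 (iv F282521)) (tt N29555 F281099))
theorem Q30140 : ∀ i, i < 30140 → P i := stepQ 30139 Q30139 (allL N30139 (tt N29355 F281100) (tt N30685 (iv F283591)) (tt N30705 (iv F283701)) (tt N30668 (iv F283484)) (tt N30717 (iv F283748)) (tt N29354 (iv D62909)) (tt N30724 D63494) (tt N30575 (iv F282935)) (tt N30710 (iv F283722)) (tt N29556 F281101))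
theorem Q30141 : ∀ i, i < 30141 → P i := stepQ 30140 Q30140 (allL N30140 (tt N30724 (iv F283778)) (tt N29356 F281102) (tt N30708 (iv F283713)) (tt N29577 F281103) (tt N30721 (iv F283763)) (tt N29576 F281104) (tt N29355 (iv D62910)) (tt N30725 D63495) (tt N30713 (iv F283730)) (tt N29557 F281105))
theorem Q30142 : ∀ i, i < 30142 → P i := stepQ 30141 Q30141 (allL N30141 (tt N29635 F281106) (tt N30725 (iv F283782)) (tt N29357 F281107) (tt N29424 F281108) (tt N30594 (iv F283065)) (tt N29574 F281109) (tt N29423 F281110) (tt N29356 (iv D62911)) (tt N30599 (iv F283101)) (tt N29430 F281111))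
theorem Q30143 : ∀ i, i < 30143 → P i := stepQ 30142 Q30142 (allL N30142 (tt N29359 F281112) (tt N30687 (iv F283603)) (tt N30726 D63496) (tt N29358 (iv D62912)) (tt N30716 (iv F283744)) (tt N30669 (iv F283489)) (tt N29749 F281113) (tt N30702 (iv F283690)) (tt N30727 D63497) (tt N29561 F281114))
theorem Q30144 : ∀ i, i < 30144 → P i := stepQ 30143 Q30143 (allL N30143 (tt N30726 (iv F283788)) (tt N30143 F281115) (tt N29359 (iv D62913)) (tt N29848 F281116) (tt N30718 (iv F283751)) (tt N30670 (iv F283495)) (tt N29750 F281117) (tt N30703 (iv F283694)) (tt N30728 D63498) (tt N29562 F281118))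
theorem Q30145 : ∀ i, i < 30145 → P i := stepQ 30144 Q30144 (allL N30144 (tt N30727 (iv F283792)) (tt N29360 F281119) (tt N30728 (iv F283797)) (tt N29386 F281120) (tt N30720 (iv F283760)) (tt N29606 F281121) (tt N29751 F281122) (tt N30693 (iv F283635)) (tt N29359 (iv D62914)) (tt N30729 D63499))
theorem Q30146 : ∀ i, i < 30146 → P i := stepQ 30145 Q30145 (allL N30145 (tt N30623 (iv F283220)) (tt N30729 (iv F283800)) (tt N30145 F281123) (tt N29387 F281124) (tt N30722 (iv F283768)) (tt N29567 F281125) (tt N29752 F281126) (tt N30605 (iv F283136)) (tt N29564 F281127) (tt N29360 (iv D62915)))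
theorem Q30147 : ∀ i, i < 30147 → P i := stepQ 30146 Q30146 (allL N30146 (tt N29361 (iv D62916)) (tt N29565 F281128) (tt N29778 F281129) (tt N29640 F281130) (tt N30730 D63500) (tt N29477 F281131) (tt N29474 F281132) (tt N29374 F281133) (tt N29394 F281134) (tt N29363 F281135))
theorem Q30148 : ∀ i, i < 30148 → P i := stepQ 30147 Q30147 (allL N30147 (tt N30730 (iv F283805)) (tt N29362 F281136) (tt N29779 F281137) (tt N30622 (iv F283215)) (tt N29361 (iv D62917)) (tt N30696 (iv F283653)) (tt N29475 F281138) (tt N29375 F281139) (tt N29395 F281140) (tt N29364 F281141))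
theorem Q30149 : ∀ i, i < 30149 → P i := stepQ 30148 Q30148 (allL N30148 (tt N29364 F281142) (tt N29605 F281143) (tt N29782 F281144) (tt N30731 D63501) (tt N29363 (iv D62918)) (tt N30695 (iv F283647)) (tt N29490 F281145) (tt N29378 F281146) (tt N29366 F281147) (tt N30730 (iv F283811)))
theorem Q30150 : ∀ i, i < 30150 → P i := stepQ 30149 Q30149 (allL N30149 (tt N30731 (iv F283812)) (tt N29365 F281148) (tt N30732 D63502) (tt N29364 (iv D62919)) (tt N30628 (iv F283246)) (tt N30689 (iv F283615)) (tt N29491 F281149) (tt N29379 F281150) (tt N29808 F281151) (tt N30622 (iv F283219)))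
theorem Q30151 : ∀ i, i < 30151 → P i := stepQ 30150 Q30150 (allL N30150 (tt N29369 F281152) (tt N29790 F281153) (tt N29378 F281154) (tt N30733 D63503) (tt N29368 (iv D62920)) (tt N30734 D63504) (tt N29452 F281155) (tt N29782 F281156) (tt N29372 F281157) (tt N30665 (iv F283466)))
theorem Q30152 : ∀ i, i < 30152 → P i := stepQ 30151 Q30151 (allL N30151 (tt N30733 (iv F283822)) (tt N29370 F281158) (tt N30735 D63505) (tt N29369 (iv D62921)) (tt N29447 F281159) (tt N29751 (iv F281163)) (tt N29453 F281160) (tt N29783 F281161) (tt N29690 F281162) (tt N30666 (iv F283472)))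
theorem Q30153 : ∀ i, i < 30153 → P i := stepQ 30152 Q30152 (allL N30152 (tt N30734 (iv F283829)) (tt N29371 F281164) (tt N29380 F281165) (tt N29751 F281166) (tt N29445 F281167) (tt N29369 (iv D62922)) (tt N29386 F281168) (tt N29784 F281169) (tt N29373 F281170) (tt N30667 (iv F283481)))
theorem Q30154 : ∀ i, i < 30154 → P i := stepQ 30153 Q30153 (allL N30153 (tt N29373 F281171) (tt N29796 F281172) (tt N29383 F281173) (tt N29384 F281174) (tt N29777 F281175) (tt N29372 (iv D62923)) (tt N29385 F281176) (tt N29785 F281177) (tt N30734 (iv F283836)) (tt N29410 F281178))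
theorem Q30155 : ∀ i, i < 30155 → P i := stepQ 30154 Q30154 (allL N30154 (tt N29375 F281179) (tt N30602 (iv F283113)) (tt N30665 (iv F283462)) (tt N30736 D63506) (tt N29374 (iv D62924)) (tt N30737 D63507) (tt N29800 F281180) (tt N30730 (iv F283809)) (tt N29420 F281181) (tt N29378 F281182))
theorem Q30156 : ∀ i, i < 30156 → P i := stepQ 30155 Q30155 (allL N30155 (tt N30736 (iv F283844)) (tt N29376 F281183) (tt N30738 D63508) (tt N29375 (iv D62925)) (tt N30608 (iv F283149)) (tt N30739 D63509) (tt N29801 F281184) (tt N30622 (iv F283218)) (tt N30596 (iv F283081)) (tt N29379 F281185))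
theorem Q30157 : ∀ i, i < 30157 → P i := stepQ 30156 Q30156 (allL N30156 (tt N30737 (iv F283847)) (tt N29377 F281186) (tt N30667 (iv F283475)) (tt N30739 (iv F283854)) (tt N30537 (iv F282682)) (tt N29375 (iv D62926)) (tt N30631 (iv F283265)) (tt N30696 (iv F283655)) (tt N29422 F281187) (tt N29380 F281188))
theorem Q30158 : ∀ i, i < 30158 → P i := stepQ 30157 Q30157 (allL N30157 (tt N30605 (iv F283132)) (tt N30739 (iv F283853)) (tt N30157 F281189) (tt N29377 F281190) (tt N30740 D63510) (tt N29376 (iv D62927)) (tt N30632 (iv F283273)) (tt N30623 (iv F283225)) (tt N30598 (iv F283094)) (tt N29381 F281191))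
theorem Q30159 : ∀ i, i < 30159 → P i := stepQ 30158 Q30158 (allL N30158 (tt N29379 F281192) (tt N30690 (iv F283619)) (tt N30741 D63511) (tt N29378 (iv D62928)) (tt N30709 (iv F283719)) (tt N30742 D63512) (tt N29802 F281193) (tt N30731 (iv F283815)) (tt N30671 (iv F283502)) (tt N30736 (iv F283846)))
theorem Q30160 : ∀ i, i < 30160 → P i := stepQ 30159 Q30159 (allL N30159 (tt N29380 F281194) (tt N30691 (iv F283623)) (tt N30734 (iv F283831)) (tt N30742 (iv F283865)) (tt N30557 (iv F282814)) (tt N29378 (iv D62929)) (tt N30654 (iv F283405)) (tt N30695 (iv F283649)) (tt N29383 F281195) (tt N30737 (iv F283849)))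
theorem Q30161 : ∀ i, i < 30161 → P i := stepQ 30160 Q30160 (allL N30160 (tt N30741 (iv F283862)) (tt N30160 F281196) (tt N29379 (iv D62930)) (tt N30735 (iv F283838)) (tt N30711 (iv F283724)) (tt N30743 D63513) (tt N29803 F281197) (tt N30732 (iv F283820)) (tt N30673 (iv F283516)) (tt N30738 (iv F283852)))
theorem Q30162 : ∀ i, i < 30162 → P i := stepQ 30161 Q30161 (allL N30161 (tt N30742 (iv F283864)) (tt N29381 F281198) (tt N30743 (iv F283867)) (tt N29380 F281199) (tt N30744 D63514) (tt N29379 (iv D62931)) (tt N30656 (iv F283415)) (tt N30689 (iv F283617)) (tt N30674 (iv F283524)) (tt N30739 (iv F283855)))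
theorem Q30163 : ∀ i, i < 30163 → P i := stepQ 30162 Q30162 (allL N30162 (tt N30694 (iv F283637)) (tt N30744 (iv F283870)) (tt N30162 F281200) (tt N29625 F281201) (tt N29381 (iv D62932)) (tt N30714 (iv F283733)) (tt N29617 F281202) (tt N30683 (iv F283582)) (tt N29613 F281203) (tt N30740 (iv F283861)))
theorem Q30164 : ∀ i, i < 30164 → P i := stepQ 30163 Q30163 (allL N30163 (tt N29386 F281204) (tt N30695 (iv F283644)) (tt N30654 (iv F283403)) (tt N30727 (iv F283793)) (tt N29632 F281205) (tt N29605 F281206) (tt N30734 (iv F283834)) (tt N30691 (iv F283627)) (tt N29385 (iv D62933)) (tt N30745 D63515))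
theorem Q30165 : ∀ i, i < 30165 → P i := stepQ 30164 Q30164 (allL N30164 (tt N30745 (iv F283874)) (tt N29387 F281207) (tt N30631 (iv F283263)) (tt N30729 (iv F283801)) (tt N29577 F281208) (tt N29566 F281209) (tt N30667 (iv F283478)) (tt N30604 (iv F283129)) (tt N29438 F281210) (tt N29386 (iv D62934)))
theorem Q30166 : ∀ i, i < 30166 → P i := stepQ 30165 Q30165 (allL N30165 (tt N29389 (iv D62935)) (tt N29519 F281211) (tt N29786 F281212) (tt N29614 F281213) (tt N30746 D63516) (tt N29394 F281214) (tt N29460 F281215) (tt N29411 F281216) (tt N29477 F281217) (tt N29391 F281218))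
theorem Q30167 : ∀ i, i < 30167 → P i := stepQ 30166 Q30166 (allL N30166 (tt N30746 (iv F283878)) (tt N29390 F281219) (tt N29787 F281220) (tt N30649 (iv F283371)) (tt N29389 (iv D62936)) (tt N30698 (iv F283667)) (tt N29461 F281221) (tt N29412 F281222) (tt N29478 F281223) (tt N29392 F281224))
theorem Q30168 : ∀ i, i < 30168 → P i := stepQ 30167 Q30167 (allL N30167 (tt N29392 F281225) (tt N30651 (iv F283383)) (tt N29790 F281226) (tt N30747 D63517) (tt N29391 (iv D62937)) (tt N30697 (iv F283661)) (tt N30672 F283511) (tt N29415 F281227) (tt N29397 F281228) (tt N30746 (iv F283884)))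
theorem Q30169 : ∀ i, i < 30169 → P i := stepQ 30168 Q30168 (allL N30168 (tt N30747 (iv F283885)) (tt N29393 F281229) (tt N30748 D63518) (tt N29392 (iv D62938)) (tt N29616 F281230) (tt N30657 (iv F283421)) (tt N30674 (iv F283522)) (tt N29416 F281231) (tt N30656 F283417) (tt N30649 (iv F283374)))
theorem Q30170 : ∀ i, i < 30170 → P i := stepQ 30169 Q30169 (allL N30169 (tt N29395 F281232) (tt N29828 F281233) (tt N29793 F281234) (tt N30558 (iv F282821)) (tt N29394 (iv D62939)) (tt N30699 (iv F283675)) (tt N29811 F281235) (tt N29420 F281236) (tt N30730 (iv F283810)) (tt N29396 F281237))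
theorem Q30171 : ∀ i, i < 30171 → P i := stepQ 30170 Q30170 (allL N30170 (tt N29400 F281238) (tt N29782 F281239) (tt N29415 F281240) (tt N30749 D63519) (tt N29399 (iv D62940)) (tt N30750 D63520) (tt N30576 (iv F282940)) (tt N29790 F281241) (tt N29408 F281242) (tt N30662 (iv F283446)))
theorem Q30172 : ∀ i, i < 30172 → P i := stepQ 30171 Q30171 (allL N30171 (tt N30749 (iv F283893)) (tt N29401 F281243) (tt N30751 D63521) (tt N29400 (iv D62941)) (tt N29813 F281244) (tt N30586 (iv F283013)) (tt N30577 (iv F282947)) (tt N29791 F281245) (tt N29799 F281246) (tt N30663 (iv F283452)))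
theorem Q30173 : ∀ i, i < 30173 → P i := stepQ 30172 Q30172 (allL N30172 (tt N30750 (iv F283898)) (tt N29402 F281247) (tt N29417 F281248) (tt N30586 (iv F283011)) (tt N29407 F281249) (tt N29400 (iv D62942)) (tt N29434 F281250) (tt N29792 F281251) (tt N29409 F281252) (tt N30664 (iv F283459)))
theorem Q30174 : ∀ i, i < 30174 → P i := stepQ 30173 Q30173 (allL N30173 (tt N29404 F281253) (tt N30503 (iv F282458)) (tt N29420 F281254) (tt N29768 F281255) (tt N29403 (iv D62943)) (tt N30752 D63522) (tt N29457 F281256) (tt N29793 F281257) (tt N30665 (iv F283465)) (tt N29406 F281258))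
theorem Q30175 : ∀ i, i < 30175 → P i := stepQ 30174 Q30174 (allL N30174 (tt N30752 (iv F283910)) (tt N29405 F281259) (tt N29422 F281260) (tt N29675 F281261) (tt N30664 (iv F283455)) (tt N29404 (iv D62944)) (tt N29438 F281262) (tt N29794 F281263) (tt N30667 (iv F283480)) (tt N29407 F281264))
theorem Q30176 : ∀ i, i < 30176 → P i := stepQ 30175 Q30175 (allL N30175 (tt N29407 F281265) (tt N30501 (iv F282442)) (tt N29426 F281266) (tt N29674 F281267) (tt N30750 (iv F283901)) (tt N29406 (iv D62945)) (tt N29437 F281268) (tt N29795 F281269) (tt N29410 F281270) (tt N30752 (iv F283915)))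
theorem Q30177 : ∀ i, i < 30177 → P i := stepQ 30176 Q30176 (allL N30176 (tt N29409 F281271) (tt N29785 F281272) (tt N29433 F281273) (tt N29431 F281274) (tt N29410 F281275) (tt N29408 (iv D62946)) (tt N29432 F281276) (tt N29796 F281277) (tt N30750 (iv F283904)) (tt N29777 F281278))
theorem Q30178 : ∀ i, i < 30178 → P i := stepQ 30177 Q30177 (allL N30177 (tt N29412 F281279) (tt N30629 (iv F283251)) (tt N30662 (iv F283442)) (tt N30753 D63523) (tt N29411 (iv D62947)) (tt N30754 D63524) (tt N30504 (iv F282469)) (tt N30746 (iv F283882)) (tt N30535 (iv F282670)) (tt N29415 F281280))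
theorem Q30179 : ∀ i, i < 30179 → P i := stepQ 30178 Q30178 (allL N30178 (tt N30753 (iv F283916)) (tt N29413 F281281) (tt N30755 D63525) (tt N29412 (iv D62948)) (tt N29656 F281282) (tt N30756 D63526) (tt N30505 (iv F282476)) (tt N30649 (iv F283373)) (tt N30757 D63527) (tt N29416 F281283))
theorem Q30180 : ∀ i, i < 30180 → P i := stepQ 30179 Q30179 (allL N30179 (tt N30754 (iv F283919)) (tt N29414 F281284) (tt N30664 (iv F283454)) (tt N30756 (iv F283926)) (tt N29422 F281285) (tt N29412 (iv D62949)) (tt N30604 (iv F283128)) (tt N30698 (iv F283669)) (tt N30537 (iv F282685)) (tt N29417 F281286))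
theorem Q30181 : ∀ i, i < 30181 → P i := stepQ 30180 Q30180 (allL N30180 (tt N30632 (iv F283269)) (tt N30756 (iv F283925)) (tt N30180 F281287) (tt N29414 F281288) (tt N30593 (iv F283059)) (tt N29413 (iv D62950)) (tt N30605 (iv F283135)) (tt N30617 (iv F283195)) (tt N30758 D63528) (tt N29418 F281289))
theorem Q30182 : ∀ i, i < 30182 → P i := stepQ 30181 Q30181 (allL N30181 (tt N30633 (iv F283276)) (tt N30757 (iv F283928)) (tt N30181 F281290) (tt N30538 (iv F282689)) (tt N29657 F281291) (tt N30758 (iv F283933)) (tt N30506 (iv F282484)) (tt N30549 (iv F282758)) (tt N29413 (iv D62951)) (tt N30715 (iv F283742)))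
theorem Q30183 : ∀ i, i < 30183 → P i := stepQ 30182 Q30182 (allL N30182 (tt N29416 F281292) (tt N30653 (iv F283398)) (tt N30759 D63529) (tt N29415 (iv D62952)) (tt N29658 F281293) (tt N30760 D63530) (tt N30584 (iv F283003)) (tt N30747 (iv F283887)) (tt N30761 D63531) (tt N30753 (iv F283918)))
theorem Q30184 : ∀ i, i < 30184 → P i := stepQ 30183 Q30183 (allL N30183 (tt N29417 F281294) (tt N30654 (iv F283402)) (tt N30750 (iv F283900)) (tt N30760 (iv F283939)) (tt N29426 F281295) (tt N29415 (iv D62953)) (tt N30691 (iv F283626)) (tt N30697 (iv F283663)) (tt N29433 F281296) (tt N30754 (iv F283921)))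
theorem Q30185 : ∀ i, i < 30185 → P i := stepQ 30184 Q30184 (allL N30184 (tt N30759 (iv F283936)) (tt N30184 F281297) (tt N29416 (iv D62954)) (tt N30751 (iv F283906)) (tt N29660 F281298) (tt N30762 D63532) (tt N30585 (iv F283008)) (tt N30748 (iv F283892)) (tt N30763 D63533) (tt N30755 (iv F283924)))
theorem Q30186 : ∀ i, i < 30186 → P i := stepQ 30185 Q30185 (allL N30185 (tt N30760 (iv F283938)) (tt N29418 F281299) (tt N30762 (iv F283944)) (tt N29417 F281300) (tt N30764 D63534) (tt N29416 (iv D62955)) (tt N30693 (iv F283634)) (tt N30657 (iv F283423)) (tt N30652 (iv F283395)) (tt N30756 (iv F283927)))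
theorem Q30187 : ∀ i, i < 30187 → P i := stepQ 30186 Q30186 (allL N30186 (tt N30761 (iv F283940)) (tt N29419 F281301) (tt N30763 (iv F283946)) (tt N29434 F281302) (tt N29662 F281303) (tt N30652 (iv F283392)) (tt N30586 (iv F283014)) (tt N30656 (iv F283416)) (tt N29416 (iv D62956)) (tt N30765 D63535))
theorem Q30188 : ∀ i, i < 30188 → P i := stepQ 30187 Q30187 (allL N30187 (tt N29617 F281304) (tt N30764 (iv F283948)) (tt N30187 F281305) (tt N29429 F281306) (tt N29418 (iv D62957)) (tt N29663 F281307) (tt N30694 (iv F283640)) (tt N29510 F281308) (tt N29494 F281309) (tt N30593 (iv F283062)))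
theorem Q30189 : ∀ i, i < 30189 → P i := stepQ 30188 Q30188 (allL N30188 (tt N30617 (iv F283190)) (tt N30765 (iv F283953)) (tt N30188 F281310) (tt N29435 F281311) (tt N29664 F281312) (tt N29521 F281313) (tt N30587 (iv F283021)) (tt N30632 (iv F283274)) (tt N30715 (iv F283741)) (tt N29419 (iv D62958)))
theorem Q30190 : ∀ i, i < 30190 → P i := stepQ 30189 Q30189 (allL N30189 (tt N29421 F281314) (tt N29823 F281315) (tt N29728 F281316) (tt N29420 (iv D62959)) (tt N29665 F281317) (tt N30766 D63536) (tt N29733 F281318) (tt N30558 (iv F282823)) (tt N30595 (iv F283075)) (tt N29425 F281319))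
theorem Q30191 : ∀ i, i < 30191 → P i := stepQ 30190 Q30190 (allL N30190 (tt N29422 F281320) (tt N30640 (iv F283312)) (tt N30752 (iv F283911)) (tt N30766 (iv F283960)) (tt N30754 (iv F283920)) (tt N29420 (iv D62960)) (tt N30767 D63537) (tt N30699 (iv F283676)) (tt N30737 (iv F283848)) (tt N29426 F281321))
theorem Q30192 : ∀ i, i < 30192 → P i := stepQ 30191 Q30191 (allL N30191 (tt N30766 (iv F283957)) (tt N29423 F281322) (tt N29729 F281323) (tt N29422 F281324) (tt N30592 (iv F283052)) (tt N29421 (iv D62961)) (tt N30725 (iv F283786)) (tt N29514 F281325) (tt N30597 (iv F283087)) (tt N29427 F281326))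
theorem Q30193 : ∀ i, i < 30193 → P i := stepQ 30192 Q30192 (allL N30192 (tt N30767 (iv F283963)) (tt N29424 F281327) (tt N29438 F281328) (tt N30725 (iv F283784)) (tt N30604 (iv F283127)) (tt N29573 F281329) (tt N29422 (iv D62962)) (tt N29577 (iv F281331)) (tt N30631 (iv F283267)) (tt N29428 F281330))
theorem Q30194 : ∀ i, i < 30194 → P i := stepQ 30193 Q30193 (allL N30193 (tt N29427 F281332) (tt N29637 F281333) (tt N29748 F281334) (tt N29426 F281335) (tt N30768 D63538) (tt N29425 (iv D62963)) (tt N30769 D63539) (tt N29513 F281336) (tt N29503 F281337) (tt N30766 (iv F283962)))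
theorem Q30195 : ∀ i, i < 30195 → P i := stepQ 30194 Q30194 (allL N30194 (tt N29428 F281338) (tt N30557 (iv F282811)) (tt N29437 F281339) (tt N30769 (iv F283977)) (tt N30691 (iv F283625)) (tt N29629 F281340) (tt N29426 (iv D62964)) (tt N29632 (iv F281342)) (tt N29436 F281341) (tt N30767 (iv F283966)))
theorem Q30196 : ∀ i, i < 30196 → P i := stepQ 30195 Q30195 (allL N30195 (tt N30768 (iv F283968)) (tt N29429 F281343) (tt N29747 F281344) (tt N30764 (iv F283949)) (tt N29427 (iv D62965)) (tt N29667 F281345) (tt N30770 D63540) (tt N29512 F281346) (tt N29499 F281347) (tt N30592 (iv F283055)))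
theorem Q30197 : ∀ i, i < 30197 → P i := stepQ 30196 Q30196 (allL N30196 (tt N30769 (iv F283974)) (tt N29430 F281348) (tt N29679 F281349) (tt N29428 F281350) (tt N30770 (iv F283983)) (tt N29630 F281351) (tt N29427 (iv D62966)) (tt N29557 F281352) (tt N29501 F281353) (tt N30725 (iv F283787)))
theorem Q30198 : ∀ i, i < 30198 → P i := stepQ 30197 Q30197 (allL N30197 (tt N29625 F281354) (tt N30770 (iv F283981)) (tt N29439 F281355) (tt N30694 (iv F283639)) (tt N29430 F281356) (tt N30516 (iv F282551)) (tt N29429 (iv D62967)) (tt N29555 F281357) (tt N29497 F281358) (tt N30594 (iv F283069)))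
theorem Q30199 : ∀ i, i < 30199 → P i := stepQ 30198 Q30198 (allL N30198 (tt N29434 F281359) (tt N30697 (iv F283658)) (tt N30691 (iv F283624)) (tt N30761 (iv F283941)) (tt N29437 F281360) (tt N30651 (iv F283385)) (tt N30750 (iv F283902)) (tt N30654 (iv F283406)) (tt N29432 (iv D62968)) (tt N30771 D63541))
theorem Q30200 : ∀ i, i < 30200 → P i := stepQ 30199 Q30199 (allL N30199 (tt N30771 (iv F283986)) (tt N29435 F281361) (tt N30604 (iv F283126)) (tt N30765 (iv F283954)) (tt N29438 F281362) (tt N29520 F281363) (tt N30664 (iv F283456)) (tt N30631 (iv F283266)) (tt N29577 F281364) (tt N29434 (iv D62969)))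
theorem Q30201 : ∀ i, i < 30201 → P i := stepQ 30200 Q30200 (allL N30200 (tt N29438 F281365) (tt N30699 (iv F283672)) (tt N30767 (iv F283964)) (tt N29678 F281366) (tt N30771 (iv F283987)) (tt N29828 F281367) (tt N30752 (iv F283913)) (tt N30640 (iv F283315)) (tt N30745 (iv F283877)) (tt N29437 (iv D62970)))
theorem Q30202 : ∀ i, i < 30202 → P i := stepQ 30201 Q30201 (allL N30201 (tt N29442 F281368) (tt N29812 F281369) (tt N30504 (iv F282467)) (tt N30772 D63542) (tt N29441 (iv D62971)) (tt N29522 F281370) (tt N30662 (iv F283443)) (tt N29446 F281371) (tt N29451 F281372) (tt N30576 (iv F282943)))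
theorem Q30203 : ∀ i, i < 30203 → P i := stepQ 30202 Q30202 (allL N30202 (tt N30772 (iv F283990)) (tt N29443 F281373) (tt N30773 D63543) (tt N29442 (iv D62972)) (tt N29783 F281374) (tt N29523 F281375) (tt N30663 (iv F283449)) (tt N29447 F281376) (tt N29758 F281377) (tt N30577 (iv F282950)))
theorem Q30204 : ∀ i, i < 30204 → P i := stepQ 30203 Q30203 (allL N30203 (tt N29445 F281378) (tt N29795 F281379) (tt N30557 (iv F282812)) (tt N29556 F281380) (tt N30734 (iv F283833)) (tt N29444 (iv D62973)) (tt N29632 F281381) (tt N30501 (iv F282448)) (tt N29777 F281382) (tt N30668 (iv F283486)))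
theorem Q30205 : ∀ i, i < 30205 → P i := stepQ 30204 Q30204 (allL N30204 (tt N29447 F281383) (tt N29816 F281384) (tt N30774 D63544) (tt N29446 (iv D62974)) (tt N30733 (iv F283824)) (tt N29561 F281385) (tt N30578 (iv F282955)) (tt N30772 (iv F283994)) (tt N29773 F281386) (tt N30669 (iv F283492)))
theorem Q30206 : ∀ i, i < 30206 → P i := stepQ 30205 Q30205 (allL N30205 (tt N30774 (iv F284001)) (tt N30205 F281387) (tt N29447 (iv D62975)) (tt N30526 (iv F282607)) (tt N30735 (iv F283839)) (tt N29562 F281388) (tt N30579 (iv F282963)) (tt N30773 (iv F283999)) (tt N29774 F281389) (tt N30670 (iv F283498)))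
theorem Q30207 : ∀ i, i < 30207 → P i := stepQ 30206 Q30206 (allL N30206 (tt N29449 F281390) (tt N29805 F281391) (tt N29800 F281392) (tt N30775 D63545) (tt N29448 (iv D62976)) (tt N29568 F281393) (tt N30665 (iv F283463)) (tt N29458 F281394) (tt N29457 F281395) (tt N29452 F281396))
theorem Q30208 : ∀ i, i < 30208 → P i := stepQ 30207 Q30207 (allL N30207 (tt N30775 (iv F284004)) (tt N29450 F281397) (tt N30776 D63546) (tt N29449 (iv D62977)) (tt N29609 F281398) (tt N29569 F281399) (tt N30666 (iv F283469)) (tt N29459 F281400) (tt N29602 F281401) (tt N29453 F281402))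
theorem Q30209 : ∀ i, i < 30209 → P i := stepQ 30208 Q30208 (allL N30208 (tt N29453 F281403) (tt N29850 F281404) (tt N30777 D63547) (tt N29452 (iv D62978)) (tt N30578 (iv F282953)) (tt N29607 F281405) (tt N30733 (iv F283825)) (tt N29809 F281406) (tt N29818 F281407) (tt N30775 (iv F284010)))
theorem Q30210 : ∀ i, i < 30210 → P i := stepQ 30209 Q30209 (allL N30209 (tt N30777 (iv F284018)) (tt N30209 F281408) (tt N29453 (iv D62979)) (tt N29803 F281409) (tt N30579 (iv F282961)) (tt N29608 F281410) (tt N30735 (iv F283841)) (tt N29810 F281411) (tt N29819 F281412) (tt N30776 (iv F284017)))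
theorem Q30211 : ∀ i, i < 30211 → P i := stepQ 30210 Q30210 (allL N30210 (tt N29456 F281413) (tt N30558 (iv F282819)) (tt N29621 F281414) (tt N29828 F281415) (tt N29504 F281416) (tt N29678 F281417) (tt N29610 F281418) (tt N29823 F281419) (tt N29771 F281420) (tt N29455 (iv D62980)))
theorem Q30212 : ∀ i, i < 30212 → P i := stepQ 30211 Q30211 (allL N30211 (tt N29459 F281421) (tt N30578 (iv F282952)) (tt N30778 D63548) (tt N29458 (iv D62981)) (tt N29850 F281422) (tt N29826 F281423) (tt N29816 F281424) (tt N30775 (iv F284008)) (tt N29845 F281425) (tt N29809 F281426))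
theorem Q30213 : ∀ i, i < 30213 → P i := stepQ 30212 Q30212 (allL N30212 (tt N30778 (iv F284023)) (tt N30212 F281427) (tt N29459 (iv D62982)) (tt N30581 (iv F282976)) (tt N29851 F281428) (tt N29827 F281429) (tt N29817 F281430) (tt N30776 (iv F284015)) (tt N29846 F281431) (tt N29810 F281432))
theorem Q30214 : ∀ i, i < 30214 → P i := stepQ 30213 Q30213 (allL N30213 (tt N29461 F281433) (tt N29522 F281434) (tt N29805 F281435) (tt N30779 D63549) (tt N29460 (iv D62983)) (tt N29812 F281436) (tt N30746 (iv F283881)) (tt N29471 F281437) (tt N29481 F281438) (tt N30672 (iv F283510)))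
theorem Q30215 : ∀ i, i < 30215 → P i := stepQ 30214 Q30214 (allL N30214 (tt N30779 (iv F284029)) (tt N29462 F281439) (tt N30780 D63550) (tt N29461 (iv D62984)) (tt N29767 F281440) (tt N29813 F281441) (tt N30649 (iv F283372)) (tt N29472 F281442) (tt N30781 D63551) (tt N30674 (iv F283525)))
theorem Q30216 : ∀ i, i < 30216 → P i := stepQ 30215 Q30215 (allL N30215 (tt N29524 F281443) (tt N30781 (iv F284040)) (tt N30215 F281444) (tt N29483 F281445) (tt N29654 F281446) (tt N29706 F281447) (tt N30549 (iv F282757)) (tt N29473 F281448) (tt N29462 (iv D62985)) (tt N30598 (iv F283095)))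
theorem Q30217 : ∀ i, i < 30217 → P i := stepQ 30216 Q30216 (allL N30216 (tt N29464 F281449) (tt N29550 F281450) (tt N29757 F281451) (tt N30782 D63552) (tt N29463 (iv D62986)) (tt N30783 D63553) (tt N30517 (iv F282558)) (tt N29766 F281452) (tt N29753 F281453) (tt N30679 (iv F283559)))
theorem Q30218 : ∀ i, i < 30218 → P i := stepQ 30217 Q30217 (allL N30217 (tt N30782 (iv F284045)) (tt N29465 F281454) (tt N30784 D63554) (tt N29464 (iv D62987)) (tt N29472 F281455) (tt N30785 D63555) (tt N30518 (iv F282564)) (tt N29767 F281456) (tt N30786 D63556) (tt N30680 (iv F283564)))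
theorem Q30219 : ∀ i, i < 30219 → P i := stepQ 30218 Q30218 (allL N30218 (tt N30783 (iv F284049)) (tt N29466 F281457) (tt N29581 F281458) (tt N30785 (iv F284060)) (tt N29469 F281459) (tt N29464 (iv D62988)) (tt N30787 D63557) (tt N29592 F281460) (tt N29580 F281461) (tt N30681 (iv F283570)))
theorem Q30220 : ∀ i, i < 30220 → P i := stepQ 30219 Q30219 (allL N30219 (tt N29553 F281462) (tt N30785 (iv F284059)) (tt N30219 F281463) (tt N29466 F281464) (tt N29701 F281465) (tt N29465 (iv D62989)) (tt N30683 (iv F283581)) (tt N29596 F281466) (tt N29645 (iv F281467)) (tt N30682 (iv F283576)))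
theorem Q30221 : ∀ i, i < 30221 → P i := stepQ 30220 Q30220 (allL N30220 (tt N29554 F281468) (tt N30786 (iv F284064)) (tt N30220 F281469) (tt N29646 F281470) (tt N29473 F281471) (tt N29645 F281472) (tt N30521 (iv F282583)) (tt N29654 F281473) (tt N29465 (iv D62990)) (tt N30520 (iv F282578)))
theorem Q30222 : ∀ i, i < 30222 → P i := stepQ 30221 Q30221 (allL N30221 (tt N29555 F281474) (tt N30787 (iv F284069)) (tt N29467 F281475) (tt N30683 (iv F283579)) (tt N29470 F281476) (tt N30522 (iv F282588)) (tt N29466 (iv D62991)) (tt N29625 F281477) (tt N29594 F281478) (tt N30684 (iv F283589)))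
theorem Q30223 : ∀ i, i < 30223 → P i := stepQ 30222 Q30222 (allL N30222 (tt N29469 F281479) (tt N29556 F281480) (tt N29762 F281481) (tt N29795 F281482) (tt N30783 (iv F284052)) (tt N29468 (iv D62992)) (tt N30788 D63558) (tt N29674 F281483) (tt N29673 F281484) (tt N30685 (iv F283595)))
theorem Q30224 : ∀ i, i < 30224 → P i := stepQ 30223 Q30223 (allL N30223 (tt N30788 (iv F284074)) (tt N29470 F281485) (tt N29763 F281486) (tt N29502 F281487) (tt N30787 (iv F284071)) (tt N29501 F281488) (tt N29469 (iv D62993)) (tt N29634 F281489) (tt N29630 F281490) (tt N30686 (iv F283601)))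
theorem Q30225 : ∀ i, i < 30225 → P i := stepQ 30224 Q30224 (allL N30224 (tt N29472 F281491) (tt N29561 F281492) (tt N30789 D63559) (tt N29471 (iv D62994)) (tt N30782 (iv F284047)) (tt N29816 F281493) (tt N30525 (iv F282604)) (tt N30779 (iv F284033)) (tt N30790 D63560) (tt N30687 (iv F283606)))
theorem Q30226 : ∀ i, i < 30226 → P i := stepQ 30225 Q30225 (allL N30225 (tt N30789 (iv F284081)) (tt N30225 F281494) (tt N29472 (iv D62995)) (tt N30579 (iv F282960)) (tt N30784 (iv F284057)) (tt N29817 F281495) (tt N30526 (iv F282609)) (tt N30780 (iv F284038)) (tt N30791 D63561) (tt N30688 (iv F283612)))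
theorem Q30227 : ∀ i, i < 30227 → P i := stepQ 30226 Q30226 (allL N30226 (tt N30790 (iv F284083)) (tt N29473 F281496) (tt N30791 (iv F284088)) (tt N29485 F281497) (tt N30786 (iv F284066)) (tt N29718 F281498) (tt N30527 (iv F282614)) (tt N30781 (iv F284044)) (tt N29472 (iv D62996)) (tt N30621 (iv F283213)))
theorem Q30228 : ∀ i, i < 30228 → P i := stepQ 30227 Q30227 (allL N30227 (tt N29475 F281499) (tt N29568 F281500) (tt N29812 F281501) (tt N30792 D63562) (tt N29474 (iv D62997)) (tt N29805 F281502) (tt N30730 (iv F283808)) (tt N29814 F281503) (tt N29811 F281504) (tt N29490 F281505))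
theorem Q30229 : ∀ i, i < 30229 → P i := stepQ 30228 Q30228 (allL N30228 (tt N30792 (iv F284090)) (tt N29476 F281506) (tt N30793 D63563) (tt N29475 (iv D62998)) (tt N29642 F281507) (tt N29806 F281508) (tt N30622 (iv F283217)) (tt N29815 F281509) (tt N29825 F281510) (tt N29491 F281511))
theorem Q30230 : ∀ i, i < 30230 → P i := stepQ 30229 Q30229 (allL N30229 (tt N29478 F281512) (tt N29575 F281513) (tt N30503 (iv F282459)) (tt N30794 D63564) (tt N29477 (iv D62999)) (tt N30795 D63565) (tt N29481 F281514) (tt N30535 (iv F282669)) (tt N30746 (iv F283883)) (tt N29500 F281515))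
theorem Q30231 : ∀ i, i < 30231 → P i := stepQ 30230 Q30230 (allL N30230 (tt N30794 (iv F284104)) (tt N29479 F281516) (tt N30534 (iv F282659)) (tt N29478 (iv D63000)) (tt N29712 F281517) (tt N30686 (iv F283599)) (tt N29482 F281518) (tt N30536 (iv F282676)) (tt N30796 D63566) (tt N29501 F281519))
theorem Q30232 : ∀ i, i < 30232 → P i := stepQ 30231 Q30231 (allL N30231 (tt N30795 (iv F284109)) (tt N29480 F281520) (tt N30502 (iv F282450)) (tt N30686 (iv F283598)) (tt N30696 (iv F283652)) (tt N29478 (iv D63001)) (tt N29794 F281521) (tt N30537 (iv F282684)) (tt N30698 (iv F283670)) (tt N29502 F281522))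
theorem Q30233 : ∀ i, i < 30233 → P i := stepQ 30232 Q30232 (allL N30232 (tt N29578 F281523) (tt N30796 (iv F284113)) (tt N29486 F281524) (tt N30549 (iv F282756)) (tt N29709 F281525) (tt N30678 (iv F283549)) (tt N29483 F281526) (tt N30538 (iv F282693)) (tt N29479 (iv D63002)) (tt N30599 (iv F283102)))
theorem Q30234 : ∀ i, i < 30234 → P i := stepQ 30233 Q30233 (allL N30233 (tt N29482 F281527) (tt N29579 F281528) (tt N30533 (iv F282653)) (tt N29481 (iv D63003)) (tt N29711 F281529) (tt N29710 F281530) (tt N30794 (iv F284107)) (tt N29484 F281531) (tt N30797 D63567) (tt N29503 F281532))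
theorem Q30235 : ∀ i, i < 30235 → P i := stepQ 30234 Q30234 (allL N30234 (tt N30797 (iv F284116)) (tt N29483 F281533) (tt N30531 (iv F282637)) (tt N30781 (iv F284041)) (tt N29708 F281534) (tt N29705 F281535) (tt N30796 (iv F284115)) (tt N29485 F281536) (tt N29482 (iv D63004)) (tt N30597 (iv F283088)))
theorem Q30236 : ∀ i, i < 30236 → P i := stepQ 30235 Q30235 (allL N30235 (tt N29485 F281537) (tt N29591 F281538) (tt N30546 (iv F282741)) (tt N30790 (iv F284085)) (tt N29719 F281539) (tt N29717 F281540) (tt N30550 (iv F282765)) (tt N30797 (iv F284120)) (tt N29484 (iv D63005)) (tt N30619 (iv F283206)))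
theorem Q30237 : ∀ i, i < 30237 → P i := stepQ 30236 Q30236 (allL N30236 (tt N29488 F281541) (tt N29601 F281542) (tt N29655 F281543) (tt N30798 D63568) (tt N29487 (iv D63006)) (tt N29824 F281544) (tt N30650 (iv F283379)) (tt N29769 F281545) (tt N29776 F281546) (tt N29641 F281547))
theorem Q30238 : ∀ i, i < 30238 → P i := stepQ 30237 Q30237 (allL N30237 (tt N30798 (iv F284121)) (tt N29489 F281548) (tt N30799 D63569) (tt N29488 (iv D63007)) (tt N29491 F281549) (tt N29825 F281550) (tt N30628 (iv F283247)) (tt N29770 F281551) (tt N29806 F281552) (tt N29642 F281553))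
theorem Q30239 : ∀ i, i < 30239 → P i := stepQ 30238 Q30238 (allL N30238 (tt N29491 F281554) (tt N29607 F281555) (tt N30800 D63570) (tt N29490 (iv D63008)) (tt N30798 (iv F284123)) (tt N29850 F281556) (tt N30731 (iv F283814)) (tt N29818 F281557) (tt N29809 F281558) (tt N30792 (iv F284096)))
theorem Q30240 : ∀ i, i < 30240 → P i := stepQ 30239 Q30239 (allL N30239 (tt N30800 (iv F284135)) (tt N30239 F281559) (tt N29491 (iv D63009)) (tt N30673 (iv F283513)) (tt N30799 (iv F284130)) (tt N29851 F281560) (tt N30732 (iv F283819)) (tt N29819 F281561) (tt N29810 F281562) (tt N30793 (iv F284103)))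
theorem Q30241 : ∀ i, i < 30241 → P i := stepQ 30240 Q30240 (allL N30240 (tt N29493 F281563) (tt N29615 F281564) (tt N29840 F281565) (tt N30801 D63571) (tt N29492 (iv D63010)) (tt N29722 F281566) (tt N30700 (iv F283680)) (tt N29508 F281567) (tt N29498 F281568) (tt N29829 F281569))
theorem Q30242 : ∀ i, i < 30242 → P i := stepQ 30241 Q30241 (allL N30241 (tt N30801 (iv F284139)) (tt N29494 F281570) (tt N30802 D63572) (tt N29493 (iv D63011)) (tt N30652 (iv F283391)) (tt N29723 F281571) (tt N30701 (iv F283686)) (tt N29509 F281572) (tt N30764 (iv F283952)) (tt N29830 F281573))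
theorem Q30243 : ∀ i, i < 30243 → P i := stepQ 30242 Q30242 (allL N30242 (tt N29496 F281574) (tt N29621 F281575) (tt N29856 F281576) (tt N30803 D63573) (tt N29495 (iv D63012)) (tt N30624 (iv F283230)) (tt N29498 F281577) (tt N30507 (iv F282491)) (tt N30700 (iv F283682)) (tt N29853 F281578))
theorem Q30244 : ∀ i, i < 30244 → P i := stepQ 30243 Q30243 (allL N30243 (tt N30803 (iv F284149)) (tt N29497 F281579) (tt N30554 (iv F282790)) (tt N29496 (iv D63013)) (tt N29501 F281580) (tt N30524 (iv F282599)) (tt N29499 F281581) (tt N30508 (iv F282498)) (tt N30770 (iv F283985)) (tt N29712 F281582))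
theorem Q30245 : ∀ i, i < 30245 → P i := stepQ 30244 Q30244 (allL N30244 (tt N29499 F281583) (tt N29626 F281584) (tt N30553 (iv F282783)) (tt N29498 (iv D63014)) (tt N29503 F281585) (tt N29692 F281586) (tt N30803 (iv F284152)) (tt N29511 F281587) (tt N30768 (iv F283973)) (tt N29711 F281588))
theorem Q30246 : ∀ i, i < 30246 → P i := stepQ 30245 Q30245 (allL N30245 (tt N29501 F281589) (tt N29631 F281590) (tt N30555 (iv F282798)) (tt N29500 (iv D63015)) (tt N30803 (iv F284151)) (tt N30788 (iv F284078)) (tt N29503 F281591) (tt N30556 (iv F282807)) (tt N30769 (iv F283980)) (tt N30794 (iv F284108)))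
theorem Q30247 : ∀ i, i < 30247 → P i := stepQ 30246 Q30246 (allL N30246 (tt N29502 F281592) (tt N29632 F281593) (tt N30501 (iv F282443)) (tt N30788 (iv F284077)) (tt N30695 (iv F283646)) (tt N29500 (iv D63016)) (tt N29795 F281594) (tt N30557 (iv F282816)) (tt N29797 F281595) (tt N30795 (iv F284112)))
theorem Q30248 : ∀ i, i < 30248 → P i := stepQ 30247 Q30247 (allL N30247 (tt N29506 F281596) (tt N29655 F281597) (tt N29722 F281598) (tt N30804 D63574) (tt N29505 (iv D63017)) (tt N29840 F281599) (tt N30559 (iv F282830)) (tt N29829 F281600) (tt N29720 F281601) (tt N29508 F281602))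
theorem Q30249 : ∀ i, i < 30249 → P i := stepQ 30248 Q30248 (allL N30248 (tt N30804 (iv F284154)) (tt N29507 F281603) (tt N30805 D63575) (tt N29506 (iv D63018)) (tt N30630 (iv F283258)) (tt N29841 F281604) (tt N30560 (iv F282836)) (tt N29830 F281605) (tt N30806 D63576) (tt N29509 F281606))
theorem Q30250 : ∀ i, i < 30250 → P i := stepQ 30249 Q30249 (allL N30249 (tt N29657 F281607) (tt N30806 (iv F284164)) (tt N30249 F281608) (tt N29535 F281609) (tt N30633 (iv F283279)) (tt N29534 F281610) (tt N30563 (iv F282857)) (tt N29831 F281611) (tt N29507 (iv D63019)) (tt N30515 (iv F282547)))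
theorem Q30251 : ∀ i, i < 30251 → P i := stepQ 30250 Q30250 (allL N30250 (tt N29509 F281612) (tt N29658 F281613) (tt N30807 D63577) (tt N29508 (iv D63020)) (tt N30653 (iv F283399)) (tt N29842 F281614) (tt N30564 (iv F282862)) (tt N30801 (iv F284142)) (tt N30808 D63578) (tt N30804 (iv F284158)))
theorem Q30252 : ∀ i, i < 30252 → P i := stepQ 30251 Q30251 (allL N30251 (tt N30807 (iv F284168)) (tt N30251 F281615) (tt N29509 (iv D63021)) (tt N30583 (iv F282992)) (tt N30655 (iv F283410)) (tt N29843 F281616) (tt N30566 (iv F282874)) (tt N30802 (iv F284147)) (tt N30809 D63579) (tt N30805 (iv F284163)))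
theorem Q30253 : ∀ i, i < 30253 → P i := stepQ 30252 Q30252 (allL N30252 (tt N30808 (iv F284170)) (tt N29510 F281617) (tt N30809 (iv F284175)) (tt N29512 F281618) (tt N30657 (iv F283420)) (tt N29694 F281619) (tt N30568 (iv F282886)) (tt N30764 (iv F283951)) (tt N29509 (iv D63022)) (tt N30616 (iv F283189)))
theorem Q30254 : ∀ i, i < 30254 → P i := stepQ 30253 Q30253 (allL N30253 (tt N29512 F281620) (tt N29671 F281621) (tt N30565 (iv F282866)) (tt N30808 (iv F284172)) (tt N29513 F281622) (tt N29693 F281623) (tt N30573 (iv F282922)) (tt N30768 (iv F283972)) (tt N29511 (iv D63023)) (tt N30614 (iv F283182)))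
theorem Q30255 : ∀ i, i < 30255 → P i := stepQ 30254 Q30254 (allL N30254 (tt N29514 F281624) (tt N29678 F281625) (tt N30570 (iv F282897)) (tt N30699 (iv F283674)) (tt N30614 (iv F283180)) (tt N30558 F282826) (tt N30575 (iv F282934)) (tt N30766 (iv F283961)) (tt N30619 (iv F283205)) (tt N29513 (iv D63024)))
theorem Q30256 : ∀ i, i < 30256 → P i := stepQ 30255 Q30255 (allL N30255 (tt N29517 F281626) (tt N29766 F281627) (tt N29838 F281628) (tt N30810 D63580) (tt N29516 (iv D63025)) (tt N30573 (iv F282921)) (tt N29829 F281629) (tt N29550 F281630) (tt N29765 F281631) (tt N30700 (iv F283683)))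
theorem Q30257 : ∀ i, i < 30257 → P i := stepQ 30256 Q30256 (allL N30256 (tt N30810 (iv F284177)) (tt N29518 F281632) (tt N30811 D63581) (tt N29517 (iv D63026)) (tt N29523 F281633) (tt N30568 (iv F282885)) (tt N29830 F281634) (tt N29551 F281635) (tt N30567 F282881) (tt N30701 (iv F283688)))
theorem Q30258 : ∀ i, i < 30258 → P i := stepQ 30257 Q30257 (allL N30257 (tt N29520 F281636) (tt N30746 (iv F283879)) (tt N30602 (iv F283114)) (tt N30812 D63582) (tt N29519 (iv D63027)) (tt N30771 (iv F283988)) (tt N29522 F281637) (tt N30629 (iv F283254)) (tt N29575 F281638) (tt N30651 (iv F283389)))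
theorem Q30259 : ∀ i, i < 30259 → P i := stepQ 30258 Q30258 (allL N30258 (tt N30812 (iv F284187)) (tt N29521 F281639) (tt N30813 D63583) (tt N29520 (iv D63028)) (tt N29830 F281640) (tt N30765 (iv F283956)) (tt N29523 F281641) (tt N30630 (iv F283260)) (tt N30814 D63584) (tt N30652 (iv F283396)))
theorem Q30260 : ∀ i, i < 30260 → P i := stepQ 30259 Q30259 (allL N30259 (tt N30549 (iv F282754)) (tt N30814 (iv F284193)) (tt N30259 F281642) (tt N29578 F281643) (tt N29831 F281644) (tt N30715 (iv F283740)) (tt N29524 F281645) (tt N30633 (iv F283281)) (tt N29521 (iv D63029)) (tt N30758 (iv F283935)))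
theorem Q30261 : ∀ i, i < 30261 → P i := stepQ 30260 Q30260 (allL N30260 (tt N29523 F281646) (tt N30779 (iv F284030)) (tt N30815 D63585) (tt N29522 (iv D63030)) (tt N30810 (iv F284179)) (tt N30772 (iv F283993)) (tt N30812 (iv F284189)) (tt N29561 F281647) (tt N30816 D63586) (tt N30702 (iv F283691)))
theorem Q30262 : ∀ i, i < 30262 → P i := stepQ 30261 Q30261 (allL N30261 (tt N30815 (iv F284197)) (tt N30261 F281648) (tt N29523 (iv D63031)) (tt N30607 (iv F283144)) (tt N30811 (iv F284184)) (tt N30773 (iv F283998)) (tt N30813 (iv F284192)) (tt N29562 F281649) (tt N30817 D63587) (tt N30703 (iv F283695)))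
theorem Q30263 : ∀ i, i < 30263 → P i := stepQ 30262 Q30262 (allL N30262 (tt N30816 (iv F284199)) (tt N29524 F281650) (tt N30817 (iv F284204)) (tt N29581 F281651) (tt N30567 (iv F282878)) (tt N29758 F281652) (tt N30814 (iv F284196)) (tt N29563 F281653) (tt N29523 (iv D63032)) (tt N30818 D63588))
theorem Q30264 : ∀ i, i < 30264 → P i := stepQ 30263 Q30263 (allL N30263 (tt N30598 (iv F283089)) (tt N30818 (iv F284207)) (tt N30263 F281654) (tt N29582 F281655) (tt N30562 (iv F282849)) (tt N29756 F281656) (tt N30758 (iv F283934)) (tt N29564 F281657) (tt N30605 (iv F283137)) (tt N29524 (iv D63033)))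
theorem Q30265 : ∀ i, i < 30265 → P i := stepQ 30264 Q30264 (allL N30264 (tt N29526 F281658) (tt N29536 F281659) (tt N29707 F281660) (tt N30819 D63589) (tt N29525 (iv D63034)) (tt N30820 D63590) (tt N29820 F281661) (tt N29713 F281662) (tt N29702 F281663) (tt N30588 (iv F283030)))
theorem Q30266 : ∀ i, i < 30266 → P i := stepQ 30265 Q30265 (allL N30265 (tt N30819 (iv F284211)) (tt N29527 F281664) (tt N29712 F281665) (tt N29526 (iv D63035)) (tt N30534 (iv F282661)) (tt N30821 D63591) (tt N29703 F281666) (tt N29714 F281667) (tt N30822 D63592) (tt N30554 (iv F282795)))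
theorem Q30267 : ∀ i, i < 30267 → P i := stepQ 30266 Q30266 (allL N30266 (tt N30820 (iv F284216)) (tt N29528 F281668) (tt N29708 F281669) (tt N30821 (iv F284223)) (tt N30531 (iv F282639)) (tt N29526 (iv D63036)) (tt N30822 (iv F284231)) (tt N29715 F281670) (tt N29703 F281671) (tt N30589 (iv F283036)))
theorem Q30268 : ∀ i, i < 30268 → P i := stepQ 30267 Q30267 (allL N30267 (tt N29539 F281672) (tt N30821 (iv F284221)) (tt N29530 F281673) (tt N29528 F281674) (tt N30538 (iv F282690)) (tt N29527 (iv D63037)) (tt N29684 F281675) (tt N29709 F281676) (tt N29682 (iv F281677)) (tt N30511 (iv F282522)))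
theorem Q30269 : ∀ i, i < 30269 → P i := stepQ 30268 Q30268 (allL N30268 (tt N29540 F281678) (tt N30822 (iv F284227)) (tt N29529 F281679) (tt N29684 F281680) (tt N30532 (iv F282646)) (tt N29682 F281681) (tt N29528 F281682) (tt N29686 F281683) (tt N29527 (iv D63038)) (tt N30510 (iv F282514)))
theorem Q30270 : ∀ i, i < 30270 → P i := stepQ 30269 Q30269 (allL N30269 (tt N29533 F281684) (tt N30529 (iv F282623)) (tt N29550 F281685) (tt N30823 D63593) (tt N29532 (iv D63039)) (tt N30824 D63594) (tt N30590 (iv F283040)) (tt N29838 F281686) (tt N29844 F281687) (tt N30512 (iv F282529)))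
theorem Q30271 : ∀ i, i < 30271 → P i := stepQ 30270 Q30270 (allL N30270 (tt N30823 (iv F284233)) (tt N29534 F281688) (tt N30825 D63595) (tt N29533 (iv D63040)) (tt N30542 (iv F282716)) (tt N30806 (iv F284166)) (tt N30591 (iv F283046)) (tt N29839 F281689) (tt N29841 F281690) (tt N30513 (iv F282535)))
theorem Q30272 : ∀ i, i < 30272 → P i := stepQ 30271 Q30271 (allL N30271 (tt N30824 (iv F284236)) (tt N29535 F281691) (tt N29552 F281692) (tt N30806 (iv F284165)) (tt N29538 F281693) (tt N29533 (iv D63041)) (tt N30612 (iv F283171)) (tt N29833 F281694) (tt N29721 F281695) (tt N30514 (iv F282541)))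
theorem Q30273 : ∀ i, i < 30273 → P i := stepQ 30272 Q30272 (allL N30272 (tt N29537 F281696) (tt N30819 (iv F284212)) (tt N30556 (iv F282805)) (tt N29536 (iv D63042)) (tt N30610 (iv F283161)) (tt N30826 D63596) (tt N29822 F281697) (tt N30555 (iv F282801)) (tt N30827 D63597) (tt N30704 (iv F283699)))
theorem Q30274 : ∀ i, i < 30274 → P i := stepQ 30273 Q30273 (allL N30273 (tt N29538 F281698) (tt N30820 (iv F284217)) (tt N29556 F281699) (tt N30826 (iv F284247)) (tt N30824 (iv F284238)) (tt N29536 (iv D63043)) (tt N30827 (iv F284255)) (tt N30572 F282916) (tt N29822 F281700) (tt N30705 (iv F283702)))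
theorem Q30275 : ∀ i, i < 30275 → P i := stepQ 30274 Q30274 (allL N30274 (tt N30826 (iv F284245)) (tt N29539 F281701) (tt N29634 F281702) (tt N29538 F281703) (tt N30828 D63598) (tt N29537 (iv D63044)) (tt N29638 F281704) (tt N29763 F281705) (tt N29633 (iv F281706)) (tt N30706 (iv F283708)))
theorem Q30276 : ∀ i, i < 30276 → P i := stepQ 30275 Q30275 (allL N30275 (tt N30827 (iv F284251)) (tt N29540 F281707) (tt N29557 F281708) (tt N29638 F281709) (tt N30612 (iv F283170)) (tt N29633 F281710) (tt N29538 F281711) (tt N29679 F281712) (tt N29537 (iv D63045)) (tt N30708 (iv F283717)))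
theorem Q30277 : ∀ i, i < 30277 → P i := stepQ 30276 Q30276 (allL N30276 (tt N30538 (iv F282687)) (tt N30828 (iv F284257)) (tt N29541 F281713) (tt N30633 (iv F283278)) (tt N29539 (iv D63046)) (tt N30599 (iv F283099)) (tt N29586 F281714) (tt N29578 F281715) (tt N29574 F281716) (tt N30678 (iv F283552)))
theorem Q30278 : ∀ i, i < 30278 → P i := stepQ 30277 Q30277 (allL N30277 (tt N29543 F281717) (tt N29753 F281718) (tt N29844 F281719) (tt N30553 (iv F282784)) (tt N29542 (iv D63047)) (tt N30552 F282779) (tt N30588 (iv F283027)) (tt N29765 F281720) (tt N29550 F281721) (tt N29820 F281722))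
theorem Q30279 : ∀ i, i < 30279 → P i := stepQ 30278 Q30278 (allL N30278 (tt N29546 F281723) (tt N30517 (iv F282556)) (tt N30590 (iv F283039)) (tt N30829 D63599) (tt N29545 (iv D63048)) (tt N30830 D63600) (tt N29550 F281724) (tt N30559 (iv F282831)) (tt N30588 (iv F283029)) (tt N29745 F281725))
theorem Q30280 : ∀ i, i < 30280 → P i := stepQ 30279 Q30279 (allL N30279 (tt N30829 (iv F284262)) (tt N29547 F281726) (tt N30831 D63601) (tt N29546 (iv D63049)) (tt N29559 F281727) (tt N30832 D63602) (tt N29551 F281728) (tt N30560 (iv F282837)) (tt N30833 D63603) (tt N29746 F281729))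
theorem Q30281 : ∀ i, i < 30281 → P i := stepQ 30280 Q30280 (allL N30280 (tt N30830 (iv F284266)) (tt N29548 F281730) (tt N30592 (iv F283051)) (tt N30832 (iv F284274)) (tt N29729 F281731) (tt N29546 (iv D63050)) (tt N30834 D63604) (tt N30561 (iv F282843)) (tt N30589 (iv F283035)) (tt N29747 F281732))
theorem Q30282 : ∀ i, i < 30282 → P i := stepQ 30281 Q30281 (allL N30281 (tt N30520 (iv F282573)) (tt N30832 (iv F284273)) (tt N30281 F281733) (tt N29548 F281734) (tt N29564 F281735) (tt N29547 (iv D63051)) (tt N30723 (iv F283776)) (tt N30562 (iv F282851)) (tt N30722 F283771) (tt N29554 F281736))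
theorem Q30283 : ∀ i, i < 30283 → P i := stepQ 30282 Q30282 (allL N30282 (tt N30521 (iv F282579)) (tt N30833 (iv F284277)) (tt N30282 F281737) (tt N29687 F281738) (tt N29560 F281739) (tt N30722 (iv F283769)) (tt N29554 F281740) (tt N30563 (iv F282858)) (tt N29547 (iv D63052)) (tt N30723 (iv F283777)))
theorem Q30284 : ∀ i, i < 30284 → P i := stepQ 30283 Q30283 (allL N30283 (tt N30522 (iv F282585)) (tt N30834 (iv F284281)) (tt N29549 F281741) (tt N30723 (iv F283773)) (tt N29624 F281742) (tt N29555 F281743) (tt N29548 (iv D63053)) (tt N30516 (iv F282552)) (tt N30510 (iv F282513)) (tt N29687 F281744))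
theorem Q30285 : ∀ i, i < 30285 → P i := stepQ 30284 Q30284 (allL N30284 (tt N29551 F281745) (tt N30782 (iv F284046)) (tt N30835 D63605) (tt N29550 (iv D63054)) (tt N29561 F281746) (tt N30836 D63606) (tt N30829 (iv F284264)) (tt N30810 (iv F284181)) (tt N30837 D63607) (tt N30716 (iv F283746)))
theorem Q30286 : ∀ i, i < 30286 → P i := stepQ 30285 Q30285 (allL N30285 (tt N29552 F281747) (tt N30783 (iv F284050)) (tt N30824 (iv F284237)) (tt N30836 (iv F284288)) (tt N29556 F281748) (tt N29550 (iv D63055)) (tt N30838 D63608) (tt N30573 (iv F282923)) (tt N30552 (iv F282780)) (tt N30717 (iv F283749)))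
theorem Q30287 : ∀ i, i < 30287 → P i := stepQ 30286 Q30286 (allL N30286 (tt N30835 (iv F284285)) (tt N30286 F281749) (tt N29551 (iv D63056)) (tt N30825 (iv F284242)) (tt N29562 F281750) (tt N30839 D63609) (tt N30831 (iv F284271)) (tt N30811 (iv F284186)) (tt N30840 D63610) (tt N30718 (iv F283753)))
theorem Q30288 : ∀ i, i < 30288 → P i := stepQ 30287 Q30287 (allL N30287 (tt N30836 (iv F284287)) (tt N29553 F281751) (tt N30839 (iv F284298)) (tt N29552 F281752) (tt N29751 F281753) (tt N29551 (iv D63057)) (tt N30720 (iv F283761)) (tt N30568 (iv F282887)) (tt N29746 (iv F281754)) (tt N30719 (iv F283757)))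
theorem Q30289 : ∀ i, i < 30289 → P i := stepQ 30288 Q30288 (allL N30288 (tt N30837 (iv F284291)) (tt N29554 F281755) (tt N30840 (iv F284302)) (tt N29747 F281756) (tt N29563 F281757) (tt N29746 F281758) (tt N30833 (iv F284280)) (tt N30567 (iv F282880)) (tt N29551 (iv D63058)) (tt N30832 (iv F284276)))
theorem Q30290 : ∀ i, i < 30290 → P i := stepQ 30289 Q30289 (allL N30289 (tt N30838 (iv F284295)) (tt N29555 F281759) (tt N30612 (iv F283169)) (tt N30720 (iv F283759)) (tt N29557 F281760) (tt N30834 (iv F284283)) (tt N29552 (iv D63059)) (tt N30770 (iv F283984)) (tt N30508 F282500) (tt N30721 (iv F283765)))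
theorem Q30291 : ∀ i, i < 30291 → P i := stepQ 30290 Q30290 (allL N30290 (tt N29557 F281761) (tt N30788 (iv F284075)) (tt N30827 (iv F284252)) (tt N29632 F281762) (tt N30838 (iv F284296)) (tt N29631 F281763) (tt N29556 (iv D63060)) (tt N30769 (iv F283979)) (tt N30556 (iv F282808)) (tt N30724 (iv F283781)))
theorem Q30292 : ∀ i, i < 30292 → P i := stepQ 30291 Q30291 (allL N30291 (tt N29559 F281764) (tt N30525 (iv F282602)) (tt N30841 D63611) (tt N29558 (iv D63061)) (tt N30829 (iv F284263)) (tt N30580 (iv F282970)) (tt N29561 F281765) (tt N30634 (iv F283284)) (tt N30842 D63612) (tt N29749 F281766))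
theorem Q30293 : ∀ i, i < 30293 → P i := stepQ 30292 Q30292 (allL N30292 (tt N30841 (iv F284305)) (tt N30292 F281767) (tt N29559 (iv D63062)) (tt N29827 F281768) (tt N30831 (iv F284270)) (tt N30581 (iv F282978)) (tt N29562 F281769) (tt N30635 (iv F283289)) (tt N30843 D63613) (tt N29750 F281770))
theorem Q30294 : ∀ i, i < 30294 → P i := stepQ 30293 Q30293 (allL N30293 (tt N30842 (iv F284309)) (tt N29560 F281771) (tt N30843 (iv F284314)) (tt N29588 F281772) (tt N30833 (iv F284279)) (tt N29740 F281773) (tt N29563 F281774) (tt N30636 (iv F283294)) (tt N29559 (iv D63063)) (tt N30844 D63614))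
theorem Q30295 : ∀ i, i < 30295 → P i := stepQ 30294 Q30294 (allL N30294 (tt N30528 (iv F282615)) (tt N30844 (iv F284318)) (tt N30294 F281775) (tt N29589 F281776) (tt N30723 (iv F283774)) (tt N29600 F281777) (tt N29564 F281778) (tt N30637 (iv F283299)) (tt N29752 F281779) (tt N29560 (iv D63064)))
theorem Q30296 : ∀ i, i < 30296 → P i := stepQ 30295 Q30295 (allL N30295 (tt N29562 F281780) (tt N30845 D63615) (tt N29561 (iv D63065)) (tt N30625 (iv F283233)) (tt N30835 (iv F284286)) (tt N30774 (iv F284002)) (tt N30841 (iv F284307)) (tt N30815 (iv F284198)) (tt N30846 D63616) (tt N30726 (iv F283791)))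
theorem Q30297 : ∀ i, i < 30297 → P i := stepQ 30296 Q30296 (allL N30296 (tt N29563 F281781) (tt N30790 (iv F284084)) (tt N30846 (iv F284325)) (tt N29591 F281782) (tt N30837 (iv F284293)) (tt N29773 F281783) (tt N30842 (iv F284312)) (tt N30816 (iv F284202)) (tt N29561 (iv D63066)) (tt N30847 D63617))
theorem Q30298 : ∀ i, i < 30298 → P i := stepQ 30297 Q30297 (allL N30297 (tt N30846 (iv F284324)) (tt N30297 F281784) (tt N29563 F281785) (tt N30848 D63618) (tt N30840 (iv F284303)) (tt N29774 F281786) (tt N30843 (iv F284317)) (tt N30817 (iv F284206)) (tt N29562 (iv D63067)) (tt N30849 D63619))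
theorem Q30299 : ∀ i, i < 30299 → P i := stepQ 30298 Q30298 (allL N30298 (tt N30847 (iv F284327)) (tt N29564 F281787) (tt N30849 (iv F284336)) (tt N29593 F281788) (tt N30832 (iv F284275)) (tt N29772 F281789) (tt N30844 (iv F284321)) (tt N30818 (iv F284210)) (tt N30729 (iv F283804)) (tt N29563 (iv D63068)))
theorem Q30300 : ∀ i, i < 30300 → P i := stepQ 30299 Q30299 (allL N30299 (tt N29566 F281790) (tt N30730 (iv F283806)) (tt N30629 (iv F283252)) (tt N30850 D63620) (tt N29565 (iv D63069)) (tt N30745 (iv F283876)) (tt N29568 F281791) (tt N30602 (iv F283116)) (tt N29828 F281792) (tt N29605 F281793))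
theorem Q30301 : ∀ i, i < 30301 → P i := stepQ 30300 Q30300 (allL N30300 (tt N30850 (iv F284338)) (tt N29567 F281794) (tt N30851 D63621) (tt N29566 (iv D63070)) (tt N29740 F281795) (tt N30729 (iv F283802)) (tt N29569 F281796) (tt N30603 (iv F283122)) (tt N29772 F281797) (tt N29606 F281798))
theorem Q30302 : ∀ i, i < 30302 → P i := stepQ 30301 Q30301 (allL N30301 (tt N29569 F281799) (tt N30792 (iv F284091)) (tt N30852 D63622) (tt N29568 (iv D63071)) (tt N30642 (iv F283326)) (tt N30775 (iv F284007)) (tt N30850 (iv F284340)) (tt N29826 F281800) (tt N30853 D63623) (tt N29607 F281801))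
theorem Q30303 : ∀ i, i < 30303 → P i := stepQ 30302 Q30302 (allL N30302 (tt N30852 (iv F284348)) (tt N30302 F281802) (tt N29569 (iv D63072)) (tt N30635 (iv F283287)) (tt N30643 (iv F283334)) (tt N30776 (iv F284014)) (tt N30851 (iv F284345)) (tt N29827 F281803) (tt N30854 D63624) (tt N29608 F281804))
theorem Q30304 : ∀ i, i < 30304 → P i := stepQ 30303 Q30303 (allL N30303 (tt N30853 (iv F284351)) (tt N29570 F281805) (tt N30854 (iv F284360)) (tt N29603 F281806) (tt N29815 F281807) (tt N29602 F281808) (tt N29772 F281809) (tt N29642 F281810) (tt N29569 (iv D63073)) (tt N29770 F281811))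
theorem Q30305 : ∀ i, i < 30305 → P i := stepQ 30304 Q30304 (allL N30304 (tt N29573 F281812) (tt N30535 (iv F282666)) (tt N29828 F281813) (tt N30855 D63625) (tt N29572 (iv D63074)) (tt N30767 (iv F283965)) (tt N29584 F281814) (tt N29575 F281815) (tt N30629 (iv F283255)) (tt N29629 F281816))
theorem Q30306 : ∀ i, i < 30306 → P i := stepQ 30305 Q30305 (allL N30305 (tt N30855 (iv F284367)) (tt N29574 F281817) (tt N29622 F281818) (tt N29573 (iv D63075)) (tt N29633 F281819) (tt N30725 (iv F283785)) (tt N29585 F281820) (tt N29576 F281821) (tt N30828 (iv F284261)) (tt N29630 F281822))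
theorem Q30307 : ∀ i, i < 30307 → P i := stepQ 30306 Q30306 (allL N30306 (tt N29576 F281823) (tt N30794 (iv F284105)) (tt N30856 D63626) (tt N29575 (iv D63076)) (tt N29764 F281824) (tt N30724 (iv F283780)) (tt N29579 F281825) (tt N30855 (iv F284371)) (tt N30857 D63627) (tt N29631 F281826))
theorem Q30308 : ∀ i, i < 30308 → P i := stepQ 30307 Q30307 (allL N30307 (tt N29577 F281827) (tt N30795 (iv F284110)) (tt N30640 (iv F283313)) (tt N30724 (iv F283779)) (tt N30745 (iv F283875)) (tt N29575 (iv D63077)) (tt N30668 (iv F283485)) (tt N30767 F283967) (tt N30771 (iv F283989)) (tt N29632 F281828))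
theorem Q30309 : ∀ i, i < 30309 → P i := stepQ 30308 Q30308 (allL N30308 (tt N30856 (iv F284373)) (tt N29594 F281829) (tt N29576 (iv D63078)) (tt N29619 F281830) (tt N29630 F281831) (tt N30708 (iv F283715)) (tt N29580 F281832) (tt N29622 F281833) (tt N30787 (iv F284073)) (tt N29633 F281834))
theorem Q30310 : ∀ i, i < 30310 → P i := stepQ 30309 Q30309 (allL N30309 (tt N30857 (iv F284379)) (tt N29578 F281835) (tt N30787 (iv F284070)) (tt N30814 (iv F284194)) (tt N29763 F281836) (tt N30713 (iv F283729)) (tt N29581 F281837) (tt N30828 (iv F284260)) (tt N29576 (iv D63079)) (tt N30858 D63628))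
theorem Q30311 : ∀ i, i < 30311 → P i := stepQ 30310 Q30310 (allL N30310 (tt N30599 (iv F283096)) (tt N30858 (iv F284382)) (tt N29595 F281838) (tt N30758 (iv F283931)) (tt N29761 F281839) (tt N30538 (iv F282691)) (tt N29582 F281840) (tt N30678 (iv F283550)) (tt N29635 F281841) (tt N29578 (iv D63080)))
theorem Q30312 : ∀ i, i < 30312 → P i := stepQ 30311 Q30311 (allL N30311 (tt N29580 F281842) (tt N30552 (iv F282774)) (tt N29579 (iv D63081)) (tt N29668 F281843) (tt N29673 F281844) (tt N29753 F281845) (tt N30856 (iv F284376)) (tt N29590 F281846) (tt N30783 (iv F284054)) (tt N29636 F281847))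
theorem Q30313 : ∀ i, i < 30313 → P i := stepQ 30312 Q30312 (allL N30312 (tt N29581 F281848) (tt N30797 (iv F284117)) (tt N30783 (iv F284051)) (tt N30816 (iv F284200)) (tt N29762 F281849) (tt N29757 F281850) (tt N30857 (iv F284381)) (tt N29591 F281851) (tt N29579 (iv D63082)) (tt N30859 D63629))
theorem Q30314 : ∀ i, i < 30314 → P i := stepQ 30313 Q30313 (allL N30313 (tt N30859 (iv F284386)) (tt N29582 F281852) (tt N30681 (iv F283566)) (tt N30818 (iv F284208)) (tt N29760 F281853) (tt N29755 F281854) (tt N30858 (iv F284384)) (tt N29593 F281855) (tt N29639 F281856) (tt N29581 (iv D63083)))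
theorem Q30315 : ∀ i, i < 30315 → P i := stepQ 30314 Q30314 (allL N30314 (tt N29585 F281857) (tt N30539 (iv F282696)) (tt N29626 F281858) (tt N29584 (iv D63084)) (tt N29636 F281859) (tt N29733 F281860) (tt N30855 (iv F284370)) (tt N29587 F281861) (tt N30860 D63630) (tt N29673 F281862))
theorem Q30316 : ∀ i, i < 30316 → P i := stepQ 30315 Q30315 (allL N30315 (tt N30860 (iv F284391)) (tt N29586 F281863) (tt N29627 F281864) (tt N30636 (iv F283292)) (tt N29638 F281865) (tt N29731 F281866) (tt N30828 (iv F284259)) (tt N29588 F281867) (tt N29585 (iv D63085)) (tt N30677 (iv F283545)))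
theorem Q30317 : ∀ i, i < 30317 → P i := stepQ 30316 Q30316 (allL N30316 (tt N29588 F281868) (tt N30550 (iv F282761)) (tt N29671 F281869) (tt N30842 (iv F284310)) (tt N29677 F281870) (tt N29739 F281871) (tt N29591 F281872) (tt N30860 (iv F284395)) (tt N29587 (iv D63086)) (tt N30861 D63631))
theorem Q30318 : ∀ i, i < 30318 → P i := stepQ 30317 Q30317 (allL N30317 (tt N30861 (iv F284396)) (tt N29589 F281873) (tt N29672 F281874) (tt N30844 (iv F284319)) (tt N29623 F281875) (tt N29599 F281876) (tt N29593 F281877) (tt N30677 (iv F283543)) (tt N29675 F281878) (tt N29588 (iv D63087)))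
theorem Q30319 : ∀ i, i < 30319 → P i := stepQ 30318 Q30318 (allL N30318 (tt N29592 F281879) (tt N30573 (iv F282918)) (tt N29591 F281880) (tt N30862 D63632) (tt N29674 F281881) (tt N29766 F281882) (tt N29671 F281883) (tt N30783 (iv F284053)) (tt N29590 (iv D63088)) (tt N30863 D63633))
theorem Q30320 : ∀ i, i < 30320 → P i := stepQ 30319 Q30319 (allL N30319 (tt N29593 F281884) (tt N30619 (iv F283203)) (tt N30863 (iv F284407)) (tt N30847 (iv F284328)) (tt N29775 F281885) (tt N29771 F281886) (tt N30861 (iv F284400)) (tt N30859 (iv F284389)) (tt N29678 F281887) (tt N29591 (iv D63089)))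
theorem Q30321 : ∀ i, i < 30321 → P i := stepQ 30320 Q30320 (allL N30320 (tt N30862 (iv F284402)) (tt N29596 F281888) (tt N30848 (iv F284331)) (tt N29592 (iv D63090)) (tt N30586 (iv F283012)) (tt N29767 F281889) (tt N29662 F281890) (tt N30785 (iv F284062)) (tt N29652 F281891) (tt N30864 D63634))
theorem Q30322 : ∀ i, i < 30322 → P i := stepQ 30321 Q30321 (allL N30321 (tt N30863 (iv F284406)) (tt N29597 F281892) (tt N29593 F281893) (tt N30864 (iv F284413)) (tt N29675 F281894) (tt N29612 F281895) (tt N29672 F281896) (tt N30681 (iv F283568)) (tt N29623 F281897) (tt N29592 (iv D63091)))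
theorem Q30323 : ∀ i, i < 30323 → P i := stepQ 30322 Q30322 (allL N30322 (tt N30569 (iv F282888)) (tt N30864 (iv F284412)) (tt N30322 F281898) (tt N29597 F281899) (tt N30587 (iv F283019)) (tt N29613 F281900) (tt N29664 F281901) (tt N30682 (iv F283575)) (tt N30714 (iv F283734)) (tt N29596 (iv D63092)))
theorem Q30324 : ∀ i, i < 30324 → P i := stepQ 30323 Q30323 (allL N30323 (tt N29599 F281902) (tt N30650 (iv F283376)) (tt N29741 F281903) (tt N30865 D63635) (tt N29598 (iv D63093)) (tt N30861 (iv F284399)) (tt N29601 F281904) (tt N30675 (iv F283531)) (tt N29768 F281905) (tt N29739 F281906))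
theorem Q30325 : ∀ i, i < 30325 → P i := stepQ 30324 Q30324 (allL N30324 (tt N30865 (iv F284416)) (tt N29600 F281907) (tt N30866 D63636) (tt N29599 (iv D63094)) (tt N29606 F281908) (tt N30844 (iv F284320)) (tt N29602 F281909) (tt N30676 (iv F283537)) (tt N30666 (iv F283471)) (tt N29740 F281910))
theorem Q30326 : ∀ i, i < 30326 → P i := stepQ 30325 Q30325 (allL N30325 (tt N29602 F281911) (tt N30798 (iv F284122)) (tt N30867 D63637) (tt N29601 (iv D63095)) (tt N29607 F281912) (tt N30853 (iv F284355)) (tt N30865 (iv F284418)) (tt N29845 F281913) (tt N30775 (iv F284009)) (tt N30642 (iv F283331)))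
theorem Q30327 : ∀ i, i < 30327 → P i := stepQ 30326 Q30326 (allL N30326 (tt N29603 F281914) (tt N29824 F281915) (tt N29615 F281916) (tt N30853 (iv F284353)) (tt N29604 F281917) (tt N29601 (iv D63096)) (tt N29771 (iv F281921)) (tt N29641 F281918) (tt N29610 F281919) (tt N29769 F281920))
theorem Q30328 : ∀ i, i < 30328 → P i := stepQ 30327 Q30327 (allL N30327 (tt N30867 (iv F284425)) (tt N30327 F281922) (tt N29602 (iv D63097)) (tt N30645 (iv F283349)) (tt N29608 F281923) (tt N30854 (iv F284362)) (tt N30866 (iv F284423)) (tt N29846 F281924) (tt N30776 (iv F284016)) (tt N30643 (iv F283339)))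
theorem Q30329 : ∀ i, i < 30329 → P i := stepQ 30328 Q30328 (allL N30328 (tt N29606 F281925) (tt N30731 (iv F283813)) (tt N30868 D63638) (tt N29605 (iv D63098)) (tt N30865 (iv F284417)) (tt N30727 (iv F283794)) (tt N29607 F281926) (tt N30690 (iv F283621)) (tt N30669 (iv F283491)) (tt N30850 (iv F284342)))
theorem Q30330 : ∀ i, i < 30330 → P i := stepQ 30329 Q30329 (allL N30329 (tt N30868 (iv F284428)) (tt N30329 F281927) (tt N29606 (iv D63099)) (tt N30655 (iv F283409)) (tt N30866 (iv F284422)) (tt N30728 (iv F283798)) (tt N29608 F281928) (tt N30692 (iv F283631)) (tt N30670 (iv F283497)) (tt N30851 (iv F284347)))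
theorem Q30331 : ∀ i, i < 30331 → P i := stepQ 30330 Q30330 (allL N30330 (tt N29608 F281929) (tt N30869 D63639) (tt N29607 (iv D63100)) (tt N30658 (iv F283425)) (tt N30867 (iv F284426)) (tt N30777 (iv F284020)) (tt N30868 (iv F284429)) (tt N29849 F281930) (tt N30870 D63640) (tt N30852 (iv F284350)))
theorem Q30332 : ∀ i, i < 30332 → P i := stepQ 30331 Q30331 (allL N30331 (tt N29609 F281931) (tt N29809 F281932) (tt N30870 (iv F284433)) (tt N29804 F281933) (tt N30775 (iv F284006)) (tt N29818 F281934) (tt N30669 (iv F283490)) (tt N29850 F281935) (tt N29607 (iv D63101)) (tt N30578 (iv F282958)))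
theorem Q30333 : ∀ i, i < 30333 → P i := stepQ 30332 Q30332 (allL N30332 (tt N30870 (iv F284432)) (tt N30332 F281936) (tt N29609 F281937) (tt N30688 (iv F283608)) (tt N30776 (iv F284013)) (tt N29819 F281938) (tt N30670 (iv F283496)) (tt N29851 F281939) (tt N29608 (iv D63102)) (tt N30579 (iv F282966)))
theorem Q30334 : ∀ i, i < 30334 → P i := stepQ 30333 Q30333 (allL N30333 (tt N29612 F281940) (tt N30700 (iv F283678)) (tt N29771 F281941) (tt N30871 D63641) (tt N29611 (iv D63103)) (tt N30863 (iv F284409)) (tt N29615 F281942) (tt N30679 (iv F283557)) (tt N29621 F281943) (tt N29766 F281944))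
theorem Q30335 : ∀ i, i < 30335 → P i := stepQ 30334 Q30334 (allL N30334 (tt N30871 (iv F284436)) (tt N29613 F281945) (tt N30872 D63642) (tt N29612 (iv D63104)) (tt N30674 (iv F283526)) (tt N30864 (iv F284414)) (tt N29616 F281946) (tt N30680 (iv F283563)) (tt N30744 (iv F283873)) (tt N29767 F281947))
theorem Q30336 : ∀ i, i < 30336 → P i := stepQ 30335 Q30335 (allL N30335 (tt N29616 F281948) (tt N30801 (iv F284140)) (tt N30873 D63643) (tt N29615 (iv D63105)) (tt N30747 (iv F283886)) (tt N30644 (iv F283343)) (tt N30871 (iv F284437)) (tt N29658 F281949) (tt N30874 D63644) (tt N30647 (iv F283362)))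
theorem Q30337 : ∀ i, i < 30337 → P i := stepQ 30336 Q30336 (allL N30336 (tt N30873 (iv F284444)) (tt N30336 F281950) (tt N29616 (iv D63106)) (tt N30854 F284366) (tt N30748 (iv F283890)) (tt N30645 (iv F283351)) (tt N30872 (iv F284442)) (tt N29660 F281951) (tt N30875 D63645) (tt N30648 (iv F283368)))
theorem Q30338 : ∀ i, i < 30338 → P i := stepQ 30337 Q30337 (allL N30337 (tt N30874 (iv F284446)) (tt N29617 F281952) (tt N30875 (iv F284451)) (tt N29627 F281953) (tt N30656 (iv F283414)) (tt N29738 F281954) (tt N30744 (iv F283872)) (tt N29662 F281955) (tt N29616 (iv D63107)) (tt N30876 D63646))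
theorem Q30339 : ∀ i, i < 30339 → P i := stepQ 30338 Q30338 (allL N30338 (tt N30593 (iv F283056)) (tt N30876 (iv F284454)) (tt N30338 F281956) (tt N29628 F281957) (tt N30632 (iv F283272)) (tt N29736 F281958) (tt N30740 (iv F283859)) (tt N29664 F281959) (tt N30544 (iv F282733)) (tt N29617 (iv D63108)))
theorem Q30340 : ∀ i, i < 30340 → P i := stepQ 30339 Q30339 (allL N30339 (tt N29619 F281960) (tt N30507 (iv F282488)) (tt N29823 F281961) (tt N30856 (iv F284374)) (tt N29618 (iv D63109)) (tt N30877 D63647) (tt N29668 F281962) (tt N29621 F281963) (tt N30679 (iv F283558)) (tt N29821 F281964))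
theorem Q30341 : ∀ i, i < 30341 → P i := stepQ 30340 Q30340 (allL N30340 (tt N30877 (iv F284458)) (tt N29620 F281965) (tt N29639 F281966) (tt N30708 (iv F283714)) (tt N30677 (iv F283542)) (tt N29619 (iv D63110)) (tt N30706 (iv F283706)) (tt N29623 F281967) (tt N30681 (iv F283569)) (tt N29638 F281968))
theorem Q30342 : ∀ i, i < 30342 → P i := stepQ 30341 Q30341 (allL N30341 (tt N29622 F281969) (tt N30803 (iv F284150)) (tt N30855 (iv F284368)) (tt N29621 (iv D63111)) (tt N29631 F281970) (tt N30878 D63648) (tt N29626 F281971) (tt N30856 (iv F284377)) (tt N30879 D63649) (tt N29764 F281972))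
theorem Q30343 : ∀ i, i < 30343 → P i := stepQ 30342 Q30342 (allL N30342 (tt N29623 F281973) (tt N30624 (iv F283228)) (tt N29678 F281974) (tt N30878 (iv F284463)) (tt N30861 (iv F284398)) (tt N29621 (iv D63112)) (tt N29775 F281975) (tt N30877 (iv F284460)) (tt N30863 (iv F284411)) (tt N29677 F281976))
theorem Q30344 : ∀ i, i < 30344 → P i := stepQ 30343 Q30343 (allL N30343 (tt N30878 (iv F284462)) (tt N29624 F281977) (tt N30725 (iv F283783)) (tt N29623 F281978) (tt N30834 (iv F284282)) (tt N29622 (iv D63113)) (tt N29729 F281979) (tt N30708 (iv F283716)) (tt N30880 D63650) (tt N29679 F281980))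
theorem Q30345 : ∀ i, i < 30345 → P i := stepQ 30344 Q30344 (allL N30344 (tt N30879 (iv F284466)) (tt N29625 F281981) (tt N30828 (iv F284258)) (tt N30744 (iv F283871)) (tt N29634 F281982) (tt N30880 (iv F284470)) (tt N29627 F281983) (tt N30787 (iv F284072)) (tt N29622 (iv D63114)) (tt N30881 D63651))
theorem Q30346 : ∀ i, i < 30346 → P i := stepQ 30345 Q30345 (allL N30345 (tt N30516 (iv F282548)) (tt N30880 (iv F284469)) (tt N29680 F281984) (tt N30714 (iv F283732)) (tt N30510 (iv F282510)) (tt N29625 F281985) (tt N29727 F281986) (tt N30522 (iv F282589)) (tt N29624 (iv D63115)) (tt N30532 (iv F282650)))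
theorem Q30347 : ∀ i, i < 30347 → P i := stepQ 30346 Q30346 (allL N30346 (tt N30594 (iv F283063)) (tt N30881 (iv F284472)) (tt N29681 F281987) (tt N30740 (iv F283857)) (tt N29635 F281988) (tt N30532 (iv F282647)) (tt N29628 F281989) (tt N30684 (iv F283587)) (tt N29761 F281990) (tt N29625 (iv D63116)))
theorem Q30348 : ∀ i, i < 30348 → P i := stepQ 30347 Q30347 (allL N30347 (tt N29627 F281991) (tt N30768 (iv F283969)) (tt N30860 (iv F284392)) (tt N30874 (iv F284447)) (tt N29637 F281992) (tt N29737 F281993) (tt N30879 (iv F284468)) (tt N29671 F281994) (tt N29626 (iv D63117)) (tt N30882 D63652))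
theorem Q30349 : ∀ i, i < 30349 → P i := stepQ 30348 Q30348 (allL N30348 (tt N30882 (iv F284476)) (tt N29628 F281995) (tt N30677 (iv F283541)) (tt N30876 (iv F284455)) (tt N29639 F281996) (tt N29735 F281997) (tt N30881 (iv F284474)) (tt N29672 F281998) (tt N29760 F281999) (tt N29627 (iv D63118)))
theorem Q30350 : ∀ i, i < 30350 → P i := stepQ 30349 Q30349 (allL N30349 (tt N29630 F282000) (tt N30556 (iv F282804)) (tt N29764 F282001) (tt N29629 (iv D63119)) (tt N30856 (iv F284375)) (tt N30769 (iv F283978)) (tt N29673 F282002) (tt N29631 F282003) (tt N30788 (iv F284080)) (tt N30855 (iv F284372)))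
theorem Q30351 : ∀ i, i < 30351 → P i := stepQ 30350 Q30350 (allL N30350 (tt N29633 F282004) (tt N30883 D63653) (tt N29631 (iv D63120)) (tt N29821 F282005) (tt N30855 (iv F284369)) (tt N30827 (iv F284254)) (tt N29636 F282006) (tt N29764 F282007) (tt N30826 F284250) (tt N30856 (iv F284378)))
theorem Q30352 : ∀ i, i < 30352 → P i := stepQ 30351 Q30351 (allL N30351 (tt N29634 F282008) (tt N30769 (iv F283975)) (tt N30826 (iv F284246)) (tt N30557 (iv F282813)) (tt N30879 (iv F284467)) (tt N30556 F282809) (tt N29637 F282009) (tt N30788 (iv F284079)) (tt N29631 (iv D63121)) (tt N30884 D63654))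
theorem Q30353 : ∀ i, i < 30353 → P i := stepQ 30352 Q30352 (allL N30352 (tt N30884 (iv F284486)) (tt N29635 F282010) (tt N30706 (iv F283704)) (tt N30537 (iv F282681)) (tt N30881 (iv F284473)) (tt N30536 F282678) (tt N29639 F282011) (tt N30686 (iv F283600)) (tt N30858 (iv F284385)) (tt N29634 (iv D63122)))
theorem Q30354 : ∀ i, i < 30354 → P i := stepQ 30353 Q30353 (allL N30353 (tt N29683 F282012) (tt N29636 (iv D63123)) (tt N29852 F282013) (tt N29702 F282014) (tt N30539 (iv F282698)) (tt N29820 F282015) (tt N30883 (iv F284484)) (tt N29676 F282016) (tt N30885 D63655) (tt N30552 (iv F282778)))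
theorem Q30355 : ∀ i, i < 30355 → P i := stepQ 30354 Q30354 (allL N30354 (tt N29638 F282017) (tt N30885 (iv F284489)) (tt N29637 F282018) (tt N30827 (iv F284253)) (tt N30860 (iv F284393)) (tt N29821 F282019) (tt N30826 (iv F284248)) (tt N29677 F282020) (tt N29636 (iv D63124)) (tt N30877 (iv F284461)))
theorem Q30356 : ∀ i, i < 30356 → P i := stepQ 30355 Q30355 (allL N30355 (tt N29639 F282021) (tt N30766 (iv F283958)) (tt N30877 (iv F284459)) (tt N30640 (iv F283314)) (tt N30882 (iv F284477)) (tt N29823 F282022) (tt N30884 (iv F284487)) (tt N29678 F282023) (tt N30859 (iv F284390)) (tt N29637 (iv D63125)))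
theorem Q30357 : ∀ i, i < 30357 → P i := stepQ 30356 Q30356 (allL N30356 (tt N29642 F282024) (tt N30642 (iv F283325)) (tt N30886 D63656) (tt N29641 (iv D63126)) (tt N30792 (iv F284092)) (tt N29845 F282025) (tt N30626 (iv F283239)) (tt N30853 (iv F284357)) (tt N29826 F282026) (tt N30798 (iv F284127)))
theorem Q30358 : ∀ i, i < 30358 → P i := stepQ 30357 Q30357 (allL N30357 (tt N30886 (iv F284493)) (tt N30357 F282027) (tt N29642 (iv D63127)) (tt N29660 F282028) (tt N30793 (iv F284099)) (tt N29846 F282029) (tt N30627 (iv F283242)) (tt N30854 (iv F284364)) (tt N29827 F282030) (tt N30799 (iv F284134)))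
theorem Q30359 : ∀ i, i < 30359 → P i := stepQ 30358 Q30358 (allL N30358 (tt N29644 F282031) (tt N29745 F282032) (tt N30641 (iv F283319)) (tt N30887 D63657) (tt N29643 (iv D63128)) (tt N30888 D63658) (tt N30679 (iv F283556)) (tt N29651 F282033) (tt N29668 F282034) (tt N30517 (iv F282561)))
theorem Q30360 : ∀ i, i < 30360 → P i := stepQ 30359 Q30359 (allL N30359 (tt N30887 (iv F284497)) (tt N29645 F282035) (tt N30889 D63659) (tt N29644 (iv D63129)) (tt N29700 F282036) (tt N30786 (iv F284067)) (tt N30680 (iv F283562)) (tt N29652 F282037) (tt N30785 F284063) (tt N30518 (iv F282566)))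
theorem Q30361 : ∀ i, i < 30361 → P i := stepQ 30360 Q30360 (allL N30360 (tt N30888 (iv F284501)) (tt N29646 F282038) (tt N30540 (iv F282703)) (tt N30786 (iv F284065)) (tt N29698 F282039) (tt N29644 (iv D63130)) (tt N30707 (iv F283711)) (tt N29653 F282040) (tt N29669 F282041) (tt N30519 (iv F282572)))
theorem Q30362 : ∀ i, i < 30362 → P i := stepQ 30361 Q30361 (allL N30361 (tt N29648 F282042) (tt N30559 (iv F282828)) (tt N30650 (iv F283377)) (tt N30890 D63660) (tt N29647 (iv D63131)) (tt N30891 D63661) (tt N29655 F282043) (tt N30517 (iv F282559)) (tt N30609 (iv F283158)) (tt N29651 F282044))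
theorem Q30363 : ∀ i, i < 30363 → P i := stepQ 30362 Q30362 (allL N30362 (tt N30890 (iv F284509)) (tt N29649 F282045) (tt N30892 D63662) (tt N29648 (iv D63132)) (tt N30505 (iv F282474)) (tt N30893 D63663) (tt N29656 F282046) (tt N30518 (iv F282565)) (tt N30894 D63664) (tt N29652 F282047))
theorem Q30364 : ∀ i, i < 30364 → P i := stepQ 30363 Q30363 (allL N30363 (tt N30891 (iv F284512)) (tt N29650 F282048) (tt N30551 (iv F282767)) (tt N30893 (iv F284519)) (tt N29855 F282049) (tt N29648 (iv D63133)) (tt N30543 (iv F282724)) (tt N30519 (iv F282570)) (tt N30571 (iv F282906)) (tt N29653 F282050))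
theorem Q30365 : ∀ i, i < 30365 → P i := stepQ 30364 Q30364 (allL N30364 (tt N30562 (iv F282846)) (tt N30893 (iv F284518)) (tt N30364 F282051) (tt N29650 F282052) (tt N30598 (iv F283092)) (tt N29649 (iv D63134)) (tt N30544 (iv F282731)) (tt N30520 (iv F282577)) (tt N30740 (iv F283860)) (tt N29654 F282053))
theorem Q30366 : ∀ i, i < 30366 → P i := stepQ 30365 Q30365 (allL N30365 (tt N30563 (iv F282853)) (tt N30894 (iv F284521)) (tt N30365 F282054) (tt N30532 (iv F282645)) (tt N30506 (iv F282482)) (tt N30740 (iv F283858)) (tt N29657 F282055) (tt N30521 (iv F282584)) (tt N29649 (iv D63135)) (tt N30714 (iv F283735)))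
theorem Q30367 : ∀ i, i < 30367 → P i := stepQ 30366 Q30366 (allL N30366 (tt N29652 F282056) (tt N30564 (iv F282860)) (tt N30895 D63665) (tt N29651 (iv D63136)) (tt N30584 (iv F283001)) (tt N30896 D63666) (tt N29658 F282057) (tt N30887 (iv F284500)) (tt N30862 (iv F284405)) (tt N30890 (iv F284511)))
theorem Q30368 : ∀ i, i < 30368 → P i := stepQ 30367 Q30367 (allL N30367 (tt N29653 F282058) (tt N30565 (iv F282865)) (tt N30550 (iv F282762)) (tt N30896 (iv F284526)) (tt N29854 F282059) (tt N29651 (iv D63137)) (tt N30546 (iv F282743)) (tt N30888 (iv F284504)) (tt N29670 F282060) (tt N30891 (iv F284514)))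
theorem Q30369 : ∀ i, i < 30369 → P i := stepQ 30368 Q30368 (allL N30368 (tt N30895 (iv F284523)) (tt N30368 F282061) (tt N29652 (iv D63138)) (tt N30627 F283243) (tt N30585 (iv F283006)) (tt N30897 D63667) (tt N29660 F282062) (tt N30889 (iv F284508)) (tt N30848 (iv F284334)) (tt N30892 (iv F284517)))
theorem Q30370 : ∀ i, i < 30370 → P i := stepQ 30369 Q30369 (allL N30369 (tt N30896 (iv F284525)) (tt N29654 F282063) (tt N30897 (iv F284529)) (tt N29653 F282064) (tt N30781 (iv F284042)) (tt N29652 (iv D63139)) (tt N30548 (iv F282751)) (tt N30786 (iv F284068)) (tt N29767 F282065) (tt N30893 (iv F284520)))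
theorem Q30371 : ∀ i, i < 30371 → P i := stepQ 30370 Q30370 (allL N30370 (tt N29656 F282066) (tt N30804 (iv F284155)) (tt N30898 D63668) (tt N29655 (iv D63140)) (tt N30753 (iv F283917)) (tt N30638 (iv F283303)) (tt N30890 (iv F284510)) (tt N30647 (iv F283361)) (tt N30899 D63669) (tt N29658 F282067))
theorem Q30372 : ∀ i, i < 30372 → P i := stepQ 30371 Q30371 (allL N30371 (tt N30898 (iv F284531)) (tt N30371 F282068) (tt N29656 (iv D63141)) (tt N30799 (iv F284129)) (tt N30755 (iv F283923)) (tt N30639 (iv F283308)) (tt N30892 (iv F284516)) (tt N30648 (iv F283367)) (tt N30900 D63670) (tt N29660 F282069))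
theorem Q30373 : ∀ i, i < 30373 → P i := stepQ 30372 Q30372 (allL N30372 (tt N30899 (iv F284533)) (tt N29657 F282070) (tt N30900 (iv F284535)) (tt N30531 (iv F282638)) (tt N30757 (iv F283929)) (tt N30530 F282635) (tt N30894 (iv F284522)) (tt N30548 (iv F282752)) (tt N29656 (iv D63142)) (tt N30901 D63671))
theorem Q30374 : ∀ i, i < 30374 → P i := stepQ 30373 Q30373 (allL N30373 (tt N30515 (iv F282542)) (tt N30901 (iv F284536)) (tt N30373 F282071) (tt N29727 F282072) (tt N30715 (iv F283739)) (tt N29726 F282073) (tt N30714 F283736) (tt N30544 (iv F282732)) (tt N29664 F282074) (tt N29657 (iv D63143)))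
theorem Q30375 : ∀ i, i < 30375 → P i := stepQ 30374 Q30374 (allL N30374 (tt N29660 F282075) (tt N30902 D63672) (tt N29658 (iv D63144)) (tt N30886 (iv F284494)) (tt N30759 (iv F283937)) (tt N30903 D63673) (tt N30895 (iv F284524)) (tt N30873 (iv F284445)) (tt N30904 D63674) (tt N30898 (iv F284532)))
theorem Q30376 : ∀ i, i < 30376 → P i := stepQ 30375 Q30375 (allL N30375 (tt N29661 F282076) (tt N29842 F282077) (tt N30903 (iv F284542)) (tt N29659 F282078) (tt N30905 D63675) (tt N29658 (iv D63145)) (tt N30545 (iv F282737)) (tt N30644 (iv F283345)) (tt N29743 (iv F282079)) (tt N30638 (iv F283305)))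
theorem Q30377 : ∀ i, i < 30377 → P i := stepQ 30376 Q30376 (allL N30376 (tt N29662 F282080) (tt N30808 (iv F284171)) (tt N30904 (iv F284546)) (tt N29671 F282081) (tt N30761 (iv F283942)) (tt N29743 F282082) (tt N30862 (iv F284404)) (tt N30874 (iv F284449)) (tt N29658 (iv D63146)) (tt N30906 D63676))
theorem Q30378 : ∀ i, i < 30378 → P i := stepQ 30377 Q30377 (allL N30377 (tt N30903 (iv F284541)) (tt N30377 F282083) (tt N29661 F282084) (tt N29846 F282085) (tt N30907 D63677) (tt N29660 (iv D63147)) (tt N30547 (iv F282747)) (tt N30645 (iv F283353)) (tt N29744 (iv F282086)) (tt N30639 (iv F283310)))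
theorem Q30379 : ∀ i, i < 30379 → P i := stepQ 30378 Q30378 (allL N30378 (tt N30904 (iv F284545)) (tt N30378 F282087) (tt N29662 F282088) (tt N30843 (iv F284315)) (tt N30763 (iv F283947)) (tt N29744 F282089) (tt N30848 (iv F284333)) (tt N30875 (iv F284453)) (tt N29660 (iv D63148)) (tt N30908 D63678))
theorem Q30380 : ∀ i, i < 30380 → P i := stepQ 30379 Q30379 (allL N30379 (tt N30905 (iv F284548)) (tt N29663 F282090) (tt N30907 (iv F284557)) (tt N29667 F282091) (tt N29661 (iv D63149)) (tt N30764 (iv F283950)) (tt N30513 (iv F282532)) (tt N29694 F282092) (tt N29723 F282093) (tt N30591 (iv F283049)))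
theorem Q30381 : ∀ i, i < 30381 → P i := stepQ 30380 Q30380 (allL N30380 (tt N30906 (iv F284553)) (tt N29664 F282094) (tt N30908 (iv F284562)) (tt N29672 F282095) (tt N30765 (iv F283955)) (tt N29742 F282096) (tt N30864 (iv F284415)) (tt N30876 (iv F284457)) (tt N30901 (iv F284539)) (tt N29662 (iv D63150)))
theorem Q30382 : ∀ i, i < 30382 → P i := stepQ 30381 Q30381 (allL N30381 (tt N29667 F282097) (tt N29737 F282098) (tt N29745 F282099) (tt N30905 (iv F284550)) (tt N29666 (iv D63151)) (tt N30768 (iv F283971)) (tt N30512 (iv F282526)) (tt N29693 F282100) (tt N29692 F282101) (tt N30590 (iv F283043)))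
theorem Q30383 : ∀ i, i < 30383 → P i := stepQ 30382 Q30382 (allL N30382 (tt N29669 F282102) (tt N30553 (iv F282782)) (tt N30539 (iv F282697)) (tt N29753 F282103) (tt N29852 F282104) (tt N29668 (iv D63152)) (tt N30704 (iv F283698)) (tt N29670 F282105) (tt N30888 (iv F284505)) (tt N29822 F282106))
theorem Q30384 : ∀ i, i < 30384 → P i := stepQ 30383 Q30383 (allL N30383 (tt N29672 F282107) (tt N30614 (iv F283179)) (tt N30861 (iv F284397)) (tt N30906 (iv F284554)) (tt N29678 F282108) (tt N29741 F282109) (tt N30863 (iv F284410)) (tt N30882 (iv F284479)) (tt N29775 F282110) (tt N29671 (iv D63153)))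
theorem Q30385 : ∀ i, i < 30385 → P i := stepQ 30384 Q30384 (allL N30384 (tt N29675 F282111) (tt N30575 (iv F282932)) (tt N29775 F282112) (tt N30752 (iv F283912)) (tt N30863 (iv F284408)) (tt N29768 F282113) (tt N29678 F282114) (tt N30685 (iv F283594)) (tt N30861 (iv F284401)) (tt N29674 (iv D63154)))
theorem Q30386 : ∀ i, i < 30386 → P i := stepQ 30385 Q30385 (allL N30385 (tt N29685 F282115) (tt N29677 F282116) (tt N29854 F282117) (tt N30909 D63679) (tt N30550 (iv F282763)) (tt N29853 F282118) (tt N29719 F282119) (tt N30885 (iv F284492)) (tt N29676 (iv D63155)) (tt N30624 (iv F283231)))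
theorem Q30387 : ∀ i, i < 30387 → P i := stepQ 30386 Q30386 (allL N30386 (tt N29679 F282120) (tt N30909 (iv F284565)) (tt N30769 (iv F283976)) (tt N29677 (iv D63156)) (tt N30910 D63680) (tt N29764 F282121) (tt N29748 F282122) (tt N30827 (iv F284256)) (tt N30555 (iv F282802)) (tt N30878 (iv F284465)))
theorem Q30388 : ∀ i, i < 30388 → P i := stepQ 30387 Q30387 (allL N30387 (tt N30910 (iv F284569)) (tt N29687 F282123) (tt N30770 (iv F283982)) (tt N30833 (iv F284278)) (tt N29679 (iv D63157)) (tt N30721 (iv F283764)) (tt N29747 F282124) (tt N30612 (iv F283172)) (tt N30554 (iv F282794)) (tt N30834 (iv F284284)))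
theorem Q30389 : ∀ i, i < 30389 → P i := stepQ 30388 Q30388 (allL N30388 (tt N30883 (iv F284481)) (tt N29682 (iv D63158)) (tt N29714 F282125) (tt N29696 F282126) (tt N30536 (iv F282674)) (tt N30822 (iv F284230)) (tt N29683 F282127) (tt N29712 F282128) (tt N30821 F284226) (tt N30508 (iv F282499)))
theorem Q30390 : ∀ i, i < 30390 → P i := stepQ 30389 Q30389 (allL N30389 (tt N30885 (iv F284488)) (tt N29684 F282129) (tt N29698 F282130) (tt N30822 (iv F284229)) (tt N30540 (iv F282704)) (tt N29696 F282131) (tt N30821 (iv F284224)) (tt N29685 F282132) (tt N29683 (iv D63159)) (tt N30509 (iv F282506)))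
theorem Q30391 : ∀ i, i < 30391 → P i := stepQ 30390 Q30390 (allL N30390 (tt N30909 (iv F284564)) (tt N29686 F282133) (tt N30821 (iv F284222)) (tt N29685 (iv D63160)) (tt N30707 (iv F283710)) (tt N29712 F282134) (tt N29698 F282135) (tt N30822 (iv F284232)) (tt N29714 F282136) (tt N30524 (iv F282600)))
theorem Q30392 : ∀ i, i < 30392 → P i := stepQ 30391 Q30391 (allL N30391 (tt N29690 F282137) (tt N29847 F282138) (tt N30911 D63681) (tt N29689 (iv D63161)) (tt N29773 F282139) (tt N29749 F282140) (tt N29818 F282141) (tt N29802 F282142) (tt N30733 (iv F283827)) (tt N30580 (iv F282974)))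
theorem Q30393 : ∀ i, i < 30393 → P i := stepQ 30392 Q30392 (allL N30392 (tt N30911 (iv F284571)) (tt N30392 F282143) (tt N29690 (iv D63162)) (tt N29810 F282144) (tt N29774 F282145) (tt N29750 F282146) (tt N29819 F282147) (tt N29803 F282148) (tt N30735 (iv F283843)) (tt N30581 (iv F282982)))
theorem Q30394 : ∀ i, i < 30394 → P i := stepQ 30393 Q30393 (allL N30393 (tt N29694 F282149) (tt N29743 F282150) (tt N30912 D63682) (tt N29693 (iv D63163)) (tt N30644 (iv F283342)) (tt N30808 (iv F284173)) (tt N30582 (iv F282987)) (tt N30905 (iv F284551)) (tt N29842 F282151) (tt N30613 (iv F283177)))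
theorem Q30395 : ∀ i, i < 30395 → P i := stepQ 30394 Q30394 (allL N30394 (tt N30912 (iv F284577)) (tt N30394 F282152) (tt N29694 (iv D63164)) (tt N30566 (iv F282872)) (tt N30645 (iv F283350)) (tt N30809 (iv F284176)) (tt N30583 (iv F282995)) (tt N30907 (iv F284559)) (tt N29843 F282153) (tt N30615 (iv F283186)))
theorem Q30396 : ∀ i, i < 30396 → P i := stepQ 30395 Q30395 (allL N30395 (tt N29696 F282154) (tt N29821 F282155) (tt N29697 F282156) (tt N30883 (iv F284483)) (tt N29695 (iv D63165)) (tt N30885 (iv F284491)) (tt N29702 F282157) (tt N29853 F282158) (tt N29820 F282159) (tt N30507 (iv F282493)))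
theorem Q30397 : ∀ i, i < 30397 → P i := stepQ 30396 Q30396 (allL N30396 (tt N29698 F282160) (tt N29748 F282161) (tt N30885 (iv F284490)) (tt N29719 F282162) (tt N30888 (iv F284503)) (tt N29697 (iv D63166)) (tt N30909 (iv F284567)) (tt N29854 F282163) (tt N29852 F282164) (tt N30523 (iv F282596)))
theorem Q30398 : ∀ i, i < 30398 → P i := stepQ 30397 Q30397 (allL N30397 (tt N29700 F282165) (tt N29749 F282166) (tt N30913 D63683) (tt N29699 (iv D63167)) (tt N30887 (iv F284499)) (tt N29847 F282167) (tt N30687 (iv F283605)) (tt N30584 (iv F283004)) (tt N30914 D63684) (tt N30525 (iv F282605)))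
theorem Q30399 : ∀ i, i < 30399 → P i := stepQ 30398 Q30398 (allL N30398 (tt N30913 (iv F284579)) (tt N30398 F282168) (tt N29700 (iv D63168)) (tt N30670 (iv F283494)) (tt N30889 (iv F284507)) (tt N29848 F282169) (tt N30688 (iv F283610)) (tt N30585 (iv F283009)) (tt N30915 D63685) (tt N30526 (iv F282610)))
theorem Q30400 : ∀ i, i < 30400 → P i := stepQ 30399 Q30399 (allL N30399 (tt N30914 (iv F284581)) (tt N29701 F282170) (tt N30915 (iv F284586)) (tt N29792 F282171) (tt N30785 (iv F284061)) (tt N29791 F282172) (tt N30689 (iv F283616)) (tt N30586 (iv F283015)) (tt N29700 (iv D63169)) (tt N30916 D63686))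
theorem Q30401 : ∀ i, i < 30401 → P i := stepQ 30400 Q30400 (allL N30400 (tt N29752 F282173) (tt N30916 (iv F284588)) (tt N30400 F282174) (tt N29789 F282175) (tt N30682 (iv F283574)) (tt N29788 F282176) (tt N30623 (iv F283224)) (tt N30587 (iv F283022)) (tt N30528 (iv F282621)) (tt N29701 (iv D63170)))
theorem Q30402 : ∀ i, i < 30402 → P i := stepQ 30401 Q30401 (allL N30401 (tt N29703 F282177) (tt N29822 F282178) (tt N29711 F282179) (tt N29820 F282180) (tt N30533 (iv F282655)) (tt N29702 (iv D63171)) (tt N30819 (iv F284214)) (tt N29716 F282181) (tt N30820 (iv F284220)) (tt N30553 (iv F282788)))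
theorem Q30403 : ∀ i, i < 30403 → P i := stepQ 30402 Q30402 (allL N30402 (tt N29705 F282182) (tt N29757 F282183) (tt N30529 (iv F282624)) (tt N30917 D63687) (tt N29704 (iv D63172)) (tt N30797 (iv F284119)) (tt N30675 (iv F283530)) (tt N29717 F282184) (tt N29710 F282185) (tt N30595 (iv F283076)))
theorem Q30404 : ∀ i, i < 30404 → P i := stepQ 30403 Q30403 (allL N30403 (tt N30917 (iv F284591)) (tt N29706 F282186) (tt N30918 D63688) (tt N29705 (iv D63173)) (tt N29799 F282187) (tt N30781 (iv F284043)) (tt N30676 (iv F283536)) (tt N29718 F282188) (tt N29813 F282189) (tt N30596 (iv F283082)))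
theorem Q30405 : ∀ i, i < 30405 → P i := stepQ 30404 Q30404 (allL N30404 (tt N29708 F282190) (tt N29762 F282191) (tt N30820 (iv F284218)) (tt N29854 F282192) (tt N30797 (iv F284118)) (tt N29707 (iv D63174)) (tt N30919 D63689) (tt N29719 F282193) (tt N29711 F282194) (tt N30600 (iv F283107)))
theorem Q30406 : ∀ i, i < 30406 → P i := stepQ 30405 Q30405 (allL N30405 (tt N30919 (iv F284600)) (tt N29709 F282195) (tt N30822 (iv F284228)) (tt N29715 F282196) (tt N30796 (iv F284114)) (tt N29714 F282197) (tt N29708 (iv D63175)) (tt N30821 (iv F284225)) (tt N29712 F282198) (tt N30601 (iv F283111)))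
theorem Q30407 : ∀ i, i < 30407 → P i := stepQ 30406 Q30406 (allL N30406 (tt N29712 F282199) (tt N29764 F282200) (tt N30819 (iv F284213)) (tt N29853 F282201) (tt N30794 (iv F284106)) (tt N30909 (iv F284566)) (tt N29711 (iv D63176)) (tt N30883 (iv F284485)) (tt N30919 (iv F284604)) (tt N30803 (iv F284153)))
theorem Q30408 : ∀ i, i < 30408 → P i := stepQ 30407 Q30407 (allL N30407 (tt N29714 F282202) (tt N30555 (iv F282797)) (tt N30883 (iv F284482)) (tt N29713 (iv D63177)) (tt N30704 (iv F283697)) (tt N30919 (iv F284603)) (tt N29852 F282203) (tt N30819 (iv F284215)) (tt N30909 (iv F284568)) (tt N30610 (iv F283163)))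
theorem Q30409 : ∀ i, i < 30409 → P i := stepQ 30408 Q30408 (allL N30408 (tt N29715 F282204) (tt N30572 (iv F282910)) (tt N29719 F282205) (tt N30919 (iv F284602)) (tt N30546 (iv F282742)) (tt N29713 (iv D63178)) (tt N29854 F282206) (tt N30820 (iv F284219)) (tt N29716 F282207) (tt N30611 (iv F283167)))
theorem Q30410 : ∀ i, i < 30410 → P i := stepQ 30409 Q30409 (allL N30409 (tt N29718 F282208) (tt N29773 F282209) (tt N30920 D63690) (tt N29717 (iv D63179)) (tt N29847 F282210) (tt N30790 (iv F284086)) (tt N29845 F282211) (tt N30917 (iv F284594)) (tt N29816 F282212) (tt N30618 (iv F283201)))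
theorem Q30411 : ∀ i, i < 30411 → P i := stepQ 30410 Q30410 (allL N30410 (tt N30920 (iv F284605)) (tt N30410 F282213) (tt N29718 (iv D63180)) (tt N30547 (iv F282746)) (tt N29848 F282214) (tt N30791 (iv F284089)) (tt N29846 F282215) (tt N30918 (iv F284598)) (tt N29817 F282216) (tt N30620 (iv F283210)))
theorem Q30412 : ∀ i, i < 30412 → P i := stepQ 30411 Q30411 (allL N30411 (tt N29721 F282217) (tt N30533 (iv F282652)) (tt N30552 (iv F282775)) (tt N29720 (iv D63181)) (tt N29822 F282218) (tt N29844 F282219) (tt N30610 (iv F283162)) (tt N29832 F282220) (tt N30824 (iv F284240)) (tt N29852 F282221))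
theorem Q30413 : ∀ i, i < 30413 → P i := stepQ 30412 Q30412 (allL N30412 (tt N29723 F282222) (tt N30644 (iv F283341)) (tt N30921 D63691) (tt N29722 (iv D63182)) (tt N29743 F282223) (tt N30801 (iv F284141)) (tt N30613 (iv F283176)) (tt N29842 F282224) (tt N30905 (iv F284552)) (tt N30582 (iv F282990)))
theorem Q30414 : ∀ i, i < 30414 → P i := stepQ 30413 Q30413 (allL N30413 (tt N30921 (iv F284609)) (tt N30413 F282225) (tt N29723 (iv D63183)) (tt N30805 (iv F284160)) (tt N29744 F282226) (tt N30802 (iv F284146)) (tt N30615 (iv F283185)) (tt N29843 F282227) (tt N30907 (iv F284560)) (tt N30583 (iv F282998)))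
theorem Q30415 : ∀ i, i < 30415 → P i := stepQ 30414 Q30414 (allL N30414 (tt N29725 F282228) (tt N30512 (iv F282524)) (tt N30595 (iv F283072)) (tt N30922 D63692) (tt N29724 (iv D63184)) (tt N30923 D63693) (tt N29737 F282229) (tt N30541 (iv F282712)) (tt N29728 F282230) (tt N30529 (iv F282628)))
theorem Q30416 : ∀ i, i < 30416 → P i := stepQ 30415 Q30415 (allL N30415 (tt N30922 (iv F284612)) (tt N29726 F282231) (tt N30924 D63694) (tt N29725 (iv D63185)) (tt N29839 F282232) (tt N30901 (iv F284538)) (tt N29738 F282233) (tt N30542 (iv F282718)) (tt N29742 F282234) (tt N30530 (iv F282634)))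
theorem Q30417 : ∀ i, i < 30417 → P i := stepQ 30416 Q30416 (allL N30416 (tt N30923 (iv F284616)) (tt N29727 F282235) (tt N30597 (iv F283084)) (tt N30901 (iv F284537)) (tt N30589 (iv F283033)) (tt N29725 (iv D63186)) (tt N30880 (iv F284471)) (tt N30543 (iv F282725)) (tt N29729 F282236) (tt N30531 (iv F282642)))
theorem Q30418 : ∀ i, i < 30418 → P i := stepQ 30417 Q30417 (allL N30417 (tt N29729 F282237) (tt N30523 (iv F282593)) (tt N30766 (iv F283959)) (tt N29775 F282238) (tt N30830 (iv F284267)) (tt N29728 (iv D63187)) (tt N30878 (iv F284464)) (tt N30570 (iv F282899)) (tt N30923 (iv F284617)) (tt N29748 F282239))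
theorem Q30419 : ∀ i, i < 30419 → P i := stepQ 30418 Q30418 (allL N30418 (tt N29731 F282240) (tt N30641 (iv F283318)) (tt N29737 F282241) (tt N30925 D63695) (tt N29730 (iv D63188)) (tt N30860 (iv F284394)) (tt N30595 (iv F283073)) (tt N29739 F282242) (tt N29733 F282243) (tt N30675 (iv F283533)))
theorem Q30420 : ∀ i, i < 30420 → P i := stepQ 30419 Q30419 (allL N30419 (tt N30925 (iv F284622)) (tt N29732 F282244) (tt N30926 D63696) (tt N29731 (iv D63189)) (tt N30603 (iv F283120)) (tt N30636 (iv F283293)) (tt N30596 (iv F283079)) (tt N29740 F282245) (tt N29801 F282246) (tt N30676 (iv F283539)))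
theorem Q30421 : ∀ i, i < 30421 → P i := stepQ 30420 Q30420 (allL N30420 (tt N29735 F282247) (tt N30590 (iv F283038)) (tt N30675 (iv F283529)) (tt N30927 D63697) (tt N29734 (iv D63190)) (tt N30882 (iv F284478)) (tt N30529 (iv F282625)) (tt N29741 F282248) (tt N29759 F282249) (tt N29737 F282250))
theorem Q30422 : ∀ i, i < 30422 → P i := stepQ 30421 Q30421 (allL N30421 (tt N30927 (iv F284629)) (tt N29736 F282251) (tt N30928 D63698) (tt N29735 (iv D63191)) (tt N29841 F282252) (tt N30876 (iv F284456)) (tt N30530 (iv F282631)) (tt N29742 F282253) (tt N30542 (iv F282719)) (tt N29738 F282254))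
theorem Q30423 : ∀ i, i < 30423 → P i := stepQ 30422 Q30422 (allL N30422 (tt N29738 F282255) (tt N30905 (iv F284549)) (tt N30929 D63699) (tt N29737 (iv D63192)) (tt N29842 F282256) (tt N30874 (iv F284448)) (tt N30922 (iv F284614)) (tt N29743 F282257) (tt N30644 (iv F283346)) (tt N30927 (iv F284632)))
theorem Q30424 : ∀ i, i < 30424 → P i := stepQ 30423 Q30423 (allL N30423 (tt N30929 (iv F284637)) (tt N30423 F282258) (tt N29738 (iv D63193)) (tt N30926 (iv F284626)) (tt N29843 F282259) (tt N30875 (iv F284452)) (tt N30924 (iv F284620)) (tt N29744 F282260) (tt N30645 (iv F283354)) (tt N30928 (iv F284636)))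
theorem Q30425 : ∀ i, i < 30425 → P i := stepQ 30424 Q30424 (allL N30424 (tt N29740 F282261) (tt N30626 (iv F283237)) (tt N30930 D63700) (tt N29739 (iv D63194)) (tt N30850 (iv F284339)) (tt N30842 (iv F284311)) (tt N30642 (iv F283328)) (tt N30925 (iv F284623)) (tt N30580 (iv F282973)) (tt N30865 (iv F284419)))
theorem Q30426 : ∀ i, i < 30426 → P i := stepQ 30425 Q30425 (allL N30425 (tt N30930 (iv F284640)) (tt N30425 F282262) (tt N29740 (iv D63195)) (tt N29744 F282263) (tt N30851 (iv F284344)) (tt N30843 (iv F284316)) (tt N30643 (iv F283336)) (tt N30926 (iv F284627)) (tt N30581 (iv F282981)) (tt N30866 (iv F284424)))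
theorem Q30427 : ∀ i, i < 30427 → P i := stepQ 30426 Q30426 (allL N30426 (tt N29742 F282264) (tt N30613 (iv F283174)) (tt N30931 D63701) (tt N29741 (iv D63196)) (tt N30582 (iv F282985)) (tt N30906 (iv F284555)) (tt N30644 (iv F283344)) (tt N30927 (iv F284631)) (tt N30922 (iv F284615)) (tt N29743 F282265))
theorem Q30428 : ∀ i, i < 30428 → P i := stepQ 30427 Q30427 (allL N30427 (tt N30931 (iv F284642)) (tt N30427 F282266) (tt N29742 (iv D63197)) (tt N30866 (iv F284421)) (tt N30583 (iv F282993)) (tt N30908 (iv F284563)) (tt N30645 (iv F283352)) (tt N30928 (iv F284635)) (tt N30924 (iv F284621)) (tt N29744 F282267))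
theorem Q30429 : ∀ i, i < 30429 → P i := stepQ 30428 Q30428 (allL N30428 (tt N29744 F282268) (tt N30932 D63702) (tt N29743 (iv D63198)) (tt N30930 (iv F284641)) (tt N30921 (iv F284610)) (tt N30904 (iv F284547)) (tt N30646 (iv F283357)) (tt N30929 (iv F284639)) (tt N30903 F284544) (tt N30931 (iv F284643)))
theorem Q30430 : ∀ i, i < 30430 → P i := stepQ 30429 Q30429 (allL N30429 (tt N29746 F282269) (tt N30887 (iv F284498)) (tt N30933 D63703) (tt N29745 (iv D63199)) (tt N29749 F282270) (tt N30837 (iv F284294)) (tt N30716 (iv F283745)) (tt N30564 (iv F282863)) (tt N30836 F284290) (tt N30829 (iv F284265)))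
theorem Q30431 : ∀ i, i < 30431 → P i := stepQ 30430 Q30430 (allL N30430 (tt N29747 F282271) (tt N30888 (iv F284502)) (tt N30768 (iv F283970)) (tt N30837 (iv F284292)) (tt N29748 F282272) (tt N29745 (iv D63200)) (tt N30910 (iv F284570)) (tt N30565 (iv F282869)) (tt N30553 (iv F282787)) (tt N30830 (iv F284268)))
theorem Q30432 : ∀ i, i < 30432 → P i := stepQ 30431 Q30431 (allL N30431 (tt N30933 (iv F284645)) (tt N30431 F282273) (tt N29746 (iv D63201)) (tt N30907 (iv F284558)) (tt N29750 F282274) (tt N30840 (iv F284304)) (tt N30718 (iv F283752)) (tt N30566 (iv F282875)) (tt N30839 F284300) (tt N30831 (iv F284272)))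
theorem Q30433 : ∀ i, i < 30433 → P i := stepQ 30432 Q30432 (allL N30432 (tt N29750 F282275) (tt N30934 D63704) (tt N29749 (iv D63202)) (tt N29849 F282276) (tt N30933 (iv F284646)) (tt N30911 (iv F284574)) (tt N30726 (iv F283790)) (tt N30658 (iv F283427)) (tt N30935 D63705) (tt N30841 (iv F284308)))
theorem Q30434 : ∀ i, i < 30434 → P i := stepQ 30433 Q30433 (allL N30433 (tt N29751 F282277) (tt N30914 (iv F284582)) (tt N30935 (iv F284650)) (tt N30734 (iv F283832)) (tt N30836 (iv F284289)) (tt N30733 F283828) (tt N30727 (iv F283795)) (tt N30659 (iv F283431)) (tt N29749 (iv D63203)) (tt N30936 D63706))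
theorem Q30435 : ∀ i, i < 30435 → P i := stepQ 30434 Q30434 (allL N30434 (tt N30935 (iv F284649)) (tt N30434 F282278) (tt N29751 F282279) (tt N30743 (iv F283868)) (tt N30839 (iv F284299)) (tt N30735 (iv F283840)) (tt N30728 (iv F283799)) (tt N30660 (iv F283435)) (tt N29750 (iv D63204)) (tt N30937 D63707))
theorem Q30436 : ∀ i, i < 30436 → P i := stepQ 30435 Q30435 (allL N30435 (tt N30936 (iv F284651)) (tt N29752 F282280) (tt N30937 (iv F284653)) (tt N30667 (iv F283476)) (tt N30719 (iv F283756)) (tt N30666 F283473) (tt N30729 (iv F283803)) (tt N30661 (iv F283439)) (tt N30844 (iv F284322)) (tt N29751 (iv D63205)))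
theorem Q30437 : ∀ i, i < 30437 → P i := stepQ 30436 Q30436 (allL N30436 (tt N29755 F282281) (tt N30595 (iv F283071)) (tt N30679 (iv F283555)) (tt N30938 D63708) (tt N29754 (iv D63206)) (tt N30859 (iv F284388)) (tt N30641 (iv F283321)) (tt N29771 F282282) (tt N29823 F282283) (tt N29757 F282284))
theorem Q30438 : ∀ i, i < 30438 → P i := stepQ 30437 Q30437 (allL N30437 (tt N30938 (iv F284654)) (tt N29756 F282285) (tt N30939 D63709) (tt N29755 (iv D63207)) (tt N29801 F282286) (tt N30818 (iv F284209)) (tt N30608 (iv F283150)) (tt N29772 F282287) (tt N30603 (iv F283123)) (tt N29758 F282288))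
theorem Q30439 : ∀ i, i < 30439 → P i := stepQ 30438 Q30438 (allL N30438 (tt N29758 F282289) (tt N30917 (iv F284592)) (tt N30940 D63710) (tt N29757 (iv D63208)) (tt N29802 F282290) (tt N30816 (iv F284201)) (tt N30709 (iv F283720)) (tt N29773 F282291) (tt N30772 (iv F283995)) (tt N30938 (iv F284657)))
theorem Q30440 : ∀ i, i < 30440 → P i := stepQ 30439 Q30439 (allL N30439 (tt N30940 (iv F284662)) (tt N30439 F282292) (tt N29758 (iv D63209)) (tt N30784 (iv F284056)) (tt N29803 F282293) (tt N30817 (iv F284205)) (tt N30711 (iv F283725)) (tt N29774 F282294) (tt N30773 (iv F284000)) (tt N30939 (iv F284661)))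
theorem Q30441 : ∀ i, i < 30441 → P i := stepQ 30440 Q30440 (allL N30440 (tt N29760 F282295) (tt N30600 (iv F283104)) (tt N30685 (iv F283592)) (tt N30570 (iv F282898)) (tt N30859 (iv F284387)) (tt N29759 (iv D63210)) (tt N30941 D63711) (tt N29775 F282296) (tt N30882 (iv F284480)) (tt N29762 F282297))
theorem Q30442 : ∀ i, i < 30442 → P i := stepQ 30441 Q30441 (allL N30441 (tt N30941 (iv F284665)) (tt N29761 F282298) (tt N30686 (iv F283597)) (tt N30571 (iv F282903)) (tt N30858 (iv F284383)) (tt N30534 (iv F282662)) (tt N29760 (iv D63211)) (tt N30706 (iv F283707)) (tt N30881 (iv F284475)) (tt N29763 F282299))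
theorem Q30443 : ∀ i, i < 30443 → P i := stepQ 30442 Q30442 (allL N30442 (tt N29763 F282300) (tt N30919 (iv F284601)) (tt N30788 (iv F284076)) (tt N30572 (iv F282912)) (tt N30857 (iv F284380)) (tt N30555 (iv F282800)) (tt N29762 (iv D63212)) (tt N30826 (iv F284249)) (tt N29764 F282301) (tt N30941 (iv F284666)))
theorem Q30444 : ∀ i, i < 30444 → P i := stepQ 30443 Q30443 (allL N30443 (tt N29767 F282302) (tt N30810 (iv F284178)) (tt N30942 D63712) (tt N29766 (iv D63213)) (tt N30779 (iv F284031)) (tt N30862 (iv F284403)) (tt N30647 F283363) (tt N30782 (iv F284048)) (tt N30896 (iv F284527)) (tt N30871 (iv F284438)))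
theorem Q30445 : ∀ i, i < 30445 → P i := stepQ 30444 Q30444 (allL N30444 (tt N30942 (iv F284667)) (tt N30444 F282303) (tt N29767 (iv D63214)) (tt N29774 F282304) (tt N30780 (iv F284036)) (tt N30848 (iv F284332)) (tt N30648 F283369) (tt N30784 (iv F284058)) (tt N30897 (iv F284530)) (tt N30872 (iv F284443)))
theorem Q30446 : ∀ i, i < 30446 → P i := stepQ 30445 Q30445 (allL N30445 (tt N29770 F282305) (tt N29845 F282306) (tt N30943 D63713) (tt N29769 (iv D63215)) (tt N29818 F282307) (tt N30642 (iv F283327)) (tt N29773 F282308) (tt N30798 (iv F284125)) (tt N30578 (iv F282957)) (tt N30853 (iv F284358)))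
theorem Q30447 : ∀ i, i < 30447 → P i := stepQ 30446 Q30446 (allL N30446 (tt N30943 (iv F284669)) (tt N30446 F282309) (tt N29770 (iv D63216)) (tt N30648 (iv F283366)) (tt N29819 F282310) (tt N30643 (iv F283335)) (tt N29774 F282311) (tt N30799 (iv F284132)) (tt N30579 (iv F282965)) (tt N30854 (iv F284365)))
theorem Q30448 : ∀ i, i < 30448 → P i := stepQ 30447 Q30447 (allL N30447 (tt N29772 F282312) (tt N30618 (iv F283198)) (tt N30944 D63714) (tt N29771 (iv D63217)) (tt N30580 (iv F282969)) (tt N30847 (iv F284329)) (tt N30853 (iv F284356)) (tt N30938 (iv F284656)) (tt N30850 (iv F284341)) (tt N29773 F282313))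
theorem Q30449 : ∀ i, i < 30449 → P i := stepQ 30448 Q30448 (allL N30448 (tt N30944 (iv F284672)) (tt N30448 F282314) (tt N29772 (iv D63218)) (tt N30872 (iv F284440)) (tt N30581 (iv F282977)) (tt N30849 (iv F284337)) (tt N30854 (iv F284363)) (tt N30939 (iv F284660)) (tt N30851 (iv F284346)) (tt N29774 F282315))
theorem Q30450 : ∀ i, i < 30450 → P i := stepQ 30449 Q30449 (allL N30449 (tt N29774 F282316) (tt N30945 D63715) (tt N29773 (iv D63219)) (tt N30942 (iv F284668)) (tt N30911 (iv F284573)) (tt N30846 (iv F284326)) (tt N30943 (iv F284671)) (tt N30940 (iv F284664)) (tt N30774 (iv F284003)) (tt N30944 (iv F284673)))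
theorem Q30451 : ∀ i, i < 30451 → P i := stepQ 30450 Q30450 (allL N30450 (tt N29779 F282317) (tt N30662 (iv F283441)) (tt N30730 (iv F283807)) (tt N30946 D63716) (tt N29778 (iv D63220)) (tt N30947 D63717) (tt N29812 F282318) (tt N30665 (iv F283464)) (tt N29793 F282319) (tt N29782 F282320))
theorem Q30452 : ∀ i, i < 30452 → P i := stepQ 30451 Q30451 (allL N30451 (tt N30946 (iv F284675)) (tt N29780 F282321) (tt N30948 D63718) (tt N29779 (iv D63221)) (tt N30577 (iv F282945)) (tt N30661 (iv F283438)) (tt N29813 F282322) (tt N30666 (iv F283470)) (tt N30676 (iv F283538)) (tt N29783 F282323))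
theorem Q30453 : ∀ i, i < 30453 → P i := stepQ 30452 Q30452 (allL N30452 (tt N30947 (iv F284678)) (tt N29781 F282324) (tt N30696 (iv F283651)) (tt N30661 (iv F283437)) (tt N30502 (iv F282452)) (tt N29779 (iv D63222)) (tt N30698 (iv F283668)) (tt N30667 (iv F283479)) (tt N29794 F282325) (tt N29784 F282326))
theorem Q30454 : ∀ i, i < 30454 → P i := stepQ 30453 Q30453 (allL N30453 (tt N29783 F282327) (tt N30749 (iv F283894)) (tt N30949 D63719) (tt N29782 (iv D63223)) (tt N30772 (iv F283992)) (tt N30659 (iv F283430)) (tt N30671 (iv F283500)) (tt N30733 (iv F283826)) (tt N29802 F282328) (tt N30946 (iv F284677)))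
theorem Q30455 : ∀ i, i < 30455 → P i := stepQ 30454 Q30454 (allL N30454 (tt N29784 F282329) (tt N30750 (iv F283899)) (tt N30695 (iv F283645)) (tt N30659 (iv F283429)) (tt N30501 (iv F282445)) (tt N29782 (iv D63224)) (tt N30697 (iv F283662)) (tt N30734 (iv F283835)) (tt N29785 F282330) (tt N30947 (iv F284680)))
theorem Q30456 : ∀ i, i < 30456 → P i := stepQ 30455 Q30455 (allL N30455 (tt N30949 (iv F284684)) (tt N30455 F282331) (tt N29783 (iv D63225)) (tt N30732 (iv F283818)) (tt N30773 (iv F283997)) (tt N30660 (iv F283434)) (tt N30673 (iv F283514)) (tt N30735 (iv F283842)) (tt N29803 F282332) (tt N30948 (iv F284683)))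
theorem Q30457 : ∀ i, i < 30457 → P i := stepQ 30456 Q30456 (allL N30456 (tt N29787 F282333) (tt N30665 (iv F283461)) (tt N30746 (iv F283880)) (tt N30950 D63720) (tt N29786 (iv D63226)) (tt N30951 D63721) (tt N29805 F282334) (tt N30662 (iv F283444)) (tt N30503 (iv F282464)) (tt N29790 F282335))
theorem Q30458 : ∀ i, i < 30458 → P i := stepQ 30457 Q30457 (allL N30457 (tt N30950 (iv F284686)) (tt N29788 F282336) (tt N30952 D63722) (tt N29787 (iv D63227)) (tt N29808 F282337) (tt N30916 (iv F284590)) (tt N29806 F282338) (tt N30663 (iv F283450)) (tt N30628 (iv F283249)) (tt N29791 F282339))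
theorem Q30459 : ∀ i, i < 30459 → P i := stepQ 30458 Q30458 (allL N30458 (tt N30951 (iv F284690)) (tt N29789 F282340) (tt N30698 (iv F283665)) (tt N30916 (iv F284589)) (tt N29794 F282341) (tt N29787 (iv D63228)) (tt N30696 (iv F283654)) (tt N30664 (iv F283457)) (tt N30502 (iv F282456)) (tt N29792 F282342))
theorem Q30460 : ∀ i, i < 30460 → P i := stepQ 30459 Q30459 (allL N30459 (tt N29791 F282343) (tt N30733 (iv F283823)) (tt N30953 D63723) (tt N29790 (iv D63229)) (tt N29816 F282344) (tt N30914 (iv F284584)) (tt N29850 F282345) (tt N30749 (iv F283896)) (tt N29847 F282346) (tt N30950 (iv F284689)))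
theorem Q30461 : ∀ i, i < 30461 → P i := stepQ 30460 Q30460 (allL N30460 (tt N29792 F282347) (tt N30734 (iv F283830)) (tt N30697 (iv F283659)) (tt N30914 (iv F284583)) (tt N29795 F282348) (tt N29790 (iv D63230)) (tt N30695 (iv F283648)) (tt N30750 (iv F283903)) (tt N29796 F282349) (tt N30951 (iv F284692)))
theorem Q30462 : ∀ i, i < 30462 → P i := stepQ 30461 Q30461 (allL N30461 (tt N30953 (iv F284697)) (tt N30461 F282350) (tt N29791 (iv D63231)) (tt N30748 (iv F283889)) (tt N29817 F282351) (tt N30915 (iv F284587)) (tt N29851 F282352) (tt N30751 (iv F283908)) (tt N29848 F282353) (tt N30952 (iv F284696)))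
theorem Q30463 : ∀ i, i < 30463 → P i := stepQ 30462 Q30462 (allL N30462 (tt N29794 F282354) (tt N30668 (iv F283483)) (tt N30699 (iv F283673)) (tt N30685 (iv F283593)) (tt N30951 (iv F284691)) (tt N29793 (iv D63232)) (tt N30795 (iv F284111)) (tt N30752 (iv F283914)) (tt N30947 (iv F284679)) (tt N29795 F282355))
theorem Q30464 : ∀ i, i < 30464 → P i := stepQ 30463 Q30463 (allL N30463 (tt N29799 F282356) (tt N29802 F282357) (tt N30954 D63724) (tt N29798 (iv D63233)) (tt N30917 (iv F284593)) (tt N30584 (iv F283002)) (tt N30690 (iv F283620)) (tt N29847 F282358) (tt N30749 (iv F283897)) (tt N30606 (iv F283142)))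
theorem Q30465 : ∀ i, i < 30465 → P i := stepQ 30464 Q30464 (allL N30464 (tt N30954 (iv F284701)) (tt N30464 F282359) (tt N29799 (iv D63234)) (tt N30703 (iv F283693)) (tt N30918 (iv F284597)) (tt N30585 (iv F283007)) (tt N30692 (iv F283630)) (tt N29848 F282360) (tt N30751 (iv F283909)) (tt N30607 (iv F283146)))
theorem Q30466 : ∀ i, i < 30466 → P i := stepQ 30465 Q30465 (allL N30465 (tt N29801 F282361) (tt N30606 (iv F283140)) (tt N30955 D63725) (tt N29800 (iv D63235)) (tt N30938 (iv F284655)) (tt N30634 (iv F283283)) (tt N30736 (iv F283845)) (tt N30580 (iv F282972)) (tt N30925 (iv F284624)) (tt N29802 F282362))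
theorem Q30467 : ∀ i, i < 30467 → P i := stepQ 30466 Q30466 (allL N30466 (tt N30955 (iv F284703)) (tt N30466 F282363) (tt N29801 (iv D63236)) (tt N30776 (iv F284012)) (tt N30939 (iv F284659)) (tt N30635 (iv F283288)) (tt N30738 (iv F283851)) (tt N30581 (iv F282980)) (tt N30926 (iv F284628)) (tt N29803 F282364))
theorem Q30468 : ∀ i, i < 30468 → P i := stepQ 30467 Q30467 (allL N30467 (tt N29803 F282365) (tt N30956 D63726) (tt N29802 (iv D63237)) (tt N30777 (iv F284019)) (tt N30940 (iv F284663)) (tt N30658 (iv F283426)) (tt N30741 (iv F283863)) (tt N30911 (iv F284576)) (tt N30949 (iv F284685)) (tt N30955 (iv F284704)))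
theorem Q30469 : ∀ i, i < 30469 → P i := stepQ 30468 Q30468 (allL N30468 (tt N29806 F282366) (tt N30775 (iv F284005)) (tt N30957 D63727) (tt N29805 (iv D63238)) (tt N29809 F282367) (tt N30792 (iv F284093)) (tt N30950 (iv F284688)) (tt N30578 (iv F282956)) (tt N30798 (iv F284126)) (tt N29850 F282368))
theorem Q30470 : ∀ i, i < 30470 → P i := stepQ 30469 Q30469 (allL N30469 (tt N30957 (iv F284706)) (tt N30469 F282369) (tt N29806 (iv D63239)) (tt N30780 (iv F284035)) (tt N29810 F282370) (tt N30793 (iv F284100)) (tt N30952 (iv F284695)) (tt N30579 (iv F282964)) (tt N30799 (iv F284133)) (tt N29851 F282371))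
theorem Q30471 : ∀ i, i < 30471 → P i := stepQ 30470 Q30470 (allL N30470 (tt N29808 F282372) (tt N30669 (iv F283488)) (tt N30958 D63728) (tt N29807 (iv D63240)) (tt N30950 (iv F284687)) (tt N30687 (iv F283604)) (tt N29809 F282373) (tt N30671 (iv F283501)) (tt N30731 (iv F283816)) (tt N29816 F282374))
theorem Q30472 : ∀ i, i < 30472 → P i := stepQ 30471 Q30471 (allL N30471 (tt N30958 (iv F284709)) (tt N30471 F282375) (tt N29808 (iv D63241)) (tt N29819 F282376) (tt N30952 (iv F284694)) (tt N30688 (iv F283609)) (tt N29810 F282377) (tt N30673 (iv F283515)) (tt N30732 (iv F283821)) (tt N29817 F282378))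
theorem Q30473 : ∀ i, i < 30473 → P i := stepQ 30472 Q30472 (allL N30472 (tt N29810 F282379) (tt N30959 D63729) (tt N29809 (iv D63242)) (tt N30911 (iv F284572)) (tt N30957 (iv F284707)) (tt N29849 F282380) (tt N30958 (iv F284711)) (tt N30777 (iv F284021)) (tt N30800 (iv F284138)) (tt N30778 (iv F284028)))
theorem Q30474 : ∀ i, i < 30474 → P i := stepQ 30473 Q30473 (allL N30473 (tt N29813 F282381) (tt N30772 (iv F283991)) (tt N30960 D63730) (tt N29812 (iv D63243)) (tt N30749 (iv F283895)) (tt N30779 (iv F284032)) (tt N30946 (iv F284676)) (tt N29816 F282382) (tt N30917 (iv F284595)) (tt N30671 (iv F283503)))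
theorem Q30475 : ∀ i, i < 30475 → P i := stepQ 30474 Q30474 (allL N30474 (tt N30960 (iv F284715)) (tt N30474 F282383) (tt N29813 (iv D63244)) (tt N30793 (iv F284098)) (tt N30751 (iv F283907)) (tt N30780 (iv F284037)) (tt N30948 (iv F284682)) (tt N29817 F282384) (tt N30918 (iv F284599)) (tt N30673 (iv F283517)))
theorem Q30476 : ∀ i, i < 30476 → P i := stepQ 30475 Q30475 (allL N30475 (tt N29815 F282385) (tt N29826 F282386) (tt N30961 D63731) (tt N29814 (iv D63245)) (tt N30853 (iv F284354)) (tt N30578 (iv F282954)) (tt N30580 (iv F282971)) (tt N30792 (iv F284094)) (tt N30642 (iv F283330)) (tt N29818 F282387))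
theorem Q30477 : ∀ i, i < 30477 → P i := stepQ 30476 Q30476 (allL N30476 (tt N30961 (iv F284717)) (tt N30476 F282388) (tt N29815 (iv D63246)) (tt N29817 F282389) (tt N30854 (iv F284361)) (tt N30579 (iv F282962)) (tt N30581 (iv F282979)) (tt N30793 (iv F284101)) (tt N30643 (iv F283338)) (tt N29819 F282390))
theorem Q30478 : ∀ i, i < 30478 → P i := stepQ 30477 Q30477 (allL N30477 (tt N29817 F282391) (tt N30962 D63732) (tt N29816 (iv D63247)) (tt N30961 (iv F284718)) (tt N30953 (iv F284698)) (tt N30789 (iv F284082)) (tt N30778 (iv F284026)) (tt N30960 (iv F284716)) (tt N30920 (iv F284608)) (tt N30958 (iv F284712)))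
theorem Q30479 : ∀ i, i < 30479 → P i := stepQ 30478 Q30478 (allL N30478 (tt N29819 F282392) (tt N30963 D63733) (tt N29818 (iv D63248)) (tt N30958 (iv F284710)) (tt N30943 (iv F284670)) (tt N30870 (iv F284434)) (tt N30911 (iv F284575)) (tt N30800 (iv F284137)) (tt N30777 (iv F284022)) (tt N30961 (iv F284719)))
theorem Q30480 : ∀ i, i < 30480 → P i := stepQ 30479 Q30479 (allL N30479 (tt N29825 F282393) (tt N30853 (iv F284352)) (tt N30964 D63734) (tt N29824 (iv D63249)) (tt N29826 F282394) (tt N30798 (iv F284124)) (tt N30618 (iv F283200)) (tt N30642 (iv F283329)) (tt N30792 (iv F284095)) (tt N29845 F282395))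
theorem Q30481 : ∀ i, i < 30481 → P i := stepQ 30480 Q30480 (allL N30480 (tt N30964 (iv F284723)) (tt N30480 F282396) (tt N29825 (iv D63250)) (tt N30639 (iv F283307)) (tt N29827 F282397) (tt N30799 (iv F284131)) (tt N30620 (iv F283209)) (tt N30643 (iv F283337)) (tt N30793 (iv F284102)) (tt N29846 F282398))
theorem Q30482 : ∀ i, i < 30482 → P i := stepQ 30481 Q30481 (allL N30481 (tt N29827 F282399) (tt N30965 D63735) (tt N29826 (iv D63251)) (tt N30841 (iv F284306)) (tt N30964 (iv F284724)) (tt N30778 (iv F284025)) (tt N30625 (iv F283234)) (tt N30852 (iv F284349)) (tt N30886 (iv F284496)) (tt N29849 F282400))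
theorem Q30483 : ∀ i, i < 30483 → P i := stepQ 30482 Q30482 (allL N30482 (tt N29830 F282401) (tt N30647 (iv F283359)) (tt N30966 D63736) (tt N29829 (iv D63252)) (tt N30812 (iv F284188)) (tt N30582 (iv F282986)) (tt N30810 (iv F284180)) (tt N30804 (iv F284157)) (tt N30967 D63737) (tt N30801 (iv F284143)))
theorem Q30484 : ∀ i, i < 30484 → P i := stepQ 30483 Q30483 (allL N30483 (tt N30966 (iv F284728)) (tt N30483 F282402) (tt N29830 (iv D63253)) (tt N29843 F282403) (tt N30813 (iv F284191)) (tt N30583 (iv F282994)) (tt N30811 (iv F284185)) (tt N30805 (iv F284162)) (tt N30968 D63738) (tt N30802 (iv F284148)))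
theorem Q30485 : ∀ i, i < 30485 → P i := stepQ 30484 Q30484 (allL N30484 (tt N30967 (iv F284730)) (tt N29831 F282404) (tt N30968 (iv F284734)) (tt N29833 F282405) (tt N30814 (iv F284195)) (tt N29839 F282406) (tt N30567 (iv F282879)) (tt N30806 (iv F284167)) (tt N29830 (iv D63254)) (tt N30969 D63739))
theorem Q30486 : ∀ i, i < 30486 → P i := stepQ 30485 Q30485 (allL N30485 (tt N30544 (iv F282728)) (tt N30969 (iv F284736)) (tt N30485 F282407) (tt N29834 F282408) (tt N30758 (iv F283932)) (tt N29837 F282409) (tt N30562 (iv F282850)) (tt N30515 (iv F282545)) (tt N30593 (iv F283061)) (tt N29831 (iv D63255)))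
theorem Q30487 : ∀ i, i < 30487 → P i := stepQ 30486 Q30486 (allL N30486 (tt N29833 F282410) (tt N30546 (iv F282740)) (tt N30573 (iv F282919)) (tt N30967 (iv F284731)) (tt N30572 (iv F282913)) (tt N29838 F282411) (tt N30565 (iv F282868)) (tt N30824 (iv F284239)) (tt N29832 (iv D63256)) (tt N30970 D63740))
theorem Q30488 : ∀ i, i < 30488 → P i := stepQ 30487 Q30487 (allL N30487 (tt N30970 (iv F284739)) (tt N29834 F282412) (tt N30574 (iv F282925)) (tt N30969 (iv F284737)) (tt N30571 (iv F282904)) (tt N29836 F282413) (tt N30561 (iv F282842)) (tt N30514 (iv F282539)) (tt N29855 F282414) (tt N29833 (iv D63257)))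
theorem Q30489 : ∀ i, i < 30489 → P i := stepQ 30488 Q30488 (allL N30488 (tt N29836 F282415) (tt N30541 (iv F282709)) (tt N30700 (iv F283679)) (tt N30971 D63741) (tt N29835 (iv D63258)) (tt N30970 (iv F284740)) (tt N29840 F282416) (tt N30512 (iv F282527)) (tt N29856 F282417) (tt N29838 F282418))
theorem Q30490 : ∀ i, i < 30490 → P i := stepQ 30489 Q30489 (allL N30489 (tt N30971 (iv F284742)) (tt N29837 F282419) (tt N30972 D63742) (tt N29836 (iv D63259)) (tt N30530 (iv F282630)) (tt N30969 (iv F284738)) (tt N29841 F282420) (tt N30513 (iv F282533)) (tt N30591 (iv F283048)) (tt N29839 F282421))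
theorem Q30491 : ∀ i, i < 30491 → P i := stepQ 30490 Q30490 (allL N30490 (tt N29839 F282422) (tt N30545 (iv F282736)) (tt N30973 D63743) (tt N29838 (iv D63260)) (tt N30922 (iv F284613)) (tt N30967 (iv F284732)) (tt N29842 F282423) (tt N30823 (iv F284234)) (tt N30582 (iv F282989)) (tt N30971 (iv F284744)))
theorem Q30492 : ∀ i, i < 30492 → P i := stepQ 30491 Q30491 (allL N30491 (tt N30973 (iv F284748)) (tt N30491 F282424) (tt N29839 (iv D63261)) (tt N30811 (iv F284183)) (tt N30924 (iv F284619)) (tt N30968 (iv F284735)) (tt N29843 F282425) (tt N30825 (iv F284243)) (tt N30583 (iv F282997)) (tt N30972 (iv F284747)))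
theorem Q30493 : ∀ i, i < 30493 → P i := stepQ 30492 Q30492 (allL N30492 (tt N29841 F282426) (tt N30638 (iv F283302)) (tt N30974 D63744) (tt N29840 (iv D63262)) (tt N30927 (iv F284630)) (tt N30804 (iv F284156)) (tt N30971 (iv F284743)) (tt N30582 (iv F282988)) (tt N30823 (iv F284235)) (tt N29842 F282427))
theorem Q30494 : ∀ i, i < 30494 → P i := stepQ 30493 Q30493 (allL N30493 (tt N30974 (iv F284750)) (tt N30493 F282428) (tt N29841 (iv D63263)) (tt N30802 (iv F284145)) (tt N30928 (iv F284634)) (tt N30805 (iv F284161)) (tt N30972 (iv F284746)) (tt N30583 (iv F282996)) (tt N30825 (iv F284244)) (tt N29843 F282429))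
theorem Q30495 : ∀ i, i < 30495 → P i := stepQ 30494 Q30494 (allL N30494 (tt N29843 F282430) (tt N30975 D63745) (tt N29842 (iv D63264)) (tt N30966 (iv F284729)) (tt N30929 (iv F284638)) (tt N30807 (iv F284169)) (tt N30973 (iv F284749)) (tt N30921 (iv F284611)) (tt N30912 (iv F284578)) (tt N30974 (iv F284751)))
theorem Q30496 : ∀ i, i < 30496 → P i := stepQ 30495 Q30495 (allL N30495 (tt N29846 F282431) (tt N30976 D63746) (tt N29845 (iv D63265)) (tt N30903 (iv F284543)) (tt N29849 F282432) (tt N30886 (iv F284495)) (tt N30920 (iv F284607)) (tt N30867 (iv F284427)) (tt N30778 (iv F284027)) (tt N30964 (iv F284725)))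
theorem Q30497 : ∀ i, i < 30497 → P i := stepQ 30496 Q30496 (allL N30496 (tt N29848 F282433) (tt N30977 D63747) (tt N29847 (iv D63266)) (tt N30726 (iv F283789)) (tt N30920 (iv F284606)) (tt N30913 (iv F284580)) (tt N29849 F282434) (tt N30954 (iv F284702)) (tt N30953 (iv F284700)) (tt N30625 (iv F283235)))
theorem Q30498 : ∀ i, i < 30498 → P i := stepQ 30497 Q30497 (allL N30497 (tt N30497 F282435) (tt N29849 (iv D63267)) (tt N30963 (iv F284722)) (tt N30934 (iv F284648)) (tt N30976 (iv F284754)) (tt N30959 (iv F284714)) (tt N30977 (iv F284756)) (tt N30869 (iv F284431)) (tt N30978 D63748) (tt N30965 (iv F284727)))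
theorem Q30499 : ∀ i, i < 30499 → P i := stepQ 30498 Q30498 (allL N30498 (tt N29851 F282436) (tt N30978 (iv F284758)) (tt N29850 F282437) (tt N30979 D63749) (tt N30778 (iv F284024)) (tt N30800 (iv F284136)) (tt N30953 (iv F284699)) (tt N30870 (iv F284435)) (tt N29849 (iv D63268)) (tt N30957 (iv F284708)))
theorem Q30500 : ∀ i, i < 30500 → P i := stepQ 30499 Q30499 (allL N30499 (tt N30979 (iv F284759)) (tt N30499 F282438) (tt N30674 (iv F283520)) (tt N29851 (iv D63269)) (tt N30872 (iv F284441)) (tt N30673 F283518) (tt N30748 (iv F283891)) (tt N30688 (iv F283611)) (tt N30743 (iv F283869)) (tt N30780 (iv F284039)))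
theorem Q30501 : ∀ i, i < 30501 → P i := stepQ 30500 Q30500 (allL N30500 (tt N29855 F282439) (tt N30570 (iv F282896)) (tt N30624 (iv F283229)) (tt N30600 (iv F283105)) (tt N30891 (iv F284513)) (tt N29856 F282440) (tt N30611 (iv F283166)) (tt N30523 (iv F282595)) (tt N30970 (iv F284741)) (tt N29854 (iv D63270)))
theorem Q30502 : ∀ i, i < 30502 → P i := stepQ 30501 Q30501 (allL N30501 (tt N29859 F282441) (tt N30175 F282442) (tt N30246 F282443) (tt N29949 F282444) (tt N30454 F282445) (tt N29862 F282446) (tt N30113 F282447) (tt N30203 F282448) (tt N29858 (iv D63271)) (tt N30980 D63750))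
theorem Q30503 : ∀ i, i < 30503 → P i := stepQ 30502 Q30502 (allL N30502 (tt N30980 (iv F284760)) (tt N29860 F282449) (tt N30231 F282450) (tt N29950 F282451) (tt N30452 F282452) (tt N29863 F282453) (tt N30114 F282454) (tt N30069 F282455) (tt N30458 F282456) (tt N29859 (iv D63272)))
theorem Q30504 : ∀ i, i < 30504 → P i := stepQ 30503 Q30503 (allL N30503 (tt N29863 F282457) (tt N30173 F282458) (tt N30229 F282459) (tt N30057 F282460) (tt N29951 F282461) (tt N30980 (iv F284765)) (tt N29955 F282462) (tt N30068 F282463) (tt N30456 F282464) (tt N29862 (iv D63273)))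
theorem Q30505 : ∀ i, i < 30505 → P i := stepQ 30504 Q30504 (allL N30504 (tt N29865 F282465) (tt N30014 F282466) (tt N30201 F282467) (tt N30981 D63751) (tt N29864 (iv D63274)) (tt N29986 F282468) (tt N30177 F282469) (tt N29886 F282470) (tt N29901 F282471) (tt N29962 F282472))
theorem Q30506 : ∀ i, i < 30506 → P i := stepQ 30505 Q30505 (allL N30505 (tt N30981 (iv F284769)) (tt N29866 F282473) (tt N30982 D63752) (tt N29865 (iv D63275)) (tt N30362 F282474) (tt N29987 F282475) (tt N30178 F282476) (tt N29887 F282477) (tt N30983 D63753) (tt N29963 F282478))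
theorem Q30507 : ∀ i, i < 30507 → P i := stepQ 30506 Q30506 (allL N30506 (tt N30016 F282479) (tt N30983 (iv F284783)) (tt N30506 F282480) (tt N29903 F282481) (tt N30365 F282482) (tt N29988 F282483) (tt N30181 F282484) (tt N29888 F282485) (tt N29866 (iv D63276)) (tt N30131 (iv F282486)))
theorem Q30508 : ∀ i, i < 30508 → P i := stepQ 30507 Q30507 (allL N30507 (tt N29868 F282487) (tt N30339 F282488) (tt N29883 F282489) (tt N30984 D63754) (tt N29867 (iv D63277)) (tt N30985 D63755) (tt N29917 F282490) (tt N30242 F282491) (tt N30133 F282492) (tt N30395 F282493))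
theorem Q30509 : ∀ i, i < 30509 → P i := stepQ 30508 Q30508 (allL N30508 (tt N30984 (iv F284790)) (tt N29869 F282494) (tt N29992 F282495) (tt N29868 (iv D63278)) (tt N29924 F282496) (tt N30986 D63756) (tt N29918 F282497) (tt N30243 F282498) (tt N30289 (iv F282500)) (tt N30388 F282499))
theorem Q30510 : ∀ i, i < 30510 → P i := stepQ 30509 Q30509 (allL N30509 (tt N30985 (iv F284798)) (tt N29870 F282501) (tt N29884 F282502) (tt N30986 (iv F284807)) (tt N30130 F282503) (tt N29868 (iv D63279)) (tt N30987 D63757) (tt N30005 F282504) (tt N30135 F282505) (tt N30389 F282506))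
theorem Q30511 : ∀ i, i < 30511 → P i := stepQ 30510 Q30510 (allL N30510 (tt N30126 F282507) (tt N30986 (iv F284805)) (tt N29872 F282508) (tt N29870 F282509) (tt N30345 F282510) (tt N29869 (iv D63280)) (tt N29968 F282511) (tt N29885 F282512) (tt N30283 F282513) (tt N30268 F282514))
theorem Q30512 : ∀ i, i < 30512 → P i := stepQ 30511 Q30511 (allL N30511 (tt N30124 F282515) (tt N30987 (iv F284813)) (tt N29871 F282516) (tt N29968 F282517) (tt N30132 F282518) (tt N29920 F282519) (tt N29870 (iv D63281)) (tt N29981 F282520) (tt N30138 F282521) (tt N30267 F282522))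
theorem Q30513 : ∀ i, i < 30513 → P i := stepQ 30512 Q30512 (allL N30512 (tt N29874 F282523) (tt N30414 F282524) (tt N30133 F282525) (tt N30988 D63758) (tt N29873 (iv D63282)) (tt N30989 D63759) (tt N30381 F282526) (tt N30488 F282527) (tt N29883 F282528) (tt N30269 F282529))
theorem Q30514 : ∀ i, i < 30514 → P i := stepQ 30513 Q30513 (allL N30513 (tt N30988 (iv F284821)) (tt N29875 F282530) (tt N30990 D63760) (tt N29874 (iv D63283)) (tt N29909 F282531) (tt N30991 D63761) (tt N30379 F282532) (tt N30489 F282533) (tt N29996 F282534) (tt N30270 F282535))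
theorem Q30515 : ∀ i, i < 30515 → P i := stepQ 30514 Q30514 (allL N30514 (tt N30989 (iv F284828)) (tt N29876 F282536) (tt N30135 F282537) (tt N30991 (iv F284843)) (tt N30123 F282538) (tt N29874 (iv D63284)) (tt N30992 D63762) (tt N30487 F282539) (tt N29884 F282540) (tt N30271 F282541))
theorem Q30516 : ∀ i, i < 30516 → P i := stepQ 30515 Q30515 (allL N30515 (tt N30373 F282542) (tt N30991 (iv F284842)) (tt N30515 F282543) (tt N29876 F282544) (tt N30993 D63763) (tt N29875 (iv D63285)) (tt N30994 D63764) (tt N30485 F282545) (tt N29998 F282546) (tt N30249 F282547))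
theorem Q30517 : ∀ i, i < 30517 → P i := stepQ 30516 Q30516 (allL N30516 (tt N30345 F282548) (tt N30992 (iv F284847)) (tt N29877 F282549) (tt N30994 (iv F284864)) (tt N30126 F282550) (tt N30197 F282551) (tt N29876 (iv D63286)) (tt N30283 F282552) (tt N29885 F282553) (tt N29994 F282554))
theorem Q30518 : ∀ i, i < 30518 → P i := stepQ 30517 Q30517 (allL N30517 (tt N29879 F282555) (tt N30278 F282556) (tt N30128 F282557) (tt N30995 D63765) (tt N29878 (iv D63287)) (tt N30996 D63766) (tt N30216 F282558) (tt N30361 F282559) (tt N30121 F282560) (tt N30358 F282561))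
theorem Q30519 : ∀ i, i < 30519 → P i := stepQ 30518 Q30518 (allL N30518 (tt N30995 (iv F284870)) (tt N29880 F282562) (tt N30997 D63767) (tt N29879 (iv D63288)) (tt N29887 F282563) (tt N30998 D63768) (tt N30217 F282564) (tt N30362 F282565) (tt N30999 D63769) (tt N30359 F282566))
theorem Q30520 : ∀ i, i < 30520 → P i := stepQ 30519 Q30519 (allL N30519 (tt N30996 (iv F284876)) (tt N29881 F282567) (tt N30130 F282568) (tt N30998 (iv F284890)) (tt N29884 F282569) (tt N29879 (iv D63289)) (tt N31000 D63770) (tt N30363 F282570) (tt N30123 F282571) (tt N30360 F282572))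
theorem Q30521 : ∀ i, i < 30521 → P i := stepQ 30520 Q30520 (allL N30520 (tt N30281 F282573) (tt N30998 (iv F284889)) (tt N30520 F282574) (tt N29881 F282575) (tt N30002 F282576) (tt N29880 (iv D63290)) (tt N31001 D63771) (tt N30364 F282577) (tt N31002 D63772) (tt N30220 F282578))
theorem Q30522 : ∀ i, i < 30522 → P i := stepQ 30521 Q30521 (allL N30521 (tt N30282 F282579) (tt N30999 (iv F284894)) (tt N30521 F282580) (tt N30125 F282581) (tt N29888 F282582) (tt N31002 (iv F284918)) (tt N30220 F282583) (tt N30365 F282584) (tt N29880 (iv D63291)) (tt N31001 (iv F284912)))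
theorem Q30523 : ∀ i, i < 30523 → P i := stepQ 30522 Q30522 (allL N30522 (tt N30283 F282585) (tt N31000 (iv F284899)) (tt N29882 F282586) (tt N31001 (iv F284908)) (tt N29885 F282587) (tt N30221 F282588) (tt N29881 (iv D63292)) (tt N30345 F282589) (tt N30126 F282590) (tt N30125 F282591))
theorem Q30524 : ∀ i, i < 30524 → P i := stepQ 30523 Q30523 (allL N30523 (tt N29884 F282592) (tt N30417 F282593) (tt N30985 (iv F284800)) (tt N30004 F282594) (tt N30996 (iv F284879)) (tt N29883 (iv D63293)) (tt N31003 D63773) (tt N30500 F282595) (tt N30989 (iv F284833)) (tt N30396 F282596))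
theorem Q30525 : ∀ i, i < 30525 → P i := stepQ 30524 Q30524 (allL N30524 (tt N31003 (iv F284922)) (tt N29885 F282597) (tt N30987 (iv F284814)) (tt N30005 F282598) (tt N31000 (iv F284901)) (tt N30243 F282599) (tt N29884 (iv D63294)) (tt N30986 (iv F284810)) (tt N30992 (iv F284852)) (tt N30390 F282600))
theorem Q30526 : ∀ i, i < 30526 → P i := stepQ 30525 Q30525 (allL N30525 (tt N29887 F282601) (tt N30291 F282602) (tt N31004 D63774) (tt N29886 (iv D63295)) (tt N30995 (iv F284872)) (tt N30006 F282603) (tt N30224 F282604) (tt N30981 (iv F284774)) (tt N31005 D63775) (tt N30397 F282605))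
theorem Q30527 : ∀ i, i < 30527 → P i := stepQ 30526 Q30526 (allL N30526 (tt N31004 (iv F284927)) (tt N30526 F282606) (tt N29887 (iv D63296)) (tt N30205 F282607) (tt N30997 (iv F284885)) (tt N30007 F282608) (tt N30225 F282609) (tt N30982 (iv F284781)) (tt N31006 D63776) (tt N30398 F282610))
theorem Q30528 : ∀ i, i < 30528 → P i := stepQ 30527 Q30527 (allL N30527 (tt N31005 (iv F284932)) (tt N29888 F282611) (tt N31006 (iv F284938)) (tt N29914 F282612) (tt N30999 (iv F284896)) (tt N30008 F282613) (tt N30226 F282614) (tt N30983 (iv F284788)) (tt N29887 (iv D63297)) (tt N31007 D63777))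
theorem Q30529 : ∀ i, i < 30529 → P i := stepQ 30528 Q30528 (allL N30528 (tt N30294 F282615) (tt N31007 (iv F284942)) (tt N30528 F282616) (tt N29915 F282617) (tt N31001 (iv F284909)) (tt N30009 F282618) (tt N30002 F282619) (tt N30131 F282620) (tt N30400 F282621) (tt N29888 (iv D63298)))
theorem Q30530 : ∀ i, i < 30530 → P i := stepQ 30529 Q30529 (allL N30529 (tt N29890 F282622) (tt N30269 F282623) (tt N30402 F282624) (tt N31008 D63778) (tt N29889 (iv D63299)) (tt N31009 D63779) (tt N30420 F282625) (tt N29908 F282626) (tt N29894 F282627) (tt N30414 F282628))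
theorem Q30531 : ∀ i, i < 30531 → P i := stepQ 30530 Q30530 (allL N30530 (tt N31008 (iv F284948)) (tt N29891 F282629) (tt N31010 D63780) (tt N29890 (iv D63300)) (tt N30489 F282630) (tt N30372 (iv F282635)) (tt N30421 F282631) (tt N29909 F282632) (tt N30019 F282633) (tt N30415 F282634))
theorem Q30532 : ∀ i, i < 30532 → P i := stepQ 30531 Q30531 (allL N30531 (tt N31009 (iv F284956)) (tt N29892 F282636) (tt N30234 F282637) (tt N30372 F282638) (tt N30266 F282639) (tt N29890 (iv D63301)) (tt N31011 D63781) (tt N29910 F282640) (tt N29895 F282641) (tt N30416 F282642))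
theorem Q30533 : ∀ i, i < 30533 → P i := stepQ 30532 Q30532 (allL N30532 (tt N29994 F282643) (tt N31011 (iv F284972)) (tt N29893 F282644) (tt N30365 F282645) (tt N30268 F282646) (tt N30346 F282647) (tt N29892 (iv D63302)) (tt N30125 F282648) (tt N29896 F282649) (tt N30345 F282650))
theorem Q30534 : ∀ i, i < 30534 → P i := stepQ 30533 Q30533 (allL N30533 (tt N29895 F282651) (tt N30411 F282652) (tt N30233 F282653) (tt N30020 F282654) (tt N30401 F282655) (tt N29894 (iv D63303)) (tt N31012 D63782) (tt N29912 F282656) (tt N31009 (iv F284962)) (tt N29921 F282657))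
theorem Q30535 : ∀ i, i < 30535 → P i := stepQ 30534 Q30534 (allL N30534 (tt N31012 (iv F284980)) (tt N29896 F282658) (tt N30230 F282659) (tt N29990 F282660) (tt N30265 F282661) (tt N30441 F282662) (tt N29895 (iv D63304)) (tt N30122 F282663) (tt N31011 (iv F284978)) (tt N29922 F282664))
theorem Q30536 : ∀ i, i < 30536 → P i := stepQ 30535 Q30535 (allL N30535 (tt N29898 F282665) (tt N30304 F282666) (tt N30068 F282667) (tt N31013 D63783) (tt N29897 (iv D63305)) (tt N31014 D63784) (tt N29901 F282668) (tt N30229 F282669) (tt N30177 F282670) (tt N29923 F282671))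
theorem Q30537 : ∀ i, i < 30537 → P i := stepQ 30536 Q30536 (allL N30536 (tt N31013 (iv F284988)) (tt N29899 F282672) (tt N30122 F282673) (tt N29898 (iv D63306)) (tt N30388 F282674) (tt N30352 (iv F282678)) (tt N29902 F282675) (tt N30230 F282676) (tt N31015 D63785) (tt N29924 F282677))
theorem Q30538 : ∀ i, i < 30538 → P i := stepQ 30537 Q30537 (allL N30537 (tt N31014 (iv F284996)) (tt N29900 F282679) (tt N30069 F282680) (tt N30352 F282681) (tt N30156 F282682) (tt N29898 (iv D63307)) (tt N30022 F282683) (tt N30231 F282684) (tt N30179 F282685) (tt N29925 F282686))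
theorem Q30539 : ∀ i, i < 30539 → P i := stepQ 30538 Q30538 (allL N30538 (tt N30276 F282687) (tt N31015 (iv F285005)) (tt N29916 F282688) (tt N30181 F282689) (tt N30267 F282690) (tt N30310 F282691) (tt N29903 F282692) (tt N30232 F282693) (tt N29899 (iv D63308)) (tt N30132 F282694))
theorem Q30540 : ∀ i, i < 30540 → P i := stepQ 30539 Q30539 (allL N30539 (tt N29902 F282695) (tt N30314 F282696) (tt N30382 F282697) (tt N29901 (iv D63309)) (tt N30353 F282698) (tt N30023 F282699) (tt N31013 (iv F284992)) (tt N29913 F282700) (tt N31016 D63786) (tt N29926 F282701))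
theorem Q30541 : ∀ i, i < 30541 → P i := stepQ 30540 Q30540 (allL N30540 (tt N31016 (iv F285013)) (tt N29903 F282702) (tt N30360 F282703) (tt N30983 (iv F284784)) (tt N30389 F282704) (tt N30024 F282705) (tt N31015 (iv F285010)) (tt N29914 F282706) (tt N29902 (iv D63310)) (tt N30130 F282707))
theorem Q30542 : ∀ i, i < 30542 → P i := stepQ 30541 Q30541 (allL N30541 (tt N29905 F282708) (tt N30488 F282709) (tt N29999 F282710) (tt N31017 D63787) (tt N29904 (iv D63311)) (tt N31018 D63788) (tt N30018 F282711) (tt N30414 F282712) (tt N29939 F282713) (tt N29908 F282714))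
theorem Q30543 : ∀ i, i < 30543 → P i := stepQ 30542 Q30542 (allL N30542 (tt N31017 (iv F285020)) (tt N29906 F282715) (tt N31019 D63789) (tt N29905 (iv D63312)) (tt N30270 F282716) (tt N31020 D63790) (tt N30019 F282717) (tt N30415 F282718) (tt N30421 F282719) (tt N29909 F282720))
theorem Q30544 : ∀ i, i < 30544 → P i := stepQ 30543 Q30543 (allL N30543 (tt N31018 (iv F285027)) (tt N29907 F282721) (tt N30001 F282722) (tt N31020 (iv F285043)) (tt N29993 F282723) (tt N29905 (iv D63313)) (tt N30363 F282724) (tt N30416 F282725) (tt N29940 F282726) (tt N29910 F282727))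
theorem Q30545 : ∀ i, i < 30545 → P i := stepQ 30544 Q30544 (allL N30544 (tt N30485 F282728) (tt N31020 (iv F285042)) (tt N30544 F282729) (tt N29907 F282730) (tt N31021 D63791) (tt N29906 (iv D63314)) (tt N30364 F282731) (tt N30373 F282732) (tt N30338 F282733) (tt N29911 F282734))
theorem Q30546 : ∀ i, i < 30546 → P i := stepQ 30545 Q30545 (allL N30545 (tt N29909 F282735) (tt N30490 F282736) (tt N31022 D63792) (tt N29908 (iv D63315)) (tt N30988 (iv F284823)) (tt N31023 D63793) (tt N30375 F282737) (tt N31008 (iv F284952)) (tt N30029 F282738) (tt N31017 (iv F285026)))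
theorem Q30547 : ∀ i, i < 30547 → P i := stepQ 30546 Q30546 (allL N30546 (tt N29910 F282739) (tt N30486 F282740) (tt N30235 F282741) (tt N31023 (iv F285062)) (tt N30408 F282742) (tt N29908 (iv D63316)) (tt N30367 F282743) (tt N31009 (iv F284961)) (tt N29912 F282744) (tt N31018 (iv F285034)))
theorem Q30548 : ∀ i, i < 30548 → P i := stepQ 30547 Q30547 (allL N30547 (tt N31022 (iv F285056)) (tt N30547 F282745) (tt N29909 (iv D63317)) (tt N30410 F282746) (tt N30990 (iv F284837)) (tt N31024 D63794) (tt N30377 F282747) (tt N31010 (iv F284969)) (tt N30031 F282748) (tt N31019 (iv F285041)))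
theorem Q30549 : ∀ i, i < 30549 → P i := stepQ 30548 Q30548 (allL N30548 (tt N31023 (iv F285060)) (tt N29911 F282749) (tt N31024 (iv F285067)) (tt N29910 F282750) (tt N31025 D63795) (tt N29909 (iv D63318)) (tt N30369 F282751) (tt N30372 F282752) (tt N30032 F282753) (tt N31020 (iv F285047)))
theorem Q30550 : ∀ i, i < 30550 → P i := stepQ 30549 Q30549 (allL N30549 (tt N30259 F282754) (tt N31025 (iv F285072)) (tt N30549 F282755) (tt N30232 F282756) (tt N29911 (iv D63319)) (tt N30993 (iv F284857)) (tt N30215 F282757) (tt N30181 F282758) (tt N30033 F282759) (tt N31021 (iv F285055)))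
theorem Q30551 : ∀ i, i < 30551 → P i := stepQ 30550 Q30550 (allL N30550 (tt N29914 F282760) (tt N30316 F282761) (tt N30367 F282762) (tt N31005 (iv F284934)) (tt N30385 F282763) (tt N30035 F282764) (tt N30235 F282765) (tt N31016 (iv F285018)) (tt N29913 (iv D63320)) (tt N31026 D63796))
theorem Q30552 : ∀ i, i < 30552 → P i := stepQ 30551 Q30551 (allL N30551 (tt N31026 (iv F285077)) (tt N29915 F282766) (tt N30363 F282767) (tt N31007 (iv F284943)) (tt N30005 F282768) (tt N30036 F282769) (tt N30001 F282770) (tt N30130 F282771) (tt N29950 F282772) (tt N29914 (iv D63321)))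
theorem Q30553 : ∀ i, i < 30553 → P i := stepQ 30552 Q30552 (allL N30552 (tt N29918 F282773) (tt N30311 F282774) (tt N30411 F282775) (tt N29917 (iv D63322)) (tt N29926 F282776) (tt N30277 (iv F282779)) (tt N30984 (iv F284794)) (tt N29944 F282777) (tt N30285 F282780) (tt N30353 F282778))
theorem Q30554 : ∀ i, i < 30554 → P i := stepQ 30553 Q30553 (allL N30553 (tt N29919 F282781) (tt N30382 F282782) (tt N30244 F282783) (tt N30277 F282784) (tt N29921 F282785) (tt N29917 (iv D63323)) (tt N31027 D63797) (tt N29945 F282786) (tt N30430 F282787) (tt N30401 F282788))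
theorem Q30555 : ∀ i, i < 30555 → P i := stepQ 30554 Q30554 (allL N30554 (tt N31027 (iv F285085)) (tt N29920 F282789) (tt N30243 F282790) (tt N29967 F282791) (tt N29922 F282792) (tt N30987 (iv F284817)) (tt N29919 (iv D63324)) (tt N29992 F282793) (tt N30387 F282794) (tt N30265 F282795))
theorem Q30556 : ∀ i, i < 30556 → P i := stepQ 30555 Q30555 (allL N30555 (tt N29922 F282796) (tt N30407 F282797) (tt N30245 F282798) (tt N30051 F282799) (tt N31027 (iv F285089)) (tt N30442 F282800) (tt N29921 (iv D63325)) (tt N30272 F282801) (tt N30386 F282802) (tt N31012 (iv F284987)))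
theorem Q30557 : ∀ i, i < 30557 → P i := stepQ 30556 Q30556 (allL N30556 (tt N29924 F282803) (tt N30349 F282804) (tt N30272 F282805) (tt N29923 (iv D63326)) (tt N30984 (iv F284793)) (tt N30351 (iv F282809)) (tt N29926 F282806) (tt N30245 F282807) (tt N30290 F282808) (tt N31013 (iv F284994)))
theorem Q30558 : ∀ i, i < 30558 → P i := stepQ 30557 Q30557 (allL N30557 (tt N29925 F282810) (tt N30194 F282811) (tt N30203 F282812) (tt N30351 F282813) (tt N30159 F282814) (tt N29923 (iv D63327)) (tt N30053 F282815) (tt N30246 F282816) (tt N30107 F282817) (tt N31014 (iv F285004)))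
theorem Q30559 : ∀ i, i < 30559 → P i := stepQ 30558 Q30558 (allL N30558 (tt N29928 F282818) (tt N30210 F282819) (tt N29939 F282820) (tt N30169 F282821) (tt N29927 (iv D63328)) (tt N30254 (iv F282826)) (tt N30017 F282822) (tt N30189 F282823) (tt N29999 F282824) (tt N29929 F282825))
theorem Q30560 : ∀ i, i < 30560 → P i := stepQ 30559 Q30559 (allL N30559 (tt N29931 F282827) (tt N30361 F282828) (tt N29995 F282829) (tt N31028 D63798) (tt N29930 (iv D63329)) (tt N31029 D63799) (tt N30247 F282830) (tt N30278 F282831) (tt N29991 F282832) (tt N29934 F282833))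
theorem Q30561 : ∀ i, i < 30561 → P i := stepQ 30560 Q30560 (allL N30560 (tt N31028 (iv F285093)) (tt N29932 F282834) (tt N31030 D63800) (tt N29931 (iv D63330)) (tt N30015 F282835) (tt N31031 D63801) (tt N30248 F282836) (tt N30279 F282837) (tt N31032 D63802) (tt N29935 F282838))
theorem Q30562 : ∀ i, i < 30562 → P i := stepQ 30561 Q30561 (allL N30561 (tt N31029 (iv F285099)) (tt N29933 F282839) (tt N29997 F282840) (tt N31031 (iv F285114)) (tt N29940 F282841) (tt N29931 (iv D63331)) (tt N30487 F282842) (tt N30280 F282843) (tt N29993 F282844) (tt N29936 F282845))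
theorem Q30563 : ∀ i, i < 30563 → P i := stepQ 30562 Q30562 (allL N30562 (tt N30364 F282846) (tt N31031 (iv F285113)) (tt N30562 F282847) (tt N29933 F282848) (tt N30263 F282849) (tt N29932 (iv D63332)) (tt N30485 F282850) (tt N30281 F282851) (tt N31033 D63803) (tt N29937 F282852))
theorem Q30564 : ∀ i, i < 30564 → P i := stepQ 30563 Q30563 (allL N30563 (tt N30365 F282853) (tt N31032 (iv F285119)) (tt N30563 F282854) (tt N29994 F282855) (tt N30016 F282856) (tt N31033 (iv F285128)) (tt N30249 F282857) (tt N30282 F282858) (tt N29932 (iv D63333)) (tt N30994 (iv F284869)))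
theorem Q30565 : ∀ i, i < 30565 → P i := stepQ 30564 Q30564 (allL N30564 (tt N29935 F282859) (tt N30366 F282860) (tt N31034 D63804) (tt N29934 (iv D63334)) (tt N30045 F282861) (tt N31035 D63805) (tt N30250 F282862) (tt N30429 F282863) (tt N31036 D63806) (tt N31028 (iv F285098)))
theorem Q30566 : ∀ i, i < 30566 → P i := stepQ 30565 Q30565 (allL N30565 (tt N29936 F282864) (tt N30367 F282865) (tt N30253 F282866) (tt N31035 (iv F285139)) (tt N29942 F282867) (tt N29934 (iv D63335)) (tt N30486 F282868) (tt N30430 F282869) (tt N29945 F282870) (tt N31029 (iv F285106)))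
theorem Q30567 : ∀ i, i < 30567 → P i := stepQ 30566 Q30566 (allL N30566 (tt N31034 (iv F285132)) (tt N30566 F282871) (tt N29935 (iv D63336)) (tt N30394 F282872) (tt N30046 F282873) (tt N31037 D63807) (tt N30251 F282874) (tt N30431 F282875) (tt N31038 D63808) (tt N31030 (iv F285112)))
theorem Q30568 : ∀ i, i < 30568 → P i := stepQ 30567 Q30567 (allL N30567 (tt N31035 (iv F285137)) (tt N29937 F282876) (tt N31037 (iv F285152)) (tt N29936 F282877) (tt N30262 F282878) (tt N29935 (iv D63337)) (tt N30484 F282879) (tt N30288 F282880) (tt N30256 (iv F282881)) (tt N31031 (iv F285118)))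
theorem Q30569 : ∀ i, i < 30569 → P i := stepQ 30568 Q30568 (allL N30568 (tt N31036 (iv F285144)) (tt N29938 F282882) (tt N31038 (iv F285159)) (tt N29946 F282883) (tt N30047 F282884) (tt N30256 F282885) (tt N30252 F282886) (tt N30287 F282887) (tt N29935 (iv D63338)) (tt N31039 D63809))
theorem Q30570 : ∀ i, i < 30570 → P i := stepQ 30569 Q30569 (allL N30569 (tt N30322 F282888) (tt N31039 (iv F285165)) (tt N30569 F282889) (tt N29947 F282890) (tt N30048 F282891) (tt N30118 F282892) (tt N29998 F282893) (tt N30136 F282894) (tt N30994 (iv F284868)) (tt N29938 (iv D63339)))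
theorem Q30571 : ∀ i, i < 30571 → P i := stepQ 30570 Q30570 (allL N30570 (tt N29940 F282895) (tt N30500 F282896) (tt N30254 F282897) (tt N30440 F282898) (tt N31029 (iv F285102)) (tt N29939 (iv D63340)) (tt N31040 D63810) (tt N30417 F282899) (tt N31018 (iv F285033)) (tt N29942 F282900))
theorem Q30572 : ∀ i, i < 30572 → P i := stepQ 30571 Q30571 (allL N30571 (tt N31040 (iv F285171)) (tt N29941 F282901) (tt N29950 F282902) (tt N30441 F282903) (tt N30487 F282904) (tt N29990 F282905) (tt N29940 (iv D63341)) (tt N30123 (iv F282908)) (tt N30363 F282906) (tt N29943 F282907))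
theorem Q30573 : ∀ i, i < 30573 → P i := stepQ 30572 Q30572 (allL N30572 (tt N29943 F282909) (tt N30408 F282910) (tt N29949 F282911) (tt N30442 F282912) (tt N30486 F282913) (tt N30051 F282914) (tt N29942 (iv D63342)) (tt N30273 (iv F282916)) (tt N29948 F282915) (tt N31040 (iv F285178)))
theorem Q30574 : ∀ i, i < 30574 → P i := stepQ 30573 Q30573 (allL N30573 (tt N29946 F282917) (tt N30318 F282918) (tt N30486 F282919) (tt N31036 (iv F285146)) (tt N29949 F282920) (tt N30255 F282921) (tt N30253 F282922) (tt N30285 F282923) (tt N29944 (iv D63343)) (tt N31041 D63811))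
theorem Q30575 : ∀ i, i < 30575 → P i := stepQ 30574 Q30574 (allL N30574 (tt N31041 (iv F285180)) (tt N29947 F282924) (tt N30487 F282925) (tt N31039 (iv F285166)) (tt N29950 F282926) (tt N30117 F282927) (tt N29997 F282928) (tt N30135 F282929) (tt N30005 F282930) (tt N29946 (iv D63344)))
theorem Q30576 : ∀ i, i < 30576 → P i := stepQ 30575 Q30575 (allL N30575 (tt N29950 F282931) (tt N30384 F282932) (tt N31040 (iv F285173)) (tt N30980 (iv F284763)) (tt N31041 (iv F285183)) (tt N30057 F282933) (tt N30254 F282934) (tt N30139 F282935) (tt N31026 (iv F285084)) (tt N29949 (iv D63345)))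
theorem Q30577 : ∀ i, i < 30577 → P i := stepQ 30576 Q30576 (allL N30576 (tt N29953 F282936) (tt N30073 F282937) (tt N29962 F282938) (tt N31042 D63812) (tt N29952 (iv D63346)) (tt N30119 F282939) (tt N30170 F282940) (tt N30070 F282941) (tt N30058 F282942) (tt N30201 F282943))
theorem Q30578 : ∀ i, i < 30578 → P i := stepQ 30577 Q30577 (allL N30577 (tt N31042 (iv F285188)) (tt N29954 F282944) (tt N31043 D63813) (tt N29953 (iv D63347)) (tt N30451 F282945) (tt N30120 F282946) (tt N30171 F282947) (tt N30071 F282948) (tt N30100 F282949) (tt N30202 F282950))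
theorem Q30579 : ∀ i, i < 30579 → P i := stepQ 30578 Q30578 (allL N30578 (tt N29957 F282951) (tt N30211 F282952) (tt N31044 D63814) (tt N29956 (iv D63348)) (tt N30208 F282953) (tt N30475 F282954) (tt N30204 F282955) (tt N30468 F282956) (tt N30445 F282957) (tt N30331 F282958))
theorem Q30580 : ∀ i, i < 30580 → P i := stepQ 30579 Q30579 (allL N30579 (tt N31044 (iv F285204)) (tt N30579 F282959) (tt N29957 (iv D63349)) (tt N30225 F282960) (tt N30209 F282961) (tt N30476 F282962) (tt N30205 F282963) (tt N30469 F282964) (tt N30446 F282965) (tt N30332 F282966))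
theorem Q30581 : ∀ i, i < 30581 → P i := stepQ 30580 Q30580 (allL N30580 (tt N29959 F282967) (tt N30006 F282968) (tt N31045 D63815) (tt N29958 (iv D63350)) (tt N30447 F282969) (tt N30291 F282970) (tt N30475 F282971) (tt N30465 F282972) (tt N30424 F282973) (tt N30391 F282974))
theorem Q30582 : ∀ i, i < 30582 → P i := stepQ 30581 Q30581 (allL N30581 (tt N31045 (iv F285212)) (tt N30581 F282975) (tt N29959 (iv D63351)) (tt N30212 F282976) (tt N30448 F282977) (tt N30292 F282978) (tt N30476 F282979) (tt N30466 F282980) (tt N30425 F282981) (tt N30392 F282982))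
theorem Q30583 : ∀ i, i < 30583 → P i := stepQ 30582 Q30582 (allL N30582 (tt N29961 F282983) (tt N30029 F282984) (tt N31046 D63816) (tt N29960 (iv D63352)) (tt N30426 F282985) (tt N30482 F282986) (tt N30393 F282987) (tt N30492 F282988) (tt N30490 F282989) (tt N30412 F282990))
theorem Q30584 : ∀ i, i < 30584 → P i := stepQ 30583 Q30583 (allL N30583 (tt N31046 (iv F285220)) (tt N30583 F282991) (tt N29961 (iv D63353)) (tt N30251 F282992) (tt N30427 F282993) (tt N30483 F282994) (tt N30394 F282995) (tt N30493 F282996) (tt N30491 F282997) (tt N30413 F282998))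
theorem Q30585 : ∀ i, i < 30585 → P i := stepQ 30584 Q30584 (allL N30584 (tt N29963 F282999) (tt N30045 F283000) (tt N31047 D63817) (tt N29962 (iv D63354)) (tt N30366 F283001) (tt N30463 F283002) (tt N30182 F283003) (tt N30397 F283004) (tt N31048 D63818) (tt N30981 (iv F284775)))
theorem Q30586 : ∀ i, i < 30586 → P i := stepQ 30585 Q30585 (allL N30585 (tt N31047 (iv F285228)) (tt N30585 F283005) (tt N29963 (iv D63355)) (tt N31043 (iv F285197)) (tt N30368 F283006) (tt N30464 F283007) (tt N30184 F283008) (tt N30398 F283009) (tt N31049 D63819) (tt N30982 (iv F284782)))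
theorem Q30587 : ∀ i, i < 30587 → P i := stepQ 30586 Q30586 (allL N30586 (tt N31048 (iv F285233)) (tt N29964 F283010) (tt N31049 (iv F285241)) (tt N30172 F283011) (tt N30320 F283012) (tt N30171 F283013) (tt N30186 F283014) (tt N30399 F283015) (tt N29963 (iv D63356)) (tt N31050 D63820))
theorem Q30588 : ∀ i, i < 30588 → P i := stepQ 30587 Q30587 (allL N30587 (tt N30048 F283016) (tt N31050 (iv F285247)) (tt N30587 F283017) (tt N30063 F283018) (tt N30322 F283019) (tt N30062 F283020) (tt N30188 F283021) (tt N30400 F283022) (tt N30131 F283023) (tt N29964 (iv D63357)))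
theorem Q30589 : ∀ i, i < 30589 → P i := stepQ 30588 Q30588 (allL N30588 (tt N29967 F283024) (tt N30121 F283025) (tt N29979 F283026) (tt N31027 (iv F285088)) (tt N29966 (iv D63358)) (tt N31051 D63821) (tt N30277 F283027) (tt N29991 F283028) (tt N30278 F283029) (tt N30264 F283030))
theorem Q30590 : ∀ i, i < 30590 → P i := stepQ 30589 Q30589 (allL N30589 (tt N31051 (iv F285254)) (tt N29968 F283031) (tt N29980 F283032) (tt N30987 (iv F284815)) (tt N30416 F283033) (tt N29967 (iv D63359)) (tt N30986 (iv F284809)) (tt N29993 F283034) (tt N30280 F283035) (tt N30266 F283036))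
theorem Q30591 : ∀ i, i < 30591 → P i := stepQ 30590 Q30590 (allL N30590 (tt N29970 F283037) (tt N30420 F283038) (tt N30278 F283039) (tt N31052 D63822) (tt N29969 (iv D63360)) (tt N31053 D63823) (tt N30269 F283040) (tt N29995 F283041) (tt N29979 F283042) (tt N30381 F283043))
theorem Q30592 : ∀ i, i < 30592 → P i := stepQ 30591 Q30591 (allL N30591 (tt N31052 (iv F285261)) (tt N29971 F283044) (tt N31054 D63824) (tt N29970 (iv D63361)) (tt N30019 F283045) (tt N31055 D63825) (tt N30270 F283046) (tt N29996 F283047) (tt N30489 F283048) (tt N30379 F283049))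
theorem Q30593 : ∀ i, i < 30593 → P i := stepQ 30592 Q30592 (allL N30592 (tt N31053 (iv F285268)) (tt N29972 F283050) (tt N30280 F283051) (tt N31055 (iv F285283)) (tt N30191 F283052) (tt N29970 (iv D63362)) (tt N31056 D63826) (tt N29997 F283053) (tt N29980 F283054) (tt N30195 F283055))
theorem Q30594 : ∀ i, i < 30594 → P i := stepQ 30593 Q30593 (allL N30593 (tt N30338 F283056) (tt N31055 (iv F285282)) (tt N30593 F283057) (tt N29972 F283058) (tt N30180 F283059) (tt N29971 (iv D63363)) (tt N31033 (iv F285129)) (tt N29998 F283060) (tt N30485 F283061) (tt N30187 F283062))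
theorem Q30595 : ∀ i, i < 30595 → P i := stepQ 30594 Q30594 (allL N30594 (tt N30346 F283063) (tt N31056 (iv F285288)) (tt N29973 F283064) (tt N31033 (iv F285126)) (tt N30141 F283065) (tt N29994 F283066) (tt N29972 (iv D63364)) (tt N30138 F283067) (tt N29981 F283068) (tt N30197 F283069))
theorem Q30596 : ∀ i, i < 30596 → P i := stepQ 30595 Q30595 (allL N30595 (tt N29975 F283070) (tt N30436 F283071) (tt N30414 F283072) (tt N31057 D63827) (tt N29974 (iv D63365)) (tt N31058 D63828) (tt N30418 F283073) (tt N29999 F283074) (tt N30189 F283075) (tt N30402 F283076))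
theorem Q30597 : ∀ i, i < 30597 → P i := stepQ 30596 Q30596 (allL N30596 (tt N31057 (iv F285295)) (tt N29976 F283077) (tt N31059 D63829) (tt N29975 (iv D63366)) (tt N29987 F283078) (tt N31060 D63830) (tt N30419 F283079) (tt N30000 F283080) (tt N30155 F283081) (tt N30403 F283082))
theorem Q30598 : ∀ i, i < 30598 → P i := stepQ 30597 Q30597 (allL N30597 (tt N31058 (iv F285302)) (tt N29977 F283083) (tt N30416 F283084) (tt N31060 (iv F285317)) (tt N29980 F283085) (tt N29975 (iv D63367)) (tt N31061 D63831) (tt N30001 F283086) (tt N30191 F283087) (tt N30234 F283088))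
theorem Q30599 : ∀ i, i < 30599 → P i := stepQ 30598 Q30598 (allL N30598 (tt N30263 F283089) (tt N31060 (iv F285316)) (tt N30598 F283090) (tt N29977 F283091) (tt N30364 F283092) (tt N29976 (iv D63368)) (tt N31021 (iv F285052)) (tt N30002 F283093) (tt N30157 F283094) (tt N30215 F283095))
theorem Q30600 : ∀ i, i < 30600 → P i := stepQ 30599 Q30599 (allL N30599 (tt N30310 F283096) (tt N31061 (iv F285322)) (tt N29978 F283097) (tt N31021 (iv F285050)) (tt N29981 F283098) (tt N30276 F283099) (tt N29977 (iv D63369)) (tt N30132 F283100) (tt N30141 F283101) (tt N30232 F283102))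
theorem Q30601 : ∀ i, i < 30601 → P i := stepQ 30600 Q30600 (allL N30600 (tt N29980 F283103) (tt N30440 F283104) (tt N31051 (iv F285256)) (tt N30500 F283105) (tt N31058 (iv F285305)) (tt N29979 (iv D63370)) (tt N31062 D63832) (tt N30004 F283106) (tt N31053 (iv F285273)) (tt N30404 F283107))
theorem Q30602 : ∀ i, i < 30602 → P i := stepQ 30601 Q30601 (allL N30601 (tt N31062 (iv F285329)) (tt N29981 F283108) (tt N30986 (iv F284806)) (tt N29993 F283109) (tt N31061 (iv F285324)) (tt N29992 F283110) (tt N29980 (iv D63371)) (tt N30987 (iv F284818)) (tt N31056 (iv F285293)) (tt N30405 F283111))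
theorem Q30603 : ∀ i, i < 30603 → P i := stepQ 30602 Q30602 (allL N30602 (tt N29983 F283112) (tt N30154 F283113) (tt N30257 F283114) (tt N31063 D63833) (tt N29982 (iv D63372)) (tt N31064 D63834) (tt N29986 F283115) (tt N30299 F283116) (tt N30021 F283117) (tt N30099 F283118))
theorem Q30604 : ∀ i, i < 30604 → P i := stepQ 30603 Q30603 (allL N30603 (tt N31063 (iv F285334)) (tt N29984 F283119) (tt N31065 D63835) (tt N29983 (iv D63373)) (tt N30419 F283120) (tt N31066 D63836) (tt N29987 F283121) (tt N30300 F283122) (tt N30437 F283123) (tt N30100 F283124))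
theorem Q30605 : ∀ i, i < 30605 → P i := stepQ 30604 Q30604 (allL N30604 (tt N31064 (iv F285341)) (tt N29985 F283125) (tt N30199 F283126) (tt N31066 (iv F285357)) (tt N30192 F283127) (tt N29983 (iv D63374)) (tt N30179 F283128) (tt N30164 F283129) (tt N30022 F283130) (tt N30101 F283131))
theorem Q30606 : ∀ i, i < 30606 → P i := stepQ 30605 Q30605 (allL N30605 (tt N30157 F283132) (tt N31066 (iv F285356)) (tt N30605 F283133) (tt N29985 F283134) (tt N31033 (iv F285127)) (tt N29984 (iv D63375)) (tt N30180 F283135) (tt N30145 F283136) (tt N30263 F283137) (tt N30102 F283138))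
theorem Q30607 : ∀ i, i < 30607 → P i := stepQ 30606 Q30606 (allL N30606 (tt N29987 F283139) (tt N30465 F283140) (tt N31067 D63837) (tt N29986 (iv D63376)) (tt N31057 (iv F285297)) (tt N30981 (iv F284772)) (tt N31063 (iv F285337)) (tt N30006 F283141) (tt N31068 D63838) (tt N30463 F283142))
theorem Q30608 : ∀ i, i < 30608 → P i := stepQ 30607 Q30607 (allL N30607 (tt N31067 (iv F285362)) (tt N30607 F283143) (tt N29987 (iv D63377)) (tt N30261 F283144) (tt N31059 (iv F285311)) (tt N30982 (iv F284779)) (tt N31065 (iv F285352)) (tt N30007 F283145) (tt N31069 D63839) (tt N30464 F283146))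
theorem Q30609 : ∀ i, i < 30609 → P i := stepQ 30608 Q30608 (allL N30608 (tt N31068 (iv F285366)) (tt N29988 F283147) (tt N31069 (iv F285374)) (tt N30024 F283148) (tt N30155 F283149) (tt N30983 (iv F284786)) (tt N30437 F283150) (tt N30008 F283151) (tt N29987 (iv D63378)) (tt N30129 (iv F283152)))
theorem Q30610 : ∀ i, i < 30610 → P i := stepQ 30609 Q30609 (allL N30609 (tt N29990 F283153) (tt N29991 F283154) (tt N30057 F283155) (tt N31012 (iv F284983)) (tt N29989 (iv D63379)) (tt N31040 (iv F285176)) (tt N30020 F283156) (tt N30121 F283157) (tt N30361 F283158) (tt N30051 F283159))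
theorem Q30611 : ∀ i, i < 30611 → P i := stepQ 30610 Q30610 (allL N30610 (tt N29992 F283160) (tt N31012 (iv F284981)) (tt N30984 (iv F284792)) (tt N29991 (iv D63380)) (tt N30272 F283161) (tt N31062 (iv F285332)) (tt N30411 F283162) (tt N31027 (iv F285090)) (tt N31070 D63840) (tt N30407 F283163))
theorem Q30612 : ∀ i, i < 30612 → P i := stepQ 30611 Q30611 (allL N30611 (tt N29993 F283164) (tt N31040 (iv F285172)) (tt N30004 F283165) (tt N31062 (iv F285331)) (tt N31018 (iv F285030)) (tt N29991 (iv D63381)) (tt N30500 F283166) (tt N31051 (iv F285258)) (tt N31029 (iv F285105)) (tt N30408 F283167))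
theorem Q30613 : ∀ i, i < 30613 → P i := stepQ 30612 Q30612 (allL N30612 (tt N31070 (iv F285380)) (tt N29994 F283168) (tt N30289 F283169) (tt N31032 (iv F285120)) (tt N30275 F283170) (tt N31056 (iv F285291)) (tt N30271 F283171) (tt N30387 F283172) (tt N29992 (iv D63382)) (tt N30992 (iv F284853)))
theorem Q30614 : ∀ i, i < 30614 → P i := stepQ 30613 Q30613 (allL N30613 (tt N29996 F283173) (tt N30426 F283174) (tt N31071 D63841) (tt N29995 (iv D63383)) (tt N30029 F283175) (tt N31072 D63842) (tt N30412 F283176) (tt N31052 (iv F285265)) (tt N30988 (iv F284826)) (tt N30393 F283177))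
theorem Q30615 : ∀ i, i < 30615 → P i := stepQ 30614 Q30614 (allL N30614 (tt N29997 F283178) (tt N30383 F283179) (tt N31029 (iv F285101)) (tt N31072 (iv F285391)) (tt N30254 F283180) (tt N29995 (iv D63384)) (tt N31041 (iv F285185)) (tt N31053 (iv F285272)) (tt N30004 F283181) (tt N30253 F283182))
theorem Q30616 : ∀ i, i < 30616 → P i := stepQ 30615 Q30615 (allL N30615 (tt N31071 (iv F285385)) (tt N30615 F283183) (tt N29996 (iv D63385)) (tt N31030 (iv F285108)) (tt N30031 F283184) (tt N31073 D63843) (tt N30413 F283185) (tt N31054 (iv F285279)) (tt N30990 (iv F284840)) (tt N30394 F283186))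
theorem Q30617 : ∀ i, i < 30617 → P i := stepQ 30616 Q30616 (allL N30616 (tt N31072 (iv F285389)) (tt N29998 F283187) (tt N31073 (iv F285394)) (tt N29997 F283188) (tt N31074 D63844) (tt N29996 (iv D63386)) (tt N31039 (iv F285169)) (tt N31055 (iv F285285)) (tt N30991 (iv F284845)) (tt N30252 F283189))
theorem Q30618 : ∀ i, i < 30618 → P i := stepQ 30617 Q30617 (allL N30617 (tt N30188 F283190) (tt N31074 (iv F285396)) (tt N30617 F283191) (tt N30112 F283192) (tt N29998 (iv D63387)) (tt N30033 F283193) (tt N30048 F283194) (tt N30180 F283195) (tt N30993 (iv F284859)) (tt N30044 F283196))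
theorem Q30619 : ∀ i, i < 30619 → P i := stepQ 30618 Q30618 (allL N30618 (tt N30000 F283197) (tt N30447 F283198) (tt N31075 D63845) (tt N29999 (iv D63388)) (tt N30006 F283199) (tt N31076 D63846) (tt N30479 F283200) (tt N31057 (iv F285299)) (tt N31077 D63847) (tt N30409 F283201))
theorem Q30620 : ∀ i, i < 30620 → P i := stepQ 30619 Q30619 (allL N30619 (tt N30001 F283202) (tt N30319 F283203) (tt N31018 (iv F285029)) (tt N31076 (iv F285408)) (tt N30004 F283204) (tt N29999 (iv D63389)) (tt N31026 (iv F285082)) (tt N31058 (iv F285306)) (tt N30254 F283205) (tt N30235 F283206))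
theorem Q30621 : ∀ i, i < 30621 → P i := stepQ 30620 Q30620 (allL N30620 (tt N31075 (iv F285402)) (tt N30620 F283207) (tt N30000 (iv D63390)) (tt N31019 (iv F285036)) (tt N30007 F283208) (tt N31078 D63848) (tt N30480 F283209) (tt N31059 (iv F285313)) (tt N31079 D63849) (tt N30410 F283210))
theorem Q30622 : ∀ i, i < 30622 → P i := stepQ 30621 Q30621 (allL N30621 (tt N31076 (iv F285406)) (tt N30002 F283211) (tt N31078 (iv F285418)) (tt N30001 F283212) (tt N30998 (iv F284891)) (tt N30000 (iv D63391)) (tt N31007 (iv F284945)) (tt N31060 (iv F285319)) (tt N31080 D63850) (tt N30226 F283213))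
theorem Q30623 : ∀ i, i < 30623 → P i := stepQ 30622 Q30622 (allL N30622 (tt N31077 (iv F285410)) (tt N30003 F283214) (tt N31079 (iv F285421)) (tt N30147 F283215) (tt N30008 F283216) (tt N31080 (iv F285429)) (tt N30228 F283217) (tt N30155 F283218) (tt N30000 (iv D63392)) (tt N30149 F283219))
theorem Q30624 : ∀ i, i < 30624 → P i := stepQ 30623 Q30623 (allL N30623 (tt N30145 F283220) (tt N31080 (iv F285427)) (tt N30623 F283221) (tt N30106 F283222) (tt N31002 (iv F284917)) (tt N30003 F283223) (tt N30400 F283224) (tt N30157 F283225) (tt N30002 (iv D63393)) (tt N30097 F283226))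
theorem Q30625 : ∀ i, i < 30625 → P i := stepQ 30624 Q30624 (allL N30624 (tt N30005 F283227) (tt N30342 F283228) (tt N30500 F283229) (tt N31003 (iv F284924)) (tt N31026 (iv F285080)) (tt N30242 F283230) (tt N30004 (iv D63394)) (tt N30985 (iv F284802)) (tt N31041 (iv F285187)) (tt N30385 F283231))
theorem Q30626 : ∀ i, i < 30626 → P i := stepQ 30625 Q30625 (allL N30625 (tt N30007 F283232) (tt N31081 D63851) (tt N30006 (iv D63395)) (tt N30295 F283233) (tt N31075 (iv F285403)) (tt N31004 (iv F284929)) (tt N30481 F283234) (tt N31067 (iv F285364)) (tt N31082 D63852) (tt N30496 F283235))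
theorem Q30627 : ∀ i, i < 30627 → P i := stepQ 30626 Q30626 (allL N30626 (tt N30008 F283236) (tt N30424 F283237) (tt N31082 (iv F285438)) (tt N30035 F283238) (tt N31077 (iv F285413)) (tt N31005 (iv F284935)) (tt N30356 F283239) (tt N31068 (iv F285371)) (tt N30006 (iv D63396)) (tt N31083 D63853))
theorem Q30628 : ∀ i, i < 30628 → P i := stepQ 30627 Q30627 (allL N30627 (tt N31082 (iv F285437)) (tt N30627 F283240) (tt N30008 F283241) (tt N30368 (iv F283243)) (tt N31079 (iv F285422)) (tt N31006 (iv F284940)) (tt N30357 F283242) (tt N31069 (iv F285377)) (tt N30007 (iv D63397)) (tt N31084 D63854))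
theorem Q30629 : ∀ i, i < 30629 → P i := stepQ 30628 Q30628 (allL N30628 (tt N31083 (iv F285441)) (tt N30009 F283244) (tt N31084 (iv F285449)) (tt N30036 F283245) (tt N30149 F283246) (tt N31007 (iv F284944)) (tt N30237 F283247) (tt N30129 F283248) (tt N30457 F283249) (tt N30008 (iv D63398)))
theorem Q30630 : ∀ i, i < 30630 → P i := stepQ 30629 Q30629 (allL N30629 (tt N30011 F283250) (tt N30177 F283251) (tt N30299 F283252) (tt N31085 D63855) (tt N30010 (iv D63399)) (tt N31086 D63856) (tt N30014 F283253) (tt N30257 F283254) (tt N30304 F283255) (tt N30040 F283256))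
theorem Q30631 : ∀ i, i < 30631 → P i := stepQ 30630 Q30630 (allL N30630 (tt N31085 (iv F285455)) (tt N30012 F283257) (tt N31087 D63857) (tt N30011 (iv D63400)) (tt N30248 F283258) (tt N31088 D63858) (tt N30015 F283259) (tt N30258 F283260) (tt N31089 D63859) (tt N30041 F283261))
theorem Q30632 : ∀ i, i < 30632 → P i := stepQ 30631 Q30631 (allL N30631 (tt N31086 (iv F285461)) (tt N30013 F283262) (tt N30164 F283263) (tt N31088 (iv F285476)) (tt N30022 F283264) (tt N30011 (iv D63401)) (tt N30156 F283265) (tt N30199 F283266) (tt N30192 F283267) (tt N30042 F283268))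
theorem Q30633 : ∀ i, i < 30633 → P i := stepQ 30632 Q30632 (allL N30632 (tt N30180 F283269) (tt N31088 (iv F285475)) (tt N30632 F283270) (tt N30013 F283271) (tt N30338 F283272) (tt N30012 (iv D63402)) (tt N30157 F283273) (tt N30188 F283274) (tt N31021 (iv F285054)) (tt N30043 F283275))
theorem Q30634 : ∀ i, i < 30634 → P i := stepQ 30633 Q30633 (allL N30633 (tt N30181 F283276) (tt N31089 (iv F285481)) (tt N30633 F283277) (tt N30276 F283278) (tt N30249 F283279) (tt N31021 (iv F285051)) (tt N30016 F283280) (tt N30259 F283281) (tt N30012 (iv D63403)) (tt N30993 (iv F284860)))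
theorem Q30635 : ∀ i, i < 30635 → P i := stepQ 30634 Q30634 (allL N30634 (tt N30015 F283282) (tt N30981 (iv F284770)) (tt N31090 D63860) (tt N30014 (iv D63404)) (tt N31028 (iv F285095)) (tt N30465 F283283) (tt N31085 (iv F285458)) (tt N30291 F283284) (tt N31091 D63861) (tt N30045 F283285))
theorem Q30636 : ∀ i, i < 30636 → P i := stepQ 30635 Q30635 (allL N30635 (tt N31090 (iv F285486)) (tt N30635 F283286) (tt N30015 (iv D63405)) (tt N30302 F283287) (tt N31030 (iv F285109)) (tt N30466 F283288) (tt N31087 (iv F285472)) (tt N30292 F283289) (tt N31092 D63862) (tt N30046 F283290))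
theorem Q30637 : ∀ i, i < 30637 → P i := stepQ 30636 Q30636 (allL N30636 (tt N31091 (iv F285491)) (tt N30016 F283291) (tt N31092 (iv F285496)) (tt N30315 F283292) (tt N31032 (iv F285121)) (tt N30419 F283293) (tt N31089 (iv F285484)) (tt N30293 F283294) (tt N30015 (iv D63406)) (tt N31093 D63863))
theorem Q30638 : ∀ i, i < 30638 → P i := stepQ 30637 Q30637 (allL N30637 (tt N30131 F283295) (tt N31093 (iv F285500)) (tt N30637 F283296) (tt N30085 F283297) (tt N30994 (iv F284865)) (tt N30084 F283298) (tt N30993 F284861) (tt N30294 F283299) (tt N30048 F283300) (tt N30016 (iv D63407)))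
theorem Q30639 : ∀ i, i < 30639 → P i := stepQ 30638 Q30638 (allL N30638 (tt N30019 F283301) (tt N30492 F283302) (tt N31094 D63864) (tt N30018 (iv D63408)) (tt N31052 (iv F285263)) (tt N30370 F283303) (tt N31017 (iv F285023)) (tt N30029 F283304) (tt N31008 (iv F284953)) (tt N30375 F283305))
theorem Q30640 : ∀ i, i < 30640 → P i := stepQ 30639 Q30639 (allL N30639 (tt N31094 (iv F285505)) (tt N30639 F283306) (tt N30019 (iv D63409)) (tt N30480 F283307) (tt N31054 (iv F285277)) (tt N30371 F283308) (tt N31019 (iv F285038)) (tt N30031 F283309) (tt N31010 (iv F284970)) (tt N30377 F283310))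
theorem Q30641 : ∀ i, i < 30641 → P i := stepQ 30640 Q30640 (allL N30640 (tt N30022 F283311) (tt N30190 F283312) (tt N30307 F283313) (tt N30355 F283314) (tt N31086 (iv F285464)) (tt N30021 (iv D63410)) (tt N31014 (iv F285001)) (tt N30200 F283315) (tt N31064 (iv F285347)) (tt N30053 F283316))
theorem Q30642 : ∀ i, i < 30642 → P i := stepQ 30641 Q30641 (allL N30641 (tt N30024 F283317) (tt N30418 F283318) (tt N30358 F283319) (tt N31068 (iv F285368)) (tt N30127 F283320) (tt N31016 (iv F285017)) (tt N30436 F283321) (tt N30035 F283322) (tt N30023 (iv D63411)) (tt N30128 F283323))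
theorem Q30643 : ∀ i, i < 30643 → P i := stepQ 30642 Q30642 (allL N30642 (tt N30026 F283324) (tt N30356 F283325) (tt N31095 D63865) (tt N30025 (iv D63412)) (tt N30301 F283326) (tt N30445 F283327) (tt N30424 F283328) (tt N30479 F283329) (tt N30475 F283330) (tt N30325 F283331))
theorem Q30644 : ∀ i, i < 30644 → P i := stepQ 30643 Q30643 (allL N30643 (tt N31095 (iv F285510)) (tt N30643 F283332) (tt N30026 (iv D63413)) (tt N30031 F283333) (tt N30302 F283334) (tt N30446 F283335) (tt N30425 F283336) (tt N30480 F283337) (tt N30476 F283338) (tt N30327 F283339))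
theorem Q30645 : ∀ i, i < 30645 → P i := stepQ 30644 Q30644 (allL N30644 (tt N30028 F283340) (tt N30412 F283341) (tt N31096 D63866) (tt N30027 (iv D63414)) (tt N30393 F283342) (tt N30335 F283343) (tt N30426 F283344) (tt N30375 F283345) (tt N30422 F283346) (tt N30029 F283347))
theorem Q30646 : ∀ i, i < 30646 → P i := stepQ 30645 Q30645 (allL N30645 (tt N31096 (iv F285518)) (tt N30645 F283348) (tt N30028 (iv D63415)) (tt N30327 F283349) (tt N30394 F283350) (tt N30336 F283351) (tt N30427 F283352) (tt N30377 F283353) (tt N30423 F283354) (tt N30031 F283355))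
theorem Q30647 : ∀ i, i < 30647 → P i := stepQ 30646 Q30646 (allL N30646 (tt N30031 F283356) (tt N31097 D63867) (tt N30029 (iv D63416)) (tt N31095 (iv F285511)) (tt N31071 (iv F285386)) (tt N31098 D63868) (tt N30428 F283357) (tt N31094 (iv F285508)) (tt N31022 (iv F285059)) (tt N31096 (iv F285525)))
theorem Q30648 : ∀ i, i < 30648 → P i := stepQ 30647 Q30647 (allL N30647 (tt N30032 F283358) (tt N30482 F283359) (tt N31098 (iv F285529)) (tt N30030 F283360) (tt N31099 D63869) (tt N30029 (iv D63417)) (tt N30443 (iv F283363)) (tt N30370 F283361) (tt N31023 (iv F285065)) (tt N30335 F283362))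
theorem Q30649 : ∀ i, i < 30649 → P i := stepQ 30648 Q30648 (allL N30648 (tt N31098 (iv F285528)) (tt N30648 F283364) (tt N30032 F283365) (tt N30446 F283366) (tt N31100 D63870) (tt N30031 (iv D63418)) (tt N30444 (iv F283369)) (tt N30371 F283367) (tt N31024 (iv F285071)) (tt N30336 F283368))
theorem Q30650 : ∀ i, i < 30650 → P i := stepQ 30649 Q30649 (allL N30649 (tt N31099 (iv F285534)) (tt N30033 F283370) (tt N31100 (iv F285541)) (tt N30166 F283371) (tt N30032 (iv D63419)) (tt N31074 (iv F285398)) (tt N30214 F283372) (tt N30178 F283373) (tt N31025 (iv F285076)) (tt N30168 F283374))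
theorem Q30651 : ∀ i, i < 30651 → P i := stepQ 30650 Q30650 (allL N30650 (tt N30036 F283375) (tt N30323 F283376) (tt N30361 F283377) (tt N31083 (iv F285443)) (tt N30115 F283378) (tt N31026 (iv F285081)) (tt N30236 F283379) (tt N30128 F283380) (tt N30057 F283381) (tt N30035 (iv D63420)))
theorem Q30652 : ∀ i, i < 30652 → P i := stepQ 30651 Q30651 (allL N30651 (tt N30038 F283382) (tt N30167 F283383) (tt N30099 F283384) (tt N31101 D63871) (tt N30037 (iv D63421)) (tt N30198 F283385) (tt N30119 F283386) (tt N30040 F283387) (tt N30098 F283388) (tt N30257 F283389))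
theorem Q30653 : ∀ i, i < 30653 → P i := stepQ 30652 Q30652 (allL N30652 (tt N31101 (iv F285546)) (tt N30039 F283390) (tt N31102 D63872) (tt N30038 (iv D63422)) (tt N30241 F283391) (tt N30186 F283392) (tt N30120 F283393) (tt N30041 F283394) (tt N30185 F283395) (tt N30258 F283396))
theorem Q30654 : ∀ i, i < 30654 → P i := stepQ 30653 Q30653 (allL N30653 (tt N30041 F283397) (tt N30182 F283398) (tt N31103 D63873) (tt N30040 (iv D63423)) (tt N30250 F283399) (tt N31104 D63874) (tt N30045 F283400) (tt N31101 (iv F285551)) (tt N31105 D63875) (tt N31085 (iv F285460)))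
theorem Q30655 : ∀ i, i < 30655 → P i := stepQ 30654 Q30654 (allL N30654 (tt N30042 F283401) (tt N30183 F283402) (tt N30163 F283403) (tt N31104 (iv F285568)) (tt N30053 F283404) (tt N30040 (iv D63424)) (tt N30159 F283405) (tt N30198 F283406) (tt N30110 F283407) (tt N31086 (iv F285468)))
theorem Q30656 : ∀ i, i < 30656 → P i := stepQ 30655 Q30655 (allL N30655 (tt N31103 (iv F285562)) (tt N30655 F283408) (tt N30041 (iv D63425)) (tt N30329 F283409) (tt N30251 F283410) (tt N31106 D63876) (tt N30046 F283411) (tt N31102 (iv F285559)) (tt N31107 D63877) (tt N31087 (iv F285474)))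
theorem Q30657 : ∀ i, i < 30657 → P i := stepQ 30656 Q30656 (allL N30656 (tt N31104 (iv F285566)) (tt N30043 F283412) (tt N31106 (iv F285581)) (tt N30042 F283413) (tt N30337 F283414) (tt N30041 (iv D63426)) (tt N30161 F283415) (tt N30186 F283416) (tt N30168 (iv F283417)) (tt N31088 (iv F285480)))
theorem Q30658 : ∀ i, i < 30658 → P i := stepQ 30657 Q30657 (allL N30657 (tt N31105 (iv F285573)) (tt N30044 F283418) (tt N31107 (iv F285588)) (tt N30111 F283419) (tt N30252 F283420) (tt N30168 F283421) (tt N30047 F283422) (tt N30185 F283423) (tt N30041 (iv D63427)) (tt N31074 (iv F285401)))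
theorem Q30659 : ∀ i, i < 30659 → P i := stepQ 30658 Q30658 (allL N30658 (tt N30046 F283424) (tt N31108 D63878) (tt N30045 (iv D63428)) (tt N30330 F283425) (tt N31034 (iv F285134)) (tt N30467 F283426) (tt N31103 (iv F285565)) (tt N30432 F283427) (tt N31109 D63879) (tt N31090 (iv F285490)))
theorem Q30660 : ∀ i, i < 30660 → P i := stepQ 30659 Q30659 (allL N30659 (tt N30047 F283428) (tt N31048 (iv F285234)) (tt N31109 (iv F285599)) (tt N30454 F283429) (tt N31036 (iv F285147)) (tt N30453 F283430) (tt N31105 (iv F285578)) (tt N30433 F283431) (tt N30045 (iv D63429)) (tt N31110 D63880))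
theorem Q30661 : ∀ i, i < 30661 → P i := stepQ 30660 Q30660 (allL N30660 (tt N31109 (iv F285598)) (tt N30660 F283432) (tt N30047 F283433) (tt N31111 D63881) (tt N31038 (iv F285161)) (tt N30455 F283434) (tt N31107 (iv F285592)) (tt N30434 F283435) (tt N30046 (iv D63430)) (tt N31112 D63882))
theorem Q30662 : ∀ i, i < 30662 → P i := stepQ 30661 Q30661 (allL N30661 (tt N31110 (iv F285602)) (tt N30048 F283436) (tt N31112 (iv F285613)) (tt N30452 F283437) (tt N31039 (iv F285167)) (tt N30451 F283438) (tt N31074 (iv F285399)) (tt N30435 F283439) (tt N31093 (iv F285504)) (tt N30047 (iv D63431)))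
theorem Q30663 : ∀ i, i < 30663 → P i := stepQ 30662 Q30662 (allL N30662 (tt N30061 F283440) (tt N30450 F283441) (tt N30177 F283442) (tt N31113 D63883) (tt N30060 (iv D63432)) (tt N31114 D63884) (tt N30201 F283443) (tt N30456 F283444) (tt N30068 F283445) (tt N30170 F283446))
theorem Q30664 : ∀ i, i < 30664 → P i := stepQ 30663 Q30663 (allL N30663 (tt N31113 (iv F285616)) (tt N30062 F283447) (tt N31115 D63885) (tt N30061 (iv D63433)) (tt N30074 F283448) (tt N31050 (iv F285250)) (tt N30202 F283449) (tt N30457 F283450) (tt N30129 F283451) (tt N30171 F283452))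
theorem Q30665 : ∀ i, i < 30665 → P i := stepQ 30664 Q30664 (allL N30664 (tt N31114 (iv F285623)) (tt N30063 F283453) (tt N30179 F283454) (tt N31050 (iv F285248)) (tt N30174 F283455) (tt N30061 (iv D63434)) (tt N30199 F283456) (tt N30458 F283457) (tt N30069 F283458) (tt N30172 F283459))
theorem Q30666 : ∀ i, i < 30666 → P i := stepQ 30665 Q30665 (allL N30665 (tt N30065 F283460) (tt N30456 F283461) (tt N30154 F283462) (tt N31116 D63886) (tt N30064 (iv D63435)) (tt N31117 D63887) (tt N30206 F283463) (tt N30450 F283464) (tt N30173 F283465) (tt N30150 F283466))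
theorem Q30667 : ∀ i, i < 30667 → P i := stepQ 30666 Q30666 (allL N30666 (tt N31116 (iv F285638)) (tt N30066 F283467) (tt N31118 D63888) (tt N30065 (iv D63436)) (tt N30071 F283468) (tt N30435 (iv F283473)) (tt N30207 F283469) (tt N30451 F283470) (tt N30324 F283471) (tt N30151 F283472))
theorem Q30668 : ∀ i, i < 30668 → P i := stepQ 30667 Q30667 (allL N30667 (tt N31117 (iv F285646)) (tt N30067 F283474) (tt N30156 F283475) (tt N30435 F283476) (tt N30069 F283477) (tt N30065 (iv D63437)) (tt N30164 F283478) (tt N30452 F283479) (tt N30174 F283480) (tt N30152 F283481))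
theorem Q30669 : ∀ i, i < 30669 → P i := stepQ 30668 Q30668 (allL N30668 (tt N30069 F283482) (tt N30462 F283483) (tt N31014 (iv F284998)) (tt N30139 F283484) (tt N31117 (iv F285650)) (tt N30068 (iv D63438)) (tt N30307 F283485) (tt N30980 (iv F284767)) (tt N31114 (iv F285629)) (tt N30203 F283486))
theorem Q30670 : ∀ i, i < 30670 → P i := stepQ 30669 Q30669 (allL N30669 (tt N30071 F283487) (tt N30470 F283488) (tt N31119 D63889) (tt N30070 (iv D63439)) (tt N31116 (iv F285640)) (tt N30142 F283489) (tt N30331 F283490) (tt N31042 (iv F285193)) (tt N30328 F283491) (tt N30204 F283492))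
theorem Q30671 : ∀ i, i < 30671 → P i := stepQ 30670 Q30670 (allL N30670 (tt N31119 (iv F285663)) (tt N30670 F283493) (tt N30071 (iv D63440)) (tt N30398 F283494) (tt N31118 (iv F285657)) (tt N30143 F283495) (tt N30332 F283496) (tt N31043 (iv F285201)) (tt N30329 F283497) (tt N30205 F283498))
theorem Q30672 : ∀ i, i < 30672 → P i := stepQ 30671 Q30671 (allL N30671 (tt N30074 F283499) (tt N31042 (iv F285189)) (tt N31120 D63890) (tt N30073 (iv D63441)) (tt N31113 (iv F285618)) (tt N31121 D63891) (tt N30453 F283500) (tt N30470 F283501) (tt N30158 F283502) (tt N30473 F283503))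
theorem Q30673 : ∀ i, i < 30673 → P i := stepQ 30672 Q30672 (allL N30672 (tt N30075 F283504) (tt N30119 F283505) (tt N30081 F283506) (tt N31121 (iv F285679)) (tt N30080 F283507) (tt N30073 (iv D63442)) (tt N30167 (iv F283511)) (tt N30095 F283508) (tt N30077 F283509) (tt N30213 F283510))
theorem Q30674 : ∀ i, i < 30674 → P i := stepQ 30673 Q30673 (allL N30673 (tt N31120 (iv F285669)) (tt N30673 F283512) (tt N30074 (iv D63443)) (tt N30239 F283513) (tt N31115 (iv F285633)) (tt N30499 (iv F283518)) (tt N30455 F283514) (tt N30471 F283515) (tt N30160 F283516) (tt N30474 F283517))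
theorem Q30675 : ∀ i, i < 30675 → P i := stepQ 30674 Q30674 (allL N30674 (tt N31121 (iv F285676)) (tt N30076 F283519) (tt N30499 F283520) (tt N30075 F283521) (tt N30334 F283526) (tt N30074 (iv D63444)) (tt N30168 F283522) (tt N30096 F283523) (tt N30161 F283524) (tt N30214 F283525))
theorem Q30676 : ∀ i, i < 30676 → P i := stepQ 30675 Q30675 (allL N30675 (tt N30083 F283527) (tt N30128 F283528) (tt N30420 F283529) (tt N31122 D63892) (tt N30082 (iv D63445)) (tt N31123 D63893) (tt N30402 F283530) (tt N30323 F283531) (tt N30092 F283532) (tt N30418 F283533))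
theorem Q30677 : ∀ i, i < 30677 → P i := stepQ 30676 Q30676 (allL N30676 (tt N31122 (iv F285685)) (tt N30084 F283534) (tt N31124 D63894) (tt N30083 (iv D63446)) (tt N30100 F283535) (tt N31093 (iv F285502)) (tt N30403 F283536) (tt N30324 F283537) (tt N30451 F283538) (tt N30419 F283539))
theorem Q30678 : ∀ i, i < 30678 → P i := stepQ 30677 Q30677 (allL N30677 (tt N31123 (iv F285692)) (tt N30085 F283540) (tt N30348 F283541) (tt N31093 (iv F285501)) (tt N30340 F283542) (tt N30083 (iv D63447)) (tt N31125 D63895) (tt N30317 F283543) (tt N30093 F283544) (tt N30315 F283545))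
theorem Q30679 : ∀ i, i < 30679 → P i := stepQ 30678 Q30678 (allL N30678 (tt N30132 F283546) (tt N31125 (iv F285706)) (tt N30086 F283547) (tt N30993 (iv F284856)) (tt N30124 F283548) (tt N30232 F283549) (tt N30085 (iv D63448)) (tt N30310 F283550) (tt N30094 F283551) (tt N30276 F283552))
theorem Q30680 : ∀ i, i < 30680 → P i := stepQ 30679 Q30679 (allL N30679 (tt N30088 F283553) (tt N30133 F283554) (tt N30436 F283555) (tt N31126 D63896) (tt N30087 (iv D63449)) (tt N31127 D63897) (tt N30358 F283556) (tt N30333 F283557) (tt N30339 F283558) (tt N30216 F283559))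
theorem Q30681 : ∀ i, i < 30681 → P i := stepQ 30680 Q30680 (allL N30680 (tt N31126 (iv F285713)) (tt N30089 F283560) (tt N31128 D63898) (tt N30088 (iv D63450)) (tt N30096 F283561) (tt N31129 D63899) (tt N30359 F283562) (tt N30334 F283563) (tt N31130 D63900) (tt N30217 F283564))
theorem Q30682 : ∀ i, i < 30682 → P i := stepQ 30681 Q30681 (allL N30681 (tt N31127 (iv F285719)) (tt N30090 F283565) (tt N30313 F283566) (tt N31129 (iv F285733)) (tt N30093 F283567) (tt N30088 (iv D63451)) (tt N31131 D63901) (tt N30321 F283568) (tt N30340 F283569) (tt N30218 F283570))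
theorem Q30683 : ∀ i, i < 30683 → P i := stepQ 30682 Q30682 (allL N30682 (tt N30136 F283571) (tt N31129 (iv F285732)) (tt N30682 F283572) (tt N30090 F283573) (tt N30400 F283574) (tt N30089 (iv D63452)) (tt N31002 (iv F284919)) (tt N30322 F283575) (tt N31001 F284913) (tt N30219 F283576))
theorem Q30684 : ∀ i, i < 30684 → P i := stepQ 30683 Q30683 (allL N30683 (tt N30137 F283577) (tt N31130 (iv F285737)) (tt N30683 F283578) (tt N30221 F283579) (tt N30097 F283580) (tt N31001 (iv F284910)) (tt N30219 F283581) (tt N30162 F283582) (tt N30089 (iv D63453)) (tt N31002 (iv F284921)))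
theorem Q30685 : ∀ i, i < 30685 → P i := stepQ 30684 Q30684 (allL N30684 (tt N30138 F283583) (tt N31131 (iv F285742)) (tt N30091 F283584) (tt N31002 (iv F284916)) (tt N30094 F283585) (tt N30125 F283586) (tt N30090 (iv D63454)) (tt N30346 F283587) (tt N30124 F283588) (tt N30221 F283589))
theorem Q30686 : ∀ i, i < 30686 → P i := stepQ 30685 Q30685 (allL N30685 (tt N30093 F283590) (tt N30139 F283591) (tt N30440 F283592) (tt N30462 F283593) (tt N31127 (iv F285722)) (tt N30092 (iv D63455)) (tt N31132 D63902) (tt N30384 F283594) (tt N31123 (iv F285697)) (tt N30222 F283595))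
theorem Q30687 : ∀ i, i < 30687 → P i := stepQ 30686 Q30686 (allL N30686 (tt N31132 (iv F285749)) (tt N30094 F283596) (tt N30441 F283597) (tt N30231 F283598) (tt N31131 (iv F285744)) (tt N30230 F283599) (tt N30093 (iv D63456)) (tt N30352 F283600) (tt N31125 (iv F285711)) (tt N30223 F283601))
theorem Q30688 : ∀ i, i < 30688 → P i := stepQ 30687 Q30687 (allL N30687 (tt N30096 F283602) (tt N30142 F283603) (tt N31133 D63903) (tt N30095 (iv D63457)) (tt N31126 (iv F285715)) (tt N30470 F283604) (tt N30397 F283605) (tt N31121 (iv F285681)) (tt N31134 D63904) (tt N30224 F283606))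
theorem Q30689 : ∀ i, i < 30689 → P i := stepQ 30688 Q30688 (allL N30688 (tt N31133 (iv F285756)) (tt N30688 F283607) (tt N30096 (iv D63458)) (tt N30332 F283608) (tt N31128 (iv F285728)) (tt N30471 F283609) (tt N30398 F283610) (tt N30499 F283611) (tt N31111 (iv F285611)) (tt N30225 F283612))
theorem Q30690 : ∀ i, i < 30690 → P i := stepQ 30689 Q30689 (allL N30689 (tt N31134 (iv F285762)) (tt N30097 F283613) (tt N31111 (iv F285607)) (tt N30105 F283614) (tt N31130 (iv F285739)) (tt N30149 F283615) (tt N30399 F283616) (tt N30161 F283617) (tt N30096 (iv D63459)) (tt N31080 (iv F285432)))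
theorem Q30691 : ∀ i, i < 30691 → P i := stepQ 30690 Q30690 (allL N30690 (tt N30100 F283618) (tt N30158 F283619) (tt N31135 D63905) (tt N30099 (iv D63460)) (tt N31122 (iv F285687)) (tt N31136 D63906) (tt N30463 F283620) (tt N30328 F283621) (tt N31042 (iv F285194)) (tt N31063 (iv F285340)))
theorem Q30692 : ∀ i, i < 30692 → P i := stepQ 30691 Q30691 (allL N30691 (tt N30101 F283622) (tt N30159 F283623) (tt N30198 F283624) (tt N31136 (iv F285773)) (tt N30194 F283625) (tt N30099 (iv D63461)) (tt N30183 F283626) (tt N30163 F283627) (tt N30103 F283628) (tt N31064 (iv F285348)))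
theorem Q30693 : ∀ i, i < 30693 → P i := stepQ 30692 Q30692 (allL N30692 (tt N31135 (iv F285768)) (tt N30692 F283629) (tt N30100 (iv D63462)) (tt N31102 (iv F285555)) (tt N31124 (iv F285701)) (tt N31137 D63907) (tt N30464 F283630) (tt N30329 F283631) (tt N31043 (iv F285202)) (tt N31065 (iv F285355)))
theorem Q30694 : ∀ i, i < 30694 → P i := stepQ 30693 Q30693 (allL N30693 (tt N31136 (iv F285771)) (tt N30102 F283632) (tt N31137 (iv F285778)) (tt N30101 F283633) (tt N31138 D63908) (tt N30100 (iv D63463)) (tt N30185 F283634) (tt N30144 F283635) (tt N30120 F283636) (tt N31066 (iv F285361)))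
theorem Q30695 : ∀ i, i < 30695 → P i := stepQ 30694 Q30694 (allL N30694 (tt N30162 F283637) (tt N31138 (iv F285783)) (tt N30694 F283638) (tt N30197 F283639) (tt N30102 (iv D63464)) (tt N30994 (iv F284866)) (tt N30187 F283640) (tt N30137 F283641) (tt N30118 F283642) (tt N31033 (iv F285131)))
theorem Q30696 : ∀ i, i < 30696 → P i := stepQ 30695 Q30695 (allL N30695 (tt N30105 F283643) (tt N30163 F283644) (tt N30454 F283645) (tt N31134 (iv F285764)) (tt N30246 F283646) (tt N30148 F283647) (tt N30460 F283648) (tt N30159 F283649) (tt N30104 (iv D63465)) (tt N31139 D63909))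
theorem Q30697 : ∀ i, i < 30697 → P i := stepQ 30696 Q30696 (allL N30696 (tt N31139 (iv F285788)) (tt N30106 F283650) (tt N30452 F283651) (tt N31080 (iv F285428)) (tt N30231 F283652) (tt N30147 F283653) (tt N30458 F283654) (tt N30156 F283655) (tt N30114 F283656) (tt N30105 (iv D63466)))
theorem Q30698 : ∀ i, i < 30698 → P i := stepQ 30697 Q30697 (allL N30697 (tt N30111 F283657) (tt N30198 F283658) (tt N30460 F283659) (tt N31105 (iv F285575)) (tt N30113 F283660) (tt N30167 F283661) (tt N30454 F283662) (tt N30183 F283663) (tt N30109 (iv D63467)) (tt N31140 D63910))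
theorem Q30699 : ∀ i, i < 30699 → P i := stepQ 30698 Q30698 (allL N30698 (tt N31140 (iv F285796)) (tt N30112 F283664) (tt N30458 F283665) (tt N31074 (iv F285397)) (tt N30114 F283666) (tt N30166 F283667) (tt N30452 F283668) (tt N30179 F283669) (tt N30231 F283670) (tt N30111 (iv D63468)))
theorem Q30700 : ∀ i, i < 30700 → P i := stepQ 30699 Q30699 (allL N30699 (tt N30114 F283671) (tt N30200 F283672) (tt N30462 F283673) (tt N30254 F283674) (tt N31140 (iv F285799)) (tt N30169 F283675) (tt N30980 (iv F284766)) (tt N30190 F283676) (tt N31139 (iv F285795)) (tt N30113 (iv D63469)))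
theorem Q30701 : ∀ i, i < 30701 → P i := stepQ 30700 Q30700 (allL N30700 (tt N30117 F283677) (tt N30333 F283678) (tt N30488 F283679) (tt N31141 D63911) (tt N30116 (iv D63470)) (tt N31041 (iv F285184)) (tt N30240 F283680) (tt N30133 F283681) (tt N30242 F283682) (tt N30255 F283683))
theorem Q30702 : ∀ i, i < 30702 → P i := stepQ 30701 Q30701 (allL N30701 (tt N31141 (iv F285804)) (tt N30118 F283684) (tt N31142 D63912) (tt N30117 (iv D63471)) (tt N30120 F283685) (tt N31039 (iv F285168)) (tt N30241 F283686) (tt N30134 F283687) (tt N31138 (iv F285787)) (tt N30256 F283688))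
theorem Q30703 : ∀ i, i < 30703 → P i := stepQ 30702 Q30702 (allL N30702 (tt N30120 F283689) (tt N31121 (iv F285677)) (tt N31143 D63913) (tt N30119 (iv D63472)) (tt N31141 (iv F285806)) (tt N31042 (iv F285191)) (tt N31101 (iv F285550)) (tt N30142 F283690) (tt N31136 (iv F285776)) (tt N30260 F283691))
theorem Q30704 : ∀ i, i < 30704 → P i := stepQ 30703 Q30703 (allL N30703 (tt N31143 (iv F285816)) (tt N30703 F283692) (tt N30120 (iv D63473)) (tt N30464 F283693) (tt N31142 (iv F285812)) (tt N31043 (iv F285199)) (tt N31102 (iv F285558)) (tt N30143 F283694) (tt N31137 (iv F285782)) (tt N30261 F283695))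
theorem Q30705 : ∀ i, i < 30705 → P i := stepQ 30704 Q30704 (allL N30704 (tt N30122 F283696) (tt N31027 (iv F285086)) (tt N31013 (iv F284990)) (tt N30121 (iv D63474)) (tt N30407 F283697) (tt N31144 D63914) (tt N30382 F283698) (tt N31012 (iv F284986)) (tt N31145 D63915) (tt N30272 F283699))
theorem Q30706 : ∀ i, i < 30706 → P i := stepQ 30705 Q30705 (allL N30705 (tt N30123 F283700) (tt N31051 (iv F285255)) (tt N30139 F283701) (tt N31144 (iv F285822)) (tt N30989 (iv F284831)) (tt N30121 (iv D63475)) (tt N31146 D63916) (tt N31040 F285179) (tt N30996 (iv F284881)) (tt N30273 F283702))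
theorem Q30707 : ∀ i, i < 30707 → P i := stepQ 30706 Q30706 (allL N30706 (tt N31144 (iv F285820)) (tt N30124 F283703) (tt N30352 F283704) (tt N30123 F283705) (tt N31125 (iv F285708)) (tt N30122 (iv D63476)) (tt N30340 F283706) (tt N30441 F283707) (tt N31131 (iv F285747)) (tt N30274 F283708))
theorem Q30708 : ∀ i, i < 30708 → P i := stepQ 30707 Q30707 (allL N30707 (tt N31145 (iv F285826)) (tt N30125 F283709) (tt N31015 (iv F285006)) (tt N30999 (iv F284895)) (tt N30390 F283710) (tt N31131 (iv F285745)) (tt N30360 F283711) (tt N31011 (iv F284977)) (tt N30122 (iv D63477)) (tt N31000 (iv F284905)))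
theorem Q30709 : ∀ i, i < 30709 → P i := stepQ 30708 Q30708 (allL N30708 (tt N31146 (iv F285830)) (tt N30126 F283712) (tt N30140 F283713) (tt N30340 F283714) (tt N30992 (iv F284849)) (tt N30308 F283715) (tt N30123 (iv D63478)) (tt N30343 F283716) (tt N31000 (iv F284904)) (tt N30275 F283717))
theorem Q30710 : ∀ i, i < 30710 → P i := stepQ 30709 Q30709 (allL N30709 (tt N30129 F283718) (tt N31122 (iv F285686)) (tt N31147 D63917) (tt N30128 (iv D63479)) (tt N30158 F283719) (tt N31148 D63918) (tt N30438 F283720) (tt N31083 (iv F285446)) (tt N31113 (iv F285621)) (tt N31068 F285372))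
theorem Q30711 : ∀ i, i < 30711 → P i := stepQ 30710 Q30710 (allL N30710 (tt N30130 F283721) (tt N31123 (iv F285693)) (tt N30996 (iv F284878)) (tt N31148 (iv F285840)) (tt N30985 (iv F284801)) (tt N30128 (iv D63480)) (tt N31149 D63919) (tt N31026 (iv F285083)) (tt N30139 F283722) (tt N31016 (iv F285019)))
theorem Q30712 : ∀ i, i < 30712 → P i := stepQ 30711 Q30711 (allL N30711 (tt N31147 (iv F285836)) (tt N30711 F283723) (tt N30129 (iv D63481)) (tt N30997 (iv F284884)) (tt N30160 F283724) (tt N31150 D63920) (tt N30439 F283725) (tt N31084 (iv F285453)) (tt N31115 (iv F285636)) (tt N31069 F285378))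
theorem Q30713 : ∀ i, i < 30713 → P i := stepQ 30712 Q30712 (allL N30712 (tt N31148 (iv F285839)) (tt N30131 F283726) (tt N31150 (iv F285845)) (tt N30130 F283727) (tt N31151 D63921) (tt N30129 (iv D63482)) (tt N31152 D63922) (tt N31007 (iv F284946)) (tt N31050 (iv F285253)) (tt N30983 F284789))
theorem Q30714 : ∀ i, i < 30714 → P i := stepQ 30713 Q30713 (allL N30713 (tt N31149 (iv F285841)) (tt N30132 F283728) (tt N31000 (iv F284900)) (tt N31152 (iv F285853)) (tt N30987 (iv F284816)) (tt N30309 F283729) (tt N30130 (iv D63483)) (tt N31061 (iv F285326)) (tt N30140 F283730) (tt N31015 (iv F285012)))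
theorem Q30715 : ∀ i, i < 30715 → P i := stepQ 30714 Q30714 (allL N30714 (tt N30994 (iv F284862)) (tt N31151 (iv F285846)) (tt N30714 F283731) (tt N30345 F283732) (tt N30131 (iv D63484)) (tt N30162 F283733) (tt N30373 (iv F283736)) (tt N31001 (iv F284911)) (tt N30322 F283734) (tt N30365 F283735))
theorem Q30716 : ∀ i, i < 30716 → P i := stepQ 30715 Q30715 (allL N30715 (tt N30993 (iv F284854)) (tt N31152 (iv F285852)) (tt N30715 F283737) (tt N30132 F283738) (tt N30373 F283739) (tt N30259 F283740) (tt N30131 (iv D63485)) (tt N31021 (iv F285053)) (tt N30188 F283741) (tt N30181 F283742))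
theorem Q30717 : ∀ i, i < 30717 → P i := stepQ 30716 Q30716 (allL N30716 (tt N30134 F283743) (tt N31126 (iv F285714)) (tt N31153 D63923) (tt N30133 (iv D63486)) (tt N30142 F283744) (tt N31154 D63924) (tt N30429 F283745) (tt N31141 (iv F285808)) (tt N31155 D63925) (tt N30284 F283746))
theorem Q30718 : ∀ i, i < 30718 → P i := stepQ 30717 Q30717 (allL N30717 (tt N30135 F283747) (tt N31127 (iv F285720)) (tt N30989 (iv F284830)) (tt N31154 (iv F285863)) (tt N30139 F283748) (tt N30133 (iv D63487)) (tt N31156 D63926) (tt N31041 (iv F285186)) (tt N30985 (iv F284803)) (tt N30285 F283749))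
theorem Q30719 : ∀ i, i < 30719 → P i := stepQ 30718 Q30718 (allL N30718 (tt N31153 (iv F285858)) (tt N30718 F283750) (tt N30134 (iv D63488)) (tt N30990 (iv F284836)) (tt N30143 F283751) (tt N31157 D63927) (tt N30431 F283752) (tt N31142 (iv F285814)) (tt N31158 D63928) (tt N30286 F283753))
theorem Q30720 : ∀ i, i < 30720 → P i := stepQ 30719 Q30719 (allL N30719 (tt N31154 (iv F285862)) (tt N30136 F283754) (tt N31157 (iv F285875)) (tt N30135 F283755) (tt N30435 F283756) (tt N30134 (iv D63489)) (tt N31159 D63929) (tt N31039 (iv F285170)) (tt N31160 D63930) (tt N30287 F283757))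
theorem Q30721 : ∀ i, i < 30721 → P i := stepQ 30720 Q30720 (allL N30720 (tt N31155 (iv F285866)) (tt N30137 F283758) (tt N31158 (iv F285879)) (tt N30289 F283759) (tt N30144 F283760) (tt N31160 (iv F285891)) (tt N30287 F283761) (tt N31138 (iv F285786)) (tt N30134 (iv D63490)) (tt N31159 (iv F285886)))
theorem Q30722 : ∀ i, i < 30722 → P i := stepQ 30721 Q30721 (allL N30721 (tt N31156 (iv F285870)) (tt N30138 F283762) (tt N30992 (iv F284848)) (tt N31159 (iv F285883)) (tt N30140 F283763) (tt N30387 F283764) (tt N30135 (iv D63491)) (tt N31056 (iv F285292)) (tt N30987 (iv F284819)) (tt N30289 F283765))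
theorem Q30723 : ∀ i, i < 30723 → P i := stepQ 30722 Q30722 (allL N30722 (tt N31002 (iv F284914)) (tt N31159 (iv F285882)) (tt N30722 F283766) (tt N30138 F283767) (tt N30145 F283768) (tt N30282 F283769) (tt N30136 (iv D63492)) (tt N31033 (iv F285130)) (tt N30281 (iv F283771)) (tt N30137 F283770))
theorem Q30724 : ∀ i, i < 30724 → P i := stepQ 30723 Q30723 (allL N30723 (tt N31001 (iv F284906)) (tt N31160 (iv F285888)) (tt N30723 F283772) (tt N30283 F283773) (tt N30294 F283774) (tt N30137 F283775) (tt N30281 F283776) (tt N30994 (iv F284867)) (tt N30136 (iv D63493)) (tt N30282 F283777))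
theorem Q30725 : ∀ i, i < 30725 → P i := stepQ 30724 Q30724 (allL N30724 (tt N30140 F283778) (tt N31132 (iv F285750)) (tt N31146 (iv F285831)) (tt N30307 F283779) (tt N31156 (iv F285871)) (tt N30306 F283780) (tt N30139 (iv D63494)) (tt N31161 D63931) (tt N31149 (iv F285843)) (tt N30290 F283781))
theorem Q30726 : ∀ i, i < 30726 → P i := stepQ 30725 Q30725 (allL N30725 (tt N31161 (iv F285894)) (tt N30141 F283782) (tt N30343 F283783) (tt N30192 F283784) (tt N31056 (iv F285290)) (tt N30305 F283785) (tt N30191 F283786) (tt N30140 (iv D63495)) (tt N31061 (iv F285327)) (tt N30196 F283787))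
theorem Q30727 : ∀ i, i < 30727 → P i := stepQ 30726 Q30726 (allL N30726 (tt N30143 F283788) (tt N31162 D63932) (tt N30142 (iv D63496)) (tt N30496 F283789) (tt N31153 (iv F285859)) (tt N31119 (iv F285665)) (tt N30432 F283790) (tt N31143 (iv F285818)) (tt N31163 D63933) (tt N30295 F283791))
theorem Q30728 : ∀ i, i < 30728 → P i := stepQ 30727 Q30727 (allL N30727 (tt N30144 F283792) (tt N31134 (iv F285763)) (tt N31163 (iv F285906)) (tt N30163 F283793) (tt N31155 (iv F285868)) (tt N30328 F283794) (tt N30433 F283795) (tt N31136 (iv F285775)) (tt N30142 (iv D63497)) (tt N31164 D63934))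
theorem Q30729 : ∀ i, i < 30729 → P i := stepQ 30728 Q30728 (allL N30728 (tt N31163 (iv F285905)) (tt N30728 F283796) (tt N30144 F283797) (tt N31106 (iv F285582)) (tt N31158 (iv F285880)) (tt N30329 F283798) (tt N30434 F283799) (tt N31137 (iv F285781)) (tt N30143 (iv D63498)) (tt N31165 D63935))
theorem Q30730 : ∀ i, i < 30730 → P i := stepQ 30729 Q30729 (allL N30729 (tt N31164 (iv F285909)) (tt N30145 F283800) (tt N31165 (iv F285915)) (tt N30164 F283801) (tt N31159 (iv F285884)) (tt N30300 F283802) (tt N30435 F283803) (tt N31066 (iv F285359)) (tt N30298 F283804) (tt N30144 (iv D63499)))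
theorem Q30731 : ∀ i, i < 30731 → P i := stepQ 30730 Q30730 (allL N30730 (tt N30147 F283805) (tt N30299 F283806) (tt N30450 F283807) (tt N31077 (iv F285412)) (tt N30146 (iv D63500)) (tt N31139 (iv F285792)) (tt N30227 F283808) (tt N30154 F283809) (tt N30169 F283810) (tt N30148 F283811))
theorem Q30732 : ∀ i, i < 30732 → P i := stepQ 30731 Q30731 (allL N30731 (tt N30149 F283812) (tt N30328 F283813) (tt N31166 D63936) (tt N30148 (iv D63501)) (tt N31083 (iv F285444)) (tt N31134 (iv F285765)) (tt N30238 F283814) (tt N30158 F283815) (tt N30470 F283816) (tt N31077 (iv F285416)))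
theorem Q30733 : ∀ i, i < 30733 → P i := stepQ 30732 Q30732 (allL N30732 (tt N31166 (iv F285919)) (tt N30732 F283817) (tt N30149 (iv D63502)) (tt N30455 F283818) (tt N31084 (iv F285451)) (tt N31111 (iv F285608)) (tt N30239 F283819) (tt N30160 F283820) (tt N30471 F283821) (tt N31079 (iv F285425)))
theorem Q30734 : ∀ i, i < 30734 → P i := stepQ 30733 Q30733 (allL N30733 (tt N30151 F283822) (tt N30459 F283823) (tt N31167 D63937) (tt N30150 (iv D63503)) (tt N30204 F283824) (tt N30433 (iv F283828)) (tt N30208 F283825) (tt N30453 F283826) (tt N30391 F283827) (tt N31116 (iv F285644)))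
theorem Q30735 : ∀ i, i < 30735 → P i := stepQ 30734 Q30734 (allL N30734 (tt N30152 F283829) (tt N30460 F283830) (tt N30159 F283831) (tt N30433 F283832) (tt N30203 F283833) (tt N30150 (iv D63504)) (tt N30163 F283834) (tt N30454 F283835) (tt N30153 F283836) (tt N31117 (iv F285654)))
theorem Q30736 : ∀ i, i < 30736 → P i := stepQ 30735 Q30735 (allL N30735 (tt N31167 (iv F285924)) (tt N30735 F283837) (tt N30151 (iv D63505)) (tt N30160 F283838) (tt N30205 F283839) (tt N30434 F283840) (tt N30209 F283841) (tt N30455 F283842) (tt N30392 F283843) (tt N31118 (iv F285662)))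
theorem Q30737 : ∀ i, i < 30737 → P i := stepQ 30736 Q30736 (allL N30736 (tt N30155 F283844) (tt N31063 (iv F285335)) (tt N31168 D63938) (tt N30154 (iv D63506)) (tt N31068 (iv F285369)) (tt N31169 D63939) (tt N30465 F283845) (tt N31077 (iv F285415)) (tt N31057 (iv F285300)) (tt N30158 F283846))
theorem Q30738 : ∀ i, i < 30738 → P i := stepQ 30737 Q30737 (allL N30737 (tt N30156 F283847) (tt N31064 (iv F285342)) (tt N31117 (iv F285648)) (tt N31169 (iv F285935)) (tt N31014 (iv F285000)) (tt N30154 (iv D63507)) (tt N31086 (iv F285465)) (tt N31139 (iv F285794)) (tt N30190 F283848) (tt N30159 F283849))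
theorem Q30739 : ∀ i, i < 30739 → P i := stepQ 30738 Q30738 (allL N30738 (tt N31168 (iv F285931)) (tt N30738 F283850) (tt N30155 (iv D63508)) (tt N31118 (iv F285656)) (tt N31069 (iv F285375)) (tt N31170 D63940) (tt N30466 F283851) (tt N31079 (iv F285424)) (tt N31059 (iv F285314)) (tt N30160 F283852))
theorem Q30740 : ∀ i, i < 30740 → P i := stepQ 30739 Q30739 (allL N30739 (tt N31169 (iv F285934)) (tt N30157 F283853) (tt N31170 (iv F285938)) (tt N30156 F283854) (tt N31171 D63941) (tt N30155 (iv D63509)) (tt N31088 (iv F285478)) (tt N31080 (iv F285431)) (tt N31060 (iv F285320)) (tt N30161 F283855))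
theorem Q30741 : ∀ i, i < 30741 → P i := stepQ 30740 Q30740 (allL N30740 (tt N31033 (iv F285124)) (tt N31171 (iv F285941)) (tt N30740 F283856) (tt N30346 F283857) (tt N30157 (iv D63510)) (tt N30365 F283858) (tt N30338 F283859) (tt N31002 (iv F284920)) (tt N30364 F283860) (tt N30162 F283861))
theorem Q30742 : ∀ i, i < 30742 → P i := stepQ 30741 Q30741 (allL N30741 (tt N30160 F283862) (tt N31172 D63942) (tt N30158 (iv D63511)) (tt N31167 (iv F285925)) (tt N31147 (iv F285837)) (tt N31173 D63943) (tt N30467 F283863) (tt N31166 (iv F285922)) (tt N31120 (iv F285673)) (tt N31168 (iv F285933)))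
theorem Q30743 : ∀ i, i < 30743 → P i := stepQ 30742 Q30742 (allL N30742 (tt N30161 F283864) (tt N31136 (iv F285772)) (tt N31173 (iv F285950)) (tt N30159 F283865) (tt N31174 D63944) (tt N30158 (iv D63512)) (tt N31104 (iv F285570)) (tt N31134 (iv F285767)) (tt N31121 (iv F285682)) (tt N31169 (iv F285936)))
theorem Q30744 : ∀ i, i < 30744 → P i := stepQ 30743 Q30743 (allL N30743 (tt N31173 (iv F285949)) (tt N30743 F283866) (tt N30161 F283867) (tt N30434 F283868) (tt N31175 D63945) (tt N30160 (iv D63513)) (tt N31106 (iv F285584)) (tt N31111 (iv F285610)) (tt N30499 F283869) (tt N31170 (iv F285940)))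
theorem Q30745 : ∀ i, i < 30745 → P i := stepQ 30744 Q30744 (allL N30744 (tt N31174 (iv F285953)) (tt N30162 F283870) (tt N31175 (iv F285958)) (tt N30344 F283871) (tt N30161 (iv D63514)) (tt N31151 (iv F285848)) (tt N30337 F283872) (tt N31130 (iv F285741)) (tt N30334 F283873) (tt N31171 (iv F285946)))
theorem Q30746 : ∀ i, i < 30746 → P i := stepQ 30745 Q30745 (allL N30745 (tt N30164 F283874) (tt N31139 (iv F285789)) (tt N31086 (iv F285463)) (tt N31164 (iv F285910)) (tt N30307 F283875) (tt N30299 F283876) (tt N31117 (iv F285651)) (tt N31064 (iv F285346)) (tt N30200 F283877) (tt N30163 (iv D63515)))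
theorem Q30747 : ∀ i, i < 30747 → P i := stepQ 30746 Q30746 (allL N30746 (tt N30166 F283878) (tt N30257 F283879) (tt N30456 F283880) (tt N31099 (iv F285536)) (tt N30165 (iv D63516)) (tt N31140 (iv F285800)) (tt N30213 F283881) (tt N30177 F283882) (tt N30229 F283883) (tt N30167 F283884))
theorem Q30748 : ∀ i, i < 30748 → P i := stepQ 30747 Q30747 (allL N30747 (tt N30168 F283885) (tt N31101 (iv F285547)) (tt N31176 D63946) (tt N30167 (iv D63517)) (tt N30335 F283886) (tt N31105 (iv F285577)) (tt N31121 (iv F285680)) (tt N30182 F283887) (tt N31104 F285572) (tt N31099 (iv F285539)))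
theorem Q30749 : ∀ i, i < 30749 → P i := stepQ 30748 Q30748 (allL N30748 (tt N31176 (iv F285961)) (tt N30748 F283888) (tt N30168 (iv D63518)) (tt N30461 F283889) (tt N30336 F283890) (tt N31107 (iv F285591)) (tt N30499 F283891) (tt N30184 F283892) (tt N31106 F285586) (tt N31100 (iv F285545)))
theorem Q30750 : ∀ i, i < 30750 → P i := stepQ 30749 Q30749 (allL N30749 (tt N30171 F283893) (tt N30453 F283894) (tt N31177 D63947) (tt N30170 (iv D63519)) (tt N30473 F283895) (tt N31048 (iv F285237)) (tt N31042 (iv F285192)) (tt N30459 F283896) (tt N30463 F283897) (tt N31113 (iv F285622)))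
theorem Q30751 : ∀ i, i < 30751 → P i := stepQ 30750 Q30750 (allL N30750 (tt N30172 F283898) (tt N30454 F283899) (tt N30183 F283900) (tt N31048 (iv F285235)) (tt N30175 F283901) (tt N30170 (iv D63520)) (tt N30198 F283902) (tt N30460 F283903) (tt N30176 F283904) (tt N31114 (iv F285630)))
theorem Q30752 : ∀ i, i < 30752 → P i := stepQ 30751 Q30751 (allL N30751 (tt N31177 (iv F285966)) (tt N30751 F283905) (tt N30171 (iv D63521)) (tt N30184 F283906) (tt N30474 F283907) (tt N31049 (iv F285243)) (tt N31043 (iv F285200)) (tt N30461 F283908) (tt N30464 F283909) (tt N31115 (iv F285637)))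
theorem Q30753 : ∀ i, i < 30753 → P i := stepQ 30752 Q30752 (allL N30752 (tt N30174 F283910) (tt N30980 (iv F284761)) (tt N30190 F283911) (tt N30384 F283912) (tt N31114 (iv F285626)) (tt N30173 (iv D63522)) (tt N30200 F283913) (tt N30462 F283914) (tt N31117 (iv F285653)) (tt N30175 F283915))
theorem Q30754 : ∀ i, i < 30754 → P i := stepQ 30753 Q30753 (allL N30753 (tt N30178 F283916) (tt N31085 (iv F285456)) (tt N31178 D63948) (tt N30177 (iv D63523)) (tt N30370 F283917) (tt N31179 D63949) (tt N30981 (iv F284773)) (tt N31099 (iv F285538)) (tt N31180 D63950) (tt N30182 F283918))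
theorem Q30755 : ∀ i, i < 30755 → P i := stepQ 30754 Q30754 (allL N30754 (tt N30179 F283919) (tt N31086 (iv F285462)) (tt N31114 (iv F285625)) (tt N31179 (iv F285975)) (tt N30190 F283920) (tt N30177 (iv D63524)) (tt N31064 (iv F285345)) (tt N31140 (iv F285802)) (tt N31014 (iv F285003)) (tt N30183 F283921))
theorem Q30756 : ∀ i, i < 30756 → P i := stepQ 30755 Q30755 (allL N30755 (tt N31178 (iv F285971)) (tt N30755 F283922) (tt N30178 (iv D63525)) (tt N31115 (iv F285632)) (tt N30371 F283923) (tt N31181 D63951) (tt N30982 (iv F284780)) (tt N31100 (iv F285544)) (tt N31182 D63952) (tt N30184 F283924))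
theorem Q30757 : ∀ i, i < 30757 → P i := stepQ 30756 Q30756 (allL N30756 (tt N31179 (iv F285974)) (tt N30180 F283925) (tt N31181 (iv F285980)) (tt N30179 F283926) (tt N31055 (iv F285284)) (tt N30178 (iv D63526)) (tt N31066 (iv F285358)) (tt N31074 (iv F285400)) (tt N31183 D63953) (tt N30185 F283927))
theorem Q30758 : ∀ i, i < 30758 → P i := stepQ 30757 Q30757 (allL N30757 (tt N31180 (iv F285977)) (tt N30181 F283928) (tt N31182 (iv F285983)) (tt N31015 (iv F285007)) (tt N30372 F283929) (tt N31183 (iv F285988)) (tt N30983 (iv F284787)) (tt N31025 (iv F285075)) (tt N30178 (iv D63527)) (tt N31152 (iv F285857)))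
theorem Q30759 : ∀ i, i < 30759 → P i := stepQ 30758 Q30758 (allL N30758 (tt N31021 (iv F285048)) (tt N31183 (iv F285985)) (tt N30758 F283930) (tt N30310 F283931) (tt N30485 F283932) (tt N30181 F283933) (tt N30263 F283934) (tt N30993 (iv F284858)) (tt N30180 (iv D63528)) (tt N30259 F283935))
theorem Q30760 : ∀ i, i < 30760 → P i := stepQ 30759 Q30759 (allL N30759 (tt N30184 F283936) (tt N31184 D63954) (tt N30182 (iv D63529)) (tt N31177 (iv F285967)) (tt N30374 F283937) (tt N31185 D63955) (tt N31047 (iv F285231)) (tt N31176 (iv F285965)) (tt N31186 D63956) (tt N31178 (iv F285973)))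
theorem Q30761 : ∀ i, i < 30761 → P i := stepQ 30760 Q30760 (allL N30760 (tt N30185 F283938) (tt N31104 (iv F285567)) (tt N31185 (iv F285994)) (tt N30183 F283939) (tt N31187 D63957) (tt N30182 (iv D63530)) (tt N31136 (iv F285774)) (tt N31105 (iv F285579)) (tt N31101 (iv F285552)) (tt N31179 (iv F285976)))
theorem Q30762 : ∀ i, i < 30762 → P i := stepQ 30761 Q30761 (allL N30761 (tt N30186 F283940) (tt N31105 (iv F285574)) (tt N31186 (iv F285996)) (tt N30198 F283941) (tt N30376 F283942) (tt N31101 (iv F285549)) (tt N31048 (iv F285238)) (tt N31104 (iv F285571)) (tt N30182 (iv D63531)) (tt N31188 D63958))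
theorem Q30763 : ∀ i, i < 30763 → P i := stepQ 30762 Q30762 (allL N30762 (tt N31185 (iv F285993)) (tt N30762 F283943) (tt N30185 F283944) (tt N31049 (iv F285246)) (tt N31189 D63959) (tt N30184 (iv D63532)) (tt N31137 (iv F285780)) (tt N31107 (iv F285593)) (tt N31102 (iv F285560)) (tt N31181 (iv F285981)))
theorem Q30764 : ∀ i, i < 30764 → P i := stepQ 30763 Q30763 (allL N30763 (tt N31186 (iv F285995)) (tt N30763 F283945) (tt N30186 F283946) (tt N31137 (iv F285779)) (tt N30378 F283947) (tt N31102 (iv F285557)) (tt N31049 (iv F285244)) (tt N31106 (iv F285585)) (tt N30184 (iv D63533)) (tt N31190 D63960))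
theorem Q30765 : ∀ i, i < 30765 → P i := stepQ 30764 Q30764 (allL N30764 (tt N31187 (iv F285998)) (tt N30187 F283948) (tt N31189 (iv F286009)) (tt N30195 F283949) (tt N30185 (iv D63534)) (tt N30379 F283950) (tt N31138 (iv F285785)) (tt N30252 F283951) (tt N30241 F283952) (tt N31055 (iv F285287)))
theorem Q30766 : ∀ i, i < 30766 → P i := stepQ 30765 Q30765 (allL N30765 (tt N31188 (iv F286004)) (tt N30188 F283953) (tt N31190 (iv F286015)) (tt N30199 F283954) (tt N30380 F283955) (tt N30258 F283956) (tt N31050 (iv F285251)) (tt N31088 (iv F285479)) (tt N31152 (iv F285856)) (tt N30186 (iv D63535)))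
theorem Q30767 : ∀ i, i < 30767 → P i := stepQ 30766 Q30766 (allL N30766 (tt N30191 F283957) (tt N30355 F283958) (tt N30417 F283959) (tt N30190 F283960) (tt N31053 (iv F285271)) (tt N30189 (iv D63536)) (tt N31161 (iv F285899)) (tt N30254 F283961) (tt N31058 (iv F285307)) (tt N30193 F283962))
theorem Q30768 : ∀ i, i < 30768 → P i := stepQ 30767 Q30767 (allL N30767 (tt N30192 F283963) (tt N31014 (iv F284997)) (tt N30200 F283964) (tt N31161 (iv F285897)) (tt N31064 (iv F285344)) (tt N30304 F283965) (tt N30190 (iv D63537)) (tt N30307 (iv F283967)) (tt N31086 (iv F285467)) (tt N30194 F283966))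
theorem Q30769 : ∀ i, i < 30769 → P i := stepQ 30768 Q30768 (allL N30768 (tt N30195 F283968) (tt N30347 F283969) (tt N30430 F283970) (tt N31187 (iv F286000)) (tt N30193 (iv D63538)) (tt N30381 F283971) (tt N31191 D63961) (tt N30253 F283972) (tt N30244 F283973) (tt N31053 (iv F285274)))
theorem Q30770 : ∀ i, i < 30770 → P i := stepQ 30769 Q30769 (allL N30769 (tt N30196 F283974) (tt N30351 F283975) (tt N30386 F283976) (tt N30194 F283977) (tt N31191 (iv F286021)) (tt N30349 F283978) (tt N30193 (iv D63539)) (tt N30290 F283979) (tt N30245 F283980) (tt N31161 (iv F285900)))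
theorem Q30771 : ∀ i, i < 30771 → P i := stepQ 30770 Q30770 (allL N30770 (tt N31191 (iv F286018)) (tt N30197 F283981) (tt N30387 F283982) (tt N31138 (iv F285784)) (tt N30196 F283983) (tt N30992 (iv F284850)) (tt N30195 (iv D63540)) (tt N30289 F283984) (tt N30243 F283985) (tt N31056 (iv F285294)))
theorem Q30772 : ∀ i, i < 30772 → P i := stepQ 30771 Q30771 (allL N30771 (tt N30199 F283986) (tt N31140 (iv F285797)) (tt N31064 (iv F285343)) (tt N31188 (iv F286005)) (tt N30200 F283987) (tt N30257 F283988) (tt N31114 (iv F285627)) (tt N31086 (iv F285466)) (tt N30307 F283989) (tt N30198 (iv D63541)))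
theorem Q30773 : ∀ i, i < 30773 → P i := stepQ 30772 Q30772 (allL N30772 (tt N30202 F283990) (tt N30473 F283991) (tt N31192 D63962) (tt N30201 (iv D63542)) (tt N30453 F283992) (tt N30260 F283993) (tt N31113 (iv F285619)) (tt N30204 F283994) (tt N30438 F283995) (tt N31042 (iv F285195)))
theorem Q30774 : ∀ i, i < 30774 → P i := stepQ 30773 Q30773 (allL N30773 (tt N31192 (iv F286024)) (tt N30773 F283996) (tt N30202 (iv D63543)) (tt N30982 (iv F284777)) (tt N30455 F283997) (tt N30261 F283998) (tt N31115 (iv F285634)) (tt N30205 F283999) (tt N30439 F284000) (tt N31043 (iv F285203)))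
theorem Q30775 : ∀ i, i < 30775 → P i := stepQ 30774 Q30774 (allL N30774 (tt N30205 F284001) (tt N31193 D63963) (tt N30204 (iv D63544)) (tt N31004 (iv F284928)) (tt N31167 (iv F285926)) (tt N30295 F284002) (tt N31044 (iv F285208)) (tt N31192 (iv F286027)) (tt N30449 F284003) (tt N31119 (iv F285668)))
theorem Q30776 : ∀ i, i < 30776 → P i := stepQ 30775 Q30775 (allL N30775 (tt N30207 F284004) (tt N30468 F284005) (tt N31194 D63964) (tt N30206 (iv D63545)) (tt N30331 F284006) (tt N30301 F284007) (tt N31116 (iv F285641)) (tt N30211 F284008) (tt N30325 F284009) (tt N30208 F284010))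
theorem Q30777 : ∀ i, i < 30777 → P i := stepQ 30776 Q30776 (allL N30776 (tt N31194 (iv F286033)) (tt N30776 F284011) (tt N30207 (iv D63546)) (tt N30466 F284012) (tt N30332 F284013) (tt N30302 F284014) (tt N31118 (iv F285659)) (tt N30212 F284015) (tt N30327 F284016) (tt N30209 F284017))
theorem Q30778 : ∀ i, i < 30778 → P i := stepQ 30777 Q30777 (allL N30777 (tt N30209 F284018) (tt N31195 D63965) (tt N30208 (iv D63547)) (tt N30467 F284019) (tt N31044 (iv F285206)) (tt N30330 F284020) (tt N31167 (iv F285928)) (tt N30472 F284021) (tt N30478 F284022) (tt N31194 (iv F286039)))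
theorem Q30779 : ∀ i, i < 30779 → P i := stepQ 30778 Q30778 (allL N30778 (tt N30212 F284023) (tt N31196 D63966) (tt N30211 (iv D63548)) (tt N31045 (iv F285213)) (tt N30498 F284024) (tt N30481 F284025) (tt N30477 F284026) (tt N31194 (iv F286037)) (tt N30495 F284027) (tt N30472 F284028))
theorem Q30780 : ∀ i, i < 30780 → P i := stepQ 30779 Q30779 (allL N30779 (tt N30214 F284029) (tt N30260 F284030) (tt N31197 D63967) (tt N30213 (iv D63549)) (tt N30443 F284031) (tt N30473 F284032) (tt N31099 (iv F285537)) (tt N30224 F284033) (tt N31198 D63968) (tt N31121 (iv F285683)))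
theorem Q30781 : ∀ i, i < 30781 → P i := stepQ 30780 Q30780 (allL N30780 (tt N31197 (iv F286052)) (tt N30780 F284034) (tt N30214 (iv D63550)) (tt N30469 F284035) (tt N30444 F284036) (tt N30474 F284037) (tt N31100 (iv F285543)) (tt N30225 F284038) (tt N31199 D63969) (tt N30499 F284039))
theorem Q30782 : ∀ i, i < 30782 → P i := stepQ 30781 Q30781 (allL N30781 (tt N31198 (iv F286058)) (tt N30215 F284040) (tt N31199 (iv F286065)) (tt N30234 F284041) (tt N30369 F284042) (tt N30403 F284043) (tt N31025 (iv F285074)) (tt N30226 F284044) (tt N30214 (iv D63551)) (tt N31060 (iv F285321)))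
theorem Q30783 : ∀ i, i < 30783 → P i := stepQ 30782 Q30782 (allL N30782 (tt N30217 F284045) (tt N30284 F284046) (tt N31200 D63970) (tt N30216 (iv D63552)) (tt N30224 F284047) (tt N31201 D63971) (tt N30995 (iv F284873)) (tt N30443 F284048) (tt N31202 D63972) (tt N31126 (iv F285718)))
theorem Q30784 : ∀ i, i < 30784 → P i := stepQ 30783 Q30783 (allL N30783 (tt N30218 F284049) (tt N30285 F284050) (tt N30312 F284051) (tt N31201 (iv F286076)) (tt N30222 F284052) (tt N30216 (iv D63553)) (tt N31203 D63973) (tt N30318 F284053) (tt N30311 F284054) (tt N31127 (iv F285725)))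
theorem Q30785 : ∀ i, i < 30785 → P i := stepQ 30784 Q30784 (allL N30784 (tt N31200 (iv F286070)) (tt N30784 F284055) (tt N30217 (iv D63554)) (tt N30439 F284056) (tt N30225 F284057) (tt N31204 D63974) (tt N30997 (iv F284886)) (tt N30444 F284058) (tt N31205 D63975) (tt N31128 (iv F285731)))
theorem Q30786 : ∀ i, i < 30786 → P i := stepQ 30785 Q30785 (allL N30785 (tt N31201 (iv F286074)) (tt N30219 F284059) (tt N31204 (iv F286093)) (tt N30218 F284060) (tt N30399 F284061) (tt N30217 (iv D63555)) (tt N31130 (iv F285740)) (tt N30320 F284062) (tt N30359 (iv F284063)) (tt N31129 (iv F285736)))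
theorem Q30787 : ∀ i, i < 30787 → P i := stepQ 30786 Q30786 (allL N30786 (tt N31202 (iv F286080)) (tt N30220 F284064) (tt N31205 (iv F286099)) (tt N30360 F284065) (tt N30226 F284066) (tt N30359 F284067) (tt N30999 (iv F284897)) (tt N30369 F284068) (tt N30217 (iv D63556)) (tt N30998 (iv F284893)))
theorem Q30788 : ∀ i, i < 30788 → P i := stepQ 30787 Q30787 (allL N30787 (tt N31203 (iv F286086)) (tt N30221 F284069) (tt N30309 F284070) (tt N31130 (iv F285738)) (tt N30223 F284071) (tt N31000 (iv F284902)) (tt N30218 (iv D63557)) (tt N30344 F284072) (tt N30308 F284073) (tt N31131 (iv F285748)))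
theorem Q30789 : ∀ i, i < 30789 → P i := stepQ 30788 Q30788 (allL N30788 (tt N30223 F284074) (tt N30290 F284075) (tt N30442 F284076) (tt N30246 F284077) (tt N31203 (iv F286089)) (tt N30245 F284078) (tt N30222 (iv D63558)) (tt N30351 F284079) (tt N30349 F284080) (tt N31132 (iv F285755)))
theorem Q30790 : ∀ i, i < 30790 → P i := stepQ 30789 Q30789 (allL N30789 (tt N30225 F284081) (tt N31206 D63976) (tt N30224 (iv D63559)) (tt N31044 (iv F285205)) (tt N31200 (iv F286072)) (tt N30477 F284082) (tt N31004 (iv F284930)) (tt N31197 (iv F286056)) (tt N31207 D63977) (tt N31133 (iv F285761)))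
theorem Q30791 : ∀ i, i < 30791 → P i := stepQ 30790 Q30790 (allL N30790 (tt N30226 F284083) (tt N30296 F284084) (tt N31207 (iv F286107)) (tt N30235 F284085) (tt N31202 (iv F286083)) (tt N30409 F284086) (tt N31005 (iv F284936)) (tt N31198 (iv F286063)) (tt N30224 (iv D63560)) (tt N31076 (iv F285409)))
theorem Q30792 : ∀ i, i < 30792 → P i := stepQ 30791 Q30791 (allL N30791 (tt N31207 (iv F286106)) (tt N30791 F284087) (tt N30226 F284088) (tt N31024 (iv F285068)) (tt N31205 (iv F286100)) (tt N30410 F284089) (tt N31006 (iv F284941)) (tt N31199 (iv F286069)) (tt N30225 (iv D63561)) (tt N31078 (iv F285419)))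
theorem Q30793 : ∀ i, i < 30793 → P i := stepQ 30792 Q30792 (allL N30792 (tt N30228 F284090) (tt N30301 F284091) (tt N31208 D63978) (tt N30227 (iv D63562)) (tt N30356 F284092) (tt N30468 F284093) (tt N31077 (iv F285414)) (tt N30475 F284094) (tt N30479 F284095) (tt N30238 F284096))
theorem Q30794 : ∀ i, i < 30794 → P i := stepQ 30793 Q30793 (allL N30793 (tt N31208 (iv F286109)) (tt N30793 F284097) (tt N30228 (iv D63563)) (tt N30474 F284098) (tt N30357 F284099) (tt N30469 F284100) (tt N31079 (iv F285423)) (tt N30476 F284101) (tt N30480 F284102) (tt N30239 F284103))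
theorem Q30795 : ∀ i, i < 30795 → P i := stepQ 30794 Q30794 (allL N30794 (tt N30230 F284104) (tt N30306 F284105) (tt N31012 (iv F284982)) (tt N30229 (iv D63564)) (tt N30406 F284106) (tt N31132 (iv F285753)) (tt N30233 F284107) (tt N31013 (iv F284993)) (tt N31209 D63979) (tt N30245 F284108))
theorem Q30796 : ∀ i, i < 30796 → P i := stepQ 30795 Q30795 (allL N30795 (tt N30231 F284109) (tt N30307 F284110) (tt N30980 (iv F284762)) (tt N31132 (iv F285752)) (tt N31139 (iv F285791)) (tt N30229 (iv D63565)) (tt N30462 F284111) (tt N31014 (iv F285002)) (tt N31140 (iv F285803)) (tt N30246 F284112))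
theorem Q30797 : ∀ i, i < 30797 → P i := stepQ 30796 Q30796 (allL N30796 (tt N31209 (iv F286116)) (tt N30232 F284113) (tt N31011 (iv F284973)) (tt N31025 (iv F285073)) (tt N30405 F284114) (tt N31125 (iv F285709)) (tt N30234 F284115) (tt N31015 (iv F285011)) (tt N30230 (iv D63566)) (tt N31061 (iv F285328)))
theorem Q30798 : ∀ i, i < 30798 → P i := stepQ 30797 Q30797 (allL N30797 (tt N30234 F284116) (tt N30312 F284117) (tt N31009 (iv F284958)) (tt N31198 (iv F286060)) (tt N30404 F284118) (tt N30402 F284119) (tt N31209 (iv F286119)) (tt N30235 F284120) (tt N30233 (iv D63567)) (tt N31058 (iv F285308)))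
theorem Q30799 : ∀ i, i < 30799 → P i := stepQ 30798 Q30798 (allL N30798 (tt N30237 F284121) (tt N30325 F284122) (tt N31210 D63980) (tt N30236 (iv D63568)) (tt N30238 F284123) (tt N30479 F284124) (tt N31083 (iv F285445)) (tt N30445 F284125) (tt N30468 F284126) (tt N30356 F284127))
theorem Q30800 : ∀ i, i < 30800 → P i := stepQ 30799 Q30799 (allL N30799 (tt N31210 (iv F286120)) (tt N30799 F284128) (tt N30237 (iv D63569)) (tt N30371 F284129) (tt N30239 F284130) (tt N30480 F284131) (tt N31084 (iv F285452)) (tt N30446 F284132) (tt N30469 F284133) (tt N30357 F284134))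
theorem Q30801 : ∀ i, i < 30801 → P i := stepQ 30800 Q30800 (allL N30800 (tt N30239 F284135) (tt N31211 D63981) (tt N30238 (iv D63570)) (tt N31120 (iv F285670)) (tt N31210 (iv F286122)) (tt N30498 F284136) (tt N31166 (iv F285921)) (tt N30478 F284137) (tt N30472 F284138) (tt N31208 (iv F286115)))
theorem Q30802 : ∀ i, i < 30802 → P i := stepQ 30801 Q30801 (allL N30801 (tt N30241 F284139) (tt N30335 F284140) (tt N31212 D63982) (tt N30240 (iv D63571)) (tt N31101 (iv F285548)) (tt N30412 F284141) (tt N31141 (iv F285807)) (tt N30250 F284142) (tt N31187 (iv F286003)) (tt N30482 F284143))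
theorem Q30803 : ∀ i, i < 30803 → P i := stepQ 30802 Q30802 (allL N30802 (tt N31212 (iv F286132)) (tt N30802 F284144) (tt N30241 (iv D63572)) (tt N30493 F284145) (tt N31102 (iv F285556)) (tt N30413 F284146) (tt N31142 (iv F285813)) (tt N30251 F284147) (tt N31189 (iv F286013)) (tt N30483 F284148))
theorem Q30804 : ∀ i, i < 30804 → P i := stepQ 30803 Q30803 (allL N30803 (tt N30243 F284149) (tt N30341 F284150) (tt N31027 (iv F285087)) (tt N30242 (iv D63573)) (tt N30245 F284151) (tt N31003 (iv F284925)) (tt N30244 F284152) (tt N30984 (iv F284795)) (tt N31191 (iv F286023)) (tt N30406 F284153))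
theorem Q30805 : ∀ i, i < 30805 → P i := stepQ 30804 Q30804 (allL N30804 (tt N30248 F284154) (tt N30370 F284155) (tt N31213 D63983) (tt N30247 (iv D63574)) (tt N31085 (iv F285457)) (tt N30492 F284156) (tt N31028 (iv F285096)) (tt N30482 F284157) (tt N31214 D63984) (tt N30250 F284158))
theorem Q30806 : ∀ i, i < 30806 → P i := stepQ 30805 Q30805 (allL N30805 (tt N31213 (iv F286137)) (tt N30805 F284159) (tt N30248 (iv D63575)) (tt N30413 F284160) (tt N31087 (iv F285471)) (tt N30493 F284161) (tt N31030 (iv F285110)) (tt N30483 F284162) (tt N31215 D63985) (tt N30251 F284163))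
theorem Q30807 : ∀ i, i < 30807 → P i := stepQ 30806 Q30806 (allL N30806 (tt N31214 (iv F286142)) (tt N30249 F284164) (tt N31215 (iv F286148)) (tt N30271 F284165) (tt N31089 (iv F285483)) (tt N30270 F284166) (tt N31032 (iv F285122)) (tt N30484 F284167) (tt N30248 (iv D63576)) (tt N30991 (iv F284846)))
theorem Q30808 : ∀ i, i < 30808 → P i := stepQ 30807 Q30807 (allL N30807 (tt N30251 F284168) (tt N31216 D63986) (tt N30250 (iv D63577)) (tt N31046 (iv F285221)) (tt N31103 (iv F285564)) (tt N30494 F284169) (tt N31034 (iv F285135)) (tt N31212 (iv F286135)) (tt N31217 D63987) (tt N31213 (iv F286141)))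
theorem Q30809 : ∀ i, i < 30809 → P i := stepQ 30808 Q30808 (allL N30808 (tt N30252 F284170) (tt N30376 F284171) (tt N31217 (iv F286156)) (tt N30253 F284172) (tt N31105 (iv F285576)) (tt N30393 F284173) (tt N31036 (iv F285149)) (tt N31187 (iv F286002)) (tt N30250 (iv D63578)) (tt N31072 (iv F285392)))
theorem Q30810 : ∀ i, i < 30810 → P i := stepQ 30809 Q30809 (allL N30809 (tt N31217 (iv F286155)) (tt N30809 F284174) (tt N30252 F284175) (tt N31037 (iv F285153)) (tt N31107 (iv F285590)) (tt N30394 F284176) (tt N31038 (iv F285163)) (tt N31189 (iv F286012)) (tt N30251 (iv D63579)) (tt N31073 (iv F285395)))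
theorem Q30811 : ∀ i, i < 30811 → P i := stepQ 30810 Q30810 (allL N30810 (tt N30256 F284177) (tt N30443 F284178) (tt N31218 D63988) (tt N30255 (iv D63580)) (tt N30260 F284179) (tt N31036 (iv F285148)) (tt N30482 F284180) (tt N30284 F284181) (tt N31035 F285143) (tt N31141 (iv F285809)))
theorem Q30812 : ∀ i, i < 30812 → P i := stepQ 30811 Q30811 (allL N30811 (tt N31218 (iv F286158)) (tt N30811 F284182) (tt N30256 (iv D63581)) (tt N30491 F284183) (tt N30261 F284184) (tt N31038 (iv F285162)) (tt N30483 F284185) (tt N30286 F284186) (tt N31037 F285157) (tt N31142 (iv F285815)))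
theorem Q30813 : ∀ i, i < 30813 → P i := stepQ 30812 Q30812 (allL N30812 (tt N30258 F284187) (tt N31099 (iv F285535)) (tt N31219 D63989) (tt N30257 (iv D63582)) (tt N30482 F284188) (tt N31188 (iv F286007)) (tt N30260 F284189) (tt N31085 (iv F285459)) (tt N31220 D63990) (tt N31101 (iv F285553)))
theorem Q30814 : ∀ i, i < 30814 → P i := stepQ 30813 Q30813 (allL N30813 (tt N31219 (iv F286163)) (tt N30813 F284190) (tt N30258 (iv D63583)) (tt N31065 (iv F285350)) (tt N30483 F284191) (tt N31190 (iv F286017)) (tt N30261 F284192) (tt N31087 (iv F285473)) (tt N31221 D63991) (tt N31102 (iv F285561)))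
theorem Q30815 : ∀ i, i < 30815 → P i := stepQ 30814 Q30814 (allL N30814 (tt N31220 (iv F286166)) (tt N30259 F284193) (tt N31221 (iv F286171)) (tt N30309 F284194) (tt N30484 F284195) (tt N31152 (iv F285855)) (tt N30262 F284196) (tt N31089 (iv F285485)) (tt N30258 (iv D63584)) (tt N31183 (iv F285990)))
theorem Q30816 : ∀ i, i < 30816 → P i := stepQ 30815 Q30815 (allL N30815 (tt N30261 F284197) (tt N31222 D63992) (tt N30260 (iv D63585)) (tt N31067 (iv F285363)) (tt N31218 (iv F286160)) (tt N31192 (iv F286026)) (tt N31219 (iv F286165)) (tt N30295 F284198) (tt N31223 D63993) (tt N31143 (iv F285819)))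
theorem Q30817 : ∀ i, i < 30817 → P i := stepQ 30816 Q30816 (allL N30816 (tt N30262 F284199) (tt N31198 (iv F286059)) (tt N31223 (iv F286177)) (tt N30312 F284200) (tt N31035 (iv F285140)) (tt N30438 F284201) (tt N31220 (iv F286169)) (tt N30296 F284202) (tt N30260 (iv D63586)) (tt N31224 D63994))
theorem Q30818 : ∀ i, i < 30818 → P i := stepQ 30817 Q30817 (allL N30817 (tt N31223 (iv F286176)) (tt N30817 F284203) (tt N30262 F284204) (tt N31204 (iv F286094)) (tt N31037 (iv F285154)) (tt N30439 F284205) (tt N31221 (iv F286173)) (tt N30297 F284206) (tt N30261 (iv D63587)) (tt N31225 D63995))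
theorem Q30819 : ∀ i, i < 30819 → P i := stepQ 30818 Q30818 (allL N30818 (tt N31224 (iv F286180)) (tt N30263 F284207) (tt N31225 (iv F286185)) (tt N30313 F284208) (tt N31031 (iv F285115)) (tt N30437 F284209) (tt N31183 (iv F285989)) (tt N30298 F284210) (tt N31066 (iv F285360)) (tt N30262 (iv D63588)))
theorem Q30820 : ∀ i, i < 30820 → P i := stepQ 30819 Q30819 (allL N30819 (tt N30265 F284211) (tt N30272 F284212) (tt N30406 F284213) (tt N30264 (iv D63589)) (tt N31012 (iv F284984)) (tt N31226 D63996) (tt N30401 F284214) (tt N30407 F284215) (tt N31227 D63997) (tt N31027 (iv F285092)))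
theorem Q30821 : ∀ i, i < 30821 → P i := stepQ 30820 Q30820 (allL N30820 (tt N30266 F284216) (tt N30273 F284217) (tt N30404 F284218) (tt N31226 (iv F286191)) (tt N31009 (iv F284960)) (tt N30264 (iv D63590)) (tt N31227 (iv F286200)) (tt N30408 F284219) (tt N30401 F284220) (tt N31051 (iv F285260)))
theorem Q30822 : ∀ i, i < 30822 → P i := stepQ 30821 Q30821 (allL N30821 (tt N31226 (iv F286188)) (tt N30267 F284221) (tt N30390 F284222) (tt N30266 F284223) (tt N31015 (iv F285008)) (tt N30265 (iv D63591)) (tt N30389 F284224) (tt N30405 F284225) (tt N30388 (iv F284226)) (tt N30987 (iv F284820)))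
theorem Q30823 : ∀ i, i < 30823 → P i := stepQ 30822 Q30822 (allL N30822 (tt N31227 (iv F286195)) (tt N30268 F284227) (tt N30405 F284228) (tt N30389 F284229) (tt N31011 (iv F284975)) (tt N30388 F284230) (tt N30266 F284231) (tt N30390 F284232) (tt N30265 (iv D63592)) (tt N30986 (iv F284812)))
theorem Q30824 : ∀ i, i < 30824 → P i := stepQ 30823 Q30823 (allL N30823 (tt N30270 F284233) (tt N31008 (iv F284949)) (tt N31228 D63998) (tt N30269 (iv D63593)) (tt N31017 (iv F285022)) (tt N31214 (iv F286145)) (tt N31052 (iv F285264)) (tt N30490 F284234) (tt N30492 F284235) (tt N30988 (iv F284827)))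
theorem Q30825 : ∀ i, i < 30825 → P i := stepQ 30824 Q30824 (allL N30824 (tt N30271 F284236) (tt N31009 (iv F284957)) (tt N30285 F284237) (tt N31214 (iv F286144)) (tt N30273 F284238) (tt N30269 (iv D63594)) (tt N31070 (iv F285383)) (tt N30486 F284239) (tt N30411 F284240) (tt N30989 (iv F284834)))
theorem Q30826 : ∀ i, i < 30826 → P i := stepQ 30825 Q30825 (allL N30825 (tt N31228 (iv F286202)) (tt N30825 F284241) (tt N30270 (iv D63595)) (tt N30286 F284242) (tt N31019 (iv F285037)) (tt N31215 (iv F286150)) (tt N31054 (iv F285278)) (tt N30491 F284243) (tt N30493 F284244) (tt N30990 (iv F284841)))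
theorem Q30827 : ∀ i, i < 30827 → P i := stepQ 30826 Q30826 (allL N30826 (tt N30274 F284245) (tt N31226 (iv F286189)) (tt N30351 F284246) (tt N30273 F284247) (tt N31229 D63999) (tt N30272 (iv D63596)) (tt N30354 F284248) (tt N30442 F284249) (tt N30350 (iv F284250)) (tt N31144 (iv F285825)))
theorem Q30828 : ∀ i, i < 30828 → P i := stepQ 30827 Q30827 (allL N30827 (tt N30275 F284251) (tt N31227 (iv F286196)) (tt N30290 F284252) (tt N30354 F284253) (tt N31070 (iv F285382)) (tt N30350 F284254) (tt N30273 F284255) (tt N30386 F284256) (tt N30272 (iv D63597)) (tt N31146 (iv F285835)))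
theorem Q30829 : ∀ i, i < 30829 → P i := stepQ 30828 Q30828 (allL N30828 (tt N31229 (iv F286206)) (tt N30276 F284257) (tt N30344 F284258) (tt N31089 (iv F285482)) (tt N30274 (iv D63598)) (tt N31061 (iv F285325)) (tt N30315 F284259) (tt N30309 F284260) (tt N30305 F284261) (tt N31125 (iv F285712)))
theorem Q30830 : ∀ i, i < 30830 → P i := stepQ 30829 Q30829 (allL N30829 (tt N30279 F284262) (tt N30995 (iv F284871)) (tt N31230 D64000) (tt N30278 (iv D63599)) (tt N30291 F284263) (tt N31231 D64001) (tt N30284 F284264) (tt N31028 (iv F285097)) (tt N31232 D64002) (tt N30429 F284265))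
theorem Q30831 : ∀ i, i < 30831 → P i := stepQ 30830 Q30830 (allL N30830 (tt N30280 F284266) (tt N30996 (iv F284877)) (tt N31053 (iv F285270)) (tt N31231 (iv F286216)) (tt N30417 F284267) (tt N30278 (iv D63600)) (tt N31233 D64003) (tt N31029 (iv F285104)) (tt N31051 (iv F285259)) (tt N30430 F284268))
theorem Q30832 : ∀ i, i < 30832 → P i := stepQ 30831 Q30831 (allL N30831 (tt N31230 (iv F286211)) (tt N30831 F284269) (tt N30279 (iv D63601)) (tt N31054 (iv F285276)) (tt N30292 F284270) (tt N31234 D64004) (tt N30286 F284271) (tt N31030 (iv F285111)) (tt N31235 D64005) (tt N30431 F284272))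
theorem Q30833 : ∀ i, i < 30833 → P i := stepQ 30832 Q30832 (allL N30832 (tt N31231 (iv F286215)) (tt N30281 F284273) (tt N31234 (iv F286228)) (tt N30280 F284274) (tt N30298 F284275) (tt N30279 (iv D63602)) (tt N31160 (iv F285892)) (tt N31031 (iv F285117)) (tt N31159 F285887) (tt N30288 F284276))
theorem Q30834 : ∀ i, i < 30834 → P i := stepQ 30833 Q30833 (allL N30833 (tt N31232 (iv F286219)) (tt N30282 F284277) (tt N31235 (iv F286232)) (tt N30387 F284278) (tt N30293 F284279) (tt N31159 (iv F285885)) (tt N30288 F284280) (tt N31032 (iv F285123)) (tt N30279 (iv D63603)) (tt N31160 (iv F285893)))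
theorem Q30835 : ∀ i, i < 30835 → P i := stepQ 30834 Q30834 (allL N30834 (tt N31233 (iv F286223)) (tt N30283 F284281) (tt N31056 (iv F285289)) (tt N31160 (iv F285889)) (tt N30343 F284282) (tt N30289 F284283) (tt N30280 (iv D63604)) (tt N30992 (iv F284851)) (tt N30986 (iv F284811)) (tt N30387 F284284))
theorem Q30836 : ∀ i, i < 30836 → P i := stepQ 30835 Q30835 (allL N30835 (tt N30286 F284285) (tt N31236 D64006) (tt N30284 (iv D63605)) (tt N31228 (iv F286203)) (tt N30295 F284286) (tt N31237 D64007) (tt N31230 (iv F286213)) (tt N31218 (iv F286162)) (tt N31238 D64008) (tt N31153 (iv F285861)))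
theorem Q30837 : ∀ i, i < 30837 → P i := stepQ 30836 Q30836 (allL N30836 (tt N30287 F284287) (tt N31201 (iv F286075)) (tt N31237 (iv F286238)) (tt N30285 F284288) (tt N30433 F284289) (tt N30284 (iv D63606)) (tt N31155 (iv F285869)) (tt N31036 (iv F285150)) (tt N30429 (iv F284290)) (tt N31154 (iv F285865)))
theorem Q30838 : ∀ i, i < 30838 → P i := stepQ 30837 Q30837 (allL N30837 (tt N30288 F284291) (tt N31202 (iv F286081)) (tt N31238 (iv F286242)) (tt N30430 F284292) (tt N30296 F284293) (tt N30429 F284294) (tt N31232 (iv F286222)) (tt N31035 (iv F285142)) (tt N30284 (iv D63607)) (tt N31231 (iv F286218)))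
theorem Q30839 : ∀ i, i < 30839 → P i := stepQ 30838 Q30838 (allL N30838 (tt N30289 F284295) (tt N31203 (iv F286087)) (tt N31070 (iv F285381)) (tt N31155 (iv F285867)) (tt N30290 F284296) (tt N31233 (iv F286225)) (tt N30285 (iv D63608)) (tt N31191 (iv F286022)) (tt N30984 F284797) (tt N31156 (iv F285873)))
theorem Q30840 : ∀ i, i < 30840 → P i := stepQ 30839 Q30839 (allL N30839 (tt N31237 (iv F286237)) (tt N30839 F284297) (tt N30287 F284298) (tt N31215 (iv F286149)) (tt N30434 F284299) (tt N30286 (iv D63609)) (tt N31158 (iv F285881)) (tt N31038 (iv F285164)) (tt N30431 (iv F284300)) (tt N31157 (iv F285877)))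
theorem Q30841 : ∀ i, i < 30841 → P i := stepQ 30840 Q30840 (allL N30840 (tt N31238 (iv F286241)) (tt N30840 F284301) (tt N30288 F284302) (tt N31189 (iv F286010)) (tt N30297 F284303) (tt N30431 F284304) (tt N31235 (iv F286234)) (tt N31037 (iv F285156)) (tt N30286 (iv D63610)) (tt N31234 (iv F286230)))
theorem Q30842 : ∀ i, i < 30842 → P i := stepQ 30841 Q30841 (allL N30841 (tt N30292 F284305) (tt N31239 D64009) (tt N30291 (iv D63611)) (tt N30481 F284306) (tt N31230 (iv F286212)) (tt N31045 (iv F285215)) (tt N30295 F284307) (tt N31090 (iv F285489)) (tt N31240 D64010) (tt N30432 F284308))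
theorem Q30843 : ∀ i, i < 30843 → P i := stepQ 30842 Q30842 (allL N30842 (tt N30293 F284309) (tt N31005 (iv F284933)) (tt N31240 (iv F286250)) (tt N30316 F284310) (tt N31232 (iv F286221)) (tt N30424 F284311) (tt N30296 F284312) (tt N31091 (iv F285494)) (tt N30291 (iv D63612)) (tt N31241 D64011))
theorem Q30844 : ∀ i, i < 30844 → P i := stepQ 30843 Q30843 (allL N30843 (tt N31240 (iv F286249)) (tt N30843 F284313) (tt N30293 F284314) (tt N30378 F284315) (tt N31235 (iv F286233)) (tt N30425 F284316) (tt N30297 F284317) (tt N31092 (iv F285499)) (tt N30292 (iv D63613)) (tt N31242 D64012))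
theorem Q30845 : ∀ i, i < 30845 → P i := stepQ 30844 Q30844 (allL N30844 (tt N31241 (iv F286254)) (tt N30294 F284318) (tt N31242 (iv F286260)) (tt N30317 F284319) (tt N31160 (iv F285890)) (tt N30324 F284320) (tt N30298 F284321) (tt N31093 (iv F285503)) (tt N30435 F284322) (tt N30293 (iv D63614)))
theorem Q30846 : ∀ i, i < 30846 → P i := stepQ 30845 Q30845 (allL N30845 (tt N30845 F284323) (tt N30295 (iv D63615)) (tt N31206 (iv F286104)) (tt N31081 (iv F285434)) (tt N31236 (iv F286236)) (tt N31193 (iv F286031)) (tt N31239 (iv F286247)) (tt N31222 (iv F286175)) (tt N31243 D64013) (tt N31162 (iv F285904)))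
theorem Q30847 : ∀ i, i < 30847 → P i := stepQ 30846 Q30846 (allL N30846 (tt N30297 F284324) (tt N31243 (iv F286266)) (tt N30296 F284325) (tt N31244 D64014) (tt N31238 (iv F286243)) (tt N30449 F284326) (tt N31240 (iv F286253)) (tt N31223 (iv F286179)) (tt N30295 (iv D63616)) (tt N31245 D64015))
theorem Q30848 : ∀ i, i < 30848 → P i := stepQ 30847 Q30847 (allL N30847 (tt N30298 F284327) (tt N31076 (iv F285407)) (tt N31245 (iv F286274)) (tt N30319 F284328) (tt N31231 (iv F286217)) (tt N30447 F284329) (tt N31241 (iv F286257)) (tt N31224 (iv F286183)) (tt N31164 (iv F285913)) (tt N30296 (iv D63617)))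
theorem Q30849 : ∀ i, i < 30849 → P i := stepQ 30848 Q30848 (allL N30848 (tt N31244 (iv F286268)) (tt N30848 F284330) (tt N30320 F284331) (tt N30297 (iv D63618)) (tt N31049 (iv F285242)) (tt N30444 F284332) (tt N30378 F284333) (tt N31204 (iv F286096)) (tt N30368 F284334) (tt N31246 D64016))
theorem Q30850 : ∀ i, i < 30850 → P i := stepQ 30849 Q30849 (allL N30849 (tt N31245 (iv F286273)) (tt N30849 F284335) (tt N30298 F284336) (tt N31246 (iv F286278)) (tt N31234 (iv F286229)) (tt N30448 F284337) (tt N31242 (iv F286263)) (tt N31225 (iv F286187)) (tt N31165 (iv F285918)) (tt N30297 (iv D63619)))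
theorem Q30851 : ∀ i, i < 30851 → P i := stepQ 30850 Q30850 (allL N30850 (tt N30300 F284338) (tt N31077 (iv F285411)) (tt N31247 D64017) (tt N30299 (iv D63620)) (tt N30424 F284339) (tt N31164 (iv F285911)) (tt N30301 F284340) (tt N31063 (iv F285338)) (tt N30447 F284341) (tt N30328 F284342))
theorem Q30852 : ∀ i, i < 30852 → P i := stepQ 30851 Q30851 (allL N30851 (tt N31247 (iv F286281)) (tt N30851 F284343) (tt N30300 (iv D63621)) (tt N31087 (iv F285470)) (tt N30425 F284344) (tt N31165 (iv F285916)) (tt N30302 F284345) (tt N31065 (iv F285353)) (tt N30448 F284346) (tt N30329 F284347))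
theorem Q30853 : ∀ i, i < 30853 → P i := stepQ 30852 Q30852 (allL N30852 (tt N30302 F284348) (tt N31248 D64018) (tt N30301 (iv D63622)) (tt N31090 (iv F285487)) (tt N31095 (iv F285512)) (tt N31194 (iv F286036)) (tt N31247 (iv F286283)) (tt N30481 F284349) (tt N31249 D64019) (tt N30330 F284350))
theorem Q30854 : ∀ i, i < 30854 → P i := stepQ 30853 Q30853 (allL N30853 (tt N30303 F284351) (tt N30479 F284352) (tt N31249 (iv F286290)) (tt N30326 F284353) (tt N30475 F284354) (tt N30325 F284355) (tt N30447 F284356) (tt N30356 F284357) (tt N30301 (iv D63623)) (tt N30445 F284358))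
theorem Q30855 : ∀ i, i < 30855 → P i := stepQ 30854 Q30854 (allL N30854 (tt N31249 (iv F286289)) (tt N30854 F284359) (tt N30303 F284360) (tt N30336 (iv F284366)) (tt N30476 F284361) (tt N30327 F284362) (tt N30448 F284363) (tt N30357 F284364) (tt N30302 (iv D63624)) (tt N30446 F284365))
theorem Q30856 : ∀ i, i < 30856 → P i := stepQ 30855 Q30855 (allL N30855 (tt N30305 F284367) (tt N31013 (iv F284989)) (tt N30341 F284368) (tt N30304 (iv D63625)) (tt N30350 F284369) (tt N31161 (iv F285898)) (tt N30314 F284370) (tt N30306 F284371) (tt N31229 (iv F286210)) (tt N30349 F284372))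
theorem Q30857 : ∀ i, i < 30857 → P i := stepQ 30856 Q30856 (allL N30856 (tt N30308 F284373) (tt N30984 (iv F284791)) (tt N30306 (iv D63626)) (tt N30339 F284374) (tt N30349 F284375) (tt N31146 (iv F285833)) (tt N30311 F284376) (tt N30341 F284377) (tt N31203 (iv F286091)) (tt N30350 F284378))
theorem Q30858 : ∀ i, i < 30858 → P i := stepQ 30857 Q30857 (allL N30857 (tt N30309 F284379) (tt N31209 (iv F286117)) (tt N31203 (iv F286088)) (tt N31220 (iv F286167)) (tt N30442 F284380) (tt N31149 (iv F285842)) (tt N30312 F284381) (tt N31229 (iv F286209)) (tt N30306 (iv D63627)) (tt N31250 D64020))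
theorem Q30859 : ∀ i, i < 30859 → P i := stepQ 30858 Q30858 (allL N30858 (tt N31250 (iv F286297)) (tt N30310 F284382) (tt N31131 (iv F285743)) (tt N31183 (iv F285986)) (tt N30441 F284383) (tt N31015 (iv F285009)) (tt N30313 F284384) (tt N31125 (iv F285710)) (tt N30352 F284385) (tt N30309 (iv D63628)))
theorem Q30860 : ∀ i, i < 30860 → P i := stepQ 30859 Q30859 (allL N30859 (tt N30313 F284386) (tt N31058 (iv F285303)) (tt N31127 (iv F285721)) (tt N31224 (iv F286181)) (tt N30440 F284387) (tt N30436 F284388) (tt N31250 (iv F286299)) (tt N30319 F284389) (tt N30355 F284390) (tt N30312 (iv D63629)))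
theorem Q30861 : ∀ i, i < 30861 → P i := stepQ 30860 Q30860 (allL N30860 (tt N30315 F284391) (tt N31016 (iv F285014)) (tt N30347 F284392) (tt N31091 (iv F285492)) (tt N30354 F284393) (tt N30418 F284394) (tt N31229 (iv F286208)) (tt N30316 F284395) (tt N30314 (iv D63630)) (tt N31123 (iv F285698)))
theorem Q30862 : ∀ i, i < 30862 → P i := stepQ 30861 Q30861 (allL N30861 (tt N30317 F284396) (tt N31026 (iv F285078)) (tt N30383 F284397) (tt N31241 (iv F286255)) (tt N30342 F284398) (tt N30323 F284399) (tt N30319 F284400) (tt N31123 (iv F285696)) (tt N30384 F284401) (tt N30316 (iv D63631)))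
theorem Q30863 : ∀ i, i < 30863 → P i := stepQ 30862 Q30862 (allL N30862 (tt N30320 F284402) (tt N31036 (iv F285145)) (tt N31244 (iv F286269)) (tt N30318 (iv D63632)) (tt N31048 (iv F285236)) (tt N30443 F284403) (tt N30376 F284404) (tt N31201 (iv F286078)) (tt N30366 F284405) (tt N31251 D64021))
theorem Q30864 : ∀ i, i < 30864 → P i := stepQ 30863 Q30863 (allL N30863 (tt N30321 F284406) (tt N31041 (iv F285181)) (tt N30319 F284407) (tt N31251 (iv F286302)) (tt N30384 F284408) (tt N30333 F284409) (tt N30383 F284410) (tt N31127 (iv F285723)) (tt N30342 F284411) (tt N30318 (iv D63633)))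
theorem Q30865 : ∀ i, i < 30865 → P i := stepQ 30864 Q30864 (allL N30864 (tt N31251 (iv F286301)) (tt N30322 F284412) (tt N31246 (iv F286277)) (tt N30321 F284413) (tt N31050 (iv F285249)) (tt N30334 F284414) (tt N30380 F284415) (tt N31129 (iv F285735)) (tt N31151 (iv F285849)) (tt N30320 (iv D63634)))
theorem Q30866 : ∀ i, i < 30866 → P i := stepQ 30865 Q30865 (allL N30865 (tt N30324 F284416) (tt N31083 (iv F285442)) (tt N31252 D64022) (tt N30323 (iv D63635)) (tt N30328 F284417) (tt N31241 (iv F286256)) (tt N30325 F284418) (tt N31122 (iv F285689)) (tt N31116 (iv F285643)) (tt N30424 F284419))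
theorem Q30867 : ∀ i, i < 30867 → P i := stepQ 30866 Q30866 (allL N30866 (tt N31252 (iv F286305)) (tt N30866 F284420) (tt N30324 (iv D63636)) (tt N30427 F284421) (tt N30329 F284422) (tt N31242 (iv F286262)) (tt N30327 F284423) (tt N31124 (iv F285703)) (tt N31118 (iv F285661)) (tt N30425 F284424))
theorem Q30868 : ∀ i, i < 30868 → P i := stepQ 30867 Q30867 (allL N30867 (tt N30327 F284425) (tt N31253 D64023) (tt N30325 (iv D63637)) (tt N31096 (iv F285519)) (tt N30330 F284426) (tt N31249 (iv F286292)) (tt N31252 (iv F286308)) (tt N30495 F284427) (tt N31194 (iv F286038)) (tt N31095 (iv F285517)))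
theorem Q30869 : ∀ i, i < 30869 → P i := stepQ 30868 Q30868 (allL N30868 (tt N30329 F284428) (tt N31254 D64024) (tt N30328 (iv D63638)) (tt N31103 (iv F285563)) (tt N31252 (iv F286307)) (tt N31163 (iv F285907)) (tt N30330 F284429) (tt N31135 (iv F285770)) (tt N31119 (iv F285667)) (tt N31247 (iv F286285)))
theorem Q30870 : ∀ i, i < 30870 → P i := stepQ 30869 Q30869 (allL N30869 (tt N30869 F284430) (tt N30330 (iv D63639)) (tt N31211 (iv F286128)) (tt N31108 (iv F285595)) (tt N31253 (iv F286311)) (tt N31195 (iv F286043)) (tt N31254 (iv F286314)) (tt N30497 F284431) (tt N31255 D64025) (tt N31248 (iv F286288)))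
theorem Q30871 : ∀ i, i < 30871 → P i := stepQ 30870 Q30870 (allL N30870 (tt N30332 F284432) (tt N31255 (iv F286316)) (tt N30331 F284433) (tt N31133 (iv F285757)) (tt N31194 (iv F286035)) (tt N30478 F284434) (tt N31119 (iv F285666)) (tt N30498 F284435) (tt N30330 (iv D63640)) (tt N31044 (iv F285211)))
theorem Q30872 : ∀ i, i < 30872 → P i := stepQ 30871 Q30871 (allL N30871 (tt N30334 F284436) (tt N31141 (iv F285805)) (tt N31256 D64026) (tt N30333 (iv D63641)) (tt N31121 F285684) (tt N31251 (iv F286303)) (tt N30335 F284437) (tt N31126 (iv F285717)) (tt N31174 (iv F285956)) (tt N30443 F284438))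
theorem Q30873 : ∀ i, i < 30873 → P i := stepQ 30872 Q30872 (allL N30872 (tt N31256 (iv F286320)) (tt N30872 F284439) (tt N30334 (iv D63642)) (tt N30448 F284440) (tt N30499 F284441) (tt N31246 (iv F286279)) (tt N30336 F284442) (tt N31128 (iv F285730)) (tt N31175 (iv F285960)) (tt N30444 F284443))
theorem Q30874 : ∀ i, i < 30874 → P i := stepQ 30873 Q30873 (allL N30873 (tt N30336 F284444) (tt N31257 D64027) (tt N30335 (iv D63643)) (tt N31249 F286296) (tt N31176 (iv F285963)) (tt N31096 (iv F285521)) (tt N31256 (iv F286323)) (tt N30374 F284445) (tt N31258 D64028) (tt N31098 (iv F285532)))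
theorem Q30875 : ∀ i, i < 30875 → P i := stepQ 30874 Q30874 (allL N30874 (tt N30337 F284446) (tt N31187 (iv F285999)) (tt N31258 (iv F286328)) (tt N30347 F284447) (tt N31104 (iv F285569)) (tt N30422 F284448) (tt N31174 (iv F285955)) (tt N30376 F284449) (tt N30335 (iv D63644)) (tt N31259 D64029))
theorem Q30876 : ∀ i, i < 30876 → P i := stepQ 30875 Q30875 (allL N30875 (tt N31258 (iv F286327)) (tt N30875 F284450) (tt N30337 F284451) (tt N31092 (iv F285497)) (tt N31106 (iv F285583)) (tt N30423 F284452) (tt N31175 (iv F285959)) (tt N30378 F284453) (tt N30336 (iv D63645)) (tt N31260 D64030))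
theorem Q30877 : ∀ i, i < 30877 → P i := stepQ 30876 Q30876 (allL N30876 (tt N31259 (iv F286331)) (tt N30338 F284454) (tt N31260 (iv F286336)) (tt N30348 F284455) (tt N31088 (iv F285477)) (tt N30421 F284456) (tt N31171 (iv F285944)) (tt N30380 F284457) (tt N31020 (iv F285046)) (tt N30337 (iv D63646)))
theorem Q30878 : ∀ i, i < 30878 → P i := stepQ 30877 Q30877 (allL N30877 (tt N30340 F284458) (tt N30985 (iv F284799)) (tt N30355 F284459) (tt N31146 (iv F285832)) (tt N31123 (iv F285695)) (tt N30339 (iv D63647)) (tt N31144 (iv F285823)) (tt N30342 F284460) (tt N31127 (iv F285724)) (tt N30354 F284461))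
theorem Q30879 : ∀ i, i < 30879 → P i := stepQ 30878 Q30878 (allL N30878 (tt N30343 F284462) (tt N31003 (iv F284923)) (tt N31161 (iv F285896)) (tt N30342 F284463) (tt N31233 (iv F286224)) (tt N30341 (iv D63648)) (tt N30417 F284464) (tt N31146 (iv F285834)) (tt N31261 D64031) (tt N30386 F284465))
theorem Q30880 : ∀ i, i < 30880 → P i := stepQ 30879 Q30879 (allL N30879 (tt N30344 F284466) (tt N31191 (iv F286019)) (tt N31229 (iv F286207)) (tt N31174 (iv F285954)) (tt N30351 F284467) (tt N31261 (iv F286340)) (tt N30347 F284468) (tt N31203 (iv F286090)) (tt N30341 (iv D63649)) (tt N31262 D64032))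
theorem Q30881 : ∀ i, i < 30881 → P i := stepQ 30880 Q30880 (allL N30880 (tt N31261 (iv F286339)) (tt N30345 F284469) (tt N31061 (iv F285323)) (tt N31151 (iv F285847)) (tt N30986 (iv F284808)) (tt N30344 F284470) (tt N30416 F284471) (tt N31000 (iv F284903)) (tt N30343 (iv D63650)) (tt N31011 (iv F284979)))
theorem Q30882 : ∀ i, i < 30882 → P i := stepQ 30881 Q30881 (allL N30881 (tt N31262 (iv F286342)) (tt N30346 F284472) (tt N31125 (iv F285707)) (tt N31171 (iv F285942)) (tt N30352 F284473) (tt N31011 (iv F284976)) (tt N30348 F284474) (tt N31131 (iv F285746)) (tt N30441 F284475) (tt N30344 (iv D63651)))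
theorem Q30883 : ∀ i, i < 30883 → P i := stepQ 30882 Q30882 (allL N30882 (tt N30348 F284476) (tt N31053 (iv F285269)) (tt N31123 (iv F285694)) (tt N31259 (iv F286332)) (tt N30355 F284477) (tt N30420 F284478) (tt N31262 (iv F286344)) (tt N30383 F284479) (tt N30440 F284480) (tt N30347 (iv D63652)))
theorem Q30884 : ∀ i, i < 30884 → P i := stepQ 30883 Q30883 (allL N30883 (tt N30388 F284481) (tt N30350 (iv D63653)) (tt N30407 F284482) (tt N30395 F284483) (tt N31013 (iv F284991)) (tt N31227 (iv F286199)) (tt N30353 F284484) (tt N30406 F284485) (tt N31226 F286194) (tt N30984 (iv F284796)))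
theorem Q30885 : ∀ i, i < 30885 → P i := stepQ 30884 Q30884 (allL N30884 (tt N30352 F284486) (tt N31161 (iv F285895)) (tt N31144 (iv F285821)) (tt N31014 (iv F284999)) (tt N31262 (iv F286343)) (tt N31013 F284995) (tt N30355 F284487) (tt N31132 (iv F285754)) (tt N31250 (iv F286300)) (tt N30351 (iv D63654)))
theorem Q30886 : ∀ i, i < 30886 → P i := stepQ 30885 Q30885 (allL N30885 (tt N30389 F284488) (tt N30354 F284489) (tt N30396 F284490) (tt N31227 (iv F286198)) (tt N31016 (iv F285016)) (tt N30395 F284491) (tt N31226 (iv F286192)) (tt N30385 F284492) (tt N30353 (iv D63655)) (tt N30985 (iv F284804)))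
theorem Q30887 : ∀ i, i < 30887 → P i := stepQ 30886 Q30886 (allL N30886 (tt N30357 F284493) (tt N31263 D64033) (tt N30356 (iv D63656)) (tt N30374 F284494) (tt N31208 (iv F286111)) (tt N30495 F284495) (tt N31082 (iv F285439)) (tt N31249 (iv F286294)) (tt N30481 F284496) (tt N31210 (iv F286126)))
theorem Q30888 : ∀ i, i < 30888 → P i := stepQ 30887 Q30887 (allL N30887 (tt N30359 F284497) (tt N30429 F284498) (tt N31264 D64034) (tt N30358 (iv D63657)) (tt N30397 F284499) (tt N31202 (iv F286084)) (tt N31126 (iv F285716)) (tt N30366 F284500) (tt N31201 F286079) (tt N30995 (iv F284875)))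
theorem Q30889 : ∀ i, i < 30889 → P i := stepQ 30888 Q30888 (allL N30888 (tt N30360 F284501) (tt N30430 F284502) (tt N31016 (iv F285015)) (tt N31202 (iv F286082)) (tt N30396 F284503) (tt N30358 (iv D63658)) (tt N31145 (iv F285829)) (tt N30367 F284504) (tt N30382 F284505) (tt N30996 (iv F284882)))
theorem Q30890 : ∀ i, i < 30890 → P i := stepQ 30889 Q30889 (allL N30889 (tt N31264 (iv F286350)) (tt N30889 F284506) (tt N30359 (iv D63659)) (tt N31069 (iv F285379)) (tt N30398 F284507) (tt N31205 (iv F286101)) (tt N31128 (iv F285729)) (tt N30368 F284508) (tt N31204 F286097) (tt N30997 (iv F284888)))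
theorem Q30891 : ∀ i, i < 30891 → P i := stepQ 30890 Q30890 (allL N30890 (tt N30362 F284509) (tt N31028 (iv F285094)) (tt N31265 D64035) (tt N30361 (iv D63660)) (tt N30981 (iv F284771)) (tt N31266 D64036) (tt N30370 F284510) (tt N30995 (iv F284874)) (tt N31267 D64037) (tt N30366 F284511))
theorem Q30892 : ∀ i, i < 30892 → P i := stepQ 30891 Q30891 (allL N30891 (tt N30363 F284512) (tt N31029 (iv F285100)) (tt N31026 (iv F285079)) (tt N31266 (iv F286357)) (tt N30500 F284513) (tt N30361 (iv D63661)) (tt N31018 (iv F285031)) (tt N30996 (iv F284880)) (tt N31040 (iv F285177)) (tt N30367 F284514))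
theorem Q30893 : ∀ i, i < 30893 → P i := stepQ 30892 Q30892 (allL N30892 (tt N31265 (iv F286353)) (tt N30892 F284515) (tt N30362 (iv D63662)) (tt N31084 (iv F285450)) (tt N30982 (iv F284778)) (tt N31268 D64038) (tt N30371 F284516) (tt N30997 (iv F284887)) (tt N31269 D64039) (tt N30368 F284517))
theorem Q30894 : ∀ i, i < 30894 → P i := stepQ 30893 Q30893 (allL N30893 (tt N31266 (iv F286356)) (tt N30364 F284518) (tt N31268 (iv F286362)) (tt N30363 F284519) (tt N31060 (iv F285318)) (tt N30362 (iv D63663)) (tt N31020 (iv F285044)) (tt N30998 (iv F284892)) (tt N31171 (iv F285945)) (tt N30369 F284520))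
theorem Q30895 : ∀ i, i < 30895 → P i := stepQ 30894 Q30894 (allL N30894 (tt N31267 (iv F286359)) (tt N30365 F284521) (tt N31269 (iv F286365)) (tt N31011 (iv F284974)) (tt N30983 (iv F284785)) (tt N31171 (iv F285943)) (tt N30372 F284522) (tt N30999 (iv F284898)) (tt N30362 (iv D63664)) (tt N31151 (iv F285850)))
theorem Q30896 : ∀ i, i < 30896 → P i := stepQ 30895 Q30895 (allL N30895 (tt N30368 F284523) (tt N31270 D64040) (tt N30366 (iv D63665)) (tt N31082 F285440) (tt N31047 (iv F285229)) (tt N31271 D64041) (tt N30374 F284524) (tt N31264 (iv F286352)) (tt N31244 (iv F286272)) (tt N31265 (iv F286355)))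
theorem Q30897 : ∀ i, i < 30897 → P i := stepQ 30896 Q30896 (allL N30896 (tt N30369 F284525) (tt N31035 (iv F285138)) (tt N31271 (iv F286370)) (tt N30367 F284526) (tt N31198 (iv F286061)) (tt N30366 (iv D63666)) (tt N31023 (iv F285063)) (tt N31202 (iv F286085)) (tt N30443 F284527) (tt N31266 (iv F286358)))
theorem Q30898 : ∀ i, i < 30898 → P i := stepQ 30897 Q30897 (allL N30897 (tt N31271 (iv F286369)) (tt N30897 F284528) (tt N30369 F284529) (tt N31006 (iv F284939)) (tt N31199 (iv F286067)) (tt N30368 (iv D63667)) (tt N31024 (iv F285069)) (tt N31205 (iv F286102)) (tt N30444 F284530) (tt N31268 (iv F286363)))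
theorem Q30899 : ∀ i, i < 30899 → P i := stepQ 30898 Q30898 (allL N30898 (tt N30371 F284531) (tt N31272 D64042) (tt N30370 (iv D63668)) (tt N31210 (iv F286121)) (tt N31178 (iv F285972)) (tt N31094 (iv F285507)) (tt N31265 (iv F286354)) (tt N31098 (iv F285531)) (tt N31273 D64043) (tt N30374 F284532))
theorem Q30900 : ∀ i, i < 30900 → P i := stepQ 30899 Q30899 (allL N30899 (tt N30372 F284533) (tt N31214 (iv F286143)) (tt N31273 (iv F286375)) (tt N31009 (iv F284959)) (tt N31180 (iv F285978)) (tt N31008 F284955) (tt N31267 (iv F286360)) (tt N31023 (iv F285064)) (tt N30370 (iv D63669)) (tt N31274 D64044))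
theorem Q30901 : ∀ i, i < 30901 → P i := stepQ 30900 Q30900 (allL N30900 (tt N31273 (iv F286374)) (tt N30900 F284534) (tt N30372 F284535) (tt N31199 (iv F286066)) (tt N31182 (iv F285984)) (tt N31010 (iv F284967)) (tt N31269 (iv F286366)) (tt N31024 (iv F285070)) (tt N30371 (iv D63670)) (tt N31275 D64045))
theorem Q30902 : ∀ i, i < 30902 → P i := stepQ 30901 Q30901 (allL N30901 (tt N31274 (iv F286376)) (tt N30373 F284536) (tt N31275 (iv F286381)) (tt N30416 F284537) (tt N31152 (iv F285854)) (tt N30415 F284538) (tt N31151 F285851) (tt N31020 (iv F285045)) (tt N30380 F284539) (tt N30372 (iv D63671)))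
theorem Q30903 : ∀ i, i < 30903 → P i := stepQ 30902 Q30902 (allL N30902 (tt N30902 F284540) (tt N30374 (iv D63672)) (tt N31216 (iv F286153)) (tt N31263 (iv F286347)) (tt N31184 (iv F285992)) (tt N31276 D64046) (tt N31270 (iv F286368)) (tt N31257 (iv F286326)) (tt N31277 D64047) (tt N31272 (iv F286373)))
theorem Q30904 : ∀ i, i < 30904 → P i := stepQ 30903 Q30903 (allL N30903 (tt N30377 F284541) (tt N31276 (iv F286385)) (tt N30375 F284542) (tt N30495 F284543) (tt N31278 D64048) (tt N30374 (iv D63673)) (tt N31022 (iv F285058)) (tt N31096 (iv F285523)) (tt N30428 (iv F284544)) (tt N31094 (iv F285509)))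
theorem Q30905 : ∀ i, i < 30905 → P i := stepQ 30904 Q30904 (allL N30904 (tt N30378 F284545) (tt N31277 (iv F286390)) (tt N30376 F284546) (tt N31240 (iv F286251)) (tt N31186 (iv F285997)) (tt N30428 F284547) (tt N31244 (iv F286271)) (tt N31258 (iv F286330)) (tt N30374 (iv D63674)) (tt N31279 D64049))
theorem Q30906 : ∀ i, i < 30906 → P i := stepQ 30905 Q30905 (allL N30905 (tt N30379 F284548) (tt N30422 F284549) (tt N31278 (iv F286393)) (tt N30381 F284550) (tt N30375 (iv D63675)) (tt N31187 (iv F286001)) (tt N30988 (iv F284824)) (tt N30393 F284551) (tt N30412 F284552) (tt N31052 (iv F285267)))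
theorem Q30907 : ∀ i, i < 30907 → P i := stepQ 30906 Q30906 (allL N30906 (tt N30380 F284553) (tt N31072 (iv F285390)) (tt N31279 (iv F286398)) (tt N30383 F284554) (tt N31188 (iv F286006)) (tt N30426 F284555) (tt N31251 (iv F286304)) (tt N31259 (iv F286334)) (tt N31274 (iv F286379)) (tt N30376 (iv D63676)))
theorem Q30908 : ∀ i, i < 30908 → P i := stepQ 30907 Q30907 (allL N30907 (tt N31278 (iv F286392)) (tt N30907 F284556) (tt N30379 F284557) (tt N30431 F284558) (tt N30377 (iv D63677)) (tt N31189 (iv F286011)) (tt N30990 (iv F284838)) (tt N30394 F284559) (tt N30413 F284560) (tt N31054 (iv F285281)))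
theorem Q30909 : ∀ i, i < 30909 → P i := stepQ 30908 Q30908 (allL N30908 (tt N31279 (iv F286397)) (tt N30908 F284561) (tt N30380 F284562) (tt N31242 (iv F286261)) (tt N31190 (iv F286016)) (tt N30427 F284563) (tt N31246 (iv F286280)) (tt N31260 (iv F286338)) (tt N31275 (iv F286383)) (tt N30378 (iv D63678)))
theorem Q30910 : ∀ i, i < 30910 → P i := stepQ 30909 Q30909 (allL N30909 (tt N30390 F284564) (tt N30386 F284565) (tt N31226 (iv F286190)) (tt N30385 (iv D63679)) (tt N31145 (iv F285828)) (tt N30406 F284566) (tt N30396 F284567) (tt N31227 (iv F286201)) (tt N30407 F284568) (tt N31003 (iv F284926)))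
theorem Q30911 : ∀ i, i < 30911 → P i := stepQ 30910 Q30910 (allL N30910 (tt N30387 F284569) (tt N31145 (iv F285827)) (tt N31191 (iv F286020)) (tt N31232 (iv F286220)) (tt N30386 (iv D63680)) (tt N31156 (iv F285872)) (tt N30430 F284570) (tt N31070 (iv F285384)) (tt N31027 (iv F285091)) (tt N31233 (iv F286226)))
theorem Q30912 : ∀ i, i < 30912 → P i := stepQ 30911 Q30911 (allL N30911 (tt N30392 F284571) (tt N31280 D64050) (tt N30391 (iv D63681)) (tt N30472 F284572) (tt N30449 F284573) (tt N30432 F284574) (tt N30478 F284575) (tt N30467 F284576) (tt N31167 (iv F285930)) (tt N31045 (iv F285219)))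
theorem Q30913 : ∀ i, i < 30913 → P i := stepQ 30912 Q30912 (allL N30912 (tt N30394 F284577) (tt N31281 D64051) (tt N30393 (iv D63682)) (tt N31034 (iv F285133)) (tt N31096 (iv F285520)) (tt N31217 (iv F286157)) (tt N31046 (iv F285224)) (tt N31278 (iv F286395)) (tt N30494 F284578) (tt N31071 (iv F285388)))
theorem Q30914 : ∀ i, i < 30914 → P i := stepQ 30913 Q30913 (allL N30913 (tt N30398 F284579) (tt N31282 D64052) (tt N30397 (iv D63683)) (tt N31119 (iv F285664)) (tt N31264 (iv F286351)) (tt N30496 F284580) (tt N31133 (iv F285759)) (tt N31047 (iv F285232)) (tt N31283 D64053) (tt N31004 (iv F284931)))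
theorem Q30915 : ∀ i, i < 30915 → P i := stepQ 30914 Q30914 (allL N30914 (tt N30399 F284581) (tt N30433 F284582) (tt N31283 (iv F286414)) (tt N30460 F284583) (tt N31201 (iv F286077)) (tt N30459 F284584) (tt N31134 (iv F285766)) (tt N31048 (iv F285239)) (tt N30397 (iv D63684)) (tt N31284 D64054))
theorem Q30916 : ∀ i, i < 30916 → P i := stepQ 30915 Q30915 (allL N30915 (tt N31283 (iv F286413)) (tt N30915 F284585) (tt N30399 F284586) (tt N31107 (iv F285589)) (tt N31204 (iv F286095)) (tt N30461 F284587) (tt N31111 (iv F285609)) (tt N31049 (iv F285245)) (tt N30398 (iv D63685)) (tt N31285 D64055))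
theorem Q30917 : ∀ i, i < 30917 → P i := stepQ 30916 Q30916 (allL N30916 (tt N31284 (iv F286416)) (tt N30400 F284588) (tt N31285 (iv F286421)) (tt N30458 F284589) (tt N31129 (iv F285734)) (tt N30457 F284590) (tt N31080 (iv F285430)) (tt N31050 (iv F285252)) (tt N31007 (iv F284947)) (tt N30399 (iv D63686)))
theorem Q30918 : ∀ i, i < 30918 → P i := stepQ 30917 Q30917 (allL N30917 (tt N30403 F284591) (tt N30438 F284592) (tt N31286 D64056) (tt N30402 (iv D63687)) (tt N30463 F284593) (tt N31198 (iv F286062)) (tt N31122 (iv F285688)) (tt N30409 F284594) (tt N30473 F284595) (tt N31057 (iv F285301)))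
theorem Q30919 : ∀ i, i < 30919 → P i := stepQ 30918 Q30918 (allL N30918 (tt N31286 (iv F286423)) (tt N30918 F284596) (tt N30403 (iv D63688)) (tt N31010 (iv F284965)) (tt N30464 F284597) (tt N31199 (iv F286068)) (tt N31124 (iv F285702)) (tt N30410 F284598) (tt N30474 F284599) (tt N31059 (iv F285315)))
theorem Q30920 : ∀ i, i < 30920 → P i := stepQ 30919 Q30919 (allL N30919 (tt N30405 F284600) (tt N30442 F284601) (tt N31227 (iv F286197)) (tt N30408 F284602) (tt N31209 (iv F286118)) (tt N30407 F284603) (tt N30404 (iv D63689)) (tt N31226 (iv F286193)) (tt N30406 F284604) (tt N31062 (iv F285333)))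
theorem Q30921 : ∀ i, i < 30921 → P i := stepQ 30920 Q30920 (allL N30920 (tt N30410 F284605) (tt N31287 D64057) (tt N30409 (iv D63690)) (tt N31022 (iv F285057)) (tt N30496 F284606) (tt N31207 (iv F286108)) (tt N30495 F284607) (tt N31286 (iv F286425)) (tt N30477 F284608) (tt N31075 (iv F285405)))
theorem Q30922 : ∀ i, i < 30922 → P i := stepQ 30921 Q30921 (allL N30921 (tt N30413 F284609) (tt N31288 D64058) (tt N30412 (iv D63691)) (tt N31213 (iv F286138)) (tt N30428 F284610) (tt N31212 (iv F286134)) (tt N31071 (iv F285387)) (tt N30494 F284611) (tt N31278 (iv F286396)) (tt N31046 (iv F285227)))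
theorem Q30923 : ∀ i, i < 30923 → P i := stepQ 30922 Q30922 (allL N30922 (tt N30415 F284612) (tt N30988 (iv F284822)) (tt N31289 D64059) (tt N30414 (iv D63692)) (tt N30490 F284613) (tt N31274 (iv F286378)) (tt N30422 F284614) (tt N31017 (iv F285024)) (tt N30426 F284615) (tt N31008 (iv F284954)))
theorem Q30924 : ∀ i, i < 30924 → P i := stepQ 30923 Q30923 (allL N30923 (tt N30416 F284616) (tt N30989 (iv F284829)) (tt N31058 (iv F285304)) (tt N31274 (iv F286377)) (tt N31051 (iv F285257)) (tt N30414 (iv D63693)) (tt N31261 (iv F286341)) (tt N31018 (iv F285032)) (tt N30417 F284617) (tt N31009 (iv F284963)))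
theorem Q30925 : ∀ i, i < 30925 → P i := stepQ 30924 Q30924 (allL N30924 (tt N31289 (iv F286435)) (tt N30924 F284618) (tt N30415 (iv D63694)) (tt N31059 (iv F285310)) (tt N30491 F284619) (tt N31275 (iv F286382)) (tt N30423 F284620) (tt N31019 (iv F285039)) (tt N30427 F284621) (tt N31010 (iv F284971)))
theorem Q30926 : ∀ i, i < 30926 → P i := stepQ 30925 Q30925 (allL N30925 (tt N30419 F284622) (tt N31068 (iv F285367)) (tt N31290 D64060) (tt N30418 (iv D63695)) (tt N31063 (iv F285336)) (tt N31091 (iv F285493)) (tt N31057 (iv F285298)) (tt N30424 F284623) (tt N30465 F284624) (tt N31122 (iv F285691)))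
theorem Q30927 : ∀ i, i < 30927 → P i := stepQ 30926 Q30926 (allL N30926 (tt N31290 (iv F286439)) (tt N30926 F284625) (tt N30419 (iv D63696)) (tt N30423 F284626) (tt N31065 (iv F285351)) (tt N31092 (iv F285498)) (tt N31059 (iv F285312)) (tt N30425 F284627) (tt N30466 F284628) (tt N31124 (iv F285705)))
theorem Q30928 : ∀ i, i < 30928 → P i := stepQ 30927 Q30927 (allL N30927 (tt N30421 F284629) (tt N31052 (iv F285262)) (tt N31291 D64061) (tt N30420 (iv D63697)) (tt N30492 F284630) (tt N31259 (iv F286333)) (tt N31008 (iv F284951)) (tt N30426 F284631) (tt N31017 (iv F285025)) (tt N30422 F284632))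
theorem Q30929 : ∀ i, i < 30929 → P i := stepQ 30928 Q30928 (allL N30928 (tt N31291 (iv F286443)) (tt N30928 F284633) (tt N30421 (iv D63698)) (tt N31124 (iv F285700)) (tt N30493 F284634) (tt N31260 (iv F286337)) (tt N31010 (iv F284968)) (tt N30427 F284635) (tt N31019 (iv F285040)) (tt N30423 F284636))
theorem Q30930 : ∀ i, i < 30930 → P i := stepQ 30929 Q30929 (allL N30929 (tt N30423 F284637) (tt N31292 D64062) (tt N30422 (iv D63699)) (tt N31290 (iv F286440)) (tt N30494 F284638) (tt N31258 (iv F286329)) (tt N31289 (iv F286437)) (tt N30428 F284639) (tt N31096 (iv F285524)) (tt N31291 (iv F286446)))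
theorem Q30931 : ∀ i, i < 30931 → P i := stepQ 30930 Q30930 (allL N30930 (tt N30425 F284640) (tt N31293 D64063) (tt N30424 (iv D63700)) (tt N30428 F284641) (tt N31247 (iv F286282)) (tt N31240 (iv F286252)) (tt N31095 (iv F285514)) (tt N31290 (iv F286441)) (tt N31045 (iv F285218)) (tt N31252 (iv F286309)))
theorem Q30932 : ∀ i, i < 30932 → P i := stepQ 30931 Q30931 (allL N30931 (tt N30427 F284642) (tt N31294 D64064) (tt N30426 (iv D63701)) (tt N31252 (iv F286306)) (tt N31046 (iv F285222)) (tt N31279 (iv F286399)) (tt N31096 (iv F285522)) (tt N31291 (iv F286445)) (tt N31289 (iv F286438)) (tt N30428 F284643))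
theorem Q30933 : ∀ i, i < 30933 → P i := stepQ 30932 Q30932 (allL N30932 (tt N30932 F284644) (tt N30428 (iv D63702)) (tt N31281 (iv F286408)) (tt N31293 (iv F286451)) (tt N31288 (iv F286433)) (tt N31277 (iv F286391)) (tt N31097 (iv F285527)) (tt N31292 (iv F286449)) (tt N31276 F286388) (tt N31294 (iv F286453)))
theorem Q30934 : ∀ i, i < 30934 → P i := stepQ 30933 Q30933 (allL N30933 (tt N30431 F284645) (tt N31295 D64065) (tt N30429 (iv D63703)) (tt N31278 (iv F286394)) (tt N30432 F284646) (tt N31238 (iv F286244)) (tt N31153 (iv F285860)) (tt N31034 (iv F285136)) (tt N31237 F286240) (tt N31230 (iv F286214)))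
theorem Q30935 : ∀ i, i < 30935 → P i := stepQ 30934 Q30934 (allL N30934 (tt N30934 F284647) (tt N30432 (iv D63704)) (tt N31282 (iv F286411)) (tt N30497 F284648) (tt N31295 (iv F286455)) (tt N31280 (iv F286404)) (tt N31162 (iv F285903)) (tt N31108 (iv F285597)) (tt N31296 D64066) (tt N31239 (iv F286248)))
theorem Q30936 : ∀ i, i < 30936 → P i := stepQ 30935 Q30935 (allL N30935 (tt N30434 F284649) (tt N31296 (iv F286457)) (tt N30433 F284650) (tt N31173 (iv F285951)) (tt N31237 (iv F286239)) (tt N31167 (iv F285927)) (tt N31163 (iv F285908)) (tt N31109 (iv F285601)) (tt N30432 (iv D63705)) (tt N31297 D64067))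
theorem Q30937 : ∀ i, i < 30937 → P i := stepQ 30936 Q30936 (allL N30936 (tt N30435 F284651) (tt N31284 (iv F286417)) (tt N31297 (iv F286459)) (tt N31117 (iv F285649)) (tt N31154 (iv F285864)) (tt N31116 F285645) (tt N31164 (iv F285912)) (tt N31110 (iv F285605)) (tt N31241 (iv F286258)) (tt N30433 (iv D63706)))
theorem Q30938 : ∀ i, i < 30938 → P i := stepQ 30937 Q30937 (allL N30937 (tt N31297 (iv F286458)) (tt N30937 F284652) (tt N30435 F284653) (tt N31170 (iv F285939)) (tt N31157 (iv F285876)) (tt N31118 (iv F285658)) (tt N31165 (iv F285917)) (tt N31112 (iv F285615)) (tt N31242 (iv F286264)) (tt N30434 (iv D63707)))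
theorem Q30939 : ∀ i, i < 30939 → P i := stepQ 30938 Q30938 (allL N30938 (tt N30437 F284654) (tt N31057 (iv F285296)) (tt N31298 D64068) (tt N30436 (iv D63708)) (tt N30465 F284655) (tt N31224 (iv F286182)) (tt N31068 (iv F285370)) (tt N30447 F284656) (tt N31063 (iv F285339)) (tt N30438 F284657))
theorem Q30940 : ∀ i, i < 30940 → P i := stepQ 30939 Q30939 (allL N30939 (tt N31298 (iv F286460)) (tt N30939 F284658) (tt N30437 (iv D63709)) (tt N31128 (iv F285727)) (tt N30466 F284659) (tt N31225 (iv F286186)) (tt N31069 (iv F285376)) (tt N30448 F284660) (tt N31065 (iv F285354)) (tt N30439 F284661))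
theorem Q30941 : ∀ i, i < 30941 → P i := stepQ 30940 Q30940 (allL N30940 (tt N30439 F284662) (tt N31299 D64069) (tt N30438 (iv D63710)) (tt N31200 (iv F286071)) (tt N30467 F284663) (tt N31223 (iv F286178)) (tt N31147 (iv F285838)) (tt N30449 F284664) (tt N31192 (iv F286028)) (tt N31298 (iv F286463)))
theorem Q30942 : ∀ i, i < 30942 → P i := stepQ 30941 Q30941 (allL N30941 (tt N30441 F284665) (tt N31062 (iv F285330)) (tt N31132 (iv F285751)) (tt N31040 (iv F285174)) (tt N31250 (iv F286298)) (tt N31012 (iv F284985)) (tt N30440 (iv D63711)) (tt N31144 (iv F285824)) (tt N31262 (iv F286345)) (tt N30442 F284666))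
theorem Q30943 : ∀ i, i < 30943 → P i := stepQ 30942 Q30942 (allL N30942 (tt N30444 F284667) (tt N31300 D64070) (tt N30443 (iv D63712)) (tt N30449 F284668) (tt N31197 (iv F286054)) (tt N31244 (iv F286270)) (tt N31098 F285533) (tt N31200 (iv F286073)) (tt N31271 (iv F286371)) (tt N31256 (iv F286324)))
theorem Q30944 : ∀ i, i < 30944 → P i := stepQ 30943 Q30943 (allL N30943 (tt N30446 F284669) (tt N31301 D64071) (tt N30445 (iv D63713)) (tt N31098 (iv F285530)) (tt N30478 F284670) (tt N31095 (iv F285513)) (tt N30449 F284671) (tt N31210 (iv F286124)) (tt N31044 (iv F285210)) (tt N31249 (iv F286295)))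
theorem Q30945 : ∀ i, i < 30945 → P i := stepQ 30944 Q30944 (allL N30944 (tt N30448 F284672) (tt N31302 D64072) (tt N30447 (iv D63714)) (tt N31256 (iv F286321)) (tt N31045 (iv F285214)) (tt N31245 (iv F286275)) (tt N31249 (iv F286293)) (tt N31298 (iv F286462)) (tt N31247 (iv F286284)) (tt N30449 F284673))
theorem Q30946 : ∀ i, i < 30946 → P i := stepQ 30945 Q30945 (allL N30945 (tt N30945 F284674) (tt N30449 (iv D63715)) (tt N31287 (iv F286428)) (tt N31300 (iv F286468)) (tt N31280 (iv F286403)) (tt N31243 (iv F286267)) (tt N31301 (iv F286472)) (tt N31299 (iv F286466)) (tt N31193 (iv F286032)) (tt N31302 (iv F286474)))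
theorem Q30947 : ∀ i, i < 30947 → P i := stepQ 30946 Q30946 (allL N30946 (tt N30451 F284675) (tt N31113 (iv F285617)) (tt N31303 D64073) (tt N30450 (iv D63716)) (tt N31042 (iv F285190)) (tt N31110 (iv F285604)) (tt N30473 F284676) (tt N31116 (iv F285642)) (tt N31122 (iv F285690)) (tt N30453 F284677))
theorem Q30948 : ∀ i, i < 30948 → P i := stepQ 30947 Q30947 (allL N30947 (tt N30452 F284678) (tt N31114 (iv F285624)) (tt N31139 (iv F285790)) (tt N31110 (iv F285603)) (tt N30980 (iv F284764)) (tt N30450 (iv D63717)) (tt N31140 (iv F285801)) (tt N31117 (iv F285652)) (tt N30462 F284679) (tt N30454 F284680))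
theorem Q30949 : ∀ i, i < 30949 → P i := stepQ 30948 Q30948 (allL N30948 (tt N31303 (iv F286475)) (tt N30948 F284681) (tt N30451 (iv D63718)) (tt N31079 F285426) (tt N31043 (iv F285198)) (tt N31112 (iv F285614)) (tt N30474 F284682) (tt N31118 (iv F285660)) (tt N31124 (iv F285704)) (tt N30455 F284683))
theorem Q30950 : ∀ i, i < 30950 → P i := stepQ 30949 Q30949 (allL N30949 (tt N30455 F284684) (tt N31304 D64074) (tt N30453 (iv D63719)) (tt N31166 (iv F285920)) (tt N31192 (iv F286025)) (tt N31109 (iv F285600)) (tt N31120 (iv F285671)) (tt N31167 (iv F285929)) (tt N30467 F284685) (tt N31303 (iv F286477)))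
theorem Q30951 : ∀ i, i < 30951 → P i := stepQ 30950 Q30950 (allL N30950 (tt N30457 F284686) (tt N31116 (iv F285639)) (tt N31305 D64075) (tt N30456 (iv D63720)) (tt N30470 F284687) (tt N31284 (iv F286419)) (tt N30468 F284688) (tt N31113 (iv F285620)) (tt N31083 (iv F285447)) (tt N30459 F284689))
theorem Q30952 : ∀ i, i < 30952 → P i := stepQ 30951 Q30951 (allL N30951 (tt N30458 F284690) (tt N31117 (iv F285647)) (tt N31140 (iv F285798)) (tt N31284 (iv F286418)) (tt N30462 F284691) (tt N30456 (iv D63721)) (tt N31139 (iv F285793)) (tt N31114 (iv F285628)) (tt N30980 (iv F284768)) (tt N30460 F284692))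
theorem Q30953 : ∀ i, i < 30953 → P i := stepQ 30952 Q30952 (allL N30952 (tt N31305 (iv F286480)) (tt N30952 F284693) (tt N30457 (iv D63722)) (tt N31100 (iv F285542)) (tt N30471 F284694) (tt N31285 (iv F286422)) (tt N30469 F284695) (tt N31115 (iv F285635)) (tt N31084 (iv F285454)) (tt N30461 F284696))
theorem Q30954 : ∀ i, i < 30954 → P i := stepQ 30953 Q30953 (allL N30953 (tt N30461 F284697) (tt N31306 D64076) (tt N30459 (iv D63723)) (tt N31176 (iv F285962)) (tt N30477 F284698) (tt N31283 (iv F286415)) (tt N30498 F284699) (tt N31177 (iv F285969)) (tt N30496 F284700) (tt N31305 (iv F286483)))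
theorem Q30955 : ∀ i, i < 30955 → P i := stepQ 30954 Q30954 (allL N30954 (tt N30464 F284701) (tt N31307 D64077) (tt N30463 (iv D63724)) (tt N31143 (iv F285817)) (tt N31286 (iv F286424)) (tt N31047 (iv F285230)) (tt N31135 (iv F285769)) (tt N30496 F284702) (tt N31177 (iv F285970)) (tt N31067 (iv F285365)))
theorem Q30956 : ∀ i, i < 30956 → P i := stepQ 30955 Q30955 (allL N30955 (tt N30466 F284703) (tt N31308 D64078) (tt N30465 (iv D63725)) (tt N31194 (iv F286034)) (tt N31298 (iv F286461)) (tt N31090 (iv F285488)) (tt N31168 (iv F285932)) (tt N31045 (iv F285217)) (tt N31290 (iv F286442)) (tt N30467 F284704))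
theorem Q30957 : ∀ i, i < 30957 → P i := stepQ 30956 Q30956 (allL N30956 (tt N30956 F284705) (tt N30467 (iv D63726)) (tt N31307 (iv F286489)) (tt N31195 (iv F286042)) (tt N31299 (iv F286465)) (tt N31108 (iv F285596)) (tt N31172 (iv F285948)) (tt N31280 (iv F286406)) (tt N31304 (iv F286479)) (tt N31308 (iv F286492)))
theorem Q30958 : ∀ i, i < 30958 → P i := stepQ 30957 Q30957 (allL N30957 (tt N30469 F284706) (tt N31309 D64079) (tt N30468 (iv D63727)) (tt N31197 (iv F286053)) (tt N30472 F284707) (tt N31208 (iv F286112)) (tt N31305 (iv F286482)) (tt N31044 (iv F285209)) (tt N31210 (iv F286125)) (tt N30498 F284708))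
theorem Q30959 : ∀ i, i < 30959 → P i := stepQ 30958 Q30958 (allL N30958 (tt N30471 F284709) (tt N31310 D64080) (tt N30470 (iv D63728)) (tt N30478 F284710) (tt N31305 (iv F286481)) (tt N31133 (iv F285758)) (tt N30472 F284711) (tt N31120 (iv F285672)) (tt N31166 (iv F285923)) (tt N30477 F284712))
theorem Q30960 : ∀ i, i < 30960 → P i := stepQ 30959 Q30959 (allL N30959 (tt N30959 F284713) (tt N30472 (iv D63729)) (tt N31255 (iv F286317)) (tt N31280 (iv F286402)) (tt N31309 (iv F286494)) (tt N30497 F284714) (tt N31310 (iv F286498)) (tt N31195 (iv F286044)) (tt N31211 (iv F286131)) (tt N31196 (iv F286051)))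
theorem Q30961 : ∀ i, i < 30961 → P i := stepQ 30960 Q30960 (allL N30960 (tt N30474 F284715) (tt N31311 D64081) (tt N30473 (iv D63730)) (tt N31208 (iv F286110)) (tt N31177 (iv F285968)) (tt N31197 (iv F286055)) (tt N31303 (iv F286476)) (tt N30477 F284716) (tt N31286 (iv F286426)) (tt N31120 (iv F285674)))
theorem Q30962 : ∀ i, i < 30962 → P i := stepQ 30961 Q30961 (allL N30961 (tt N30476 F284717) (tt N31312 D64082) (tt N30475 (iv D63731)) (tt N30477 F284718) (tt N31249 (iv F286291)) (tt N31044 (iv F285207)) (tt N31045 (iv F285216)) (tt N31208 (iv F286113)) (tt N31095 (iv F285516)) (tt N30478 F284719))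
theorem Q30963 : ∀ i, i < 30963 → P i := stepQ 30962 Q30962 (allL N30962 (tt N30962 F284720) (tt N30477 (iv D63732)) (tt N31193 (iv F286030)) (tt N31312 (iv F286504)) (tt N31306 (iv F286485)) (tt N31206 (iv F286105)) (tt N31196 (iv F286049)) (tt N31311 (iv F286501)) (tt N31287 (iv F286431)) (tt N31310 (iv F286499)))
theorem Q30964 : ∀ i, i < 30964 → P i := stepQ 30963 Q30963 (allL N30963 (tt N30963 F284721) (tt N30478 (iv D63733)) (tt N30497 F284722) (tt N31310 (iv F286497)) (tt N31301 (iv F286471)) (tt N31255 (iv F286318)) (tt N31280 (iv F286405)) (tt N31211 (iv F286130)) (tt N31195 (iv F286045)) (tt N31312 (iv F286505)))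
theorem Q30965 : ∀ i, i < 30965 → P i := stepQ 30964 Q30964 (allL N30964 (tt N30480 F284723) (tt N31313 D64083) (tt N30479 (iv D63734)) (tt N31094 (iv F285506)) (tt N30481 F284724) (tt N31210 (iv F286123)) (tt N31075 (iv F285404)) (tt N31095 (iv F285515)) (tt N31208 (iv F286114)) (tt N30495 F284725))
theorem Q30966 : ∀ i, i < 30966 → P i := stepQ 30965 Q30965 (allL N30965 (tt N30965 F284726) (tt N30481 (iv D63735)) (tt N31312 (iv F286503)) (tt N31239 (iv F286246)) (tt N31313 (iv F286507)) (tt N31196 (iv F286048)) (tt N31081 (iv F285435)) (tt N31248 (iv F286287)) (tt N31263 (iv F286349)) (tt N30497 F284727))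
theorem Q30967 : ∀ i, i < 30967 → P i := stepQ 30966 Q30966 (allL N30966 (tt N30483 F284728) (tt N31314 D64084) (tt N30482 (iv D63736)) (tt N30494 F284729) (tt N31219 (iv F286164)) (tt N31046 (iv F285223)) (tt N31218 (iv F286161)) (tt N31213 (iv F286140)) (tt N31315 D64085) (tt N31212 (iv F286136)))
theorem Q30968 : ∀ i, i < 30968 → P i := stepQ 30967 Q30967 (allL N30967 (tt N30484 F284730) (tt N31023 (iv F285061)) (tt N31315 (iv F286512)) (tt N30486 F284731) (tt N31220 (iv F286168)) (tt N30490 F284732) (tt N31035 (iv F285141)) (tt N31214 (iv F286146)) (tt N30482 (iv D63737)) (tt N31316 D64086))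
theorem Q30969 : ∀ i, i < 30969 → P i := stepQ 30968 Q30968 (allL N30968 (tt N31315 (iv F286511)) (tt N30968 F284733) (tt N30484 F284734) (tt N31038 (iv F285160)) (tt N31221 (iv F286172)) (tt N30491 F284735) (tt N31037 (iv F285155)) (tt N31215 (iv F286151)) (tt N30483 (iv D63738)) (tt N31317 D64087))
theorem Q30970 : ∀ i, i < 30970 → P i := stepQ 30969 Q30969 (allL N30969 (tt N31316 (iv F286514)) (tt N30485 F284736) (tt N31317 (iv F286518)) (tt N30487 F284737) (tt N31183 (iv F285987)) (tt N30489 F284738) (tt N31031 (iv F285116)) (tt N30991 (iv F284844)) (tt N31055 (iv F285286)) (tt N30484 (iv D63739)))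
theorem Q30971 : ∀ i, i < 30971 → P i := stepQ 30970 Q30970 (allL N30970 (tt N30487 F284739) (tt N31018 (iv F285028)) (tt N31041 (iv F285182)) (tt N31316 (iv F286515)) (tt N31040 (iv F285175)) (tt N30488 F284740) (tt N31029 (iv F285103)) (tt N30989 (iv F284832)) (tt N30500 F284741) (tt N30486 (iv D63740)))
theorem Q30972 : ∀ i, i < 30972 → P i := stepQ 30971 Q30971 (allL N30971 (tt N30489 F284742) (tt N31017 (iv F285021)) (tt N31318 D64088) (tt N30488 (iv D63741)) (tt N31008 (iv F284950)) (tt N31316 (iv F286516)) (tt N30492 F284743) (tt N30988 (iv F284825)) (tt N31052 (iv F285266)) (tt N30490 F284744))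
theorem Q30973 : ∀ i, i < 30973 → P i := stepQ 30972 Q30972 (allL N30972 (tt N31318 (iv F286520)) (tt N30972 F284745) (tt N30489 (iv D63742)) (tt N31142 (iv F285811)) (tt N31010 (iv F284966)) (tt N31317 (iv F286519)) (tt N30493 F284746) (tt N30990 (iv F284839)) (tt N31054 (iv F285280)) (tt N30491 F284747))
theorem Q30974 : ∀ i, i < 30974 → P i := stepQ 30973 Q30973 (allL N30973 (tt N30491 F284748) (tt N31319 D64089) (tt N30490 (iv D63743)) (tt N31218 (iv F286159)) (tt N31289 (iv F286436)) (tt N31315 (iv F286513)) (tt N30494 F284749) (tt N31228 (iv F286204)) (tt N31046 (iv F285226)) (tt N31318 (iv F286522)))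
theorem Q30975 : ∀ i, i < 30975 → P i := stepQ 30974 Q30974 (allL N30974 (tt N30493 F284750) (tt N31320 D64090) (tt N30492 (iv D63744)) (tt N31212 (iv F286133)) (tt N31291 (iv F286444)) (tt N31213 (iv F286139)) (tt N31318 (iv F286521)) (tt N31046 (iv F285225)) (tt N31228 (iv F286205)) (tt N30494 F284751))
theorem Q30976 : ∀ i, i < 30976 → P i := stepQ 30975 Q30975 (allL N30975 (tt N30975 F284752) (tt N30494 (iv D63745)) (tt N31276 (iv F286386)) (tt N31314 (iv F286510)) (tt N31292 (iv F286448)) (tt N31216 (iv F286154)) (tt N31319 (iv F286524)) (tt N31288 (iv F286434)) (tt N31281 (iv F286409)) (tt N31320 (iv F286526)))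
theorem Q30977 : ∀ i, i < 30977 → P i := stepQ 30976 Q30976 (allL N30976 (tt N30976 F284753) (tt N30495 (iv D63746)) (tt N31301 (iv F286470)) (tt N31276 (iv F286387)) (tt N30497 F284754) (tt N31263 (iv F286348)) (tt N31287 (iv F286430)) (tt N31253 (iv F286312)) (tt N31196 (iv F286050)) (tt N31313 (iv F286508)))
theorem Q30978 : ∀ i, i < 30978 → P i := stepQ 30977 Q30977 (allL N30977 (tt N30977 F284755) (tt N30496 (iv D63747)) (tt N31280 (iv F286401)) (tt N31162 (iv F285902)) (tt N31287 (iv F286429)) (tt N31282 (iv F286412)) (tt N30497 F284756) (tt N31307 (iv F286490)) (tt N31306 (iv F286487)) (tt N31081 (iv F285436)))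
theorem Q30979 : ∀ i, i < 30979 → P i := stepQ 30978 Q30978 (allL N30978 (tt N30978 F284757) (tt N30498 F284758) (tt N31195 (iv F286041)) (tt N31321 D64091) (tt N31196 (iv F286047)) (tt N31211 (iv F286129)) (tt N31306 (iv F286486)) (tt N31255 (iv F286319)) (tt N30497 (iv D63748)) (tt N31309 (iv F286495)))
theorem Q30980 : ∀ i, i < 30980 → P i := stepQ 30979 Q30979 (allL N30979 (tt N30499 F284759) (tt N31321 (iv F286528)) (tt N31121 (iv F285678)) (tt N30498 (iv D63749)) (tt N31256 (iv F286322)) (tt N31120 F285675) (tt N31176 (iv F285964)) (tt N31133 (iv F285760)) (tt N31173 (iv F285952)) (tt N31197 (iv F286057)))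
theorem Q30981 : ∀ i, i < 30981 → P i := stepQ 30980 Q30980 (allL N30980 (tt N30502 F284760) (tt N30752 F284761) (tt N30795 F284762) (tt N30575 F284763) (tt N30947 F284764) (tt N30503 F284765) (tt N30699 F284766) (tt N30668 F284767) (tt N30951 F284768) (tt N30501 (iv D63750)))
theorem Q30982 : ∀ i, i < 30982 → P i := stepQ 30981 Q30981 (allL N30981 (tt N30505 F284769) (tt N30634 F284770) (tt N31322 D64092) (tt N30504 (iv D63751)) (tt N30890 F284771) (tt N30606 F284772) (tt N30753 F284773) (tt N30525 F284774) (tt N31323 D64093) (tt N30584 F284775))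
theorem Q30983 : ∀ i, i < 30983 → P i := stepQ 30982 Q30982 (allL N30982 (tt N31322 (iv F286529)) (tt N30982 F284776) (tt N30505 (iv D63752)) (tt N30773 F284777) (tt N30892 F284778) (tt N30607 F284779) (tt N30755 F284780) (tt N30526 F284781) (tt N31324 D64094) (tt N30585 F284782))
theorem Q30984 : ∀ i, i < 30984 → P i := stepQ 30983 Q30983 (allL N30983 (tt N31323 (iv F286536)) (tt N30506 F284783) (tt N31324 (iv F286545)) (tt N30540 F284784) (tt N30894 F284785) (tt N30608 F284786) (tt N30757 F284787) (tt N30527 F284788) (tt N30505 (iv D63753)) (tt N30712 (iv F284789)))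
theorem Q30985 : ∀ i, i < 30985 → P i := stepQ 30984 Q30984 (allL N30984 (tt N30508 F284790) (tt N30856 F284791) (tt N30610 F284792) (tt N30507 (iv D63754)) (tt N30556 F284793) (tt N31325 D64095) (tt N30552 F284794) (tt N30803 F284795) (tt N30838 (iv F284797)) (tt N30883 F284796))
theorem Q30986 : ∀ i, i < 30986 → P i := stepQ 30985 Q30985 (allL N30985 (tt N30509 F284798) (tt N30877 F284799) (tt N30523 F284800) (tt N31325 (iv F286555)) (tt N30710 F284801) (tt N30507 (iv D63755)) (tt N31326 D64096) (tt N30624 F284802) (tt N30717 F284803) (tt N30885 F284804))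
theorem Q30987 : ∀ i, i < 30987 → P i := stepQ 30986 Q30986 (allL N30986 (tt N31325 (iv F286552)) (tt N30510 F284805) (tt N30601 F284806) (tt N30509 F284807) (tt N30880 F284808) (tt N30508 (iv D63756)) (tt N30589 F284809) (tt N30524 F284810) (tt N30834 F284811) (tt N30822 F284812))
theorem Q30988 : ∀ i, i < 30988 → P i := stepQ 30987 Q30987 (allL N30987 (tt N31326 (iv F286561)) (tt N30511 F284813) (tt N30524 F284814) (tt N30589 F284815) (tt N30713 F284816) (tt N30554 F284817) (tt N30509 (iv D63757)) (tt N30601 F284818) (tt N30721 F284819) (tt N30821 F284820))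
theorem Q30989 : ∀ i, i < 30989 → P i := stepQ 30988 Q30988 (allL N30988 (tt N30513 F284821) (tt N30922 F284822) (tt N31327 D64097) (tt N30512 (iv D63758)) (tt N30545 F284823) (tt N31328 D64098) (tt N30905 F284824) (tt N30971 F284825) (tt N30613 F284826) (tt N30823 F284827))
theorem Q30990 : ∀ i, i < 30990 → P i := stepQ 30989 Q30989 (allL N30989 (tt N30514 F284828) (tt N30923 F284829) (tt N30717 F284830) (tt N31328 (iv F286579)) (tt N30705 F284831) (tt N30512 (iv D63759)) (tt N31329 D64099) (tt N30970 F284832) (tt N30523 F284833) (tt N30824 F284834))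
theorem Q30991 : ∀ i, i < 30991 → P i := stepQ 30990 Q30990 (allL N30990 (tt N31327 (iv F286570)) (tt N30990 F284835) (tt N30513 (iv D63760)) (tt N30718 F284836) (tt N30547 F284837) (tt N31330 D64100) (tt N30907 F284838) (tt N30972 F284839) (tt N30615 F284840) (tt N30825 F284841))
theorem Q30992 : ∀ i, i < 30992 → P i := stepQ 30991 Q30991 (allL N30991 (tt N31328 (iv F286577)) (tt N30515 F284842) (tt N31330 (iv F286592)) (tt N30514 F284843) (tt N31331 D64101) (tt N30513 (iv D63761)) (tt N31332 D64102) (tt N30969 F284844) (tt N30616 F284845) (tt N30806 F284846))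
theorem Q30993 : ∀ i, i < 30993 → P i := stepQ 30992 Q30992 (allL N30992 (tt N31329 (iv F286583)) (tt N30516 F284847) (tt N30721 F284848) (tt N31332 (iv F286605)) (tt N30708 F284849) (tt N30770 F284850) (tt N30514 (iv D63762)) (tt N30834 F284851) (tt N30524 F284852) (tt N30612 F284853))
theorem Q30994 : ∀ i, i < 30994 → P i := stepQ 30993 Q30993 (allL N30993 (tt N30715 F284854) (tt N31331 (iv F286597)) (tt N30993 F284855) (tt N30678 F284856) (tt N30515 (iv D63763)) (tt N30549 F284857) (tt N30637 (iv F284861)) (tt N30758 F284858) (tt N30617 F284859) (tt N30633 F284860))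
theorem Q30995 : ∀ i, i < 30995 → P i := stepQ 30994 Q30994 (allL N30994 (tt N30714 F284862) (tt N31332 (iv F286604)) (tt N30994 F284863) (tt N30516 F284864) (tt N30637 F284865) (tt N30694 F284866) (tt N30515 (iv D63764)) (tt N30723 F284867) (tt N30569 F284868) (tt N30563 F284869))
theorem Q30996 : ∀ i, i < 30996 → P i := stepQ 30995 Q30995 (allL N30995 (tt N30518 F284870) (tt N30829 F284871) (tt N31333 D64103) (tt N30517 (iv D63765)) (tt N30525 F284872) (tt N31334 D64104) (tt N30782 F284873) (tt N30890 F284874) (tt N31335 D64105) (tt N30887 F284875))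
theorem Q30997 : ∀ i, i < 30997 → P i := stepQ 30996 Q30996 (allL N30996 (tt N30519 F284876) (tt N30830 F284877) (tt N30710 F284878) (tt N31334 (iv F286619)) (tt N30523 F284879) (tt N30517 (iv D63766)) (tt N31336 D64106) (tt N30891 F284880) (tt N30705 F284881) (tt N30888 F284882))
theorem Q30998 : ∀ i, i < 30998 → P i := stepQ 30997 Q30997 (allL N30997 (tt N31333 (iv F286611)) (tt N30997 F284883) (tt N30518 (iv D63767)) (tt N30711 F284884) (tt N30526 F284885) (tt N31337 D64107) (tt N30784 F284886) (tt N30892 F284887) (tt N31338 D64108) (tt N30889 F284888))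
theorem Q30999 : ∀ i, i < 30999 → P i := stepQ 30998 Q30998 (allL N30998 (tt N31334 (iv F286617)) (tt N30520 F284889) (tt N31337 (iv F286638)) (tt N30519 F284890) (tt N30621 F284891) (tt N30518 (iv D63768)) (tt N31339 D64109) (tt N30893 F284892) (tt N31340 D64110) (tt N30786 F284893))
theorem Q31000 : ∀ i, i < 31000 → P i := stepQ 30999 Q30999 (allL N30999 (tt N31335 (iv F286623)) (tt N30521 F284894) (tt N31338 (iv F286644)) (tt N30707 F284895) (tt N30527 F284896) (tt N31340 (iv F286659)) (tt N30786 F284897) (tt N30894 F284898) (tt N30518 (iv D63769)) (tt N31339 (iv F286654)))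
theorem Q31001 : ∀ i, i < 31001 → P i := stepQ 31000 Q31000 (allL N31000 (tt N31336 (iv F286629)) (tt N30522 F284899) (tt N30713 F284900) (tt N31339 (iv F286650)) (tt N30524 F284901) (tt N30787 F284902) (tt N30519 (iv D63770)) (tt N30880 F284903) (tt N30708 F284904) (tt N30707 F284905))
theorem Q31002 : ∀ i, i < 31002 → P i := stepQ 31001 Q31001 (allL N31001 (tt N30723 F284906) (tt N31339 (iv F286649)) (tt N31001 F284907) (tt N30522 F284908) (tt N30528 F284909) (tt N30683 F284910) (tt N30520 (iv D63771)) (tt N30714 F284911) (tt N30682 (iv F284913)) (tt N30521 F284912))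
theorem Q31003 : ∀ i, i < 31003 → P i := stepQ 31002 Q31002 (allL N31002 (tt N30722 F284914) (tt N31340 (iv F286656)) (tt N31002 F284915) (tt N30684 F284916) (tt N30623 F284917) (tt N30521 F284918) (tt N30682 F284919) (tt N30740 F284920) (tt N30520 (iv D63772)) (tt N30683 F284921))
theorem Q31004 : ∀ i, i < 31004 → P i := stepQ 31003 Q31003 (allL N31003 (tt N30524 F284922) (tt N30878 F284923) (tt N31326 (iv F286563)) (tt N30624 F284924) (tt N31336 (iv F286632)) (tt N30803 F284925) (tt N30523 (iv D63773)) (tt N31325 (iv F286558)) (tt N31329 (iv F286589)) (tt N30909 F284926))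
theorem Q31005 : ∀ i, i < 31005 → P i := stepQ 31004 Q31004 (allL N31004 (tt N30526 F284927) (tt N31341 D64111) (tt N30525 (iv D63774)) (tt N30774 F284928) (tt N31333 (iv F286613)) (tt N30625 F284929) (tt N30789 F284930) (tt N31322 (iv F286534)) (tt N31342 D64112) (tt N30913 F284931))
theorem Q31006 : ∀ i, i < 31006 → P i := stepQ 31005 Q31005 (allL N31005 (tt N30527 F284932) (tt N30842 F284933) (tt N31342 (iv F286670)) (tt N30550 F284934) (tt N31335 (iv F286626)) (tt N30626 F284935) (tt N30790 F284936) (tt N31323 (iv F286542)) (tt N30525 (iv D63775)) (tt N31343 D64113))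
theorem Q31007 : ∀ i, i < 31007 → P i := stepQ 31006 Q31006 (allL N31006 (tt N31342 (iv F286669)) (tt N31006 F284937) (tt N30527 F284938) (tt N30897 F284939) (tt N31338 (iv F286646)) (tt N30627 F284940) (tt N30791 F284941) (tt N31324 (iv F286550)) (tt N30526 (iv D63776)) (tt N31344 D64114))
theorem Q31008 : ∀ i, i < 31008 → P i := stepQ 31007 Q31007 (allL N31007 (tt N31343 (iv F286674)) (tt N30528 F284942) (tt N31344 (iv F286682)) (tt N30551 F284943) (tt N31339 (iv F286651)) (tt N30628 F284944) (tt N30621 F284945) (tt N30712 F284946) (tt N30916 F284947) (tt N30527 (iv D63777)))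
theorem Q31009 : ∀ i, i < 31009 → P i := stepQ 31008 Q31008 (allL N31008 (tt N30530 F284948) (tt N30823 F284949) (tt N31345 D64115) (tt N30529 (iv D63778)) (tt N30971 F284950) (tt N30899 (iv F284955)) (tt N30927 F284951) (tt N30545 F284952) (tt N30638 F284953) (tt N30922 F284954))
theorem Q31010 : ∀ i, i < 31010 → P i := stepQ 31009 Q31009 (allL N31009 (tt N30531 F284956) (tt N30824 F284957) (tt N30797 F284958) (tt N30899 F284959) (tt N30820 F284960) (tt N30529 (iv D63779)) (tt N31346 D64116) (tt N30546 F284961) (tt N30533 F284962) (tt N30923 F284963))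
theorem Q31011 : ∀ i, i < 31011 → P i := stepQ 31010 Q31010 (allL N31010 (tt N31345 (iv F286688)) (tt N31010 F284964) (tt N30530 (iv D63780)) (tt N30918 F284965) (tt N30972 F284966) (tt N30900 F284967) (tt N30928 F284968) (tt N30547 F284969) (tt N30639 F284970) (tt N30924 F284971))
theorem Q31012 : ∀ i, i < 31012 → P i := stepQ 31011 Q31011 (allL N31011 (tt N31346 (iv F286696)) (tt N30532 F284972) (tt N30796 F284973) (tt N30894 F284974) (tt N30822 F284975) (tt N30881 F284976) (tt N30531 (iv D63781)) (tt N30707 F284977) (tt N30534 F284978) (tt N30880 F284979))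
theorem Q31013 : ∀ i, i < 31013 → P i := stepQ 31012 Q31012 (allL N31012 (tt N30534 F284980) (tt N30610 F284981) (tt N30794 F284982) (tt N30609 F284983) (tt N30819 F284984) (tt N30941 F284985) (tt N30533 (iv D63782)) (tt N30704 F284986) (tt N31346 (iv F286703)) (tt N30555 F284987))
theorem Q31014 : ∀ i, i < 31014 → P i := stepQ 31013 Q31013 (allL N31013 (tt N30536 F284988) (tt N30855 F284989) (tt N30704 F284990) (tt N30535 (iv D63783)) (tt N30883 F284991) (tt N30884 (iv F284995)) (tt N30539 F284992) (tt N30794 F284993) (tt N31347 D64117) (tt N30556 F284994))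
theorem Q31015 : ∀ i, i < 31015 → P i := stepQ 31014 Q31014 (allL N31014 (tt N30537 F284996) (tt N30767 F284997) (tt N30668 F284998) (tt N30884 F284999) (tt N30737 F285000) (tt N30535 (iv D63784)) (tt N30640 F285001) (tt N30795 F285002) (tt N30754 F285003) (tt N30557 F285004))
theorem Q31016 : ∀ i, i < 31016 → P i := stepQ 31015 Q31015 (allL N31015 (tt N31347 (iv F286705)) (tt N30538 F285005) (tt N30707 F285006) (tt N30757 F285007) (tt N30821 F285008) (tt N30858 F285009) (tt N30540 F285010) (tt N30796 F285011) (tt N30536 (iv D63785)) (tt N30713 F285012))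
theorem Q31017 : ∀ i, i < 31017 → P i := stepQ 31016 Q31016 (allL N31016 (tt N30540 F285013) (tt N30860 F285014) (tt N30888 F285015) (tt N31323 (iv F286538)) (tt N30885 F285016) (tt N30641 F285017) (tt N31347 (iv F286711)) (tt N30550 F285018) (tt N30539 (iv D63786)) (tt N30710 F285019))
theorem Q31018 : ∀ i, i < 31018 → P i := stepQ 31017 Q31017 (allL N31017 (tt N30542 F285020) (tt N30971 F285021) (tt N31348 D64118) (tt N30541 (iv D63787)) (tt N30823 F285022) (tt N31349 D64119) (tt N30638 F285023) (tt N30922 F285024) (tt N30927 F285025) (tt N30545 F285026))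
theorem Q31019 : ∀ i, i < 31019 → P i := stepQ 31018 Q31018 (allL N31018 (tt N30543 F285027) (tt N30970 F285028) (tt N30619 F285029) (tt N31349 (iv F286723)) (tt N30611 F285030) (tt N30541 (iv D63788)) (tt N30891 F285031) (tt N30923 F285032) (tt N30570 F285033) (tt N30546 F285034))
theorem Q31020 : ∀ i, i < 31020 → P i := stepQ 31019 Q31019 (allL N31019 (tt N31348 (iv F286714)) (tt N31019 F285035) (tt N30542 (iv D63789)) (tt N30620 F285036) (tt N30825 F285037) (tt N31350 D64120) (tt N30639 F285038) (tt N30924 F285039) (tt N30928 F285040) (tt N30547 F285041))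
theorem Q31021 : ∀ i, i < 31021 → P i := stepQ 31020 Q31020 (allL N31020 (tt N31349 (iv F286721)) (tt N30544 F285042) (tt N31350 (iv F286729)) (tt N30543 F285043) (tt N31351 D64121) (tt N30542 (iv D63790)) (tt N30893 F285044) (tt N30901 F285045) (tt N30876 F285046) (tt N30548 F285047))
theorem Q31022 : ∀ i, i < 31022 → P i := stepQ 31021 Q31021 (allL N31021 (tt N30758 F285048) (tt N31351 (iv F286735)) (tt N31021 F285049) (tt N30599 F285050) (tt N30544 (iv D63791)) (tt N30633 F285051) (tt N30598 F285052) (tt N30715 F285053) (tt N30632 F285054) (tt N30549 F285055))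
theorem Q31023 : ∀ i, i < 31023 → P i := stepQ 31022 Q31022 (allL N31022 (tt N30547 F285056) (tt N31352 D64122) (tt N30545 (iv D63792)) (tt N30920 F285057) (tt N31327 (iv F286572)) (tt N31353 D64123) (tt N30903 F285058) (tt N31345 (iv F286693)) (tt N30646 F285059) (tt N31348 (iv F286720)))
theorem Q31024 : ∀ i, i < 31024 → P i := stepQ 31023 Q31023 (allL N31023 (tt N30548 F285060) (tt N30967 F285061) (tt N31353 (iv F286748)) (tt N30546 F285062) (tt N31354 D64124) (tt N30545 (iv D63793)) (tt N30896 F285063) (tt N30899 F285064) (tt N30647 F285065) (tt N31349 (iv F286727)))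
theorem Q31025 : ∀ i, i < 31025 → P i := stepQ 31024 Q31024 (allL N31024 (tt N31353 (iv F286747)) (tt N31024 F285066) (tt N30548 F285067) (tt N30791 F285068) (tt N31355 D64125) (tt N30547 (iv D63794)) (tt N30897 F285069) (tt N30900 F285070) (tt N30648 F285071) (tt N31350 (iv F286734)))
theorem Q31026 : ∀ i, i < 31026 → P i := stepQ 31025 Q31025 (allL N31025 (tt N31354 (iv F286753)) (tt N30549 F285072) (tt N31355 (iv F286760)) (tt N30796 F285073) (tt N30548 (iv D63795)) (tt N31331 (iv F286599)) (tt N30781 F285074) (tt N30757 F285075) (tt N30649 F285076) (tt N31351 (iv F286741)))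
theorem Q31027 : ∀ i, i < 31027 → P i := stepQ 31026 Q31026 (allL N31026 (tt N30551 F285077) (tt N30861 F285078) (tt N30891 F285079) (tt N31343 (iv F286676)) (tt N30624 F285080) (tt N30650 F285081) (tt N30619 F285082) (tt N30710 F285083) (tt N30575 F285084) (tt N30550 (iv D63796)))
theorem Q31028 : ∀ i, i < 31028 → P i := stepQ 31027 Q31027 (allL N31027 (tt N30554 F285085) (tt N30704 F285086) (tt N30803 F285087) (tt N30588 F285088) (tt N30555 F285089) (tt N31326 (iv F286566)) (tt N30553 (iv D63797)) (tt N30610 F285090) (tt N30910 F285091) (tt N30819 F285092))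
theorem Q31029 : ∀ i, i < 31029 → P i := stepQ 31028 Q31028 (allL N31028 (tt N30560 F285093) (tt N30890 F285094) (tt N31356 D64126) (tt N30559 (iv D63798)) (tt N30634 F285095) (tt N31357 D64127) (tt N30804 F285096) (tt N30829 F285097) (tt N31358 D64128) (tt N30564 F285098))
theorem Q31030 : ∀ i, i < 31030 → P i := stepQ 31029 Q31029 (allL N31029 (tt N30561 F285099) (tt N30891 F285100) (tt N30614 F285101) (tt N31357 (iv F286773)) (tt N30570 F285102) (tt N30559 (iv D63799)) (tt N30970 F285103) (tt N30830 F285104) (tt N30611 F285105) (tt N30565 F285106))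
theorem Q31031 : ∀ i, i < 31031 → P i := stepQ 31030 Q31030 (allL N31030 (tt N31356 (iv F286765)) (tt N31030 F285107) (tt N30560 (iv D63800)) (tt N30615 F285108) (tt N30635 F285109) (tt N31359 D64129) (tt N30805 F285110) (tt N30831 F285111) (tt N31360 D64130) (tt N30566 F285112))
theorem Q31032 : ∀ i, i < 31032 → P i := stepQ 31031 Q31031 (allL N31031 (tt N31357 (iv F286771)) (tt N30562 F285113) (tt N31359 (iv F286785)) (tt N30561 F285114) (tt N30818 F285115) (tt N30560 (iv D63801)) (tt N30969 F285116) (tt N30832 F285117) (tt N31361 D64131) (tt N30567 F285118))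
theorem Q31033 : ∀ i, i < 31033 → P i := stepQ 31032 Q31032 (allL N31032 (tt N31358 (iv F286778)) (tt N30563 F285119) (tt N31360 (iv F286792)) (tt N30612 F285120) (tt N30636 F285121) (tt N31361 (iv F286800)) (tt N30806 F285122) (tt N30833 F285123) (tt N30560 (iv D63802)) (tt N31332 (iv F286610)))
theorem Q31034 : ∀ i, i < 31034 → P i := stepQ 31033 Q31033 (allL N31033 (tt N30740 F285124) (tt N31361 (iv F286797)) (tt N31033 F285125) (tt N30594 F285126) (tt N30605 F285127) (tt N30563 F285128) (tt N30593 F285129) (tt N30722 F285130) (tt N30562 (iv D63803)) (tt N30694 F285131))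
theorem Q31035 : ∀ i, i < 31035 → P i := stepQ 31034 Q31034 (allL N31034 (tt N30566 F285132) (tt N31362 D64132) (tt N30564 (iv D63804)) (tt N30912 F285133) (tt N30658 F285134) (tt N31363 D64133) (tt N30807 F285135) (tt N30933 F285136) (tt N31364 D64134) (tt N31356 (iv F286770)))
theorem Q31036 : ∀ i, i < 31036 → P i := stepQ 31035 Q31035 (allL N31035 (tt N30567 F285137) (tt N30896 F285138) (tt N31363 (iv F286811)) (tt N30565 F285139) (tt N30816 F285140) (tt N30564 (iv D63805)) (tt N30967 F285141) (tt N30837 F285142) (tt N30810 (iv F285143)) (tt N31357 (iv F286777)))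
theorem Q31037 : ∀ i, i < 31037 → P i := stepQ 31036 Q31036 (allL N31036 (tt N30568 F285144) (tt N30862 F285145) (tt N31364 (iv F286818)) (tt N30573 F285146) (tt N30659 F285147) (tt N30810 F285148) (tt N30808 F285149) (tt N30836 F285150) (tt N30564 (iv D63806)) (tt N31365 D64135))
theorem Q31038 : ∀ i, i < 31038 → P i := stepQ 31037 Q31037 (allL N31037 (tt N31363 (iv F286810)) (tt N31037 F285151) (tt N30567 F285152) (tt N30809 F285153) (tt N30817 F285154) (tt N30566 (iv D63807)) (tt N30968 F285155) (tt N30840 F285156) (tt N30811 (iv F285157)) (tt N31359 (iv F286790)))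
theorem Q31039 : ∀ i, i < 31039 → P i := stepQ 31038 Q31038 (allL N31038 (tt N31364 (iv F286817)) (tt N31038 F285158) (tt N30568 F285159) (tt N30968 F285160) (tt N30660 F285161) (tt N30811 F285162) (tt N30809 F285163) (tt N30839 F285164) (tt N30566 (iv D63808)) (tt N31366 D64136))
theorem Q31040 : ∀ i, i < 31040 → P i := stepQ 31039 Q31039 (allL N31039 (tt N31365 (iv F286824)) (tt N30569 F285165) (tt N31366 (iv F286832)) (tt N30574 F285166) (tt N30661 F285167) (tt N30701 F285168) (tt N30616 F285169) (tt N30719 F285170) (tt N31332 (iv F286609)) (tt N30568 (iv D63809)))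
theorem Q31041 : ∀ i, i < 31041 → P i := stepQ 31040 Q31040 (allL N31040 (tt N30571 F285171) (tt N30611 F285172) (tt N30575 F285173) (tt N30941 F285174) (tt N30970 F285175) (tt N30609 F285176) (tt N30570 (iv D63810)) (tt N30705 (iv F285179)) (tt N30891 F285177) (tt N30572 F285178))
theorem Q31042 : ∀ i, i < 31042 → P i := stepQ 31041 Q31041 (allL N31041 (tt N30574 F285180) (tt N30863 F285181) (tt N30970 F285182) (tt N31365 (iv F286826)) (tt N30575 F285183) (tt N30700 F285184) (tt N30614 F285185) (tt N30717 F285186) (tt N30624 F285187) (tt N30573 (iv D63811)))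
theorem Q31043 : ∀ i, i < 31043 → P i := stepQ 31042 Q31042 (allL N31042 (tt N30577 F285188) (tt N30671 F285189) (tt N31367 D64137) (tt N30576 (iv D63812)) (tt N30946 F285190) (tt N30702 F285191) (tt N30749 F285192) (tt N30669 F285193) (tt N30690 F285194) (tt N30772 F285195))
theorem Q31044 : ∀ i, i < 31044 → P i := stepQ 31043 Q31043 (allL N31043 (tt N31367 (iv F286838)) (tt N31043 F285196) (tt N30577 (iv D63813)) (tt N30585 F285197) (tt N30948 F285198) (tt N30703 F285199) (tt N30751 F285200) (tt N30670 F285201) (tt N30692 F285202) (tt N30773 F285203))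
theorem Q31045 : ∀ i, i < 31045 → P i := stepQ 31044 Q31044 (allL N31044 (tt N30579 F285204) (tt N31368 D64138) (tt N30578 (iv D63814)) (tt N30789 F285205) (tt N30777 F285206) (tt N30961 F285207) (tt N30774 F285208) (tt N30957 F285209) (tt N30943 F285210) (tt N30870 F285211))
theorem Q31046 : ∀ i, i < 31046 → P i := stepQ 31045 Q31045 (allL N31045 (tt N30581 F285212) (tt N31369 D64139) (tt N30580 (iv D63815)) (tt N30778 F285213) (tt N30944 F285214) (tt N30841 F285215) (tt N30961 F285216) (tt N30955 F285217) (tt N30930 F285218) (tt N30911 F285219))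
theorem Q31047 : ∀ i, i < 31047 → P i := stepQ 31046 Q31046 (allL N31046 (tt N30583 F285220) (tt N31370 D64140) (tt N30582 (iv D63816)) (tt N30807 F285221) (tt N30931 F285222) (tt N30966 F285223) (tt N30912 F285224) (tt N30974 F285225) (tt N30973 F285226) (tt N30921 F285227))
theorem Q31048 : ∀ i, i < 31048 → P i := stepQ 31047 Q31047 (allL N31047 (tt N30585 F285228) (tt N31371 D64141) (tt N30584 (iv D63817)) (tt N31367 (iv F286839)) (tt N30895 F285229) (tt N30954 F285230) (tt N30759 F285231) (tt N30913 F285232) (tt N31372 D64142) (tt N31322 (iv F286535)))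
theorem Q31049 : ∀ i, i < 31049 → P i := stepQ 31048 Q31048 (allL N31048 (tt N30586 F285233) (tt N30659 F285234) (tt N31372 (iv F286880)) (tt N30750 F285235) (tt N30862 F285236) (tt N30749 F285237) (tt N30761 F285238) (tt N30914 F285239) (tt N30584 (iv D63818)) (tt N31373 D64143))
theorem Q31050 : ∀ i, i < 31050 → P i := stepQ 31049 Q31049 (allL N31049 (tt N31372 (iv F286879)) (tt N31049 F285240) (tt N30586 F285241) (tt N30762 F285246) (tt N30848 F285242) (tt N30751 F285243) (tt N30763 F285244) (tt N30915 F285245) (tt N30585 (iv D63819)) (tt N31374 D64144))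
theorem Q31051 : ∀ i, i < 31051 → P i := stepQ 31050 Q31050 (allL N31050 (tt N31373 (iv F286886)) (tt N30587 F285247) (tt N31374 (iv F286895)) (tt N30664 F285248) (tt N30864 F285249) (tt N30663 F285250) (tt N30765 F285251) (tt N30916 F285252) (tt N30712 F285253) (tt N30586 (iv D63820)))
theorem Q31052 : ∀ i, i < 31052 → P i := stepQ 31051 Q31051 (allL N31051 (tt N30589 F285254) (tt N30705 F285255) (tt N30600 F285256) (tt N31326 (iv F286564)) (tt N30923 F285257) (tt N30588 (iv D63821)) (tt N31325 (iv F286557)) (tt N30611 F285258) (tt N30830 F285259) (tt N30820 F285260))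
theorem Q31053 : ∀ i, i < 31053 → P i := stepQ 31052 Q31052 (allL N31052 (tt N30591 F285261) (tt N30927 F285262) (tt N31375 D64145) (tt N30590 (iv D63822)) (tt N30638 F285263) (tt N31376 D64146) (tt N30823 F285264) (tt N30613 F285265) (tt N30971 F285266) (tt N30905 F285267))
theorem Q31054 : ∀ i, i < 31054 → P i := stepQ 31053 Q31053 (allL N31053 (tt N30592 F285268) (tt N30882 F285269) (tt N30830 F285270) (tt N31376 (iv F286911)) (tt N30766 F285271) (tt N30590 (iv D63823)) (tt N31377 D64147) (tt N30614 F285272) (tt N30600 F285273) (tt N30768 F285274))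
theorem Q31055 : ∀ i, i < 31055 → P i := stepQ 31054 Q31054 (allL N31054 (tt N31375 (iv F286902)) (tt N31054 F285275) (tt N30591 (iv D63824)) (tt N30831 F285276) (tt N30639 F285277) (tt N31378 D64148) (tt N30825 F285278) (tt N30615 F285279) (tt N30972 F285280) (tt N30907 F285281))
theorem Q31056 : ∀ i, i < 31056 → P i := stepQ 31055 Q31055 (allL N31055 (tt N31376 (iv F286909)) (tt N30593 F285282) (tt N31378 (iv F286925)) (tt N30592 F285283) (tt N30756 F285284) (tt N30591 (iv D63825)) (tt N31361 (iv F286801)) (tt N30616 F285285) (tt N30969 F285286) (tt N30764 F285287))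
theorem Q31057 : ∀ i, i < 31057 → P i := stepQ 31056 Q31056 (allL N31056 (tt N31377 (iv F286916)) (tt N30594 F285288) (tt N30834 F285289) (tt N31361 (iv F286798)) (tt N30725 F285290) (tt N30612 F285291) (tt N30592 (iv D63826)) (tt N30721 F285292) (tt N30601 F285293) (tt N30770 F285294))
theorem Q31058 : ∀ i, i < 31058 → P i := stepQ 31057 Q31057 (allL N31057 (tt N30596 F285295) (tt N30938 F285296) (tt N31379 D64149) (tt N30595 (iv D63827)) (tt N30606 F285297) (tt N31380 D64150) (tt N30925 F285298) (tt N30618 F285299) (tt N30736 F285300) (tt N30917 F285301))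
theorem Q31059 : ∀ i, i < 31059 → P i := stepQ 31058 Q31058 (allL N31058 (tt N30597 F285302) (tt N30859 F285303) (tt N30923 F285304) (tt N31380 (iv F286940)) (tt N30600 F285305) (tt N30595 (iv D63828)) (tt N31381 D64151) (tt N30619 F285306) (tt N30766 F285307) (tt N30797 F285308))
theorem Q31060 : ∀ i, i < 31060 → P i := stepQ 31059 Q31059 (allL N31059 (tt N31379 (iv F286931)) (tt N31059 F285309) (tt N30596 (iv D63829)) (tt N30924 F285310) (tt N30607 F285311) (tt N31382 D64152) (tt N30926 F285312) (tt N30620 F285313) (tt N30738 F285314) (tt N30918 F285315))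
theorem Q31061 : ∀ i, i < 31061 → P i := stepQ 31060 Q31060 (allL N31060 (tt N31380 (iv F286938)) (tt N30598 F285316) (tt N31382 (iv F286954)) (tt N30597 F285317) (tt N30893 F285318) (tt N30596 (iv D63830)) (tt N31351 (iv F286738)) (tt N30621 F285319) (tt N30739 F285320) (tt N30781 F285321))
theorem Q31062 : ∀ i, i < 31062 → P i := stepQ 31061 Q31061 (allL N31061 (tt N31381 (iv F286945)) (tt N30599 F285322) (tt N30880 F285323) (tt N31351 (iv F286736)) (tt N30601 F285324) (tt N30828 F285325) (tt N30597 (iv D63831)) (tt N30713 F285326) (tt N30725 F285327) (tt N30796 F285328))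
theorem Q31063 : ∀ i, i < 31063 → P i := stepQ 31062 Q31062 (allL N31062 (tt N30601 F285329) (tt N30941 F285330) (tt N31325 (iv F286554)) (tt N30611 F285331) (tt N31381 (iv F286948)) (tt N30610 F285332) (tt N30600 (iv D63832)) (tt N31326 (iv F286567)) (tt N31377 (iv F286922)) (tt N30919 F285333))
theorem Q31064 : ∀ i, i < 31064 → P i := stepQ 31063 Q31063 (allL N31063 (tt N30603 F285334) (tt N30736 F285335) (tt N31383 D64153) (tt N30602 (iv D63833)) (tt N30925 F285336) (tt N31384 D64154) (tt N30606 F285337) (tt N30850 F285338) (tt N30938 F285339) (tt N30690 F285340))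
theorem Q31065 : ∀ i, i < 31065 → P i := stepQ 31064 Q31064 (allL N31064 (tt N30604 F285341) (tt N30737 F285342) (tt N30771 F285343) (tt N31384 (iv F286969)) (tt N30767 F285344) (tt N30602 (iv D63834)) (tt N30754 F285345) (tt N30745 F285346) (tt N30640 F285347) (tt N30691 F285348))
theorem Q31066 : ∀ i, i < 31066 → P i := stepQ 31065 Q31065 (allL N31065 (tt N31383 (iv F286960)) (tt N31065 F285349) (tt N30603 (iv D63835)) (tt N30813 F285350) (tt N30926 F285351) (tt N31385 D64155) (tt N30607 F285352) (tt N30851 F285353) (tt N30939 F285354) (tt N30692 F285355))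
theorem Q31067 : ∀ i, i < 31067 → P i := stepQ 31066 Q31066 (allL N31066 (tt N31384 (iv F286967)) (tt N30605 F285356) (tt N31385 (iv F286975)) (tt N30604 F285357) (tt N31361 (iv F286799)) (tt N30603 (iv D63836)) (tt N30756 F285358) (tt N30729 F285359) (tt N30818 F285360) (tt N30693 F285361))
theorem Q31068 : ∀ i, i < 31068 → P i := stepQ 31067 Q31067 (allL N31067 (tt N30607 F285362) (tt N31386 D64156) (tt N30606 (iv D63837)) (tt N30815 F285363) (tt N31379 (iv F286933)) (tt N31322 (iv F286532)) (tt N31383 (iv F286963)) (tt N30625 F285364) (tt N31387 D64157) (tt N30954 F285365))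
theorem Q31069 : ∀ i, i < 31069 → P i := stepQ 31068 Q31068 (allL N31068 (tt N30608 F285366) (tt N30925 F285367) (tt N31387 (iv F286987)) (tt N30641 F285368) (tt N30736 F285369) (tt N31323 (iv F286540)) (tt N30938 F285370) (tt N30626 F285371) (tt N30606 (iv D63838)) (tt N30709 (iv F285372)))
theorem Q31070 : ∀ i, i < 31070 → P i := stepQ 31069 Q31069 (allL N31069 (tt N31387 (iv F286986)) (tt N31069 F285373) (tt N30608 F285374) (tt N30889 F285379) (tt N30738 F285375) (tt N31324 (iv F286548)) (tt N30939 F285376) (tt N30627 F285377) (tt N30607 (iv D63839)) (tt N30711 (iv F285378)))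
theorem Q31071 : ∀ i, i < 31071 → P i := stepQ 31070 Q31070 (allL N31070 (tt N30612 F285380) (tt N31346 (iv F286697)) (tt N30838 F285381) (tt N31358 (iv F286780)) (tt N30827 F285382) (tt N31377 (iv F286920)) (tt N30824 F285383) (tt N30910 F285384) (tt N30610 (iv D63840)) (tt N31329 (iv F286590)))
theorem Q31072 : ∀ i, i < 31072 → P i := stepQ 31071 Q31071 (allL N31071 (tt N30615 F285385) (tt N31388 D64158) (tt N30613 (iv D63841)) (tt N31356 (iv F286766)) (tt N30646 F285386) (tt N31389 D64159) (tt N30921 F285387) (tt N31375 (iv F286906)) (tt N31327 (iv F286575)) (tt N30912 F285388))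
theorem Q31073 : ∀ i, i < 31073 → P i := stepQ 31072 Q31072 (allL N31072 (tt N30616 F285389) (tt N30906 F285390) (tt N31389 (iv F286999)) (tt N30614 F285391) (tt N31390 D64160) (tt N30613 (iv D63842)) (tt N31365 (iv F286829)) (tt N31376 (iv F286913)) (tt N31328 (iv F286581)) (tt N30808 F285392))
theorem Q31074 : ∀ i, i < 31074 → P i := stepQ 31073 Q31073 (allL N31073 (tt N31389 (iv F286998)) (tt N31073 F285393) (tt N30616 F285394) (tt N31359 (iv F286786)) (tt N31391 D64161) (tt N30615 (iv D63843)) (tt N31366 (iv F286836)) (tt N31378 (iv F286928)) (tt N31330 (iv F286595)) (tt N30809 F285395))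
theorem Q31075 : ∀ i, i < 31075 → P i := stepQ 31074 Q31074 (allL N31074 (tt N31390 (iv F287001)) (tt N30617 F285396) (tt N31391 (iv F287009)) (tt N30698 F285397) (tt N30616 (iv D63844)) (tt N30649 F285398) (tt N30661 F285399) (tt N30756 F285400) (tt N31331 (iv F286601)) (tt N30657 F285401))
theorem Q31076 : ∀ i, i < 31076 → P i := stepQ 31075 Q31075 (allL N31075 (tt N30620 F285402) (tt N31392 D64162) (tt N30618 (iv D63845)) (tt N31348 (iv F286715)) (tt N30625 F285403) (tt N31393 D64163) (tt N30964 F285404) (tt N31379 (iv F286935)) (tt N31394 D64164) (tt N30920 F285405))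
theorem Q31077 : ∀ i, i < 31077 → P i := stepQ 31076 Q31076 (allL N31076 (tt N30621 F285406) (tt N30847 F285407) (tt N31393 (iv F287021)) (tt N30619 F285408) (tt N31334 (iv F286620)) (tt N30618 (iv D63846)) (tt N31343 (iv F286678)) (tt N31380 (iv F286942)) (tt N31395 D64165) (tt N30790 F285409))
theorem Q31078 : ∀ i, i < 31078 → P i := stepQ 31077 Q31077 (allL N31077 (tt N30622 F285410) (tt N30850 F285411) (tt N31394 (iv F287024)) (tt N30730 F285412) (tt N30626 F285413) (tt N31395 (iv F287033)) (tt N30792 F285414) (tt N30736 F285415) (tt N30618 (iv D63847)) (tt N30731 F285416))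
theorem Q31079 : ∀ i, i < 31079 → P i := stepQ 31078 Q31078 (allL N31078 (tt N31393 (iv F287020)) (tt N31078 F285417) (tt N30621 F285418) (tt N31350 (iv F286730)) (tt N31337 (iv F286640)) (tt N30620 (iv D63848)) (tt N31344 (iv F286685)) (tt N31382 (iv F286957)) (tt N31396 D64166) (tt N30791 F285419))
theorem Q31080 : ∀ i, i < 31080 → P i := stepQ 31079 Q31079 (allL N31079 (tt N31394 (iv F287023)) (tt N31079 F285420) (tt N30622 F285421) (tt N30948 (iv F285426)) (tt N30627 F285422) (tt N31396 (iv F287039)) (tt N30793 F285423) (tt N30738 F285424) (tt N30620 (iv D63849)) (tt N30732 F285425))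
theorem Q31081 : ∀ i, i < 31081 → P i := stepQ 31080 Q31080 (allL N31080 (tt N31395 (iv F287030)) (tt N30623 F285427) (tt N31396 (iv F287038)) (tt N30696 F285428) (tt N31340 (iv F286658)) (tt N30622 F285429) (tt N30916 F285430) (tt N30739 F285431) (tt N30621 (iv D63850)) (tt N30689 F285432))
theorem Q31082 : ∀ i, i < 31082 → P i := stepQ 31081 Q31081 (allL N31081 (tt N31081 F285433) (tt N30625 (iv D63851)) (tt N31369 (iv F286856)) (tt N30845 F285434) (tt N31392 (iv F287017)) (tt N31341 (iv F286666)) (tt N30965 F285435) (tt N31386 (iv F286984)) (tt N31397 D64167) (tt N30977 F285436))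
theorem Q31083 : ∀ i, i < 31083 → P i := stepQ 31082 Q31082 (allL N31082 (tt N30627 F285437) (tt N31397 (iv F287045)) (tt N30626 F285438) (tt N30895 (iv F285440)) (tt N31394 (iv F287025)) (tt N31342 (iv F286672)) (tt N30886 F285439) (tt N31387 (iv F286990)) (tt N30625 (iv D63852)) (tt N31398 D64168))
theorem Q31084 : ∀ i, i < 31084 → P i := stepQ 31083 Q31083 (allL N31083 (tt N30628 F285441) (tt N30865 F285442) (tt N31398 (iv F287050)) (tt N30650 F285443) (tt N30731 F285444) (tt N31343 (iv F286677)) (tt N30798 F285445) (tt N30709 F285446) (tt N30950 F285447) (tt N30626 (iv D63853)))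
theorem Q31085 : ∀ i, i < 31085 → P i := stepQ 31084 Q31084 (allL N31084 (tt N31398 (iv F287049)) (tt N31084 F285448) (tt N30628 F285449) (tt N30892 F285450) (tt N30732 F285451) (tt N31344 (iv F286684)) (tt N30799 F285452) (tt N30711 F285453) (tt N30952 F285454) (tt N30627 (iv D63854)))
theorem Q31086 : ∀ i, i < 31086 → P i := stepQ 31085 Q31085 (allL N31085 (tt N30630 F285455) (tt N30753 F285456) (tt N31399 D64169) (tt N30629 (iv D63855)) (tt N30804 F285457) (tt N31400 D64170) (tt N30634 F285458) (tt N30812 F285459) (tt N31401 D64171) (tt N30653 F285460))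
theorem Q31087 : ∀ i, i < 31087 → P i := stepQ 31086 Q31086 (allL N31086 (tt N30631 F285461) (tt N30754 F285462) (tt N30745 F285463) (tt N31400 (iv F287064)) (tt N30640 F285464) (tt N30629 (iv D63856)) (tt N30737 F285465) (tt N30771 F285466) (tt N30767 F285467) (tt N30654 F285468))
theorem Q31088 : ∀ i, i < 31088 → P i := stepQ 31087 Q31087 (allL N31087 (tt N31399 (iv F287056)) (tt N31087 F285469) (tt N30630 (iv D63857)) (tt N30851 F285470) (tt N30805 F285471) (tt N31402 D64172) (tt N30635 F285472) (tt N30813 F285473) (tt N31403 D64173) (tt N30655 F285474))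
theorem Q31089 : ∀ i, i < 31089 → P i := stepQ 31088 Q31088 (allL N31088 (tt N31400 (iv F287062)) (tt N30632 F285475) (tt N31402 (iv F287076)) (tt N30631 F285476) (tt N30876 F285477) (tt N30630 (iv D63858)) (tt N30739 F285478) (tt N30765 F285479) (tt N31351 (iv F286740)) (tt N30656 F285480))
theorem Q31090 : ∀ i, i < 31090 → P i := stepQ 31089 Q31089 (allL N31089 (tt N31401 (iv F287069)) (tt N30633 F285481) (tt N31403 (iv F287083)) (tt N30828 F285482) (tt N30806 F285483) (tt N31351 (iv F286737)) (tt N30636 F285484) (tt N30814 F285485) (tt N30630 (iv D63859)) (tt N31331 (iv F286602)))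
theorem Q31091 : ∀ i, i < 31091 → P i := stepQ 31090 Q31090 (allL N31090 (tt N30635 F285486) (tt N31404 D64174) (tt N30634 (iv D63860)) (tt N30852 F285487) (tt N31356 (iv F286767)) (tt N30955 F285488) (tt N31399 (iv F287059)) (tt N30841 F285489) (tt N31405 D64175) (tt N30658 F285490))
theorem Q31092 : ∀ i, i < 31092 → P i := stepQ 31091 Q31091 (allL N31091 (tt N30636 F285491) (tt N31323 (iv F286537)) (tt N31405 (iv F287094)) (tt N30860 F285492) (tt N31358 (iv F286781)) (tt N30925 F285493) (tt N31401 (iv F287073)) (tt N30842 F285494) (tt N30634 (iv D63861)) (tt N31406 D64176))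
theorem Q31093 : ∀ i, i < 31093 → P i := stepQ 31092 Q31092 (allL N31092 (tt N31405 (iv F287093)) (tt N31092 F285495) (tt N30636 F285496) (tt N30875 F285497) (tt N31360 (iv F286794)) (tt N30926 F285498) (tt N31403 (iv F287086)) (tt N30843 F285499) (tt N30635 (iv D63862)) (tt N31407 D64177))
theorem Q31094 : ∀ i, i < 31094 → P i := stepQ 31093 Q31093 (allL N31093 (tt N31406 (iv F287098)) (tt N30637 F285500) (tt N31407 (iv F287105)) (tt N30677 F285501) (tt N31332 (iv F286606)) (tt N30676 F285502) (tt N31331 F286603) (tt N30844 F285503) (tt N30661 F285504) (tt N30636 (iv D63863)))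
theorem Q31095 : ∀ i, i < 31095 → P i := stepQ 31094 Q31094 (allL N31094 (tt N30639 F285505) (tt N31408 D64178) (tt N30638 (iv D63864)) (tt N30964 F285506) (tt N31375 (iv F286904)) (tt N30898 F285507) (tt N31348 (iv F286717)) (tt N30646 F285508) (tt N31345 (iv F286694)) (tt N30903 F285509))
theorem Q31096 : ∀ i, i < 31096 → P i := stepQ 31095 Q31095 (allL N31095 (tt N30643 F285510) (tt N31409 D64179) (tt N30642 (iv D63865)) (tt N30646 F285511) (tt N30852 F285512) (tt N30943 F285513) (tt N30930 F285514) (tt N30964 F285515) (tt N30961 F285516) (tt N30867 F285517))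
theorem Q31097 : ∀ i, i < 31097 → P i := stepQ 31096 Q31096 (allL N31096 (tt N30645 F285518) (tt N31410 D64180) (tt N30644 (iv D63866)) (tt N30867 F285519) (tt N30912 F285520) (tt N30873 F285521) (tt N30931 F285522) (tt N30903 F285523) (tt N30929 F285524) (tt N30646 F285525))
theorem Q31098 : ∀ i, i < 31098 → P i := stepQ 31097 Q31097 (allL N31097 (tt N31097 F285526) (tt N30646 (iv D63867)) (tt N31370 (iv F286865)) (tt N31409 (iv F287118)) (tt N31388 (iv F286995)) (tt N31411 D64181) (tt N30932 F285527) (tt N31408 (iv F287114)) (tt N31352 (iv F286746)) (tt N31410 (iv F287133)))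
theorem Q31099 : ∀ i, i < 31099 → P i := stepQ 31098 Q31098 (allL N31098 (tt N30648 F285528) (tt N31411 (iv F287135)) (tt N30647 F285529) (tt N30943 F285530) (tt N31412 D64182) (tt N30646 (iv D63868)) (tt N30942 (iv F285533)) (tt N30898 F285531) (tt N31353 (iv F286752)) (tt N30873 F285532))
theorem Q31100 : ∀ i, i < 31100 → P i := stepQ 31099 Q31099 (allL N31099 (tt N30649 F285534) (tt N30812 F285535) (tt N31412 (iv F287142)) (tt N30746 F285536) (tt N30647 (iv D63869)) (tt N31390 (iv F287004)) (tt N30779 F285537) (tt N30753 F285538) (tt N31354 (iv F286758)) (tt N30747 F285539))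
theorem Q31101 : ∀ i, i < 31101 → P i := stepQ 31100 Q31100 (allL N31100 (tt N31412 (iv F287141)) (tt N31100 F285540) (tt N30649 F285541) (tt N30952 F285542) (tt N30648 (iv D63870)) (tt N31391 (iv F287010)) (tt N30780 F285543) (tt N30755 F285544) (tt N31355 (iv F286764)) (tt N30748 F285545))
theorem Q31102 : ∀ i, i < 31102 → P i := stepQ 31101 Q31101 (allL N31101 (tt N30652 F285546) (tt N30747 F285547) (tt N31413 D64183) (tt N30651 (iv D63871)) (tt N30801 F285548) (tt N30761 F285549) (tt N30702 F285550) (tt N30653 F285551) (tt N30760 F285552) (tt N30812 F285553))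
theorem Q31103 : ∀ i, i < 31103 → P i := stepQ 31102 Q31102 (allL N31102 (tt N31413 (iv F287147)) (tt N31102 F285554) (tt N30652 (iv D63872)) (tt N30692 F285555) (tt N30802 F285556) (tt N30763 F285557) (tt N30703 F285558) (tt N30655 F285559) (tt N30762 F285560) (tt N30813 F285561))
theorem Q31104 : ∀ i, i < 31104 → P i := stepQ 31103 Q31103 (allL N31103 (tt N30655 F285562) (tt N31414 D64184) (tt N30653 (iv D63873)) (tt N30868 F285563) (tt N30807 F285564) (tt N31415 D64185) (tt N30658 F285565) (tt N31413 (iv F287152)) (tt N31416 D64186) (tt N31399 (iv F287061)))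
theorem Q31105 : ∀ i, i < 31105 → P i := stepQ 31104 Q31104 (allL N31104 (tt N30656 F285566) (tt N30760 F285567) (tt N31415 (iv F287161)) (tt N30654 F285568) (tt N30874 F285569) (tt N30653 (iv D63874)) (tt N30742 F285570) (tt N30761 F285571) (tt N30747 (iv F285572)) (tt N31400 (iv F287068)))
theorem Q31106 : ∀ i, i < 31106 → P i := stepQ 31105 Q31105 (allL N31105 (tt N30657 F285573) (tt N30761 F285574) (tt N31416 (iv F287168)) (tt N30697 F285575) (tt N30808 F285576) (tt N30747 F285577) (tt N30659 F285578) (tt N30760 F285579) (tt N30653 (iv D63875)) (tt N31390 (iv F287007)))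
theorem Q31107 : ∀ i, i < 31107 → P i := stepQ 31106 Q31106 (allL N31106 (tt N31415 (iv F287160)) (tt N31106 F285580) (tt N30656 F285581) (tt N30728 F285582) (tt N30875 F285583) (tt N30655 (iv D63876)) (tt N30743 F285584) (tt N30763 F285585) (tt N30748 (iv F285586)) (tt N31402 (iv F287081)))
theorem Q31108 : ∀ i, i < 31108 → P i := stepQ 31107 Q31107 (allL N31107 (tt N31416 (iv F287167)) (tt N31107 F285587) (tt N30657 F285588) (tt N30915 F285589) (tt N30809 F285590) (tt N30748 F285591) (tt N30660 F285592) (tt N30762 F285593) (tt N30655 (iv D63877)) (tt N31391 (iv F287013)))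
theorem Q31109 : ∀ i, i < 31109 → P i := stepQ 31108 Q31108 (allL N31108 (tt N31108 F285594) (tt N30658 (iv D63878)) (tt N31371 (iv F286874)) (tt N30869 F285595) (tt N31362 (iv F286807)) (tt N30956 F285596) (tt N31414 (iv F287159)) (tt N30934 F285597) (tt N31417 D64187) (tt N31404 (iv F287092)))
theorem Q31110 : ∀ i, i < 31110 → P i := stepQ 31109 Q31109 (allL N31109 (tt N30660 F285598) (tt N31417 (iv F287175)) (tt N30659 F285599) (tt N31418 D64188) (tt N31364 (iv F286820)) (tt N30949 F285600) (tt N31416 (iv F287172)) (tt N30935 F285601) (tt N30658 (iv D63879)) (tt N31419 D64189))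
theorem Q31111 : ∀ i, i < 31111 → P i := stepQ 31110 Q31110 (allL N31110 (tt N30661 F285602) (tt N31373 (iv F286887)) (tt N31419 (iv F287185)) (tt N30947 F285603) (tt N31365 (iv F286827)) (tt N30946 F285604) (tt N31390 (iv F287005)) (tt N30936 F285605) (tt N31406 (iv F287103)) (tt N30659 (iv D63880)))
theorem Q31112 : ∀ i, i < 31112 → P i := stepQ 31111 Q31111 (allL N31111 (tt N31418 (iv F287178)) (tt N31111 F285606) (tt N30689 F285607) (tt N30660 (iv D63881)) (tt N31420 D64190) (tt N30732 F285608) (tt N30915 F285609) (tt N30743 F285610) (tt N30688 F285611) (tt N31396 (iv F287042)))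
theorem Q31113 : ∀ i, i < 31113 → P i := stepQ 31112 Q31112 (allL N31112 (tt N31419 (iv F287184)) (tt N31112 F285612) (tt N30661 F285613) (tt N31396 (iv F287043)) (tt N31366 (iv F286834)) (tt N30948 F285614) (tt N31391 (iv F287011)) (tt N30937 F285615) (tt N31407 (iv F287109)) (tt N30660 (iv D63882)))
theorem Q31114 : ∀ i, i < 31114 → P i := stepQ 31113 Q31113 (allL N31113 (tt N30663 F285616) (tt N30946 F285617) (tt N31421 D64191) (tt N30662 (iv D63883)) (tt N30671 F285618) (tt N31373 (iv F286890)) (tt N30772 F285619) (tt N30950 F285620) (tt N30709 F285621) (tt N30749 F285622))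
theorem Q31115 : ∀ i, i < 31115 → P i := stepQ 31114 Q31114 (allL N31114 (tt N30664 F285623) (tt N30947 F285624) (tt N30754 F285625) (tt N31373 (iv F286888)) (tt N30752 F285626) (tt N30662 (iv D63884)) (tt N30771 F285627) (tt N30951 F285628) (tt N30668 F285629) (tt N30750 F285630))
theorem Q31116 : ∀ i, i < 31116 → P i := stepQ 31115 Q31115 (allL N31115 (tt N31421 (iv F287194)) (tt N31115 F285631) (tt N30663 (iv D63885)) (tt N30755 F285632) (tt N30673 F285633) (tt N31374 (iv F286898)) (tt N30773 F285634) (tt N30952 F285635) (tt N30711 F285636) (tt N30751 F285637))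
theorem Q31117 : ∀ i, i < 31117 → P i := stepQ 31116 Q31116 (allL N31116 (tt N30666 F285638) (tt N30950 F285639) (tt N31422 D64192) (tt N30665 (iv D63886)) (tt N30669 F285640) (tt N30936 (iv F285645)) (tt N30775 F285641) (tt N30946 F285642) (tt N30865 F285643) (tt N30733 F285644))
theorem Q31118 : ∀ i, i < 31118 → P i := stepQ 31117 Q31117 (allL N31117 (tt N30667 F285646) (tt N30951 F285647) (tt N30737 F285648) (tt N30936 F285649) (tt N30668 F285650) (tt N30665 (iv D63887)) (tt N30745 F285651) (tt N30947 F285652) (tt N30752 F285653) (tt N30734 F285654))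
theorem Q31119 : ∀ i, i < 31119 → P i := stepQ 31118 Q31118 (allL N31118 (tt N31422 (iv F287201)) (tt N31118 F285655) (tt N30666 (iv D63888)) (tt N30738 F285656) (tt N30670 F285657) (tt N30937 F285658) (tt N30776 F285659) (tt N30948 F285660) (tt N30866 F285661) (tt N30735 F285662))
theorem Q31120 : ∀ i, i < 31120 → P i := stepQ 31119 Q31119 (allL N31119 (tt N30670 F285663) (tt N31423 D64193) (tt N30669 (iv D63889)) (tt N30913 F285664) (tt N31422 (iv F287203)) (tt N30726 F285665) (tt N30870 F285666) (tt N31367 (iv F286843)) (tt N30868 F285667) (tt N30774 F285668))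
theorem Q31121 : ∀ i, i < 31121 → P i := stepQ 31120 Q31120 (allL N31120 (tt N30673 F285669) (tt N31424 D64194) (tt N30671 (iv D63890)) (tt N30800 F285670) (tt N31421 (iv F287196)) (tt N30979 (iv F285675)) (tt N30949 F285671) (tt N30958 F285672) (tt N30741 F285673) (tt N30960 F285674))
theorem Q31122 : ∀ i, i < 31122 → P i := stepQ 31121 Q31121 (allL N31121 (tt N30674 F285676) (tt N30702 F285677) (tt N30979 F285678) (tt N30672 F285679) (tt N30871 (iv F285684)) (tt N30671 (iv D63891)) (tt N30747 F285680) (tt N30687 F285681) (tt N30742 F285682) (tt N30779 F285683))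
theorem Q31123 : ∀ i, i < 31123 → P i := stepQ 31122 Q31122 (allL N31122 (tt N30676 F285685) (tt N30709 F285686) (tt N31425 D64195) (tt N30675 (iv D63892)) (tt N30690 F285687) (tt N31406 (iv F287101)) (tt N30917 F285688) (tt N30865 F285689) (tt N30946 F285690) (tt N30925 F285691))
theorem Q31124 : ∀ i, i < 31124 → P i := stepQ 31123 Q31123 (allL N31123 (tt N30677 F285692) (tt N30710 F285693) (tt N30882 F285694) (tt N31406 (iv F287100)) (tt N30877 F285695) (tt N30675 (iv D63893)) (tt N31426 D64196) (tt N30861 F285696) (tt N30685 F285697) (tt N30860 F285698))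
theorem Q31125 : ∀ i, i < 31125 → P i := stepQ 31124 Q31124 (allL N31124 (tt N31425 (iv F287223)) (tt N31124 F285699) (tt N30676 (iv D63894)) (tt N30928 F285700) (tt N30692 F285701) (tt N31407 (iv F287107)) (tt N30918 F285702) (tt N30866 F285703) (tt N30948 F285704) (tt N30926 F285705))
theorem Q31126 : ∀ i, i < 31126 → P i := stepQ 31125 Q31125 (allL N31125 (tt N31426 (iv F287230)) (tt N30678 F285706) (tt N30881 F285707) (tt N31331 (iv F286598)) (tt N30706 F285708) (tt N30796 F285709) (tt N30677 (iv D63895)) (tt N30858 F285710) (tt N30686 F285711) (tt N30828 F285712))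
theorem Q31127 : ∀ i, i < 31127 → P i := stepQ 31126 Q31126 (allL N31126 (tt N30680 F285713) (tt N30716 F285714) (tt N31427 D64197) (tt N30679 (iv D63896)) (tt N30687 F285715) (tt N31428 D64198) (tt N30887 F285716) (tt N30871 F285717) (tt N31429 D64199) (tt N30782 F285718))
theorem Q31128 : ∀ i, i < 31128 → P i := stepQ 31127 Q31127 (allL N31127 (tt N30681 F285719) (tt N30717 F285720) (tt N30859 F285721) (tt N31428 (iv F287246)) (tt N30685 F285722) (tt N30679 (iv D63897)) (tt N31430 D64200) (tt N30863 F285723) (tt N30877 F285724) (tt N30783 F285725))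
theorem Q31129 : ∀ i, i < 31129 → P i := stepQ 31128 Q31128 (allL N31128 (tt N31427 (iv F287238)) (tt N31128 F285726) (tt N30680 (iv D63898)) (tt N30939 F285727) (tt N30688 F285728) (tt N31431 D64201) (tt N30889 F285729) (tt N30872 F285730) (tt N31420 (iv F287193)) (tt N30784 F285731))
theorem Q31130 : ∀ i, i < 31130 → P i := stepQ 31129 Q31129 (allL N31129 (tt N31428 (iv F287244)) (tt N30682 F285732) (tt N31431 (iv F287265)) (tt N30681 F285733) (tt N30916 F285734) (tt N30680 (iv D63899)) (tt N31340 (iv F286660)) (tt N30864 F285735) (tt N31339 F286655) (tt N30785 F285736))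
theorem Q31131 : ∀ i, i < 31131 → P i := stepQ 31130 Q31130 (allL N31130 (tt N31429 (iv F287250)) (tt N30683 F285737) (tt N31420 (iv F287189)) (tt N30787 F285738) (tt N30689 F285739) (tt N31339 (iv F286652)) (tt N30785 F285740) (tt N30744 F285741) (tt N30680 (iv D63900)) (tt N31340 (iv F286662)))
theorem Q31132 : ∀ i, i < 31132 → P i := stepQ 31131 Q31131 (allL N31131 (tt N31430 (iv F287256)) (tt N30684 F285742) (tt N30858 F285743) (tt N31340 (iv F286657)) (tt N30686 F285744) (tt N30707 F285745) (tt N30681 (iv D63901)) (tt N30881 F285746) (tt N30706 F285747) (tt N30787 F285748))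
theorem Q31133 : ∀ i, i < 31133 → P i := stepQ 31132 Q31132 (allL N31132 (tt N30686 F285749) (tt N30724 F285750) (tt N30941 F285751) (tt N30795 F285752) (tt N31430 (iv F287259)) (tt N30794 F285753) (tt N30685 (iv D63902)) (tt N30884 F285754) (tt N31426 (iv F287236)) (tt N30788 F285755))
theorem Q31134 : ∀ i, i < 31134 → P i := stepQ 31133 Q31133 (allL N31133 (tt N30688 F285756) (tt N31432 D64202) (tt N30687 (iv D63903)) (tt N30870 F285757) (tt N31427 (iv F287240)) (tt N30958 F285758) (tt N30913 F285759) (tt N30979 F285760) (tt N31418 (iv F287183)) (tt N30789 F285761))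
theorem Q31135 : ∀ i, i < 31135 → P i := stepQ 31134 Q31134 (allL N31134 (tt N30689 F285762) (tt N30727 F285763) (tt N31418 (iv F287179)) (tt N30695 F285764) (tt N31429 (iv F287253)) (tt N30731 F285765) (tt N30914 F285766) (tt N30742 F285767) (tt N30687 (iv D63904)) (tt N31395 (iv F287036)))
theorem Q31136 : ∀ i, i < 31136 → P i := stepQ 31135 Q31135 (allL N31135 (tt N30692 F285768) (tt N31433 D64203) (tt N30690 (iv D63905)) (tt N31413 (iv F287148)) (tt N31425 (iv F287225)) (tt N31434 D64204) (tt N30954 F285769) (tt N30868 F285770) (tt N31367 (iv F286844)) (tt N31383 (iv F286966)))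
theorem Q31137 : ∀ i, i < 31137 → P i := stepQ 31136 Q31136 (allL N31136 (tt N30693 F285771) (tt N30742 F285772) (tt N31434 (iv F287282)) (tt N30691 F285773) (tt N31435 D64205) (tt N30690 (iv D63906)) (tt N30760 F285774) (tt N30727 F285775) (tt N30702 F285776) (tt N31384 (iv F286973)))
theorem Q31138 : ∀ i, i < 31138 → P i := stepQ 31137 Q31137 (allL N31137 (tt N31434 (iv F287281)) (tt N31137 F285777) (tt N30693 F285778) (tt N30763 F285779) (tt N31436 D64206) (tt N30692 (iv D63907)) (tt N30762 F285780) (tt N30728 F285781) (tt N30703 F285782) (tt N31385 (iv F286980)))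
theorem Q31139 : ∀ i, i < 31139 → P i := stepQ 31138 Q31138 (allL N31138 (tt N31435 (iv F287287)) (tt N30694 F285783) (tt N31436 (iv F287294)) (tt N30770 F285784) (tt N30693 (iv D63908)) (tt N31332 (iv F286607)) (tt N30764 F285785) (tt N30720 F285786) (tt N30701 F285787) (tt N31361 (iv F286803)))
theorem Q31140 : ∀ i, i < 31140 → P i := stepQ 31139 Q31139 (allL N31139 (tt N30696 F285788) (tt N30745 F285789) (tt N30947 F285790) (tt N31395 (iv F287032)) (tt N30795 F285791) (tt N30730 F285792) (tt N30951 F285793) (tt N30737 F285794) (tt N30699 F285795) (tt N30695 (iv D63909)))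
theorem Q31141 : ∀ i, i < 31141 → P i := stepQ 31140 Q31140 (allL N31140 (tt N30698 F285796) (tt N30771 F285797) (tt N30951 F285798) (tt N31390 (iv F287003)) (tt N30699 F285799) (tt N30746 F285800) (tt N30947 F285801) (tt N30754 F285802) (tt N30795 F285803) (tt N30697 (iv D63910)))
theorem Q31142 : ∀ i, i < 31142 → P i := stepQ 31141 Q31141 (allL N31141 (tt N30701 F285804) (tt N30871 F285805) (tt N31437 D64207) (tt N30700 (iv D63911)) (tt N30702 F285806) (tt N31365 (iv F286828)) (tt N30801 F285807) (tt N30716 F285808) (tt N31435 (iv F287292)) (tt N30810 F285809))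
theorem Q31143 : ∀ i, i < 31143 → P i := stepQ 31142 Q31142 (allL N31142 (tt N31437 (iv F287299)) (tt N31142 F285810) (tt N30701 (iv D63912)) (tt N30972 F285811) (tt N30703 F285812) (tt N31366 (iv F286835)) (tt N30802 F285813) (tt N30718 F285814) (tt N31436 (iv F287298)) (tt N30811 F285815))
theorem Q31144 : ∀ i, i < 31144 → P i := stepQ 31143 Q31143 (allL N31143 (tt N30703 F285816) (tt N31438 D64208) (tt N30702 (iv D63913)) (tt N30954 F285817) (tt N31437 (iv F287301)) (tt N31367 (iv F286841)) (tt N31413 (iv F287151)) (tt N30726 F285818) (tt N31434 (iv F287286)) (tt N30815 F285819))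
theorem Q31145 : ∀ i, i < 31145 → P i := stepQ 31144 Q31144 (allL N31144 (tt N30706 F285820) (tt N31326 (iv F286562)) (tt N30884 F285821) (tt N30705 F285822) (tt N31426 (iv F287233)) (tt N30704 (iv D63914)) (tt N30877 F285823) (tt N30941 F285824) (tt N31430 (iv F287262)) (tt N30826 F285825))
theorem Q31146 : ∀ i, i < 31146 → P i := stepQ 31145 Q31145 (allL N31145 (tt N30707 F285826) (tt N30910 F285827) (tt N31347 (iv F286707)) (tt N31335 (iv F286625)) (tt N30909 F285828) (tt N31430 (iv F287260)) (tt N30888 F285829) (tt N31346 (iv F286702)) (tt N30704 (iv D63915)) (tt N31336 (iv F286636)))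
theorem Q31147 : ∀ i, i < 31147 → P i := stepQ 31146 Q31146 (allL N31146 (tt N30708 F285830) (tt N31325 (iv F286553)) (tt N30724 F285831) (tt N30877 F285832) (tt N31329 (iv F286586)) (tt N30856 F285833) (tt N30705 (iv D63916)) (tt N30878 F285834) (tt N31336 (iv F286635)) (tt N30827 F285835))
theorem Q31148 : ∀ i, i < 31148 → P i := stepQ 31147 Q31147 (allL N31147 (tt N30711 F285836) (tt N31439 D64209) (tt N30709 (iv D63917)) (tt N31333 (iv F286612)) (tt N30741 F285837) (tt N31440 D64210) (tt N30940 F285838) (tt N31398 (iv F287054)) (tt N31421 (iv F287199)) (tt N31387 (iv F286992)))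
theorem Q31149 : ∀ i, i < 31149 → P i := stepQ 31148 Q31148 (allL N31148 (tt N30712 F285839) (tt N31406 (iv F287099)) (tt N31440 (iv F287314)) (tt N30710 F285840) (tt N31441 D64211) (tt N30709 (iv D63918)) (tt N31442 D64212) (tt N31343 (iv F286679)) (tt N31373 (iv F286893)) (tt N31323 F286543))
theorem Q31150 : ∀ i, i < 31150 → P i := stepQ 31149 Q31149 (allL N31149 (tt N30713 F285841) (tt N31426 (iv F287231)) (tt N31336 (iv F286631)) (tt N31442 (iv F287322)) (tt N31326 (iv F286565)) (tt N30857 F285842) (tt N30710 (iv D63919)) (tt N31381 (iv F286950)) (tt N30724 F285843) (tt N31347 (iv F286713)))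
theorem Q31151 : ∀ i, i < 31151 → P i := stepQ 31150 Q31150 (allL N31150 (tt N31440 (iv F287313)) (tt N31150 F285844) (tt N30712 F285845) (tt N31337 (iv F286639)) (tt N31443 D64213) (tt N30711 (iv D63920)) (tt N31444 D64214) (tt N31344 (iv F286686)) (tt N31374 (iv F286901)) (tt N31324 F286551))
theorem Q31152 : ∀ i, i < 31152 → P i := stepQ 31151 Q31151 (allL N31151 (tt N31441 (iv F287315)) (tt N30714 F285846) (tt N31443 (iv F287328)) (tt N30880 F285847) (tt N30712 (iv D63921)) (tt N30744 F285848) (tt N30901 (iv F285851)) (tt N31339 (iv F286653)) (tt N30864 F285849) (tt N30894 F285850))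
theorem Q31153 : ∀ i, i < 31153 → P i := stepQ 31152 Q31152 (allL N31152 (tt N31442 (iv F287321)) (tt N30715 F285852) (tt N31444 (iv F287334)) (tt N30713 F285853) (tt N30901 F285854) (tt N30814 F285855) (tt N30712 (iv D63922)) (tt N31351 (iv F286739)) (tt N30765 F285856) (tt N30757 F285857))
theorem Q31154 : ∀ i, i < 31154 → P i := stepQ 31153 Q31153 (allL N31153 (tt N30718 F285858) (tt N31445 D64215) (tt N30716 (iv D63923)) (tt N31327 (iv F286571)) (tt N30726 F285859) (tt N31446 D64216) (tt N30933 F285860) (tt N31437 (iv F287303)) (tt N31447 D64217) (tt N30835 F285861))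
theorem Q31155 : ∀ i, i < 31155 → P i := stepQ 31154 Q31154 (allL N31154 (tt N30719 F285862) (tt N31428 (iv F287245)) (tt N31446 (iv F287344)) (tt N30717 F285863) (tt N30936 F285864) (tt N30716 (iv D63924)) (tt N31448 D64218) (tt N31365 (iv F286830)) (tt N31449 D64219) (tt N30836 F285865))
theorem Q31156 : ∀ i, i < 31156 → P i := stepQ 31155 Q31155 (allL N31155 (tt N30720 F285866) (tt N31429 (iv F287251)) (tt N31447 (iv F287348)) (tt N30838 F285867) (tt N30727 F285868) (tt N31449 (iv F287360)) (tt N30836 F285869) (tt N31435 (iv F287291)) (tt N30716 (iv D63925)) (tt N31448 (iv F287355)))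
theorem Q31157 : ∀ i, i < 31157 → P i := stepQ 31156 Q31156 (allL N31156 (tt N30721 F285870) (tt N31430 (iv F287257)) (tt N31329 (iv F286585)) (tt N31448 (iv F287352)) (tt N30724 F285871) (tt N30910 F285872) (tt N30717 (iv D63926)) (tt N31377 (iv F286921)) (tt N31326 (iv F286568)) (tt N30838 F285873))
theorem Q31158 : ∀ i, i < 31158 → P i := stepQ 31157 Q31157 (allL N31157 (tt N31446 (iv F287343)) (tt N31157 F285874) (tt N30719 F285875) (tt N31330 (iv F286593)) (tt N30937 F285876) (tt N30718 (iv D63927)) (tt N31450 D64220) (tt N31366 (iv F286837)) (tt N31451 D64221) (tt N30839 F285877))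
theorem Q31159 : ∀ i, i < 31159 → P i := stepQ 31158 Q31158 (allL N31158 (tt N31447 (iv F287347)) (tt N31158 F285878) (tt N30720 F285879) (tt N31360 (iv F286793)) (tt N30728 F285880) (tt N31451 (iv F287372)) (tt N30839 F285881) (tt N31436 (iv F287297)) (tt N30718 (iv D63928)) (tt N31450 (iv F287367)))
theorem Q31160 : ∀ i, i < 31160 → P i := stepQ 31159 Q31159 (allL N31159 (tt N31448 (iv F287351)) (tt N30722 F285882) (tt N31450 (iv F287364)) (tt N30721 F285883) (tt N30729 F285884) (tt N30833 F285885) (tt N30719 (iv D63929)) (tt N31361 (iv F286802)) (tt N30832 (iv F285887)) (tt N30720 F285886))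
theorem Q31161 : ∀ i, i < 31161 → P i := stepQ 31160 Q31160 (allL N31160 (tt N31449 (iv F287357)) (tt N30723 F285888) (tt N31451 (iv F287370)) (tt N30834 F285889) (tt N30844 F285890) (tt N30720 F285891) (tt N30832 F285892) (tt N31332 (iv F286608)) (tt N30719 (iv D63930)) (tt N30833 F285893))
theorem Q31162 : ∀ i, i < 31162 → P i := stepQ 31161 Q31161 (allL N31161 (tt N30725 F285894) (tt N30884 F285895) (tt N30878 F285896) (tt N30767 F285897) (tt N31377 (iv F286919)) (tt N30855 F285898) (tt N30766 F285899) (tt N30724 (iv D63931)) (tt N31381 (iv F286951)) (tt N30769 F285900))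
theorem Q31163 : ∀ i, i < 31163 → P i := stepQ 31162 Q31162 (allL N31162 (tt N31162 F285901) (tt N30726 (iv D63932)) (tt N31432 (iv F287271)) (tt N30977 F285902) (tt N31445 (iv F287340)) (tt N31423 (iv F287212)) (tt N30934 F285903) (tt N31438 (iv F287308)) (tt N31452 D64222) (tt N30845 F285904))
theorem Q31164 : ∀ i, i < 31164 → P i := stepQ 31163 Q31163 (allL N31163 (tt N30728 F285905) (tt N31452 (iv F287376)) (tt N30727 F285906) (tt N31415 (iv F287162)) (tt N31447 (iv F287349)) (tt N30868 F285907) (tt N30935 F285908) (tt N31434 (iv F287285)) (tt N30726 (iv D63933)) (tt N31453 D64223))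
theorem Q31165 : ∀ i, i < 31165 → P i := stepQ 31164 Q31164 (allL N31164 (tt N30729 F285909) (tt N31395 (iv F287031)) (tt N31453 (iv F287380)) (tt N30745 F285910) (tt N31448 (iv F287353)) (tt N30850 F285911) (tt N30936 F285912) (tt N31384 (iv F286971)) (tt N30847 F285913) (tt N30727 (iv D63934)))
theorem Q31166 : ∀ i, i < 31166 → P i := stepQ 31165 Q31165 (allL N31165 (tt N31453 (iv F287379)) (tt N31165 F285914) (tt N30729 F285915) (tt N31402 (iv F287077)) (tt N31450 (iv F287365)) (tt N30851 F285916) (tt N30937 F285917) (tt N31385 (iv F286978)) (tt N30849 F285918) (tt N30728 (iv D63935)))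
theorem Q31167 : ∀ i, i < 31167 → P i := stepQ 31166 Q31166 (allL N31166 (tt N30732 F285919) (tt N31454 D64224) (tt N30731 (iv D63936)) (tt N30949 F285920) (tt N31398 (iv F287052)) (tt N31418 (iv F287180)) (tt N30800 F285921) (tt N30741 F285922) (tt N30958 F285923) (tt N31394 (iv F287028)))
theorem Q31168 : ∀ i, i < 31168 → P i := stepQ 31167 Q31167 (allL N31167 (tt N30735 F285924) (tt N31455 D64225) (tt N30733 (iv D63937)) (tt N30741 F285925) (tt N30774 F285926) (tt N30935 F285927) (tt N30777 F285928) (tt N30949 F285929) (tt N30911 F285930) (tt N31422 (iv F287208)))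
theorem Q31169 : ∀ i, i < 31169 → P i := stepQ 31168 Q31168 (allL N31168 (tt N30738 F285931) (tt N31456 D64226) (tt N30736 (iv D63938)) (tt N31422 (iv F287202)) (tt N31387 (iv F286988)) (tt N31457 D64227) (tt N30955 F285932) (tt N31394 (iv F287027)) (tt N31379 (iv F286936)) (tt N30741 F285933))
theorem Q31170 : ∀ i, i < 31170 → P i := stepQ 31169 Q31169 (allL N31169 (tt N30739 F285934) (tt N31384 (iv F286968)) (tt N31457 (iv F287402)) (tt N30737 F285935) (tt N31458 D64228) (tt N30736 (iv D63939)) (tt N31400 (iv F287066)) (tt N31395 (iv F287035)) (tt N31380 (iv F286943)) (tt N30742 F285936))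
theorem Q31171 : ∀ i, i < 31171 → P i := stepQ 31170 Q31170 (allL N31170 (tt N31457 (iv F287401)) (tt N31170 F285937) (tt N30739 F285938) (tt N30937 F285939) (tt N31459 D64229) (tt N30738 (iv D63940)) (tt N31402 (iv F287079)) (tt N31396 (iv F287041)) (tt N31382 (iv F286958)) (tt N30743 F285940))
theorem Q31172 : ∀ i, i < 31172 → P i := stepQ 31171 Q31171 (allL N31171 (tt N31458 (iv F287405)) (tt N30740 F285941) (tt N31459 (iv F287412)) (tt N30881 F285942) (tt N30739 (iv D63941)) (tt N30894 F285943) (tt N30876 F285944) (tt N31340 (iv F286661)) (tt N30893 F285945) (tt N30744 F285946))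
theorem Q31173 : ∀ i, i < 31173 → P i := stepQ 31172 Q31172 (allL N31172 (tt N31172 F285947) (tt N30741 (iv D63942)) (tt N31433 (iv F287278)) (tt N31455 (iv F287392)) (tt N31439 (iv F287311)) (tt N31460 D64230) (tt N30956 F285948) (tt N31454 (iv F287388)) (tt N31424 (iv F287221)) (tt N31456 (iv F287400)))
theorem Q31174 : ∀ i, i < 31174 → P i := stepQ 31173 Q31173 (allL N31173 (tt N30743 F285949) (tt N31460 (iv F287418)) (tt N30742 F285950) (tt N30935 F285951) (tt N31461 D64231) (tt N30741 (iv D63943)) (tt N31415 (iv F287164)) (tt N31418 (iv F287182)) (tt N30979 F285952) (tt N31457 (iv F287404)))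
theorem Q31175 : ∀ i, i < 31175 → P i := stepQ 31174 Q31174 (allL N31174 (tt N30744 F285953) (tt N31435 (iv F287288)) (tt N31461 (iv F287422)) (tt N30879 F285954) (tt N30742 (iv D63944)) (tt N31441 (iv F287317)) (tt N30874 F285955) (tt N31429 (iv F287255)) (tt N30871 F285956) (tt N31458 (iv F287410)))
theorem Q31176 : ∀ i, i < 31176 → P i := stepQ 31175 Q31175 (allL N31175 (tt N31461 (iv F287421)) (tt N31175 F285957) (tt N30744 F285958) (tt N31403 (iv F287084)) (tt N30743 (iv D63945)) (tt N31443 (iv F287329)) (tt N30875 F285959) (tt N31420 (iv F287192)) (tt N30872 F285960) (tt N31459 (iv F287416)))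
theorem Q31177 : ∀ i, i < 31177 → P i := stepQ 31176 Q31176 (allL N31176 (tt N30748 F285961) (tt N31462 D64232) (tt N30747 (iv D63946)) (tt N30953 F285962) (tt N30873 F285963) (tt N31416 (iv F287171)) (tt N30979 F285964) (tt N30759 F285965) (tt N31415 F287166) (tt N31412 (iv F287146)))
theorem Q31178 : ∀ i, i < 31178 → P i := stepQ 31177 Q31177 (allL N31177 (tt N30751 F285966) (tt N31463 D64233) (tt N30749 (iv D63947)) (tt N30759 F285967) (tt N30960 F285968) (tt N31372 (iv F286882)) (tt N31367 (iv F286842)) (tt N30953 F285969) (tt N30954 F285970) (tt N31421 (iv F287200)))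
theorem Q31179 : ∀ i, i < 31179 → P i := stepQ 31178 Q31178 (allL N31178 (tt N30755 F285971) (tt N31464 D64234) (tt N30753 (iv D63948)) (tt N31421 (iv F287195)) (tt N30898 F285972) (tt N31465 D64235) (tt N31322 (iv F286533)) (tt N31412 (iv F287145)) (tt N31466 D64236) (tt N30759 F285973))
theorem Q31180 : ∀ i, i < 31180 → P i := stepQ 31179 Q31179 (allL N31179 (tt N30756 F285974) (tt N31400 (iv F287063)) (tt N31465 (iv F287440)) (tt N30754 F285975) (tt N31376 (iv F286912)) (tt N30753 (iv D63949)) (tt N31384 (iv F286970)) (tt N31390 (iv F287006)) (tt N31467 D64237) (tt N30760 F285976))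
theorem Q31181 : ∀ i, i < 31181 → P i := stepQ 31180 Q31180 (allL N31180 (tt N30757 F285977) (tt N31401 (iv F287070)) (tt N31466 (iv F287443)) (tt N31347 (iv F286708)) (tt N30899 F285978) (tt N31467 (iv F287448)) (tt N31323 (iv F286541)) (tt N31354 (iv F286757)) (tt N30753 (iv D63950)) (tt N31442 (iv F287326)))
theorem Q31182 : ∀ i, i < 31182 → P i := stepQ 31181 Q31181 (allL N31181 (tt N31465 (iv F287439)) (tt N31181 F285979) (tt N30756 F285980) (tt N31374 (iv F286896)) (tt N31378 (iv F286927)) (tt N30755 (iv D63951)) (tt N31385 (iv F286977)) (tt N31391 (iv F287012)) (tt N31468 D64238) (tt N30762 F285981))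
theorem Q31183 : ∀ i, i < 31183 → P i := stepQ 31182 Q31182 (allL N31182 (tt N31466 (iv F287442)) (tt N31182 F285982) (tt N30757 F285983) (tt N31338 (iv F286645)) (tt N30900 F285984) (tt N31468 (iv F287454)) (tt N31324 (iv F286549)) (tt N31355 (iv F286763)) (tt N30755 (iv D63952)) (tt N31444 (iv F287338)))
theorem Q31184 : ∀ i, i < 31184 → P i := stepQ 31183 Q31183 (allL N31183 (tt N31467 (iv F287445)) (tt N30758 F285985) (tt N31468 (iv F287452)) (tt N30858 F285986) (tt N30969 F285987) (tt N30757 F285988) (tt N30818 F285989) (tt N31331 (iv F286600)) (tt N30756 (iv D63953)) (tt N30814 F285990))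
theorem Q31185 : ∀ i, i < 31185 → P i := stepQ 31184 Q31184 (allL N31184 (tt N31184 F285991) (tt N30759 (iv D63954)) (tt N31414 (iv F287156)) (tt N31463 (iv F287432)) (tt N30902 F285992) (tt N31469 D64239) (tt N31371 (iv F286877)) (tt N31462 (iv F287429)) (tt N31470 D64240) (tt N31464 (iv F287438)))
theorem Q31186 : ∀ i, i < 31186 → P i := stepQ 31185 Q31185 (allL N31185 (tt N30762 F285993) (tt N31469 (iv F287458)) (tt N30760 F285994) (tt N31372 F286885) (tt N31471 D64241) (tt N30759 (iv D63955)) (tt N31434 (iv F287284)) (tt N31416 (iv F287173)) (tt N31413 (iv F287153)) (tt N31465 (iv F287441)))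
theorem Q31187 : ∀ i, i < 31187 → P i := stepQ 31186 Q31186 (allL N31186 (tt N30763 F285995) (tt N31470 (iv F287460)) (tt N30761 F285996) (tt N31434 (iv F287283)) (tt N30904 F285997) (tt N31413 (iv F287150)) (tt N31372 (iv F286883)) (tt N31415 (iv F287165)) (tt N30759 (iv D63956)) (tt N31472 D64242))
theorem Q31188 : ∀ i, i < 31188 → P i := stepQ 31187 Q31187 (allL N31187 (tt N30764 F285998) (tt N30874 F285999) (tt N31471 (iv F287463)) (tt N30768 F286000) (tt N30760 (iv D63957)) (tt N30905 F286001) (tt N31435 (iv F287290)) (tt N30808 F286002) (tt N30801 F286003) (tt N31376 (iv F286915)))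
theorem Q31189 : ∀ i, i < 31189 → P i := stepQ 31188 Q31188 (allL N31188 (tt N30765 F286004) (tt N31390 (iv F287002)) (tt N31472 (iv F287469)) (tt N30771 F286005) (tt N30906 F286006) (tt N30812 F286007) (tt N31373 (iv F286891)) (tt N31400 (iv F287067)) (tt N31442 (iv F287325)) (tt N30761 (iv D63958)))
theorem Q31190 : ∀ i, i < 31190 → P i := stepQ 31189 Q31189 (allL N31189 (tt N31471 (iv F287462)) (tt N31189 F286008) (tt N30764 F286009) (tt N30840 F286010) (tt N30762 (iv D63959)) (tt N30907 F286011) (tt N31436 (iv F287296)) (tt N30809 F286012) (tt N30802 F286013) (tt N31378 (iv F286930)))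
theorem Q31191 : ∀ i, i < 31191 → P i := stepQ 31190 Q31190 (allL N31190 (tt N31472 (iv F287468)) (tt N31190 F286014) (tt N30765 F286015) (tt N31385 (iv F286976)) (tt N30908 F286016) (tt N30813 F286017) (tt N31374 (iv F286899)) (tt N31402 (iv F287080)) (tt N31444 (iv F287337)) (tt N30763 (iv D63960)))
theorem Q31192 : ∀ i, i < 31192 → P i := stepQ 31191 Q31191 (allL N31191 (tt N30770 F286018) (tt N30879 F286019) (tt N30910 F286020) (tt N31435 (iv F287289)) (tt N30769 F286021) (tt N31329 (iv F286587)) (tt N30768 (iv D63961)) (tt N30838 F286022) (tt N30803 F286023) (tt N31377 (iv F286923)))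
theorem Q31193 : ∀ i, i < 31193 → P i := stepQ 31192 Q31192 (allL N31192 (tt N30773 F286024) (tt N31473 D64243) (tt N30772 (iv D63962)) (tt N31322 (iv F286530)) (tt N30949 F286025) (tt N30815 F286026) (tt N31421 (iv F287197)) (tt N30774 F286027) (tt N30940 F286028) (tt N31367 (iv F286845)))
theorem Q31194 : ∀ i, i < 31194 → P i := stepQ 31193 Q31193 (allL N31193 (tt N31193 F286029) (tt N30774 (iv D63963)) (tt N30962 F286030) (tt N31341 (iv F286665)) (tt N31455 (iv F287393)) (tt N30845 F286031) (tt N31368 (iv F286851)) (tt N31473 (iv F287476)) (tt N30945 F286032) (tt N31423 (iv F287215)))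
theorem Q31195 : ∀ i, i < 31195 → P i := stepQ 31194 Q31194 (allL N31194 (tt N30776 F286033) (tt N31474 D64244) (tt N30775 (iv D63964)) (tt N30955 F286034) (tt N30870 F286035) (tt N30852 F286036) (tt N31422 (iv F287205)) (tt N30778 F286037) (tt N30867 F286038) (tt N30777 F286039))
theorem Q31196 : ∀ i, i < 31196 → P i := stepQ 31195 Q31195 (allL N31195 (tt N31195 F286040) (tt N30777 (iv D63965)) (tt N30978 F286041) (tt N30956 F286042) (tt N31368 (iv F286849)) (tt N30869 F286043) (tt N31455 (iv F287395)) (tt N30959 F286044) (tt N30963 F286045) (tt N31474 (iv F287485)))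
theorem Q31197 : ∀ i, i < 31197 → P i := stepQ 31196 Q31196 (allL N31196 (tt N31196 F286046) (tt N30778 (iv D63966)) (tt N31368 (iv F286847)) (tt N31369 (iv F286857)) (tt N30978 F286047) (tt N30965 F286048) (tt N30962 F286049) (tt N31474 (iv F287483)) (tt N30976 F286050) (tt N30959 F286051))
theorem Q31198 : ∀ i, i < 31198 → P i := stepQ 31197 Q31197 (allL N31197 (tt N30780 F286052) (tt N31475 D64245) (tt N30779 (iv D63967)) (tt N30957 F286053) (tt N30942 F286054) (tt N30960 F286055) (tt N31412 (iv F287144)) (tt N30789 F286056) (tt N31476 D64246) (tt N30979 F286057))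
theorem Q31199 : ∀ i, i < 31199 → P i := stepQ 31198 Q31198 (allL N31198 (tt N30781 F286058) (tt N30816 F286059) (tt N31476 (iv F287494)) (tt N30797 F286060) (tt N30896 F286061) (tt N30917 F286062) (tt N31354 (iv F286756)) (tt N30790 F286063) (tt N30779 (iv D63968)) (tt N31380 (iv F286944)))
theorem Q31200 : ∀ i, i < 31200 → P i := stepQ 31199 Q31199 (allL N31199 (tt N31476 (iv F287493)) (tt N31199 F286064) (tt N30781 F286065) (tt N30900 F286066) (tt N30897 F286067) (tt N30918 F286068) (tt N31355 (iv F286762)) (tt N30791 F286069) (tt N30780 (iv D63969)) (tt N31382 (iv F286959)))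
theorem Q31201 : ∀ i, i < 31201 → P i := stepQ 31200 Q31200 (allL N31200 (tt N30784 F286070) (tt N31477 D64247) (tt N30782 (iv D63970)) (tt N30940 F286071) (tt N30789 F286072) (tt N31478 D64248) (tt N31333 (iv F286614)) (tt N30942 F286073) (tt N31479 D64249) (tt N31427 (iv F287243)))
theorem Q31202 : ∀ i, i < 31202 → P i := stepQ 31201 Q31201 (allL N31201 (tt N30785 F286074) (tt N30836 F286075) (tt N31478 (iv F287505)) (tt N30783 F286076) (tt N30914 F286077) (tt N30782 (iv D63971)) (tt N31429 (iv F287254)) (tt N30862 F286078) (tt N30887 (iv F286079)) (tt N31428 (iv F287249)))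
theorem Q31203 : ∀ i, i < 31203 → P i := stepQ 31202 Q31202 (allL N31202 (tt N30786 F286080) (tt N30837 F286081) (tt N31479 (iv F287511)) (tt N30888 F286082) (tt N30790 F286083) (tt N30887 F286084) (tt N31335 (iv F286627)) (tt N30896 F286085) (tt N30782 (iv D63972)) (tt N31334 (iv F286622)))
theorem Q31204 : ∀ i, i < 31204 → P i := stepQ 31203 Q31203 (allL N31203 (tt N30787 F286086) (tt N30838 F286087) (tt N30857 F286088) (tt N31429 (iv F287252)) (tt N30788 F286089) (tt N31336 (iv F286633)) (tt N30783 (iv D63973)) (tt N30879 F286090) (tt N30856 F286091) (tt N31430 (iv F287263)))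
theorem Q31205 : ∀ i, i < 31205 → P i := stepQ 31204 Q31204 (allL N31204 (tt N31478 (iv F287504)) (tt N31204 F286092) (tt N30785 F286093) (tt N30817 F286094) (tt N30915 F286095) (tt N30784 (iv D63974)) (tt N31420 (iv F287191)) (tt N30848 F286096) (tt N30889 (iv F286097)) (tt N31431 (iv F287269)))
theorem Q31206 : ∀ i, i < 31206 → P i := stepQ 31205 Q31205 (allL N31205 (tt N31479 (iv F287510)) (tt N31205 F286098) (tt N30786 F286099) (tt N31324 (iv F286546)) (tt N30791 F286100) (tt N30889 F286101) (tt N31338 (iv F286647)) (tt N30897 F286102) (tt N30784 (iv D63975)) (tt N31337 (iv F286642)))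
theorem Q31207 : ∀ i, i < 31207 → P i := stepQ 31206 Q31206 (allL N31206 (tt N31206 F286103) (tt N30789 (iv D63976)) (tt N30845 F286104) (tt N31368 (iv F286848)) (tt N31477 (iv F287502)) (tt N30962 F286105) (tt N31341 (iv F286667)) (tt N31475 (iv F287491)) (tt N31480 D64250) (tt N31432 (iv F287276)))
theorem Q31208 : ∀ i, i < 31208 → P i := stepQ 31207 Q31207 (allL N31207 (tt N30791 F286106) (tt N31480 (iv F287516)) (tt N30790 F286107) (tt N31353 (iv F286749)) (tt N31479 (iv F287512)) (tt N30920 F286108) (tt N31342 (iv F286673)) (tt N31476 (iv F287498)) (tt N30789 (iv D63977)) (tt N31393 (iv F287022)))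
theorem Q31209 : ∀ i, i < 31209 → P i := stepQ 31208 Q31208 (allL N31208 (tt N30793 F286109) (tt N31481 D64251) (tt N30792 (iv D63978)) (tt N30960 F286110) (tt N30886 F286111) (tt N30957 F286112) (tt N31394 (iv F287026)) (tt N30961 F286113) (tt N30964 F286114) (tt N30800 F286115))
theorem Q31210 : ∀ i, i < 31210 → P i := stepQ 31209 Q31209 (allL N31209 (tt N30796 F286116) (tt N30857 F286117) (tt N31346 (iv F286698)) (tt N31354 (iv F286755)) (tt N30919 F286118) (tt N31426 (iv F287234)) (tt N30797 F286119) (tt N31347 (iv F286712)) (tt N30794 (iv D63979)) (tt N31381 (iv F286952)))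
theorem Q31211 : ∀ i, i < 31211 → P i := stepQ 31210 Q31210 (allL N31210 (tt N30799 F286120) (tt N31482 D64252) (tt N30798 (iv D63980)) (tt N30898 F286121) (tt N30800 F286122) (tt N30964 F286123) (tt N31398 (iv F287053)) (tt N30943 F286124) (tt N30957 F286125) (tt N30886 F286126))
theorem Q31212 : ∀ i, i < 31212 → P i := stepQ 31211 Q31211 (allL N31211 (tt N31211 F286127) (tt N30800 (iv D63981)) (tt N30869 F286128) (tt N31424 (iv F287217)) (tt N31482 (iv F287530)) (tt N30978 F286129) (tt N31454 (iv F287387)) (tt N30963 F286130) (tt N30959 F286131) (tt N31481 (iv F287526)))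
theorem Q31213 : ∀ i, i < 31213 → P i := stepQ 31212 Q31212 (allL N31212 (tt N30802 F286132) (tt N31483 D64253) (tt N30801 (iv D63982)) (tt N30974 F286133) (tt N31413 (iv F287149)) (tt N30921 F286134) (tt N31437 (iv F287302)) (tt N30807 F286135) (tt N31471 (iv F287467)) (tt N30966 F286136))
theorem Q31214 : ∀ i, i < 31214 → P i := stepQ 31213 Q31213 (allL N31213 (tt N30805 F286137) (tt N31484 D64254) (tt N30804 (iv D63983)) (tt N30921 F286138) (tt N31399 (iv F287058)) (tt N30974 F286139) (tt N31356 (iv F286768)) (tt N30966 F286140) (tt N31485 D64255) (tt N30807 F286141))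
theorem Q31215 : ∀ i, i < 31215 → P i := stepQ 31214 Q31214 (allL N31214 (tt N30806 F286142) (tt N30899 F286143) (tt N31485 (iv F287548)) (tt N30824 F286144) (tt N31401 (iv F287072)) (tt N30823 F286145) (tt N31358 (iv F286782)) (tt N30967 F286146) (tt N30804 (iv D63984)) (tt N31328 (iv F286582)))
theorem Q31216 : ∀ i, i < 31216 → P i := stepQ 31215 Q31215 (allL N31215 (tt N31485 (iv F287547)) (tt N31215 F286147) (tt N30806 F286148) (tt N30839 F286149) (tt N31403 (iv F287085)) (tt N30825 F286150) (tt N31360 (iv F286795)) (tt N30968 F286151) (tt N30805 (iv D63985)) (tt N31330 (iv F286596)))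
theorem Q31217 : ∀ i, i < 31217 → P i := stepQ 31216 Q31216 (allL N31216 (tt N31216 F286152) (tt N30807 (iv D63986)) (tt N30902 F286153) (tt N31370 (iv F286866)) (tt N31414 (iv F287158)) (tt N30975 F286154) (tt N31362 (iv F286808)) (tt N31483 (iv F287539)) (tt N31486 D64256) (tt N31484 (iv F287546)))
theorem Q31218 : ∀ i, i < 31218 → P i := stepQ 31217 Q31217 (allL N31217 (tt N30809 F286155) (tt N31486 (iv F287553)) (tt N30808 F286156) (tt N31363 (iv F286812)) (tt N31416 (iv F287170)) (tt N30912 F286157) (tt N31364 (iv F286822)) (tt N31471 (iv F287466)) (tt N30807 (iv D63987)) (tt N31389 (iv F287000)))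
theorem Q31219 : ∀ i, i < 31219 → P i := stepQ 31218 Q31218 (allL N31218 (tt N30811 F286158) (tt N31487 D64257) (tt N30810 (iv D63988)) (tt N30973 F286159) (tt N30815 F286160) (tt N31364 (iv F286821)) (tt N30966 F286161) (tt N30835 F286162) (tt N31363 F286816) (tt N31437 (iv F287304)))
theorem Q31220 : ∀ i, i < 31220 → P i := stepQ 31219 Q31219 (allL N31219 (tt N30813 F286163) (tt N31488 D64258) (tt N30812 (iv D63989)) (tt N31383 (iv F286961)) (tt N30966 F286164) (tt N31472 (iv F287471)) (tt N30815 F286165) (tt N31399 (iv F287060)) (tt N31489 D64259) (tt N31413 (iv F287154)))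
theorem Q31221 : ∀ i, i < 31221 → P i := stepQ 31220 Q31220 (allL N31220 (tt N30814 F286166) (tt N31354 (iv F286754)) (tt N31489 (iv F287566)) (tt N30857 F286167) (tt N30967 F286168) (tt N31442 (iv F287324)) (tt N30816 F286169) (tt N31401 (iv F287074)) (tt N30812 (iv D63990)) (tt N31467 (iv F287450)))
theorem Q31222 : ∀ i, i < 31222 → P i := stepQ 31221 Q31221 (allL N31221 (tt N31489 (iv F287565)) (tt N31221 F286170) (tt N30814 F286171) (tt N31420 (iv F287190)) (tt N30968 F286172) (tt N31444 (iv F287336)) (tt N30817 F286173) (tt N31403 (iv F287087)) (tt N30813 (iv D63991)) (tt N31468 (iv F287456)))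
theorem Q31223 : ∀ i, i < 31223 → P i := stepQ 31222 Q31222 (allL N31222 (tt N31222 F286174) (tt N30815 (iv D63992)) (tt N31475 (iv F287487)) (tt N31386 (iv F286983)) (tt N31487 (iv F287559)) (tt N31473 (iv F287475)) (tt N31488 (iv F287564)) (tt N30845 F286175) (tt N31490 D64260) (tt N31438 (iv F287309)))
theorem Q31224 : ∀ i, i < 31224 → P i := stepQ 31223 Q31223 (allL N31223 (tt N30817 F286176) (tt N31490 (iv F287570)) (tt N30816 F286177) (tt N31478 (iv F287506)) (tt N31363 (iv F286813)) (tt N30940 F286178) (tt N31489 (iv F287568)) (tt N30846 F286179) (tt N30815 (iv D63993)) (tt N31491 D64261))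
theorem Q31225 : ∀ i, i < 31225 → P i := stepQ 31224 Q31224 (allL N31224 (tt N30818 F286180) (tt N31380 (iv F286939)) (tt N31491 (iv F287574)) (tt N30859 F286181) (tt N31357 (iv F286774)) (tt N30938 F286182) (tt N31467 (iv F287449)) (tt N30847 F286183) (tt N31384 (iv F286972)) (tt N30816 (iv D63994)))
theorem Q31226 : ∀ i, i < 31226 → P i := stepQ 31225 Q31225 (allL N31225 (tt N31491 (iv F287573)) (tt N31225 F286184) (tt N30818 F286185) (tt N31431 (iv F287266)) (tt N31359 (iv F286787)) (tt N30939 F286186) (tt N31468 (iv F287455)) (tt N30849 F286187) (tt N31385 (iv F286979)) (tt N30817 (iv D63995)))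
theorem Q31227 : ∀ i, i < 31227 → P i := stepQ 31226 Q31226 (allL N31226 (tt N30821 F286188) (tt N30826 F286189) (tt N30909 F286190) (tt N30820 F286191) (tt N31347 (iv F286709)) (tt N30819 (iv D63996)) (tt N30885 F286192) (tt N30919 F286193) (tt N30883 (iv F286194)) (tt N31326 (iv F286569)))
theorem Q31228 : ∀ i, i < 31228 → P i := stepQ 31227 Q31227 (allL N31227 (tt N30822 F286195) (tt N30827 F286196) (tt N30919 F286197) (tt N30885 F286198) (tt N31346 (iv F286700)) (tt N30883 F286199) (tt N30820 F286200) (tt N30909 F286201) (tt N30819 (iv D63997)) (tt N31325 (iv F286560)))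
theorem Q31229 : ∀ i, i < 31229 → P i := stepQ 31228 Q31228 (allL N31228 (tt N30825 F286202) (tt N31492 D64262) (tt N30823 (iv D63998)) (tt N30835 F286203) (tt N31348 (iv F286716)) (tt N31485 (iv F287550)) (tt N31375 (iv F286905)) (tt N30973 F286204) (tt N30974 F286205) (tt N31327 (iv F286576)))
theorem Q31230 : ∀ i, i < 31230 → P i := stepQ 31229 Q31229 (allL N31229 (tt N30828 F286206) (tt N31347 (iv F286706)) (tt N30879 F286207) (tt N31401 (iv F287071)) (tt N30826 (iv D63999)) (tt N31381 (iv F286949)) (tt N30860 F286208) (tt N30857 F286209) (tt N30855 F286210) (tt N31426 (iv F287237)))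
theorem Q31231 : ∀ i, i < 31231 → P i := stepQ 31230 Q31230 (allL N31230 (tt N30831 F286211) (tt N31493 D64263) (tt N30829 (iv D64000)) (tt N31375 (iv F286903)) (tt N30841 F286212) (tt N31494 D64264) (tt N30835 F286213) (tt N31356 (iv F286769)) (tt N31495 D64265) (tt N30933 F286214))
theorem Q31232 : ∀ i, i < 31232 → P i := stepQ 31231 Q31231 (allL N31231 (tt N30832 F286215) (tt N31334 (iv F286618)) (tt N31494 (iv F287586)) (tt N30830 F286216) (tt N30847 F286217) (tt N30829 (iv D64001)) (tt N31449 (iv F287361)) (tt N31357 (iv F286776)) (tt N31448 F287356) (tt N30837 F286218))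
theorem Q31233 : ∀ i, i < 31233 → P i := stepQ 31232 Q31232 (allL N31232 (tt N30833 F286219) (tt N31335 (iv F286624)) (tt N31495 (iv F287590)) (tt N30910 F286220) (tt N30842 F286221) (tt N31448 (iv F287354)) (tt N30837 F286222) (tt N31358 (iv F286783)) (tt N30829 (iv D64002)) (tt N31449 (iv F287362)))
theorem Q31234 : ∀ i, i < 31234 → P i := stepQ 31233 Q31233 (allL N31233 (tt N30834 F286223) (tt N31336 (iv F286630)) (tt N31377 (iv F286918)) (tt N31449 (iv F287358)) (tt N30878 F286224) (tt N30838 F286225) (tt N30830 (iv D64003)) (tt N31329 (iv F286588)) (tt N31325 (iv F286559)) (tt N30910 F286226))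
theorem Q31235 : ∀ i, i < 31235 → P i := stepQ 31234 Q31234 (allL N31234 (tt N31494 (iv F287585)) (tt N31234 F286227) (tt N30832 F286228) (tt N31378 (iv F286926)) (tt N30849 F286229) (tt N30831 (iv D64004)) (tt N31451 (iv F287373)) (tt N31359 (iv F286789)) (tt N31450 F287368) (tt N30840 F286230))
theorem Q31236 : ∀ i, i < 31236 → P i := stepQ 31235 Q31235 (allL N31235 (tt N31495 (iv F287589)) (tt N31235 F286231) (tt N30833 F286232) (tt N31436 (iv F287295)) (tt N30843 F286233) (tt N31450 (iv F287366)) (tt N30840 F286234) (tt N31360 (iv F286796)) (tt N30831 (iv D64005)) (tt N31451 (iv F287374)))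
theorem Q31237 : ∀ i, i < 31237 → P i := stepQ 31236 Q31236 (allL N31236 (tt N31236 F286235) (tt N30835 (iv D64006)) (tt N31477 (iv F287500)) (tt N31492 (iv F287578)) (tt N30845 F286236) (tt N31496 D64266) (tt N31493 (iv F287583)) (tt N31487 (iv F287561)) (tt N31497 D64267) (tt N31445 (iv F287342)))
theorem Q31238 : ∀ i, i < 31238 → P i := stepQ 31237 Q31237 (allL N31237 (tt N30839 F286237) (tt N31496 (iv F287594)) (tt N30836 F286238) (tt N31485 (iv F287549)) (tt N30935 F286239) (tt N30835 (iv D64007)) (tt N31447 (iv F287350)) (tt N31364 (iv F286823)) (tt N30933 (iv F286240)) (tt N31446 (iv F287346)))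
theorem Q31239 : ∀ i, i < 31239 → P i := stepQ 31238 Q31238 (allL N31238 (tt N30840 F286241) (tt N31497 (iv F287598)) (tt N30837 F286242) (tt N31471 (iv F287464)) (tt N30846 F286243) (tt N30933 F286244) (tt N31495 (iv F287592)) (tt N31363 (iv F286815)) (tt N30835 (iv D64008)) (tt N31494 (iv F287588)))
theorem Q31240 : ∀ i, i < 31240 → P i := stepQ 31239 Q31239 (allL N31239 (tt N31239 F286245) (tt N30841 (iv D64009)) (tt N31341 (iv F286664)) (tt N30965 F286246) (tt N31493 (iv F287582)) (tt N31369 (iv F286859)) (tt N30845 F286247) (tt N31404 (iv F287091)) (tt N31498 D64268) (tt N30934 F286248))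
theorem Q31241 : ∀ i, i < 31241 → P i := stepQ 31240 Q31240 (allL N31240 (tt N30843 F286249) (tt N31498 (iv F287602)) (tt N30842 F286250) (tt N30904 F286251) (tt N31495 (iv F287591)) (tt N30930 F286252) (tt N30846 F286253) (tt N31405 (iv F287097)) (tt N30841 (iv D64010)) (tt N31499 D64269))
theorem Q31242 : ∀ i, i < 31242 → P i := stepQ 31241 Q31241 (allL N31241 (tt N30844 F286254) (tt N31343 (iv F286675)) (tt N31499 (iv F287607)) (tt N30861 F286255) (tt N31449 (iv F287359)) (tt N30865 F286256) (tt N30847 F286257) (tt N31406 (iv F287102)) (tt N30936 F286258) (tt N30842 (iv D64011)))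
theorem Q31243 : ∀ i, i < 31243 → P i := stepQ 31242 Q31242 (allL N31242 (tt N31499 (iv F287606)) (tt N31242 F286259) (tt N30844 F286260) (tt N30908 F286261) (tt N31451 (iv F287371)) (tt N30866 F286262) (tt N30849 F286263) (tt N31407 (iv F287108)) (tt N30937 F286264) (tt N30843 (iv D64012)))
theorem Q31244 : ∀ i, i < 31244 → P i := stepQ 31243 Q31243 (allL N31243 (tt N31243 F286265) (tt N30846 F286266) (tt N31480 (iv F287517)) (tt N31500 D64270) (tt N31497 (iv F287599)) (tt N30945 F286267) (tt N31498 (iv F287605)) (tt N31490 (iv F287572)) (tt N30845 (iv D64013)) (tt N31501 D64271))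
theorem Q31245 : ∀ i, i < 31245 → P i := stepQ 31244 Q31244 (allL N31244 (tt N30848 F286268) (tt N31500 (iv F287613)) (tt N30862 F286269) (tt N30846 (iv D64014)) (tt N31372 (iv F286881)) (tt N30942 F286270) (tt N30904 F286271) (tt N31478 (iv F287508)) (tt N30895 F286272) (tt N31502 D64272))
theorem Q31246 : ∀ i, i < 31246 → P i := stepQ 31245 Q31245 (allL N31245 (tt N30849 F286273) (tt N31501 (iv F287618)) (tt N30847 F286274) (tt N31502 (iv F287622)) (tt N31494 (iv F287587)) (tt N30944 F286275) (tt N31499 (iv F287610)) (tt N31491 (iv F287576)) (tt N31453 (iv F287383)) (tt N30846 (iv D64015)))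
theorem Q31247 : ∀ i, i < 31247 → P i := stepQ 31246 Q31246 (allL N31246 (tt N31502 (iv F287620)) (tt N31246 F286276) (tt N30864 F286277) (tt N30849 F286278) (tt N31374 (iv F286897)) (tt N30872 F286279) (tt N30908 F286280) (tt N31431 (iv F287268)) (tt N31443 (iv F287330)) (tt N30848 (iv D64016)))
theorem Q31248 : ∀ i, i < 31248 → P i := stepQ 31247 Q31247 (allL N31247 (tt N30851 F286281) (tt N31503 D64273) (tt N30850 (iv D64017)) (tt N31399 (iv F287057)) (tt N30930 F286282) (tt N31453 (iv F287381)) (tt N30852 F286283) (tt N31383 (iv F286964)) (tt N30944 F286284) (tt N30868 F286285))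
theorem Q31249 : ∀ i, i < 31249 → P i := stepQ 31248 Q31248 (allL N31248 (tt N31248 F286286) (tt N30852 (iv D64018)) (tt N31481 (iv F287520)) (tt N31404 (iv F287089)) (tt N31409 (iv F287119)) (tt N31474 (iv F287482)) (tt N31503 (iv F287627)) (tt N30965 F286287) (tt N31504 D64274) (tt N30869 F286288))
theorem Q31250 : ∀ i, i < 31250 → P i := stepQ 31249 Q31249 (allL N31249 (tt N30854 F286289) (tt N31504 (iv F287631)) (tt N30853 F286290) (tt N30873 (iv F286296)) (tt N30961 F286291) (tt N30867 F286292) (tt N30944 F286293) (tt N30886 F286294) (tt N30852 (iv D64019)) (tt N30943 F286295))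
theorem Q31251 : ∀ i, i < 31251 → P i := stepQ 31250 Q31250 (allL N31250 (tt N30858 F286297) (tt N31381 (iv F286946)) (tt N31430 (iv F287258)) (tt N31467 (iv F287446)) (tt N30941 F286298) (tt N31347 (iv F286710)) (tt N30859 F286299) (tt N31426 (iv F287235)) (tt N30884 F286300) (tt N30857 (iv D64020)))
theorem Q31252 : ∀ i, i < 31252 → P i := stepQ 31251 Q31251 (allL N31251 (tt N30864 F286301) (tt N31365 (iv F286825)) (tt N31502 (iv F287621)) (tt N30863 F286302) (tt N31373 (iv F286889)) (tt N30871 F286303) (tt N30906 F286304) (tt N31428 (iv F287248)) (tt N31441 (iv F287318)) (tt N30862 (iv D64021)))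
theorem Q31253 : ∀ i, i < 31253 → P i := stepQ 31252 Q31252 (allL N31252 (tt N30866 F286305) (tt N31505 D64275) (tt N30865 (iv D64022)) (tt N30931 F286306) (tt N30868 F286307) (tt N31499 (iv F287609)) (tt N30867 F286308) (tt N31425 (iv F287227)) (tt N31422 (iv F287207)) (tt N30930 F286309))
theorem Q31254 : ∀ i, i < 31254 → P i := stepQ 31253 Q31253 (allL N31253 (tt N31253 F286310) (tt N30867 (iv D64023)) (tt N31482 (iv F287528)) (tt N31410 (iv F287127)) (tt N30869 F286311) (tt N31504 (iv F287634)) (tt N31505 (iv F287642)) (tt N30976 F286312) (tt N31474 (iv F287484)) (tt N31409 (iv F287124)))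
theorem Q31255 : ∀ i, i < 31255 → P i := stepQ 31254 Q31254 (allL N31254 (tt N31254 F286313) (tt N30868 (iv D64024)) (tt N31454 (iv F287385)) (tt N31414 (iv F287157)) (tt N31505 (iv F287641)) (tt N31452 (iv F287377)) (tt N30869 F286314) (tt N31433 (iv F287280)) (tt N31423 (iv F287214)) (tt N31503 (iv F287629)))
theorem Q31256 : ∀ i, i < 31256 → P i := stepQ 31255 Q31255 (allL N31255 (tt N31255 F286315) (tt N30870 F286316) (tt N30959 F286317) (tt N31432 (iv F287272)) (tt N31474 (iv F287481)) (tt N30963 F286318) (tt N31423 (iv F287213)) (tt N30978 F286319) (tt N30869 (iv D64025)) (tt N31368 (iv F286854)))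
theorem Q31257 : ∀ i, i < 31257 → P i := stepQ 31256 Q31256 (allL N31256 (tt N30872 F286320) (tt N31506 D64276) (tt N30871 (iv D64026)) (tt N30944 F286321) (tt N30979 F286322) (tt N31502 (iv F287623)) (tt N30873 F286323) (tt N31427 (iv F287242)) (tt N31461 (iv F287424)) (tt N30942 F286324))
theorem Q31258 : ∀ i, i < 31258 → P i := stepQ 31257 Q31257 (allL N31257 (tt N31257 F286325) (tt N30873 (iv D64027)) (tt N31483 (iv F287536)) (tt N31504 F287638) (tt N31462 (iv F287427)) (tt N31410 (iv F287129)) (tt N31506 (iv F287647)) (tt N30902 F286326) (tt N31507 D64277) (tt N31411 (iv F287139)))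
theorem Q31259 : ∀ i, i < 31259 → P i := stepQ 31258 Q31258 (allL N31258 (tt N30875 F286327) (tt N31507 (iv F287650)) (tt N30874 F286328) (tt N31405 (iv F287095)) (tt N31415 (iv F287163)) (tt N30929 F286329) (tt N31461 (iv F287423)) (tt N30904 F286330) (tt N30873 (iv D64028)) (tt N31508 D64278))
theorem Q31260 : ∀ i, i < 31260 → P i := stepQ 31259 Q31259 (allL N31259 (tt N30876 F286331) (tt N31376 (iv F286910)) (tt N31508 (iv F287654)) (tt N30882 F286332) (tt N31400 (iv F287065)) (tt N30927 F286333) (tt N31458 (iv F287408)) (tt N30906 F286334) (tt N31349 (iv F286726)) (tt N30874 (iv D64029)))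
theorem Q31261 : ∀ i, i < 31261 → P i := stepQ 31260 Q31260 (allL N31260 (tt N31508 (iv F287653)) (tt N31260 F286335) (tt N30876 F286336) (tt N31407 (iv F287106)) (tt N31402 (iv F287078)) (tt N30928 F286337) (tt N31459 (iv F287414)) (tt N30908 F286338) (tt N31350 (iv F286733)) (tt N30875 (iv D64030)))
theorem Q31262 : ∀ i, i < 31262 → P i := stepQ 31261 Q31261 (allL N31261 (tt N30880 F286339) (tt N31329 (iv F286584)) (tt N31381 (iv F286947)) (tt N31441 (iv F287316)) (tt N31325 (iv F286556)) (tt N30879 F286340) (tt N30923 F286341) (tt N31336 (iv F286634)) (tt N30878 (iv D64031)) (tt N31346 (iv F286704)))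
theorem Q31263 : ∀ i, i < 31263 → P i := stepQ 31262 Q31262 (allL N31262 (tt N30881 F286342) (tt N31377 (iv F286917)) (tt N31426 (iv F287232)) (tt N31458 (iv F287406)) (tt N30884 F286343) (tt N31346 (iv F286701)) (tt N30882 F286344) (tt N31430 (iv F287261)) (tt N30941 F286345) (tt N30879 (iv D64032)))
theorem Q31264 : ∀ i, i < 31264 → P i := stepQ 31263 Q31263 (allL N31263 (tt N31263 F286346) (tt N30886 (iv D64033)) (tt N31409 (iv F287117)) (tt N30902 F286347) (tt N31481 (iv F287522)) (tt N30976 F286348) (tt N31397 (iv F287047)) (tt N31504 (iv F287636)) (tt N30965 F286349) (tt N31482 (iv F287534)))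
theorem Q31265 : ∀ i, i < 31265 → P i := stepQ 31264 Q31264 (allL N31264 (tt N30889 F286350) (tt N31509 D64279) (tt N30887 (iv D64034)) (tt N31387 F286991) (tt N30913 F286351) (tt N31479 (iv F287513)) (tt N31427 (iv F287241)) (tt N30895 F286352) (tt N31478 F287509) (tt N31333 (iv F286616)))
theorem Q31266 : ∀ i, i < 31266 → P i := stepQ 31265 Q31265 (allL N31265 (tt N30892 F286353) (tt N31510 D64280) (tt N30890 (iv D64035)) (tt N31398 (iv F287051)) (tt N31322 (iv F286531)) (tt N31511 D64281) (tt N30898 F286354) (tt N31333 (iv F286615)) (tt N31512 D64282) (tt N30895 F286355))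
theorem Q31267 : ∀ i, i < 31267 → P i := stepQ 31266 Q31266 (allL N31266 (tt N30893 F286356) (tt N31357 (iv F286772)) (tt N31511 (iv F287665)) (tt N30891 F286357) (tt N31380 (iv F286941)) (tt N30890 (iv D64036)) (tt N31349 (iv F286724)) (tt N31334 (iv F286621)) (tt N31458 (iv F287409)) (tt N30896 F286358))
theorem Q31268 : ∀ i, i < 31268 → P i := stepQ 31267 Q31267 (allL N31267 (tt N30894 F286359) (tt N31358 (iv F286779)) (tt N31512 (iv F287668)) (tt N31346 (iv F286699)) (tt N31323 (iv F286539)) (tt N31458 (iv F287407)) (tt N30899 F286360) (tt N31335 (iv F286628)) (tt N30890 (iv D64037)) (tt N31441 (iv F287319)))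
theorem Q31269 : ∀ i, i < 31269 → P i := stepQ 31268 Q31268 (allL N31268 (tt N31511 (iv F287664)) (tt N31268 F286361) (tt N30893 F286362) (tt N31344 (iv F286683)) (tt N31382 (iv F286956)) (tt N30892 (iv D64038)) (tt N31350 (iv F286731)) (tt N31337 (iv F286641)) (tt N31459 (iv F287415)) (tt N30897 F286363))
theorem Q31270 : ∀ i, i < 31270 → P i := stepQ 31269 Q31269 (allL N31269 (tt N31512 (iv F287667)) (tt N31269 F286364) (tt N30894 F286365) (tt N31355 (iv F286761)) (tt N31324 (iv F286547)) (tt N31459 (iv F287413)) (tt N30900 F286366) (tt N31338 (iv F286648)) (tt N30892 (iv D64039)) (tt N31443 (iv F287331)))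
theorem Q31271 : ∀ i, i < 31271 → P i := stepQ 31270 Q31270 (allL N31270 (tt N31270 F286367) (tt N30895 (iv D64040)) (tt N31362 (iv F286805)) (tt N31397 F287048) (tt N31371 (iv F286875)) (tt N31513 D64283) (tt N30902 F286368) (tt N31509 (iv F287660)) (tt N31500 (iv F287616)) (tt N31510 (iv F287663)))
theorem Q31272 : ∀ i, i < 31272 → P i := stepQ 31271 Q31271 (allL N31271 (tt N30897 F286369) (tt N31513 (iv F287671)) (tt N30896 F286370) (tt N31342 (iv F286671)) (tt N31476 (iv F287496)) (tt N30895 (iv D64041)) (tt N31353 (iv F286750)) (tt N31479 (iv F287514)) (tt N30942 F286371) (tt N31511 (iv F287666)))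
theorem Q31273 : ∀ i, i < 31273 → P i := stepQ 31272 Q31272 (allL N31272 (tt N31272 F286372) (tt N30898 (iv D64042)) (tt N31484 (iv F287542)) (tt N31482 (iv F287529)) (tt N31464 (iv F287437)) (tt N31408 (iv F287113)) (tt N31510 (iv F287662)) (tt N31411 (iv F287138)) (tt N31514 D64284) (tt N30902 F286373))
theorem Q31274 : ∀ i, i < 31274 → P i := stepQ 31273 Q31273 (allL N31273 (tt N30900 F286374) (tt N31514 (iv F287674)) (tt N30899 F286375) (tt N31476 (iv F287495)) (tt N31466 (iv F287444)) (tt N31345 (iv F286691)) (tt N31512 (iv F287669)) (tt N31353 (iv F286751)) (tt N30898 (iv D64043)) (tt N31515 D64285))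
theorem Q31275 : ∀ i, i < 31275 → P i := stepQ 31274 Q31274 (allL N31274 (tt N30901 F286376) (tt N31328 (iv F286578)) (tt N31515 (iv F287676)) (tt N30923 F286377) (tt N31442 (iv F287323)) (tt N30922 F286378) (tt N31441 F287320) (tt N31349 (iv F286725)) (tt N30906 F286379) (tt N30899 (iv D64044)))
theorem Q31276 : ∀ i, i < 31276 → P i := stepQ 31275 Q31275 (allL N31275 (tt N31515 (iv F287675)) (tt N31275 F286380) (tt N30901 F286381) (tt N31382 (iv F286955)) (tt N31444 (iv F287335)) (tt N30924 F286382) (tt N31443 F287332) (tt N31350 (iv F286732)) (tt N30908 F286383) (tt N30900 (iv D64045)))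
theorem Q31277 : ∀ i, i < 31277 → P i := stepQ 31276 Q31276 (allL N31276 (tt N31276 F286384) (tt N30903 F286385) (tt N30975 F286386) (tt N30976 F286387) (tt N31516 D64286) (tt N30902 (iv D64046)) (tt N31352 (iv F286745)) (tt N31410 (iv F287131)) (tt N30932 (iv F286388)) (tt N31408 (iv F287115)))
theorem Q31278 : ∀ i, i < 31278 → P i := stepQ 31277 Q31277 (allL N31277 (tt N31277 F286389) (tt N30904 F286390) (tt N31486 (iv F287554)) (tt N31498 (iv F287603)) (tt N31470 (iv F287461)) (tt N30932 F286391) (tt N31500 (iv F287615)) (tt N31507 (iv F287652)) (tt N30902 (iv D64047)) (tt N31517 D64287))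
theorem Q31279 : ∀ i, i < 31279 → P i := stepQ 31278 Q31278 (allL N31278 (tt N30907 F286392) (tt N31516 (iv F287680)) (tt N30905 F286393) (tt N30933 F286394) (tt N30903 (iv D64048)) (tt N31471 (iv F287465)) (tt N31327 (iv F286573)) (tt N30912 F286395) (tt N30921 F286396) (tt N31375 (iv F286908)))
theorem Q31280 : ∀ i, i < 31280 → P i := stepQ 31279 Q31279 (allL N31279 (tt N30908 F286397) (tt N31517 (iv F287686)) (tt N30906 F286398) (tt N31499 (iv F287608)) (tt N31472 (iv F287470)) (tt N30931 F286399) (tt N31502 (iv F287624)) (tt N31508 (iv F287656)) (tt N31515 (iv F287678)) (tt N30904 (iv D64049)))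
theorem Q31281 : ∀ i, i < 31281 → P i := stepQ 31280 Q31280 (allL N31280 (tt N31280 F286400) (tt N30911 (iv D64050)) (tt N30977 F286401) (tt N30959 F286402) (tt N30945 F286403) (tt N30934 F286404) (tt N30963 F286405) (tt N30956 F286406) (tt N31455 (iv F287397)) (tt N31369 (iv F286863)))
theorem Q31282 : ∀ i, i < 31282 → P i := stepQ 31281 Q31281 (allL N31281 (tt N31281 F286407) (tt N30912 (iv D64051)) (tt N30932 F286408) (tt N31362 (iv F286806)) (tt N31410 (iv F287128)) (tt N31486 (iv F287555)) (tt N31370 (iv F286869)) (tt N31516 (iv F287683)) (tt N30975 F286409) (tt N31388 (iv F286997)))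
theorem Q31283 : ∀ i, i < 31283 → P i := stepQ 31282 Q31282 (allL N31282 (tt N31282 F286410) (tt N30913 (iv D64052)) (tt N30934 F286411) (tt N31423 (iv F287211)) (tt N31509 (iv F287659)) (tt N30977 F286412) (tt N31432 (iv F287274)) (tt N31371 (iv F286878)) (tt N31518 D64288) (tt N31341 (iv F286668)))
theorem Q31284 : ∀ i, i < 31284 → P i := stepQ 31283 Q31283 (allL N31283 (tt N30915 F286413) (tt N31518 (iv F287689)) (tt N30914 F286414) (tt N31416 (iv F287169)) (tt N31478 (iv F287507)) (tt N30953 F286415) (tt N31418 (iv F287181)) (tt N31372 (iv F286884)) (tt N30913 (iv D64053)) (tt N31519 D64289))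
theorem Q31285 : ∀ i, i < 31285 → P i := stepQ 31284 Q31284 (allL N31284 (tt N30916 F286416) (tt N30936 F286417) (tt N31519 (iv F287693)) (tt N30951 F286418) (tt N31428 (iv F287247)) (tt N30950 F286419) (tt N31395 (iv F287034)) (tt N31373 (iv F286892)) (tt N31343 (iv F286680)) (tt N30914 (iv D64054)))
theorem Q31286 : ∀ i, i < 31286 → P i := stepQ 31285 Q31285 (allL N31285 (tt N31519 (iv F287692)) (tt N31285 F286420) (tt N30916 F286421) (tt N31391 F287014) (tt N31431 (iv F287267)) (tt N30952 F286422) (tt N31396 (iv F287040)) (tt N31374 (iv F286900)) (tt N31344 (iv F286687)) (tt N30915 (iv D64055)))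
theorem Q31287 : ∀ i, i < 31287 → P i := stepQ 31286 Q31286 (allL N31286 (tt N30918 F286423) (tt N31520 D64290) (tt N30917 (iv D64056)) (tt N31345 (iv F286689)) (tt N30954 F286424) (tt N31476 (iv F287497)) (tt N31425 (iv F287226)) (tt N30920 F286425) (tt N30960 F286426) (tt N31379 (iv F286937)))
theorem Q31288 : ∀ i, i < 31288 → P i := stepQ 31287 Q31287 (allL N31287 (tt N31287 F286427) (tt N30920 (iv D64057)) (tt N30945 F286428) (tt N31352 (iv F286744)) (tt N30977 F286429) (tt N31480 (iv F287518)) (tt N30976 F286430) (tt N31520 (iv F287698)) (tt N30962 F286431) (tt N31392 (iv F287019)))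
theorem Q31289 : ∀ i, i < 31289 → P i := stepQ 31288 Q31288 (allL N31288 (tt N31288 F286432) (tt N30921 (iv D64058)) (tt N31410 (iv F287126)) (tt N31484 (iv F287543)) (tt N30932 F286433) (tt N31483 (iv F287538)) (tt N31388 (iv F286996)) (tt N30975 F286434) (tt N31516 (iv F287684)) (tt N31370 (iv F286872)))
theorem Q31290 : ∀ i, i < 31290 → P i := stepQ 31289 Q31289 (allL N31289 (tt N30924 F286435) (tt N31521 D64291) (tt N30922 (iv D64059)) (tt N31379 (iv F286932)) (tt N30973 F286436) (tt N31515 (iv F287677)) (tt N30929 F286437) (tt N31348 (iv F286718)) (tt N30931 F286438) (tt N31345 (iv F286695)))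
theorem Q31291 : ∀ i, i < 31291 → P i := stepQ 31290 Q31290 (allL N31290 (tt N30926 F286439) (tt N31522 D64292) (tt N30925 (iv D64060)) (tt N30929 F286440) (tt N31383 (iv F286962)) (tt N31405 (iv F287096)) (tt N31379 (iv F286934)) (tt N30930 F286441) (tt N30955 F286442) (tt N31425 (iv F287229)))
theorem Q31292 : ∀ i, i < 31292 → P i := stepQ 31291 Q31291 (allL N31291 (tt N30928 F286443) (tt N31523 D64293) (tt N30927 (iv D64061)) (tt N31425 (iv F287224)) (tt N30974 F286444) (tt N31508 (iv F287655)) (tt N31345 (iv F286692)) (tt N30931 F286445) (tt N31348 (iv F286719)) (tt N30929 F286446))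
theorem Q31293 : ∀ i, i < 31293 → P i := stepQ 31292 Q31292 (allL N31292 (tt N31292 F286447) (tt N30929 (iv D64062)) (tt N31516 (iv F287681)) (tt N31522 (iv F287705)) (tt N30975 F286448) (tt N31507 (iv F287651)) (tt N31521 (iv F287702)) (tt N30932 F286449) (tt N31410 (iv F287132)) (tt N31523 (iv F287711)))
theorem Q31294 : ∀ i, i < 31294 → P i := stepQ 31293 Q31293 (allL N31293 (tt N31293 F286450) (tt N30930 (iv D64063)) (tt N31397 (iv F287046)) (tt N30932 F286451) (tt N31503 (iv F287626)) (tt N31498 (iv F287604)) (tt N31409 (iv F287121)) (tt N31522 (iv F287706)) (tt N31369 (iv F286862)) (tt N31505 (iv F287643)))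
theorem Q31295 : ∀ i, i < 31295 → P i := stepQ 31294 Q31294 (allL N31294 (tt N31294 F286452) (tt N30931 (iv D64064)) (tt N31388 (iv F286994)) (tt N31505 (iv F287640)) (tt N31370 (iv F286867)) (tt N31517 (iv F287687)) (tt N31410 (iv F287130)) (tt N31523 (iv F287710)) (tt N31521 (iv F287703)) (tt N30932 F286453))
theorem Q31296 : ∀ i, i < 31296 → P i := stepQ 31295 Q31295 (allL N31295 (tt N31295 F286454) (tt N30933 (iv D64065)) (tt N31509 (iv F287658)) (tt N31516 (iv F287682)) (tt N30934 F286455) (tt N31497 (iv F287600)) (tt N31445 (iv F287341)) (tt N31362 (iv F286809)) (tt N31496 F287596) (tt N31493 (iv F287584)))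
theorem Q31297 : ∀ i, i < 31297 → P i := stepQ 31296 Q31296 (allL N31296 (tt N31296 F286456) (tt N30935 F286457) (tt N31518 (iv F287690)) (tt N31460 (iv F287419)) (tt N31496 (iv F287595)) (tt N31455 (iv F287394)) (tt N31452 (iv F287378)) (tt N31417 (iv F287177)) (tt N30934 (iv D64066)) (tt N31524 D64294))
theorem Q31298 : ∀ i, i < 31298 → P i := stepQ 31297 Q31297 (allL N31297 (tt N30937 F286458) (tt N31524 (iv F287713)) (tt N30936 F286459) (tt N31457 (iv F287403)) (tt N31446 (iv F287345)) (tt N31422 (iv F287204)) (tt N31453 (iv F287382)) (tt N31419 (iv F287187)) (tt N31499 (iv F287611)) (tt N30935 (iv D64067)))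
theorem Q31299 : ∀ i, i < 31299 → P i := stepQ 31298 Q31298 (allL N31298 (tt N30939 F286460) (tt N31525 D64295) (tt N30938 (iv D64068)) (tt N31427 (iv F287239)) (tt N30955 F286461) (tt N31491 (iv F287575)) (tt N31387 (iv F286989)) (tt N30944 F286462) (tt N31383 (iv F286965)) (tt N30940 F286463))
theorem Q31300 : ∀ i, i < 31300 → P i := stepQ 31299 Q31299 (allL N31299 (tt N31299 F286464) (tt N30940 (iv D64069)) (tt N31520 (iv F287696)) (tt N31477 (iv F287501)) (tt N30956 F286465) (tt N31490 (iv F287571)) (tt N31439 (iv F287312)) (tt N30945 F286466) (tt N31473 (iv F287477)) (tt N31525 (iv F287717)))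
theorem Q31301 : ∀ i, i < 31301 → P i := stepQ 31300 Q31300 (allL N31300 (tt N31300 F286467) (tt N30942 (iv D64070)) (tt N31487 (iv F287557)) (tt N30945 F286468) (tt N31475 (iv F287489)) (tt N31500 (iv F287614)) (tt N31411 F287140) (tt N31477 (iv F287503)) (tt N31513 (iv F287672)) (tt N31506 (iv F287648)))
theorem Q31302 : ∀ i, i < 31302 → P i := stepQ 31301 Q31301 (allL N31301 (tt N31301 F286469) (tt N30943 (iv D64071)) (tt N30976 F286470) (tt N31411 (iv F287137)) (tt N30963 F286471) (tt N31409 (iv F287120)) (tt N30945 F286472) (tt N31482 (iv F287532)) (tt N31368 (iv F286853)) (tt N31504 (iv F287637)))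
theorem Q31303 : ∀ i, i < 31303 → P i := stepQ 31302 Q31302 (allL N31302 (tt N31302 F286473) (tt N30944 (iv D64072)) (tt N31392 (iv F287016)) (tt N31506 (iv F287645)) (tt N31369 (iv F286858)) (tt N31501 (iv F287619)) (tt N31504 (iv F287635)) (tt N31525 (iv F287716)) (tt N31503 (iv F287628)) (tt N30945 F286474))
theorem Q31304 : ∀ i, i < 31304 → P i := stepQ 31303 Q31303 (allL N31303 (tt N30948 F286475) (tt N31526 D64296) (tt N30946 (iv D64073)) (tt N31394 F287029) (tt N31367 (iv F286840)) (tt N31419 (iv F287186)) (tt N30960 F286476) (tt N31422 (iv F287206)) (tt N31425 (iv F287228)) (tt N30949 F286477))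
theorem Q31305 : ∀ i, i < 31305 → P i := stepQ 31304 Q31304 (allL N31304 (tt N31304 F286478) (tt N30949 (iv D64074)) (tt N31463 (iv F287431)) (tt N31454 (iv F287386)) (tt N31473 (iv F287474)) (tt N31417 (iv F287176)) (tt N31424 (iv F287219)) (tt N31455 (iv F287396)) (tt N30956 F286479) (tt N31526 (iv F287720)))
theorem Q31306 : ∀ i, i < 31306 → P i := stepQ 31305 Q31305 (allL N31305 (tt N30952 F286480) (tt N31527 D64297) (tt N30950 (iv D64075)) (tt N31412 (iv F287143)) (tt N30958 F286481) (tt N31519 (iv F287694)) (tt N30957 F286482) (tt N31421 (iv F287198)) (tt N31398 (iv F287055)) (tt N30953 F286483))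
theorem Q31307 : ∀ i, i < 31307 → P i := stepQ 31306 Q31306 (allL N31306 (tt N31306 F286484) (tt N30953 (iv D64076)) (tt N31455 (iv F287391)) (tt N31462 (iv F287426)) (tt N30962 F286485) (tt N31518 (iv F287691)) (tt N30978 F286486) (tt N31463 (iv F287434)) (tt N30977 F286487) (tt N31527 (iv F287724)))
theorem Q31308 : ∀ i, i < 31308 → P i := stepQ 31307 Q31307 (allL N31307 (tt N31307 F286488) (tt N30954 (iv D64077)) (tt N30956 F286489) (tt N31438 (iv F287307)) (tt N31520 (iv F287697)) (tt N31371 (iv F286876)) (tt N31433 (iv F287279)) (tt N30977 F286490) (tt N31463 (iv F287435)) (tt N31386 (iv F286985)))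
theorem Q31309 : ∀ i, i < 31309 → P i := stepQ 31308 Q31308 (allL N31308 (tt N31308 F286491) (tt N30955 (iv D64078)) (tt N31386 (iv F286982)) (tt N31474 (iv F287480)) (tt N31525 (iv F287715)) (tt N31404 (iv F287090)) (tt N31456 (iv F287399)) (tt N31369 (iv F286861)) (tt N31522 (iv F287707)) (tt N30956 F286492))
theorem Q31310 : ∀ i, i < 31310 → P i := stepQ 31309 Q31309 (allL N31309 (tt N31309 F286493) (tt N30957 (iv D64079)) (tt N31474 (iv F287479)) (tt N31475 (iv F287488)) (tt N30959 F286494) (tt N31481 (iv F287523)) (tt N31527 (iv F287723)) (tt N31368 (iv F286852)) (tt N31482 (iv F287533)) (tt N30978 F286495))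
theorem Q31311 : ∀ i, i < 31311 → P i := stepQ 31310 Q31310 (allL N31310 (tt N31310 F286496) (tt N30958 (iv D64080)) (tt N31423 (iv F287210)) (tt N30963 F286497) (tt N31527 (iv F287722)) (tt N31432 (iv F287273)) (tt N30959 F286498) (tt N31424 (iv F287220)) (tt N31454 (iv F287389)) (tt N30962 F286499))
theorem Q31312 : ∀ i, i < 31312 → P i := stepQ 31311 Q31311 (allL N31311 (tt N31311 F286500) (tt N30960 (iv D64081)) (tt N31473 (iv F287473)) (tt N31481 (iv F287521)) (tt N31463 (iv F287433)) (tt N31475 (iv F287490)) (tt N31526 (iv F287719)) (tt N30962 F286501) (tt N31520 (iv F287699)) (tt N31424 (iv F287222)))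
theorem Q31313 : ∀ i, i < 31313 → P i := stepQ 31312 Q31312 (allL N31312 (tt N31312 F286502) (tt N30961 (iv D64082)) (tt N30965 F286503) (tt N30962 F286504) (tt N31504 (iv F287633)) (tt N31368 (iv F286850)) (tt N31369 (iv F286860)) (tt N31481 (iv F287524)) (tt N31409 (iv F287123)) (tt N30963 F286505))
theorem Q31314 : ∀ i, i < 31314 → P i := stepQ 31313 Q31313 (allL N31313 (tt N31313 F286506) (tt N30964 (iv D64083)) (tt N31504 (iv F287632)) (tt N31408 (iv F287112)) (tt N30965 F286507) (tt N31482 (iv F287531)) (tt N31392 (iv F287018)) (tt N31409 (iv F287122)) (tt N31481 (iv F287525)) (tt N30976 F286508))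
theorem Q31315 : ∀ i, i < 31315 → P i := stepQ 31314 Q31314 (allL N31314 (tt N31314 F286509) (tt N30966 (iv D64084)) (tt N31411 (iv F287136)) (tt N30975 F286510) (tt N31488 (iv F287563)) (tt N31370 (iv F286868)) (tt N31487 (iv F287560)) (tt N31484 (iv F287545)) (tt N31528 D64298) (tt N31483 (iv F287540)))
theorem Q31316 : ∀ i, i < 31316 → P i := stepQ 31315 Q31315 (allL N31315 (tt N30968 F286511) (tt N31528 (iv F287726)) (tt N30967 F286512) (tt N31364 (iv F286819)) (tt N31489 (iv F287567)) (tt N30973 F286513) (tt N31363 (iv F286814)) (tt N31485 (iv F287551)) (tt N30966 (iv D64085)) (tt N31529 D64299))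
theorem Q31317 : ∀ i, i < 31317 → P i := stepQ 31316 Q31316 (allL N31316 (tt N30969 F286514) (tt N31349 (iv F286722)) (tt N31529 (iv F287729)) (tt N30970 F286515) (tt N31467 (iv F287447)) (tt N30971 F286516) (tt N31357 (iv F286775)) (tt N31328 (iv F286580)) (tt N31376 (iv F286914)) (tt N30967 (iv D64086)))
theorem Q31318 : ∀ i, i < 31318 → P i := stepQ 31317 Q31317 (allL N31317 (tt N31529 (iv F287728)) (tt N31317 F286517) (tt N30969 F286518) (tt N31366 (iv F286833)) (tt N31468 (iv F287453)) (tt N30972 F286519) (tt N31359 (iv F286788)) (tt N31330 (iv F286594)) (tt N31378 (iv F286929)) (tt N30968 (iv D64087)))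
theorem Q31319 : ∀ i, i < 31319 → P i := stepQ 31318 Q31318 (allL N31318 (tt N30972 F286520) (tt N31530 D64300) (tt N30971 (iv D64088)) (tt N31437 (iv F287300)) (tt N31345 (iv F286690)) (tt N31529 (iv F287730)) (tt N30974 F286521) (tt N31327 (iv F286574)) (tt N31375 (iv F286907)) (tt N30973 F286522))
theorem Q31320 : ∀ i, i < 31320 → P i := stepQ 31319 Q31319 (allL N31319 (tt N31319 F286523) (tt N30973 (iv D64089)) (tt N31352 (iv F286743)) (tt N31487 (iv F287558)) (tt N31521 (iv F287701)) (tt N31528 (iv F287727)) (tt N30975 F286524) (tt N31492 (iv F287579)) (tt N31370 (iv F286871)) (tt N31530 (iv F287733)))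
theorem Q31321 : ∀ i, i < 31321 → P i := stepQ 31320 Q31320 (allL N31320 (tt N31320 F286525) (tt N30974 (iv D64090)) (tt N31408 (iv F287111)) (tt N31483 (iv F287537)) (tt N31523 (iv F287709)) (tt N31484 (iv F287544)) (tt N31530 (iv F287732)) (tt N31370 (iv F286870)) (tt N31492 (iv F287580)) (tt N30975 F286526))
theorem Q31322 : ∀ i, i < 31322 → P i := stepQ 31321 Q31321 (allL N31321 (tt N31321 F286527) (tt N30979 F286528) (tt N31438 (iv F287306)) (tt N30978 (iv D64091)) (tt N31506 (iv F287646)) (tt N31424 (iv F287218)) (tt N31462 (iv F287428)) (tt N31432 (iv F287275)) (tt N31460 (iv F287420)) (tt N31475 (iv F287492)))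
theorem Q31323 : ∀ i, i < 31323 → P i := stepQ 31322 Q31322 (allL N31322 (tt N30982 F286529) (tt N31531 D64301) (tt N30981 (iv D64092)) (tt N31192 F286530) (tt N31265 F286531) (tt N31067 F286532) (tt N31178 F286533) (tt N31004 F286534) (tt N31532 D64302) (tt N31047 F286535))
theorem Q31324 : ∀ i, i < 31324 → P i := stepQ 31323 Q31323 (allL N31323 (tt N30983 F286536) (tt N31091 F286537) (tt N31532 (iv F287743)) (tt N31016 F286538) (tt N31267 F286539) (tt N31068 F286540) (tt N31180 F286541) (tt N31005 F286542) (tt N30981 (iv D64093)) (tt N31148 (iv F286543)))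
theorem Q31325 : ∀ i, i < 31325 → P i := stepQ 31324 Q31324 (allL N31324 (tt N31532 (iv F287742)) (tt N31324 F286544) (tt N30983 F286545) (tt N31205 F286546) (tt N31269 F286547) (tt N31069 F286548) (tt N31182 F286549) (tt N31006 F286550) (tt N30982 (iv D64094)) (tt N31150 (iv F286551)))
theorem Q31326 : ∀ i, i < 31326 → P i := stepQ 31325 Q31325 (allL N31325 (tt N30986 F286552) (tt N31146 F286553) (tt N31062 F286554) (tt N30985 F286555) (tt N31261 F286556) (tt N30984 (iv D64095)) (tt N31051 F286557) (tt N31003 F286558) (tt N31233 F286559) (tt N31227 F286560))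
theorem Q31327 : ∀ i, i < 31327 → P i := stepQ 31326 Q31326 (allL N31326 (tt N30987 F286561) (tt N31144 F286562) (tt N31003 F286563) (tt N31051 F286564) (tt N31149 F286565) (tt N31027 F286566) (tt N30985 (iv D64096)) (tt N31062 F286567) (tt N31156 F286568) (tt N31226 F286569))
theorem Q31328 : ∀ i, i < 31328 → P i := stepQ 31327 Q31327 (allL N31327 (tt N30990 F286570) (tt N31533 D64303) (tt N30988 (iv D64097)) (tt N31153 F286571) (tt N31022 F286572) (tt N31534 D64304) (tt N31278 F286573) (tt N31318 F286574) (tt N31071 F286575) (tt N31228 F286576))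
theorem Q31329 : ∀ i, i < 31329 → P i := stepQ 31328 Q31328 (allL N31328 (tt N30991 F286577) (tt N31274 F286578) (tt N31534 (iv F287759)) (tt N30989 F286579) (tt N31535 D64305) (tt N30988 (iv D64098)) (tt N31536 D64306) (tt N31316 F286580) (tt N31072 F286581) (tt N31214 F286582))
theorem Q31330 : ∀ i, i < 31330 → P i := stepQ 31329 Q31329 (allL N31329 (tt N30992 F286583) (tt N31261 F286584) (tt N31156 F286585) (tt N31536 (iv F287774)) (tt N31146 F286586) (tt N31191 F286587) (tt N30989 (iv D64099)) (tt N31233 F286588) (tt N31003 F286589) (tt N31070 F286590))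
theorem Q31331 : ∀ i, i < 31331 → P i := stepQ 31330 Q31330 (allL N31330 (tt N31534 (iv F287758)) (tt N31330 F286591) (tt N30991 F286592) (tt N31157 F286593) (tt N31537 D64307) (tt N30990 (iv D64100)) (tt N31538 D64308) (tt N31317 F286594) (tt N31073 F286595) (tt N31215 F286596))
theorem Q31332 : ∀ i, i < 31332 → P i := stepQ 31331 Q31331 (allL N31331 (tt N31535 (iv F287764)) (tt N30993 F286597) (tt N31537 (iv F287781)) (tt N31125 F286598) (tt N30991 (iv D64101)) (tt N31025 F286599) (tt N31093 (iv F286603)) (tt N31183 F286600) (tt N31074 F286601) (tt N31089 F286602))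
theorem Q31333 : ∀ i, i < 31333 → P i := stepQ 31332 Q31332 (allL N31332 (tt N31536 (iv F287772)) (tt N30994 F286604) (tt N31538 (iv F287789)) (tt N30992 F286605) (tt N31093 F286606) (tt N31138 F286607) (tt N30991 (iv D64102)) (tt N31160 F286608) (tt N31039 F286609) (tt N31032 F286610))
theorem Q31334 : ∀ i, i < 31334 → P i := stepQ 31333 Q31333 (allL N31333 (tt N30997 F286611) (tt N31539 D64309) (tt N30995 (iv D64103)) (tt N31147 F286612) (tt N31004 F286613) (tt N31540 D64310) (tt N31200 F286614) (tt N31265 F286615) (tt N31541 D64311) (tt N31264 F286616))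
theorem Q31335 : ∀ i, i < 31335 → P i := stepQ 31334 Q31334 (allL N31334 (tt N30998 F286617) (tt N31231 F286618) (tt N31540 (iv F287804)) (tt N30996 F286619) (tt N31076 F286620) (tt N30995 (iv D64104)) (tt N31542 D64312) (tt N31266 F286621) (tt N31543 D64313) (tt N31202 F286622))
theorem Q31336 : ∀ i, i < 31336 → P i := stepQ 31335 Q31335 (allL N31335 (tt N30999 F286623) (tt N31232 F286624) (tt N31541 (iv F287810)) (tt N31145 F286625) (tt N31005 F286626) (tt N31543 (iv F287827)) (tt N31202 F286627) (tt N31267 F286628) (tt N30995 (iv D64105)) (tt N31542 (iv F287821)))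
theorem Q31337 : ∀ i, i < 31337 → P i := stepQ 31336 Q31336 (allL N31336 (tt N31000 F286629) (tt N31233 F286630) (tt N31149 F286631) (tt N31542 (iv F287817)) (tt N31003 F286632) (tt N31203 F286633) (tt N30996 (iv D64106)) (tt N31261 F286634) (tt N31146 F286635) (tt N31145 F286636))
theorem Q31338 : ∀ i, i < 31338 → P i := stepQ 31337 Q31337 (allL N31337 (tt N31540 (iv F287803)) (tt N31337 F286637) (tt N30998 F286638) (tt N31150 F286639) (tt N31078 F286640) (tt N30997 (iv D64107)) (tt N31544 D64314) (tt N31268 F286641) (tt N31545 D64315) (tt N31205 F286642))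
theorem Q31339 : ∀ i, i < 31339 → P i := stepQ 31338 Q31338 (allL N31338 (tt N31541 (iv F287809)) (tt N31338 F286643) (tt N30999 F286644) (tt N31182 F286645) (tt N31006 F286646) (tt N31545 (iv F287843)) (tt N31205 F286647) (tt N31269 F286648) (tt N30997 (iv D64108)) (tt N31544 (iv F287837)))
theorem Q31340 : ∀ i, i < 31340 → P i := stepQ 31339 Q31339 (allL N31339 (tt N31542 (iv F287815)) (tt N31001 F286649) (tt N31544 (iv F287832)) (tt N31000 F286650) (tt N31007 F286651) (tt N31130 F286652) (tt N30998 (iv D64109)) (tt N31151 F286653) (tt N31129 (iv F286655)) (tt N30999 F286654))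
theorem Q31341 : ∀ i, i < 31341 → P i := stepQ 31340 Q31340 (allL N31340 (tt N31543 (iv F287823)) (tt N31002 F286656) (tt N31545 (iv F287840)) (tt N31131 F286657) (tt N31080 F286658) (tt N30999 F286659) (tt N31129 F286660) (tt N31171 F286661) (tt N30998 (iv D64110)) (tt N31130 F286662))
theorem Q31342 : ∀ i, i < 31342 → P i := stepQ 31341 Q31341 (allL N31341 (tt N31341 F286663) (tt N31004 (iv D64111)) (tt N31239 F286664) (tt N31193 F286665) (tt N31539 (iv F287799)) (tt N31081 F286666) (tt N31206 F286667) (tt N31531 (iv F287740)) (tt N31546 D64316) (tt N31282 F286668))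
theorem Q31343 : ∀ i, i < 31343 → P i := stepQ 31342 Q31342 (allL N31342 (tt N31006 F286669) (tt N31546 (iv F287848)) (tt N31005 F286670) (tt N31271 F286671) (tt N31541 (iv F287812)) (tt N31082 F286672) (tt N31207 F286673) (tt N31532 (iv F287748)) (tt N31004 (iv D64112)) (tt N31547 D64317))
theorem Q31344 : ∀ i, i < 31344 → P i := stepQ 31343 Q31343 (allL N31343 (tt N31007 F286674) (tt N31241 F286675) (tt N31547 (iv F287854)) (tt N31026 F286676) (tt N31542 (iv F287818)) (tt N31083 F286677) (tt N31076 F286678) (tt N31148 F286679) (tt N31284 F286680) (tt N31005 (iv D64113)))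
theorem Q31345 : ∀ i, i < 31345 → P i := stepQ 31344 Q31344 (allL N31344 (tt N31547 (iv F287853)) (tt N31344 F286681) (tt N31007 F286682) (tt N31268 F286683) (tt N31544 (iv F287834)) (tt N31084 F286684) (tt N31078 F286685) (tt N31150 F286686) (tt N31285 F286687) (tt N31006 (iv D64114)))
theorem Q31346 : ∀ i, i < 31346 → P i := stepQ 31345 Q31345 (allL N31345 (tt N31010 F286688) (tt N31548 D64318) (tt N31008 (iv D64115)) (tt N31286 F286689) (tt N31318 F286690) (tt N31273 F286691) (tt N31291 F286692) (tt N31022 F286693) (tt N31094 F286694) (tt N31289 F286695))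
theorem Q31347 : ∀ i, i < 31347 → P i := stepQ 31346 Q31346 (allL N31346 (tt N31011 F286696) (tt N31070 F286697) (tt N31209 F286698) (tt N31267 F286699) (tt N31227 F286700) (tt N31262 F286701) (tt N31009 (iv D64116)) (tt N31145 F286702) (tt N31012 F286703) (tt N31261 F286704))
theorem Q31348 : ∀ i, i < 31348 → P i := stepQ 31347 Q31347 (allL N31347 (tt N31015 F286705) (tt N31229 F286706) (tt N31145 F286707) (tt N31180 F286708) (tt N31226 F286709) (tt N31250 F286710) (tt N31016 F286711) (tt N31209 F286712) (tt N31013 (iv D64117)) (tt N31149 F286713))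
theorem Q31349 : ∀ i, i < 31349 → P i := stepQ 31348 Q31348 (allL N31348 (tt N31019 F286714) (tt N31549 D64319) (tt N31017 (iv D64118)) (tt N31075 F286715) (tt N31228 F286716) (tt N31550 D64320) (tt N31094 F286717) (tt N31289 F286718) (tt N31291 F286719) (tt N31022 F286720))
theorem Q31350 : ∀ i, i < 31350 → P i := stepQ 31349 Q31349 (allL N31349 (tt N31020 F286721) (tt N31316 F286722) (tt N31550 (iv F287878)) (tt N31018 F286723) (tt N31551 D64321) (tt N31017 (iv D64119)) (tt N31266 F286724) (tt N31274 F286725) (tt N31259 F286726) (tt N31023 F286727))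
theorem Q31351 : ∀ i, i < 31351 → P i := stepQ 31350 Q31350 (allL N31350 (tt N31550 (iv F287877)) (tt N31350 F286728) (tt N31020 F286729) (tt N31078 F286730) (tt N31552 D64322) (tt N31019 (iv D64120)) (tt N31268 F286731) (tt N31275 F286732) (tt N31260 F286733) (tt N31024 F286734))
theorem Q31352 : ∀ i, i < 31352 → P i := stepQ 31351 Q31351 (allL N31351 (tt N31551 (iv F287884)) (tt N31021 F286735) (tt N31552 (iv F287893)) (tt N31061 F286736) (tt N31020 (iv D64121)) (tt N31089 F286737) (tt N31060 F286738) (tt N31152 F286739) (tt N31088 F286740) (tt N31025 F286741))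
theorem Q31353 : ∀ i, i < 31353 → P i := stepQ 31352 Q31352 (allL N31352 (tt N31352 F286742) (tt N31022 (iv D64122)) (tt N31319 F286743) (tt N31287 F286744) (tt N31533 (iv F287753)) (tt N31553 D64323) (tt N31276 F286745) (tt N31548 (iv F287866)) (tt N31097 F286746) (tt N31549 (iv F287876)))
theorem Q31354 : ∀ i, i < 31354 → P i := stepQ 31353 Q31353 (allL N31353 (tt N31024 F286747) (tt N31553 (iv F287901)) (tt N31023 F286748) (tt N31207 F286749) (tt N31554 D64324) (tt N31022 (iv D64123)) (tt N31271 F286750) (tt N31273 F286751) (tt N31098 F286752) (tt N31550 (iv F287883)))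
theorem Q31355 : ∀ i, i < 31355 → P i := stepQ 31354 Q31354 (allL N31354 (tt N31025 F286753) (tt N31220 F286754) (tt N31554 (iv F287908)) (tt N31209 F286755) (tt N31023 (iv D64124)) (tt N31535 (iv F287767)) (tt N31198 F286756) (tt N31180 F286757) (tt N31099 F286758) (tt N31551 (iv F287891)))
theorem Q31356 : ∀ i, i < 31356 → P i := stepQ 31355 Q31355 (allL N31355 (tt N31554 (iv F287907)) (tt N31355 F286759) (tt N31025 F286760) (tt N31269 F286761) (tt N31024 (iv D64125)) (tt N31537 (iv F287783)) (tt N31199 F286762) (tt N31182 F286763) (tt N31100 F286764) (tt N31552 (iv F287899)))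
theorem Q31357 : ∀ i, i < 31357 → P i := stepQ 31356 Q31356 (allL N31356 (tt N31030 F286765) (tt N31555 D64325) (tt N31028 (iv D64126)) (tt N31071 F286766) (tt N31090 F286767) (tt N31556 D64326) (tt N31213 F286768) (tt N31230 F286769) (tt N31557 D64327) (tt N31034 F286770))
theorem Q31358 : ∀ i, i < 31358 → P i := stepQ 31357 Q31357 (allL N31357 (tt N31031 F286771) (tt N31266 F286772) (tt N31556 (iv F287921)) (tt N31029 F286773) (tt N31224 F286774) (tt N31028 (iv D64127)) (tt N31316 F286775) (tt N31231 F286776) (tt N31558 D64328) (tt N31035 F286777))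
theorem Q31359 : ∀ i, i < 31359 → P i := stepQ 31358 Q31358 (allL N31358 (tt N31032 F286778) (tt N31267 F286779) (tt N31557 (iv F287928)) (tt N31070 F286780) (tt N31091 F286781) (tt N31558 (iv F287937)) (tt N31214 F286782) (tt N31232 F286783) (tt N31028 (iv D64128)) (tt N31536 (iv F287779)))
theorem Q31360 : ∀ i, i < 31360 → P i := stepQ 31359 Q31359 (allL N31359 (tt N31556 (iv F287920)) (tt N31359 F286784) (tt N31031 F286785) (tt N31073 F286786) (tt N31225 F286787) (tt N31030 (iv D64129)) (tt N31317 F286788) (tt N31234 F286789) (tt N31559 D64329) (tt N31037 F286790))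
theorem Q31361 : ∀ i, i < 31361 → P i := stepQ 31360 Q31360 (allL N31360 (tt N31557 (iv F287927)) (tt N31360 F286791) (tt N31032 F286792) (tt N31158 F286793) (tt N31092 F286794) (tt N31559 (iv F287945)) (tt N31215 F286795) (tt N31235 F286796) (tt N31030 (iv D64130)) (tt N31538 (iv F287795)))
theorem Q31362 : ∀ i, i < 31362 → P i := stepQ 31361 Q31361 (allL N31361 (tt N31558 (iv F287933)) (tt N31033 F286797) (tt N31559 (iv F287942)) (tt N31056 F286798) (tt N31066 F286799) (tt N31032 F286800) (tt N31055 F286801) (tt N31159 F286802) (tt N31031 (iv D64131)) (tt N31138 F286803))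
theorem Q31363 : ∀ i, i < 31363 → P i := stepQ 31362 Q31362 (allL N31362 (tt N31362 F286804) (tt N31034 (iv D64132)) (tt N31270 F286805) (tt N31281 F286806) (tt N31108 F286807) (tt N31560 D64330) (tt N31216 F286808) (tt N31295 F286809) (tt N31561 D64331) (tt N31555 (iv F287919)))
theorem Q31364 : ∀ i, i < 31364 → P i := stepQ 31363 Q31363 (allL N31363 (tt N31037 F286810) (tt N31560 (iv F287950)) (tt N31035 F286811) (tt N31217 F286812) (tt N31223 F286813) (tt N31034 (iv D64133)) (tt N31315 F286814) (tt N31238 F286815) (tt N31218 (iv F286816)) (tt N31556 (iv F287926)))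
theorem Q31365 : ∀ i, i < 31365 → P i := stepQ 31364 Q31364 (allL N31364 (tt N31038 F286817) (tt N31561 (iv F287958)) (tt N31036 F286818) (tt N31315 F286819) (tt N31109 F286820) (tt N31218 F286821) (tt N31217 F286822) (tt N31237 F286823) (tt N31034 (iv D64134)) (tt N31562 D64332))
theorem Q31366 : ∀ i, i < 31366 → P i := stepQ 31365 Q31365 (allL N31365 (tt N31039 F286824) (tt N31251 F286825) (tt N31562 (iv F287966)) (tt N31041 F286826) (tt N31110 F286827) (tt N31141 F286828) (tt N31072 F286829) (tt N31154 F286830) (tt N31536 (iv F287778)) (tt N31036 (iv D64135)))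
theorem Q31367 : ∀ i, i < 31367 → P i := stepQ 31366 Q31366 (allL N31366 (tt N31562 (iv F287965)) (tt N31366 F286831) (tt N31039 F286832) (tt N31317 F286833) (tt N31112 F286834) (tt N31142 F286835) (tt N31073 F286836) (tt N31157 F286837) (tt N31538 (iv F287794)) (tt N31038 (iv D64136)))
theorem Q31368 : ∀ i, i < 31368 → P i := stepQ 31367 Q31367 (allL N31367 (tt N31043 F286838) (tt N31563 D64333) (tt N31042 (iv D64137)) (tt N31047 F286839) (tt N31303 F286840) (tt N31143 F286841) (tt N31177 F286842) (tt N31119 F286843) (tt N31135 F286844) (tt N31192 F286845))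
theorem Q31369 : ∀ i, i < 31369 → P i := stepQ 31368 Q31368 (allL N31368 (tt N31368 F286846) (tt N31044 (iv D64138)) (tt N31196 F286847) (tt N31206 F286848) (tt N31195 F286849) (tt N31312 F286850) (tt N31193 F286851) (tt N31309 F286852) (tt N31301 F286853) (tt N31255 F286854))
theorem Q31370 : ∀ i, i < 31370 → P i := stepQ 31369 Q31369 (allL N31369 (tt N31369 F286855) (tt N31045 (iv D64139)) (tt N31081 F286856) (tt N31196 F286857) (tt N31302 F286858) (tt N31239 F286859) (tt N31312 F286860) (tt N31308 F286861) (tt N31293 F286862) (tt N31280 F286863))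
theorem Q31371 : ∀ i, i < 31371 → P i := stepQ 31370 Q31370 (allL N31370 (tt N31370 F286864) (tt N31046 (iv D64140)) (tt N31097 F286865) (tt N31216 F286866) (tt N31294 F286867) (tt N31314 F286868) (tt N31281 F286869) (tt N31320 F286870) (tt N31319 F286871) (tt N31288 F286872))
theorem Q31372 : ∀ i, i < 31372 → P i := stepQ 31371 Q31371 (allL N31371 (tt N31371 F286873) (tt N31047 (iv D64141)) (tt N31108 F286874) (tt N31563 (iv F287974)) (tt N31270 F286875) (tt N31307 F286876) (tt N31184 F286877) (tt N31282 F286878) (tt N31564 D64334) (tt N31531 (iv F287741)))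
theorem Q31373 : ∀ i, i < 31373 → P i := stepQ 31372 Q31372 (allL N31372 (tt N31049 F286879) (tt N31564 (iv F287982)) (tt N31048 F286880) (tt N31185 (iv F286885)) (tt N31244 F286881) (tt N31177 F286882) (tt N31186 F286883) (tt N31283 F286884) (tt N31047 (iv D64142)) (tt N31565 D64335))
theorem Q31374 : ∀ i, i < 31374 → P i := stepQ 31373 Q31373 (allL N31373 (tt N31050 F286886) (tt N31110 F286887) (tt N31565 (iv F287990)) (tt N31114 F286888) (tt N31251 F286889) (tt N31113 F286890) (tt N31188 F286891) (tt N31284 F286892) (tt N31148 F286893) (tt N31048 (iv D64143)))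
theorem Q31375 : ∀ i, i < 31375 → P i := stepQ 31374 Q31374 (allL N31374 (tt N31565 (iv F287989)) (tt N31374 F286894) (tt N31050 F286895) (tt N31181 F286896) (tt N31246 F286897) (tt N31115 F286898) (tt N31190 F286899) (tt N31285 F286900) (tt N31150 F286901) (tt N31049 (iv D64144)))
theorem Q31376 : ∀ i, i < 31376 → P i := stepQ 31375 Q31375 (allL N31375 (tt N31054 F286902) (tt N31566 D64336) (tt N31052 (iv D64145)) (tt N31230 F286903) (tt N31094 F286904) (tt N31567 D64337) (tt N31228 F286905) (tt N31071 F286906) (tt N31318 F286907) (tt N31278 F286908))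
theorem Q31377 : ∀ i, i < 31377 → P i := stepQ 31376 Q31376 (allL N31376 (tt N31055 F286909) (tt N31259 F286910) (tt N31567 (iv F288006)) (tt N31053 F286911) (tt N31179 F286912) (tt N31052 (iv D64146)) (tt N31558 (iv F287938)) (tt N31072 F286913) (tt N31316 F286914) (tt N31187 F286915))
theorem Q31378 : ∀ i, i < 31378 → P i := stepQ 31377 Q31377 (allL N31377 (tt N31056 F286916) (tt N31262 F286917) (tt N31233 F286918) (tt N31558 (iv F287935)) (tt N31161 F286919) (tt N31070 F286920) (tt N31053 (iv D64147)) (tt N31156 F286921) (tt N31062 F286922) (tt N31191 F286923))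
theorem Q31379 : ∀ i, i < 31379 → P i := stepQ 31378 Q31378 (allL N31378 (tt N31567 (iv F288005)) (tt N31378 F286924) (tt N31055 F286925) (tt N31234 F286926) (tt N31181 F286927) (tt N31054 (iv D64148)) (tt N31559 (iv F287946)) (tt N31073 F286928) (tt N31317 F286929) (tt N31189 F286930))
theorem Q31380 : ∀ i, i < 31380 → P i := stepQ 31379 Q31379 (allL N31379 (tt N31059 F286931) (tt N31568 D64338) (tt N31057 (iv D64149)) (tt N31289 F286932) (tt N31067 F286933) (tt N31569 D64339) (tt N31290 F286934) (tt N31075 F286935) (tt N31168 F286936) (tt N31286 F286937))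
theorem Q31381 : ∀ i, i < 31381 → P i := stepQ 31380 Q31380 (allL N31380 (tt N31060 F286938) (tt N31224 F286939) (tt N31569 (iv F288021)) (tt N31058 F286940) (tt N31266 F286941) (tt N31057 (iv D64150)) (tt N31551 (iv F287888)) (tt N31076 F286942) (tt N31169 F286943) (tt N31198 F286944))
theorem Q31382 : ∀ i, i < 31382 → P i := stepQ 31381 Q31381 (allL N31381 (tt N31061 F286945) (tt N31250 F286946) (tt N31261 F286947) (tt N31551 (iv F287886)) (tt N31062 F286948) (tt N31229 F286949) (tt N31058 (iv D64151)) (tt N31149 F286950) (tt N31161 F286951) (tt N31209 F286952))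
theorem Q31383 : ∀ i, i < 31383 → P i := stepQ 31382 Q31382 (allL N31382 (tt N31569 (iv F288020)) (tt N31382 F286953) (tt N31060 F286954) (tt N31275 F286955) (tt N31268 F286956) (tt N31059 (iv D64152)) (tt N31552 (iv F287896)) (tt N31078 F286957) (tt N31170 F286958) (tt N31199 F286959))
theorem Q31384 : ∀ i, i < 31384 → P i := stepQ 31383 Q31383 (allL N31383 (tt N31065 F286960) (tt N31570 D64340) (tt N31063 (iv D64153)) (tt N31219 F286961) (tt N31290 F286962) (tt N31571 D64341) (tt N31067 F286963) (tt N31247 F286964) (tt N31298 F286965) (tt N31135 F286966))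
theorem Q31385 : ∀ i, i < 31385 → P i := stepQ 31384 Q31384 (allL N31384 (tt N31066 F286967) (tt N31169 F286968) (tt N31571 (iv F288036)) (tt N31064 F286969) (tt N31558 (iv F287936)) (tt N31063 (iv D64154)) (tt N31179 F286970) (tt N31164 F286971) (tt N31224 F286972) (tt N31136 F286973))
theorem Q31386 : ∀ i, i < 31386 → P i := stepQ 31385 Q31385 (allL N31385 (tt N31571 (iv F288035)) (tt N31385 F286974) (tt N31066 F286975) (tt N31190 F286976) (tt N31559 (iv F287944)) (tt N31065 (iv D64155)) (tt N31181 F286977) (tt N31165 F286978) (tt N31225 F286979) (tt N31137 F286980))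
theorem Q31387 : ∀ i, i < 31387 → P i := stepQ 31386 Q31386 (allL N31386 (tt N31386 F286981) (tt N31067 (iv D64156)) (tt N31308 F286982) (tt N31222 F286983) (tt N31568 (iv F288015)) (tt N31531 (iv F287738)) (tt N31570 (iv F288031)) (tt N31081 F286984) (tt N31572 D64342) (tt N31307 F286985))
theorem Q31388 : ∀ i, i < 31388 → P i := stepQ 31387 Q31387 (allL N31387 (tt N31069 F286986) (tt N31572 (iv F288043)) (tt N31068 F286987) (tt N31264 (iv F286991)) (tt N31168 F286988) (tt N31532 (iv F287746)) (tt N31298 F286989) (tt N31082 F286990) (tt N31067 (iv D64157)) (tt N31147 F286992))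
theorem Q31389 : ∀ i, i < 31389 → P i := stepQ 31388 Q31388 (allL N31388 (tt N31388 F286993) (tt N31071 (iv D64158)) (tt N31294 F286994) (tt N31555 (iv F287915)) (tt N31097 F286995) (tt N31573 D64343) (tt N31288 F286996) (tt N31566 (iv F288002)) (tt N31533 (iv F287756)) (tt N31281 F286997))
theorem Q31390 : ∀ i, i < 31390 → P i := stepQ 31389 Q31389 (allL N31389 (tt N31073 F286998) (tt N31573 (iv F288051)) (tt N31072 F286999) (tt N31556 (iv F287922)) (tt N31574 D64344) (tt N31071 (iv D64159)) (tt N31562 (iv F287970)) (tt N31567 (iv F288009)) (tt N31534 (iv F287762)) (tt N31217 F287000))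
theorem Q31391 : ∀ i, i < 31391 → P i := stepQ 31390 Q31390 (allL N31390 (tt N31074 F287001) (tt N31188 F287002) (tt N31574 (iv F288055)) (tt N31140 F287003) (tt N31072 (iv D64160)) (tt N31099 F287004) (tt N31110 F287005) (tt N31179 F287006) (tt N31535 (iv F287769)) (tt N31105 F287007))
theorem Q31392 : ∀ i, i < 31392 → P i := stepQ 31391 Q31391 (allL N31391 (tt N31574 (iv F288054)) (tt N31391 F287008) (tt N31074 F287009) (tt N31285 (iv F287014)) (tt N31073 (iv D64161)) (tt N31100 F287010) (tt N31112 F287011) (tt N31181 F287012) (tt N31537 (iv F287785)) (tt N31107 F287013))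
theorem Q31393 : ∀ i, i < 31393 → P i := stepQ 31392 Q31392 (allL N31392 (tt N31392 F287015) (tt N31075 (iv D64162)) (tt N31302 F287016) (tt N31549 (iv F287871)) (tt N31081 F287017) (tt N31575 D64345) (tt N31313 F287018) (tt N31568 (iv F288017)) (tt N31576 D64346) (tt N31287 F287019))
theorem Q31394 : ∀ i, i < 31394 → P i := stepQ 31393 Q31393 (allL N31393 (tt N31078 F287020) (tt N31575 (iv F288062)) (tt N31076 F287021) (tt N31550 (iv F287879)) (tt N31540 (iv F287806)) (tt N31075 (iv D64163)) (tt N31547 (iv F287857)) (tt N31569 (iv F288024)) (tt N31577 D64347) (tt N31207 F287022))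
theorem Q31395 : ∀ i, i < 31395 → P i := stepQ 31394 Q31394 (allL N31394 (tt N31079 F287023) (tt N31576 (iv F288066)) (tt N31077 F287024) (tt N31303 (iv F287029)) (tt N31082 F287025) (tt N31577 (iv F288075)) (tt N31208 F287026) (tt N31168 F287027) (tt N31075 (iv D64164)) (tt N31166 F287028))
theorem Q31396 : ∀ i, i < 31396 → P i := stepQ 31395 Q31395 (allL N31395 (tt N31080 F287030) (tt N31164 F287031) (tt N31577 (iv F288074)) (tt N31139 F287032) (tt N31543 (iv F287826)) (tt N31077 F287033) (tt N31284 F287034) (tt N31169 F287035) (tt N31076 (iv D64165)) (tt N31134 F287036))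
theorem Q31397 : ∀ i, i < 31397 → P i := stepQ 31396 Q31396 (allL N31396 (tt N31577 (iv F288073)) (tt N31396 F287037) (tt N31080 F287038) (tt N31112 F287043) (tt N31545 (iv F287842)) (tt N31079 F287039) (tt N31285 F287040) (tt N31170 F287041) (tt N31078 (iv D64166)) (tt N31111 F287042))
theorem Q31398 : ∀ i, i < 31398 → P i := stepQ 31397 Q31397 (allL N31397 (tt N31397 F287044) (tt N31082 F287045) (tt N31293 F287046) (tt N31270 (iv F287048)) (tt N31576 (iv F288068)) (tt N31546 (iv F287851)) (tt N31263 F287047) (tt N31572 (iv F288047)) (tt N31081 (iv D64167)) (tt N31578 D64348))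
theorem Q31399 : ∀ i, i < 31399 → P i := stepQ 31398 Q31398 (allL N31398 (tt N31084 F287049) (tt N31578 (iv F288081)) (tt N31083 F287050) (tt N31265 F287051) (tt N31166 F287052) (tt N31547 (iv F287856)) (tt N31210 F287053) (tt N31147 F287054) (tt N31305 F287055) (tt N31082 (iv D64168)))
theorem Q31400 : ∀ i, i < 31400 → P i := stepQ 31399 Q31399 (allL N31399 (tt N31087 F287056) (tt N31579 D64349) (tt N31085 (iv D64169)) (tt N31247 F287057) (tt N31213 F287058) (tt N31580 D64350) (tt N31090 F287059) (tt N31219 F287060) (tt N31581 D64351) (tt N31103 F287061))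
theorem Q31401 : ∀ i, i < 31401 → P i := stepQ 31400 Q31400 (allL N31400 (tt N31088 F287062) (tt N31179 F287063) (tt N31580 (iv F288096)) (tt N31086 F287064) (tt N31259 F287065) (tt N31085 (iv D64170)) (tt N31169 F287066) (tt N31188 F287067) (tt N31551 (iv F287890)) (tt N31104 F287068))
theorem Q31402 : ∀ i, i < 31402 → P i := stepQ 31401 Q31401 (allL N31401 (tt N31089 F287069) (tt N31180 F287070) (tt N31581 (iv F288103)) (tt N31229 F287071) (tt N31214 F287072) (tt N31551 (iv F287887)) (tt N31091 F287073) (tt N31220 F287074) (tt N31085 (iv D64171)) (tt N31535 (iv F287770)))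
theorem Q31403 : ∀ i, i < 31403 → P i := stepQ 31402 Q31402 (allL N31402 (tt N31580 (iv F288095)) (tt N31402 F287075) (tt N31088 F287076) (tt N31165 F287077) (tt N31260 F287078) (tt N31087 (iv D64172)) (tt N31170 F287079) (tt N31190 F287080) (tt N31552 (iv F287898)) (tt N31106 F287081))
theorem Q31404 : ∀ i, i < 31404 → P i := stepQ 31403 Q31403 (allL N31403 (tt N31581 (iv F288102)) (tt N31403 F287082) (tt N31089 F287083) (tt N31175 F287084) (tt N31215 F287085) (tt N31552 (iv F287895)) (tt N31092 F287086) (tt N31221 F287087) (tt N31087 (iv D64173)) (tt N31537 (iv F287786)))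
theorem Q31405 : ∀ i, i < 31405 → P i := stepQ 31404 Q31404 (allL N31404 (tt N31404 F287088) (tt N31090 (iv D64174)) (tt N31531 (iv F287735)) (tt N31248 F287089) (tt N31555 (iv F287916)) (tt N31308 F287090) (tt N31579 (iv F288092)) (tt N31239 F287091) (tt N31582 D64352) (tt N31108 F287092))
theorem Q31406 : ∀ i, i < 31406 → P i := stepQ 31405 Q31405 (allL N31405 (tt N31092 F287093) (tt N31582 (iv F288109)) (tt N31091 F287094) (tt N31258 F287095) (tt N31557 (iv F287930)) (tt N31290 F287096) (tt N31581 (iv F288106)) (tt N31240 F287097) (tt N31090 (iv D64175)) (tt N31583 D64353))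
theorem Q31407 : ∀ i, i < 31407 → P i := stepQ 31406 Q31406 (allL N31406 (tt N31093 F287098) (tt N31148 F287099) (tt N31583 (iv F288114)) (tt N31123 F287100) (tt N31536 (iv F287775)) (tt N31122 F287101) (tt N31535 F287771) (tt N31241 F287102) (tt N31110 F287103) (tt N31091 (iv D64176)))
theorem Q31408 : ∀ i, i < 31408 → P i := stepQ 31407 Q31407 (allL N31407 (tt N31583 (iv F288113)) (tt N31407 F287104) (tt N31093 F287105) (tt N31260 F287106) (tt N31538 (iv F287791)) (tt N31124 F287107) (tt N31537 F287787) (tt N31242 F287108) (tt N31112 F287109) (tt N31092 (iv D64177)))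
theorem Q31409 : ∀ i, i < 31409 → P i := stepQ 31408 Q31408 (allL N31408 (tt N31408 F287110) (tt N31094 (iv D64178)) (tt N31320 F287111) (tt N31313 F287112) (tt N31566 (iv F288000)) (tt N31272 F287113) (tt N31549 (iv F287873)) (tt N31097 F287114) (tt N31548 (iv F287867)) (tt N31276 F287115))
theorem Q31410 : ∀ i, i < 31410 → P i := stepQ 31409 Q31409 (allL N31409 (tt N31409 F287116) (tt N31095 (iv D64179)) (tt N31263 F287117) (tt N31097 F287118) (tt N31248 F287119) (tt N31301 F287120) (tt N31293 F287121) (tt N31313 F287122) (tt N31312 F287123) (tt N31253 F287124))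
theorem Q31411 : ∀ i, i < 31411 → P i := stepQ 31410 Q31410 (allL N31410 (tt N31410 F287125) (tt N31096 (iv D64180)) (tt N31288 F287126) (tt N31253 F287127) (tt N31281 F287128) (tt N31257 F287129) (tt N31294 F287130) (tt N31276 F287131) (tt N31292 F287132) (tt N31097 F287133))
theorem Q31412 : ∀ i, i < 31412 → P i := stepQ 31411 Q31411 (allL N31411 (tt N31411 F287134) (tt N31098 F287135) (tt N31314 F287136) (tt N31301 F287137) (tt N31584 D64354) (tt N31097 (iv D64181)) (tt N31300 (iv F287140)) (tt N31272 F287138) (tt N31553 (iv F287906)) (tt N31257 F287139))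
theorem Q31413 : ∀ i, i < 31413 → P i := stepQ 31412 Q31412 (allL N31412 (tt N31100 F287141) (tt N31584 (iv F288120)) (tt N31099 F287142) (tt N31305 F287143) (tt N31098 (iv D64182)) (tt N31574 (iv F288056)) (tt N31197 F287144) (tt N31178 F287145) (tt N31554 (iv F287912)) (tt N31176 F287146))
theorem Q31414 : ∀ i, i < 31414 → P i := stepQ 31413 Q31413 (allL N31413 (tt N31102 F287147) (tt N31585 D64355) (tt N31101 (iv D64183)) (tt N31135 F287148) (tt N31212 F287149) (tt N31186 F287150) (tt N31143 F287151) (tt N31103 F287152) (tt N31185 F287153) (tt N31219 F287154))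
theorem Q31415 : ∀ i, i < 31415 → P i := stepQ 31414 Q31414 (allL N31414 (tt N31414 F287155) (tt N31103 (iv D64184)) (tt N31184 F287156) (tt N31254 F287157) (tt N31216 F287158) (tt N31586 D64356) (tt N31108 F287159) (tt N31585 (iv F288132)) (tt N31587 D64357) (tt N31579 (iv F288094)))
theorem Q31416 : ∀ i, i < 31416 → P i := stepQ 31415 Q31415 (allL N31415 (tt N31106 F287160) (tt N31586 (iv F288136)) (tt N31104 F287161) (tt N31163 F287162) (tt N31258 F287163) (tt N31103 (iv D64185)) (tt N31173 F287164) (tt N31186 F287165) (tt N31176 (iv F287166)) (tt N31580 (iv F288101)))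
theorem Q31417 : ∀ i, i < 31417 → P i := stepQ 31416 Q31416 (allL N31416 (tt N31107 F287167) (tt N31587 (iv F288144)) (tt N31105 F287168) (tt N31283 F287169) (tt N31217 F287170) (tt N31176 F287171) (tt N31109 F287172) (tt N31185 F287173) (tt N31103 (iv D64186)) (tt N31574 (iv F288059)))
theorem Q31418 : ∀ i, i < 31418 → P i := stepQ 31417 Q31417 (allL N31417 (tt N31417 F287174) (tt N31109 F287175) (tt N31564 (iv F287983)) (tt N31588 D64358) (tt N31561 (iv F287961)) (tt N31304 F287176) (tt N31587 (iv F288149)) (tt N31296 F287177) (tt N31108 (iv D64187)) (tt N31589 D64359))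
theorem Q31419 : ∀ i, i < 31419 → P i := stepQ 31418 Q31418 (allL N31418 (tt N31111 F287178) (tt N31588 (iv F288152)) (tt N31134 F287179) (tt N31109 (iv D64188)) (tt N31590 D64360) (tt N31166 F287180) (tt N31283 F287181) (tt N31173 F287182) (tt N31133 F287183) (tt N31577 (iv F288078)))
theorem Q31420 : ∀ i, i < 31420 → P i := stepQ 31419 Q31419 (allL N31419 (tt N31112 F287184) (tt N31589 (iv F288159)) (tt N31110 F287185) (tt N31577 F288079) (tt N31562 (iv F287968)) (tt N31303 F287186) (tt N31574 (iv F288057)) (tt N31297 F287187) (tt N31583 (iv F288118)) (tt N31109 (iv D64189)))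
theorem Q31421 : ∀ i, i < 31421 → P i := stepQ 31420 Q31420 (allL N31420 (tt N31590 (iv F288162)) (tt N31420 F287188) (tt N31130 F287189) (tt N31221 F287190) (tt N31111 (iv D64190)) (tt N31544 (iv F287835)) (tt N31204 F287191) (tt N31175 F287192) (tt N31128 F287193) (tt N31545 (iv F287846)))
theorem Q31422 : ∀ i, i < 31422 → P i := stepQ 31421 Q31421 (allL N31421 (tt N31115 F287194) (tt N31591 D64361) (tt N31113 (iv D64191)) (tt N31178 F287195) (tt N31120 F287196) (tt N31565 (iv F287993)) (tt N31192 F287197) (tt N31305 F287198) (tt N31147 F287199) (tt N31177 F287200))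
theorem Q31423 : ∀ i, i < 31423 → P i := stepQ 31422 Q31422 (allL N31422 (tt N31118 F287201) (tt N31592 D64362) (tt N31116 (iv D64192)) (tt N31168 F287202) (tt N31119 F287203) (tt N31297 F287204) (tt N31194 F287205) (tt N31303 F287206) (tt N31252 F287207) (tt N31167 F287208))
theorem Q31424 : ∀ i, i < 31424 → P i := stepQ 31423 Q31423 (allL N31423 (tt N31423 F287209) (tt N31119 (iv D64193)) (tt N31310 F287210) (tt N31282 F287211) (tt N31592 (iv F288179)) (tt N31162 F287212) (tt N31255 F287213) (tt N31563 (iv F287978)) (tt N31254 F287214) (tt N31193 F287215))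
theorem Q31425 : ∀ i, i < 31425 → P i := stepQ 31424 Q31424 (allL N31424 (tt N31424 F287216) (tt N31120 (iv D64194)) (tt N31563 (iv F287973)) (tt N31211 F287217) (tt N31591 (iv F288171)) (tt N31321 F287218) (tt N31304 F287219) (tt N31310 F287220) (tt N31172 F287221) (tt N31311 F287222))
theorem Q31426 : ∀ i, i < 31426 → P i := stepQ 31425 Q31425 (allL N31425 (tt N31124 F287223) (tt N31593 D64363) (tt N31122 (iv D64195)) (tt N31291 F287224) (tt N31135 F287225) (tt N31583 (iv F288116)) (tt N31286 F287226) (tt N31252 F287227) (tt N31303 F287228) (tt N31290 F287229))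
theorem Q31427 : ∀ i, i < 31427 → P i := stepQ 31426 Q31426 (allL N31426 (tt N31125 F287230) (tt N31149 F287231) (tt N31262 F287232) (tt N31535 (iv F287766)) (tt N31144 F287233) (tt N31209 F287234) (tt N31123 (iv D64196)) (tt N31250 F287235) (tt N31132 F287236) (tt N31229 F287237))
theorem Q31428 : ∀ i, i < 31428 → P i := stepQ 31427 Q31427 (allL N31427 (tt N31128 F287238) (tt N31594 D64364) (tt N31126 (iv D64197)) (tt N31298 F287239) (tt N31133 F287240) (tt N31595 D64365) (tt N31264 F287241) (tt N31256 F287242) (tt N31590 (iv F288167)) (tt N31200 F287243))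
theorem Q31429 : ∀ i, i < 31429 → P i := stepQ 31428 Q31428 (allL N31428 (tt N31129 F287244) (tt N31154 F287245) (tt N31595 (iv F288201)) (tt N31127 F287246) (tt N31284 F287247) (tt N31126 (iv D64198)) (tt N31543 (iv F287828)) (tt N31251 F287248) (tt N31542 F287822) (tt N31201 F287249))
theorem Q31430 : ∀ i, i < 31430 → P i := stepQ 31429 Q31429 (allL N31429 (tt N31130 F287250) (tt N31155 F287251) (tt N31590 (iv F288163)) (tt N31203 F287252) (tt N31134 F287253) (tt N31542 (iv F287819)) (tt N31201 F287254) (tt N31174 F287255) (tt N31126 (iv D64199)) (tt N31543 (iv F287830)))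
theorem Q31431 : ∀ i, i < 31431 → P i := stepQ 31430 Q31430 (allL N31430 (tt N31131 F287256) (tt N31156 F287257) (tt N31250 F287258) (tt N31543 (iv F287825)) (tt N31132 F287259) (tt N31145 F287260) (tt N31127 (iv D64200)) (tt N31262 F287261) (tt N31144 F287262) (tt N31203 F287263))
theorem Q31432 : ∀ i, i < 31432 → P i := stepQ 31431 Q31431 (allL N31431 (tt N31595 (iv F288200)) (tt N31431 F287264) (tt N31129 F287265) (tt N31225 F287266) (tt N31285 F287267) (tt N31128 (iv D64201)) (tt N31545 (iv F287844)) (tt N31246 F287268) (tt N31544 F287838) (tt N31204 F287269))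
theorem Q31433 : ∀ i, i < 31433 → P i := stepQ 31432 Q31432 (allL N31432 (tt N31432 F287270) (tt N31133 (iv D64202)) (tt N31162 F287271) (tt N31255 F287272) (tt N31594 (iv F288196)) (tt N31310 F287273) (tt N31282 F287274) (tt N31321 F287275) (tt N31588 (iv F288157)) (tt N31206 F287276))
theorem Q31434 : ∀ i, i < 31434 → P i := stepQ 31433 Q31433 (allL N31433 (tt N31433 F287277) (tt N31135 (iv D64203)) (tt N31172 F287278) (tt N31585 (iv F288128)) (tt N31593 (iv F288188)) (tt N31596 D64366) (tt N31307 F287279) (tt N31254 F287280) (tt N31563 (iv F287979)) (tt N31570 (iv F288034)))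
theorem Q31435 : ∀ i, i < 31435 → P i := stepQ 31434 Q31434 (allL N31434 (tt N31137 F287281) (tt N31596 (iv F288207)) (tt N31136 F287282) (tt N31186 F287283) (tt N31597 D64367) (tt N31135 (iv D64204)) (tt N31185 F287284) (tt N31163 F287285) (tt N31143 F287286) (tt N31571 (iv F288041)))
theorem Q31436 : ∀ i, i < 31436 → P i := stepQ 31435 Q31435 (allL N31435 (tt N31138 F287287) (tt N31174 F287288) (tt N31597 (iv F288214)) (tt N31191 F287289) (tt N31136 (iv D64205)) (tt N31536 (iv F287776)) (tt N31187 F287290) (tt N31155 F287291) (tt N31141 F287292) (tt N31558 (iv F287940)))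
theorem Q31437 : ∀ i, i < 31437 → P i := stepQ 31436 Q31436 (allL N31436 (tt N31597 (iv F288213)) (tt N31436 F287293) (tt N31138 F287294) (tt N31235 F287295) (tt N31137 (iv D64206)) (tt N31538 (iv F287792)) (tt N31189 F287296) (tt N31158 F287297) (tt N31142 F287298) (tt N31559 (iv F287948)))
theorem Q31438 : ∀ i, i < 31438 → P i := stepQ 31437 Q31437 (allL N31437 (tt N31142 F287299) (tt N31598 D64368) (tt N31141 (iv D64207)) (tt N31318 F287300) (tt N31143 F287301) (tt N31562 (iv F287969)) (tt N31212 F287302) (tt N31153 F287303) (tt N31597 (iv F288218)) (tt N31218 F287304))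
theorem Q31439 : ∀ i, i < 31439 → P i := stepQ 31438 Q31438 (allL N31438 (tt N31438 F287305) (tt N31143 (iv D64208)) (tt N31321 F287306) (tt N31307 F287307) (tt N31598 (iv F288222)) (tt N31563 (iv F287976)) (tt N31585 (iv F288131)) (tt N31162 F287308) (tt N31596 (iv F288212)) (tt N31222 F287309))
theorem Q31440 : ∀ i, i < 31440 → P i := stepQ 31439 Q31439 (allL N31439 (tt N31439 F287310) (tt N31147 (iv D64209)) (tt N31593 (iv F288186)) (tt N31539 (iv F287798)) (tt N31172 F287311) (tt N31599 D64369) (tt N31299 F287312) (tt N31578 (iv F288086)) (tt N31591 (iv F288174)) (tt N31572 (iv F288049)))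
theorem Q31441 : ∀ i, i < 31441 → P i := stepQ 31440 Q31440 (allL N31440 (tt N31150 F287313) (tt N31599 (iv F288227)) (tt N31148 F287314) (tt N31540 (iv F287805)) (tt N31600 D64370) (tt N31147 (iv D64210)) (tt N31601 D64371) (tt N31547 (iv F287858)) (tt N31565 (iv F287996)) (tt N31532 F287749))
theorem Q31442 : ∀ i, i < 31442 → P i := stepQ 31441 Q31441 (allL N31441 (tt N31151 F287315) (tt N31536 (iv F287773)) (tt N31600 (iv F288229)) (tt N31261 F287316) (tt N31148 (iv D64211)) (tt N31174 F287317) (tt N31274 (iv F287320)) (tt N31542 (iv F287820)) (tt N31251 F287318) (tt N31267 F287319))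
theorem Q31443 : ∀ i, i < 31443 → P i := stepQ 31442 Q31442 (allL N31442 (tt N31152 F287321) (tt N31535 (iv F287765)) (tt N31601 (iv F288235)) (tt N31149 F287322) (tt N31274 F287323) (tt N31220 F287324) (tt N31148 (iv D64212)) (tt N31551 (iv F287889)) (tt N31188 F287325) (tt N31180 F287326))
theorem Q31444 : ∀ i, i < 31444 → P i := stepQ 31443 Q31443 (allL N31443 (tt N31600 (iv F288228)) (tt N31443 F287327) (tt N31151 F287328) (tt N31552 (iv F287894)) (tt N31150 (iv D64213)) (tt N31175 F287329) (tt N31275 (iv F287332)) (tt N31544 (iv F287836)) (tt N31246 F287330) (tt N31269 F287331))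
theorem Q31445 : ∀ i, i < 31445 → P i := stepQ 31444 Q31444 (allL N31444 (tt N31601 (iv F288234)) (tt N31444 F287333) (tt N31152 F287334) (tt N31544 (iv F287833)) (tt N31275 F287335) (tt N31221 F287336) (tt N31150 (iv D64214)) (tt N31552 (iv F287897)) (tt N31190 F287337) (tt N31182 F287338))
theorem Q31446 : ∀ i, i < 31446 → P i := stepQ 31445 Q31445 (allL N31445 (tt N31445 F287339) (tt N31153 (iv D64215)) (tt N31594 (iv F288194)) (tt N31533 (iv F287752)) (tt N31162 F287340) (tt N31602 D64372) (tt N31295 F287341) (tt N31598 (iv F288224)) (tt N31603 D64373) (tt N31236 F287342))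
theorem Q31447 : ∀ i, i < 31447 → P i := stepQ 31446 Q31446 (allL N31446 (tt N31157 F287343) (tt N31602 (iv F288241)) (tt N31154 F287344) (tt N31534 (iv F287760)) (tt N31297 F287345) (tt N31153 (iv D64216)) (tt N31604 D64374) (tt N31562 (iv F287971)) (tt N31605 D64375) (tt N31237 F287346))
theorem Q31448 : ∀ i, i < 31448 → P i := stepQ 31447 Q31447 (allL N31447 (tt N31158 F287347) (tt N31603 (iv F288245)) (tt N31155 F287348) (tt N31557 (iv F287929)) (tt N31163 F287349) (tt N31605 (iv F288257)) (tt N31237 F287350) (tt N31597 (iv F288217)) (tt N31153 (iv D64217)) (tt N31604 (iv F288252)))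
theorem Q31449 : ∀ i, i < 31449 → P i := stepQ 31448 Q31448 (allL N31448 (tt N31159 F287351) (tt N31543 (iv F287824)) (tt N31604 (iv F288249)) (tt N31156 F287352) (tt N31164 F287353) (tt N31232 F287354) (tt N31154 (iv D64218)) (tt N31558 (iv F287939)) (tt N31231 (iv F287356)) (tt N31155 F287355))
theorem Q31450 : ∀ i, i < 31450 → P i := stepQ 31449 Q31449 (allL N31449 (tt N31160 F287357) (tt N31542 (iv F287816)) (tt N31605 (iv F288255)) (tt N31233 F287358) (tt N31241 F287359) (tt N31155 F287360) (tt N31231 F287361) (tt N31536 (iv F287777)) (tt N31154 (iv D64219)) (tt N31232 F287362))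
theorem Q31451 : ∀ i, i < 31451 → P i := stepQ 31450 Q31450 (allL N31450 (tt N31604 (iv F288248)) (tt N31450 F287363) (tt N31159 F287364) (tt N31538 (iv F287790)) (tt N31165 F287365) (tt N31235 F287366) (tt N31157 (iv D64220)) (tt N31559 (iv F287947)) (tt N31234 (iv F287368)) (tt N31158 F287367))
theorem Q31452 : ∀ i, i < 31452 → P i := stepQ 31451 Q31451 (allL N31451 (tt N31605 (iv F288254)) (tt N31451 F287369) (tt N31160 F287370) (tt N31559 (iv F287943)) (tt N31242 F287371) (tt N31158 F287372) (tt N31234 F287373) (tt N31538 (iv F287793)) (tt N31157 (iv D64221)) (tt N31235 F287374))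
theorem Q31453 : ∀ i, i < 31453 → P i := stepQ 31452 Q31452 (allL N31452 (tt N31452 F287375) (tt N31163 F287376) (tt N31588 (iv F288153)) (tt N31586 (iv F288138)) (tt N31603 (iv F288246)) (tt N31254 F287377) (tt N31296 F287378) (tt N31596 (iv F288211)) (tt N31162 (iv D64222)) (tt N31606 D64376))
theorem Q31454 : ∀ i, i < 31454 → P i := stepQ 31453 Q31453 (allL N31453 (tt N31165 F287379) (tt N31606 (iv F288261)) (tt N31164 F287380) (tt N31580 (iv F288097)) (tt N31604 (iv F288250)) (tt N31247 F287381) (tt N31297 F287382) (tt N31571 (iv F288039)) (tt N31245 F287383) (tt N31163 (iv D64223)))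
theorem Q31455 : ∀ i, i < 31455 → P i := stepQ 31454 Q31454 (allL N31454 (tt N31454 F287384) (tt N31166 (iv D64224)) (tt N31254 F287385) (tt N31304 F287386) (tt N31578 (iv F288084)) (tt N31588 (iv F288154)) (tt N31211 F287387) (tt N31172 F287388) (tt N31310 F287389) (tt N31576 (iv F288071)))
theorem Q31456 : ∀ i, i < 31456 → P i := stepQ 31455 Q31455 (allL N31455 (tt N31455 F287390) (tt N31167 (iv D64225)) (tt N31306 F287391) (tt N31172 F287392) (tt N31193 F287393) (tt N31296 F287394) (tt N31195 F287395) (tt N31304 F287396) (tt N31280 F287397) (tt N31592 (iv F288184)))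
theorem Q31457 : ∀ i, i < 31457 → P i := stepQ 31456 Q31456 (allL N31456 (tt N31456 F287398) (tt N31168 (iv D64226)) (tt N31570 (iv F288028)) (tt N31592 (iv F288178)) (tt N31572 (iv F288045)) (tt N31607 D64377) (tt N31308 F287399) (tt N31576 (iv F288070)) (tt N31568 (iv F288018)) (tt N31172 F287400))
theorem Q31458 : ∀ i, i < 31458 → P i := stepQ 31457 Q31457 (allL N31457 (tt N31170 F287401) (tt N31607 (iv F288266)) (tt N31169 F287402) (tt N31297 F287403) (tt N31608 D64378) (tt N31168 (iv D64227)) (tt N31580 (iv F288099)) (tt N31577 (iv F288077)) (tt N31569 (iv F288025)) (tt N31173 F287404))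
theorem Q31459 : ∀ i, i < 31459 → P i := stepQ 31458 Q31458 (allL N31458 (tt N31171 F287405) (tt N31558 (iv F287934)) (tt N31608 (iv F288270)) (tt N31262 F287406) (tt N31169 (iv D64228)) (tt N31267 F287407) (tt N31259 F287408) (tt N31543 (iv F287829)) (tt N31266 F287409) (tt N31174 F287410))
theorem Q31460 : ∀ i, i < 31460 → P i := stepQ 31459 Q31459 (allL N31459 (tt N31608 (iv F288269)) (tt N31459 F287411) (tt N31171 F287412) (tt N31537 (iv F287782)) (tt N31170 (iv D64229)) (tt N31269 F287413) (tt N31260 F287414) (tt N31545 (iv F287845)) (tt N31268 F287415) (tt N31175 F287416))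
theorem Q31461 : ∀ i, i < 31461 → P i := stepQ 31460 Q31460 (allL N31460 (tt N31460 F287417) (tt N31173 F287418) (tt N31596 (iv F288208)) (tt N31296 F287419) (tt N31609 D64379) (tt N31172 (iv D64230)) (tt N31586 (iv F288140)) (tt N31588 (iv F288156)) (tt N31321 F287420) (tt N31607 (iv F288268)))
theorem Q31462 : ∀ i, i < 31462 → P i := stepQ 31461 Q31461 (allL N31461 (tt N31175 F287421) (tt N31609 (iv F288276)) (tt N31174 F287422) (tt N31581 (iv F288104)) (tt N31173 (iv D64231)) (tt N31600 (iv F288230)) (tt N31258 F287423) (tt N31590 (iv F288166)) (tt N31256 F287424) (tt N31608 (iv F288274)))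
theorem Q31463 : ∀ i, i < 31463 → P i := stepQ 31462 Q31462 (allL N31462 (tt N31462 F287425) (tt N31176 (iv D64232)) (tt N31585 (iv F288127)) (tt N31306 F287426) (tt N31257 F287427) (tt N31587 (iv F288148)) (tt N31321 F287428) (tt N31184 F287429) (tt N31586 F288142) (tt N31584 (iv F288125)))
theorem Q31464 : ∀ i, i < 31464 → P i := stepQ 31463 Q31463 (allL N31463 (tt N31463 F287430) (tt N31177 (iv D64233)) (tt N31304 F287431) (tt N31184 F287432) (tt N31311 F287433) (tt N31564 (iv F287985)) (tt N31563 (iv F287977)) (tt N31306 F287434) (tt N31307 F287435) (tt N31591 (iv F288175)))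
theorem Q31465 : ∀ i, i < 31465 → P i := stepQ 31464 Q31464 (allL N31464 (tt N31464 F287436) (tt N31178 (iv D64234)) (tt N31579 (iv F288089)) (tt N31591 (iv F288170)) (tt N31272 F287437) (tt N31610 D64380) (tt N31531 (iv F287739)) (tt N31584 (iv F288124)) (tt N31611 D64381) (tt N31184 F287438))
theorem Q31466 : ∀ i, i < 31466 → P i := stepQ 31465 Q31465 (allL N31465 (tt N31181 F287439) (tt N31610 (iv F288280)) (tt N31179 F287440) (tt N31565 (iv F287991)) (tt N31567 (iv F288008)) (tt N31178 (iv D64235)) (tt N31571 (iv F288038)) (tt N31574 (iv F288058)) (tt N31612 D64382) (tt N31185 F287441))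
theorem Q31467 : ∀ i, i < 31467 → P i := stepQ 31466 Q31466 (allL N31466 (tt N31182 F287442) (tt N31611 (iv F288283)) (tt N31180 F287443) (tt N31541 (iv F287811)) (tt N31273 F287444) (tt N31612 (iv F288288)) (tt N31532 (iv F287747)) (tt N31554 (iv F287911)) (tt N31178 (iv D64236)) (tt N31601 (iv F288239)))
theorem Q31468 : ∀ i, i < 31468 → P i := stepQ 31467 Q31467 (allL N31467 (tt N31183 F287445) (tt N31551 (iv F287885)) (tt N31612 (iv F288286)) (tt N31250 F287446) (tt N31316 F287447) (tt N31180 F287448) (tt N31224 F287449) (tt N31535 (iv F287768)) (tt N31179 (iv D64237)) (tt N31220 F287450))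
theorem Q31469 : ∀ i, i < 31469 → P i := stepQ 31468 Q31468 (allL N31468 (tt N31612 (iv F288285)) (tt N31468 F287451) (tt N31183 F287452) (tt N31545 (iv F287841)) (tt N31317 F287453) (tt N31182 F287454) (tt N31225 F287455) (tt N31537 (iv F287784)) (tt N31181 (iv D64238)) (tt N31221 F287456))
theorem Q31470 : ∀ i, i < 31470 → P i := stepQ 31469 Q31469 (allL N31469 (tt N31469 F287457) (tt N31185 F287458) (tt N31586 (iv F288137)) (tt N31564 (iv F287988)) (tt N31613 D64383) (tt N31184 (iv D64239)) (tt N31596 (iv F288210)) (tt N31587 (iv F288150)) (tt N31585 (iv F288133)) (tt N31610 (iv F288281)))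
theorem Q31471 : ∀ i, i < 31471 → P i := stepQ 31470 Q31470 (allL N31470 (tt N31470 F287459) (tt N31186 F287460) (tt N31587 (iv F288145)) (tt N31596 (iv F288209)) (tt N31277 F287461) (tt N31585 (iv F288130)) (tt N31564 (iv F287986)) (tt N31586 (iv F288141)) (tt N31184 (iv D64240)) (tt N31614 D64384))
theorem Q31472 : ∀ i, i < 31472 → P i := stepQ 31471 Q31471 (allL N31471 (tt N31189 F287462) (tt N31613 (iv F288292)) (tt N31187 F287463) (tt N31238 F287464) (tt N31185 (iv D64241)) (tt N31278 F287465) (tt N31597 (iv F288216)) (tt N31217 F287466) (tt N31212 F287467) (tt N31567 (iv F288011)))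
theorem Q31473 : ∀ i, i < 31473 → P i := stepQ 31472 Q31472 (allL N31472 (tt N31190 F287468) (tt N31614 (iv F288299)) (tt N31188 F287469) (tt N31571 (iv F288037)) (tt N31279 F287470) (tt N31219 F287471) (tt N31565 (iv F287994)) (tt N31580 (iv F288100)) (tt N31601 (iv F288238)) (tt N31186 (iv D64242)))
theorem Q31474 : ∀ i, i < 31474 → P i := stepQ 31473 Q31473 (allL N31473 (tt N31473 F287472) (tt N31192 (iv D64243)) (tt N31311 F287473) (tt N31531 (iv F287736)) (tt N31304 F287474) (tt N31222 F287475) (tt N31591 (iv F288172)) (tt N31193 F287476) (tt N31299 F287477) (tt N31563 (iv F287980)))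
theorem Q31475 : ∀ i, i < 31475 → P i := stepQ 31474 Q31474 (allL N31474 (tt N31474 F287478) (tt N31194 (iv D64244)) (tt N31309 F287479) (tt N31308 F287480) (tt N31255 F287481) (tt N31248 F287482) (tt N31592 (iv F288181)) (tt N31196 F287483) (tt N31253 F287484) (tt N31195 F287485))
theorem Q31476 : ∀ i, i < 31476 → P i := stepQ 31475 Q31475 (allL N31475 (tt N31475 F287486) (tt N31197 (iv D64245)) (tt N31222 F287487) (tt N31309 F287488) (tt N31300 F287489) (tt N31311 F287490) (tt N31584 (iv F288123)) (tt N31206 F287491) (tt N31615 D64385) (tt N31321 F287492))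
theorem Q31477 : ∀ i, i < 31477 → P i := stepQ 31476 Q31476 (allL N31476 (tt N31199 F287493) (tt N31615 (iv F288303)) (tt N31198 F287494) (tt N31273 F287495) (tt N31271 F287496) (tt N31286 F287497) (tt N31554 (iv F287910)) (tt N31207 F287498) (tt N31197 (iv D64246)) (tt N31569 (iv F288026)))
theorem Q31478 : ∀ i, i < 31478 → P i := stepQ 31477 Q31477 (allL N31477 (tt N31477 F287499) (tt N31200 (iv D64247)) (tt N31236 F287500) (tt N31299 F287501) (tt N31206 F287502) (tt N31616 D64386) (tt N31539 (iv F287800)) (tt N31300 F287503) (tt N31617 D64387) (tt N31594 (iv F288199)))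
theorem Q31479 : ∀ i, i < 31479 → P i := stepQ 31478 Q31478 (allL N31478 (tt N31204 F287504) (tt N31616 (iv F288310)) (tt N31201 F287505) (tt N31223 F287506) (tt N31283 F287507) (tt N31200 (iv D64248)) (tt N31590 (iv F288165)) (tt N31244 F287508) (tt N31264 (iv F287509)) (tt N31595 (iv F288205)))
theorem Q31480 : ∀ i, i < 31480 → P i := stepQ 31479 Q31479 (allL N31479 (tt N31205 F287510) (tt N31617 (iv F288317)) (tt N31202 F287511) (tt N31532 (iv F287744)) (tt N31207 F287512) (tt N31264 F287513) (tt N31541 (iv F287813)) (tt N31271 F287514) (tt N31200 (iv D64249)) (tt N31540 (iv F287808)))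
theorem Q31481 : ∀ i, i < 31481 → P i := stepQ 31480 Q31480 (allL N31480 (tt N31480 F287515) (tt N31207 F287516) (tt N31243 F287517) (tt N31553 (iv F287903)) (tt N31617 (iv F288319)) (tt N31287 F287518) (tt N31546 (iv F287852)) (tt N31615 (iv F288308)) (tt N31206 (iv D64250)) (tt N31575 (iv F288064)))
theorem Q31482 : ∀ i, i < 31482 → P i := stepQ 31481 Q31481 (allL N31481 (tt N31481 F287519) (tt N31208 (iv D64251)) (tt N31248 F287520) (tt N31311 F287521) (tt N31263 F287522) (tt N31309 F287523) (tt N31576 (iv F288069)) (tt N31312 F287524) (tt N31313 F287525) (tt N31211 F287526))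
theorem Q31483 : ∀ i, i < 31483 → P i := stepQ 31482 Q31482 (allL N31482 (tt N31482 F287527) (tt N31210 (iv D64252)) (tt N31253 F287528) (tt N31272 F287529) (tt N31211 F287530) (tt N31313 F287531) (tt N31578 (iv F288085)) (tt N31301 F287532) (tt N31309 F287533) (tt N31263 F287534))
theorem Q31484 : ∀ i, i < 31484 → P i := stepQ 31483 Q31483 (allL N31483 (tt N31483 F287535) (tt N31212 (iv D64253)) (tt N31257 F287536) (tt N31320 F287537) (tt N31585 (iv F288129)) (tt N31288 F287538) (tt N31598 (iv F288223)) (tt N31216 F287539) (tt N31613 (iv F288297)) (tt N31314 F287540))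
theorem Q31485 : ∀ i, i < 31485 → P i := stepQ 31484 Q31484 (allL N31484 (tt N31484 F287541) (tt N31213 (iv D64254)) (tt N31272 F287542) (tt N31288 F287543) (tt N31579 (iv F288091)) (tt N31320 F287544) (tt N31555 (iv F287917)) (tt N31314 F287545) (tt N31618 D64388) (tt N31216 F287546))
theorem Q31486 : ∀ i, i < 31486 → P i := stepQ 31485 Q31485 (allL N31485 (tt N31215 F287547) (tt N31618 (iv F288323)) (tt N31214 F287548) (tt N31237 F287549) (tt N31581 (iv F288105)) (tt N31228 F287550) (tt N31557 (iv F287931)) (tt N31315 F287551) (tt N31213 (iv D64255)) (tt N31534 (iv F287763)))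
theorem Q31487 : ∀ i, i < 31487 → P i := stepQ 31486 Q31486 (allL N31486 (tt N31486 F287552) (tt N31217 F287553) (tt N31277 F287554) (tt N31560 (iv F287952)) (tt N31587 (iv F288147)) (tt N31281 F287555) (tt N31561 (iv F287963)) (tt N31613 (iv F288296)) (tt N31216 (iv D64256)) (tt N31573 (iv F288053)))
theorem Q31488 : ∀ i, i < 31488 → P i := stepQ 31487 Q31487 (allL N31487 (tt N31487 F287556) (tt N31218 (iv D64257)) (tt N31300 F287557) (tt N31319 F287558) (tt N31222 F287559) (tt N31561 (iv F287962)) (tt N31314 F287560) (tt N31236 F287561) (tt N31560 F287956) (tt N31598 (iv F288225)))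
theorem Q31489 : ∀ i, i < 31489 → P i := stepQ 31488 Q31488 (allL N31488 (tt N31488 F287562) (tt N31219 (iv D64258)) (tt N31584 (iv F288121)) (tt N31570 (iv F288029)) (tt N31314 F287563) (tt N31614 (iv F288301)) (tt N31222 F287564) (tt N31579 (iv F288093)) (tt N31619 D64389) (tt N31585 (iv F288134)))
theorem Q31490 : ∀ i, i < 31490 → P i := stepQ 31489 Q31489 (allL N31489 (tt N31221 F287565) (tt N31619 (iv F288329)) (tt N31220 F287566) (tt N31590 (iv F288164)) (tt N31315 F287567) (tt N31601 (iv F288237)) (tt N31223 F287568) (tt N31581 (iv F288107)) (tt N31219 (iv D64259)) (tt N31612 (iv F288290)))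
theorem Q31491 : ∀ i, i < 31491 → P i := stepQ 31490 Q31490 (allL N31490 (tt N31490 F287569) (tt N31223 F287570) (tt N31615 (iv F288304)) (tt N31616 (iv F288312)) (tt N31560 (iv F287953)) (tt N31299 F287571) (tt N31619 (iv F288331)) (tt N31243 F287572) (tt N31222 (iv D64260)) (tt N31620 D64390))
theorem Q31492 : ∀ i, i < 31492 → P i := stepQ 31491 Q31491 (allL N31491 (tt N31225 F287573) (tt N31620 (iv F288333)) (tt N31224 F287574) (tt N31595 (iv F288202)) (tt N31556 (iv F287923)) (tt N31298 F287575) (tt N31612 (iv F288289)) (tt N31245 F287576) (tt N31571 (iv F288040)) (tt N31223 (iv D64261)))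
theorem Q31493 : ∀ i, i < 31493 → P i := stepQ 31492 Q31492 (allL N31492 (tt N31492 F287577) (tt N31228 (iv D64262)) (tt N31548 (iv F287861)) (tt N31236 F287578) (tt N31549 (iv F287872)) (tt N31618 (iv F288326)) (tt N31566 (iv F288001)) (tt N31319 F287579) (tt N31320 F287580) (tt N31533 (iv F287757)))
theorem Q31494 : ∀ i, i < 31494 → P i := stepQ 31493 Q31493 (allL N31493 (tt N31493 F287581) (tt N31230 (iv D64263)) (tt N31539 (iv F287797)) (tt N31566 (iv F287999)) (tt N31239 F287582) (tt N31621 D64391) (tt N31236 F287583) (tt N31555 (iv F287918)) (tt N31622 D64392) (tt N31295 F287584))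
theorem Q31495 : ∀ i, i < 31495 → P i := stepQ 31494 Q31494 (allL N31494 (tt N31234 F287585) (tt N31621 (iv F288337)) (tt N31231 F287586) (tt N31567 (iv F288007)) (tt N31245 F287587) (tt N31230 (iv D64264)) (tt N31605 (iv F288258)) (tt N31556 (iv F287925)) (tt N31604 F288253) (tt N31238 F287588))
theorem Q31496 : ∀ i, i < 31496 → P i := stepQ 31495 Q31495 (allL N31495 (tt N31235 F287589) (tt N31622 (iv F288341)) (tt N31232 F287590) (tt N31597 (iv F288215)) (tt N31240 F287591) (tt N31604 (iv F288251)) (tt N31238 F287592) (tt N31557 (iv F287932)) (tt N31230 (iv D64265)) (tt N31605 (iv F288259)))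
theorem Q31497 : ∀ i, i < 31497 → P i := stepQ 31496 Q31496 (allL N31496 (tt N31496 F287593) (tt N31237 F287594) (tt N31616 (iv F288311)) (tt N31618 (iv F288325)) (tt N31296 F287595) (tt N31236 (iv D64266)) (tt N31603 (iv F288247)) (tt N31561 (iv F287964)) (tt N31295 (iv F287596)) (tt N31602 (iv F288243)))
theorem Q31498 : ∀ i, i < 31498 → P i := stepQ 31497 Q31497 (allL N31497 (tt N31497 F287597) (tt N31238 F287598) (tt N31617 (iv F288318)) (tt N31613 (iv F288294)) (tt N31243 F287599) (tt N31295 F287600) (tt N31622 (iv F288343)) (tt N31560 (iv F287955)) (tt N31236 (iv D64267)) (tt N31621 (iv F288339)))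
theorem Q31499 : ∀ i, i < 31499 → P i := stepQ 31498 Q31498 (allL N31498 (tt N31498 F287601) (tt N31240 F287602) (tt N31546 (iv F287849)) (tt N31277 F287603) (tt N31622 (iv F288342)) (tt N31293 F287604) (tt N31243 F287605) (tt N31582 (iv F288112)) (tt N31239 (iv D64268)) (tt N31623 D64393))
theorem Q31500 : ∀ i, i < 31500 → P i := stepQ 31499 Q31499 (allL N31499 (tt N31242 F287606) (tt N31623 (iv F288345)) (tt N31241 F287607) (tt N31279 F287608) (tt N31605 (iv F288256)) (tt N31252 F287609) (tt N31245 F287610) (tt N31583 (iv F288117)) (tt N31297 F287611) (tt N31240 (iv D64269)))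
theorem Q31501 : ∀ i, i < 31501 → P i := stepQ 31500 Q31500 (allL N31500 (tt N31500 F287612) (tt N31244 F287613) (tt N31561 (iv F287959)) (tt N31243 (iv D64270)) (tt N31564 (iv F287984)) (tt N31300 F287614) (tt N31277 F287615) (tt N31616 (iv F288314)) (tt N31270 F287616) (tt N31624 D64394))
theorem Q31502 : ∀ i, i < 31502 → P i := stepQ 31501 Q31501 (allL N31501 (tt N31501 F287617) (tt N31245 F287618) (tt N31575 (iv F288063)) (tt N31624 (iv F288352)) (tt N31621 (iv F288338)) (tt N31302 F287619) (tt N31623 (iv F288348)) (tt N31620 (iv F288335)) (tt N31606 (iv F288264)) (tt N31243 (iv D64271)))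
theorem Q31503 : ∀ i, i < 31503 → P i := stepQ 31502 Q31502 (allL N31502 (tt N31246 F287620) (tt N31624 (iv F288351)) (tt N31251 F287621) (tt N31245 F287622) (tt N31565 (iv F287992)) (tt N31256 F287623) (tt N31279 F287624) (tt N31595 (iv F288204)) (tt N31600 (iv F288231)) (tt N31244 (iv D64272)))
theorem Q31504 : ∀ i, i < 31504 → P i := stepQ 31503 Q31503 (allL N31503 (tt N31503 F287625) (tt N31247 (iv D64273)) (tt N31576 (iv F288067)) (tt N31579 (iv F288090)) (tt N31293 F287626) (tt N31606 (iv F288262)) (tt N31248 F287627) (tt N31570 (iv F288032)) (tt N31302 F287628) (tt N31254 F287629))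
theorem Q31505 : ∀ i, i < 31505 → P i := stepQ 31504 Q31504 (allL N31504 (tt N31504 F287630) (tt N31249 F287631) (tt N31313 F287632) (tt N31257 (iv F287638)) (tt N31312 F287633) (tt N31253 F287634) (tt N31302 F287635) (tt N31263 F287636) (tt N31248 (iv D64274)) (tt N31301 F287637))
theorem Q31506 : ∀ i, i < 31506 → P i := stepQ 31505 Q31505 (allL N31505 (tt N31505 F287639) (tt N31252 (iv D64275)) (tt N31578 (iv F288082)) (tt N31294 F287640) (tt N31254 F287641) (tt N31623 (iv F288347)) (tt N31253 F287642) (tt N31593 (iv F288190)) (tt N31592 (iv F288183)) (tt N31293 F287643))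
theorem Q31507 : ∀ i, i < 31507 → P i := stepQ 31506 Q31506 (allL N31506 (tt N31506 F287644) (tt N31256 (iv D64276)) (tt N31598 (iv F288220)) (tt N31302 F287645) (tt N31321 F287646) (tt N31624 (iv F288353)) (tt N31257 F287647) (tt N31594 (iv F288198)) (tt N31609 (iv F288278)) (tt N31300 F287648))
theorem Q31508 : ∀ i, i < 31508 → P i := stepQ 31507 Q31507 (allL N31507 (tt N31507 F287649) (tt N31258 F287650) (tt N31613 (iv F288293)) (tt N31582 (iv F288110)) (tt N31586 (iv F288139)) (tt N31292 F287651) (tt N31609 (iv F288277)) (tt N31277 F287652) (tt N31257 (iv D64277)) (tt N31625 D64395))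
theorem Q31509 : ∀ i, i < 31509 → P i := stepQ 31508 Q31508 (allL N31508 (tt N31260 F287653) (tt N31625 (iv F288356)) (tt N31259 F287654) (tt N31583 (iv F288115)) (tt N31580 (iv F288098)) (tt N31291 F287655) (tt N31608 (iv F288272)) (tt N31279 F287656) (tt N31550 (iv F287882)) (tt N31258 (iv D64278)))
theorem Q31510 : ∀ i, i < 31510 → P i := stepQ 31509 Q31509 (allL N31509 (tt N31509 F287657) (tt N31264 (iv D64279)) (tt N31295 F287658) (tt N31572 F288048) (tt N31282 F287659) (tt N31617 (iv F288320)) (tt N31594 (iv F288197)) (tt N31270 F287660) (tt N31616 F288315) (tt N31539 (iv F287802)))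
theorem Q31511 : ∀ i, i < 31511 → P i := stepQ 31510 Q31510 (allL N31510 (tt N31510 F287661) (tt N31265 (iv D64280)) (tt N31555 (iv F287914)) (tt N31578 (iv F288083)) (tt N31531 (iv F287737)) (tt N31626 D64396) (tt N31272 F287662) (tt N31539 (iv F287801)) (tt N31627 D64397) (tt N31270 F287663))
theorem Q31512 : ∀ i, i < 31512 → P i := stepQ 31511 Q31511 (allL N31511 (tt N31268 F287664) (tt N31626 (iv F288360)) (tt N31266 F287665) (tt N31547 (iv F287855)) (tt N31569 (iv F288023)) (tt N31265 (iv D64281)) (tt N31550 (iv F287880)) (tt N31540 (iv F287807)) (tt N31608 (iv F288273)) (tt N31271 F287666))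
theorem Q31513 : ∀ i, i < 31513 → P i := stepQ 31512 Q31512 (allL N31512 (tt N31269 F287667) (tt N31627 (iv F288363)) (tt N31267 F287668) (tt N31554 (iv F287909)) (tt N31532 (iv F287745)) (tt N31608 (iv F288271)) (tt N31273 F287669) (tt N31541 (iv F287814)) (tt N31265 (iv D64282)) (tt N31600 (iv F288232)))
theorem Q31514 : ∀ i, i < 31514 → P i := stepQ 31513 Q31513 (allL N31513 (tt N31513 F287670) (tt N31271 F287671) (tt N31560 (iv F287951)) (tt N31546 (iv F287850)) (tt N31615 (iv F288306)) (tt N31270 (iv D64283)) (tt N31553 (iv F287904)) (tt N31617 (iv F288321)) (tt N31300 F287672) (tt N31626 (iv F288361)))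
theorem Q31515 : ∀ i, i < 31515 → P i := stepQ 31514 Q31514 (allL N31514 (tt N31514 F287673) (tt N31273 F287674) (tt N31618 (iv F288324)) (tt N31615 (iv F288305)) (tt N31611 (iv F288284)) (tt N31548 (iv F287864)) (tt N31627 (iv F288364)) (tt N31553 (iv F287905)) (tt N31272 (iv D64284)) (tt N31628 D64398))
theorem Q31516 : ∀ i, i < 31516 → P i := stepQ 31515 Q31515 (allL N31515 (tt N31275 F287675) (tt N31628 (iv F288366)) (tt N31274 F287676) (tt N31569 (iv F288022)) (tt N31601 (iv F288236)) (tt N31289 F287677) (tt N31600 F288233) (tt N31550 (iv F287881)) (tt N31279 F287678) (tt N31273 (iv D64285)))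
theorem Q31517 : ∀ i, i < 31517 → P i := stepQ 31516 Q31516 (allL N31516 (tt N31516 F287679) (tt N31278 F287680) (tt N31292 F287681) (tt N31295 F287682) (tt N31276 (iv D64286)) (tt N31613 (iv F288295)) (tt N31533 (iv F287754)) (tt N31281 F287683) (tt N31288 F287684) (tt N31566 (iv F288004)))
theorem Q31518 : ∀ i, i < 31518 → P i := stepQ 31517 Q31517 (allL N31517 (tt N31517 F287685) (tt N31279 F287686) (tt N31573 (iv F288052)) (tt N31623 (iv F288346)) (tt N31614 (iv F288300)) (tt N31294 F287687) (tt N31624 (iv F288354)) (tt N31625 (iv F288358)) (tt N31628 (iv F288368)) (tt N31277 (iv D64287)))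
theorem Q31519 : ∀ i, i < 31519 → P i := stepQ 31518 Q31518 (allL N31518 (tt N31518 F287688) (tt N31283 F287689) (tt N31296 F287690) (tt N31587 (iv F288146)) (tt N31616 (iv F288313)) (tt N31306 F287691) (tt N31588 (iv F288155)) (tt N31564 (iv F287987)) (tt N31282 (iv D64288)) (tt N31629 D64399))
theorem Q31520 : ∀ i, i < 31520 → P i := stepQ 31519 Q31519 (allL N31519 (tt N31285 F287692) (tt N31629 (iv F288370)) (tt N31284 F287693) (tt N31574 (iv F288060)) (tt N31595 (iv F288203)) (tt N31305 F287694) (tt N31577 (iv F288076)) (tt N31565 (iv F287995)) (tt N31547 (iv F287859)) (tt N31283 (iv D64289)))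
theorem Q31521 : ∀ i, i < 31521 → P i := stepQ 31520 Q31520 (allL N31520 (tt N31520 F287695) (tt N31286 (iv D64290)) (tt N31299 F287696) (tt N31548 (iv F287862)) (tt N31307 F287697) (tt N31615 (iv F288307)) (tt N31593 (iv F288189)) (tt N31287 F287698) (tt N31311 F287699) (tt N31568 (iv F288019)))
theorem Q31522 : ∀ i, i < 31522 → P i := stepQ 31521 Q31521 (allL N31521 (tt N31521 F287700) (tt N31289 (iv D64291)) (tt N31533 (iv F287751)) (tt N31568 (iv F288014)) (tt N31319 F287701) (tt N31628 (iv F288367)) (tt N31292 F287702) (tt N31549 (iv F287874)) (tt N31294 F287703) (tt N31548 (iv F287868)))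
theorem Q31523 : ∀ i, i < 31523 → P i := stepQ 31522 Q31522 (allL N31522 (tt N31522 F287704) (tt N31290 (iv D64292)) (tt N31572 (iv F288044)) (tt N31292 F287705) (tt N31570 (iv F288030)) (tt N31582 (iv F288111)) (tt N31568 (iv F288016)) (tt N31293 F287706) (tt N31308 F287707) (tt N31593 (iv F288192)))
theorem Q31524 : ∀ i, i < 31524 → P i := stepQ 31523 Q31523 (allL N31523 (tt N31523 F287708) (tt N31291 (iv D64293)) (tt N31566 (iv F287998)) (tt N31593 (iv F288187)) (tt N31320 F287709) (tt N31625 (iv F288357)) (tt N31548 (iv F287865)) (tt N31294 F287710) (tt N31549 (iv F287875)) (tt N31292 F287711))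
theorem Q31525 : ∀ i, i < 31525 → P i := stepQ 31524 Q31524 (allL N31524 (tt N31524 F287712) (tt N31297 F287713) (tt N31629 (iv F288371)) (tt N31607 (iv F288267)) (tt N31602 (iv F288242)) (tt N31592 (iv F288180)) (tt N31606 (iv F288263)) (tt N31589 (iv F288161)) (tt N31623 (iv F288349)) (tt N31296 (iv D64294)))
theorem Q31526 : ∀ i, i < 31526 → P i := stepQ 31525 Q31525 (allL N31525 (tt N31525 F287714) (tt N31298 (iv D64295)) (tt N31568 (iv F288013)) (tt N31594 (iv F288195)) (tt N31308 F287715) (tt N31620 (iv F288334)) (tt N31572 (iv F288046)) (tt N31302 F287716) (tt N31570 (iv F288033)) (tt N31299 F287717))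
theorem Q31527 : ∀ i, i < 31527 → P i := stepQ 31526 Q31526 (allL N31526 (tt N31526 F287718) (tt N31303 (iv D64296)) (tt N31591 (iv F288169)) (tt N31576 F288072) (tt N31563 (iv F287975)) (tt N31589 (iv F288160)) (tt N31311 F287719) (tt N31592 (iv F288182)) (tt N31593 (iv F288191)) (tt N31304 F287720))
theorem Q31528 : ∀ i, i < 31528 → P i := stepQ 31527 Q31527 (allL N31527 (tt N31527 F287721) (tt N31305 (iv D64297)) (tt N31592 (iv F288177)) (tt N31584 (iv F288122)) (tt N31310 F287722) (tt N31629 (iv F288372)) (tt N31309 F287723) (tt N31591 (iv F288173)) (tt N31578 (iv F288087)) (tt N31306 F287724))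
theorem Q31529 : ∀ i, i < 31529 → P i := stepQ 31528 Q31528 (allL N31528 (tt N31528 F287725) (tt N31315 F287726) (tt N31553 (iv F287902)) (tt N31561 (iv F287960)) (tt N31619 (iv F288330)) (tt N31319 F287727) (tt N31560 (iv F287954)) (tt N31618 (iv F288327)) (tt N31314 (iv D64298)) (tt N31630 D64400))
theorem Q31530 : ∀ i, i < 31530 → P i := stepQ 31529 Q31529 (allL N31529 (tt N31317 F287728) (tt N31630 (iv F288374)) (tt N31316 F287729) (tt N31562 (iv F287967)) (tt N31612 (iv F288287)) (tt N31318 F287730) (tt N31556 (iv F287924)) (tt N31534 (iv F287761)) (tt N31567 (iv F288010)) (tt N31315 (iv D64299)))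
theorem Q31531 : ∀ i, i < 31531 → P i := stepQ 31530 Q31530 (allL N31530 (tt N31530 F287731) (tt N31318 (iv D64300)) (tt N31549 (iv F287870)) (tt N31598 (iv F288221)) (tt N31548 (iv F287863)) (tt N31630 (iv F288375)) (tt N31320 F287732) (tt N31533 (iv F287755)) (tt N31566 (iv F288003)) (tt N31319 F287733))
theorem Q31532 : ∀ i, i < 31532 → P i := stepQ 31531 Q31531 (allL N31531 (tt N31531 F287734) (tt N31322 (iv D64301)) (tt N31404 F287735) (tt N31473 F287736) (tt N31510 F287737) (tt N31386 F287738) (tt N31464 F287739) (tt N31341 F287740) (tt N31631 D64401) (tt N31371 F287741))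
theorem Q31533 : ∀ i, i < 31533 → P i := stepQ 31532 Q31532 (allL N31532 (tt N31324 F287742) (tt N31631 (iv F288377)) (tt N31323 F287743) (tt N31479 F287744) (tt N31512 F287745) (tt N31387 F287746) (tt N31466 F287747) (tt N31342 F287748) (tt N31322 (iv D64302)) (tt N31440 (iv F287749)))
theorem Q31534 : ∀ i, i < 31534 → P i := stepQ 31533 Q31533 (allL N31533 (tt N31533 F287750) (tt N31327 (iv D64303)) (tt N31521 F287751) (tt N31445 F287752) (tt N31352 F287753) (tt N31632 D64402) (tt N31516 F287754) (tt N31530 F287755) (tt N31388 F287756) (tt N31492 F287757))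
theorem Q31535 : ∀ i, i < 31535 → P i := stepQ 31534 Q31534 (allL N31534 (tt N31330 F287758) (tt N31632 (iv F288386)) (tt N31328 F287759) (tt N31446 F287760) (tt N31633 D64403) (tt N31327 (iv D64304)) (tt N31634 D64404) (tt N31529 F287761) (tt N31389 F287762) (tt N31485 F287763))
theorem Q31536 : ∀ i, i < 31536 → P i := stepQ 31535 Q31535 (allL N31535 (tt N31331 F287764) (tt N31442 F287765) (tt N31633 (iv F288393)) (tt N31426 F287766) (tt N31328 (iv D64305)) (tt N31354 F287767) (tt N31406 (iv F287771)) (tt N31467 F287768) (tt N31390 F287769) (tt N31401 F287770))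
theorem Q31537 : ∀ i, i < 31537 → P i := stepQ 31536 Q31536 (allL N31536 (tt N31332 F287772) (tt N31441 F287773) (tt N31634 (iv F288401)) (tt N31329 F287774) (tt N31406 F287775) (tt N31435 F287776) (tt N31328 (iv D64306)) (tt N31449 F287777) (tt N31365 F287778) (tt N31358 F287779))
theorem Q31538 : ∀ i, i < 31538 → P i := stepQ 31537 Q31537 (allL N31537 (tt N31633 (iv F288392)) (tt N31537 F287780) (tt N31331 F287781) (tt N31459 F287782) (tt N31330 (iv D64307)) (tt N31355 F287783) (tt N31407 (iv F287787)) (tt N31468 F287784) (tt N31391 F287785) (tt N31403 F287786))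
theorem Q31539 : ∀ i, i < 31539 → P i := stepQ 31538 Q31538 (allL N31538 (tt N31634 (iv F288400)) (tt N31538 F287788) (tt N31332 F287789) (tt N31450 F287790) (tt N31407 F287791) (tt N31436 F287792) (tt N31330 (iv D64308)) (tt N31451 F287793) (tt N31366 F287794) (tt N31360 F287795))
theorem Q31540 : ∀ i, i < 31540 → P i := stepQ 31539 Q31539 (allL N31539 (tt N31539 F287796) (tt N31333 (iv D64309)) (tt N31493 F287797) (tt N31439 F287798) (tt N31341 F287799) (tt N31635 D64405) (tt N31477 F287800) (tt N31510 F287801) (tt N31636 D64406) (tt N31509 F287802))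
theorem Q31541 : ∀ i, i < 31541 → P i := stepQ 31540 Q31540 (allL N31540 (tt N31337 F287803) (tt N31635 (iv F288409)) (tt N31334 F287804) (tt N31440 F287805) (tt N31393 F287806) (tt N31333 (iv D64310)) (tt N31637 D64407) (tt N31511 F287807) (tt N31638 D64408) (tt N31479 F287808))
theorem Q31542 : ∀ i, i < 31542 → P i := stepQ 31541 Q31541 (allL N31541 (tt N31338 F287809) (tt N31636 (iv F288416)) (tt N31335 F287810) (tt N31466 F287811) (tt N31342 F287812) (tt N31638 (iv F288434)) (tt N31479 F287813) (tt N31512 F287814) (tt N31333 (iv D64311)) (tt N31637 (iv F288428)))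
theorem Q31543 : ∀ i, i < 31543 → P i := stepQ 31542 Q31542 (allL N31542 (tt N31339 F287815) (tt N31449 F287816) (tt N31637 (iv F288423)) (tt N31336 F287817) (tt N31343 F287818) (tt N31429 F287819) (tt N31334 (iv D64312)) (tt N31441 F287820) (tt N31428 (iv F287822)) (tt N31335 F287821))
theorem Q31544 : ∀ i, i < 31544 → P i := stepQ 31543 Q31543 (allL N31543 (tt N31340 F287823) (tt N31448 F287824) (tt N31638 (iv F288431)) (tt N31430 F287825) (tt N31395 F287826) (tt N31335 F287827) (tt N31428 F287828) (tt N31458 F287829) (tt N31334 (iv D64313)) (tt N31429 F287830))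
theorem Q31545 : ∀ i, i < 31545 → P i := stepQ 31544 Q31544 (allL N31544 (tt N31637 (iv F288422)) (tt N31544 F287831) (tt N31339 F287832) (tt N31444 F287833) (tt N31344 F287834) (tt N31420 F287835) (tt N31337 (iv D64314)) (tt N31443 F287836) (tt N31431 (iv F287838)) (tt N31338 F287837))
theorem Q31546 : ∀ i, i < 31546 → P i := stepQ 31545 Q31545 (allL N31545 (tt N31638 (iv F288430)) (tt N31545 F287839) (tt N31340 F287840) (tt N31468 F287841) (tt N31396 F287842) (tt N31338 F287843) (tt N31431 F287844) (tt N31459 F287845) (tt N31337 (iv D64315)) (tt N31420 F287846))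
theorem Q31547 : ∀ i, i < 31547 → P i := stepQ 31546 Q31546 (allL N31546 (tt N31546 F287847) (tt N31342 F287848) (tt N31498 F287849) (tt N31513 F287850) (tt N31636 (iv F288419)) (tt N31397 F287851) (tt N31480 F287852) (tt N31631 (iv F288383)) (tt N31341 (iv D64316)) (tt N31639 D64409))
theorem Q31548 : ∀ i, i < 31548 → P i := stepQ 31547 Q31547 (allL N31547 (tt N31344 F287853) (tt N31639 (iv F288439)) (tt N31343 F287854) (tt N31511 F287855) (tt N31637 (iv F288425)) (tt N31398 F287856) (tt N31393 F287857) (tt N31440 F287858) (tt N31519 F287859) (tt N31342 (iv D64317)))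
theorem Q31549 : ∀ i, i < 31549 → P i := stepQ 31548 Q31548 (allL N31548 (tt N31548 F287860) (tt N31345 (iv D64318)) (tt N31492 F287861) (tt N31520 F287862) (tt N31530 F287863) (tt N31514 F287864) (tt N31523 F287865) (tt N31352 F287866) (tt N31408 F287867) (tt N31521 F287868))
theorem Q31550 : ∀ i, i < 31550 → P i := stepQ 31549 Q31549 (allL N31549 (tt N31549 F287869) (tt N31348 (iv D64319)) (tt N31530 F287870) (tt N31392 F287871) (tt N31492 F287872) (tt N31640 D64410) (tt N31408 F287873) (tt N31521 F287874) (tt N31523 F287875) (tt N31352 F287876))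
theorem Q31551 : ∀ i, i < 31551 → P i := stepQ 31550 Q31550 (allL N31550 (tt N31350 F287877) (tt N31640 (iv F288447)) (tt N31349 F287878) (tt N31393 F287879) (tt N31641 D64411) (tt N31348 (iv D64320)) (tt N31511 F287880) (tt N31515 F287881) (tt N31508 F287882) (tt N31353 F287883))
theorem Q31552 : ∀ i, i < 31552 → P i := stepQ 31551 Q31551 (allL N31551 (tt N31351 F287884) (tt N31467 F287885) (tt N31641 (iv F288455)) (tt N31381 F287886) (tt N31349 (iv D64321)) (tt N31401 F287887) (tt N31380 F287888) (tt N31442 F287889) (tt N31400 F287890) (tt N31354 F287891))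
theorem Q31553 : ∀ i, i < 31553 → P i := stepQ 31552 Q31552 (allL N31552 (tt N31641 (iv F288454)) (tt N31552 F287892) (tt N31351 F287893) (tt N31443 F287894) (tt N31350 (iv D64322)) (tt N31403 F287895) (tt N31382 F287896) (tt N31444 F287897) (tt N31402 F287898) (tt N31355 F287899))
theorem Q31554 : ∀ i, i < 31554 → P i := stepQ 31553 Q31553 (allL N31553 (tt N31553 F287900) (tt N31353 F287901) (tt N31528 F287902) (tt N31480 F287903) (tt N31642 D64412) (tt N31352 (iv D64323)) (tt N31513 F287904) (tt N31514 F287905) (tt N31411 F287906) (tt N31640 (iv F288453)))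
theorem Q31555 : ∀ i, i < 31555 → P i := stepQ 31554 Q31554 (allL N31554 (tt N31355 F287907) (tt N31642 (iv F288463)) (tt N31354 F287908) (tt N31512 F287909) (tt N31353 (iv D64324)) (tt N31633 (iv F288395)) (tt N31476 F287910) (tt N31466 F287911) (tt N31412 F287912) (tt N31641 (iv F288461)))
theorem Q31556 : ∀ i, i < 31556 → P i := stepQ 31555 Q31555 (allL N31555 (tt N31555 F287913) (tt N31356 (iv D64325)) (tt N31510 F287914) (tt N31388 F287915) (tt N31404 F287916) (tt N31643 D64413) (tt N31484 F287917) (tt N31493 F287918) (tt N31644 D64414) (tt N31362 F287919))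
theorem Q31557 : ∀ i, i < 31557 → P i := stepQ 31556 Q31556 (allL N31556 (tt N31359 F287920) (tt N31643 (iv F288470)) (tt N31357 F287921) (tt N31389 F287922) (tt N31491 F287923) (tt N31356 (iv D64326)) (tt N31529 F287924) (tt N31494 F287925) (tt N31645 D64415) (tt N31363 F287926))
theorem Q31558 : ∀ i, i < 31558 → P i := stepQ 31557 Q31557 (allL N31557 (tt N31360 F287927) (tt N31644 (iv F288478)) (tt N31358 F287928) (tt N31447 F287929) (tt N31405 F287930) (tt N31645 (iv F288488)) (tt N31485 F287931) (tt N31495 F287932) (tt N31356 (iv D64327)) (tt N31634 (iv F288407)))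
theorem Q31559 : ∀ i, i < 31559 → P i := stepQ 31558 Q31558 (allL N31558 (tt N31361 F287933) (tt N31458 F287934) (tt N31645 (iv F288485)) (tt N31377 F287935) (tt N31384 F287936) (tt N31358 F287937) (tt N31376 F287938) (tt N31448 F287939) (tt N31357 (iv D64328)) (tt N31435 F287940))
theorem Q31560 : ∀ i, i < 31560 → P i := stepQ 31559 Q31559 (allL N31559 (tt N31645 (iv F288484)) (tt N31559 F287941) (tt N31361 F287942) (tt N31451 F287943) (tt N31385 F287944) (tt N31360 F287945) (tt N31378 F287946) (tt N31450 F287947) (tt N31359 (iv D64329)) (tt N31436 F287948))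
theorem Q31561 : ∀ i, i < 31561 → P i := stepQ 31560 Q31560 (allL N31560 (tt N31560 F287949) (tt N31363 F287950) (tt N31513 F287951) (tt N31486 F287952) (tt N31490 F287953) (tt N31362 (iv D64330)) (tt N31528 F287954) (tt N31497 F287955) (tt N31487 (iv F287956)) (tt N31643 (iv F288476)))
theorem Q31562 : ∀ i, i < 31562 → P i := stepQ 31561 Q31561 (allL N31561 (tt N31561 F287957) (tt N31364 F287958) (tt N31500 F287959) (tt N31528 F287960) (tt N31417 F287961) (tt N31487 F287962) (tt N31486 F287963) (tt N31496 F287964) (tt N31362 (iv D64331)) (tt N31646 D64416))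
theorem Q31563 : ∀ i, i < 31563 → P i := stepQ 31562 Q31562 (allL N31562 (tt N31366 F287965) (tt N31646 (iv F288493)) (tt N31365 F287966) (tt N31529 F287967) (tt N31419 F287968) (tt N31437 F287969) (tt N31389 F287970) (tt N31446 F287971) (tt N31634 (iv F288406)) (tt N31364 (iv D64332)))
theorem Q31564 : ∀ i, i < 31564 → P i := stepQ 31563 Q31563 (allL N31563 (tt N31563 F287972) (tt N31367 (iv D64333)) (tt N31424 F287973) (tt N31371 F287974) (tt N31526 F287975) (tt N31438 F287976) (tt N31463 F287977) (tt N31423 F287978) (tt N31433 F287979) (tt N31473 F287980))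
theorem Q31565 : ∀ i, i < 31565 → P i := stepQ 31564 Q31564 (allL N31564 (tt N31564 F287981) (tt N31372 F287982) (tt N31417 F287983) (tt N31469 F287988) (tt N31500 F287984) (tt N31463 F287985) (tt N31470 F287986) (tt N31518 F287987) (tt N31371 (iv D64334)) (tt N31647 D64417))
theorem Q31566 : ∀ i, i < 31566 → P i := stepQ 31565 Q31565 (allL N31565 (tt N31374 F287989) (tt N31647 (iv F288501)) (tt N31373 F287990) (tt N31465 F287991) (tt N31502 F287992) (tt N31421 F287993) (tt N31472 F287994) (tt N31519 F287995) (tt N31440 F287996) (tt N31372 (iv D64335)))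
theorem Q31567 : ∀ i, i < 31567 → P i := stepQ 31566 Q31566 (allL N31566 (tt N31566 F287997) (tt N31375 (iv D64336)) (tt N31523 F287998) (tt N31493 F287999) (tt N31408 F288000) (tt N31648 D64418) (tt N31492 F288001) (tt N31388 F288002) (tt N31530 F288003) (tt N31516 F288004))
theorem Q31568 : ∀ i, i < 31568 → P i := stepQ 31567 Q31567 (allL N31567 (tt N31378 F288005) (tt N31648 (iv F288510)) (tt N31376 F288006) (tt N31494 F288007) (tt N31465 F288008) (tt N31375 (iv D64337)) (tt N31645 (iv F288489)) (tt N31389 F288009) (tt N31529 F288010) (tt N31471 F288011))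
theorem Q31569 : ∀ i, i < 31569 → P i := stepQ 31568 Q31568 (allL N31568 (tt N31568 F288012) (tt N31379 (iv D64338)) (tt N31525 F288013) (tt N31521 F288014) (tt N31386 F288015) (tt N31649 D64419) (tt N31522 F288016) (tt N31392 F288017) (tt N31456 F288018) (tt N31520 F288019))
theorem Q31570 : ∀ i, i < 31570 → P i := stepQ 31569 Q31569 (allL N31569 (tt N31382 F288020) (tt N31649 (iv F288518)) (tt N31380 F288021) (tt N31515 F288022) (tt N31511 F288023) (tt N31379 (iv D64339)) (tt N31641 (iv F288458)) (tt N31393 F288024) (tt N31457 F288025) (tt N31476 F288026))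
theorem Q31571 : ∀ i, i < 31571 → P i := stepQ 31570 Q31570 (allL N31570 (tt N31570 F288027) (tt N31383 (iv D64340)) (tt N31456 F288028) (tt N31488 F288029) (tt N31522 F288030) (tt N31650 D64420) (tt N31386 F288031) (tt N31503 F288032) (tt N31525 F288033) (tt N31433 F288034))
theorem Q31572 : ∀ i, i < 31572 → P i := stepQ 31571 Q31571 (allL N31571 (tt N31385 F288035) (tt N31650 (iv F288526)) (tt N31384 F288036) (tt N31472 F288037) (tt N31645 (iv F288487)) (tt N31383 (iv D64341)) (tt N31465 F288038) (tt N31453 F288039) (tt N31491 F288040) (tt N31434 F288041))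
theorem Q31573 : ∀ i, i < 31573 → P i := stepQ 31572 Q31572 (allL N31572 (tt N31572 F288042) (tt N31387 F288043) (tt N31522 F288044) (tt N31509 (iv F288048)) (tt N31456 F288045) (tt N31631 (iv F288381)) (tt N31525 F288046) (tt N31397 F288047) (tt N31386 (iv D64342)) (tt N31439 F288049))
theorem Q31574 : ∀ i, i < 31574 → P i := stepQ 31573 Q31573 (allL N31573 (tt N31573 F288050) (tt N31389 F288051) (tt N31517 F288052) (tt N31643 (iv F288472)) (tt N31651 D64421) (tt N31388 (iv D64343)) (tt N31646 (iv F288498)) (tt N31648 (iv F288514)) (tt N31632 (iv F288390)) (tt N31486 F288053))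
theorem Q31575 : ∀ i, i < 31575 → P i := stepQ 31574 Q31574 (allL N31574 (tt N31391 F288054) (tt N31651 (iv F288534)) (tt N31390 F288055) (tt N31519 F288060) (tt N31389 (iv D64344)) (tt N31412 F288056) (tt N31419 F288057) (tt N31465 F288058) (tt N31633 (iv F288397)) (tt N31416 F288059))
theorem Q31576 : ∀ i, i < 31576 → P i := stepQ 31575 Q31575 (allL N31575 (tt N31575 F288061) (tt N31393 F288062) (tt N31501 F288063) (tt N31640 (iv F288449)) (tt N31635 (iv F288412)) (tt N31392 (iv D64345)) (tt N31639 (iv F288443)) (tt N31649 (iv F288522)) (tt N31652 D64422) (tt N31480 F288064))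
theorem Q31577 : ∀ i, i < 31577 → P i := stepQ 31576 Q31576 (allL N31576 (tt N31576 F288065) (tt N31394 F288066) (tt N31503 F288067) (tt N31526 (iv F288072)) (tt N31397 F288068) (tt N31652 (iv F288544)) (tt N31481 F288069) (tt N31456 F288070) (tt N31392 (iv D64346)) (tt N31454 F288071))
theorem Q31578 : ∀ i, i < 31578 → P i := stepQ 31577 Q31577 (allL N31577 (tt N31396 F288073) (tt N31652 (iv F288542)) (tt N31395 F288074) (tt N31419 (iv F288079)) (tt N31638 (iv F288433)) (tt N31394 F288075) (tt N31519 F288076) (tt N31457 F288077) (tt N31393 (iv D64347)) (tt N31418 F288078))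
theorem Q31579 : ∀ i, i < 31579 → P i := stepQ 31578 Q31578 (allL N31578 (tt N31578 F288080) (tt N31398 F288081) (tt N31505 F288082) (tt N31510 F288083) (tt N31454 F288084) (tt N31639 (iv F288442)) (tt N31482 F288085) (tt N31439 F288086) (tt N31527 F288087) (tt N31397 (iv D64348)))
theorem Q31580 : ∀ i, i < 31580 → P i := stepQ 31579 Q31579 (allL N31579 (tt N31579 F288088) (tt N31399 (iv D64349)) (tt N31464 F288089) (tt N31503 F288090) (tt N31484 F288091) (tt N31653 D64423) (tt N31404 F288092) (tt N31488 F288093) (tt N31654 D64424) (tt N31414 F288094))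
theorem Q31581 : ∀ i, i < 31581 → P i := stepQ 31580 Q31580 (allL N31580 (tt N31402 F288095) (tt N31653 (iv F288550)) (tt N31400 F288096) (tt N31453 F288097) (tt N31508 F288098) (tt N31399 (iv D64350)) (tt N31457 F288099) (tt N31472 F288100) (tt N31641 (iv F288460)) (tt N31415 F288101))
theorem Q31582 : ∀ i, i < 31582 → P i := stepQ 31581 Q31581 (allL N31581 (tt N31403 F288102) (tt N31654 (iv F288558)) (tt N31401 F288103) (tt N31461 F288104) (tt N31485 F288105) (tt N31641 (iv F288457)) (tt N31405 F288106) (tt N31489 F288107) (tt N31399 (iv D64351)) (tt N31633 (iv F288398)))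
theorem Q31583 : ∀ i, i < 31583 → P i := stepQ 31582 Q31582 (allL N31582 (tt N31582 F288108) (tt N31405 F288109) (tt N31631 (iv F288378)) (tt N31507 F288110) (tt N31644 (iv F288481)) (tt N31522 F288111) (tt N31654 (iv F288562)) (tt N31498 F288112) (tt N31404 (iv D64352)) (tt N31655 D64425))
theorem Q31584 : ∀ i, i < 31584 → P i := stepQ 31583 Q31583 (allL N31583 (tt N31407 F288113) (tt N31655 (iv F288565)) (tt N31406 F288114) (tt N31508 F288115) (tt N31634 (iv F288403)) (tt N31425 F288116) (tt N31633 F288399) (tt N31499 F288117) (tt N31419 F288118) (tt N31405 (iv D64353)))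
theorem Q31585 : ∀ i, i < 31585 → P i := stepQ 31584 Q31584 (allL N31584 (tt N31584 F288119) (tt N31412 F288120) (tt N31488 F288121) (tt N31527 F288122) (tt N31411 (iv D64354)) (tt N31651 (iv F288536)) (tt N31475 F288123) (tt N31464 F288124) (tt N31642 (iv F288468)) (tt N31462 F288125))
theorem Q31586 : ∀ i, i < 31586 → P i := stepQ 31585 Q31585 (allL N31585 (tt N31585 F288126) (tt N31413 (iv D64355)) (tt N31462 F288127) (tt N31433 F288128) (tt N31483 F288129) (tt N31470 F288130) (tt N31438 F288131) (tt N31414 F288132) (tt N31469 F288133) (tt N31488 F288134))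
theorem Q31587 : ∀ i, i < 31587 → P i := stepQ 31586 Q31586 (allL N31586 (tt N31586 F288135) (tt N31415 F288136) (tt N31469 F288137) (tt N31452 F288138) (tt N31507 F288139) (tt N31414 (iv D64356)) (tt N31460 F288140) (tt N31470 F288141) (tt N31462 (iv F288142)) (tt N31653 (iv F288556)))
theorem Q31588 : ∀ i, i < 31588 → P i := stepQ 31587 Q31587 (allL N31587 (tt N31587 F288143) (tt N31416 F288144) (tt N31470 F288145) (tt N31518 F288146) (tt N31486 F288147) (tt N31462 F288148) (tt N31417 F288149) (tt N31469 F288150) (tt N31414 (iv D64357)) (tt N31651 (iv F288539)))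
theorem Q31589 : ∀ i, i < 31589 → P i := stepQ 31588 Q31588 (allL N31588 (tt N31588 F288151) (tt N31418 F288152) (tt N31452 F288153) (tt N31417 (iv D64358)) (tt N31656 D64426) (tt N31454 F288154) (tt N31518 F288155) (tt N31460 F288156) (tt N31432 F288157) (tt N31652 (iv F288547)))
theorem Q31590 : ∀ i, i < 31590 → P i := stepQ 31589 Q31589 (allL N31589 (tt N31589 F288158) (tt N31419 F288159) (tt N31647 (iv F288502)) (tt N31652 (iv F288548)) (tt N31646 (iv F288496)) (tt N31526 F288160) (tt N31651 (iv F288537)) (tt N31524 F288161) (tt N31655 (iv F288570)) (tt N31417 (iv D64359)))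
theorem Q31591 : ∀ i, i < 31591 → P i := stepQ 31590 Q31590 (allL N31590 (tt N31420 F288162) (tt N31656 (iv F288572)) (tt N31429 F288163) (tt N31489 F288164) (tt N31418 (iv D64360)) (tt N31637 (iv F288426)) (tt N31478 F288165) (tt N31461 F288166) (tt N31427 F288167) (tt N31638 (iv F288437)))
theorem Q31592 : ∀ i, i < 31592 → P i := stepQ 31591 Q31591 (allL N31591 (tt N31591 F288168) (tt N31421 (iv D64361)) (tt N31526 F288169) (tt N31464 F288170) (tt N31424 F288171) (tt N31647 (iv F288505)) (tt N31473 F288172) (tt N31527 F288173) (tt N31439 F288174) (tt N31463 F288175))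
theorem Q31593 : ∀ i, i < 31593 → P i := stepQ 31592 Q31592 (allL N31592 (tt N31592 F288176) (tt N31422 (iv D64362)) (tt N31527 F288177) (tt N31456 F288178) (tt N31423 F288179) (tt N31524 F288180) (tt N31474 F288181) (tt N31526 F288182) (tt N31505 F288183) (tt N31455 F288184))
theorem Q31594 : ∀ i, i < 31594 → P i := stepQ 31593 Q31593 (allL N31593 (tt N31593 F288185) (tt N31425 (iv D64363)) (tt N31439 F288186) (tt N31523 F288187) (tt N31433 F288188) (tt N31655 (iv F288568)) (tt N31520 F288189) (tt N31505 F288190) (tt N31526 F288191) (tt N31522 F288192))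
theorem Q31595 : ∀ i, i < 31595 → P i := stepQ 31594 Q31594 (allL N31594 (tt N31594 F288193) (tt N31427 (iv D64364)) (tt N31445 F288194) (tt N31525 F288195) (tt N31432 F288196) (tt N31657 D64427) (tt N31509 F288197) (tt N31506 F288198) (tt N31656 (iv F288577)) (tt N31477 F288199))
theorem Q31596 : ∀ i, i < 31596 → P i := stepQ 31595 Q31595 (allL N31595 (tt N31431 F288200) (tt N31657 (iv F288579)) (tt N31428 F288201) (tt N31491 F288202) (tt N31519 F288203) (tt N31427 (iv D64365)) (tt N31638 (iv F288435)) (tt N31502 F288204) (tt N31637 F288429) (tt N31478 F288205))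
theorem Q31597 : ∀ i, i < 31597 → P i := stepQ 31596 Q31596 (allL N31596 (tt N31596 F288206) (tt N31434 F288207) (tt N31460 F288208) (tt N31470 F288209) (tt N31658 D64428) (tt N31433 (iv D64366)) (tt N31469 F288210) (tt N31452 F288211) (tt N31438 F288212) (tt N31650 (iv F288532)))
theorem Q31598 : ∀ i, i < 31598 → P i := stepQ 31597 Q31597 (allL N31597 (tt N31436 F288213) (tt N31658 (iv F288586)) (tt N31435 F288214) (tt N31495 F288215) (tt N31434 (iv D64367)) (tt N31634 (iv F288404)) (tt N31471 F288216) (tt N31447 F288217) (tt N31437 F288218) (tt N31645 (iv F288491)))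
theorem Q31599 : ∀ i, i < 31599 → P i := stepQ 31598 Q31598 (allL N31598 (tt N31598 F288219) (tt N31437 (iv D64368)) (tt N31506 F288220) (tt N31530 F288221) (tt N31438 F288222) (tt N31646 (iv F288497)) (tt N31483 F288223) (tt N31445 F288224) (tt N31658 (iv F288591)) (tt N31487 F288225))
theorem Q31600 : ∀ i, i < 31600 → P i := stepQ 31599 Q31599 (allL N31599 (tt N31599 F288226) (tt N31440 F288227) (tt N31655 (iv F288566)) (tt N31635 (iv F288411)) (tt N31659 D64429) (tt N31439 (iv D64369)) (tt N31660 D64430) (tt N31639 (iv F288444)) (tt N31647 (iv F288508)) (tt N31631 F288384))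
theorem Q31601 : ∀ i, i < 31601 → P i := stepQ 31600 Q31600 (allL N31600 (tt N31443 F288228) (tt N31659 (iv F288593)) (tt N31441 F288229) (tt N31641 (iv F288456)) (tt N31440 (iv D64370)) (tt N31461 F288230) (tt N31515 (iv F288233)) (tt N31637 (iv F288427)) (tt N31502 F288231) (tt N31512 F288232))
theorem Q31602 : ∀ i, i < 31602 → P i := stepQ 31601 Q31601 (allL N31601 (tt N31444 F288234) (tt N31660 (iv F288599)) (tt N31442 F288235) (tt N31637 (iv F288424)) (tt N31515 F288236) (tt N31489 F288237) (tt N31440 (iv D64371)) (tt N31641 (iv F288459)) (tt N31472 F288238) (tt N31466 F288239))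
theorem Q31603 : ∀ i, i < 31603 → P i := stepQ 31602 Q31602 (allL N31602 (tt N31602 F288240) (tt N31446 F288241) (tt N31657 (iv F288580)) (tt N31632 (iv F288388)) (tt N31524 F288242) (tt N31445 (iv D64372)) (tt N31661 D64431) (tt N31646 (iv F288499)) (tt N31662 D64432) (tt N31496 F288243))
theorem Q31604 : ∀ i, i < 31604 → P i := stepQ 31603 Q31603 (allL N31603 (tt N31603 F288244) (tt N31447 F288245) (tt N31656 (iv F288573)) (tt N31644 (iv F288480)) (tt N31452 F288246) (tt N31662 (iv F288613)) (tt N31496 F288247) (tt N31658 (iv F288590)) (tt N31445 (iv D64373)) (tt N31661 (iv F288608)))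
theorem Q31605 : ∀ i, i < 31605 → P i := stepQ 31604 Q31604 (allL N31604 (tt N31450 F288248) (tt N31661 (iv F288605)) (tt N31448 F288249) (tt N31634 (iv F288402)) (tt N31453 F288250) (tt N31495 F288251) (tt N31446 (iv D64374)) (tt N31645 (iv F288490)) (tt N31494 (iv F288253)) (tt N31447 F288252))
theorem Q31606 : ∀ i, i < 31606 → P i := stepQ 31605 Q31605 (allL N31605 (tt N31451 F288254) (tt N31662 (iv F288611)) (tt N31449 F288255) (tt N31645 (iv F288486)) (tt N31499 F288256) (tt N31447 F288257) (tt N31494 F288258) (tt N31634 (iv F288405)) (tt N31446 (iv D64375)) (tt N31495 F288259))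
theorem Q31607 : ∀ i, i < 31607 → P i := stepQ 31606 Q31606 (allL N31606 (tt N31606 F288260) (tt N31453 F288261) (tt N31652 (iv F288543)) (tt N31653 (iv F288552)) (tt N31661 (iv F288606)) (tt N31503 F288262) (tt N31524 F288263) (tt N31650 (iv F288530)) (tt N31501 F288264) (tt N31452 (iv D64376)))
theorem Q31608 : ∀ i, i < 31608 → P i := stepQ 31607 Q31607 (allL N31607 (tt N31607 F288265) (tt N31457 F288266) (tt N31650 (iv F288527)) (tt N31524 F288267) (tt N31663 D64433) (tt N31456 (iv D64377)) (tt N31653 (iv F288554)) (tt N31652 (iv F288546)) (tt N31649 (iv F288523)) (tt N31460 F288268))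
theorem Q31609 : ∀ i, i < 31609 → P i := stepQ 31608 Q31608 (allL N31608 (tt N31459 F288269) (tt N31663 (iv F288617)) (tt N31458 F288270) (tt N31633 (iv F288394)) (tt N31457 (iv D64378)) (tt N31512 F288271) (tt N31508 F288272) (tt N31638 (iv F288436)) (tt N31511 F288273) (tt N31461 F288274))
theorem Q31610 : ∀ i, i < 31610 → P i := stepQ 31609 Q31609 (allL N31609 (tt N31609 F288275) (tt N31461 F288276) (tt N31658 (iv F288587)) (tt N31654 (iv F288560)) (tt N31460 (iv D64379)) (tt N31659 (iv F288594)) (tt N31507 F288277) (tt N31656 (iv F288576)) (tt N31506 F288278) (tt N31663 (iv F288621)))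
theorem Q31611 : ∀ i, i < 31611 → P i := stepQ 31610 Q31610 (allL N31610 (tt N31610 F288279) (tt N31465 F288280) (tt N31653 (iv F288551)) (tt N31647 (iv F288503)) (tt N31648 (iv F288513)) (tt N31464 (iv D64380)) (tt N31650 (iv F288529)) (tt N31651 (iv F288538)) (tt N31664 D64434) (tt N31469 F288281))
theorem Q31612 : ∀ i, i < 31612 → P i := stepQ 31611 Q31611 (allL N31611 (tt N31611 F288282) (tt N31466 F288283) (tt N31654 (iv F288559)) (tt N31636 (iv F288418)) (tt N31514 F288284) (tt N31664 (iv F288625)) (tt N31631 (iv F288382)) (tt N31642 (iv F288467)) (tt N31464 (iv D64381)) (tt N31660 (iv F288603)))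
theorem Q31613 : ∀ i, i < 31613 → P i := stepQ 31612 Q31612 (allL N31612 (tt N31468 F288285) (tt N31664 (iv F288623)) (tt N31467 F288286) (tt N31638 (iv F288432)) (tt N31529 F288287) (tt N31466 F288288) (tt N31491 F288289) (tt N31633 (iv F288396)) (tt N31465 (iv D64382)) (tt N31489 F288290))
theorem Q31614 : ∀ i, i < 31614 → P i := stepQ 31613 Q31613 (allL N31613 (tt N31613 F288291) (tt N31471 F288292) (tt N31507 F288293) (tt N31497 F288294) (tt N31469 (iv D64383)) (tt N31516 F288295) (tt N31658 (iv F288589)) (tt N31486 F288296) (tt N31483 F288297) (tt N31648 (iv F288516)))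
theorem Q31615 : ∀ i, i < 31615 → P i := stepQ 31614 Q31614 (allL N31614 (tt N31614 F288298) (tt N31472 F288299) (tt N31651 (iv F288535)) (tt N31650 (iv F288528)) (tt N31517 F288300) (tt N31488 F288301) (tt N31647 (iv F288506)) (tt N31653 (iv F288555)) (tt N31660 (iv F288602)) (tt N31470 (iv D64384)))
theorem Q31616 : ∀ i, i < 31616 → P i := stepQ 31615 Q31615 (allL N31615 (tt N31615 F288302) (tt N31476 F288303) (tt N31490 F288304) (tt N31514 F288305) (tt N31513 F288306) (tt N31520 F288307) (tt N31642 (iv F288466)) (tt N31480 F288308) (tt N31475 (iv D64385)) (tt N31649 (iv F288524)))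
theorem Q31617 : ∀ i, i < 31617 → P i := stepQ 31616 Q31616 (allL N31616 (tt N31616 F288309) (tt N31478 F288310) (tt N31496 F288311) (tt N31490 F288312) (tt N31518 F288313) (tt N31477 (iv D64386)) (tt N31656 (iv F288575)) (tt N31500 F288314) (tt N31509 (iv F288315)) (tt N31657 (iv F288584)))
theorem Q31618 : ∀ i, i < 31618 → P i := stepQ 31617 Q31617 (allL N31617 (tt N31617 F288316) (tt N31479 F288317) (tt N31497 F288318) (tt N31631 (iv F288379)) (tt N31480 F288319) (tt N31509 F288320) (tt N31636 (iv F288420)) (tt N31513 F288321) (tt N31477 (iv D64387)) (tt N31635 (iv F288414)))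
theorem Q31619 : ∀ i, i < 31619 → P i := stepQ 31618 Q31618 (allL N31618 (tt N31618 F288322) (tt N31485 F288323) (tt N31514 F288324) (tt N31496 F288325) (tt N31654 (iv F288561)) (tt N31492 F288326) (tt N31644 (iv F288482)) (tt N31528 F288327) (tt N31484 (iv D64388)) (tt N31632 (iv F288391)))
theorem Q31620 : ∀ i, i < 31620 → P i := stepQ 31619 Q31619 (allL N31619 (tt N31619 F288328) (tt N31489 F288329) (tt N31642 (iv F288464)) (tt N31656 (iv F288574)) (tt N31528 F288330) (tt N31660 (iv F288601)) (tt N31490 F288331) (tt N31654 (iv F288563)) (tt N31488 (iv D64389)) (tt N31664 (iv F288627)))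
theorem Q31621 : ∀ i, i < 31621 → P i := stepQ 31620 Q31620 (allL N31620 (tt N31620 F288332) (tt N31491 F288333) (tt N31649 (iv F288519)) (tt N31657 (iv F288581)) (tt N31643 (iv F288473)) (tt N31525 F288334) (tt N31664 (iv F288626)) (tt N31501 F288335) (tt N31650 (iv F288531)) (tt N31490 (iv D64390)))
theorem Q31622 : ∀ i, i < 31622 → P i := stepQ 31621 Q31621 (allL N31621 (tt N31621 F288336) (tt N31494 F288337) (tt N31635 (iv F288410)) (tt N31648 (iv F288512)) (tt N31501 F288338) (tt N31493 (iv D64391)) (tt N31662 (iv F288614)) (tt N31643 (iv F288475)) (tt N31661 F288609) (tt N31497 F288339))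
theorem Q31623 : ∀ i, i < 31623 → P i := stepQ 31622 Q31622 (allL N31622 (tt N31622 F288340) (tt N31495 F288341) (tt N31636 (iv F288417)) (tt N31658 (iv F288588)) (tt N31498 F288342) (tt N31661 (iv F288607)) (tt N31497 F288343) (tt N31644 (iv F288483)) (tt N31493 (iv D64392)) (tt N31662 (iv F288615)))
theorem Q31624 : ∀ i, i < 31624 → P i := stepQ 31623 Q31623 (allL N31623 (tt N31623 F288344) (tt N31499 F288345) (tt N31639 (iv F288440)) (tt N31517 F288346) (tt N31662 (iv F288612)) (tt N31505 F288347) (tt N31501 F288348) (tt N31655 (iv F288569)) (tt N31524 F288349) (tt N31498 (iv D64393)))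
theorem Q31625 : ∀ i, i < 31625 → P i := stepQ 31624 Q31624 (allL N31624 (tt N31624 F288350) (tt N31502 F288351) (tt N31646 (iv F288494)) (tt N31501 F288352) (tt N31647 (iv F288504)) (tt N31506 F288353) (tt N31517 F288354) (tt N31657 (iv F288583)) (tt N31659 (iv F288595)) (tt N31500 (iv D64394)))
theorem Q31626 : ∀ i, i < 31626 → P i := stepQ 31625 Q31625 (allL N31625 (tt N31625 F288355) (tt N31508 F288356) (tt N31648 (iv F288511)) (tt N31655 (iv F288567)) (tt N31653 (iv F288553)) (tt N31523 F288357) (tt N31663 (iv F288619)) (tt N31517 F288358) (tt N31640 (iv F288452)) (tt N31507 (iv D64395)))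
theorem Q31627 : ∀ i, i < 31627 → P i := stepQ 31626 Q31626 (allL N31626 (tt N31626 F288359) (tt N31511 F288360) (tt N31643 (iv F288471)) (tt N31639 (iv F288441)) (tt N31649 (iv F288521)) (tt N31510 (iv D64396)) (tt N31640 (iv F288450)) (tt N31635 (iv F288413)) (tt N31663 (iv F288620)) (tt N31513 F288361))
theorem Q31628 : ∀ i, i < 31628 → P i := stepQ 31627 Q31627 (allL N31627 (tt N31627 F288362) (tt N31512 F288363) (tt N31644 (iv F288479)) (tt N31642 (iv F288465)) (tt N31631 (iv F288380)) (tt N31663 (iv F288618)) (tt N31514 F288364) (tt N31636 (iv F288421)) (tt N31510 (iv D64397)) (tt N31659 (iv F288596)))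
theorem Q31629 : ∀ i, i < 31629 → P i := stepQ 31628 Q31628 (allL N31628 (tt N31628 F288365) (tt N31515 F288366) (tt N31632 (iv F288387)) (tt N31649 (iv F288520)) (tt N31660 (iv F288600)) (tt N31521 F288367) (tt N31659 F288597) (tt N31640 (iv F288451)) (tt N31517 F288368) (tt N31514 (iv D64398)))
theorem Q31630 : ∀ i, i < 31630 → P i := stepQ 31629 Q31629 (allL N31629 (tt N31629 F288369) (tt N31519 F288370) (tt N31524 F288371) (tt N31651 (iv F288540)) (tt N31657 (iv F288582)) (tt N31527 F288372) (tt N31652 (iv F288545)) (tt N31647 (iv F288507)) (tt N31639 (iv F288445)) (tt N31518 (iv D64399)))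
theorem Q31631 : ∀ i, i < 31631 → P i := stepQ 31630 Q31630 (allL N31630 (tt N31630 F288373) (tt N31529 F288374) (tt N31640 (iv F288448)) (tt N31646 (iv F288495)) (tt N31664 (iv F288624)) (tt N31530 F288375) (tt N31643 (iv F288474)) (tt N31632 (iv F288389)) (tt N31648 (iv F288515)) (tt N31528 (iv D64400)))
theorem Q31632 : ∀ i, i < 31632 → P i := stepQ 31631 Q31631 (allL N31631 (tt N31631 F288376) (tt N31532 F288377) (tt N31582 F288378) (tt N31617 F288379) (tt N31627 F288380) (tt N31572 F288381) (tt N31611 F288382) (tt N31546 F288383) (tt N31531 (iv D64401)) (tt N31599 (iv F288384)))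
theorem Q31633 : ∀ i, i < 31633 → P i := stepQ 31632 Q31632 (allL N31632 (tt N31632 F288385) (tt N31534 F288386) (tt N31628 F288387) (tt N31602 F288388) (tt N31665 D64435) (tt N31533 (iv D64402)) (tt N31666 D64436) (tt N31630 F288389) (tt N31573 F288390) (tt N31618 F288391))
theorem Q31634 : ∀ i, i < 31634 → P i := stepQ 31633 Q31633 (allL N31633 (tt N31537 F288392) (tt N31665 (iv F288629)) (tt N31535 F288393) (tt N31608 F288394) (tt N31534 (iv D64403)) (tt N31554 F288395) (tt N31583 (iv F288399)) (tt N31612 F288396) (tt N31574 F288397) (tt N31581 F288398))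
theorem Q31635 : ∀ i, i < 31635 → P i := stepQ 31634 Q31634 (allL N31634 (tt N31538 F288400) (tt N31666 (iv F288638)) (tt N31536 F288401) (tt N31604 F288402) (tt N31583 F288403) (tt N31597 F288404) (tt N31534 (iv D64404)) (tt N31605 F288405) (tt N31562 F288406) (tt N31557 F288407))
theorem Q31636 : ∀ i, i < 31636 → P i := stepQ 31635 Q31635 (allL N31635 (tt N31635 F288408) (tt N31540 F288409) (tt N31621 F288410) (tt N31599 F288411) (tt N31575 F288412) (tt N31539 (iv D64405)) (tt N31667 D64437) (tt N31626 F288413) (tt N31668 D64438) (tt N31617 F288414))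
theorem Q31637 : ∀ i, i < 31637 → P i := stepQ 31636 Q31636 (allL N31636 (tt N31636 F288415) (tt N31541 F288416) (tt N31622 F288417) (tt N31611 F288418) (tt N31546 F288419) (tt N31668 (iv F288660)) (tt N31617 F288420) (tt N31627 F288421) (tt N31539 (iv D64406)) (tt N31667 (iv F288653)))
theorem Q31638 : ∀ i, i < 31638 → P i := stepQ 31637 Q31637 (allL N31637 (tt N31544 F288422) (tt N31667 (iv F288647)) (tt N31542 F288423) (tt N31601 F288424) (tt N31547 F288425) (tt N31590 F288426) (tt N31540 (iv D64407)) (tt N31600 F288427) (tt N31595 (iv F288429)) (tt N31541 F288428))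
theorem Q31639 : ∀ i, i < 31639 → P i := stepQ 31638 Q31638 (allL N31638 (tt N31545 F288430) (tt N31668 (iv F288656)) (tt N31543 F288431) (tt N31612 F288432) (tt N31577 F288433) (tt N31541 F288434) (tt N31595 F288435) (tt N31608 F288436) (tt N31540 (iv D64408)) (tt N31590 F288437))
theorem Q31640 : ∀ i, i < 31640 → P i := stepQ 31639 Q31639 (allL N31639 (tt N31639 F288438) (tt N31547 F288439) (tt N31623 F288440) (tt N31626 F288441) (tt N31667 (iv F288650)) (tt N31578 F288442) (tt N31575 F288443) (tt N31599 F288444) (tt N31629 F288445) (tt N31546 (iv D64409)))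
theorem Q31641 : ∀ i, i < 31641 → P i := stepQ 31640 Q31640 (allL N31640 (tt N31640 F288446) (tt N31550 F288447) (tt N31630 F288448) (tt N31575 F288449) (tt N31669 D64439) (tt N31549 (iv D64410)) (tt N31626 F288450) (tt N31628 F288451) (tt N31625 F288452) (tt N31553 F288453))
theorem Q31642 : ∀ i, i < 31642 → P i := stepQ 31641 Q31641 (allL N31641 (tt N31552 F288454) (tt N31669 (iv F288665)) (tt N31551 F288455) (tt N31600 F288456) (tt N31550 (iv D64411)) (tt N31581 F288457) (tt N31569 F288458) (tt N31601 F288459) (tt N31580 F288460) (tt N31554 F288461))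
theorem Q31643 : ∀ i, i < 31643 → P i := stepQ 31642 Q31642 (allL N31642 (tt N31642 F288462) (tt N31554 F288463) (tt N31619 F288464) (tt N31627 F288465) (tt N31553 (iv D64412)) (tt N31665 (iv F288632)) (tt N31615 F288466) (tt N31611 F288467) (tt N31584 F288468) (tt N31669 (iv F288672)))
theorem Q31644 : ∀ i, i < 31644 → P i := stepQ 31643 Q31643 (allL N31643 (tt N31643 F288469) (tt N31556 F288470) (tt N31626 F288471) (tt N31573 F288472) (tt N31620 F288473) (tt N31555 (iv D64413)) (tt N31630 F288474) (tt N31621 F288475) (tt N31670 D64440) (tt N31560 F288476))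
theorem Q31645 : ∀ i, i < 31645 → P i := stepQ 31644 Q31644 (allL N31644 (tt N31644 F288477) (tt N31557 F288478) (tt N31627 F288479) (tt N31603 F288480) (tt N31582 F288481) (tt N31670 (iv F288678)) (tt N31618 F288482) (tt N31622 F288483) (tt N31555 (iv D64414)) (tt N31666 (iv F288645)))
theorem Q31646 : ∀ i, i < 31646 → P i := stepQ 31645 Q31645 (allL N31645 (tt N31559 F288484) (tt N31670 (iv F288674)) (tt N31558 F288485) (tt N31605 F288486) (tt N31571 F288487) (tt N31557 F288488) (tt N31567 F288489) (tt N31604 F288490) (tt N31556 (iv D64415)) (tt N31597 F288491))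
theorem Q31647 : ∀ i, i < 31647 → P i := stepQ 31646 Q31646 (allL N31646 (tt N31646 F288492) (tt N31562 F288493) (tt N31624 F288494) (tt N31630 F288495) (tt N31589 F288496) (tt N31598 F288497) (tt N31573 F288498) (tt N31602 F288499) (tt N31666 (iv F288644)) (tt N31561 (iv D64416)))
theorem Q31648 : ∀ i, i < 31648 → P i := stepQ 31647 Q31647 (allL N31647 (tt N31647 F288500) (tt N31565 F288501) (tt N31589 F288502) (tt N31610 F288503) (tt N31624 F288504) (tt N31591 F288505) (tt N31614 F288506) (tt N31629 F288507) (tt N31599 F288508) (tt N31564 (iv D64417)))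
theorem Q31649 : ∀ i, i < 31649 → P i := stepQ 31648 Q31648 (allL N31648 (tt N31648 F288509) (tt N31567 F288510) (tt N31625 F288511) (tt N31621 F288512) (tt N31610 F288513) (tt N31566 (iv D64418)) (tt N31670 (iv F288679)) (tt N31573 F288514) (tt N31630 F288515) (tt N31613 F288516))
theorem Q31650 : ∀ i, i < 31650 → P i := stepQ 31649 Q31649 (allL N31649 (tt N31649 F288517) (tt N31569 F288518) (tt N31620 F288519) (tt N31628 F288520) (tt N31626 F288521) (tt N31568 (iv D64419)) (tt N31669 (iv F288669)) (tt N31575 F288522) (tt N31607 F288523) (tt N31615 F288524))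
theorem Q31651 : ∀ i, i < 31651 → P i := stepQ 31650 Q31650 (allL N31650 (tt N31650 F288525) (tt N31571 F288526) (tt N31607 F288527) (tt N31614 F288528) (tt N31670 (iv F288677)) (tt N31570 (iv D64420)) (tt N31610 F288529) (tt N31606 F288530) (tt N31620 F288531) (tt N31596 F288532))
theorem Q31652 : ∀ i, i < 31652 → P i := stepQ 31651 Q31651 (allL N31651 (tt N31651 F288533) (tt N31574 F288534) (tt N31614 F288535) (tt N31629 F288540) (tt N31573 (iv D64421)) (tt N31584 F288536) (tt N31589 F288537) (tt N31610 F288538) (tt N31665 (iv F288634)) (tt N31587 F288539))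
theorem Q31653 : ∀ i, i < 31653 → P i := stepQ 31652 Q31652 (allL N31652 (tt N31652 F288541) (tt N31577 F288542) (tt N31606 F288543) (tt N31589 F288548) (tt N31668 (iv F288659)) (tt N31576 F288544) (tt N31629 F288545) (tt N31607 F288546) (tt N31575 (iv D64422)) (tt N31588 F288547))
theorem Q31654 : ∀ i, i < 31654 → P i := stepQ 31653 Q31653 (allL N31653 (tt N31653 F288549) (tt N31580 F288550) (tt N31610 F288551) (tt N31606 F288552) (tt N31625 F288553) (tt N31579 (iv D64423)) (tt N31607 F288554) (tt N31614 F288555) (tt N31669 (iv F288671)) (tt N31586 F288556))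
theorem Q31655 : ∀ i, i < 31655 → P i := stepQ 31654 Q31654 (allL N31654 (tt N31654 F288557) (tt N31581 F288558) (tt N31611 F288559) (tt N31609 F288560) (tt N31618 F288561) (tt N31669 (iv F288668)) (tt N31582 F288562) (tt N31619 F288563) (tt N31579 (iv D64424)) (tt N31665 (iv F288635)))
theorem Q31656 : ∀ i, i < 31656 → P i := stepQ 31655 Q31655 (allL N31655 (tt N31655 F288564) (tt N31583 F288565) (tt N31599 F288566) (tt N31625 F288567) (tt N31666 (iv F288641)) (tt N31593 F288568) (tt N31665 F288636) (tt N31623 F288569) (tt N31589 F288570) (tt N31582 (iv D64425)))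
theorem Q31657 : ∀ i, i < 31657 → P i := stepQ 31656 Q31656 (allL N31656 (tt N31656 F288571) (tt N31590 F288572) (tt N31603 F288573) (tt N31619 F288574) (tt N31588 (iv D64426)) (tt N31667 (iv F288651)) (tt N31616 F288575) (tt N31609 F288576) (tt N31594 F288577) (tt N31668 (iv F288663)))
theorem Q31658 : ∀ i, i < 31658 → P i := stepQ 31657 Q31657 (allL N31657 (tt N31657 F288578) (tt N31595 F288579) (tt N31602 F288580) (tt N31620 F288581) (tt N31629 F288582) (tt N31594 (iv D64427)) (tt N31668 (iv F288661)) (tt N31624 F288583) (tt N31667 F288654) (tt N31616 F288584))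
theorem Q31659 : ∀ i, i < 31659 → P i := stepQ 31658 Q31658 (allL N31658 (tt N31658 F288585) (tt N31597 F288586) (tt N31609 F288587) (tt N31622 F288588) (tt N31596 (iv D64428)) (tt N31666 (iv F288642)) (tt N31613 F288589) (tt N31603 F288590) (tt N31598 F288591) (tt N31670 (iv F288681)))
theorem Q31660 : ∀ i, i < 31660 → P i := stepQ 31659 Q31659 (allL N31659 (tt N31659 F288592) (tt N31600 F288593) (tt N31666 (iv F288639)) (tt N31669 (iv F288667)) (tt N31599 (iv D64429)) (tt N31609 F288594) (tt N31628 (iv F288597)) (tt N31667 (iv F288652)) (tt N31624 F288595) (tt N31627 F288596))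
theorem Q31661 : ∀ i, i < 31661 → P i := stepQ 31660 Q31660 (allL N31660 (tt N31660 F288598) (tt N31601 F288599) (tt N31665 (iv F288630)) (tt N31667 (iv F288649)) (tt N31628 F288600) (tt N31619 F288601) (tt N31599 (iv D64430)) (tt N31669 (iv F288670)) (tt N31614 F288602) (tt N31611 F288603))
theorem Q31662 : ∀ i, i < 31662 → P i := stepQ 31661 Q31661 (allL N31661 (tt N31661 F288604) (tt N31604 F288605) (tt N31668 (iv F288657)) (tt N31666 (iv F288640)) (tt N31606 F288606) (tt N31622 F288607) (tt N31602 (iv D64431)) (tt N31670 (iv F288680)) (tt N31621 (iv F288609)) (tt N31603 F288608))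
theorem Q31663 : ∀ i, i < 31663 → P i := stepQ 31662 Q31662 (allL N31662 (tt N31662 F288610) (tt N31605 F288611) (tt N31667 (iv F288648)) (tt N31670 (iv F288676)) (tt N31623 F288612) (tt N31603 F288613) (tt N31621 F288614) (tt N31666 (iv F288643)) (tt N31602 (iv D64432)) (tt N31622 F288615))
theorem Q31664 : ∀ i, i < 31664 → P i := stepQ 31663 Q31663 (allL N31663 (tt N31663 F288616) (tt N31608 F288617) (tt N31670 (iv F288675)) (tt N31665 (iv F288631)) (tt N31607 (iv D64433)) (tt N31627 F288618) (tt N31625 F288619) (tt N31668 (iv F288662)) (tt N31626 F288620) (tt N31609 F288621))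
theorem Q31665 : ∀ i, i < 31665 → P i := stepQ 31664 Q31664 (allL N31664 (tt N31664 F288622) (tt N31612 F288623) (tt N31669 (iv F288666)) (tt N31668 (iv F288658)) (tt N31630 F288624) (tt N31611 F288625) (tt N31620 F288626) (tt N31665 (iv F288633)) (tt N31610 (iv D64434)) (tt N31619 F288627))
theorem Q31666 : ∀ i, i < 31666 → P i := stepQ 31665 Q31665 (allL N31665 (tt N31665 F288628) (tt N31633 F288629) (tt N31660 F288630) (tt N31663 F288631) (tt N31632 (iv D64435)) (tt N31642 F288632) (tt N31655 (iv F288636)) (tt N31664 F288633) (tt N31651 F288634) (tt N31654 F288635))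
theorem Q31667 : ∀ i, i < 31667 → P i := stepQ 31666 Q31666 (allL N31666 (tt N31666 F288637) (tt N31634 F288638) (tt N31659 F288639) (tt N31661 F288640) (tt N31655 F288641) (tt N31658 F288642) (tt N31632 (iv D64436)) (tt N31662 F288643) (tt N31646 F288644) (tt N31644 F288645))
theorem Q31668 : ∀ i, i < 31668 → P i := stepQ 31667 Q31667 (allL N31667 (tt N31667 F288646) (tt N31637 F288647) (tt N31662 F288648) (tt N31660 F288649) (tt N31639 F288650) (tt N31656 F288651) (tt N31635 (iv D64437)) (tt N31659 F288652) (tt N31657 (iv F288654)) (tt N31636 F288653))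
theorem Q31669 : ∀ i, i < 31669 → P i := stepQ 31668 Q31668 (allL N31668 (tt N31668 F288655) (tt N31638 F288656) (tt N31661 F288657) (tt N31664 F288658) (tt N31652 F288659) (tt N31636 F288660) (tt N31657 F288661) (tt N31663 F288662) (tt N31635 (iv D64438)) (tt N31656 F288663))
theorem Q31670 : ∀ i, i < 31670 → P i := stepQ 31669 Q31669 (allL N31669 (tt N31669 F288664) (tt N31641 F288665) (tt N31664 F288666) (tt N31659 F288667) (tt N31640 (iv D64439)) (tt N31654 F288668) (tt N31649 F288669) (tt N31660 F288670) (tt N31653 F288671) (tt N31642 F288672))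
theorem Q31671 : ∀ i, i < 31671 → P i := stepQ 31670 Q31670 (allL N31670 (tt N31670 F288673) (tt N31645 F288674) (tt N31663 F288675) (tt N31662 F288676) (tt N31650 F288677) (tt N31644 F288678) (tt N31648 F288679) (tt N31661 F288680) (tt N31643 (iv D64440)) (tt N31658 F288681))

theorem closedN : ∀ i, i < N → P i := Q31671

end Cfsg.Agent.Helper17.Fi23TC
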