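import Cfsg.Agent.Helper17.Fi23TC.Base

set_option autoImplicit false
set_option linter.all false

noncomputable section

namespace Cfsg.Agent.Helper17.Fi23TC

theorem c3_2 {p0 p1 p2 q2 q3 : Q} (h0 : act 4 p0 = p1) (h1 : act 0 p1 = p2) (h2 : act 4 q2 = q3) (h3 : act 0 q3 = p0) : p2 = q2 := by
  have hr := R3 p0
  subst h0
  subst h1
  subst h3
  subst h2
  exact ij (ij (hr))

theorem c10_3 {p0 p1 p2 p3 q3 : Q} (h0 : act 3 p0 = p1) (h1 : act 1 p1 = p2) (h2 : act 3 p2 = p3) (h3 : act 1 q3 = p0) : p3 = q3 := by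
  have hr := R10 p0
  subst h0
  subst h1
  subst h2
  subst h3
  exact ij (hr)

theorem c13_1 {p0 p1 q1 q2 q3 : Q} (h0 : act 6 p0 = p1) (h1 : act 1 q1 = q2) (h2 : act 6 q2 = q3) (h3 : act 1 q3 = p0) : p1 = q1 := by
  have hr := R13 p0
  subst h0
  subst h3
  subst h2
  subst h1
  exact ij (ij (ij (hr)))

theorem c17_2 {p0 p1 p2 q2 q3 q4 q5 : Q} (h0 : act 3 p0 = p1) (h1 : act 2 p1 = p2) (h2 : act 3 q2 = q3) (h3 : act 2 q3 = q4) (h4 : act 3 q4 = q5) (h5 : act 2 q5 = p0) : p2 = q2 := by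
  have hr := R17 p0
  subst h0
  subst h1
  subst h5
  subst h4
  subst h3
  subst h2
  exact ij (ij (ij (ij (hr))))

theorem c17_5 {p0 p1 p2 p3 p4 p5 q5 : Q} (h0 : act 3 p0 = p1) (h1 : act 2 p1 = p2) (h2 : act 3 p2 = p3) (h3 : act 2 p3 = p4) (h4 : act 3 p4 = p5) (h5 : act 2 q5 = p0) : p5 = q5 := by
  have hr := R17 p0
  subst h0
  subst h1
  subst h2
  subst h3
  subst h4
  subst h5
  exact ij (hr)

theorem c18_2 {p0 p1 p2 q2 q3 : Q} (h0 : act 4 p0 = p1) (h1 : act 2 p1 = p2) (h2 : act 4 q2 = q3) (h3 : act 2 q3 = p0) : p2 = q2 := by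
  have hr := R18 p0
  subst h0
  subst h1
  subst h3
  subst h2
  exact ij (ij (hr))

theorem c18_3 {p0 p1 p2 p3 q3 : Q} (h0 : act 4 p0 = p1) (h1 : act 2 p1 = p2) (h2 : act 4 p2 = p3) (h3 : act 2 q3 = p0) : p3 = q3 := by
  have hr := R18 p0
  subst h0
  subst h1
  subst h2
  subst h3
  exact ij (hr)

theorem c19_3 {p0 p1 p2 p3 q3 : Q} (h0 : act 5 p0 = p1) (h1 : act 2 p1 = p2) (h2 : act 5 p2 = p3) (h3 : act 2 q3 = p0) : p3 = q3 := by
  have hr := R19 p0
  subst h0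
  subst h1
  subst h2
  subst h3
  exact ij (hr)

theorem c21_3 {p0 p1 p2 p3 q3 : Q} (h0 : act 7 p0 = p1) (h1 : act 2 p1 = p2) (h2 : act 7 p2 = p3) (h3 : act 2 q3 = p0) : p3 = q3 := by
  have hr := R21 p0
  subst h0
  subst h1
  subst h2
  subst h3
  exact ij (hr)

theorem c22_2 {p0 p1 p2 q2 q3 : Q} (h0 : act 8 p0 = p1) (h1 : act 2 p1 = p2) (h2 : act 8 q2 = q3) (h3 : act 2 q3 = p0) : p2 = q2 := by
  have hr := R22 p0
  subst h0
  subst h1
  subst h3
  subst h2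
  exact ij (ij (hr))

theorem c22_3 {p0 p1 p2 p3 q3 : Q} (h0 : act 8 p0 = p1) (h1 : act 2 p1 = p2) (h2 : act 8 p2 = p3) (h3 : act 2 q3 = p0) : p3 = q3 := by
  have hr := R22 p0
  subst h0
  subst h1
  subst h2
  subst h3
  exact ij (hr)

theorem c24_1 {p0 p1 q1 q2 q3 q4 q5 : Q} (h0 : act 4 p0 = p1) (h1 : act 3 q1 = q2) (h2 : act 4 q2 = q3) (h3 : act 3 q3 = q4) (h4 : act 4 q4 = q5) (h5 : act 3 q5 = p0) : p1 = q1 := by
  have hr := R24 p0
  subst h0
  subst h5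
  subst h4
  subst h3
  subst h2
  subst h1
  exact ij (ij (ij (ij (ij (hr)))))

theorem c24_5 {p0 p1 p2 p3 p4 p5 q5 : Q} (h0 : act 4 p0 = p1) (h1 : act 3 p1 = p2) (h2 : act 4 p2 = p3) (h3 : act 3 p3 = p4) (h4 : act 4 p4 = p5) (h5 : act 3 q5 = p0) : p5 = q5 := by
  have hr := R24 p0
  subst h0
  subst h1
  subst h2
  subst h3
  subst h4
  subst h5
  exact ij (hr)

theorem c27_2 {p0 p1 p2 q2 q3 : Q} (h0 : act 7 p0 = p1) (h1 : act 3 p1 = p2) (h2 : act 7 q2 = q3) (h3 : act 3 q3 = p0) : p2 = q2 := by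
  have hr := R27 p0
  subst h0
  subst h1
  subst h3
  subst h2
  exact ij (ij (hr))

theorem c28_3 {p0 p1 p2 p3 q3 q4 q5 : Q} (h0 : act 8 p0 = p1) (h1 : act 3 p1 = p2) (h2 : act 8 p2 = p3) (h3 : act 3 q3 = q4) (h4 : act 8 q4 = q5) (h5 : act 3 q5 = p0) : p3 = q3 := by
  have hr := R28 p0
  subst h0
  subst h1
  subst h2
  subst h5
  subst h4
  subst h3
  exact ij (ij (ij (hr)))

theorem c30_3 {p0 p1 p2 p3 q3 q4 q5 : Q} (h0 : act 5 p0 = p1) (h1 : act 4 p1 = p2) (h2 : act 5 p2 = p3) (h3 : act 4 q3 = q4) (h4 : act 5 q4 = q5) (h5 : act 4 q5 = p0) : p3 = q3 := by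
  have hr := R30 p0
  subst h0
  subst h1
  subst h2
  subst h5
  subst h4
  subst h3
  exact ij (ij (ij (hr)))

theorem c35_5 {p0 p1 p2 p3 p4 p5 q5 : Q} (h0 : act 6 p0 = p1) (h1 : act 5 p1 = p2) (h2 : act 6 p2 = p3) (h3 : act 5 p3 = p4) (h4 : act 6 p4 = p5) (h5 : act 5 q5 = p0) : p5 = q5 := by
  have hr := R35 p0
  subst h0
  subst h1
  subst h2
  subst h3
  subst h4
  subst h5
  exact ij (hr)

theorem c36_2 {p0 p1 p2 q2 q3 : Q} (h0 : act 7 p0 = p1) (h1 : act 5 p1 = p2) (h2 : act 7 q2 = q3) (h3 : act 5 q3 = p0) : p2 = q2 := by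
  have hr := R36 p0
  subst h0
  subst h1
  subst h3
  subst h2
  exact ij (ij (hr))

theorem c38_2 {p0 p1 p2 q2 q3 : Q} (h0 : act 9 p0 = p1) (h1 : act 5 p1 = p2) (h2 : act 9 q2 = q3) (h3 : act 5 q3 = p0) : p2 = q2 := by
  have hr := R38 p0
  subst h0
  subst h1
  subst h3
  subst h2
  exact ij (ij (hr))

theorem c42_3 {p0 p1 p2 p3 q3 : Q} (h0 : act 8 p0 = p1) (h1 : act 7 p1 = p2) (h2 : act 8 p2 = p3) (h3 : act 7 q3 = p0) : p3 = q3 := by
  have hr := R42 p0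
  subst h0
  subst h1
  subst h2
  subst h3
  exact ij (hr)

theorem c43_2 {p0 p1 p2 q2 q3 : Q} (h0 : act 9 p0 = p1) (h1 : act 7 p1 = p2) (h2 : act 9 q2 = q3) (h3 : act 7 q3 = p0) : p2 = q2 := by
  have hr := R43 p0
  subst h0
  subst h1
  subst h3
  subst h2
  exact ij (ij (hr))

theorem c45_50 {p0 p1 p2 p3 p4 p5 p6 p7 p8 p9 p10 p11 p12 p13 p14 p15 p16 p17 p18 p19 p20 p21 p22 p23 p24 p25 p26 p27 p28 p29 p30 p31 p32 p33 p34 p35 p36 p37 p38 p39 p40 p41 p42 p43 p44 p45 p46 p47 p48 p49 p50 q50 q51 q52 q53 q54 q55 q56 q57 q58 q59 q60 q61 q62 q63 q64 q65 q66 q67 q68 q69 q70 q71 q72 q73 q74 q75 q76 q77 q78 q79 q80 q81 q82 q83 q84 q85 q86 q87 q88 q89 : Q} (h0 : act 9 p0 = p1) (h1 : act 8 p1 = p2) (h2 : act 3 p2 = p3) (h3 : act 5 p3 = p4) (h4 : act 4 p4 = p5) (h5 : act 3 p5 = p6) (h6 : act 1 p6 = p7) (h7 : act 2 p7 = p8) (h8 : act 3 p8 = p9) (h9 : act 9 p9 = p10) (h10 : act 8 p10 = p11) (h11 : act 3 p11 = p12) (h12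 : act 5 p12 = p13) (h13 : act 4 p13 = p14) (h14 : act 3 p14 = p15) (h15 : act 1 p15 = p16) (h16 : act 2 p16 = p17) (h17 : act 3 p17 = p18) (h18 : act 9 p18 = p19) (h19 : act 8 p19 = p20) (h20 : act 3 p20 = p21) (h21 : act 5 p21 = p22) (h22 : act 4 p22 = p23) (h23 : act 3 p23 = p24) (h24 : act 1 p24 = p25) (h25 : act 2 p25 = p26) (h26 : act 3 p26 = p27) (h27 : act 9 p27 = p28) (h28 : act 8 p28 = p29) (h29 : act 3 p29 = p30) (h30 : act 5 p30 = p31) (h31 : act 4 p31 = p32) (h32 : act 3 p32 = p33) (h33 : act 1 p33 = p34) (h34 : act 2 p34 = p35) (h35 : act 3 p35 = p36) (h36 : act 9 p36 = p37) (h37 : act 8 p37 = p38) (h38 : act 3 p38 = p39) (h39 : act 5 p39 = p40) (h40 : act 4 p40 = p41) (h41 : act 3 p41 = p42) (h42 : act 1 p42 = p43) (h43 : act 2 p43 = p44) (h44 : act 3 p44 = p45) (h45 : act 9 p45 = p46) (h46 : act 8 p46 = p47) (h47 : act 3 p47 = p48) (h48 : act 5 p48 = p49) (h49 : act 4 p49 = p50) (h50 : act 3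 q50 = q51) (h51 : act 1 q51 = q52) (h52 : act 2 q52 = q53) (h53 : act 3 q53 = q54) (h54 : act 9 q54 = q55) (h55 : act 8 q55 = q56) (h56 : act 3 q56 = q57) (h57 : act 5 q57 = q58) (h58 : act 4 q58 = q59) (h59 : act 3 q59 = q60) (h60 : act 1 q60 = q61) (h61 : act 2 q61 = q62) (h62 : act 3 q62 = q63) (h63 : act 9 q63 = q64) (h64 : act 8 q64 = q65) (h65 : act 3 q65 = q66) (h66 : act 5 q66 = q67) (h67 : act 4 q67 = q68) (h68 : act 3 q68 = q69) (h69 : act 1 q69 = q70) (h70 : act 2 q70 = q71) (h71 : act 3 q71 = q72) (h72 : act 9 q72 = q73) (h73 : act 8 q73 = q74) (h74 : act 3 q74 = q75) (h75 : act 5 q75 = q76) (h76 : act 4 q76 = q77) (h77 : act 3 q77 = q78) (h78 : act 1 q78 = q79) (h79 : act 2 q79 = q80) (h80 : act 3 q80 = q81) (h81 : act 9 q81 = q82) (h82 : act 8 q82 = q83) (h83 : act 3 q83 = q84) (h84 : act 5 q84 = q85) (h85 : act 4 q85 = q86) (h86 : act 3 q86 = q87) (h87 : act 1 q87 = q88) (h88 : act 2 q88 = q89)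 (h89 : act 3 q89 = p0) : p50 = q50 := by
  have hr := R45 p0
  subst h0
  subst h1
  subst h2
  subst h3
  subst h4
  subst h5
  subst h6
  subst h7
  subst h8
  subst h9
  subst h10
  subst h11
  subst h12
  subst h13
  subst h14
  subst h15
  subst h16
  subst h17
  subst h18
  subst h19
  subst h20
  subst h21
  subst h22
  subst h23
  subst h24
  subst h25
  subst h26
  subst h27
  subst h28
  subst h29
  subst h30
  subst h31
  subst h32
  subst h33
  subst h34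
  subst h35
  subst h36
  subst h37
  subst h38
  subst h39
  subst h40
  subst h41
  subst h42
  subst h43
  subst h44
  subst h45
  subst h46
  subst h47
  subst h48
  subst h49
  subst h89
  subst h88
  subst h87
  subst h86
  subst h85
  subst h84
  subst h83
  subst h82
  subst h81
  subst h80
  subst h79
  subst h78
  subst h77
  subst h76
  subst h75
  subst h74
  subst h73
  subst h72
  subst h71
  subst h70
  subst h69
  subst h68
  subst h67
  subst h66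
  subst h65
  subst h64
  subst h63
  subst h62
  subst h61
  subst h60
  subst h59
  subst h58
  subst h57
  subst h56
  subst h55
  subst h54
  subst h53
  subst h52
  subst h51
  subst h50
  exact ij (ij (ij (ij (ij (ij (ij (ij (ij (ij (ij (ij (ij (ij (ij (ij (ij (ij (ij (ij (ij (ij (ij (ij (ij (ij (ij (ij (ij (ij (ij (ij (ij (ij (ij (ij (ij (ij (ij (ij (hr))))))))))))))))))))))))))))))))))))))))

theorem c45_52 {p0 p1 p2 p3 p4 p5 p6 p7 p8 p9 p10 p11 p12 p13 p14 p15 p16 p17 p18 p19 p20 p21 p22 p23 p24 p25 p26 p27 p28 p29 p30 p31 p32 p33 p34 p35 p36 p37 p38 p39 p40 p41 p42 p43 p44 p45 p46 p47 p48 p49 p50 p51 p52 q52 q53 q54 q55 q56 q57 q58 q59 q60 q61 q62 q63 q64 q65 q66 q67 q68 q69 q70 q71 q72 q73 q74 q75 q76 q77 q78 q79 q80 q81 q82 q83 q84 q85 q86 q87 q88 q89 : Q} (h0 : act 9 p0 = p1) (h1 : act 8 p1 = p2) (h2 : act 3 p2 = p3) (h3 : act 5 p3 = p4) (h4 : act 4 p4 = p5) (h5 : act 3 p5 = p6) (h6 : act 1 p6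 = p7) (h7 : act 2 p7 = p8) (h8 : act 3 p8 = p9) (h9 : act 9 p9 = p10) (h10 : act 8 p10 = p11) (h11 : act 3 p11 = p12) (h12 : act 5 p12 = p13) (h13 : act 4 p13 = p14) (h14 : act 3 p14 = p15) (h15 : act 1 p15 = p16) (h16 : act 2 p16 = p17) (h17 : act 3 p17 = p18) (h18 : act 9 p18 = p19) (h19 : act 8 p19 = p20) (h20 : act 3 p20 = p21) (h21 : act 5 p21 = p22) (h22 : act 4 p22 = p23) (h23 : act 3 p23 = p24) (h24 : act 1 p24 = p25) (h25 : act 2 p25 = p26) (h26 : act 3 p26 = p27) (h27 : act 9 p27 = p28) (h28 : act 8 p28 = p29) (h29 : act 3 p29 = p30) (h30 : act 5 p30 = p31) (h31 : act 4 p31 = p32) (h32 : act 3 p32 = p33) (h33 : act 1 p33 = p34) (h34 : act 2 p34 = p35) (h35 : act 3 p35 = p36) (h36 : act 9 p36 = p37) (h37 : act 8 p37 = p38) (h38 : act 3 p38 = p39) (h39 : act 5 p39 = p40) (h40 : act 4 p40 = p41) (h41 : act 3 p41 = p42) (h42 : act 1 p42 = p43) (h43 : act 2 p43 = p44) (h44 : act 3 p44 = p45) (h45 : act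 9 p45 = p46) (h46 : act 8 p46 = p47) (h47 : act 3 p47 = p48) (h48 : act 5 p48 = p49) (h49 : act 4 p49 = p50) (h50 : act 3 p50 = p51) (h51 : act 1 p51 = p52) (h52 : act 2 q52 = q53) (h53 : act 3 q53 = q54) (h54 : act 9 q54 = q55) (h55 : act 8 q55 = q56) (h56 : act 3 q56 = q57) (h57 : act 5 q57 = q58) (h58 : act 4 q58 = q59) (h59 : act 3 q59 = q60) (h60 : act 1 q60 = q61) (h61 : act 2 q61 = q62) (h62 : act 3 q62 = q63) (h63 : act 9 q63 = q64) (h64 : act 8 q64 = q65) (h65 : act 3 q65 = q66) (h66 : act 5 q66 = q67) (h67 : act 4 q67 = q68) (h68 : act 3 q68 = q69) (h69 : act 1 q69 = q70) (h70 : act 2 q70 = q71) (h71 : act 3 q71 = q72) (h72 : act 9 q72 = q73) (h73 : act 8 q73 = q74) (h74 : act 3 q74 = q75) (h75 : act 5 q75 = q76) (h76 : act 4 q76 = q77) (h77 : act 3 q77 = q78) (h78 : act 1 q78 = q79) (h79 : act 2 q79 = q80) (h80 : act 3 q80 = q81) (h81 : act 9 q81 = q82) (h82 : act 8 q82 = q83) (h83 : act 3 q83 =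 q84) (h84 : act 5 q84 = q85) (h85 : act 4 q85 = q86) (h86 : act 3 q86 = q87) (h87 : act 1 q87 = q88) (h88 : act 2 q88 = q89) (h89 : act 3 q89 = p0) : p52 = q52 := by
  have hr := R45 p0
  subst h0
  subst h1
  subst h2
  subst h3
  subst h4
  subst h5
  subst h6
  subst h7
  subst h8
  subst h9
  subst h10
  subst h11
  subst h12
  subst h13
  subst h14
  subst h15
  subst h16
  subst h17
  subst h18
  subst h19
  subst h20
  subst h21
  subst h22
  subst h23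
  subst h24
  subst h25
  subst h26
  subst h27
  subst h28
  subst h29
  subst h30
  subst h31
  subst h32
  subst h33
  subst h34
  subst h35
  subst h36
  subst h37
  subst h38
  subst h39
  subst h40
  subst h41
  subst h42
  subst h43
  subst h44
  subst h45
  subst h46
  subst h47
  subst h48
  subst h49
  subst h50
  subst h51
  subst h89
  subst h88
  subst h87
  subst h86
  subst h85
  subst h84
  subst h83
  subst h82
  subst h81
  subst h80
  subst h79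
  subst h78
  subst h77
  subst h76
  subst h75
  subst h74
  subst h73
  subst h72
  subst h71
  subst h70
  subst h69
  subst h68
  subst h67
  subst h66
  subst h65
  subst h64
  subst h63
  subst h62
  subst h61
  subst h60
  subst h59
  subst h58
  subst h57
  subst h56
  subst h55
  subst h54
  subst h53
  subst h52
  exact ij (ij (ij (ij (ij (ij (ij (ij (ij (ij (ij (ij (ij (ij (ij (ij (ij (ij (ij (ij (ij (ij (ij (ij (ij (ij (ij (ij (ij (ij (ij (ij (ij (ij (ij (ij (ij (ij (hr))))))))))))))))))))))))))))))))))))))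

theorem c45_67 {p0 p1 p2 p3 p4 p5 p6 p7 p8 p9 p10 p11 p12 p13 p14 p15 p16 p17 p18 p19 p20 p21 p22 p23 p24 p25 p26 p27 p28 p29 p30 p31 p32 p33 p34 p35 p36 p37 p38 p39 p40 p41 p42 p43 p44 p45 p46 p47 p48 p49 p50 p51 p52 p53 p54 p55 p56 p57 p58 p59 p60 p61 p62 p63 p64 p65 p66 p67 q67 q68 q69 q70 q71 q72 q73 q74 q75 q76 q77 q78 q79 q80 q81 q82 q83 q84 q85 q86 q87 q88 q89 : Q} (h0 : act 9 p0 = p1) (h1 : act 8 p1 = p2) (h2 : act 3 p2 = p3) (h3 : act 5 p3 = p4) (h4 : act 4 p4 = p5) (h5 : act 3 p5 = p6) (h6 : act 1 p6 = p7) (h7 : act 2 p7 = p8) (h8 : act 3 p8 = p9) (h9 : act 9 p9 = p10) (h10 : act 8 p10 = p11) (h11 : act 3 p11 = p12) (h12 : act 5 p12 = p13) (h13 : act 4 p13 = p14) (h14 : act 3 p14 = p15) (h15 : act 1 p15 = p16) (h16 : act 2 p16 = p17) (h17 : act 3 p17 = p18) (h18 : act 9 p18 = p19) (h19 : act 8 p19 = p20) (h20 : act 3 p20 = p21) (h21 : act 5 p21 = p22) (h22 : act 4 p22 = p23) (h23 : act 3 p23 = p24)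 (h24 : act 1 p24 = p25) (h25 : act 2 p25 = p26) (h26 : act 3 p26 = p27) (h27 : act 9 p27 = p28) (h28 : act 8 p28 = p29) (h29 : act 3 p29 = p30) (h30 : act 5 p30 = p31) (h31 : act 4 p31 = p32) (h32 : act 3 p32 = p33) (h33 : act 1 p33 = p34) (h34 : act 2 p34 = p35) (h35 : act 3 p35 = p36) (h36 : act 9 p36 = p37) (h37 : act 8 p37 = p38) (h38 : act 3 p38 = p39) (h39 : act 5 p39 = p40) (h40 : act 4 p40 = p41) (h41 : act 3 p41 = p42) (h42 : act 1 p42 = p43) (h43 : act 2 p43 = p44) (h44 : act 3 p44 = p45) (h45 : act 9 p45 = p46) (h46 : act 8 p46 = p47) (h47 : act 3 p47 = p48) (h48 : act 5 p48 = p49) (h49 : act 4 p49 = p50) (h50 : act 3 p50 = p51) (h51 : act 1 p51 = p52) (h52 : act 2 p52 = p53) (h53 : act 3 p53 = p54) (h54 : act 9 p54 = p55) (h55 : act 8 p55 = p56) (h56 : act 3 p56 = p57) (h57 : act 5 p57 = p58) (h58 : act 4 p58 = p59) (h59 : act 3 p59 = p60) (h60 : act 1 p60 = p61) (h61 : act 2 p61 = p62) (h62 : act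 3 p62 = p63) (h63 : act 9 p63 = p64) (h64 : act 8 p64 = p65) (h65 : act 3 p65 = p66) (h66 : act 5 p66 = p67) (h67 : act 4 q67 = q68) (h68 : act 3 q68 = q69) (h69 : act 1 q69 = q70) (h70 : act 2 q70 = q71) (h71 : act 3 q71 = q72) (h72 : act 9 q72 = q73) (h73 : act 8 q73 = q74) (h74 : act 3 q74 = q75) (h75 : act 5 q75 = q76) (h76 : act 4 q76 = q77) (h77 : act 3 q77 = q78) (h78 : act 1 q78 = q79) (h79 : act 2 q79 = q80) (h80 : act 3 q80 = q81) (h81 : act 9 q81 = q82) (h82 : act 8 q82 = q83) (h83 : act 3 q83 = q84) (h84 : act 5 q84 = q85) (h85 : act 4 q85 = q86) (h86 : act 3 q86 = q87) (h87 : act 1 q87 = q88) (h88 : act 2 q88 = q89) (h89 : act 3 q89 = p0) : p67 = q67 := by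
  have hr := R45 p0
  subst h0
  subst h1
  subst h2
  subst h3
  subst h4
  subst h5
  subst h6
  subst h7
  subst h8
  subst h9
  subst h10
  subst h11
  subst h12
  subst h13
  subst h14
  subst h15
  subst h16
  subst h17
  subst h18
  subst h19
  subst h20
  subst h21
  subst h22
  subst h23
  subst h24
  subst h25
  subst h26
  subst h27
  subst h28
  subst h29
  subst h30
  subst h31
  subst h32
  subst h33
  subst h34
  subst h35
  subst h36
  subst h37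
  subst h38
  subst h39
  subst h40
  subst h41
  subst h42
  subst h43
  subst h44
  subst h45
  subst h46
  subst h47
  subst h48
  subst h49
  subst h50
  subst h51
  subst h52
  subst h53
  subst h54
  subst h55
  subst h56
  subst h57
  subst h58
  subst h59
  subst h60
  subst h61
  subst h62
  subst h63
  subst h64
  subst h65
  subst h66
  subst h89
  subst h88
  subst h87
  subst h86
  subst h85
  subst h84
  subst h83
  subst h82
  subst h81
  subst h80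
  subst h79
  subst h78
  subst h77
  subst h76
  subst h75
  subst h74
  subst h73
  subst h72
  subst h71
  subst h70
  subst h69
  subst h68
  subst h67
  exact ij (ij (ij (ij (ij (ij (ij (ij (ij (ij (ij (ij (ij (ij (ij (ij (ij (ij (ij (ij (ij (ij (ij (hr)))))))))))))))))))))))

theorem c46_5 {p0 p1 p2 p3 p4 p5 q5 q6 q7 q8 q9 q10 q11 q12 q13 q14 q15 q16 q17 q18 q19 q20 q21 q22 q23 q24 q25 q26 q27 q28 q29 q30 q31 q32 q33 q34 q35 q36 q37 q38 q39 q40 q41 q42 q43 q44 q45 q46 q47 q48 q49 q50 q51 q52 q53 q54 q55 q56 q57 q58 q59 q60 q61 q62 : Q} (h0 : act 8 p0 = p1) (h1 : act 5 p1 = p2) (h2 : act 4 p2 = p3) (h3 : act 3 p3 = p4) (h4 : act 2 p4 = p5) (h5 : act 1 q5 = q6) (h6 : act 0 q6 = q7) (h7 : act 8 q7 = q8) (h8 : act 5 q8 = q9) (h9 : act 4 q9 = q10) (h10 : act 3 q10 = q11) (h11 : act 2 q11 = q12) (h12 : act 1 q12 = q13) (h13 : act 0 q13 = q14) (h14 : act 8 q14 = q15) (h15 : act 5 q15 = q16) (h16 : act 4 q16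 = q17) (h17 : act 3 q17 = q18) (h18 : act 2 q18 = q19) (h19 : act 1 q19 = q20) (h20 : act 0 q20 = q21) (h21 : act 8 q21 = q22) (h22 : act 5 q22 = q23) (h23 : act 4 q23 = q24) (h24 : act 3 q24 = q25) (h25 : act 2 q25 = q26) (h26 : act 1 q26 = q27) (h27 : act 0 q27 = q28) (h28 : act 8 q28 = q29) (h29 : act 5 q29 = q30) (h30 : act 4 q30 = q31) (h31 : act 3 q31 = q32) (h32 : act 2 q32 = q33) (h33 : act 1 q33 = q34) (h34 : act 0 q34 = q35) (h35 : act 8 q35 = q36) (h36 : act 5 q36 = q37) (h37 : act 4 q37 = q38) (h38 : act 3 q38 = q39) (h39 : act 2 q39 = q40) (h40 : act 1 q40 = q41) (h41 : act 0 q41 = q42) (h42 : act 8 q42 = q43) (h43 : act 5 q43 = q44) (h44 : act 4 q44 = q45) (h45 : act 3 q45 = q46) (h46 : act 2 q46 = q47) (h47 : act 1 q47 = q48) (h48 : act 0 q48 = q49) (h49 : act 8 q49 = q50) (h50 : act 5 q50 = q51) (h51 : act 4 q51 = q52) (h52 : act 3 q52 = q53) (h53 : act 2 q53 = q54) (h54 : act 1 q54 = q55) (h55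 : act 0 q55 = q56) (h56 : act 8 q56 = q57) (h57 : act 5 q57 = q58) (h58 : act 4 q58 = q59) (h59 : act 3 q59 = q60) (h60 : act 2 q60 = q61) (h61 : act 1 q61 = q62) (h62 : act 0 q62 = p0) : p5 = q5 := by
  have hr := R46 p0
  subst h0
  subst h1
  subst h2
  subst h3
  subst h4
  subst h62
  subst h61
  subst h60
  subst h59
  subst h58
  subst h57
  subst h56
  subst h55
  subst h54
  subst h53
  subst h52
  subst h51
  subst h50
  subst h49
  subst h48
  subst h47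
  subst h46
  subst h45
  subst h44
  subst h43
  subst h42
  subst h41
  subst h40
  subst h39
  subst h38
  subst h37
  subst h36
  subst h35
  subst h34
  subst h33
  subst h32
  subst h31
  subst h30
  subst h29
  subst h28
  subst h27
  subst h26
  subst h25
  subst h24
  subst h23
  subst h22
  subst h21
  subst h20
  subst h19
  subst h18
  subst h17
  subst h16
  subst h15
  subst h14
  subst h13
  subst h12
  subst h11
  subst h10
  subst h9
  subst h8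
  subst h7
  subst h6
  subst h5
  exact ij (ij (ij (ij (ij (ij (ij (ij (ij (ij (ij (ij (ij (ij (ij (ij (ij (ij (ij (ij (ij (ij (ij (ij (ij (ij (ij (ij (ij (ij (ij (ij (ij (ij (ij (ij (ij (ij (ij (ij (ij (ij (ij (ij (ij (ij (ij (ij (ij (ij (ij (ij (ij (ij (ij (ij (ij (ij (hr))))))))))))))))))))))))))))))))))))))))))))))))))))))))))

theorem c46_6 {p0 p1 p2 p3 p4 p5 p6 q6 q7 q8 q9 q10 q11 q12 q13 q14 q15 q16 q17 q18 q19 q20 q21 q22 q23 q24 q25 q26 q27 q28 q29 q30 q31 q32 q33 q34 q35 q36 q37 q38 q39 q40 q41 q42 q43 q44 q45 q46 q47 q48 q49 q50 q51 q52 q53 q54 q55 q56 q57 q58 q59 q60 q61 q62 : Q} (h0 : act 8 p0 = p1) (h1 : act 5 p1 = p2) (h2 : act 4 p2 = p3) (h3 : act 3 p3 = p4) (h4 : act 2 p4 = p5) (h5 : act 1 p5 = p6) (h6 : act 0 q6 = q7) (h7 : act 8 q7 = q8) (h8 : act 5 q8 = q9) (h9 : act 4 q9 = q10) (h10 : act 3 q10 = q11) (h11 : act 2 q11 = q12) (h12 : act 1 q12 = q13) (h13 : act 0 q13 = q14) (h14 : act 8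 q14 = q15) (h15 : act 5 q15 = q16) (h16 : act 4 q16 = q17) (h17 : act 3 q17 = q18) (h18 : act 2 q18 = q19) (h19 : act 1 q19 = q20) (h20 : act 0 q20 = q21) (h21 : act 8 q21 = q22) (h22 : act 5 q22 = q23) (h23 : act 4 q23 = q24) (h24 : act 3 q24 = q25) (h25 : act 2 q25 = q26) (h26 : act 1 q26 = q27) (h27 : act 0 q27 = q28) (h28 : act 8 q28 = q29) (h29 : act 5 q29 = q30) (h30 : act 4 q30 = q31) (h31 : act 3 q31 = q32) (h32 : act 2 q32 = q33) (h33 : act 1 q33 = q34) (h34 : act 0 q34 = q35) (h35 : act 8 q35 = q36) (h36 : act 5 q36 = q37) (h37 : act 4 q37 = q38) (h38 : act 3 q38 = q39) (h39 : act 2 q39 = q40) (h40 : act 1 q40 = q41) (h41 : act 0 q41 = q42) (h42 : act 8 q42 = q43) (h43 : act 5 q43 = q44) (h44 : act 4 q44 = q45) (h45 : act 3 q45 = q46) (h46 : act 2 q46 = q47) (h47 : act 1 q47 = q48) (h48 : act 0 q48 = q49) (h49 : act 8 q49 = q50) (h50 : act 5 q50 = q51) (h51 : act 4 q51 = q52) (h52 : act 3 q52 = q53)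 (h53 : act 2 q53 = q54) (h54 : act 1 q54 = q55) (h55 : act 0 q55 = q56) (h56 : act 8 q56 = q57) (h57 : act 5 q57 = q58) (h58 : act 4 q58 = q59) (h59 : act 3 q59 = q60) (h60 : act 2 q60 = q61) (h61 : act 1 q61 = q62) (h62 : act 0 q62 = p0) : p6 = q6 := by
  have hr := R46 p0
  subst h0
  subst h1
  subst h2
  subst h3
  subst h4
  subst h5
  subst h62
  subst h61
  subst h60
  subst h59
  subst h58
  subst h57
  subst h56
  subst h55
  subst h54
  subst h53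
  subst h52
  subst h51
  subst h50
  subst h49
  subst h48
  subst h47
  subst h46
  subst h45
  subst h44
  subst h43
  subst h42
  subst h41
  subst h40
  subst h39
  subst h38
  subst h37
  subst h36
  subst h35
  subst h34
  subst h33
  subst h32
  subst h31
  subst h30
  subst h29
  subst h28
  subst h27
  subst h26
  subst h25
  subst h24
  subst h23
  subst h22
  subst h21
  subst h20
  subst h19
  subst h18
  subst h17
  subst h16
  subst h15
  subst h14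
  subst h13
  subst h12
  subst h11
  subst h10
  subst h9
  subst h8
  subst h7
  subst h6
  exact ij (ij (ij (ij (ij (ij (ij (ij (ij (ij (ij (ij (ij (ij (ij (ij (ij (ij (ij (ij (ij (ij (ij (ij (ij (ij (ij (ij (ij (ij (ij (ij (ij (ij (ij (ij (ij (ij (ij (ij (ij (ij (ij (ij (ij (ij (ij (ij (ij (ij (ij (ij (ij (ij (ij (ij (ij (hr)))))))))))))))))))))))))))))))))))))))))))))))))))))))))

theorem d0_0 {p0 q1 q2 q3 q4 q5 : Q} (h1 : act 0 q1 = q2) (h2 : act 1 q2 = q3) (h3 : act 0 q3 = q4) (h4 : act 1 q4 = q5) (h5 : act 0 q5 = p0) : act 1 p0 = q1 := by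
  have hr := R0 p0
  subst h5
  subst h4
  subst h3
  subst h2
  subst h1
  exact ij (ij (ij (ij (ij (hr)))))

theorem d0_1 {p0 p1 q2 q3 q4 q5 : Q} (h0 : act 1 p0 = p1) (h2 : act 1 q2 = q3) (h3 : act 0 q3 = q4) (h4 : act 1 q4 = q5) (h5 : act 0 q5 = p0) : act 0 p1 = q2 := by
  have hr := R0 p0
  subst h0
  subst h5
  subst h4
  subst h3
  subst h2
  exact ij (ij (ij (ij (hr))))

theorem d0_2 {p0 p1 p2 q3 q4 q5 : Q} (h0 : act 1 p0 = p1) (h1 : act 0 p1 = p2) (h3 : act 0 q3 = q4) (h4 : act 1 q4 = q5) (h5 : act 0 q5 = p0) : act 1 p2 = q3 := by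
  have hr := R0 p0
  subst h0
  subst h1
  subst h5
  subst h4
  subst h3
  exact ij (ij (ij (hr)))

theorem d0_3 {p0 p1 p2 p3 q4 q5 : Q} (h0 : act 1 p0 = p1) (h1 : act 0 p1 = p2) (h2 : act 1 p2 = p3) (h4 : act 1 q4 = q5) (h5 : act 0 q5 = p0) : act 0 p3 = q4 := by
  have hr := R0 p0
  subst h0
  subst h1
  subst h2
  subst h5
  subst h4
  exact ij (ij (hr))

theorem d0_5 {p0 p1 p2 p3 p4 p5 : Q} (h0 : act 1 p0 = p1) (h1 : act 0 p1 = p2) (h2 : act 1 p2 = p3) (h3 : act 0 p3 = p4) (h4 : act 1 p4 = p5) : act 0 p5 = p0 := by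
  have hr := R0 p0
  subst h0
  subst h1
  subst h2
  subst h3
  subst h4
  exact hr

theorem d1_0 {p0 q1 q2 q3 : Q} (h1 : act 0 q1 = q2) (h2 : act 2 q2 = q3) (h3 : act 0 q3 = p0) : act 2 p0 = q1 := by
  have hr := R1 p0
  subst h3
  subst h2
  subst h1
  exact ij (ij (ij (hr)))

theorem d1_1 {p0 p1 q2 q3 : Q} (h0 : act 2 p0 = p1) (h2 : act 2 q2 = q3) (h3 : act 0 q3 = p0) : act 0 p1 = q2 := by
  have hr := R1 p0
  subst h0
  subst h3
  subst h2
  exact ij (ij (hr))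

theorem d1_2 {p0 p1 p2 q3 : Q} (h0 : act 2 p0 = p1) (h1 : act 0 p1 = p2) (h3 : act 0 q3 = p0) : act 2 p2 = q3 := by
  have hr := R1 p0
  subst h0
  subst h1
  subst h3
  exact ij (hr)

theorem d1_3 {p0 p1 p2 p3 : Q} (h0 : act 2 p0 = p1) (h1 : act 0 p1 = p2) (h2 : act 2 p2 = p3) : act 0 p3 = p0 := by
  have hr := R1 p0
  subst h0
  subst h1
  subst h2
  exact hr

theorem d2_0 {p0 q1 q2 q3 : Q} (h1 : act 0 q1 = q2) (h2 : act 3 q2 = q3) (h3 : act 0 q3 = p0) : act 3 p0 = q1 := by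
  have hr := R2 p0
  subst h3
  subst h2
  subst h1
  exact ij (ij (ij (hr)))

theorem d2_1 {p0 p1 q2 q3 : Q} (h0 : act 3 p0 = p1) (h2 : act 3 q2 = q3) (h3 : act 0 q3 = p0) : act 0 p1 = q2 := by
  have hr := R2 p0
  subst h0
  subst h3
  subst h2
  exact ij (ij (hr))

theorem d2_2 {p0 p1 p2 q3 : Q} (h0 : act 3 p0 = p1) (h1 : act 0 p1 = p2) (h3 : act 0 q3 = p0) : act 3 p2 = q3 := by
  have hr := R2 p0
  subst h0
  subst h1
  subst h3
  exact ij (hr)

theorem d2_3 {p0 p1 p2 p3 : Q} (h0 : act 3 p0 = p1) (h1 : act 0 p1 = p2) (h2 : act 3 p2 = p3) : act 0 p3 = p0 := by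
  have hr := R2 p0
  subst h0
  subst h1
  subst h2
  exact hr

theorem d3_0 {p0 q1 q2 q3 : Q} (h1 : act 0 q1 = q2) (h2 : act 4 q2 = q3) (h3 : act 0 q3 = p0) : act 4 p0 = q1 := by
  have hr := R3 p0
  subst h3
  subst h2
  subst h1
  exact ij (ij (ij (hr)))

theorem d3_1 {p0 p1 q2 q3 : Q} (h0 : act 4 p0 = p1) (h2 : act 4 q2 = q3) (h3 : act 0 q3 = p0) : act 0 p1 = q2 := by
  have hr := R3 p0
  subst h0
  subst h3
  subst h2
  exact ij (ij (hr))

theorem d3_2 {p0 p1 p2 q3 : Q} (h0 : act 4 p0 = p1) (h1 : act 0 p1 = p2) (h3 : act 0 q3 = p0) : act 4 p2 = q3 := by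
  have hr := R3 p0
  subst h0
  subst h1
  subst h3
  exact ij (hr)

theorem d3_3 {p0 p1 p2 p3 : Q} (h0 : act 4 p0 = p1) (h1 : act 0 p1 = p2) (h2 : act 4 p2 = p3) : act 0 p3 = p0 := by
  have hr := R3 p0
  subst h0
  subst h1
  subst h2
  exact hr

theorem d4_0 {p0 q1 q2 q3 : Q} (h1 : act 0 q1 = q2) (h2 : act 5 q2 = q3) (h3 : act 0 q3 = p0) : act 5 p0 = q1 := by
  have hr := R4 p0
  subst h3
  subst h2
  subst h1
  exact ij (ij (ij (hr)))

theorem d4_1 {p0 p1 q2 q3 : Q} (h0 : act 5 p0 = p1) (h2 : act 5 q2 = q3) (h3 : act 0 q3 = p0) : act 0 p1 = q2 := by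
  have hr := R4 p0
  subst h0
  subst h3
  subst h2
  exact ij (ij (hr))

theorem d4_2 {p0 p1 p2 q3 : Q} (h0 : act 5 p0 = p1) (h1 : act 0 p1 = p2) (h3 : act 0 q3 = p0) : act 5 p2 = q3 := by
  have hr := R4 p0
  subst h0
  subst h1
  subst h3
  exact ij (hr)

theorem d4_3 {p0 p1 p2 p3 : Q} (h0 : act 5 p0 = p1) (h1 : act 0 p1 = p2) (h2 : act 5 p2 = p3) : act 0 p3 = p0 := by
  have hr := R4 p0
  subst h0
  subst h1
  subst h2
  exact hr

theorem d5_0 {p0 q1 q2 q3 : Q} (h1 : act 0 q1 = q2) (h2 : act 6 q2 = q3) (h3 : act 0 q3 = p0) : act 6 p0 = q1 := by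
  have hr := R5 p0
  subst h3
  subst h2
  subst h1
  exact ij (ij (ij (hr)))

theorem d5_1 {p0 p1 q2 q3 : Q} (h0 : act 6 p0 = p1) (h2 : act 6 q2 = q3) (h3 : act 0 q3 = p0) : act 0 p1 = q2 := by
  have hr := R5 p0
  subst h0
  subst h3
  subst h2
  exact ij (ij (hr))

theorem d5_2 {p0 p1 p2 q3 : Q} (h0 : act 6 p0 = p1) (h1 : act 0 p1 = p2) (h3 : act 0 q3 = p0) : act 6 p2 = q3 := by
  have hr := R5 p0
  subst h0
  subst h1
  subst h3
  exact ij (hr)

theorem d5_3 {p0 p1 p2 p3 : Q} (h0 : act 6 p0 = p1) (h1 : act 0 p1 = p2) (h2 : act 6 p2 = p3) : act 0 p3 = p0 := by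
  have hr := R5 p0
  subst h0
  subst h1
  subst h2
  exact hr

theorem d6_0 {p0 q1 q2 q3 : Q} (h1 : act 0 q1 = q2) (h2 : act 7 q2 = q3) (h3 : act 0 q3 = p0) : act 7 p0 = q1 := by
  have hr := R6 p0
  subst h3
  subst h2
  subst h1
  exact ij (ij (ij (hr)))

theorem d6_1 {p0 p1 q2 q3 : Q} (h0 : act 7 p0 = p1) (h2 : act 7 q2 = q3) (h3 : act 0 q3 = p0) : act 0 p1 = q2 := by
  have hr := R6 p0
  subst h0
  subst h3
  subst h2
  exact ij (ij (hr))

theorem d6_2 {p0 p1 p2 q3 : Q} (h0 : act 7 p0 = p1) (h1 : act 0 p1 = p2) (h3 : act 0 q3 = p0) : act 7 p2 = q3 := by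
  have hr := R6 p0
  subst h0
  subst h1
  subst h3
  exact ij (hr)

theorem d6_3 {p0 p1 p2 p3 : Q} (h0 : act 7 p0 = p1) (h1 : act 0 p1 = p2) (h2 : act 7 p2 = p3) : act 0 p3 = p0 := by
  have hr := R6 p0
  subst h0
  subst h1
  subst h2
  exact hr

theorem d7_0 {p0 q1 q2 q3 : Q} (h1 : act 0 q1 = q2) (h2 : act 8 q2 = q3) (h3 : act 0 q3 = p0) : act 8 p0 = q1 := by
  have hr := R7 p0
  subst h3
  subst h2
  subst h1
  exact ij (ij (ij (hr)))

theorem d7_1 {p0 p1 q2 q3 : Q} (h0 : act 8 p0 = p1) (h2 : act 8 q2 = q3) (h3 : act 0 q3 = p0) : act 0 p1 = q2 := by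
  have hr := R7 p0
  subst h0
  subst h3
  subst h2
  exact ij (ij (hr))

theorem d7_2 {p0 p1 p2 q3 : Q} (h0 : act 8 p0 = p1) (h1 : act 0 p1 = p2) (h3 : act 0 q3 = p0) : act 8 p2 = q3 := by
  have hr := R7 p0
  subst h0
  subst h1
  subst h3
  exact ij (hr)

theorem d7_3 {p0 p1 p2 p3 : Q} (h0 : act 8 p0 = p1) (h1 : act 0 p1 = p2) (h2 : act 8 p2 = p3) : act 0 p3 = p0 := by
  have hr := R7 p0
  subst h0
  subst h1
  subst h2
  exact hr

theorem d8_0 {p0 q1 q2 q3 : Q} (h1 : act 0 q1 = q2) (h2 : act 9 q2 = q3) (h3 : act 0 q3 = p0) : act 9 p0 = q1 := by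
  have hr := R8 p0
  subst h3
  subst h2
  subst h1
  exact ij (ij (ij (hr)))

theorem d8_1 {p0 p1 q2 q3 : Q} (h0 : act 9 p0 = p1) (h2 : act 9 q2 = q3) (h3 : act 0 q3 = p0) : act 0 p1 = q2 := by
  have hr := R8 p0
  subst h0
  subst h3
  subst h2
  exact ij (ij (hr))

theorem d8_2 {p0 p1 p2 q3 : Q} (h0 : act 9 p0 = p1) (h1 : act 0 p1 = p2) (h3 : act 0 q3 = p0) : act 9 p2 = q3 := by
  have hr := R8 p0
  subst h0
  subst h1
  subst h3
  exact ij (hr)

theorem d8_3 {p0 p1 p2 p3 : Q} (h0 : act 9 p0 = p1) (h1 : act 0 p1 = p2) (h2 : act 9 p2 = p3) : act 0 p3 = p0 := by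
  have hr := R8 p0
  subst h0
  subst h1
  subst h2
  exact hr

theorem d9_0 {p0 q1 q2 q3 q4 q5 : Q} (h1 : act 1 q1 = q2) (h2 : act 2 q2 = q3) (h3 : act 1 q3 = q4) (h4 : act 2 q4 = q5) (h5 : act 1 q5 = p0) : act 2 p0 = q1 := by
  have hr := R9 p0
  subst h5
  subst h4
  subst h3
  subst h2
  subst h1
  exact ij (ij (ij (ij (ij (hr)))))

theorem d9_1 {p0 p1 q2 q3 q4 q5 : Q} (h0 : act 2 p0 = p1) (h2 : act 2 q2 = q3) (h3 : act 1 q3 = q4) (h4 : act 2 q4 = q5) (h5 : act 1 q5 = p0) : act 1 p1 = q2 := by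
  have hr := R9 p0
  subst h0
  subst h5
  subst h4
  subst h3
  subst h2
  exact ij (ij (ij (ij (hr))))

theorem d9_2 {p0 p1 p2 q3 q4 q5 : Q} (h0 : act 2 p0 = p1) (h1 : act 1 p1 = p2) (h3 : act 1 q3 = q4) (h4 : act 2 q4 = q5) (h5 : act 1 q5 = p0) : act 2 p2 = q3 := by
  have hr := R9 p0
  subst h0
  subst h1
  subst h5
  subst h4
  subst h3
  exact ij (ij (ij (hr)))

theorem d9_3 {p0 p1 p2 p3 q4 q5 : Q} (h0 : act 2 p0 = p1) (h1 : act 1 p1 = p2) (h2 : act 2 p2 = p3) (h4 : act 2 q4 = q5) (h5 : act 1 q5 = p0) : act 1 p3 = q4 := by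
  have hr := R9 p0
  subst h0
  subst h1
  subst h2
  subst h5
  subst h4
  exact ij (ij (hr))

theorem d9_4 {p0 p1 p2 p3 p4 q5 : Q} (h0 : act 2 p0 = p1) (h1 : act 1 p1 = p2) (h2 : act 2 p2 = p3) (h3 : act 1 p3 = p4) (h5 : act 1 q5 = p0) : act 2 p4 = q5 := by
  have hr := R9 p0
  subst h0
  subst h1
  subst h2
  subst h3
  subst h5
  exact ij (hr)

theorem d9_5 {p0 p1 p2 p3 p4 p5 : Q} (h0 : act 2 p0 = p1) (h1 : act 1 p1 = p2) (h2 : act 2 p2 = p3) (h3 : act 1 p3 = p4) (h4 : act 2 p4 = p5) : act 1 p5 = p0 := by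
  have hr := R9 p0
  subst h0
  subst h1
  subst h2
  subst h3
  subst h4
  exact hr

theorem d10_0 {p0 q1 q2 q3 : Q} (h1 : act 1 q1 = q2) (h2 : act 3 q2 = q3) (h3 : act 1 q3 = p0) : act 3 p0 = q1 := by
  have hr := R10 p0
  subst h3
  subst h2
  subst h1
  exact ij (ij (ij (hr)))

theorem d10_1 {p0 p1 q2 q3 : Q} (h0 : act 3 p0 = p1) (h2 : act 3 q2 = q3) (h3 : act 1 q3 = p0) : act 1 p1 = q2 := by
  have hr := R10 p0
  subst h0
  subst h3
  subst h2
  exact ij (ij (hr))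

theorem d10_2 {p0 p1 p2 q3 : Q} (h0 : act 3 p0 = p1) (h1 : act 1 p1 = p2) (h3 : act 1 q3 = p0) : act 3 p2 = q3 := by
  have hr := R10 p0
  subst h0
  subst h1
  subst h3
  exact ij (hr)

theorem d10_3 {p0 p1 p2 p3 : Q} (h0 : act 3 p0 = p1) (h1 : act 1 p1 = p2) (h2 : act 3 p2 = p3) : act 1 p3 = p0 := by
  have hr := R10 p0
  subst h0
  subst h1
  subst h2
  exact hr

theorem d11_0 {p0 q1 q2 q3 : Q} (h1 : act 1 q1 = q2) (h2 : act 4 q2 = q3) (h3 : act 1 q3 = p0) : act 4 p0 = q1 := by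
  have hr := R11 p0
  subst h3
  subst h2
  subst h1
  exact ij (ij (ij (hr)))

theorem d11_1 {p0 p1 q2 q3 : Q} (h0 : act 4 p0 = p1) (h2 : act 4 q2 = q3) (h3 : act 1 q3 = p0) : act 1 p1 = q2 := by
  have hr := R11 p0
  subst h0
  subst h3
  subst h2
  exact ij (ij (hr))

theorem d11_2 {p0 p1 p2 q3 : Q} (h0 : act 4 p0 = p1) (h1 : act 1 p1 = p2) (h3 : act 1 q3 = p0) : act 4 p2 = q3 := by
  have hr := R11 p0
  subst h0
  subst h1
  subst h3
  exact ij (hr)

theorem d11_3 {p0 p1 p2 p3 : Q} (h0 : act 4 p0 = p1) (h1 : act 1 p1 = p2) (h2 : act 4 p2 = p3) : act 1 p3 = p0 := by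
  have hr := R11 p0
  subst h0
  subst h1
  subst h2
  exact hr

theorem d12_0 {p0 q1 q2 q3 : Q} (h1 : act 1 q1 = q2) (h2 : act 5 q2 = q3) (h3 : act 1 q3 = p0) : act 5 p0 = q1 := by
  have hr := R12 p0
  subst h3
  subst h2
  subst h1
  exact ij (ij (ij (hr)))

theorem d12_1 {p0 p1 q2 q3 : Q} (h0 : act 5 p0 = p1) (h2 : act 5 q2 = q3) (h3 : act 1 q3 = p0) : act 1 p1 = q2 := by
  have hr := R12 p0
  subst h0
  subst h3
  subst h2
  exact ij (ij (hr))

theorem d12_2 {p0 p1 p2 q3 : Q} (h0 : act 5 p0 = p1) (h1 : act 1 p1 = p2) (h3 : act 1 q3 = p0) : act 5 p2 = q3 := by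
  have hr := R12 p0
  subst h0
  subst h1
  subst h3
  exact ij (hr)

theorem d12_3 {p0 p1 p2 p3 : Q} (h0 : act 5 p0 = p1) (h1 : act 1 p1 = p2) (h2 : act 5 p2 = p3) : act 1 p3 = p0 := by
  have hr := R12 p0
  subst h0
  subst h1
  subst h2
  exact hr

theorem d13_0 {p0 q1 q2 q3 : Q} (h1 : act 1 q1 = q2) (h2 : act 6 q2 = q3) (h3 : act 1 q3 = p0) : act 6 p0 = q1 := by
  have hr := R13 p0
  subst h3
  subst h2
  subst h1
  exact ij (ij (ij (hr)))

theorem d13_1 {p0 p1 q2 q3 : Q} (h0 : act 6 p0 = p1) (h2 : act 6 q2 = q3) (h3 : act 1 q3 = p0) : act 1 p1 = q2 := by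
  have hr := R13 p0
  subst h0
  subst h3
  subst h2
  exact ij (ij (hr))

theorem d13_2 {p0 p1 p2 q3 : Q} (h0 : act 6 p0 = p1) (h1 : act 1 p1 = p2) (h3 : act 1 q3 = p0) : act 6 p2 = q3 := by
  have hr := R13 p0
  subst h0
  subst h1
  subst h3
  exact ij (hr)

theorem d13_3 {p0 p1 p2 p3 : Q} (h0 : act 6 p0 = p1) (h1 : act 1 p1 = p2) (h2 : act 6 p2 = p3) : act 1 p3 = p0 := by
  have hr := R13 p0
  subst h0
  subst h1
  subst h2
  exact hr

theorem d14_0 {p0 q1 q2 q3 : Q} (h1 : act 1 q1 = q2) (h2 : act 7 q2 = q3) (h3 : act 1 q3 = p0) : act 7 p0 = q1 := by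
  have hr := R14 p0
  subst h3
  subst h2
  subst h1
  exact ij (ij (ij (hr)))

theorem d14_1 {p0 p1 q2 q3 : Q} (h0 : act 7 p0 = p1) (h2 : act 7 q2 = q3) (h3 : act 1 q3 = p0) : act 1 p1 = q2 := by
  have hr := R14 p0
  subst h0
  subst h3
  subst h2
  exact ij (ij (hr))

theorem d14_2 {p0 p1 p2 q3 : Q} (h0 : act 7 p0 = p1) (h1 : act 1 p1 = p2) (h3 : act 1 q3 = p0) : act 7 p2 = q3 := by
  have hr := R14 p0
  subst h0
  subst h1
  subst h3
  exact ij (hr)

theorem d14_3 {p0 p1 p2 p3 : Q} (h0 : act 7 p0 = p1) (h1 : act 1 p1 = p2) (h2 : act 7 p2 = p3) : act 1 p3 = p0 := by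
  have hr := R14 p0
  subst h0
  subst h1
  subst h2
  exact hr

theorem d15_0 {p0 q1 q2 q3 : Q} (h1 : act 1 q1 = q2) (h2 : act 8 q2 = q3) (h3 : act 1 q3 = p0) : act 8 p0 = q1 := by
  have hr := R15 p0
  subst h3
  subst h2
  subst h1
  exact ij (ij (ij (hr)))

theorem d15_1 {p0 p1 q2 q3 : Q} (h0 : act 8 p0 = p1) (h2 : act 8 q2 = q3) (h3 : act 1 q3 = p0) : act 1 p1 = q2 := by
  have hr := R15 p0
  subst h0
  subst h3
  subst h2
  exact ij (ij (hr))

theorem d15_2 {p0 p1 p2 q3 : Q} (h0 : act 8 p0 = p1) (h1 : act 1 p1 = p2) (h3 : act 1 q3 = p0) : act 8 p2 = q3 := by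
  have hr := R15 p0
  subst h0
  subst h1
  subst h3
  exact ij (hr)

theorem d15_3 {p0 p1 p2 p3 : Q} (h0 : act 8 p0 = p1) (h1 : act 1 p1 = p2) (h2 : act 8 p2 = p3) : act 1 p3 = p0 := by
  have hr := R15 p0
  subst h0
  subst h1
  subst h2
  exact hr

theorem d16_1 {p0 p1 q2 q3 : Q} (h0 : act 9 p0 = p1) (h2 : act 9 q2 = q3) (h3 : act 1 q3 = p0) : act 1 p1 = q2 := by
  have hr := R16 p0
  subst h0
  subst h3
  subst h2
  exact ij (ij (hr))

theorem d16_2 {p0 p1 p2 q3 : Q} (h0 : act 9 p0 = p1) (h1 : act 1 p1 = p2) (h3 : act 1 q3 = p0) : act 9 p2 = q3 := by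
  have hr := R16 p0
  subst h0
  subst h1
  subst h3
  exact ij (hr)

theorem d17_0 {p0 q1 q2 q3 q4 q5 : Q} (h1 : act 2 q1 = q2) (h2 : act 3 q2 = q3) (h3 : act 2 q3 = q4) (h4 : act 3 q4 = q5) (h5 : act 2 q5 = p0) : act 3 p0 = q1 := by
  have hr := R17 p0
  subst h5
  subst h4
  subst h3
  subst h2
  subst h1
  exact ij (ij (ij (ij (ij (hr)))))

theorem d17_1 {p0 p1 q2 q3 q4 q5 : Q} (h0 : act 3 p0 = p1) (h2 : act 3 q2 = q3) (h3 : act 2 q3 = q4) (h4 : act 3 q4 = q5) (h5 : act 2 q5 = p0) : act 2 p1 = q2 := by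
  have hr := R17 p0
  subst h0
  subst h5
  subst h4
  subst h3
  subst h2
  exact ij (ij (ij (ij (hr))))

theorem d17_2 {p0 p1 p2 q3 q4 q5 : Q} (h0 : act 3 p0 = p1) (h1 : act 2 p1 = p2) (h3 : act 2 q3 = q4) (h4 : act 3 q4 = q5) (h5 : act 2 q5 = p0) : act 3 p2 = q3 := by
  have hr := R17 p0
  subst h0
  subst h1
  subst h5
  subst h4
  subst h3
  exact ij (ij (ij (hr)))

theorem d17_3 {p0 p1 p2 p3 q4 q5 : Q} (h0 : act 3 p0 = p1) (h1 : act 2 p1 = p2) (h2 : act 3 p2 = p3) (h4 : act 3 q4 = q5) (h5 : act 2 q5 = p0) : act 2 p3 = q4 := by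
  have hr := R17 p0
  subst h0
  subst h1
  subst h2
  subst h5
  subst h4
  exact ij (ij (hr))

theorem d17_4 {p0 p1 p2 p3 p4 q5 : Q} (h0 : act 3 p0 = p1) (h1 : act 2 p1 = p2) (h2 : act 3 p2 = p3) (h3 : act 2 p3 = p4) (h5 : act 2 q5 = p0) : act 3 p4 = q5 := by
  have hr := R17 p0
  subst h0
  subst h1
  subst h2
  subst h3
  subst h5
  exact ij (hr)

theorem d18_0 {p0 q1 q2 q3 : Q} (h1 : act 2 q1 = q2) (h2 : act 4 q2 = q3) (h3 : act 2 q3 = p0) : act 4 p0 = q1 := by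
  have hr := R18 p0
  subst h3
  subst h2
  subst h1
  exact ij (ij (ij (hr)))

theorem d18_1 {p0 p1 q2 q3 : Q} (h0 : act 4 p0 = p1) (h2 : act 4 q2 = q3) (h3 : act 2 q3 = p0) : act 2 p1 = q2 := by
  have hr := R18 p0
  subst h0
  subst h3
  subst h2
  exact ij (ij (hr))

theorem d18_2 {p0 p1 p2 q3 : Q} (h0 : act 4 p0 = p1) (h1 : act 2 p1 = p2) (h3 : act 2 q3 = p0) : act 4 p2 = q3 := by
  have hr := R18 p0
  subst h0
  subst h1
  subst h3
  exact ij (hr)

theorem d18_3 {p0 p1 p2 p3 : Q} (h0 : act 4 p0 = p1) (h1 : act 2 p1 = p2) (h2 : act 4 p2 = p3) : act 2 p3 = p0 := by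
  have hr := R18 p0
  subst h0
  subst h1
  subst h2
  exact hr

theorem d19_0 {p0 q1 q2 q3 : Q} (h1 : act 2 q1 = q2) (h2 : act 5 q2 = q3) (h3 : act 2 q3 = p0) : act 5 p0 = q1 := by
  have hr := R19 p0
  subst h3
  subst h2
  subst h1
  exact ij (ij (ij (hr)))

theorem d19_1 {p0 p1 q2 q3 : Q} (h0 : act 5 p0 = p1) (h2 : act 5 q2 = q3) (h3 : act 2 q3 = p0) : act 2 p1 = q2 := by
  have hr := R19 p0
  subst h0
  subst h3
  subst h2
  exact ij (ij (hr))

theorem d19_2 {p0 p1 p2 q3 : Q} (h0 : act 5 p0 = p1) (h1 : act 2 p1 = p2) (h3 : act 2 q3 = p0) : act 5 p2 = q3 := by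
  have hr := R19 p0
  subst h0
  subst h1
  subst h3
  exact ij (hr)

theorem d19_3 {p0 p1 p2 p3 : Q} (h0 : act 5 p0 = p1) (h1 : act 2 p1 = p2) (h2 : act 5 p2 = p3) : act 2 p3 = p0 := by
  have hr := R19 p0
  subst h0
  subst h1
  subst h2
  exact hr

theorem d20_0 {p0 q1 q2 q3 : Q} (h1 : act 2 q1 = q2) (h2 : act 6 q2 = q3) (h3 : act 2 q3 = p0) : act 6 p0 = q1 := by
  have hr := R20 p0
  subst h3
  subst h2
  subst h1
  exact ij (ij (ij (hr)))

theorem d20_1 {p0 p1 q2 q3 : Q} (h0 : act 6 p0 = p1) (h2 : act 6 q2 = q3) (h3 : act 2 q3 = p0) : act 2 p1 = q2 := by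
  have hr := R20 p0
  subst h0
  subst h3
  subst h2
  exact ij (ij (hr))

theorem d20_2 {p0 p1 p2 q3 : Q} (h0 : act 6 p0 = p1) (h1 : act 2 p1 = p2) (h3 : act 2 q3 = p0) : act 6 p2 = q3 := by
  have hr := R20 p0
  subst h0
  subst h1
  subst h3
  exact ij (hr)

theorem d20_3 {p0 p1 p2 p3 : Q} (h0 : act 6 p0 = p1) (h1 : act 2 p1 = p2) (h2 : act 6 p2 = p3) : act 2 p3 = p0 := by
  have hr := R20 p0
  subst h0
  subst h1
  subst h2
  exact hr

theorem d21_0 {p0 q1 q2 q3 : Q} (h1 : act 2 q1 = q2) (h2 : act 7 q2 = q3) (h3 : act 2 q3 = p0) : act 7 p0 = q1 := by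
  have hr := R21 p0
  subst h3
  subst h2
  subst h1
  exact ij (ij (ij (hr)))

theorem d21_1 {p0 p1 q2 q3 : Q} (h0 : act 7 p0 = p1) (h2 : act 7 q2 = q3) (h3 : act 2 q3 = p0) : act 2 p1 = q2 := by
  have hr := R21 p0
  subst h0
  subst h3
  subst h2
  exact ij (ij (hr))

theorem d21_2 {p0 p1 p2 q3 : Q} (h0 : act 7 p0 = p1) (h1 : act 2 p1 = p2) (h3 : act 2 q3 = p0) : act 7 p2 = q3 := by
  have hr := R21 p0
  subst h0
  subst h1
  subst h3
  exact ij (hr)

theorem d21_3 {p0 p1 p2 p3 : Q} (h0 : act 7 p0 = p1) (h1 : act 2 p1 = p2) (h2 : act 7 p2 = p3) : act 2 p3 = p0 := by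
  have hr := R21 p0
  subst h0
  subst h1
  subst h2
  exact hr

theorem d22_0 {p0 q1 q2 q3 : Q} (h1 : act 2 q1 = q2) (h2 : act 8 q2 = q3) (h3 : act 2 q3 = p0) : act 8 p0 = q1 := by
  have hr := R22 p0
  subst h3
  subst h2
  subst h1
  exact ij (ij (ij (hr)))

theorem d22_1 {p0 p1 q2 q3 : Q} (h0 : act 8 p0 = p1) (h2 : act 8 q2 = q3) (h3 : act 2 q3 = p0) : act 2 p1 = q2 := by
  have hr := R22 p0
  subst h0
  subst h3
  subst h2
  exact ij (ij (hr))

theorem d22_2 {p0 p1 p2 q3 : Q} (h0 : act 8 p0 = p1) (h1 : act 2 p1 = p2) (h3 : act 2 q3 = p0) : act 8 p2 = q3 := by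
  have hr := R22 p0
  subst h0
  subst h1
  subst h3
  exact ij (hr)

theorem d22_3 {p0 p1 p2 p3 : Q} (h0 : act 8 p0 = p1) (h1 : act 2 p1 = p2) (h2 : act 8 p2 = p3) : act 2 p3 = p0 := by
  have hr := R22 p0
  subst h0
  subst h1
  subst h2
  exact hr

theorem d23_0 {p0 q1 q2 q3 : Q} (h1 : act 2 q1 = q2) (h2 : act 9 q2 = q3) (h3 : act 2 q3 = p0) : act 9 p0 = q1 := by
  have hr := R23 p0
  subst h3
  subst h2
  subst h1
  exact ij (ij (ij (hr)))

theorem d23_1 {p0 p1 q2 q3 : Q} (h0 : act 9 p0 = p1) (h2 : act 9 q2 = q3) (h3 : act 2 q3 = p0) : act 2 p1 = q2 := by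
  have hr := R23 p0
  subst h0
  subst h3
  subst h2
  exact ij (ij (hr))

theorem d23_2 {p0 p1 p2 q3 : Q} (h0 : act 9 p0 = p1) (h1 : act 2 p1 = p2) (h3 : act 2 q3 = p0) : act 9 p2 = q3 := by
  have hr := R23 p0
  subst h0
  subst h1
  subst h3
  exact ij (hr)

theorem d24_0 {p0 q1 q2 q3 q4 q5 : Q} (h1 : act 3 q1 = q2) (h2 : act 4 q2 = q3) (h3 : act 3 q3 = q4) (h4 : act 4 q4 = q5) (h5 : act 3 q5 = p0) : act 4 p0 = q1 := by
  have hr := R24 p0
  subst h5
  subst h4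
  subst h3
  subst h2
  subst h1
  exact ij (ij (ij (ij (ij (hr)))))

theorem d24_1 {p0 p1 q2 q3 q4 q5 : Q} (h0 : act 4 p0 = p1) (h2 : act 4 q2 = q3) (h3 : act 3 q3 = q4) (h4 : act 4 q4 = q5) (h5 : act 3 q5 = p0) : act 3 p1 = q2 := by
  have hr := R24 p0
  subst h0
  subst h5
  subst h4
  subst h3
  subst h2
  exact ij (ij (ij (ij (hr))))

theorem d24_2 {p0 p1 p2 q3 q4 q5 : Q} (h0 : act 4 p0 = p1) (h1 : act 3 p1 = p2) (h3 : act 3 q3 = q4) (h4 : act 4 q4 = q5) (h5 : act 3 q5 = p0) : act 4 p2 = q3 := by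
  have hr := R24 p0
  subst h0
  subst h1
  subst h5
  subst h4
  subst h3
  exact ij (ij (ij (hr)))

theorem d24_4 {p0 p1 p2 p3 p4 q5 : Q} (h0 : act 4 p0 = p1) (h1 : act 3 p1 = p2) (h2 : act 4 p2 = p3) (h3 : act 3 p3 = p4) (h5 : act 3 q5 = p0) : act 4 p4 = q5 := by
  have hr := R24 p0
  subst h0
  subst h1
  subst h2
  subst h3
  subst h5
  exact ij (hr)

theorem d24_5 {p0 p1 p2 p3 p4 p5 : Q} (h0 : act 4 p0 = p1) (h1 : act 3 p1 = p2) (h2 : act 4 p2 = p3) (h3 : act 3 p3 = p4) (h4 : act 4 p4 = p5) : act 3 p5 = p0 := by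
  have hr := R24 p0
  subst h0
  subst h1
  subst h2
  subst h3
  subst h4
  exact hr

theorem d25_0 {p0 q1 q2 q3 : Q} (h1 : act 3 q1 = q2) (h2 : act 5 q2 = q3) (h3 : act 3 q3 = p0) : act 5 p0 = q1 := by
  have hr := R25 p0
  subst h3
  subst h2
  subst h1
  exact ij (ij (ij (hr)))

theorem d25_1 {p0 p1 q2 q3 : Q} (h0 : act 5 p0 = p1) (h2 : act 5 q2 = q3) (h3 : act 3 q3 = p0) : act 3 p1 = q2 := by
  have hr := R25 p0
  subst h0
  subst h3
  subst h2
  exact ij (ij (hr))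

theorem d25_2 {p0 p1 p2 q3 : Q} (h0 : act 5 p0 = p1) (h1 : act 3 p1 = p2) (h3 : act 3 q3 = p0) : act 5 p2 = q3 := by
  have hr := R25 p0
  subst h0
  subst h1
  subst h3
  exact ij (hr)

theorem d25_3 {p0 p1 p2 p3 : Q} (h0 : act 5 p0 = p1) (h1 : act 3 p1 = p2) (h2 : act 5 p2 = p3) : act 3 p3 = p0 := by
  have hr := R25 p0
  subst h0
  subst h1
  subst h2
  exact hr

theorem d26_0 {p0 q1 q2 q3 : Q} (h1 : act 3 q1 = q2) (h2 : act 6 q2 = q3) (h3 : act 3 q3 = p0) : act 6 p0 = q1 := by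
  have hr := R26 p0
  subst h3
  subst h2
  subst h1
  exact ij (ij (ij (hr)))

theorem d26_1 {p0 p1 q2 q3 : Q} (h0 : act 6 p0 = p1) (h2 : act 6 q2 = q3) (h3 : act 3 q3 = p0) : act 3 p1 = q2 := by
  have hr := R26 p0
  subst h0
  subst h3
  subst h2
  exact ij (ij (hr))

theorem d26_2 {p0 p1 p2 q3 : Q} (h0 : act 6 p0 = p1) (h1 : act 3 p1 = p2) (h3 : act 3 q3 = p0) : act 6 p2 = q3 := by
  have hr := R26 p0
  subst h0
  subst h1
  subst h3
  exact ij (hr)

theorem d26_3 {p0 p1 p2 p3 : Q} (h0 : act 6 p0 = p1) (h1 : act 3 p1 = p2) (h2 : act 6 p2 = p3) : act 3 p3 = p0 := by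
  have hr := R26 p0
  subst h0
  subst h1
  subst h2
  exact hr

theorem d27_0 {p0 q1 q2 q3 : Q} (h1 : act 3 q1 = q2) (h2 : act 7 q2 = q3) (h3 : act 3 q3 = p0) : act 7 p0 = q1 := by
  have hr := R27 p0
  subst h3
  subst h2
  subst h1
  exact ij (ij (ij (hr)))

theorem d27_1 {p0 p1 q2 q3 : Q} (h0 : act 7 p0 = p1) (h2 : act 7 q2 = q3) (h3 : act 3 q3 = p0) : act 3 p1 = q2 := by
  have hr := R27 p0
  subst h0
  subst h3
  subst h2
  exact ij (ij (hr))

theorem d27_2 {p0 p1 p2 q3 : Q} (h0 : act 7 p0 = p1) (h1 : act 3 p1 = p2) (h3 : act 3 q3 = p0) : act 7 p2 = q3 := by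
  have hr := R27 p0
  subst h0
  subst h1
  subst h3
  exact ij (hr)

theorem d27_3 {p0 p1 p2 p3 : Q} (h0 : act 7 p0 = p1) (h1 : act 3 p1 = p2) (h2 : act 7 p2 = p3) : act 3 p3 = p0 := by
  have hr := R27 p0
  subst h0
  subst h1
  subst h2
  exact hr

theorem d28_0 {p0 q1 q2 q3 q4 q5 : Q} (h1 : act 3 q1 = q2) (h2 : act 8 q2 = q3) (h3 : act 3 q3 = q4) (h4 : act 8 q4 = q5) (h5 : act 3 q5 = p0) : act 8 p0 = q1 := by
  have hr := R28 p0
  subst h5
  subst h4
  subst h3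
  subst h2
  subst h1
  exact ij (ij (ij (ij (ij (hr)))))

theorem d28_1 {p0 p1 q2 q3 q4 q5 : Q} (h0 : act 8 p0 = p1) (h2 : act 8 q2 = q3) (h3 : act 3 q3 = q4) (h4 : act 8 q4 = q5) (h5 : act 3 q5 = p0) : act 3 p1 = q2 := by
  have hr := R28 p0
  subst h0
  subst h5
  subst h4
  subst h3
  subst h2
  exact ij (ij (ij (ij (hr))))

theorem d28_2 {p0 p1 p2 q3 q4 q5 : Q} (h0 : act 8 p0 = p1) (h1 : act 3 p1 = p2) (h3 : act 3 q3 = q4) (h4 : act 8 q4 = q5) (h5 : act 3 q5 = p0) : act 8 p2 = q3 := by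
  have hr := R28 p0
  subst h0
  subst h1
  subst h5
  subst h4
  subst h3
  exact ij (ij (ij (hr)))

theorem d28_4 {p0 p1 p2 p3 p4 q5 : Q} (h0 : act 8 p0 = p1) (h1 : act 3 p1 = p2) (h2 : act 8 p2 = p3) (h3 : act 3 p3 = p4) (h5 : act 3 q5 = p0) : act 8 p4 = q5 := by
  have hr := R28 p0
  subst h0
  subst h1
  subst h2
  subst h3
  subst h5
  exact ij (hr)

theorem d28_5 {p0 p1 p2 p3 p4 p5 : Q} (h0 : act 8 p0 = p1) (h1 : act 3 p1 = p2) (h2 : act 8 p2 = p3) (h3 : act 3 p3 = p4) (h4 : act 8 p4 = p5) : act 3 p5 = p0 := by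
  have hr := R28 p0
  subst h0
  subst h1
  subst h2
  subst h3
  subst h4
  exact hr

theorem d29_0 {p0 q1 q2 q3 : Q} (h1 : act 3 q1 = q2) (h2 : act 9 q2 = q3) (h3 : act 3 q3 = p0) : act 9 p0 = q1 := by
  have hr := R29 p0
  subst h3
  subst h2
  subst h1
  exact ij (ij (ij (hr)))

theorem d29_1 {p0 p1 q2 q3 : Q} (h0 : act 9 p0 = p1) (h2 : act 9 q2 = q3) (h3 : act 3 q3 = p0) : act 3 p1 = q2 := by
  have hr := R29 p0
  subst h0
  subst h3
  subst h2
  exact ij (ij (hr))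

theorem d29_2 {p0 p1 p2 q3 : Q} (h0 : act 9 p0 = p1) (h1 : act 3 p1 = p2) (h3 : act 3 q3 = p0) : act 9 p2 = q3 := by
  have hr := R29 p0
  subst h0
  subst h1
  subst h3
  exact ij (hr)

theorem d29_3 {p0 p1 p2 p3 : Q} (h0 : act 9 p0 = p1) (h1 : act 3 p1 = p2) (h2 : act 9 p2 = p3) : act 3 p3 = p0 := by
  have hr := R29 p0
  subst h0
  subst h1
  subst h2
  exact hr

theorem d30_1 {p0 p1 q2 q3 q4 q5 : Q} (h0 : act 5 p0 = p1) (h2 : act 5 q2 = q3) (h3 : act 4 q3 = q4) (h4 : act 5 q4 = q5) (h5 : act 4 q5 = p0) : act 4 p1 = q2 := by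
  have hr := R30 p0
  subst h0
  subst h5
  subst h4
  subst h3
  subst h2
  exact ij (ij (ij (ij (hr))))

theorem d30_2 {p0 p1 p2 q3 q4 q5 : Q} (h0 : act 5 p0 = p1) (h1 : act 4 p1 = p2) (h3 : act 4 q3 = q4) (h4 : act 5 q4 = q5) (h5 : act 4 q5 = p0) : act 5 p2 = q3 := by
  have hr := R30 p0
  subst h0
  subst h1
  subst h5
  subst h4
  subst h3
  exact ij (ij (ij (hr)))

theorem d30_5 {p0 p1 p2 p3 p4 p5 : Q} (h0 : act 5 p0 = p1) (h1 : act 4 p1 = p2) (h2 : act 5 p2 = p3) (h3 : act 4 p3 = p4) (h4 : act 5 p4 = p5) : act 4 p5 = p0 := by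
  have hr := R30 p0
  subst h0
  subst h1
  subst h2
  subst h3
  subst h4
  exact hr

theorem d31_0 {p0 q1 q2 q3 : Q} (h1 : act 4 q1 = q2) (h2 : act 6 q2 = q3) (h3 : act 4 q3 = p0) : act 6 p0 = q1 := by
  have hr := R31 p0
  subst h3
  subst h2
  subst h1
  exact ij (ij (ij (hr)))

theorem d31_1 {p0 p1 q2 q3 : Q} (h0 : act 6 p0 = p1) (h2 : act 6 q2 = q3) (h3 : act 4 q3 = p0) : act 4 p1 = q2 := by
  have hr := R31 p0
  subst h0
  subst h3
  subst h2
  exact ij (ij (hr))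

theorem d31_2 {p0 p1 p2 q3 : Q} (h0 : act 6 p0 = p1) (h1 : act 4 p1 = p2) (h3 : act 4 q3 = p0) : act 6 p2 = q3 := by
  have hr := R31 p0
  subst h0
  subst h1
  subst h3
  exact ij (hr)

theorem d31_3 {p0 p1 p2 p3 : Q} (h0 : act 6 p0 = p1) (h1 : act 4 p1 = p2) (h2 : act 6 p2 = p3) : act 4 p3 = p0 := by
  have hr := R31 p0
  subst h0
  subst h1
  subst h2
  exact hr

theorem d32_0 {p0 q1 q2 q3 : Q} (h1 : act 4 q1 = q2) (h2 : act 7 q2 = q3) (h3 : act 4 q3 = p0) : act 7 p0 = q1 := by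
  have hr := R32 p0
  subst h3
  subst h2
  subst h1
  exact ij (ij (ij (hr)))

theorem d32_1 {p0 p1 q2 q3 : Q} (h0 : act 7 p0 = p1) (h2 : act 7 q2 = q3) (h3 : act 4 q3 = p0) : act 4 p1 = q2 := by
  have hr := R32 p0
  subst h0
  subst h3
  subst h2
  exact ij (ij (hr))

theorem d32_2 {p0 p1 p2 q3 : Q} (h0 : act 7 p0 = p1) (h1 : act 4 p1 = p2) (h3 : act 4 q3 = p0) : act 7 p2 = q3 := by
  have hr := R32 p0
  subst h0
  subst h1
  subst h3
  exact ij (hr)

theorem d32_3 {p0 p1 p2 p3 : Q} (h0 : act 7 p0 = p1) (h1 : act 4 p1 = p2) (h2 : act 7 p2 = p3) : act 4 p3 = p0 := by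
  have hr := R32 p0
  subst h0
  subst h1
  subst h2
  exact hr

theorem d33_0 {p0 q1 q2 q3 : Q} (h1 : act 4 q1 = q2) (h2 : act 8 q2 = q3) (h3 : act 4 q3 = p0) : act 8 p0 = q1 := by
  have hr := R33 p0
  subst h3
  subst h2
  subst h1
  exact ij (ij (ij (hr)))

theorem d33_1 {p0 p1 q2 q3 : Q} (h0 : act 8 p0 = p1) (h2 : act 8 q2 = q3) (h3 : act 4 q3 = p0) : act 4 p1 = q2 := by
  have hr := R33 p0
  subst h0
  subst h3
  subst h2
  exact ij (ij (hr))

theorem d33_2 {p0 p1 p2 q3 : Q} (h0 : act 8 p0 = p1) (h1 : act 4 p1 = p2) (h3 : act 4 q3 = p0) : act 8 p2 = q3 := by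
  have hr := R33 p0
  subst h0
  subst h1
  subst h3
  exact ij (hr)

theorem d33_3 {p0 p1 p2 p3 : Q} (h0 : act 8 p0 = p1) (h1 : act 4 p1 = p2) (h2 : act 8 p2 = p3) : act 4 p3 = p0 := by
  have hr := R33 p0
  subst h0
  subst h1
  subst h2
  exact hr

theorem d34_0 {p0 q1 q2 q3 : Q} (h1 : act 4 q1 = q2) (h2 : act 9 q2 = q3) (h3 : act 4 q3 = p0) : act 9 p0 = q1 := by
  have hr := R34 p0
  subst h3
  subst h2
  subst h1
  exact ij (ij (ij (hr)))

theorem d34_1 {p0 p1 q2 q3 : Q} (h0 : act 9 p0 = p1) (h2 : act 9 q2 = q3) (h3 : act 4 q3 = p0) : act 4 p1 = q2 := by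
  have hr := R34 p0
  subst h0
  subst h3
  subst h2
  exact ij (ij (hr))

theorem d34_2 {p0 p1 p2 q3 : Q} (h0 : act 9 p0 = p1) (h1 : act 4 p1 = p2) (h3 : act 4 q3 = p0) : act 9 p2 = q3 := by
  have hr := R34 p0
  subst h0
  subst h1
  subst h3
  exact ij (hr)

theorem d34_3 {p0 p1 p2 p3 : Q} (h0 : act 9 p0 = p1) (h1 : act 4 p1 = p2) (h2 : act 9 p2 = p3) : act 4 p3 = p0 := by
  have hr := R34 p0
  subst h0
  subst h1
  subst h2
  exact hr

theorem d35_1 {p0 p1 q2 q3 q4 q5 : Q} (h0 : act 6 p0 = p1) (h2 : act 6 q2 = q3) (h3 : act 5 q3 = q4) (h4 : act 6 q4 = q5) (h5 : act 5 q5 = p0) : act 5 p1 = q2 := by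
  have hr := R35 p0
  subst h0
  subst h5
  subst h4
  subst h3
  subst h2
  exact ij (ij (ij (ij (hr))))

theorem d35_2 {p0 p1 p2 q3 q4 q5 : Q} (h0 : act 6 p0 = p1) (h1 : act 5 p1 = p2) (h3 : act 5 q3 = q4) (h4 : act 6 q4 = q5) (h5 : act 5 q5 = p0) : act 6 p2 = q3 := by
  have hr := R35 p0
  subst h0
  subst h1
  subst h5
  subst h4
  subst h3
  exact ij (ij (ij (hr)))

theorem d35_4 {p0 p1 p2 p3 p4 q5 : Q} (h0 : act 6 p0 = p1) (h1 : act 5 p1 = p2) (h2 : act 6 p2 = p3) (h3 : act 5 p3 = p4) (h5 : act 5 q5 = p0) : act 6 p4 = q5 := by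
  have hr := R35 p0
  subst h0
  subst h1
  subst h2
  subst h3
  subst h5
  exact ij (hr)

theorem d35_5 {p0 p1 p2 p3 p4 p5 : Q} (h0 : act 6 p0 = p1) (h1 : act 5 p1 = p2) (h2 : act 6 p2 = p3) (h3 : act 5 p3 = p4) (h4 : act 6 p4 = p5) : act 5 p5 = p0 := by
  have hr := R35 p0
  subst h0
  subst h1
  subst h2
  subst h3
  subst h4
  exact hr

theorem d36_0 {p0 q1 q2 q3 : Q} (h1 : act 5 q1 = q2) (h2 : act 7 q2 = q3) (h3 : act 5 q3 = p0) : act 7 p0 = q1 := by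
  have hr := R36 p0
  subst h3
  subst h2
  subst h1
  exact ij (ij (ij (hr)))

theorem d36_1 {p0 p1 q2 q3 : Q} (h0 : act 7 p0 = p1) (h2 : act 7 q2 = q3) (h3 : act 5 q3 = p0) : act 5 p1 = q2 := by
  have hr := R36 p0
  subst h0
  subst h3
  subst h2
  exact ij (ij (hr))

theorem d36_2 {p0 p1 p2 q3 : Q} (h0 : act 7 p0 = p1) (h1 : act 5 p1 = p2) (h3 : act 5 q3 = p0) : act 7 p2 = q3 := by
  have hr := R36 p0
  subst h0
  subst h1
  subst h3
  exact ij (hr)

theorem d36_3 {p0 p1 p2 p3 : Q} (h0 : act 7 p0 = p1) (h1 : act 5 p1 = p2) (h2 : act 7 p2 = p3) : act 5 p3 = p0 := by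
  have hr := R36 p0
  subst h0
  subst h1
  subst h2
  exact hr

theorem d37_0 {p0 q1 q2 q3 : Q} (h1 : act 5 q1 = q2) (h2 : act 8 q2 = q3) (h3 : act 5 q3 = p0) : act 8 p0 = q1 := by
  have hr := R37 p0
  subst h3
  subst h2
  subst h1
  exact ij (ij (ij (hr)))

theorem d37_1 {p0 p1 q2 q3 : Q} (h0 : act 8 p0 = p1) (h2 : act 8 q2 = q3) (h3 : act 5 q3 = p0) : act 5 p1 = q2 := by
  have hr := R37 p0
  subst h0
  subst h3
  subst h2
  exact ij (ij (hr))

theorem d37_2 {p0 p1 p2 q3 : Q} (h0 : act 8 p0 = p1) (h1 : act 5 p1 = p2) (h3 : act 5 q3 = p0) : act 8 p2 = q3 := by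
  have hr := R37 p0
  subst h0
  subst h1
  subst h3
  exact ij (hr)

theorem d37_3 {p0 p1 p2 p3 : Q} (h0 : act 8 p0 = p1) (h1 : act 5 p1 = p2) (h2 : act 8 p2 = p3) : act 5 p3 = p0 := by
  have hr := R37 p0
  subst h0
  subst h1
  subst h2
  exact hr

theorem d38_0 {p0 q1 q2 q3 : Q} (h1 : act 5 q1 = q2) (h2 : act 9 q2 = q3) (h3 : act 5 q3 = p0) : act 9 p0 = q1 := by
  have hr := R38 p0
  subst h3
  subst h2
  subst h1
  exact ij (ij (ij (hr)))

theorem d38_1 {p0 p1 q2 q3 : Q} (h0 : act 9 p0 = p1) (h2 : act 9 q2 = q3) (h3 : act 5 q3 = p0) : act 5 p1 = q2 := by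
  have hr := R38 p0
  subst h0
  subst h3
  subst h2
  exact ij (ij (hr))

theorem d38_2 {p0 p1 p2 q3 : Q} (h0 : act 9 p0 = p1) (h1 : act 5 p1 = p2) (h3 : act 5 q3 = p0) : act 9 p2 = q3 := by
  have hr := R38 p0
  subst h0
  subst h1
  subst h3
  exact ij (hr)

theorem d38_3 {p0 p1 p2 p3 : Q} (h0 : act 9 p0 = p1) (h1 : act 5 p1 = p2) (h2 : act 9 p2 = p3) : act 5 p3 = p0 := by
  have hr := R38 p0
  subst h0
  subst h1
  subst h2
  exact hr

theorem d39_0 {p0 q1 q2 q3 q4 q5 : Q} (h1 : act 6 q1 = q2) (h2 : act 7 q2 = q3) (h3 : act 6 q3 = q4) (h4 : act 7 q4 = q5) (h5 : act 6 q5 = p0) : act 7 p0 = q1 := by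
  have hr := R39 p0
  subst h5
  subst h4
  subst h3
  subst h2
  subst h1
  exact ij (ij (ij (ij (ij (hr)))))

theorem d39_1 {p0 p1 q2 q3 q4 q5 : Q} (h0 : act 7 p0 = p1) (h2 : act 7 q2 = q3) (h3 : act 6 q3 = q4) (h4 : act 7 q4 = q5) (h5 : act 6 q5 = p0) : act 6 p1 = q2 := by
  have hr := R39 p0
  subst h0
  subst h5
  subst h4
  subst h3
  subst h2
  exact ij (ij (ij (ij (hr))))

theorem d39_2 {p0 p1 p2 q3 q4 q5 : Q} (h0 : act 7 p0 = p1) (h1 : act 6 p1 = p2) (h3 : act 6 q3 = q4) (h4 : act 7 q4 = q5) (h5 : act 6 q5 = p0) : act 7 p2 = q3 := by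
  have hr := R39 p0
  subst h0
  subst h1
  subst h5
  subst h4
  subst h3
  exact ij (ij (ij (hr)))

theorem d39_3 {p0 p1 p2 p3 q4 q5 : Q} (h0 : act 7 p0 = p1) (h1 : act 6 p1 = p2) (h2 : act 7 p2 = p3) (h4 : act 7 q4 = q5) (h5 : act 6 q5 = p0) : act 6 p3 = q4 := by
  have hr := R39 p0
  subst h0
  subst h1
  subst h2
  subst h5
  subst h4
  exact ij (ij (hr))

theorem d39_4 {p0 p1 p2 p3 p4 q5 : Q} (h0 : act 7 p0 = p1) (h1 : act 6 p1 = p2) (h2 : act 7 p2 = p3) (h3 : act 6 p3 = p4) (h5 : act 6 q5 = p0) : act 7 p4 = q5 := by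
  have hr := R39 p0
  subst h0
  subst h1
  subst h2
  subst h3
  subst h5
  exact ij (hr)

theorem d39_5 {p0 p1 p2 p3 p4 p5 : Q} (h0 : act 7 p0 = p1) (h1 : act 6 p1 = p2) (h2 : act 7 p2 = p3) (h3 : act 6 p3 = p4) (h4 : act 7 p4 = p5) : act 6 p5 = p0 := by
  have hr := R39 p0
  subst h0
  subst h1
  subst h2
  subst h3
  subst h4
  exact hr

theorem d40_0 {p0 q1 q2 q3 : Q} (h1 : act 6 q1 = q2) (h2 : act 8 q2 = q3) (h3 : act 6 q3 = p0) : act 8 p0 = q1 := by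
  have hr := R40 p0
  subst h3
  subst h2
  subst h1
  exact ij (ij (ij (hr)))

theorem d40_1 {p0 p1 q2 q3 : Q} (h0 : act 8 p0 = p1) (h2 : act 8 q2 = q3) (h3 : act 6 q3 = p0) : act 6 p1 = q2 := by
  have hr := R40 p0
  subst h0
  subst h3
  subst h2
  exact ij (ij (hr))

theorem d40_2 {p0 p1 p2 q3 : Q} (h0 : act 8 p0 = p1) (h1 : act 6 p1 = p2) (h3 : act 6 q3 = p0) : act 8 p2 = q3 := by
  have hr := R40 p0
  subst h0
  subst h1
  subst h3
  exact ij (hr)

theorem d40_3 {p0 p1 p2 p3 : Q} (h0 : act 8 p0 = p1) (h1 : act 6 p1 = p2) (h2 : act 8 p2 = p3) : act 6 p3 = p0 := by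
  have hr := R40 p0
  subst h0
  subst h1
  subst h2
  exact hr

theorem d41_0 {p0 q1 q2 q3 : Q} (h1 : act 6 q1 = q2) (h2 : act 9 q2 = q3) (h3 : act 6 q3 = p0) : act 9 p0 = q1 := by
  have hr := R41 p0
  subst h3
  subst h2
  subst h1
  exact ij (ij (ij (hr)))

theorem d41_1 {p0 p1 q2 q3 : Q} (h0 : act 9 p0 = p1) (h2 : act 9 q2 = q3) (h3 : act 6 q3 = p0) : act 6 p1 = q2 := by
  have hr := R41 p0
  subst h0
  subst h3
  subst h2
  exact ij (ij (hr))

theorem d41_2 {p0 p1 p2 q3 : Q} (h0 : act 9 p0 = p1) (h1 : act 6 p1 = p2) (h3 : act 6 q3 = p0) : act 9 p2 = q3 := by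
  have hr := R41 p0
  subst h0
  subst h1
  subst h3
  exact ij (hr)

theorem d41_3 {p0 p1 p2 p3 : Q} (h0 : act 9 p0 = p1) (h1 : act 6 p1 = p2) (h2 : act 9 p2 = p3) : act 6 p3 = p0 := by
  have hr := R41 p0
  subst h0
  subst h1
  subst h2
  exact hr

theorem d42_0 {p0 q1 q2 q3 : Q} (h1 : act 7 q1 = q2) (h2 : act 8 q2 = q3) (h3 : act 7 q3 = p0) : act 8 p0 = q1 := by
  have hr := R42 p0
  subst h3
  subst h2
  subst h1
  exact ij (ij (ij (hr)))

theorem d42_1 {p0 p1 q2 q3 : Q} (h0 : act 8 p0 = p1) (h2 : act 8 q2 = q3) (h3 : act 7 q3 = p0) : act 7 p1 = q2 := by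
  have hr := R42 p0
  subst h0
  subst h3
  subst h2
  exact ij (ij (hr))

theorem d42_2 {p0 p1 p2 q3 : Q} (h0 : act 8 p0 = p1) (h1 : act 7 p1 = p2) (h3 : act 7 q3 = p0) : act 8 p2 = q3 := by
  have hr := R42 p0
  subst h0
  subst h1
  subst h3
  exact ij (hr)

theorem d42_3 {p0 p1 p2 p3 : Q} (h0 : act 8 p0 = p1) (h1 : act 7 p1 = p2) (h2 : act 8 p2 = p3) : act 7 p3 = p0 := by
  have hr := R42 p0
  subst h0
  subst h1
  subst h2
  exact hr

theorem d43_0 {p0 q1 q2 q3 : Q} (h1 : act 7 q1 = q2) (h2 : act 9 q2 = q3) (h3 : act 7 q3 = p0) : act 9 p0 = q1 := by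
  have hr := R43 p0
  subst h3
  subst h2
  subst h1
  exact ij (ij (ij (hr)))

theorem d43_1 {p0 p1 q2 q3 : Q} (h0 : act 9 p0 = p1) (h2 : act 9 q2 = q3) (h3 : act 7 q3 = p0) : act 7 p1 = q2 := by
  have hr := R43 p0
  subst h0
  subst h3
  subst h2
  exact ij (ij (hr))

theorem d43_2 {p0 p1 p2 q3 : Q} (h0 : act 9 p0 = p1) (h1 : act 7 p1 = p2) (h3 : act 7 q3 = p0) : act 9 p2 = q3 := by
  have hr := R43 p0
  subst h0
  subst h1
  subst h3
  exact ij (hr)

theorem d43_3 {p0 p1 p2 p3 : Q} (h0 : act 9 p0 = p1) (h1 : act 7 p1 = p2) (h2 : act 9 p2 = p3) : act 7 p3 = p0 := by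
  have hr := R43 p0
  subst h0
  subst h1
  subst h2
  exact hr

theorem d44_0 {p0 q1 q2 q3 q4 q5 : Q} (h1 : act 8 q1 = q2) (h2 : act 9 q2 = q3) (h3 : act 8 q3 = q4) (h4 : act 9 q4 = q5) (h5 : act 8 q5 = p0) : act 9 p0 = q1 := by
  have hr := R44 p0
  subst h5
  subst h4
  subst h3
  subst h2
  subst h1
  exact ij (ij (ij (ij (ij (hr)))))

theorem d44_1 {p0 p1 q2 q3 q4 q5 : Q} (h0 : act 9 p0 = p1) (h2 : act 9 q2 = q3) (h3 : act 8 q3 = q4) (h4 : act 9 q4 = q5) (h5 : act 8 q5 = p0) : act 8 p1 = q2 := by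
  have hr := R44 p0
  subst h0
  subst h5
  subst h4
  subst h3
  subst h2
  exact ij (ij (ij (ij (hr))))

theorem d44_2 {p0 p1 p2 q3 q4 q5 : Q} (h0 : act 9 p0 = p1) (h1 : act 8 p1 = p2) (h3 : act 8 q3 = q4) (h4 : act 9 q4 = q5) (h5 : act 8 q5 = p0) : act 9 p2 = q3 := by
  have hr := R44 p0
  subst h0
  subst h1
  subst h5
  subst h4
  subst h3
  exact ij (ij (ij (hr)))

theorem d44_5 {p0 p1 p2 p3 p4 p5 : Q} (h0 : act 9 p0 = p1) (h1 : act 8 p1 = p2) (h2 : act 9 p2 = p3) (h3 : act 8 p3 = p4) (h4 : act 9 p4 = p5) : act 8 p5 = p0 := by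
  have hr := R44 p0
  subst h0
  subst h1
  subst h2
  subst h3
  subst h4
  exact hr

theorem d45_0 {p0 q1 q2 q3 q4 q5 q6 q7 q8 q9 q10 q11 q12 q13 q14 q15 q16 q17 q18 q19 q20 q21 q22 q23 q24 q25 q26 q27 q28 q29 q30 q31 q32 q33 q34 q35 q36 q37 q38 q39 q40 q41 q42 q43 q44 q45 q46 q47 q48 q49 q50 q51 q52 q53 q54 q55 q56 q57 q58 q59 q60 q61 q62 q63 q64 q65 q66 q67 q68 q69 q70 q71 q72 q73 q74 q75 q76 q77 q78 q79 q80 q81 q82 q83 q84 q85 q86 q87 q88 q89 : Q} (h1 : act 8 q1 = q2) (h2 : act 3 q2 = q3) (h3 : act 5 q3 = q4) (h4 : act 4 q4 = q5) (h5 : act 3 q5 = q6) (h6 : act 1 q6 = q7) (h7 : act 2 q7 = q8) (h8 : act 3 q8 = q9) (h9 : act 9 q9 = q10) (h10 : act 8 q10 = q11) (h11 : act 3 q11 = q12) (h12 : act 5 q12 = q13) (h13 : act 4 q13 = q14) (h14 : act 3 q14 = q15) (h15 : act 1 q15 = q16) (h16 : act 2 q16 = q17) (h17 : act 3 q17 = q18) (h18 : act 9 q18 = q19) (h19 : act 8 q19 = q20) (h20 : act 3 q20 = q21) (h21 : act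 5 q21 = q22) (h22 : act 4 q22 = q23) (h23 : act 3 q23 = q24) (h24 : act 1 q24 = q25) (h25 : act 2 q25 = q26) (h26 : act 3 q26 = q27) (h27 : act 9 q27 = q28) (h28 : act 8 q28 = q29) (h29 : act 3 q29 = q30) (h30 : act 5 q30 = q31) (h31 : act 4 q31 = q32) (h32 : act 3 q32 = q33) (h33 : act 1 q33 = q34) (h34 : act 2 q34 = q35) (h35 : act 3 q35 = q36) (h36 : act 9 q36 = q37) (h37 : act 8 q37 = q38) (h38 : act 3 q38 = q39) (h39 : act 5 q39 = q40) (h40 : act 4 q40 = q41) (h41 : act 3 q41 = q42) (h42 : act 1 q42 = q43) (h43 : act 2 q43 = q44) (h44 : act 3 q44 = q45) (h45 : act 9 q45 = q46) (h46 : act 8 q46 = q47) (h47 : act 3 q47 = q48) (h48 : act 5 q48 = q49) (h49 : act 4 q49 = q50) (h50 : act 3 q50 = q51) (h51 : act 1 q51 = q52) (h52 : act 2 q52 = q53) (h53 : act 3 q53 = q54) (h54 : act 9 q54 = q55) (h55 : act 8 q55 = q56) (h56 : act 3 q56 = q57) (h57 : act 5 q57 = q58) (h58 : act 4 q58 = q59) (h59 : act 3 q59 =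 q60) (h60 : act 1 q60 = q61) (h61 : act 2 q61 = q62) (h62 : act 3 q62 = q63) (h63 : act 9 q63 = q64) (h64 : act 8 q64 = q65) (h65 : act 3 q65 = q66) (h66 : act 5 q66 = q67) (h67 : act 4 q67 = q68) (h68 : act 3 q68 = q69) (h69 : act 1 q69 = q70) (h70 : act 2 q70 = q71) (h71 : act 3 q71 = q72) (h72 : act 9 q72 = q73) (h73 : act 8 q73 = q74) (h74 : act 3 q74 = q75) (h75 : act 5 q75 = q76) (h76 : act 4 q76 = q77) (h77 : act 3 q77 = q78) (h78 : act 1 q78 = q79) (h79 : act 2 q79 = q80) (h80 : act 3 q80 = q81) (h81 : act 9 q81 = q82) (h82 : act 8 q82 = q83) (h83 : act 3 q83 = q84) (h84 : act 5 q84 = q85) (h85 : act 4 q85 = q86) (h86 : act 3 q86 = q87) (h87 : act 1 q87 = q88) (h88 : act 2 q88 = q89) (h89 : act 3 q89 = p0) : act 9 p0 = q1 := by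
  have hr := R45 p0
  subst h89
  subst h88
  subst h87
  subst h86
  subst h85
  subst h84
  subst h83
  subst h82
  subst h81
  subst h80
  subst h79
  subst h78
  subst h77
  subst h76
  subst h75
  subst h74
  subst h73
  subst h72
  subst h71
  subst h70
  subst h69
  subst h68
  subst h67
  subst h66
  subst h65
  subst h64
  subst h63
  subst h62
  subst h61
  subst h60
  subst h59
  subst h58
  subst h57
  subst h56
  subst h55
  subst h54
  subst h53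
  subst h52
  subst h51
  subst h50
  subst h49
  subst h48
  subst h47
  subst h46
  subst h45
  subst h44
  subst h43
  subst h42
  subst h41
  subst h40
  subst h39
  subst h38
  subst h37
  subst h36
  subst h35
  subst h34
  subst h33
  subst h32
  subst h31
  subst h30
  subst h29
  subst h28
  subst h27
  subst h26
  subst h25
  subst h24
  subst h23
  subst h22
  subst h21
  subst h20
  subst h19
  subst h18
  subst h17
  subst h16
  subst h15
  subst h14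
  subst h13
  subst h12
  subst h11
  subst h10
  subst h9
  subst h8
  subst h7
  subst h6
  subst h5
  subst h4
  subst h3
  subst h2
  subst h1
  exact ij (ij (ij (ij (ij (ij (ij (ij (ij (ij (ij (ij (ij (ij (ij (ij (ij (ij (ij (ij (ij (ij (ij (ij (ij (ij (ij (ij (ij (ij (ij (ij (ij (ij (ij (ij (ij (ij (ij (ij (ij (ij (ij (ij (ij (ij (ij (ij (ij (ij (ij (ij (ij (ij (ij (ij (ij (ij (ij (ij (ij (ij (ij (ij (ij (ij (ij (ij (ij (ij (ij (ij (ij (ij (ij (ij (ij (ij (ij (ij (ij (ij (ij (ij (ij (ij (ij (ij (ij (hr)))))))))))))))))))))))))))))))))))))))))))))))))))))))))))))))))))))))))))))))))))))))))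

theorem d45_1 {p0 p1 q2 q3 q4 q5 q6 q7 q8 q9 q10 q11 q12 q13 q14 q15 q16 q17 q18 q19 q20 q21 q22 q23 q24 q25 q26 q27 q28 q29 q30 q31 q32 q33 q34 q35 q36 q37 q38 q39 q40 q41 q42 q43 q44 q45 q46 q47 q48 q49 q50 q51 q52 q53 q54 q55 q56 q57 q58 q59 q60 q61 q62 q63 q64 q65 q66 q67 q68 q69 q70 q71 q72 q73 q74 q75 q76 q77 q78 q79 q80 q81 q82 q83 q84 q85 q86 q87 q88 q89 : Q} (h0 : act 9 p0 = p1) (h2 : act 3 q2 = q3) (h3 : act 5 q3 = q4) (h4 : act 4 q4 = q5) (h5 : act 3 q5 = q6) (h6 : act 1 q6 = q7) (h7 : act 2 q7 = q8) (h8 : act 3 q8 = q9) (h9 : act 9 q9 = q10) (h10 : act 8 q10 = q11) (h11 : act 3 q11 = q12) (h12 : act 5 q12 = q13) (h13 : act 4 q13 = q14) (h14 : act 3 q14 = q15) (h15 : act 1 q15 = q16) (h16 : act 2 q16 = q17) (h17 : act 3 q17 = q18) (h18 : act 9 q18 = q19) (h19 : act 8 q19 = q20) (h20 : act 3 q20 = q21) (h21 : act 5 q21 = q22) (h22 : act 4 q22 = q23) (h23 : act 3 q23 = q24) (h24 : act 1 q24 = q25)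 (h25 : act 2 q25 = q26) (h26 : act 3 q26 = q27) (h27 : act 9 q27 = q28) (h28 : act 8 q28 = q29) (h29 : act 3 q29 = q30) (h30 : act 5 q30 = q31) (h31 : act 4 q31 = q32) (h32 : act 3 q32 = q33) (h33 : act 1 q33 = q34) (h34 : act 2 q34 = q35) (h35 : act 3 q35 = q36) (h36 : act 9 q36 = q37) (h37 : act 8 q37 = q38) (h38 : act 3 q38 = q39) (h39 : act 5 q39 = q40) (h40 : act 4 q40 = q41) (h41 : act 3 q41 = q42) (h42 : act 1 q42 = q43) (h43 : act 2 q43 = q44) (h44 : act 3 q44 = q45) (h45 : act 9 q45 = q46) (h46 : act 8 q46 = q47) (h47 : act 3 q47 = q48) (h48 : act 5 q48 = q49) (h49 : act 4 q49 = q50) (h50 : act 3 q50 = q51) (h51 : act 1 q51 = q52) (h52 : act 2 q52 = q53) (h53 : act 3 q53 = q54) (h54 : act 9 q54 = q55) (h55 : act 8 q55 = q56) (h56 : act 3 q56 = q57) (h57 : act 5 q57 = q58) (h58 : act 4 q58 = q59) (h59 : act 3 q59 = q60) (h60 : act 1 q60 = q61) (h61 : act 2 q61 = q62) (h62 : act 3 q62 = q63) (h63 : act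 9 q63 = q64) (h64 : act 8 q64 = q65) (h65 : act 3 q65 = q66) (h66 : act 5 q66 = q67) (h67 : act 4 q67 = q68) (h68 : act 3 q68 = q69) (h69 : act 1 q69 = q70) (h70 : act 2 q70 = q71) (h71 : act 3 q71 = q72) (h72 : act 9 q72 = q73) (h73 : act 8 q73 = q74) (h74 : act 3 q74 = q75) (h75 : act 5 q75 = q76) (h76 : act 4 q76 = q77) (h77 : act 3 q77 = q78) (h78 : act 1 q78 = q79) (h79 : act 2 q79 = q80) (h80 : act 3 q80 = q81) (h81 : act 9 q81 = q82) (h82 : act 8 q82 = q83) (h83 : act 3 q83 = q84) (h84 : act 5 q84 = q85) (h85 : act 4 q85 = q86) (h86 : act 3 q86 = q87) (h87 : act 1 q87 = q88) (h88 : act 2 q88 = q89) (h89 : act 3 q89 = p0) : act 8 p1 = q2 := by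
  have hr := R45 p0
  subst h0
  subst h89
  subst h88
  subst h87
  subst h86
  subst h85
  subst h84
  subst h83
  subst h82
  subst h81
  subst h80
  subst h79
  subst h78
  subst h77
  subst h76
  subst h75
  subst h74
  subst h73
  subst h72
  subst h71
  subst h70
  subst h69
  subst h68
  subst h67
  subst h66
  subst h65
  subst h64
  subst h63
  subst h62
  subst h61
  subst h60
  subst h59
  subst h58
  subst h57
  subst h56
  subst h55
  subst h54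
  subst h53
  subst h52
  subst h51
  subst h50
  subst h49
  subst h48
  subst h47
  subst h46
  subst h45
  subst h44
  subst h43
  subst h42
  subst h41
  subst h40
  subst h39
  subst h38
  subst h37
  subst h36
  subst h35
  subst h34
  subst h33
  subst h32
  subst h31
  subst h30
  subst h29
  subst h28
  subst h27
  subst h26
  subst h25
  subst h24
  subst h23
  subst h22
  subst h21
  subst h20
  subst h19
  subst h18
  subst h17
  subst h16
  subst h15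
  subst h14
  subst h13
  subst h12
  subst h11
  subst h10
  subst h9
  subst h8
  subst h7
  subst h6
  subst h5
  subst h4
  subst h3
  subst h2
  exact ij (ij (ij (ij (ij (ij (ij (ij (ij (ij (ij (ij (ij (ij (ij (ij (ij (ij (ij (ij (ij (ij (ij (ij (ij (ij (ij (ij (ij (ij (ij (ij (ij (ij (ij (ij (ij (ij (ij (ij (ij (ij (ij (ij (ij (ij (ij (ij (ij (ij (ij (ij (ij (ij (ij (ij (ij (ij (ij (ij (ij (ij (ij (ij (ij (ij (ij (ij (ij (ij (ij (ij (ij (ij (ij (ij (ij (ij (ij (ij (ij (ij (ij (ij (ij (ij (ij (ij (hr))))))))))))))))))))))))))))))))))))))))))))))))))))))))))))))))))))))))))))))))))))))))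

theorem d45_2 {p0 p1 p2 q3 q4 q5 q6 q7 q8 q9 q10 q11 q12 q13 q14 q15 q16 q17 q18 q19 q20 q21 q22 q23 q24 q25 q26 q27 q28 q29 q30 q31 q32 q33 q34 q35 q36 q37 q38 q39 q40 q41 q42 q43 q44 q45 q46 q47 q48 q49 q50 q51 q52 q53 q54 q55 q56 q57 q58 q59 q60 q61 q62 q63 q64 q65 q66 q67 q68 q69 q70 q71 q72 q73 q74 q75 q76 q77 q78 q79 q80 q81 q82 q83 q84 q85 q86 q87 q88 q89 : Q} (h0 : act 9 p0 = p1) (h1 : act 8 p1 = p2) (h3 : act 5 q3 = q4) (h4 : act 4 q4 = q5) (h5 : act 3 q5 = q6) (h6 : act 1 q6 = q7) (h7 : act 2 q7 = q8) (h8 : act 3 q8 = q9) (h9 : act 9 q9 = q10) (h10 : act 8 q10 = q11) (h11 : act 3 q11 = q12) (h12 : act 5 q12 = q13) (h13 : act 4 q13 = q14) (h14 : act 3 q14 = q15) (h15 : act 1 q15 = q16) (h16 : act 2 q16 = q17) (h17 : act 3 q17 = q18) (h18 : act 9 q18 = q19) (h19 : act 8 q19 = q20) (h20 : act 3 q20 = q21) (h21 : act 5 q21 = q22) (h22 : act 4 q22 = q23) (h23 : act 3 q23 = q24) (h24 : act 1 q24 = q25)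 (h25 : act 2 q25 = q26) (h26 : act 3 q26 = q27) (h27 : act 9 q27 = q28) (h28 : act 8 q28 = q29) (h29 : act 3 q29 = q30) (h30 : act 5 q30 = q31) (h31 : act 4 q31 = q32) (h32 : act 3 q32 = q33) (h33 : act 1 q33 = q34) (h34 : act 2 q34 = q35) (h35 : act 3 q35 = q36) (h36 : act 9 q36 = q37) (h37 : act 8 q37 = q38) (h38 : act 3 q38 = q39) (h39 : act 5 q39 = q40) (h40 : act 4 q40 = q41) (h41 : act 3 q41 = q42) (h42 : act 1 q42 = q43) (h43 : act 2 q43 = q44) (h44 : act 3 q44 = q45) (h45 : act 9 q45 = q46) (h46 : act 8 q46 = q47) (h47 : act 3 q47 = q48) (h48 : act 5 q48 = q49) (h49 : act 4 q49 = q50) (h50 : act 3 q50 = q51) (h51 : act 1 q51 = q52) (h52 : act 2 q52 = q53) (h53 : act 3 q53 = q54) (h54 : act 9 q54 = q55) (h55 : act 8 q55 = q56) (h56 : act 3 q56 = q57) (h57 : act 5 q57 = q58) (h58 : act 4 q58 = q59) (h59 : act 3 q59 = q60) (h60 : act 1 q60 = q61) (h61 : act 2 q61 = q62) (h62 : act 3 q62 = q63) (h63 : act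 9 q63 = q64) (h64 : act 8 q64 = q65) (h65 : act 3 q65 = q66) (h66 : act 5 q66 = q67) (h67 : act 4 q67 = q68) (h68 : act 3 q68 = q69) (h69 : act 1 q69 = q70) (h70 : act 2 q70 = q71) (h71 : act 3 q71 = q72) (h72 : act 9 q72 = q73) (h73 : act 8 q73 = q74) (h74 : act 3 q74 = q75) (h75 : act 5 q75 = q76) (h76 : act 4 q76 = q77) (h77 : act 3 q77 = q78) (h78 : act 1 q78 = q79) (h79 : act 2 q79 = q80) (h80 : act 3 q80 = q81) (h81 : act 9 q81 = q82) (h82 : act 8 q82 = q83) (h83 : act 3 q83 = q84) (h84 : act 5 q84 = q85) (h85 : act 4 q85 = q86) (h86 : act 3 q86 = q87) (h87 : act 1 q87 = q88) (h88 : act 2 q88 = q89) (h89 : act 3 q89 = p0) : act 3 p2 = q3 := by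
  have hr := R45 p0
  subst h0
  subst h1
  subst h89
  subst h88
  subst h87
  subst h86
  subst h85
  subst h84
  subst h83
  subst h82
  subst h81
  subst h80
  subst h79
  subst h78
  subst h77
  subst h76
  subst h75
  subst h74
  subst h73
  subst h72
  subst h71
  subst h70
  subst h69
  subst h68
  subst h67
  subst h66
  subst h65
  subst h64
  subst h63
  subst h62
  subst h61
  subst h60
  subst h59
  subst h58
  subst h57
  subst h56
  subst h55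
  subst h54
  subst h53
  subst h52
  subst h51
  subst h50
  subst h49
  subst h48
  subst h47
  subst h46
  subst h45
  subst h44
  subst h43
  subst h42
  subst h41
  subst h40
  subst h39
  subst h38
  subst h37
  subst h36
  subst h35
  subst h34
  subst h33
  subst h32
  subst h31
  subst h30
  subst h29
  subst h28
  subst h27
  subst h26
  subst h25
  subst h24
  subst h23
  subst h22
  subst h21
  subst h20
  subst h19
  subst h18
  subst h17
  subst h16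
  subst h15
  subst h14
  subst h13
  subst h12
  subst h11
  subst h10
  subst h9
  subst h8
  subst h7
  subst h6
  subst h5
  subst h4
  subst h3
  exact ij (ij (ij (ij (ij (ij (ij (ij (ij (ij (ij (ij (ij (ij (ij (ij (ij (ij (ij (ij (ij (ij (ij (ij (ij (ij (ij (ij (ij (ij (ij (ij (ij (ij (ij (ij (ij (ij (ij (ij (ij (ij (ij (ij (ij (ij (ij (ij (ij (ij (ij (ij (ij (ij (ij (ij (ij (ij (ij (ij (ij (ij (ij (ij (ij (ij (ij (ij (ij (ij (ij (ij (ij (ij (ij (ij (ij (ij (ij (ij (ij (ij (ij (ij (ij (ij (ij (hr)))))))))))))))))))))))))))))))))))))))))))))))))))))))))))))))))))))))))))))))))))))))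

theorem d45_3 {p0 p1 p2 p3 q4 q5 q6 q7 q8 q9 q10 q11 q12 q13 q14 q15 q16 q17 q18 q19 q20 q21 q22 q23 q24 q25 q26 q27 q28 q29 q30 q31 q32 q33 q34 q35 q36 q37 q38 q39 q40 q41 q42 q43 q44 q45 q46 q47 q48 q49 q50 q51 q52 q53 q54 q55 q56 q57 q58 q59 q60 q61 q62 q63 q64 q65 q66 q67 q68 q69 q70 q71 q72 q73 q74 q75 q76 q77 q78 q79 q80 q81 q82 q83 q84 q85 q86 q87 q88 q89 : Q} (h0 : act 9 p0 = p1) (h1 : act 8 p1 = p2) (h2 : act 3 p2 = p3) (h4 : act 4 q4 = q5) (h5 : act 3 q5 = q6) (h6 : act 1 q6 = q7) (h7 : act 2 q7 = q8) (h8 : act 3 q8 = q9) (h9 : act 9 q9 = q10) (h10 : act 8 q10 = q11) (h11 : act 3 q11 = q12) (h12 : act 5 q12 = q13) (h13 : act 4 q13 = q14) (h14 : act 3 q14 = q15) (h15 : act 1 q15 = q16) (h16 : act 2 q16 = q17) (h17 : act 3 q17 = q18) (h18 : act 9 q18 = q19) (h19 : act 8 q19 = q20) (h20 : act 3 q20 = q21) (h21 : act 5 q21 = q22) (h22 : act 4 q22 = q23) (h23 : act 3 q23 = q24) (h24 : act 1 q24 = q25)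 (h25 : act 2 q25 = q26) (h26 : act 3 q26 = q27) (h27 : act 9 q27 = q28) (h28 : act 8 q28 = q29) (h29 : act 3 q29 = q30) (h30 : act 5 q30 = q31) (h31 : act 4 q31 = q32) (h32 : act 3 q32 = q33) (h33 : act 1 q33 = q34) (h34 : act 2 q34 = q35) (h35 : act 3 q35 = q36) (h36 : act 9 q36 = q37) (h37 : act 8 q37 = q38) (h38 : act 3 q38 = q39) (h39 : act 5 q39 = q40) (h40 : act 4 q40 = q41) (h41 : act 3 q41 = q42) (h42 : act 1 q42 = q43) (h43 : act 2 q43 = q44) (h44 : act 3 q44 = q45) (h45 : act 9 q45 = q46) (h46 : act 8 q46 = q47) (h47 : act 3 q47 = q48) (h48 : act 5 q48 = q49) (h49 : act 4 q49 = q50) (h50 : act 3 q50 = q51) (h51 : act 1 q51 = q52) (h52 : act 2 q52 = q53) (h53 : act 3 q53 = q54) (h54 : act 9 q54 = q55) (h55 : act 8 q55 = q56) (h56 : act 3 q56 = q57) (h57 : act 5 q57 = q58) (h58 : act 4 q58 = q59) (h59 : act 3 q59 = q60) (h60 : act 1 q60 = q61) (h61 : act 2 q61 = q62) (h62 : act 3 q62 = q63) (h63 : act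 9 q63 = q64) (h64 : act 8 q64 = q65) (h65 : act 3 q65 = q66) (h66 : act 5 q66 = q67) (h67 : act 4 q67 = q68) (h68 : act 3 q68 = q69) (h69 : act 1 q69 = q70) (h70 : act 2 q70 = q71) (h71 : act 3 q71 = q72) (h72 : act 9 q72 = q73) (h73 : act 8 q73 = q74) (h74 : act 3 q74 = q75) (h75 : act 5 q75 = q76) (h76 : act 4 q76 = q77) (h77 : act 3 q77 = q78) (h78 : act 1 q78 = q79) (h79 : act 2 q79 = q80) (h80 : act 3 q80 = q81) (h81 : act 9 q81 = q82) (h82 : act 8 q82 = q83) (h83 : act 3 q83 = q84) (h84 : act 5 q84 = q85) (h85 : act 4 q85 = q86) (h86 : act 3 q86 = q87) (h87 : act 1 q87 = q88) (h88 : act 2 q88 = q89) (h89 : act 3 q89 = p0) : act 5 p3 = q4 := by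
  have hr := R45 p0
  subst h0
  subst h1
  subst h2
  subst h89
  subst h88
  subst h87
  subst h86
  subst h85
  subst h84
  subst h83
  subst h82
  subst h81
  subst h80
  subst h79
  subst h78
  subst h77
  subst h76
  subst h75
  subst h74
  subst h73
  subst h72
  subst h71
  subst h70
  subst h69
  subst h68
  subst h67
  subst h66
  subst h65
  subst h64
  subst h63
  subst h62
  subst h61
  subst h60
  subst h59
  subst h58
  subst h57
  subst h56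
  subst h55
  subst h54
  subst h53
  subst h52
  subst h51
  subst h50
  subst h49
  subst h48
  subst h47
  subst h46
  subst h45
  subst h44
  subst h43
  subst h42
  subst h41
  subst h40
  subst h39
  subst h38
  subst h37
  subst h36
  subst h35
  subst h34
  subst h33
  subst h32
  subst h31
  subst h30
  subst h29
  subst h28
  subst h27
  subst h26
  subst h25
  subst h24
  subst h23
  subst h22
  subst h21
  subst h20
  subst h19
  subst h18
  subst h17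
  subst h16
  subst h15
  subst h14
  subst h13
  subst h12
  subst h11
  subst h10
  subst h9
  subst h8
  subst h7
  subst h6
  subst h5
  subst h4
  exact ij (ij (ij (ij (ij (ij (ij (ij (ij (ij (ij (ij (ij (ij (ij (ij (ij (ij (ij (ij (ij (ij (ij (ij (ij (ij (ij (ij (ij (ij (ij (ij (ij (ij (ij (ij (ij (ij (ij (ij (ij (ij (ij (ij (ij (ij (ij (ij (ij (ij (ij (ij (ij (ij (ij (ij (ij (ij (ij (ij (ij (ij (ij (ij (ij (ij (ij (ij (ij (ij (ij (ij (ij (ij (ij (ij (ij (ij (ij (ij (ij (ij (ij (ij (ij (ij (hr))))))))))))))))))))))))))))))))))))))))))))))))))))))))))))))))))))))))))))))))))))))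

theorem d45_4 {p0 p1 p2 p3 p4 q5 q6 q7 q8 q9 q10 q11 q12 q13 q14 q15 q16 q17 q18 q19 q20 q21 q22 q23 q24 q25 q26 q27 q28 q29 q30 q31 q32 q33 q34 q35 q36 q37 q38 q39 q40 q41 q42 q43 q44 q45 q46 q47 q48 q49 q50 q51 q52 q53 q54 q55 q56 q57 q58 q59 q60 q61 q62 q63 q64 q65 q66 q67 q68 q69 q70 q71 q72 q73 q74 q75 q76 q77 q78 q79 q80 q81 q82 q83 q84 q85 q86 q87 q88 q89 : Q} (h0 : act 9 p0 = p1) (h1 : act 8 p1 = p2) (h2 : act 3 p2 = p3) (h3 : act 5 p3 = p4) (h5 : act 3 q5 = q6) (h6 : act 1 q6 = q7) (h7 : act 2 q7 = q8) (h8 : act 3 q8 = q9) (h9 : act 9 q9 = q10) (h10 : act 8 q10 = q11) (h11 : act 3 q11 = q12) (h12 : act 5 q12 = q13) (h13 : act 4 q13 = q14) (h14 : act 3 q14 = q15) (h15 : act 1 q15 = q16) (h16 : act 2 q16 = q17) (h17 : act 3 q17 = q18) (h18 : act 9 q18 = q19) (h19 : act 8 q19 = q20) (h20 : act 3 q20 = q21) (h21 : act 5 q21 = q22) (h22 : act 4 q22 = q23) (h23 : act 3 q23 = q24) (h24 : act 1 q24 = q25)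 (h25 : act 2 q25 = q26) (h26 : act 3 q26 = q27) (h27 : act 9 q27 = q28) (h28 : act 8 q28 = q29) (h29 : act 3 q29 = q30) (h30 : act 5 q30 = q31) (h31 : act 4 q31 = q32) (h32 : act 3 q32 = q33) (h33 : act 1 q33 = q34) (h34 : act 2 q34 = q35) (h35 : act 3 q35 = q36) (h36 : act 9 q36 = q37) (h37 : act 8 q37 = q38) (h38 : act 3 q38 = q39) (h39 : act 5 q39 = q40) (h40 : act 4 q40 = q41) (h41 : act 3 q41 = q42) (h42 : act 1 q42 = q43) (h43 : act 2 q43 = q44) (h44 : act 3 q44 = q45) (h45 : act 9 q45 = q46) (h46 : act 8 q46 = q47) (h47 : act 3 q47 = q48) (h48 : act 5 q48 = q49) (h49 : act 4 q49 = q50) (h50 : act 3 q50 = q51) (h51 : act 1 q51 = q52) (h52 : act 2 q52 = q53) (h53 : act 3 q53 = q54) (h54 : act 9 q54 = q55) (h55 : act 8 q55 = q56) (h56 : act 3 q56 = q57) (h57 : act 5 q57 = q58) (h58 : act 4 q58 = q59) (h59 : act 3 q59 = q60) (h60 : act 1 q60 = q61) (h61 : act 2 q61 = q62) (h62 : act 3 q62 = q63) (h63 : act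 9 q63 = q64) (h64 : act 8 q64 = q65) (h65 : act 3 q65 = q66) (h66 : act 5 q66 = q67) (h67 : act 4 q67 = q68) (h68 : act 3 q68 = q69) (h69 : act 1 q69 = q70) (h70 : act 2 q70 = q71) (h71 : act 3 q71 = q72) (h72 : act 9 q72 = q73) (h73 : act 8 q73 = q74) (h74 : act 3 q74 = q75) (h75 : act 5 q75 = q76) (h76 : act 4 q76 = q77) (h77 : act 3 q77 = q78) (h78 : act 1 q78 = q79) (h79 : act 2 q79 = q80) (h80 : act 3 q80 = q81) (h81 : act 9 q81 = q82) (h82 : act 8 q82 = q83) (h83 : act 3 q83 = q84) (h84 : act 5 q84 = q85) (h85 : act 4 q85 = q86) (h86 : act 3 q86 = q87) (h87 : act 1 q87 = q88) (h88 : act 2 q88 = q89) (h89 : act 3 q89 = p0) : act 4 p4 = q5 := by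
  have hr := R45 p0
  subst h0
  subst h1
  subst h2
  subst h3
  subst h89
  subst h88
  subst h87
  subst h86
  subst h85
  subst h84
  subst h83
  subst h82
  subst h81
  subst h80
  subst h79
  subst h78
  subst h77
  subst h76
  subst h75
  subst h74
  subst h73
  subst h72
  subst h71
  subst h70
  subst h69
  subst h68
  subst h67
  subst h66
  subst h65
  subst h64
  subst h63
  subst h62
  subst h61
  subst h60
  subst h59
  subst h58
  subst h57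
  subst h56
  subst h55
  subst h54
  subst h53
  subst h52
  subst h51
  subst h50
  subst h49
  subst h48
  subst h47
  subst h46
  subst h45
  subst h44
  subst h43
  subst h42
  subst h41
  subst h40
  subst h39
  subst h38
  subst h37
  subst h36
  subst h35
  subst h34
  subst h33
  subst h32
  subst h31
  subst h30
  subst h29
  subst h28
  subst h27
  subst h26
  subst h25
  subst h24
  subst h23
  subst h22
  subst h21
  subst h20
  subst h19
  subst h18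
  subst h17
  subst h16
  subst h15
  subst h14
  subst h13
  subst h12
  subst h11
  subst h10
  subst h9
  subst h8
  subst h7
  subst h6
  subst h5
  exact ij (ij (ij (ij (ij (ij (ij (ij (ij (ij (ij (ij (ij (ij (ij (ij (ij (ij (ij (ij (ij (ij (ij (ij (ij (ij (ij (ij (ij (ij (ij (ij (ij (ij (ij (ij (ij (ij (ij (ij (ij (ij (ij (ij (ij (ij (ij (ij (ij (ij (ij (ij (ij (ij (ij (ij (ij (ij (ij (ij (ij (ij (ij (ij (ij (ij (ij (ij (ij (ij (ij (ij (ij (ij (ij (ij (ij (ij (ij (ij (ij (ij (ij (ij (ij (hr)))))))))))))))))))))))))))))))))))))))))))))))))))))))))))))))))))))))))))))))))))))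

theorem d45_5 {p0 p1 p2 p3 p4 p5 q6 q7 q8 q9 q10 q11 q12 q13 q14 q15 q16 q17 q18 q19 q20 q21 q22 q23 q24 q25 q26 q27 q28 q29 q30 q31 q32 q33 q34 q35 q36 q37 q38 q39 q40 q41 q42 q43 q44 q45 q46 q47 q48 q49 q50 q51 q52 q53 q54 q55 q56 q57 q58 q59 q60 q61 q62 q63 q64 q65 q66 q67 q68 q69 q70 q71 q72 q73 q74 q75 q76 q77 q78 q79 q80 q81 q82 q83 q84 q85 q86 q87 q88 q89 : Q} (h0 : act 9 p0 = p1) (h1 : act 8 p1 = p2) (h2 : act 3 p2 = p3) (h3 : act 5 p3 = p4) (h4 : act 4 p4 = p5) (h6 : act 1 q6 = q7) (h7 : act 2 q7 = q8) (h8 : act 3 q8 = q9) (h9 : act 9 q9 = q10) (h10 : act 8 q10 = q11) (h11 : act 3 q11 = q12) (h12 : act 5 q12 = q13) (h13 : act 4 q13 = q14) (h14 : act 3 q14 = q15) (h15 : act 1 q15 = q16) (h16 : act 2 q16 = q17) (h17 : act 3 q17 = q18) (h18 : act 9 q18 = q19) (h19 : act 8 q19 = q20) (h20 : act 3 q20 = q21) (h21 : act 5 q21 = q22) (h22 : act 4 q22 = q23) (h23 : act 3 q23 = q24) (h24 : act 1 q24 = q25)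 (h25 : act 2 q25 = q26) (h26 : act 3 q26 = q27) (h27 : act 9 q27 = q28) (h28 : act 8 q28 = q29) (h29 : act 3 q29 = q30) (h30 : act 5 q30 = q31) (h31 : act 4 q31 = q32) (h32 : act 3 q32 = q33) (h33 : act 1 q33 = q34) (h34 : act 2 q34 = q35) (h35 : act 3 q35 = q36) (h36 : act 9 q36 = q37) (h37 : act 8 q37 = q38) (h38 : act 3 q38 = q39) (h39 : act 5 q39 = q40) (h40 : act 4 q40 = q41) (h41 : act 3 q41 = q42) (h42 : act 1 q42 = q43) (h43 : act 2 q43 = q44) (h44 : act 3 q44 = q45) (h45 : act 9 q45 = q46) (h46 : act 8 q46 = q47) (h47 : act 3 q47 = q48) (h48 : act 5 q48 = q49) (h49 : act 4 q49 = q50) (h50 : act 3 q50 = q51) (h51 : act 1 q51 = q52) (h52 : act 2 q52 = q53) (h53 : act 3 q53 = q54) (h54 : act 9 q54 = q55) (h55 : act 8 q55 = q56) (h56 : act 3 q56 = q57) (h57 : act 5 q57 = q58) (h58 : act 4 q58 = q59) (h59 : act 3 q59 = q60) (h60 : act 1 q60 = q61) (h61 : act 2 q61 = q62) (h62 : act 3 q62 = q63) (h63 : act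 9 q63 = q64) (h64 : act 8 q64 = q65) (h65 : act 3 q65 = q66) (h66 : act 5 q66 = q67) (h67 : act 4 q67 = q68) (h68 : act 3 q68 = q69) (h69 : act 1 q69 = q70) (h70 : act 2 q70 = q71) (h71 : act 3 q71 = q72) (h72 : act 9 q72 = q73) (h73 : act 8 q73 = q74) (h74 : act 3 q74 = q75) (h75 : act 5 q75 = q76) (h76 : act 4 q76 = q77) (h77 : act 3 q77 = q78) (h78 : act 1 q78 = q79) (h79 : act 2 q79 = q80) (h80 : act 3 q80 = q81) (h81 : act 9 q81 = q82) (h82 : act 8 q82 = q83) (h83 : act 3 q83 = q84) (h84 : act 5 q84 = q85) (h85 : act 4 q85 = q86) (h86 : act 3 q86 = q87) (h87 : act 1 q87 = q88) (h88 : act 2 q88 = q89) (h89 : act 3 q89 = p0) : act 3 p5 = q6 := by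
  have hr := R45 p0
  subst h0
  subst h1
  subst h2
  subst h3
  subst h4
  subst h89
  subst h88
  subst h87
  subst h86
  subst h85
  subst h84
  subst h83
  subst h82
  subst h81
  subst h80
  subst h79
  subst h78
  subst h77
  subst h76
  subst h75
  subst h74
  subst h73
  subst h72
  subst h71
  subst h70
  subst h69
  subst h68
  subst h67
  subst h66
  subst h65
  subst h64
  subst h63
  subst h62
  subst h61
  subst h60
  subst h59
  subst h58
  subst h57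
  subst h56
  subst h55
  subst h54
  subst h53
  subst h52
  subst h51
  subst h50
  subst h49
  subst h48
  subst h47
  subst h46
  subst h45
  subst h44
  subst h43
  subst h42
  subst h41
  subst h40
  subst h39
  subst h38
  subst h37
  subst h36
  subst h35
  subst h34
  subst h33
  subst h32
  subst h31
  subst h30
  subst h29
  subst h28
  subst h27
  subst h26
  subst h25
  subst h24
  subst h23
  subst h22
  subst h21
  subst h20
  subst h19
  subst h18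
  subst h17
  subst h16
  subst h15
  subst h14
  subst h13
  subst h12
  subst h11
  subst h10
  subst h9
  subst h8
  subst h7
  subst h6
  exact ij (ij (ij (ij (ij (ij (ij (ij (ij (ij (ij (ij (ij (ij (ij (ij (ij (ij (ij (ij (ij (ij (ij (ij (ij (ij (ij (ij (ij (ij (ij (ij (ij (ij (ij (ij (ij (ij (ij (ij (ij (ij (ij (ij (ij (ij (ij (ij (ij (ij (ij (ij (ij (ij (ij (ij (ij (ij (ij (ij (ij (ij (ij (ij (ij (ij (ij (ij (ij (ij (ij (ij (ij (ij (ij (ij (ij (ij (ij (ij (ij (ij (ij (ij (hr))))))))))))))))))))))))))))))))))))))))))))))))))))))))))))))))))))))))))))))))))))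

theorem d45_6 {p0 p1 p2 p3 p4 p5 p6 q7 q8 q9 q10 q11 q12 q13 q14 q15 q16 q17 q18 q19 q20 q21 q22 q23 q24 q25 q26 q27 q28 q29 q30 q31 q32 q33 q34 q35 q36 q37 q38 q39 q40 q41 q42 q43 q44 q45 q46 q47 q48 q49 q50 q51 q52 q53 q54 q55 q56 q57 q58 q59 q60 q61 q62 q63 q64 q65 q66 q67 q68 q69 q70 q71 q72 q73 q74 q75 q76 q77 q78 q79 q80 q81 q82 q83 q84 q85 q86 q87 q88 q89 : Q} (h0 : act 9 p0 = p1) (h1 : act 8 p1 = p2) (h2 : act 3 p2 = p3) (h3 : act 5 p3 = p4) (h4 : act 4 p4 = p5) (h5 : act 3 p5 = p6) (h7 : act 2 q7 = q8) (h8 : act 3 q8 = q9) (h9 : act 9 q9 = q10) (h10 : act 8 q10 = q11) (h11 : act 3 q11 = q12) (h12 : act 5 q12 = q13) (h13 : act 4 q13 = q14) (h14 : act 3 q14 = q15) (h15 : act 1 q15 = q16) (h16 : act 2 q16 = q17) (h17 : act 3 q17 = q18) (h18 : act 9 q18 = q19) (h19 : act 8 q19 = q20) (h20 : act 3 q20 = q21) (h21 : act 5 q21 = q22) (h22 : act 4 q22 = q23) (h23 : act 3 q23 = q24) (h24 : act 1 q24 = q25)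 (h25 : act 2 q25 = q26) (h26 : act 3 q26 = q27) (h27 : act 9 q27 = q28) (h28 : act 8 q28 = q29) (h29 : act 3 q29 = q30) (h30 : act 5 q30 = q31) (h31 : act 4 q31 = q32) (h32 : act 3 q32 = q33) (h33 : act 1 q33 = q34) (h34 : act 2 q34 = q35) (h35 : act 3 q35 = q36) (h36 : act 9 q36 = q37) (h37 : act 8 q37 = q38) (h38 : act 3 q38 = q39) (h39 : act 5 q39 = q40) (h40 : act 4 q40 = q41) (h41 : act 3 q41 = q42) (h42 : act 1 q42 = q43) (h43 : act 2 q43 = q44) (h44 : act 3 q44 = q45) (h45 : act 9 q45 = q46) (h46 : act 8 q46 = q47) (h47 : act 3 q47 = q48) (h48 : act 5 q48 = q49) (h49 : act 4 q49 = q50) (h50 : act 3 q50 = q51) (h51 : act 1 q51 = q52) (h52 : act 2 q52 = q53) (h53 : act 3 q53 = q54) (h54 : act 9 q54 = q55) (h55 : act 8 q55 = q56) (h56 : act 3 q56 = q57) (h57 : act 5 q57 = q58) (h58 : act 4 q58 = q59) (h59 : act 3 q59 = q60) (h60 : act 1 q60 = q61) (h61 : act 2 q61 = q62) (h62 : act 3 q62 = q63) (h63 : act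 9 q63 = q64) (h64 : act 8 q64 = q65) (h65 : act 3 q65 = q66) (h66 : act 5 q66 = q67) (h67 : act 4 q67 = q68) (h68 : act 3 q68 = q69) (h69 : act 1 q69 = q70) (h70 : act 2 q70 = q71) (h71 : act 3 q71 = q72) (h72 : act 9 q72 = q73) (h73 : act 8 q73 = q74) (h74 : act 3 q74 = q75) (h75 : act 5 q75 = q76) (h76 : act 4 q76 = q77) (h77 : act 3 q77 = q78) (h78 : act 1 q78 = q79) (h79 : act 2 q79 = q80) (h80 : act 3 q80 = q81) (h81 : act 9 q81 = q82) (h82 : act 8 q82 = q83) (h83 : act 3 q83 = q84) (h84 : act 5 q84 = q85) (h85 : act 4 q85 = q86) (h86 : act 3 q86 = q87) (h87 : act 1 q87 = q88) (h88 : act 2 q88 = q89) (h89 : act 3 q89 = p0) : act 1 p6 = q7 := by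
  have hr := R45 p0
  subst h0
  subst h1
  subst h2
  subst h3
  subst h4
  subst h5
  subst h89
  subst h88
  subst h87
  subst h86
  subst h85
  subst h84
  subst h83
  subst h82
  subst h81
  subst h80
  subst h79
  subst h78
  subst h77
  subst h76
  subst h75
  subst h74
  subst h73
  subst h72
  subst h71
  subst h70
  subst h69
  subst h68
  subst h67
  subst h66
  subst h65
  subst h64
  subst h63
  subst h62
  subst h61
  subst h60
  subst h59
  subst h58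
  subst h57
  subst h56
  subst h55
  subst h54
  subst h53
  subst h52
  subst h51
  subst h50
  subst h49
  subst h48
  subst h47
  subst h46
  subst h45
  subst h44
  subst h43
  subst h42
  subst h41
  subst h40
  subst h39
  subst h38
  subst h37
  subst h36
  subst h35
  subst h34
  subst h33
  subst h32
  subst h31
  subst h30
  subst h29
  subst h28
  subst h27
  subst h26
  subst h25
  subst h24
  subst h23
  subst h22
  subst h21
  subst h20
  subst h19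
  subst h18
  subst h17
  subst h16
  subst h15
  subst h14
  subst h13
  subst h12
  subst h11
  subst h10
  subst h9
  subst h8
  subst h7
  exact ij (ij (ij (ij (ij (ij (ij (ij (ij (ij (ij (ij (ij (ij (ij (ij (ij (ij (ij (ij (ij (ij (ij (ij (ij (ij (ij (ij (ij (ij (ij (ij (ij (ij (ij (ij (ij (ij (ij (ij (ij (ij (ij (ij (ij (ij (ij (ij (ij (ij (ij (ij (ij (ij (ij (ij (ij (ij (ij (ij (ij (ij (ij (ij (ij (ij (ij (ij (ij (ij (ij (ij (ij (ij (ij (ij (ij (ij (ij (ij (ij (ij (ij (hr)))))))))))))))))))))))))))))))))))))))))))))))))))))))))))))))))))))))))))))))))))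

theorem d45_7 {p0 p1 p2 p3 p4 p5 p6 p7 q8 q9 q10 q11 q12 q13 q14 q15 q16 q17 q18 q19 q20 q21 q22 q23 q24 q25 q26 q27 q28 q29 q30 q31 q32 q33 q34 q35 q36 q37 q38 q39 q40 q41 q42 q43 q44 q45 q46 q47 q48 q49 q50 q51 q52 q53 q54 q55 q56 q57 q58 q59 q60 q61 q62 q63 q64 q65 q66 q67 q68 q69 q70 q71 q72 q73 q74 q75 q76 q77 q78 q79 q80 q81 q82 q83 q84 q85 q86 q87 q88 q89 : Q} (h0 : act 9 p0 = p1) (h1 : act 8 p1 = p2) (h2 : act 3 p2 = p3) (h3 : act 5 p3 = p4) (h4 : act 4 p4 = p5) (h5 : act 3 p5 = p6) (h6 : act 1 p6 = p7) (h8 : act 3 q8 = q9) (h9 : act 9 q9 = q10) (h10 : act 8 q10 = q11) (h11 : act 3 q11 = q12) (h12 : act 5 q12 = q13) (h13 : act 4 q13 = q14) (h14 : act 3 q14 = q15) (h15 : act 1 q15 = q16) (h16 : act 2 q16 = q17) (h17 : act 3 q17 = q18) (h18 : act 9 q18 = q19) (h19 : act 8 q19 = q20) (h20 : act 3 q20 = q21) (h21 : act 5 q21 = q22) (h22 : act 4 q22 = q23) (h23 : act 3 q23 = q24) (h24 : act 1 q24 = q25)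 (h25 : act 2 q25 = q26) (h26 : act 3 q26 = q27) (h27 : act 9 q27 = q28) (h28 : act 8 q28 = q29) (h29 : act 3 q29 = q30) (h30 : act 5 q30 = q31) (h31 : act 4 q31 = q32) (h32 : act 3 q32 = q33) (h33 : act 1 q33 = q34) (h34 : act 2 q34 = q35) (h35 : act 3 q35 = q36) (h36 : act 9 q36 = q37) (h37 : act 8 q37 = q38) (h38 : act 3 q38 = q39) (h39 : act 5 q39 = q40) (h40 : act 4 q40 = q41) (h41 : act 3 q41 = q42) (h42 : act 1 q42 = q43) (h43 : act 2 q43 = q44) (h44 : act 3 q44 = q45) (h45 : act 9 q45 = q46) (h46 : act 8 q46 = q47) (h47 : act 3 q47 = q48) (h48 : act 5 q48 = q49) (h49 : act 4 q49 = q50) (h50 : act 3 q50 = q51) (h51 : act 1 q51 = q52) (h52 : act 2 q52 = q53) (h53 : act 3 q53 = q54) (h54 : act 9 q54 = q55) (h55 : act 8 q55 = q56) (h56 : act 3 q56 = q57) (h57 : act 5 q57 = q58) (h58 : act 4 q58 = q59) (h59 : act 3 q59 = q60) (h60 : act 1 q60 = q61) (h61 : act 2 q61 = q62) (h62 : act 3 q62 = q63) (h63 : act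 9 q63 = q64) (h64 : act 8 q64 = q65) (h65 : act 3 q65 = q66) (h66 : act 5 q66 = q67) (h67 : act 4 q67 = q68) (h68 : act 3 q68 = q69) (h69 : act 1 q69 = q70) (h70 : act 2 q70 = q71) (h71 : act 3 q71 = q72) (h72 : act 9 q72 = q73) (h73 : act 8 q73 = q74) (h74 : act 3 q74 = q75) (h75 : act 5 q75 = q76) (h76 : act 4 q76 = q77) (h77 : act 3 q77 = q78) (h78 : act 1 q78 = q79) (h79 : act 2 q79 = q80) (h80 : act 3 q80 = q81) (h81 : act 9 q81 = q82) (h82 : act 8 q82 = q83) (h83 : act 3 q83 = q84) (h84 : act 5 q84 = q85) (h85 : act 4 q85 = q86) (h86 : act 3 q86 = q87) (h87 : act 1 q87 = q88) (h88 : act 2 q88 = q89) (h89 : act 3 q89 = p0) : act 2 p7 = q8 := by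
  have hr := R45 p0
  subst h0
  subst h1
  subst h2
  subst h3
  subst h4
  subst h5
  subst h6
  subst h89
  subst h88
  subst h87
  subst h86
  subst h85
  subst h84
  subst h83
  subst h82
  subst h81
  subst h80
  subst h79
  subst h78
  subst h77
  subst h76
  subst h75
  subst h74
  subst h73
  subst h72
  subst h71
  subst h70
  subst h69
  subst h68
  subst h67
  subst h66
  subst h65
  subst h64
  subst h63
  subst h62
  subst h61
  subst h60
  subst h59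
  subst h58
  subst h57
  subst h56
  subst h55
  subst h54
  subst h53
  subst h52
  subst h51
  subst h50
  subst h49
  subst h48
  subst h47
  subst h46
  subst h45
  subst h44
  subst h43
  subst h42
  subst h41
  subst h40
  subst h39
  subst h38
  subst h37
  subst h36
  subst h35
  subst h34
  subst h33
  subst h32
  subst h31
  subst h30
  subst h29
  subst h28
  subst h27
  subst h26
  subst h25
  subst h24
  subst h23
  subst h22
  subst h21
  subst h20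
  subst h19
  subst h18
  subst h17
  subst h16
  subst h15
  subst h14
  subst h13
  subst h12
  subst h11
  subst h10
  subst h9
  subst h8
  exact ij (ij (ij (ij (ij (ij (ij (ij (ij (ij (ij (ij (ij (ij (ij (ij (ij (ij (ij (ij (ij (ij (ij (ij (ij (ij (ij (ij (ij (ij (ij (ij (ij (ij (ij (ij (ij (ij (ij (ij (ij (ij (ij (ij (ij (ij (ij (ij (ij (ij (ij (ij (ij (ij (ij (ij (ij (ij (ij (ij (ij (ij (ij (ij (ij (ij (ij (ij (ij (ij (ij (ij (ij (ij (ij (ij (ij (ij (ij (ij (ij (ij (hr))))))))))))))))))))))))))))))))))))))))))))))))))))))))))))))))))))))))))))))))))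

theorem d45_36 {p0 p1 p2 p3 p4 p5 p6 p7 p8 p9 p10 p11 p12 p13 p14 p15 p16 p17 p18 p19 p20 p21 p22 p23 p24 p25 p26 p27 p28 p29 p30 p31 p32 p33 p34 p35 p36 q37 q38 q39 q40 q41 q42 q43 q44 q45 q46 q47 q48 q49 q50 q51 q52 q53 q54 q55 q56 q57 q58 q59 q60 q61 q62 q63 q64 q65 q66 q67 q68 q69 q70 q71 q72 q73 q74 q75 q76 q77 q78 q79 q80 q81 q82 q83 q84 q85 q86 q87 q88 q89 : Q} (h0 : act 9 p0 = p1) (h1 : act 8 p1 = p2) (h2 : act 3 p2 = p3) (h3 : act 5 p3 = p4) (h4 : act 4 p4 = p5) (h5 : act 3 p5 = p6) (h6 : act 1 p6 = p7) (h7 : act 2 p7 = p8) (h8 : act 3 p8 = p9) (h9 : act 9 p9 = p10) (h10 : act 8 p10 = p11) (h11 : act 3 p11 = p12) (h12 : act 5 p12 = p13) (h13 : act 4 p13 = p14) (h14 : act 3 p14 = p15) (h15 : act 1 p15 = p16) (h16 : act 2 p16 = p17) (h17 : act 3 p17 = p18) (h18 : act 9 p18 = p19) (h19 : act 8 p19 = p20) (h20 : act 3 p20 = p21) (h21 : act 5 p21 = p22) (h22 : act 4 p22 = p23) (h23 : act 3 p23 = p24) (h24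 : act 1 p24 = p25) (h25 : act 2 p25 = p26) (h26 : act 3 p26 = p27) (h27 : act 9 p27 = p28) (h28 : act 8 p28 = p29) (h29 : act 3 p29 = p30) (h30 : act 5 p30 = p31) (h31 : act 4 p31 = p32) (h32 : act 3 p32 = p33) (h33 : act 1 p33 = p34) (h34 : act 2 p34 = p35) (h35 : act 3 p35 = p36) (h37 : act 8 q37 = q38) (h38 : act 3 q38 = q39) (h39 : act 5 q39 = q40) (h40 : act 4 q40 = q41) (h41 : act 3 q41 = q42) (h42 : act 1 q42 = q43) (h43 : act 2 q43 = q44) (h44 : act 3 q44 = q45) (h45 : act 9 q45 = q46) (h46 : act 8 q46 = q47) (h47 : act 3 q47 = q48) (h48 : act 5 q48 = q49) (h49 : act 4 q49 = q50) (h50 : act 3 q50 = q51) (h51 : act 1 q51 = q52) (h52 : act 2 q52 = q53) (h53 : act 3 q53 = q54) (h54 : act 9 q54 = q55) (h55 : act 8 q55 = q56) (h56 : act 3 q56 = q57) (h57 : act 5 q57 = q58) (h58 : act 4 q58 = q59) (h59 : act 3 q59 = q60) (h60 : act 1 q60 = q61) (h61 : act 2 q61 = q62) (h62 : act 3 q62 = q63) (h63 : act 9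 q63 = q64) (h64 : act 8 q64 = q65) (h65 : act 3 q65 = q66) (h66 : act 5 q66 = q67) (h67 : act 4 q67 = q68) (h68 : act 3 q68 = q69) (h69 : act 1 q69 = q70) (h70 : act 2 q70 = q71) (h71 : act 3 q71 = q72) (h72 : act 9 q72 = q73) (h73 : act 8 q73 = q74) (h74 : act 3 q74 = q75) (h75 : act 5 q75 = q76) (h76 : act 4 q76 = q77) (h77 : act 3 q77 = q78) (h78 : act 1 q78 = q79) (h79 : act 2 q79 = q80) (h80 : act 3 q80 = q81) (h81 : act 9 q81 = q82) (h82 : act 8 q82 = q83) (h83 : act 3 q83 = q84) (h84 : act 5 q84 = q85) (h85 : act 4 q85 = q86) (h86 : act 3 q86 = q87) (h87 : act 1 q87 = q88) (h88 : act 2 q88 = q89) (h89 : act 3 q89 = p0) : act 9 p36 = q37 := by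
  have hr := R45 p0
  subst h0
  subst h1
  subst h2
  subst h3
  subst h4
  subst h5
  subst h6
  subst h7
  subst h8
  subst h9
  subst h10
  subst h11
  subst h12
  subst h13
  subst h14
  subst h15
  subst h16
  subst h17
  subst h18
  subst h19
  subst h20
  subst h21
  subst h22
  subst h23
  subst h24
  subst h25
  subst h26
  subst h27
  subst h28
  subst h29
  subst h30
  subst h31
  subst h32
  subst h33
  subst h34
  subst h35
  subst h89
  subst h88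
  subst h87
  subst h86
  subst h85
  subst h84
  subst h83
  subst h82
  subst h81
  subst h80
  subst h79
  subst h78
  subst h77
  subst h76
  subst h75
  subst h74
  subst h73
  subst h72
  subst h71
  subst h70
  subst h69
  subst h68
  subst h67
  subst h66
  subst h65
  subst h64
  subst h63
  subst h62
  subst h61
  subst h60
  subst h59
  subst h58
  subst h57
  subst h56
  subst h55
  subst h54
  subst h53
  subst h52
  subst h51
  subst h50
  subst h49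
  subst h48
  subst h47
  subst h46
  subst h45
  subst h44
  subst h43
  subst h42
  subst h41
  subst h40
  subst h39
  subst h38
  subst h37
  exact ij (ij (ij (ij (ij (ij (ij (ij (ij (ij (ij (ij (ij (ij (ij (ij (ij (ij (ij (ij (ij (ij (ij (ij (ij (ij (ij (ij (ij (ij (ij (ij (ij (ij (ij (ij (ij (ij (ij (ij (ij (ij (ij (ij (ij (ij (ij (ij (ij (ij (ij (ij (ij (hr)))))))))))))))))))))))))))))))))))))))))))))))))))))

theorem d45_75 {p0 p1 p2 p3 p4 p5 p6 p7 p8 p9 p10 p11 p12 p13 p14 p15 p16 p17 p18 p19 p20 p21 p22 p23 p24 p25 p26 p27 p28 p29 p30 p31 p32 p33 p34 p35 p36 p37 p38 p39 p40 p41 p42 p43 p44 p45 p46 p47 p48 p49 p50 p51 p52 p53 p54 p55 p56 p57 p58 p59 p60 p61 p62 p63 p64 p65 p66 p67 p68 p69 p70 p71 p72 p73 p74 p75 q76 q77 q78 q79 q80 q81 q82 q83 q84 q85 q86 q87 q88 q89 : Q} (h0 : act 9 p0 = p1) (h1 : act 8 p1 = p2) (h2 : act 3 p2 = p3) (h3 : act 5 p3 = p4) (h4 : act 4 p4 = p5) (h5 : act 3 p5 = p6) (h6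 : act 1 p6 = p7) (h7 : act 2 p7 = p8) (h8 : act 3 p8 = p9) (h9 : act 9 p9 = p10) (h10 : act 8 p10 = p11) (h11 : act 3 p11 = p12) (h12 : act 5 p12 = p13) (h13 : act 4 p13 = p14) (h14 : act 3 p14 = p15) (h15 : act 1 p15 = p16) (h16 : act 2 p16 = p17) (h17 : act 3 p17 = p18) (h18 : act 9 p18 = p19) (h19 : act 8 p19 = p20) (h20 : act 3 p20 = p21) (h21 : act 5 p21 = p22) (h22 : act 4 p22 = p23) (h23 : act 3 p23 = p24) (h24 : act 1 p24 = p25) (h25 : act 2 p25 = p26) (h26 : act 3 p26 = p27) (h27 : act 9 p27 = p28) (h28 : act 8 p28 = p29) (h29 : act 3 p29 = p30) (h30 : act 5 p30 = p31) (h31 : act 4 p31 = p32) (h32 : act 3 p32 = p33) (h33 : act 1 p33 = p34) (h34 : act 2 p34 = p35) (h35 : act 3 p35 = p36) (h36 : act 9 p36 = p37) (h37 : act 8 p37 = p38) (h38 : act 3 p38 = p39) (h39 : act 5 p39 = p40) (h40 : act 4 p40 = p41) (h41 : act 3 p41 = p42) (h42 : act 1 p42 = p43) (h43 : act 2 p43 = p44) (h44 : act 3 p44 = p45)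 (h45 : act 9 p45 = p46) (h46 : act 8 p46 = p47) (h47 : act 3 p47 = p48) (h48 : act 5 p48 = p49) (h49 : act 4 p49 = p50) (h50 : act 3 p50 = p51) (h51 : act 1 p51 = p52) (h52 : act 2 p52 = p53) (h53 : act 3 p53 = p54) (h54 : act 9 p54 = p55) (h55 : act 8 p55 = p56) (h56 : act 3 p56 = p57) (h57 : act 5 p57 = p58) (h58 : act 4 p58 = p59) (h59 : act 3 p59 = p60) (h60 : act 1 p60 = p61) (h61 : act 2 p61 = p62) (h62 : act 3 p62 = p63) (h63 : act 9 p63 = p64) (h64 : act 8 p64 = p65) (h65 : act 3 p65 = p66) (h66 : act 5 p66 = p67) (h67 : act 4 p67 = p68) (h68 : act 3 p68 = p69) (h69 : act 1 p69 = p70) (h70 : act 2 p70 = p71) (h71 : act 3 p71 = p72) (h72 : act 9 p72 = p73) (h73 : act 8 p73 = p74) (h74 : act 3 p74 = p75) (h76 : act 4 q76 = q77) (h77 : act 3 q77 = q78) (h78 : act 1 q78 = q79) (h79 : act 2 q79 = q80) (h80 : act 3 q80 = q81) (h81 : act 9 q81 = q82) (h82 : act 8 q82 = q83) (h83 : act 3 q83 = q84) (h84 : act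 5 q84 = q85) (h85 : act 4 q85 = q86) (h86 : act 3 q86 = q87) (h87 : act 1 q87 = q88) (h88 : act 2 q88 = q89) (h89 : act 3 q89 = p0) : act 5 p75 = q76 := by
  have hr := R45 p0
  subst h0
  subst h1
  subst h2
  subst h3
  subst h4
  subst h5
  subst h6
  subst h7
  subst h8
  subst h9
  subst h10
  subst h11
  subst h12
  subst h13
  subst h14
  subst h15
  subst h16
  subst h17
  subst h18
  subst h19
  subst h20
  subst h21
  subst h22
  subst h23
  subst h24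
  subst h25
  subst h26
  subst h27
  subst h28
  subst h29
  subst h30
  subst h31
  subst h32
  subst h33
  subst h34
  subst h35
  subst h36
  subst h37
  subst h38
  subst h39
  subst h40
  subst h41
  subst h42
  subst h43
  subst h44
  subst h45
  subst h46
  subst h47
  subst h48
  subst h49
  subst h50
  subst h51
  subst h52
  subst h53
  subst h54
  subst h55
  subst h56
  subst h57
  subst h58
  subst h59
  subst h60
  subst h61
  subst h62
  subst h63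
  subst h64
  subst h65
  subst h66
  subst h67
  subst h68
  subst h69
  subst h70
  subst h71
  subst h72
  subst h73
  subst h74
  subst h89
  subst h88
  subst h87
  subst h86
  subst h85
  subst h84
  subst h83
  subst h82
  subst h81
  subst h80
  subst h79
  subst h78
  subst h77
  subst h76
  exact ij (ij (ij (ij (ij (ij (ij (ij (ij (ij (ij (ij (ij (ij (hr))))))))))))))

theorem d45_84 {p0 p1 p2 p3 p4 p5 p6 p7 p8 p9 p10 p11 p12 p13 p14 p15 p16 p17 p18 p19 p20 p21 p22 p23 p24 p25 p26 p27 p28 p29 p30 p31 p32 p33 p34 p35 p36 p37 p38 p39 p40 p41 p42 p43 p44 p45 p46 p47 p48 p49 p50 p51 p52 p53 p54 p55 p56 p57 p58 p59 p60 p61 p62 p63 p64 p65 p66 p67 p68 p69 p70 p71 p72 p73 p74 p75 p76 p77 p78 p79 p80 p81 p82 p83 p84 q85 q86 q87 q88 q89 : Q} (h0 : act 9 p0 = p1) (h1 : act 8 p1 = p2) (h2 : act 3 p2 = p3) (h3 : act 5 p3 = p4) (h4 : act 4 p4 = p5) (h5 : act 3 p5 = p6) (h6 : act 1 p6 = p7) (h7 : act 2 p7 = p8)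 (h8 : act 3 p8 = p9) (h9 : act 9 p9 = p10) (h10 : act 8 p10 = p11) (h11 : act 3 p11 = p12) (h12 : act 5 p12 = p13) (h13 : act 4 p13 = p14) (h14 : act 3 p14 = p15) (h15 : act 1 p15 = p16) (h16 : act 2 p16 = p17) (h17 : act 3 p17 = p18) (h18 : act 9 p18 = p19) (h19 : act 8 p19 = p20) (h20 : act 3 p20 = p21) (h21 : act 5 p21 = p22) (h22 : act 4 p22 = p23) (h23 : act 3 p23 = p24) (h24 : act 1 p24 = p25) (h25 : act 2 p25 = p26) (h26 : act 3 p26 = p27) (h27 : act 9 p27 = p28) (h28 : act 8 p28 = p29) (h29 : act 3 p29 = p30) (h30 : act 5 p30 = p31) (h31 : act 4 p31 = p32) (h32 : act 3 p32 = p33) (h33 : act 1 p33 = p34) (h34 : act 2 p34 = p35) (h35 : act 3 p35 = p36) (h36 : act 9 p36 = p37) (h37 : act 8 p37 = p38) (h38 : act 3 p38 = p39) (h39 : act 5 p39 = p40) (h40 : act 4 p40 = p41) (h41 : act 3 p41 = p42) (h42 : act 1 p42 = p43) (h43 : act 2 p43 = p44) (h44 : act 3 p44 = p45) (h45 : act 9 p45 = p46) (h46 : act 8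 p46 = p47) (h47 : act 3 p47 = p48) (h48 : act 5 p48 = p49) (h49 : act 4 p49 = p50) (h50 : act 3 p50 = p51) (h51 : act 1 p51 = p52) (h52 : act 2 p52 = p53) (h53 : act 3 p53 = p54) (h54 : act 9 p54 = p55) (h55 : act 8 p55 = p56) (h56 : act 3 p56 = p57) (h57 : act 5 p57 = p58) (h58 : act 4 p58 = p59) (h59 : act 3 p59 = p60) (h60 : act 1 p60 = p61) (h61 : act 2 p61 = p62) (h62 : act 3 p62 = p63) (h63 : act 9 p63 = p64) (h64 : act 8 p64 = p65) (h65 : act 3 p65 = p66) (h66 : act 5 p66 = p67) (h67 : act 4 p67 = p68) (h68 : act 3 p68 = p69) (h69 : act 1 p69 = p70) (h70 : act 2 p70 = p71) (h71 : act 3 p71 = p72) (h72 : act 9 p72 = p73) (h73 : act 8 p73 = p74) (h74 : act 3 p74 = p75) (h75 : act 5 p75 = p76) (h76 : act 4 p76 = p77) (h77 : act 3 p77 = p78) (h78 : act 1 p78 = p79) (h79 : act 2 p79 = p80) (h80 : act 3 p80 = p81) (h81 : act 9 p81 = p82) (h82 : act 8 p82 = p83) (h83 : act 3 p83 = p84) (h85 : act 4 q85 = q86)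 (h86 : act 3 q86 = q87) (h87 : act 1 q87 = q88) (h88 : act 2 q88 = q89) (h89 : act 3 q89 = p0) : act 5 p84 = q85 := by
  have hr := R45 p0
  subst h0
  subst h1
  subst h2
  subst h3
  subst h4
  subst h5
  subst h6
  subst h7
  subst h8
  subst h9
  subst h10
  subst h11
  subst h12
  subst h13
  subst h14
  subst h15
  subst h16
  subst h17
  subst h18
  subst h19
  subst h20
  subst h21
  subst h22
  subst h23
  subst h24
  subst h25
  subst h26
  subst h27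
  subst h28
  subst h29
  subst h30
  subst h31
  subst h32
  subst h33
  subst h34
  subst h35
  subst h36
  subst h37
  subst h38
  subst h39
  subst h40
  subst h41
  subst h42
  subst h43
  subst h44
  subst h45
  subst h46
  subst h47
  subst h48
  subst h49
  subst h50
  subst h51
  subst h52
  subst h53
  subst h54
  subst h55
  subst h56
  subst h57
  subst h58
  subst h59
  subst h60
  subst h61
  subst h62
  subst h63
  subst h64
  subst h65
  subst h66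
  subst h67
  subst h68
  subst h69
  subst h70
  subst h71
  subst h72
  subst h73
  subst h74
  subst h75
  subst h76
  subst h77
  subst h78
  subst h79
  subst h80
  subst h81
  subst h82
  subst h83
  subst h89
  subst h88
  subst h87
  subst h86
  subst h85
  exact ij (ij (ij (ij (ij (hr)))))

theorem d45_89 {p0 p1 p2 p3 p4 p5 p6 p7 p8 p9 p10 p11 p12 p13 p14 p15 p16 p17 p18 p19 p20 p21 p22 p23 p24 p25 p26 p27 p28 p29 p30 p31 p32 p33 p34 p35 p36 p37 p38 p39 p40 p41 p42 p43 p44 p45 p46 p47 p48 p49 p50 p51 p52 p53 p54 p55 p56 p57 p58 p59 p60 p61 p62 p63 p64 p65 p66 p67 p68 p69 p70 p71 p72 p73 p74 p75 p76 p77 p78 p79 p80 p81 p82 p83 p84 p85 p86 p87 p88 p89 : Q} (h0 : act 9 p0 = p1) (h1 : act 8 p1 = p2) (h2 : act 3 p2 = p3) (h3 : act 5 p3 = p4) (h4 : act 4 p4 = p5) (h5 : act 3 p5 = p6) (h6 : act 1 p6 = p7) (h7 : act 2 p7 = p8) (h8 : act 3 p8 = p9) (h9 : act 9 p9 = p10) (h10 : act 8 p10 = p11) (h11 : act 3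 p11 = p12) (h12 : act 5 p12 = p13) (h13 : act 4 p13 = p14) (h14 : act 3 p14 = p15) (h15 : act 1 p15 = p16) (h16 : act 2 p16 = p17) (h17 : act 3 p17 = p18) (h18 : act 9 p18 = p19) (h19 : act 8 p19 = p20) (h20 : act 3 p20 = p21) (h21 : act 5 p21 = p22) (h22 : act 4 p22 = p23) (h23 : act 3 p23 = p24) (h24 : act 1 p24 = p25) (h25 : act 2 p25 = p26) (h26 : act 3 p26 = p27) (h27 : act 9 p27 = p28) (h28 : act 8 p28 = p29) (h29 : act 3 p29 = p30) (h30 : act 5 p30 = p31) (h31 : act 4 p31 = p32) (h32 : act 3 p32 = p33) (h33 : act 1 p33 = p34) (h34 : act 2 p34 = p35) (h35 : act 3 p35 = p36) (h36 : act 9 p36 = p37) (h37 : act 8 p37 = p38) (h38 : act 3 p38 = p39) (h39 : act 5 p39 = p40) (h40 : act 4 p40 = p41) (h41 : act 3 p41 = p42) (h42 : act 1 p42 = p43) (h43 : act 2 p43 = p44) (h44 : act 3 p44 = p45) (h45 : act 9 p45 = p46) (h46 : act 8 p46 = p47) (h47 : act 3 p47 = p48) (h48 : act 5 p48 = p49) (h49 : act 4 p49 = p50)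 (h50 : act 3 p50 = p51) (h51 : act 1 p51 = p52) (h52 : act 2 p52 = p53) (h53 : act 3 p53 = p54) (h54 : act 9 p54 = p55) (h55 : act 8 p55 = p56) (h56 : act 3 p56 = p57) (h57 : act 5 p57 = p58) (h58 : act 4 p58 = p59) (h59 : act 3 p59 = p60) (h60 : act 1 p60 = p61) (h61 : act 2 p61 = p62) (h62 : act 3 p62 = p63) (h63 : act 9 p63 = p64) (h64 : act 8 p64 = p65) (h65 : act 3 p65 = p66) (h66 : act 5 p66 = p67) (h67 : act 4 p67 = p68) (h68 : act 3 p68 = p69) (h69 : act 1 p69 = p70) (h70 : act 2 p70 = p71) (h71 : act 3 p71 = p72) (h72 : act 9 p72 = p73) (h73 : act 8 p73 = p74) (h74 : act 3 p74 = p75) (h75 : act 5 p75 = p76) (h76 : act 4 p76 = p77) (h77 : act 3 p77 = p78) (h78 : act 1 p78 = p79) (h79 : act 2 p79 = p80) (h80 : act 3 p80 = p81) (h81 : act 9 p81 = p82) (h82 : act 8 p82 = p83) (h83 : act 3 p83 = p84) (h84 : act 5 p84 = p85) (h85 : act 4 p85 = p86) (h86 : act 3 p86 = p87) (h87 : act 1 p87 = p88) (h88 : act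 2 p88 = p89) : act 3 p89 = p0 := by
  have hr := R45 p0
  subst h0
  subst h1
  subst h2
  subst h3
  subst h4
  subst h5
  subst h6
  subst h7
  subst h8
  subst h9
  subst h10
  subst h11
  subst h12
  subst h13
  subst h14
  subst h15
  subst h16
  subst h17
  subst h18
  subst h19
  subst h20
  subst h21
  subst h22
  subst h23
  subst h24
  subst h25
  subst h26
  subst h27
  subst h28
  subst h29
  subst h30
  subst h31
  subst h32
  subst h33
  subst h34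
  subst h35
  subst h36
  subst h37
  subst h38
  subst h39
  subst h40
  subst h41
  subst h42
  subst h43
  subst h44
  subst h45
  subst h46
  subst h47
  subst h48
  subst h49
  subst h50
  subst h51
  subst h52
  subst h53
  subst h54
  subst h55
  subst h56
  subst h57
  subst h58
  subst h59
  subst h60
  subst h61
  subst h62
  subst h63
  subst h64
  subst h65
  subst h66
  subst h67
  subst h68
  subst h69
  subst h70
  subst h71
  subst h72
  subst h73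
  subst h74
  subst h75
  subst h76
  subst h77
  subst h78
  subst h79
  subst h80
  subst h81
  subst h82
  subst h83
  subst h84
  subst h85
  subst h86
  subst h87
  subst h88
  exact hr

theorem d46_0 {p0 q1 q2 q3 q4 q5 q6 q7 q8 q9 q10 q11 q12 q13 q14 q15 q16 q17 q18 q19 q20 q21 q22 q23 q24 q25 q26 q27 q28 q29 q30 q31 q32 q33 q34 q35 q36 q37 q38 q39 q40 q41 q42 q43 q44 q45 q46 q47 q48 q49 q50 q51 q52 q53 q54 q55 q56 q57 q58 q59 q60 q61 q62 : Q} (h1 : act 5 q1 = q2) (h2 : act 4 q2 = q3) (h3 : act 3 q3 = q4) (h4 : act 2 q4 = q5) (h5 : act 1 q5 = q6) (h6 : act 0 q6 = q7) (h7 : act 8 q7 = q8) (h8 : act 5 q8 = q9) (h9 : act 4 q9 = q10) (h10 : act 3 q10 = q11) (h11 : act 2 q11 = q12) (h12 : act 1 q12 = q13) (h13 : act 0 q13 = q14) (h14 : act 8 q14 = q15) (h15 : act 5 q15 = q16) (h16 : act 4 q16 = q17) (h17 : act 3 q17 = q18) (h18 : act 2 q18 = q19) (h19 : act 1 q19 = q20) (h20 : act 0 q20 = q21) (h21 : act 8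 q21 = q22) (h22 : act 5 q22 = q23) (h23 : act 4 q23 = q24) (h24 : act 3 q24 = q25) (h25 : act 2 q25 = q26) (h26 : act 1 q26 = q27) (h27 : act 0 q27 = q28) (h28 : act 8 q28 = q29) (h29 : act 5 q29 = q30) (h30 : act 4 q30 = q31) (h31 : act 3 q31 = q32) (h32 : act 2 q32 = q33) (h33 : act 1 q33 = q34) (h34 : act 0 q34 = q35) (h35 : act 8 q35 = q36) (h36 : act 5 q36 = q37) (h37 : act 4 q37 = q38) (h38 : act 3 q38 = q39) (h39 : act 2 q39 = q40) (h40 : act 1 q40 = q41) (h41 : act 0 q41 = q42) (h42 : act 8 q42 = q43) (h43 : act 5 q43 = q44) (h44 : act 4 q44 = q45) (h45 : act 3 q45 = q46) (h46 : act 2 q46 = q47) (h47 : act 1 q47 = q48) (h48 : act 0 q48 = q49) (h49 : act 8 q49 = q50) (h50 : act 5 q50 = q51) (h51 : act 4 q51 = q52) (h52 : act 3 q52 = q53) (h53 : act 2 q53 = q54) (h54 : act 1 q54 = q55) (h55 : act 0 q55 = q56) (h56 : act 8 q56 = q57) (h57 : act 5 q57 = q58) (h58 : act 4 q58 = q59) (h59 : act 3 q59 = q60)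 (h60 : act 2 q60 = q61) (h61 : act 1 q61 = q62) (h62 : act 0 q62 = p0) : act 8 p0 = q1 := by
  have hr := R46 p0
  subst h62
  subst h61
  subst h60
  subst h59
  subst h58
  subst h57
  subst h56
  subst h55
  subst h54
  subst h53
  subst h52
  subst h51
  subst h50
  subst h49
  subst h48
  subst h47
  subst h46
  subst h45
  subst h44
  subst h43
  subst h42
  subst h41
  subst h40
  subst h39
  subst h38
  subst h37
  subst h36
  subst h35
  subst h34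
  subst h33
  subst h32
  subst h31
  subst h30
  subst h29
  subst h28
  subst h27
  subst h26
  subst h25
  subst h24
  subst h23
  subst h22
  subst h21
  subst h20
  subst h19
  subst h18
  subst h17
  subst h16
  subst h15
  subst h14
  subst h13
  subst h12
  subst h11
  subst h10
  subst h9
  subst h8
  subst h7
  subst h6
  subst h5
  subst h4
  subst h3
  subst h2
  subst h1
  exact ij (ij (ij (ij (ij (ij (ij (ij (ij (ij (ij (ij (ij (ij (ij (ij (ij (ij (ij (ij (ij (ij (ij (ij (ij (ij (ij (ij (ij (ij (ij (ij (ij (ij (ij (ij (ij (ij (ij (ij (ij (ij (ij (ij (ij (ij (ij (ij (ij (ij (ij (ij (ij (ij (ij (ij (ij (ij (ij (ij (ij (ij (hr))))))))))))))))))))))))))))))))))))))))))))))))))))))))))))))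

theorem d46_1 {p0 p1 q2 q3 q4 q5 q6 q7 q8 q9 q10 q11 q12 q13 q14 q15 q16 q17 q18 q19 q20 q21 q22 q23 q24 q25 q26 q27 q28 q29 q30 q31 q32 q33 q34 q35 q36 q37 q38 q39 q40 q41 q42 q43 q44 q45 q46 q47 q48 q49 q50 q51 q52 q53 q54 q55 q56 q57 q58 q59 q60 q61 q62 : Q} (h0 : act 8 p0 = p1) (h2 : act 4 q2 = q3) (h3 : act 3 q3 = q4) (h4 : act 2 q4 = q5) (h5 : act 1 q5 = q6) (h6 : act 0 q6 = q7) (h7 : act 8 q7 = q8) (h8 : act 5 q8 = q9) (h9 : act 4 q9 = q10) (h10 : act 3 q10 = q11) (h11 : act 2 q11 = q12) (h12 : act 1 q12 = q13) (h13 : act 0 q13 = q14) (h14 : act 8 q14 = q15) (h15 : act 5 q15 = q16) (h16 : act 4 q16 = q17) (h17 : act 3 q17 = q18) (h18 : act 2 q18 = q19) (h19 : act 1 q19 = q20) (h20 : act 0 q20 = q21) (h21 : act 8 q21 = q22) (h22 : act 5 q22 = q23) (h23 : act 4 q23 = q24) (h24 : act 3 q24 = q25) (h25 : act 2 q25 = q26) (h26 : act 1 q26 = q27) (h27 : act 0 q27 = q28) (h28 : act 8 q28 = q29) (h29 : act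 5 q29 = q30) (h30 : act 4 q30 = q31) (h31 : act 3 q31 = q32) (h32 : act 2 q32 = q33) (h33 : act 1 q33 = q34) (h34 : act 0 q34 = q35) (h35 : act 8 q35 = q36) (h36 : act 5 q36 = q37) (h37 : act 4 q37 = q38) (h38 : act 3 q38 = q39) (h39 : act 2 q39 = q40) (h40 : act 1 q40 = q41) (h41 : act 0 q41 = q42) (h42 : act 8 q42 = q43) (h43 : act 5 q43 = q44) (h44 : act 4 q44 = q45) (h45 : act 3 q45 = q46) (h46 : act 2 q46 = q47) (h47 : act 1 q47 = q48) (h48 : act 0 q48 = q49) (h49 : act 8 q49 = q50) (h50 : act 5 q50 = q51) (h51 : act 4 q51 = q52) (h52 : act 3 q52 = q53) (h53 : act 2 q53 = q54) (h54 : act 1 q54 = q55) (h55 : act 0 q55 = q56) (h56 : act 8 q56 = q57) (h57 : act 5 q57 = q58) (h58 : act 4 q58 = q59) (h59 : act 3 q59 = q60) (h60 : act 2 q60 = q61) (h61 : act 1 q61 = q62) (h62 : act 0 q62 = p0) : act 5 p1 = q2 := by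
  have hr := R46 p0
  subst h0
  subst h62
  subst h61
  subst h60
  subst h59
  subst h58
  subst h57
  subst h56
  subst h55
  subst h54
  subst h53
  subst h52
  subst h51
  subst h50
  subst h49
  subst h48
  subst h47
  subst h46
  subst h45
  subst h44
  subst h43
  subst h42
  subst h41
  subst h40
  subst h39
  subst h38
  subst h37
  subst h36
  subst h35
  subst h34
  subst h33
  subst h32
  subst h31
  subst h30
  subst h29
  subst h28
  subst h27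
  subst h26
  subst h25
  subst h24
  subst h23
  subst h22
  subst h21
  subst h20
  subst h19
  subst h18
  subst h17
  subst h16
  subst h15
  subst h14
  subst h13
  subst h12
  subst h11
  subst h10
  subst h9
  subst h8
  subst h7
  subst h6
  subst h5
  subst h4
  subst h3
  subst h2
  exact ij (ij (ij (ij (ij (ij (ij (ij (ij (ij (ij (ij (ij (ij (ij (ij (ij (ij (ij (ij (ij (ij (ij (ij (ij (ij (ij (ij (ij (ij (ij (ij (ij (ij (ij (ij (ij (ij (ij (ij (ij (ij (ij (ij (ij (ij (ij (ij (ij (ij (ij (ij (ij (ij (ij (ij (ij (ij (ij (ij (ij (hr)))))))))))))))))))))))))))))))))))))))))))))))))))))))))))))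

theorem d46_2 {p0 p1 p2 q3 q4 q5 q6 q7 q8 q9 q10 q11 q12 q13 q14 q15 q16 q17 q18 q19 q20 q21 q22 q23 q24 q25 q26 q27 q28 q29 q30 q31 q32 q33 q34 q35 q36 q37 q38 q39 q40 q41 q42 q43 q44 q45 q46 q47 q48 q49 q50 q51 q52 q53 q54 q55 q56 q57 q58 q59 q60 q61 q62 : Q} (h0 : act 8 p0 = p1) (h1 : act 5 p1 = p2) (h3 : act 3 q3 = q4) (h4 : act 2 q4 = q5) (h5 : act 1 q5 = q6) (h6 : act 0 q6 = q7) (h7 : act 8 q7 = q8) (h8 : act 5 q8 = q9) (h9 : act 4 q9 = q10) (h10 : act 3 q10 = q11) (h11 : act 2 q11 = q12) (h12 : act 1 q12 = q13) (h13 : act 0 q13 = q14) (h14 : act 8 q14 = q15) (h15 : act 5 q15 = q16) (h16 : act 4 q16 = q17) (h17 : act 3 q17 = q18) (h18 : act 2 q18 = q19) (h19 : act 1 q19 = q20) (h20 : act 0 q20 = q21) (h21 : act 8 q21 = q22) (h22 : act 5 q22 = q23) (h23 : act 4 q23 = q24) (h24 : act 3 q24 = q25) (h25 : act 2 q25 = q26) (h26 : act 1 q26 = q27) (h27 : act 0 q27 = q28) (h28 : act 8 q28 = q29) (h29 : act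 5 q29 = q30) (h30 : act 4 q30 = q31) (h31 : act 3 q31 = q32) (h32 : act 2 q32 = q33) (h33 : act 1 q33 = q34) (h34 : act 0 q34 = q35) (h35 : act 8 q35 = q36) (h36 : act 5 q36 = q37) (h37 : act 4 q37 = q38) (h38 : act 3 q38 = q39) (h39 : act 2 q39 = q40) (h40 : act 1 q40 = q41) (h41 : act 0 q41 = q42) (h42 : act 8 q42 = q43) (h43 : act 5 q43 = q44) (h44 : act 4 q44 = q45) (h45 : act 3 q45 = q46) (h46 : act 2 q46 = q47) (h47 : act 1 q47 = q48) (h48 : act 0 q48 = q49) (h49 : act 8 q49 = q50) (h50 : act 5 q50 = q51) (h51 : act 4 q51 = q52) (h52 : act 3 q52 = q53) (h53 : act 2 q53 = q54) (h54 : act 1 q54 = q55) (h55 : act 0 q55 = q56) (h56 : act 8 q56 = q57) (h57 : act 5 q57 = q58) (h58 : act 4 q58 = q59) (h59 : act 3 q59 = q60) (h60 : act 2 q60 = q61) (h61 : act 1 q61 = q62) (h62 : act 0 q62 = p0) : act 4 p2 = q3 := by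
  have hr := R46 p0
  subst h0
  subst h1
  subst h62
  subst h61
  subst h60
  subst h59
  subst h58
  subst h57
  subst h56
  subst h55
  subst h54
  subst h53
  subst h52
  subst h51
  subst h50
  subst h49
  subst h48
  subst h47
  subst h46
  subst h45
  subst h44
  subst h43
  subst h42
  subst h41
  subst h40
  subst h39
  subst h38
  subst h37
  subst h36
  subst h35
  subst h34
  subst h33
  subst h32
  subst h31
  subst h30
  subst h29
  subst h28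
  subst h27
  subst h26
  subst h25
  subst h24
  subst h23
  subst h22
  subst h21
  subst h20
  subst h19
  subst h18
  subst h17
  subst h16
  subst h15
  subst h14
  subst h13
  subst h12
  subst h11
  subst h10
  subst h9
  subst h8
  subst h7
  subst h6
  subst h5
  subst h4
  subst h3
  exact ij (ij (ij (ij (ij (ij (ij (ij (ij (ij (ij (ij (ij (ij (ij (ij (ij (ij (ij (ij (ij (ij (ij (ij (ij (ij (ij (ij (ij (ij (ij (ij (ij (ij (ij (ij (ij (ij (ij (ij (ij (ij (ij (ij (ij (ij (ij (ij (ij (ij (ij (ij (ij (ij (ij (ij (ij (ij (ij (ij (hr))))))))))))))))))))))))))))))))))))))))))))))))))))))))))))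

theorem d46_3 {p0 p1 p2 p3 q4 q5 q6 q7 q8 q9 q10 q11 q12 q13 q14 q15 q16 q17 q18 q19 q20 q21 q22 q23 q24 q25 q26 q27 q28 q29 q30 q31 q32 q33 q34 q35 q36 q37 q38 q39 q40 q41 q42 q43 q44 q45 q46 q47 q48 q49 q50 q51 q52 q53 q54 q55 q56 q57 q58 q59 q60 q61 q62 : Q} (h0 : act 8 p0 = p1) (h1 : act 5 p1 = p2) (h2 : act 4 p2 = p3) (h4 : act 2 q4 = q5) (h5 : act 1 q5 = q6) (h6 : act 0 q6 = q7) (h7 : act 8 q7 = q8) (h8 : act 5 q8 = q9) (h9 : act 4 q9 = q10) (h10 : act 3 q10 = q11) (h11 : act 2 q11 = q12) (h12 : act 1 q12 = q13) (h13 : act 0 q13 = q14) (h14 : act 8 q14 = q15) (h15 : act 5 q15 = q16) (h16 : act 4 q16 = q17) (h17 : act 3 q17 = q18) (h18 : act 2 q18 = q19) (h19 : act 1 q19 = q20) (h20 : act 0 q20 = q21) (h21 : act 8 q21 = q22) (h22 : act 5 q22 = q23) (h23 : act 4 q23 = q24) (h24 : act 3 q24 = q25) (h25 : act 2 q25 = q26) (h26 : act 1 q26 = q27) (h27 : act 0 q27 = q28) (h28 : act 8 q28 = q29) (h29 : act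 5 q29 = q30) (h30 : act 4 q30 = q31) (h31 : act 3 q31 = q32) (h32 : act 2 q32 = q33) (h33 : act 1 q33 = q34) (h34 : act 0 q34 = q35) (h35 : act 8 q35 = q36) (h36 : act 5 q36 = q37) (h37 : act 4 q37 = q38) (h38 : act 3 q38 = q39) (h39 : act 2 q39 = q40) (h40 : act 1 q40 = q41) (h41 : act 0 q41 = q42) (h42 : act 8 q42 = q43) (h43 : act 5 q43 = q44) (h44 : act 4 q44 = q45) (h45 : act 3 q45 = q46) (h46 : act 2 q46 = q47) (h47 : act 1 q47 = q48) (h48 : act 0 q48 = q49) (h49 : act 8 q49 = q50) (h50 : act 5 q50 = q51) (h51 : act 4 q51 = q52) (h52 : act 3 q52 = q53) (h53 : act 2 q53 = q54) (h54 : act 1 q54 = q55) (h55 : act 0 q55 = q56) (h56 : act 8 q56 = q57) (h57 : act 5 q57 = q58) (h58 : act 4 q58 = q59) (h59 : act 3 q59 = q60) (h60 : act 2 q60 = q61) (h61 : act 1 q61 = q62) (h62 : act 0 q62 = p0) : act 3 p3 = q4 := by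
  have hr := R46 p0
  subst h0
  subst h1
  subst h2
  subst h62
  subst h61
  subst h60
  subst h59
  subst h58
  subst h57
  subst h56
  subst h55
  subst h54
  subst h53
  subst h52
  subst h51
  subst h50
  subst h49
  subst h48
  subst h47
  subst h46
  subst h45
  subst h44
  subst h43
  subst h42
  subst h41
  subst h40
  subst h39
  subst h38
  subst h37
  subst h36
  subst h35
  subst h34
  subst h33
  subst h32
  subst h31
  subst h30
  subst h29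
  subst h28
  subst h27
  subst h26
  subst h25
  subst h24
  subst h23
  subst h22
  subst h21
  subst h20
  subst h19
  subst h18
  subst h17
  subst h16
  subst h15
  subst h14
  subst h13
  subst h12
  subst h11
  subst h10
  subst h9
  subst h8
  subst h7
  subst h6
  subst h5
  subst h4
  exact ij (ij (ij (ij (ij (ij (ij (ij (ij (ij (ij (ij (ij (ij (ij (ij (ij (ij (ij (ij (ij (ij (ij (ij (ij (ij (ij (ij (ij (ij (ij (ij (ij (ij (ij (ij (ij (ij (ij (ij (ij (ij (ij (ij (ij (ij (ij (ij (ij (ij (ij (ij (ij (ij (ij (ij (ij (ij (ij (hr)))))))))))))))))))))))))))))))))))))))))))))))))))))))))))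

theorem d46_4 {p0 p1 p2 p3 p4 q5 q6 q7 q8 q9 q10 q11 q12 q13 q14 q15 q16 q17 q18 q19 q20 q21 q22 q23 q24 q25 q26 q27 q28 q29 q30 q31 q32 q33 q34 q35 q36 q37 q38 q39 q40 q41 q42 q43 q44 q45 q46 q47 q48 q49 q50 q51 q52 q53 q54 q55 q56 q57 q58 q59 q60 q61 q62 : Q} (h0 : act 8 p0 = p1) (h1 : act 5 p1 = p2) (h2 : act 4 p2 = p3) (h3 : act 3 p3 = p4) (h5 : act 1 q5 = q6) (h6 : act 0 q6 = q7) (h7 : act 8 q7 = q8) (h8 : act 5 q8 = q9) (h9 : act 4 q9 = q10) (h10 : act 3 q10 = q11) (h11 : act 2 q11 = q12) (h12 : act 1 q12 = q13) (h13 : act 0 q13 = q14) (h14 : act 8 q14 = q15) (h15 : act 5 q15 = q16) (h16 : act 4 q16 = q17) (h17 : act 3 q17 = q18) (h18 : act 2 q18 = q19) (h19 : act 1 q19 = q20) (h20 : act 0 q20 = q21) (h21 : act 8 q21 = q22) (h22 : act 5 q22 = q23) (h23 : act 4 q23 = q24) (h24 : act 3 q24 = q25) (h25 : act 2 q25 = q26) (h26 : act 1 q26 = q27) (h27 : act 0 q27 = q28) (h28 : act 8 q28 = q29) (h29 : act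 5 q29 = q30) (h30 : act 4 q30 = q31) (h31 : act 3 q31 = q32) (h32 : act 2 q32 = q33) (h33 : act 1 q33 = q34) (h34 : act 0 q34 = q35) (h35 : act 8 q35 = q36) (h36 : act 5 q36 = q37) (h37 : act 4 q37 = q38) (h38 : act 3 q38 = q39) (h39 : act 2 q39 = q40) (h40 : act 1 q40 = q41) (h41 : act 0 q41 = q42) (h42 : act 8 q42 = q43) (h43 : act 5 q43 = q44) (h44 : act 4 q44 = q45) (h45 : act 3 q45 = q46) (h46 : act 2 q46 = q47) (h47 : act 1 q47 = q48) (h48 : act 0 q48 = q49) (h49 : act 8 q49 = q50) (h50 : act 5 q50 = q51) (h51 : act 4 q51 = q52) (h52 : act 3 q52 = q53) (h53 : act 2 q53 = q54) (h54 : act 1 q54 = q55) (h55 : act 0 q55 = q56) (h56 : act 8 q56 = q57) (h57 : act 5 q57 = q58) (h58 : act 4 q58 = q59) (h59 : act 3 q59 = q60) (h60 : act 2 q60 = q61) (h61 : act 1 q61 = q62) (h62 : act 0 q62 = p0) : act 2 p4 = q5 := by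
  have hr := R46 p0
  subst h0
  subst h1
  subst h2
  subst h3
  subst h62
  subst h61
  subst h60
  subst h59
  subst h58
  subst h57
  subst h56
  subst h55
  subst h54
  subst h53
  subst h52
  subst h51
  subst h50
  subst h49
  subst h48
  subst h47
  subst h46
  subst h45
  subst h44
  subst h43
  subst h42
  subst h41
  subst h40
  subst h39
  subst h38
  subst h37
  subst h36
  subst h35
  subst h34
  subst h33
  subst h32
  subst h31
  subst h30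
  subst h29
  subst h28
  subst h27
  subst h26
  subst h25
  subst h24
  subst h23
  subst h22
  subst h21
  subst h20
  subst h19
  subst h18
  subst h17
  subst h16
  subst h15
  subst h14
  subst h13
  subst h12
  subst h11
  subst h10
  subst h9
  subst h8
  subst h7
  subst h6
  subst h5
  exact ij (ij (ij (ij (ij (ij (ij (ij (ij (ij (ij (ij (ij (ij (ij (ij (ij (ij (ij (ij (ij (ij (ij (ij (ij (ij (ij (ij (ij (ij (ij (ij (ij (ij (ij (ij (ij (ij (ij (ij (ij (ij (ij (ij (ij (ij (ij (ij (ij (ij (ij (ij (ij (ij (ij (ij (ij (ij (hr))))))))))))))))))))))))))))))))))))))))))))))))))))))))))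

theorem d46_5 {p0 p1 p2 p3 p4 p5 q6 q7 q8 q9 q10 q11 q12 q13 q14 q15 q16 q17 q18 q19 q20 q21 q22 q23 q24 q25 q26 q27 q28 q29 q30 q31 q32 q33 q34 q35 q36 q37 q38 q39 q40 q41 q42 q43 q44 q45 q46 q47 q48 q49 q50 q51 q52 q53 q54 q55 q56 q57 q58 q59 q60 q61 q62 : Q} (h0 : act 8 p0 = p1) (h1 : act 5 p1 = p2) (h2 : act 4 p2 = p3) (h3 : act 3 p3 = p4) (h4 : act 2 p4 = p5) (h6 : act 0 q6 = q7) (h7 : act 8 q7 = q8) (h8 : act 5 q8 = q9) (h9 : act 4 q9 = q10) (h10 : act 3 q10 = q11) (h11 : act 2 q11 = q12) (h12 : act 1 q12 = q13) (h13 : act 0 q13 = q14) (h14 : act 8 q14 = q15) (h15 : act 5 q15 = q16) (h16 : act 4 q16 = q17) (h17 : act 3 q17 = q18) (h18 : act 2 q18 = q19) (h19 : act 1 q19 = q20) (h20 : act 0 q20 = q21) (h21 : act 8 q21 = q22) (h22 : act 5 q22 = q23) (h23 : act 4 q23 = q24) (h24 : act 3 q24 = q25) (h25 : act 2 q25 = q26) (h26 : act 1 q26 = q27) (h27 : act 0 q27 = q28) (h28 : act 8 q28 = q29) (h29 : act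 5 q29 = q30) (h30 : act 4 q30 = q31) (h31 : act 3 q31 = q32) (h32 : act 2 q32 = q33) (h33 : act 1 q33 = q34) (h34 : act 0 q34 = q35) (h35 : act 8 q35 = q36) (h36 : act 5 q36 = q37) (h37 : act 4 q37 = q38) (h38 : act 3 q38 = q39) (h39 : act 2 q39 = q40) (h40 : act 1 q40 = q41) (h41 : act 0 q41 = q42) (h42 : act 8 q42 = q43) (h43 : act 5 q43 = q44) (h44 : act 4 q44 = q45) (h45 : act 3 q45 = q46) (h46 : act 2 q46 = q47) (h47 : act 1 q47 = q48) (h48 : act 0 q48 = q49) (h49 : act 8 q49 = q50) (h50 : act 5 q50 = q51) (h51 : act 4 q51 = q52) (h52 : act 3 q52 = q53) (h53 : act 2 q53 = q54) (h54 : act 1 q54 = q55) (h55 : act 0 q55 = q56) (h56 : act 8 q56 = q57) (h57 : act 5 q57 = q58) (h58 : act 4 q58 = q59) (h59 : act 3 q59 = q60) (h60 : act 2 q60 = q61) (h61 : act 1 q61 = q62) (h62 : act 0 q62 = p0) : act 1 p5 = q6 := by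
  have hr := R46 p0
  subst h0
  subst h1
  subst h2
  subst h3
  subst h4
  subst h62
  subst h61
  subst h60
  subst h59
  subst h58
  subst h57
  subst h56
  subst h55
  subst h54
  subst h53
  subst h52
  subst h51
  subst h50
  subst h49
  subst h48
  subst h47
  subst h46
  subst h45
  subst h44
  subst h43
  subst h42
  subst h41
  subst h40
  subst h39
  subst h38
  subst h37
  subst h36
  subst h35
  subst h34
  subst h33
  subst h32
  subst h31
  subst h30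
  subst h29
  subst h28
  subst h27
  subst h26
  subst h25
  subst h24
  subst h23
  subst h22
  subst h21
  subst h20
  subst h19
  subst h18
  subst h17
  subst h16
  subst h15
  subst h14
  subst h13
  subst h12
  subst h11
  subst h10
  subst h9
  subst h8
  subst h7
  subst h6
  exact ij (ij (ij (ij (ij (ij (ij (ij (ij (ij (ij (ij (ij (ij (ij (ij (ij (ij (ij (ij (ij (ij (ij (ij (ij (ij (ij (ij (ij (ij (ij (ij (ij (ij (ij (ij (ij (ij (ij (ij (ij (ij (ij (ij (ij (ij (ij (ij (ij (ij (ij (ij (ij (ij (ij (ij (ij (hr)))))))))))))))))))))))))))))))))))))))))))))))))))))))))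

theorem d46_6 {p0 p1 p2 p3 p4 p5 p6 q7 q8 q9 q10 q11 q12 q13 q14 q15 q16 q17 q18 q19 q20 q21 q22 q23 q24 q25 q26 q27 q28 q29 q30 q31 q32 q33 q34 q35 q36 q37 q38 q39 q40 q41 q42 q43 q44 q45 q46 q47 q48 q49 q50 q51 q52 q53 q54 q55 q56 q57 q58 q59 q60 q61 q62 : Q} (h0 : act 8 p0 = p1) (h1 : act 5 p1 = p2) (h2 : act 4 p2 = p3) (h3 : act 3 p3 = p4) (h4 : act 2 p4 = p5) (h5 : act 1 p5 = p6) (h7 : act 8 q7 = q8) (h8 : act 5 q8 = q9) (h9 : act 4 q9 = q10) (h10 : act 3 q10 = q11) (h11 : act 2 q11 = q12) (h12 : act 1 q12 = q13) (h13 : act 0 q13 = q14) (h14 : act 8 q14 = q15) (h15 : act 5 q15 = q16) (h16 : act 4 q16 = q17) (h17 : act 3 q17 = q18) (h18 : act 2 q18 = q19) (h19 : act 1 q19 = q20) (h20 : act 0 q20 = q21) (h21 : act 8 q21 = q22) (h22 : act 5 q22 = q23) (h23 : act 4 q23 = q24) (h24 : act 3 q24 = q25) (h25 : act 2 q25 = q26) (h26 : act 1 q26 = q27) (h27 : act 0 q27 = q28) (h28 : act 8 q28 = q29) (h29 : act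 5 q29 = q30) (h30 : act 4 q30 = q31) (h31 : act 3 q31 = q32) (h32 : act 2 q32 = q33) (h33 : act 1 q33 = q34) (h34 : act 0 q34 = q35) (h35 : act 8 q35 = q36) (h36 : act 5 q36 = q37) (h37 : act 4 q37 = q38) (h38 : act 3 q38 = q39) (h39 : act 2 q39 = q40) (h40 : act 1 q40 = q41) (h41 : act 0 q41 = q42) (h42 : act 8 q42 = q43) (h43 : act 5 q43 = q44) (h44 : act 4 q44 = q45) (h45 : act 3 q45 = q46) (h46 : act 2 q46 = q47) (h47 : act 1 q47 = q48) (h48 : act 0 q48 = q49) (h49 : act 8 q49 = q50) (h50 : act 5 q50 = q51) (h51 : act 4 q51 = q52) (h52 : act 3 q52 = q53) (h53 : act 2 q53 = q54) (h54 : act 1 q54 = q55) (h55 : act 0 q55 = q56) (h56 : act 8 q56 = q57) (h57 : act 5 q57 = q58) (h58 : act 4 q58 = q59) (h59 : act 3 q59 = q60) (h60 : act 2 q60 = q61) (h61 : act 1 q61 = q62) (h62 : act 0 q62 = p0) : act 0 p6 = q7 := by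
  have hr := R46 p0
  subst h0
  subst h1
  subst h2
  subst h3
  subst h4
  subst h5
  subst h62
  subst h61
  subst h60
  subst h59
  subst h58
  subst h57
  subst h56
  subst h55
  subst h54
  subst h53
  subst h52
  subst h51
  subst h50
  subst h49
  subst h48
  subst h47
  subst h46
  subst h45
  subst h44
  subst h43
  subst h42
  subst h41
  subst h40
  subst h39
  subst h38
  subst h37
  subst h36
  subst h35
  subst h34
  subst h33
  subst h32
  subst h31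
  subst h30
  subst h29
  subst h28
  subst h27
  subst h26
  subst h25
  subst h24
  subst h23
  subst h22
  subst h21
  subst h20
  subst h19
  subst h18
  subst h17
  subst h16
  subst h15
  subst h14
  subst h13
  subst h12
  subst h11
  subst h10
  subst h9
  subst h8
  subst h7
  exact ij (ij (ij (ij (ij (ij (ij (ij (ij (ij (ij (ij (ij (ij (ij (ij (ij (ij (ij (ij (ij (ij (ij (ij (ij (ij (ij (ij (ij (ij (ij (ij (ij (ij (ij (ij (ij (ij (ij (ij (ij (ij (ij (ij (ij (ij (ij (ij (ij (ij (ij (ij (ij (ij (ij (ij (hr))))))))))))))))))))))))))))))))))))))))))))))))))))))))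

theorem d46_7 {p0 p1 p2 p3 p4 p5 p6 p7 q8 q9 q10 q11 q12 q13 q14 q15 q16 q17 q18 q19 q20 q21 q22 q23 q24 q25 q26 q27 q28 q29 q30 q31 q32 q33 q34 q35 q36 q37 q38 q39 q40 q41 q42 q43 q44 q45 q46 q47 q48 q49 q50 q51 q52 q53 q54 q55 q56 q57 q58 q59 q60 q61 q62 : Q} (h0 : act 8 p0 = p1) (h1 : act 5 p1 = p2) (h2 : act 4 p2 = p3) (h3 : act 3 p3 = p4) (h4 : act 2 p4 = p5) (h5 : act 1 p5 = p6) (h6 : act 0 p6 = p7) (h8 : act 5 q8 = q9) (h9 : act 4 q9 = q10) (h10 : act 3 q10 = q11) (h11 : act 2 q11 = q12) (h12 : act 1 q12 = q13) (h13 : act 0 q13 = q14) (h14 : act 8 q14 = q15) (h15 : act 5 q15 = q16) (h16 : act 4 q16 = q17) (h17 : act 3 q17 = q18) (h18 : act 2 q18 = q19) (h19 : act 1 q19 = q20) (h20 : act 0 q20 = q21) (h21 : act 8 q21 = q22) (h22 : act 5 q22 = q23) (h23 : act 4 q23 = q24) (h24 : act 3 q24 = q25) (h25 : act 2 q25 = q26) (h26 : act 1 q26 = q27) (h27 : act 0 q27 = q28) (h28 : act 8 q28 = q29) (h29 : act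 5 q29 = q30) (h30 : act 4 q30 = q31) (h31 : act 3 q31 = q32) (h32 : act 2 q32 = q33) (h33 : act 1 q33 = q34) (h34 : act 0 q34 = q35) (h35 : act 8 q35 = q36) (h36 : act 5 q36 = q37) (h37 : act 4 q37 = q38) (h38 : act 3 q38 = q39) (h39 : act 2 q39 = q40) (h40 : act 1 q40 = q41) (h41 : act 0 q41 = q42) (h42 : act 8 q42 = q43) (h43 : act 5 q43 = q44) (h44 : act 4 q44 = q45) (h45 : act 3 q45 = q46) (h46 : act 2 q46 = q47) (h47 : act 1 q47 = q48) (h48 : act 0 q48 = q49) (h49 : act 8 q49 = q50) (h50 : act 5 q50 = q51) (h51 : act 4 q51 = q52) (h52 : act 3 q52 = q53) (h53 : act 2 q53 = q54) (h54 : act 1 q54 = q55) (h55 : act 0 q55 = q56) (h56 : act 8 q56 = q57) (h57 : act 5 q57 = q58) (h58 : act 4 q58 = q59) (h59 : act 3 q59 = q60) (h60 : act 2 q60 = q61) (h61 : act 1 q61 = q62) (h62 : act 0 q62 = p0) : act 8 p7 = q8 := by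
  have hr := R46 p0
  subst h0
  subst h1
  subst h2
  subst h3
  subst h4
  subst h5
  subst h6
  subst h62
  subst h61
  subst h60
  subst h59
  subst h58
  subst h57
  subst h56
  subst h55
  subst h54
  subst h53
  subst h52
  subst h51
  subst h50
  subst h49
  subst h48
  subst h47
  subst h46
  subst h45
  subst h44
  subst h43
  subst h42
  subst h41
  subst h40
  subst h39
  subst h38
  subst h37
  subst h36
  subst h35
  subst h34
  subst h33
  subst h32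
  subst h31
  subst h30
  subst h29
  subst h28
  subst h27
  subst h26
  subst h25
  subst h24
  subst h23
  subst h22
  subst h21
  subst h20
  subst h19
  subst h18
  subst h17
  subst h16
  subst h15
  subst h14
  subst h13
  subst h12
  subst h11
  subst h10
  subst h9
  subst h8
  exact ij (ij (ij (ij (ij (ij (ij (ij (ij (ij (ij (ij (ij (ij (ij (ij (ij (ij (ij (ij (ij (ij (ij (ij (ij (ij (ij (ij (ij (ij (ij (ij (ij (ij (ij (ij (ij (ij (ij (ij (ij (ij (ij (ij (ij (ij (ij (ij (ij (ij (ij (ij (ij (ij (ij (hr)))))))))))))))))))))))))))))))))))))))))))))))))))))))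

theorem d46_11 {p0 p1 p2 p3 p4 p5 p6 p7 p8 p9 p10 p11 q12 q13 q14 q15 q16 q17 q18 q19 q20 q21 q22 q23 q24 q25 q26 q27 q28 q29 q30 q31 q32 q33 q34 q35 q36 q37 q38 q39 q40 q41 q42 q43 q44 q45 q46 q47 q48 q49 q50 q51 q52 q53 q54 q55 q56 q57 q58 q59 q60 q61 q62 : Q} (h0 : act 8 p0 = p1) (h1 : act 5 p1 = p2) (h2 : act 4 p2 = p3) (h3 : act 3 p3 = p4) (h4 : act 2 p4 = p5) (h5 : act 1 p5 = p6) (h6 : act 0 p6 = p7) (h7 : act 8 p7 = p8) (h8 : act 5 p8 = p9) (h9 : act 4 p9 = p10) (h10 : act 3 p10 = p11) (h12 : act 1 q12 = q13) (h13 : act 0 q13 = q14) (h14 : act 8 q14 = q15) (h15 : act 5 q15 = q16) (h16 : act 4 q16 = q17) (h17 : act 3 q17 = q18) (h18 : act 2 q18 = q19) (h19 : act 1 q19 = q20) (h20 : act 0 q20 = q21) (h21 : act 8 q21 = q22) (h22 : act 5 q22 = q23) (h23 : act 4 q23 = q24) (h24 : act 3 q24 = q25) (h25 : act 2 q25 = q26) (h26 : act 1 q26 = q27) (h27 : act 0 q27 = q28) (h28 : act 8 q28 = q29) (h29 : act 5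 q29 = q30) (h30 : act 4 q30 = q31) (h31 : act 3 q31 = q32) (h32 : act 2 q32 = q33) (h33 : act 1 q33 = q34) (h34 : act 0 q34 = q35) (h35 : act 8 q35 = q36) (h36 : act 5 q36 = q37) (h37 : act 4 q37 = q38) (h38 : act 3 q38 = q39) (h39 : act 2 q39 = q40) (h40 : act 1 q40 = q41) (h41 : act 0 q41 = q42) (h42 : act 8 q42 = q43) (h43 : act 5 q43 = q44) (h44 : act 4 q44 = q45) (h45 : act 3 q45 = q46) (h46 : act 2 q46 = q47) (h47 : act 1 q47 = q48) (h48 : act 0 q48 = q49) (h49 : act 8 q49 = q50) (h50 : act 5 q50 = q51) (h51 : act 4 q51 = q52) (h52 : act 3 q52 = q53) (h53 : act 2 q53 = q54) (h54 : act 1 q54 = q55) (h55 : act 0 q55 = q56) (h56 : act 8 q56 = q57) (h57 : act 5 q57 = q58) (h58 : act 4 q58 = q59) (h59 : act 3 q59 = q60) (h60 : act 2 q60 = q61) (h61 : act 1 q61 = q62) (h62 : act 0 q62 = p0) : act 2 p11 = q12 := by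
  have hr := R46 p0
  subst h0
  subst h1
  subst h2
  subst h3
  subst h4
  subst h5
  subst h6
  subst h7
  subst h8
  subst h9
  subst h10
  subst h62
  subst h61
  subst h60
  subst h59
  subst h58
  subst h57
  subst h56
  subst h55
  subst h54
  subst h53
  subst h52
  subst h51
  subst h50
  subst h49
  subst h48
  subst h47
  subst h46
  subst h45
  subst h44
  subst h43
  subst h42
  subst h41
  subst h40
  subst h39
  subst h38
  subst h37
  subst h36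
  subst h35
  subst h34
  subst h33
  subst h32
  subst h31
  subst h30
  subst h29
  subst h28
  subst h27
  subst h26
  subst h25
  subst h24
  subst h23
  subst h22
  subst h21
  subst h20
  subst h19
  subst h18
  subst h17
  subst h16
  subst h15
  subst h14
  subst h13
  subst h12
  exact ij (ij (ij (ij (ij (ij (ij (ij (ij (ij (ij (ij (ij (ij (ij (ij (ij (ij (ij (ij (ij (ij (ij (ij (ij (ij (ij (ij (ij (ij (ij (ij (ij (ij (ij (ij (ij (ij (ij (ij (ij (ij (ij (ij (ij (ij (ij (ij (ij (ij (ij (hr)))))))))))))))))))))))))))))))))))))))))))))))))))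

theorem d46_14 {p0 p1 p2 p3 p4 p5 p6 p7 p8 p9 p10 p11 p12 p13 p14 q15 q16 q17 q18 q19 q20 q21 q22 q23 q24 q25 q26 q27 q28 q29 q30 q31 q32 q33 q34 q35 q36 q37 q38 q39 q40 q41 q42 q43 q44 q45 q46 q47 q48 q49 q50 q51 q52 q53 q54 q55 q56 q57 q58 q59 q60 q61 q62 : Q} (h0 : act 8 p0 = p1) (h1 : act 5 p1 = p2) (h2 : act 4 p2 = p3) (h3 : act 3 p3 = p4) (h4 : act 2 p4 = p5) (h5 : act 1 p5 = p6) (h6 : act 0 p6 = p7) (h7 : act 8 p7 = p8) (h8 : act 5 p8 = p9) (h9 : act 4 p9 = p10) (h10 : act 3 p10 = p11) (h11 : act 2 p11 = p12) (h12 : act 1 p12 = p13) (h13 : act 0 p13 = p14) (h15 : act 5 q15 = q16) (h16 : act 4 q16 = q17) (h17 : act 3 q17 = q18) (h18 : act 2 q18 = q19) (h19 : act 1 q19 = q20) (h20 : act 0 q20 = q21) (h21 : act 8 q21 = q22) (h22 : act 5 q22 = q23) (h23 : act 4 q23 = q24) (h24 : act 3 q24 = q25) (h25 : act 2 q25 = q26) (h26 : act 1 q26 = q27) (h27 : act 0 q27 = q28) (h28 : act 8 q28 = q29) (h29 : act 5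 q29 = q30) (h30 : act 4 q30 = q31) (h31 : act 3 q31 = q32) (h32 : act 2 q32 = q33) (h33 : act 1 q33 = q34) (h34 : act 0 q34 = q35) (h35 : act 8 q35 = q36) (h36 : act 5 q36 = q37) (h37 : act 4 q37 = q38) (h38 : act 3 q38 = q39) (h39 : act 2 q39 = q40) (h40 : act 1 q40 = q41) (h41 : act 0 q41 = q42) (h42 : act 8 q42 = q43) (h43 : act 5 q43 = q44) (h44 : act 4 q44 = q45) (h45 : act 3 q45 = q46) (h46 : act 2 q46 = q47) (h47 : act 1 q47 = q48) (h48 : act 0 q48 = q49) (h49 : act 8 q49 = q50) (h50 : act 5 q50 = q51) (h51 : act 4 q51 = q52) (h52 : act 3 q52 = q53) (h53 : act 2 q53 = q54) (h54 : act 1 q54 = q55) (h55 : act 0 q55 = q56) (h56 : act 8 q56 = q57) (h57 : act 5 q57 = q58) (h58 : act 4 q58 = q59) (h59 : act 3 q59 = q60) (h60 : act 2 q60 = q61) (h61 : act 1 q61 = q62) (h62 : act 0 q62 = p0) : act 8 p14 = q15 := by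
  have hr := R46 p0
  subst h0
  subst h1
  subst h2
  subst h3
  subst h4
  subst h5
  subst h6
  subst h7
  subst h8
  subst h9
  subst h10
  subst h11
  subst h12
  subst h13
  subst h62
  subst h61
  subst h60
  subst h59
  subst h58
  subst h57
  subst h56
  subst h55
  subst h54
  subst h53
  subst h52
  subst h51
  subst h50
  subst h49
  subst h48
  subst h47
  subst h46
  subst h45
  subst h44
  subst h43
  subst h42
  subst h41
  subst h40
  subst h39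
  subst h38
  subst h37
  subst h36
  subst h35
  subst h34
  subst h33
  subst h32
  subst h31
  subst h30
  subst h29
  subst h28
  subst h27
  subst h26
  subst h25
  subst h24
  subst h23
  subst h22
  subst h21
  subst h20
  subst h19
  subst h18
  subst h17
  subst h16
  subst h15
  exact ij (ij (ij (ij (ij (ij (ij (ij (ij (ij (ij (ij (ij (ij (ij (ij (ij (ij (ij (ij (ij (ij (ij (ij (ij (ij (ij (ij (ij (ij (ij (ij (ij (ij (ij (ij (ij (ij (ij (ij (ij (ij (ij (ij (ij (ij (ij (ij (hr))))))))))))))))))))))))))))))))))))))))))))))))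

theorem d46_20 {p0 p1 p2 p3 p4 p5 p6 p7 p8 p9 p10 p11 p12 p13 p14 p15 p16 p17 p18 p19 p20 q21 q22 q23 q24 q25 q26 q27 q28 q29 q30 q31 q32 q33 q34 q35 q36 q37 q38 q39 q40 q41 q42 q43 q44 q45 q46 q47 q48 q49 q50 q51 q52 q53 q54 q55 q56 q57 q58 q59 q60 q61 q62 : Q} (h0 : act 8 p0 = p1) (h1 : act 5 p1 = p2) (h2 : act 4 p2 = p3) (h3 : act 3 p3 = p4) (h4 : act 2 p4 = p5) (h5 : act 1 p5 = p6) (h6 : act 0 p6 = p7) (h7 : act 8 p7 = p8) (h8 : act 5 p8 = p9) (h9 : act 4 p9 = p10) (h10 : act 3 p10 = p11) (h11 : act 2 p11 = p12) (h12 : act 1 p12 = p13) (h13 : act 0 p13 = p14) (h14 : act 8 p14 = p15) (h15 : act 5 p15 = p16) (h16 : act 4 p16 = p17) (h17 : act 3 p17 = p18) (h18 : act 2 p18 = p19) (h19 : act 1 p19 = p20) (h21 : act 8 q21 = q22) (h22 : act 5 q22 = q23) (h23 : act 4 q23 = q24) (h24 : act 3 q24 = q25) (h25 : act 2 q25 = q26) (h26 : act 1 q26 = q27) (h27 : act 0 q27 = q28) (h28 : act 8 q28 = q29) (h29 : act 5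 q29 = q30) (h30 : act 4 q30 = q31) (h31 : act 3 q31 = q32) (h32 : act 2 q32 = q33) (h33 : act 1 q33 = q34) (h34 : act 0 q34 = q35) (h35 : act 8 q35 = q36) (h36 : act 5 q36 = q37) (h37 : act 4 q37 = q38) (h38 : act 3 q38 = q39) (h39 : act 2 q39 = q40) (h40 : act 1 q40 = q41) (h41 : act 0 q41 = q42) (h42 : act 8 q42 = q43) (h43 : act 5 q43 = q44) (h44 : act 4 q44 = q45) (h45 : act 3 q45 = q46) (h46 : act 2 q46 = q47) (h47 : act 1 q47 = q48) (h48 : act 0 q48 = q49) (h49 : act 8 q49 = q50) (h50 : act 5 q50 = q51) (h51 : act 4 q51 = q52) (h52 : act 3 q52 = q53) (h53 : act 2 q53 = q54) (h54 : act 1 q54 = q55) (h55 : act 0 q55 = q56) (h56 : act 8 q56 = q57) (h57 : act 5 q57 = q58) (h58 : act 4 q58 = q59) (h59 : act 3 q59 = q60) (h60 : act 2 q60 = q61) (h61 : act 1 q61 = q62) (h62 : act 0 q62 = p0) : act 0 p20 = q21 := by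
  have hr := R46 p0
  subst h0
  subst h1
  subst h2
  subst h3
  subst h4
  subst h5
  subst h6
  subst h7
  subst h8
  subst h9
  subst h10
  subst h11
  subst h12
  subst h13
  subst h14
  subst h15
  subst h16
  subst h17
  subst h18
  subst h19
  subst h62
  subst h61
  subst h60
  subst h59
  subst h58
  subst h57
  subst h56
  subst h55
  subst h54
  subst h53
  subst h52
  subst h51
  subst h50
  subst h49
  subst h48
  subst h47
  subst h46
  subst h45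
  subst h44
  subst h43
  subst h42
  subst h41
  subst h40
  subst h39
  subst h38
  subst h37
  subst h36
  subst h35
  subst h34
  subst h33
  subst h32
  subst h31
  subst h30
  subst h29
  subst h28
  subst h27
  subst h26
  subst h25
  subst h24
  subst h23
  subst h22
  subst h21
  exact ij (ij (ij (ij (ij (ij (ij (ij (ij (ij (ij (ij (ij (ij (ij (ij (ij (ij (ij (ij (ij (ij (ij (ij (ij (ij (ij (ij (ij (ij (ij (ij (ij (ij (ij (ij (ij (ij (ij (ij (ij (ij (hr))))))))))))))))))))))))))))))))))))))))))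

theorem d46_44 {p0 p1 p2 p3 p4 p5 p6 p7 p8 p9 p10 p11 p12 p13 p14 p15 p16 p17 p18 p19 p20 p21 p22 p23 p24 p25 p26 p27 p28 p29 p30 p31 p32 p33 p34 p35 p36 p37 p38 p39 p40 p41 p42 p43 p44 q45 q46 q47 q48 q49 q50 q51 q52 q53 q54 q55 q56 q57 q58 q59 q60 q61 q62 : Q} (h0 : act 8 p0 = p1) (h1 : act 5 p1 = p2) (h2 : act 4 p2 = p3) (h3 : act 3 p3 = p4) (h4 : act 2 p4 = p5) (h5 : act 1 p5 = p6) (h6 : act 0 p6 = p7) (h7 : act 8 p7 = p8) (h8 : act 5 p8 = p9) (h9 : act 4 p9 = p10) (h10 : act 3 p10 = p11) (h11 : act 2 p11 = p12) (h12 : act 1 p12 = p13) (h13 : act 0 p13 = p14) (h14 : act 8 p14 = p15) (h15 : act 5 p15 = p16) (h16 : act 4 p16 = p17) (h17 : act 3 p17 = p18) (h18 : act 2 p18 = p19) (h19 : act 1 p19 = p20) (h20 : act 0 p20 = p21) (h21 : act 8 p21 = p22) (h22 : act 5 p22 = p23) (h23 : act 4 p23 = p24) (h24 : act 3 p24 = p25) (h25 : act 2 p25 = p26) (h26 : act 1 p26 = p27) (h27 : act 0 p27 = p28) (h28 : act 8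 p28 = p29) (h29 : act 5 p29 = p30) (h30 : act 4 p30 = p31) (h31 : act 3 p31 = p32) (h32 : act 2 p32 = p33) (h33 : act 1 p33 = p34) (h34 : act 0 p34 = p35) (h35 : act 8 p35 = p36) (h36 : act 5 p36 = p37) (h37 : act 4 p37 = p38) (h38 : act 3 p38 = p39) (h39 : act 2 p39 = p40) (h40 : act 1 p40 = p41) (h41 : act 0 p41 = p42) (h42 : act 8 p42 = p43) (h43 : act 5 p43 = p44) (h45 : act 3 q45 = q46) (h46 : act 2 q46 = q47) (h47 : act 1 q47 = q48) (h48 : act 0 q48 = q49) (h49 : act 8 q49 = q50) (h50 : act 5 q50 = q51) (h51 : act 4 q51 = q52) (h52 : act 3 q52 = q53) (h53 : act 2 q53 = q54) (h54 : act 1 q54 = q55) (h55 : act 0 q55 = q56) (h56 : act 8 q56 = q57) (h57 : act 5 q57 = q58) (h58 : act 4 q58 = q59) (h59 : act 3 q59 = q60) (h60 : act 2 q60 = q61) (h61 : act 1 q61 = q62) (h62 : act 0 q62 = p0) : act 4 p44 = q45 := by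
  have hr := R46 p0
  subst h0
  subst h1
  subst h2
  subst h3
  subst h4
  subst h5
  subst h6
  subst h7
  subst h8
  subst h9
  subst h10
  subst h11
  subst h12
  subst h13
  subst h14
  subst h15
  subst h16
  subst h17
  subst h18
  subst h19
  subst h20
  subst h21
  subst h22
  subst h23
  subst h24
  subst h25
  subst h26
  subst h27
  subst h28
  subst h29
  subst h30
  subst h31
  subst h32
  subst h33
  subst h34
  subst h35
  subst h36
  subst h37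
  subst h38
  subst h39
  subst h40
  subst h41
  subst h42
  subst h43
  subst h62
  subst h61
  subst h60
  subst h59
  subst h58
  subst h57
  subst h56
  subst h55
  subst h54
  subst h53
  subst h52
  subst h51
  subst h50
  subst h49
  subst h48
  subst h47
  subst h46
  subst h45
  exact ij (ij (ij (ij (ij (ij (ij (ij (ij (ij (ij (ij (ij (ij (ij (ij (ij (ij (hr))))))))))))))))))

theorem d46_59 {p0 p1 p2 p3 p4 p5 p6 p7 p8 p9 p10 p11 p12 p13 p14 p15 p16 p17 p18 p19 p20 p21 p22 p23 p24 p25 p26 p27 p28 p29 p30 p31 p32 p33 p34 p35 p36 p37 p38 p39 p40 p41 p42 p43 p44 p45 p46 p47 p48 p49 p50 p51 p52 p53 p54 p55 p56 p57 p58 p59 q60 q61 q62 : Q} (h0 : act 8 p0 = p1) (h1 : act 5 p1 = p2) (h2 : act 4 p2 = p3) (h3 : act 3 p3 = p4) (h4 : act 2 p4 = p5) (h5 : act 1 p5 = p6) (h6 : act 0 p6 = p7) (h7 : act 8 p7 = p8) (h8 : act 5 p8 = p9) (h9 : act 4 p9 = p10) (h10 : act 3 p10 = p11) (h11 : act 2 p11 = p12) (h12 : act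 1 p12 = p13) (h13 : act 0 p13 = p14) (h14 : act 8 p14 = p15) (h15 : act 5 p15 = p16) (h16 : act 4 p16 = p17) (h17 : act 3 p17 = p18) (h18 : act 2 p18 = p19) (h19 : act 1 p19 = p20) (h20 : act 0 p20 = p21) (h21 : act 8 p21 = p22) (h22 : act 5 p22 = p23) (h23 : act 4 p23 = p24) (h24 : act 3 p24 = p25) (h25 : act 2 p25 = p26) (h26 : act 1 p26 = p27) (h27 : act 0 p27 = p28) (h28 : act 8 p28 = p29) (h29 : act 5 p29 = p30) (h30 : act 4 p30 = p31) (h31 : act 3 p31 = p32) (h32 : act 2 p32 = p33) (h33 : act 1 p33 = p34) (h34 : act 0 p34 = p35) (h35 : act 8 p35 = p36) (h36 : act 5 p36 = p37) (h37 : act 4 p37 = p38) (h38 : act 3 p38 = p39) (h39 : act 2 p39 = p40) (h40 : act 1 p40 = p41) (h41 : act 0 p41 = p42) (h42 : act 8 p42 = p43) (h43 : act 5 p43 = p44) (h44 : act 4 p44 = p45) (h45 : act 3 p45 = p46) (h46 : act 2 p46 = p47) (h47 : act 1 p47 = p48) (h48 : act 0 p48 = p49) (h49 : act 8 p49 = p50) (h50 : act 5 p50 =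 p51) (h51 : act 4 p51 = p52) (h52 : act 3 p52 = p53) (h53 : act 2 p53 = p54) (h54 : act 1 p54 = p55) (h55 : act 0 p55 = p56) (h56 : act 8 p56 = p57) (h57 : act 5 p57 = p58) (h58 : act 4 p58 = p59) (h60 : act 2 q60 = q61) (h61 : act 1 q61 = q62) (h62 : act 0 q62 = p0) : act 3 p59 = q60 := by
  have hr := R46 p0
  subst h0
  subst h1
  subst h2
  subst h3
  subst h4
  subst h5
  subst h6
  subst h7
  subst h8
  subst h9
  subst h10
  subst h11
  subst h12
  subst h13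
  subst h14
  subst h15
  subst h16
  subst h17
  subst h18
  subst h19
  subst h20
  subst h21
  subst h22
  subst h23
  subst h24
  subst h25
  subst h26
  subst h27
  subst h28
  subst h29
  subst h30
  subst h31
  subst h32
  subst h33
  subst h34
  subst h35
  subst h36
  subst h37
  subst h38
  subst h39
  subst h40
  subst h41
  subst h42
  subst h43
  subst h44
  subst h45
  subst h46
  subst h47
  subst h48
  subst h49
  subst h50
  subst h51
  subst h52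
  subst h53
  subst h54
  subst h55
  subst h56
  subst h57
  subst h58
  subst h62
  subst h61
  subst h60
  exact ij (ij (ij (hr)))

theorem d46_61 {p0 p1 p2 p3 p4 p5 p6 p7 p8 p9 p10 p11 p12 p13 p14 p15 p16 p17 p18 p19 p20 p21 p22 p23 p24 p25 p26 p27 p28 p29 p30 p31 p32 p33 p34 p35 p36 p37 p38 p39 p40 p41 p42 p43 p44 p45 p46 p47 p48 p49 p50 p51 p52 p53 p54 p55 p56 p57 p58 p59 p60 p61 q62 : Q} (h0 : act 8 p0 = p1) (h1 : act 5 p1 = p2) (h2 : act 4 p2 = p3) (h3 : act 3 p3 = p4) (h4 : act 2 p4 = p5) (h5 : act 1 p5 = p6) (h6 : act 0 p6 = p7) (h7 : act 8 p7 = p8) (h8 : act 5 p8 = p9) (h9 : act 4 p9 = p10) (h10 : act 3 p10 = p11) (h11 : act 2 p11 = p12) (h12 : act 1 p12 = p13) (h13 : act 0 p13 = p14) (h14 : act 8 p14 = p15) (h15 : act 5 p15 = p16) (h16 : act 4 p16 = p17) (h17 : act 3 p17 = p18) (h18 : act 2 p18 = p19) (h19 : act 1 p19 = p20) (h20 : act 0 p20 = p21) (h21 : act 8 p21 = p22) (h22 : act 5 p22 = p23)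 (h23 : act 4 p23 = p24) (h24 : act 3 p24 = p25) (h25 : act 2 p25 = p26) (h26 : act 1 p26 = p27) (h27 : act 0 p27 = p28) (h28 : act 8 p28 = p29) (h29 : act 5 p29 = p30) (h30 : act 4 p30 = p31) (h31 : act 3 p31 = p32) (h32 : act 2 p32 = p33) (h33 : act 1 p33 = p34) (h34 : act 0 p34 = p35) (h35 : act 8 p35 = p36) (h36 : act 5 p36 = p37) (h37 : act 4 p37 = p38) (h38 : act 3 p38 = p39) (h39 : act 2 p39 = p40) (h40 : act 1 p40 = p41) (h41 : act 0 p41 = p42) (h42 : act 8 p42 = p43) (h43 : act 5 p43 = p44) (h44 : act 4 p44 = p45) (h45 : act 3 p45 = p46) (h46 : act 2 p46 = p47) (h47 : act 1 p47 = p48) (h48 : act 0 p48 = p49) (h49 : act 8 p49 = p50) (h50 : act 5 p50 = p51) (h51 : act 4 p51 = p52) (h52 : act 3 p52 = p53) (h53 : act 2 p53 = p54) (h54 : act 1 p54 = p55) (h55 : act 0 p55 = p56) (h56 : act 8 p56 = p57) (h57 : act 5 p57 = p58) (h58 : act 4 p58 = p59) (h59 : act 3 p59 = p60) (h60 : act 2 p60 = p61) (h62 : act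 0 q62 = p0) : act 1 p61 = q62 := by
  have hr := R46 p0
  subst h0
  subst h1
  subst h2
  subst h3
  subst h4
  subst h5
  subst h6
  subst h7
  subst h8
  subst h9
  subst h10
  subst h11
  subst h12
  subst h13
  subst h14
  subst h15
  subst h16
  subst h17
  subst h18
  subst h19
  subst h20
  subst h21
  subst h22
  subst h23
  subst h24
  subst h25
  subst h26
  subst h27
  subst h28
  subst h29
  subst h30
  subst h31
  subst h32
  subst h33
  subst h34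
  subst h35
  subst h36
  subst h37
  subst h38
  subst h39
  subst h40
  subst h41
  subst h42
  subst h43
  subst h44
  subst h45
  subst h46
  subst h47
  subst h48
  subst h49
  subst h50
  subst h51
  subst h52
  subst h53
  subst h54
  subst h55
  subst h56
  subst h57
  subst h58
  subst h59
  subst h60
  subst h62
  exact ij (hr)

theorem d47_0 {p0 : Q} (hr : act 0 p0 = p0) : act 0 p0 = p0 := by
  exact hr

theorem d48_0 {p0 : Q} (hr : act 1 p0 = p0) : act 1 p0 = p0 := by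
  exact hr

theorem d49_0 {p0 : Q} (hr : act 2 p0 = p0) : act 2 p0 = p0 := by
  exact hr

theorem d50_0 {p0 : Q} (hr : act 3 p0 = p0) : act 3 p0 = p0 := by
  exact hr

theorem d51_0 {p0 : Q} (hr : act 4 p0 = p0) : act 4 p0 = p0 := by
  exact hr

theorem d52_0 {p0 : Q} (hr : act 5 p0 = p0) : act 5 p0 = p0 := by
  exact hr

theorem d53_0 {p0 : Q} (hr : act 6 p0 = p0) : act 6 p0 = p0 := by
  exact hr

theorem d54_0 {p0 : Q} (hr : act 8 p0 = p0) : act 8 p0 = p0 := by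
  exact hr

theorem d55_0 {p0 : Q} (hr : act 9 p0 = p0) : act 9 p0 = p0 := by
  exact hr


end Cfsg.Agent.Helper17.Fi23TC
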